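import Mathlib
import Cfsg.Agent.H1.OddCount0
import Cfsg.Agent.Lib.helper3.CliffCorr
import Cfsg.Agent.Lib.helper3.Det
import Cfsg.Agent.Lib.helper3.Lin
import Cfsg.Agent.S0867

/-!
# S4581, Claim C'', pieces (e)+(g), part 1: the canonical extension over an odd factor
-/

set_option autoImplicit false
set_option linter.style.haveILetI false
set_option linter.unusedSectionVars false
set_option linter.unusedVariables false

namespace Cfsg.Agent.Lib.Helper6.OddCnt

open Cfsg Cfsg.Agent.H1.OddCount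
open Cfsg.Agent.Lib.helper3.Irr Cfsg.Agent.Lib.helper3.CharBasic Cfsg.Agent.Lib.helper3.IndFun
open Cfsg.Agent.Lib.helper3.Lin Cfsg.Agent.Lib.helper3.Det
open Module
open scoped Classical ComplexConjugate

universe u

section linear

variable {H : Type u} [Group H] [Finite H]

theorem det_eq_trace_fin_one (f : (Fin 1 → ℂ) →ₗ[ℂ] (Fin 1 → ℂ)) :
    LinearMap.det f = LinearMap.trace ℂ _ f := by
  rw [LinearMap.trace_eq_matrix_trace ℂ (Pi.basisFun ℂ (Fin 1)),
    ← LinearMap.det_toMatrix (Pi.basisFun ℂ (Fin 1)), Matrix.det_fin_one, Matrix.trace_fin_one]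

/-- the determinantal character of a linear character is the character itself -/
theorem detChar_of_linear {lam : H → ℂ} (hlam : IsCharacter H lam) (h1 : lam 1 = 1) :
    detChar lam = lam := by
  obtain ⟨n, ρ, rfl⟩ := hlam
  rw [Representation.char_one] at h1
  have hn : n = 1 := by
    simp only [finrank_fintype_fun_eq_card, Fintype.card_fin] at h1
    exact_mod_cast h1
  subst hn
  funext g
  rw [detChar_character ρ g]
  exact det_eq_trace_fin_one _

/-- a linear character of `2`-power order has `2`-power determinantal order -/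
theorem detOrder_of_pow2 {lam : H → ℂ} (hlam : IsCharacter H lam) (h1 : lam 1 = 1)
    (hp : ∀ h : H, ∃ k : ℕ, lam h ^ 2 ^ k = 1) : ∃ j : ℕ, detOrder lam = 2 ^ j := by
  letI : Fintype H := Fintype.ofFinite H
  choose k hk using hp
  have hK : lam ^ 2 ^ (∑ h : H, k h) = 1 := by
    funext h
    rw [Pi.pow_apply, Pi.one_apply]
    have hle : k h ≤ ∑ h : H, k h := Finset.single_le_sum (f := k) (fun _ _ => Nat.zero_le _)
      (Finset.mem_univ h)
    obtain ⟨c, hc⟩ := Nat.exists_eq_add_of_le hle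
    rw [hc, pow_add, pow_mul, hk h, one_pow]
  unfold detOrder
  rw [detChar_of_linear hlam h1]
  have hdvd : orderOf lam ∣ 2 ^ (∑ h : H, k h) := orderOf_dvd_of_pow_eq_one hK
  obtain ⟨j, -, hj⟩ := (Nat.dvd_prime_pow Nat.prime_two).1 hdvd
  exact ⟨j, hj⟩

/-- a linear character of `2`-power determinantal order has `2`-power order -/
theorem pow2_of_detOrder {lam : H → ℂ} (hlam : IsCharacter H lam) (h1 : lam 1 = 1) (j : ℕ)
    (hj : detOrder lam = 2 ^ j) (h : H) : lam h ^ 2 ^ j = 1 := by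
  unfold detOrder at hj
  rw [detChar_of_linear hlam h1] at hj
  have h2 : lam ^ 2 ^ j = 1 := by rw [← hj]; exact pow_orderOf_eq_one lam
  have := congrFun h2 h
  rwa [Pi.pow_apply, Pi.one_apply] at this

end linear

section ext

variable {G : Type u} [Group G] [Fintype G]

/-- `P ⊓ B ≤ A` when `B/A` has odd prime exponent -/
theorem mem_of_mem_sylow (P : Sylow 2 G) (A B : Subgroup G) (r : ℕ) (hr : r.Prime) (hodd : r ≠ 2)
    (hf : ElemFactor A B r) {x : G} (hxB : x ∈ B) (hxP : x ∈ (P : Subgroup G)) : x ∈ A := by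
  obtain ⟨k, hk⟩ := P.isPGroup' ⟨x, hxP⟩
  have hk' : x ^ 2 ^ k = 1 := by
    have := congrArg Subtype.val hk
    simpa using this
  have hord : orderOf x ∣ 2 ^ k := orderOf_dvd_of_pow_eq_one hk'
  rcases Nat.eq_zero_or_pos k with hk0 | hk0
  · rw [hk0, pow_zero, pow_one] at hk'
    rw [hk']; exact one_mem A
  · have hcop : r.Coprime (2 ^ k) :=
      Nat.Coprime.pow_right k ((Nat.coprime_primes hr Nat.prime_two).2 hodd)
    have h1 : 1 < 2 ^ k := Nat.one_lt_two_pow hk0.ne'
    obtain ⟨m, -, hm⟩ := Nat.exists_mul_mod_eq_one_of_coprime hcop h1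
    have hmod : r * m ≡ 1 [MOD 2 ^ k] := by
      unfold Nat.ModEq
      rw [hm, Nat.mod_eq_of_lt h1]
    have hx : x ^ (r * m) = x ^ 1 := (pow_eq_pow_iff_modEq).2 (hmod.of_dvd hord)
    rw [pow_one, pow_mul] at hx
    rw [← hx]
    exact A.pow_mem (hf.2.2 x hxB) m

/-- the index of `A` in `B` is a power of `r` -/
theorem index_eq_pow (A B : Subgroup G) (hA : A.Normal) (r : ℕ) (hr : r.Prime)
    (hf : ElemFactor A B r) : ∃ n : ℕ, (A.subgroupOf B).index = r ^ n := by
  haveI := hA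
  haveI : Fact r.Prime := ⟨hr⟩
  haveI hn : (A.subgroupOf B).Normal := inferInstance
  have hp : IsPGroup r (↥B ⧸ A.subgroupOf B) := by
    intro y
    obtain ⟨b, rfl⟩ := QuotientGroup.mk_surjective y
    refine ⟨1, ?_⟩
    rw [pow_one, ← QuotientGroup.mk_pow, QuotientGroup.eq_one_iff, Subgroup.mem_subgroupOf]
    exact hf.2.2 b b.2
  obtain ⟨n, hn⟩ := IsPGroup.iff_card.1 hp
  exact ⟨n, by rw [Subgroup.index_eq_card]; exact hn⟩

/-- **the canonical extension** of the `G`-invariant linear character `α` of `2`-power order to `B`,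
`B/A` an elementary abelian `r`-group with `r` odd: it is `G`-invariant, and it is the only
linear extension of `2`-power order. -/
theorem exists_canonical (A B : Subgroup G) (hA : A.Normal) (hB : B.Normal) (α : A → ℂ)
    (hirr : IsIrrCharacter A α) (hlin : α 1 = 1) (hpow : ∀ a : A, ∃ k : ℕ, α a ^ 2 ^ k = 1)
    (hinv : InvUnder ⊤ A α) (r : ℕ) (hr : r.Prime) (hodd : r ≠ 2) (hf : ElemFactor A B r) :
    ∃ αt : B → ℂ, IsIrrCharacter B αt ∧ αt 1 = 1 ∧ Agree B A α αt ∧
      (∀ b : B, ∃ k : ℕ, αt b ^ 2 ^ k = 1) ∧ InvUnder ⊤ B αt ∧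
      ∀ β : B → ℂ, IsIrrCharacter B β → β 1 = 1 → Agree B A α β →
        (∀ b : B, ∃ k : ℕ, β b ^ 2 ^ k = 1) → β = αt := by
  haveI := hA
  haveI := hB
  haveI hNn : (A.subgroupOf B).Normal := inferInstance
  have hAB := hf.1
  have hϑirr : IsIrrCharacter (A.subgroupOf B) (subFun A B α) := isIrrCharacter_subFun hAB hirr
  have hϑc := isCharacter_of_isIrrCharacter hϑirr
  have hϑ1 : subFun A B α 1 = 1 := by
    unfold subFun
    rw [← hlin]
    congr 1
  have hϑpow : ∀ n : A.subgroupOf B, ∃ k : ℕ, subFun A B α n ^ 2 ^ k = 1 := fun n => hpow _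
  have hϑinv : ∀ (g : ↥B) (n : A.subgroupOf B),
      subFun A B α ⟨g * n * g⁻¹, hNn.conj_mem (n : ↥B) n.2 g⟩ = subFun A B α n := by
    intro g n
    exact hinv (g : G) (Subgroup.mem_top _) ⟨((n : ↥B) : G), Subgroup.mem_subgroupOf.mp n.2⟩ _
  obtain ⟨j, hj⟩ := detOrder_of_pow2 hϑc hϑ1 hϑpow
  obtain ⟨m, hidx⟩ := index_eq_pow A B hA r hr hf
  have hr2 : r.Coprime 2 := (Nat.coprime_primes hr Nat.prime_two).2 hodd
  have hcop : Nat.Coprime (A.subgroupOf B).index (detOrder (subFun A B α) * 1) := by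
    rw [hj, hidx, mul_one]
    exact Nat.Coprime.pow m j hr2
  obtain ⟨αt, ⟨hαt, hres, hdet⟩, huniq⟩ := Cfsg.Agent.S0867.result (A.subgroupOf B) (subFun A B α)
    hϑirr hϑinv 1 (by rw [hϑ1]; simp) hcop
  have hαtc := isCharacter_of_isIrrCharacter hαt
  have hαt1 : αt 1 = 1 := by
    have := hres 1
    rw [hϑ1] at this
    exact this
  have hagree : Agree B A α αt := by
    intro a h
    exact hres ⟨⟨a, h⟩, Subgroup.mem_subgroupOf.2 a.2⟩
  have hαtpow : ∀ b : B, ∃ k : ℕ, αt b ^ 2 ^ k = 1 := fun b =>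
    ⟨j, pow2_of_detOrder hαtc hαt1 j (hdet.trans hj) b⟩
  -- uniqueness
  have hU : ∀ β : B → ℂ, IsIrrCharacter B β → β 1 = 1 → Agree B A α β →
      (∀ b : B, ∃ k : ℕ, β b ^ 2 ^ k = 1) → β = αt := by
    intro β hβ hβ1 hβag hβpow
    obtain ⟨j', hj'⟩ := detOrder_of_pow2 (isCharacter_of_isIrrCharacter hβ) hβ1 hβpow
    apply huniq β hβ
    · intro n
      exact hβag ⟨((n : ↥B) : G), Subgroup.mem_subgroupOf.mp n.2⟩ (n : ↥B).2
    · rw [hj', hidx]
      exact Nat.Coprime.pow m j' hr2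
  refine ⟨αt, hαt, hαt1, hagree, hαtpow, ?_, hU⟩
  -- invariance
  intro g _ b h
  have hβ : conjFun B αt g = αt := by
    apply hU _ (isIrrCharacter_conjFun B hαt g)
    · unfold conjFun
      rw [← hαt1]
      congr 1
      apply Subtype.ext
      simp
    · intro a h'
      unfold conjFun
      have h1 := hagree ⟨g * (a : G) * g⁻¹, hA.conj_mem a a.2 g⟩ (hB.conj_mem a h' g)
      have h2 := hinv g (Subgroup.mem_top g) a (hA.conj_mem a a.2 g)
      rw [← h2, ← h1]
    · intro b'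
      exact hαtpow _
  exact congrFun hβ b

end ext

end Cfsg.Agent.Lib.Helper6.OddCnt
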