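import Mathlib
import Cfsg.Agent.H1.OddCount0
import Cfsg.Agent.Lib.helper3.CExt5
import Cfsg.Agent.Lib.helper3.TransferChar
import Cfsg.Agent.Lib.Helper4.OddCntD
import Cfsg.Agent.Lib.Helper5.TISyl2
import Cfsg.Agent.Lib.Helper8.IN7
import Cfsg.Agent.Lib.Helper6.OddCntE1

/-!
# S4581, Claim C'', pieces (e)+(g), part 2: `P`-invariant linear characters of `B/A` are trivial;
the two pieces
-/

set_option autoImplicit false
set_option linter.style.haveILetI false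
set_option linter.unusedSectionVars false
set_option linter.unusedVariables false

namespace Cfsg.Agent.Lib.Helper6.OddCnt

open Cfsg Cfsg.Agent.H1.OddCount
open Cfsg.Agent.Lib.helper3.Irr Cfsg.Agent.Lib.helper3.CharBasic Cfsg.Agent.Lib.helper3.IndFun
open Cfsg.Agent.Lib.helper3.Lin
open Module
open scoped Classical ComplexConjugate Pointwise commutatorElement

universe u

variable {G : Type u} [Group G] [Fintype G]

/-- Frattini-type lemma: if the self-normalizing Sylow `2`-subgroup `P` normalizes `B₀ ≤ B`,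
`[P, B] ≤ B₀` and `P ⊓ B ≤ B₀`, then `B = B₀`. -/
theorem le_of_pinv (P : Sylow 2 G)
    (hself : Subgroup.normalizer ((P : Subgroup G) : Set G) = (P : Subgroup G))
    (B B₀ : Subgroup G) (hB₀B : B₀ ≤ B)
    (hPB : ∀ x ∈ B, x ∈ (P : Subgroup G) → x ∈ B₀)
    (hnorm : ∀ x ∈ (P : Subgroup G), ∀ b ∈ B₀, x * b * x⁻¹ ∈ B₀)
    (hcomm : ∀ x ∈ (P : Subgroup G), ∀ b ∈ B, x * b * x⁻¹ * b⁻¹ ∈ B₀) : B ≤ B₀ := by
  haveI : Fact (Nat.Prime 2) := ⟨Nat.prime_two⟩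
  intro b hb
  have hPN : (P : Subgroup G) ≤ Subgroup.normalizer (B₀ : Set G) := by
    intro x hx
    rw [Subgroup.mem_normalizer_iff]
    intro h
    constructor
    · exact hnorm x hx h
    · intro hh
      have := hnorm x⁻¹ (inv_mem hx) _ hh
      have e : x⁻¹ * (x * h * x⁻¹) * x⁻¹⁻¹ = h := by group
      rwa [e] at this
  have hcoe : (((P : Subgroup G) ⊔ B₀ : Subgroup G) : Set G) =
      ((P : Subgroup G) : Set G) * (B₀ : Set G) :=
    Subgroup.coe_mul_of_left_le_normalizer_right (P : Subgroup G) B₀ hPN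
  have ha : ∀ x ∈ (P : Subgroup G),
      x • ((1 : G) : G ⧸ ((P : Subgroup G) ⊔ B₀)) = ((1 : G) : G ⧸ ((P : Subgroup G) ⊔ B₀)) := by
    intro x hx
    rw [MulAction.Quotient.smul_coe, QuotientGroup.eq]
    simp only [smul_eq_mul, mul_one]
    exact inv_mem (Subgroup.mem_sup_left hx)
  have hga : ∀ x ∈ (P : Subgroup G),
      x • (b • ((1 : G) : G ⧸ ((P : Subgroup G) ⊔ B₀))) =
        b • ((1 : G) : G ⧸ ((P : Subgroup G) ⊔ B₀)) := by
    intro x hx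
    rw [MulAction.Quotient.smul_coe, MulAction.Quotient.smul_coe, QuotientGroup.eq]
    simp only [smul_eq_mul, mul_one]
    -- `(x b)⁻¹ * b = b⁻¹ x⁻¹ b`
    have h1 : x⁻¹ * b⁻¹ * x⁻¹⁻¹ * b⁻¹⁻¹ ∈ B₀ := hcomm x⁻¹ (inv_mem hx) b⁻¹ (inv_mem hb)
    have h2 : (x * b)⁻¹ * b = (x⁻¹ * b⁻¹ * x⁻¹⁻¹ * b⁻¹⁻¹)⁻¹ * x⁻¹ := by group
    rw [h2]
    exact Subgroup.mul_mem _ (Subgroup.mem_sup_right (inv_mem h1))
      (Subgroup.mem_sup_left (inv_mem hx))
  obtain ⟨n, hn, hnb⟩ := Cfsg.Agent.Lib.Helper8.IN.exists_normalizer_smul_eq P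
    ((1 : G) : G ⧸ ((P : Subgroup G) ⊔ B₀)) b ha hga
  rw [hself] at hn
  rw [MulAction.Quotient.smul_coe, MulAction.Quotient.smul_coe, QuotientGroup.eq] at hnb
  simp only [smul_eq_mul, mul_one] at hnb
  have h2 : b ∈ (P : Subgroup G) ⊔ B₀ := by
    have := Subgroup.mul_mem _ (Subgroup.mem_sup_left hn : n ∈ (P : Subgroup G) ⊔ B₀) hnb
    rwa [mul_inv_cancel_left] at this
  have h3 : b ∈ (((P : Subgroup G) ⊔ B₀ : Subgroup G) : Set G) := h2
  rw [hcoe] at h3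
  obtain ⟨x, hx, b₀, hb₀, rfl⟩ := Set.mem_mul.1 h3
  have hxB : x ∈ B := by
    have := B.mul_mem hb (B.inv_mem (hB₀B hb₀))
    rwa [mul_inv_cancel_right] at this
  exact B₀.mul_mem (hPB x hxB hx) hb₀

/-- the canonical extension is `Good` -/
theorem good_of_canonical (P : Sylow 2 G) (A B : Subgroup G) (α : A → ℂ) (αt : B → ℂ)
    (h1 : IsIrrCharacter B αt) (h2 : αt 1 = 1) (h3 : Agree B A α αt)
    (h4 : ∀ b : B, ∃ k : ℕ, αt b ^ 2 ^ k = 1) (h5 : InvUnder ⊤ B αt) : Good P A B α αt :=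
  ⟨h1, h2, h3, fun g _ b h => h5 g (Subgroup.mem_top g) b h, h4⟩

/-- **Piece (g)**: R-odd. -/
theorem existsUnique_good_agree_odd (P : Sylow 2 G) (A : Subgroup G) (α : A → ℂ)
    (h : Datum P A α) (hinv : InvUnder ⊤ A α) (B : Subgroup G) (hB : B.Normal) (r : ℕ)
    (hr : r.Prime) (hf : ElemFactor A B r) (hodd : r ≠ 2) (ν : IrrCharacter ↥(P : Subgroup G))
    (hν : (ν : ↥(P : Subgroup G) → ℂ) 1 = 1)
    (hag : Agree (P : Subgroup G) A α (ν : ↥(P : Subgroup G) → ℂ)) :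
    ∃! β : B → ℂ, Good P A B α β ∧ Agree (P : Subgroup G) B β (ν : ↥(P : Subgroup G) → ℂ) := by
  obtain ⟨αt, h1, h2, h3, h4, h5, hU⟩ :=
    exists_canonical A B h.normal hB α h.irr h.lin h.pow2 hinv r hr hodd hf
  refine ⟨αt, ⟨good_of_canonical P A B α αt h1 h2 h3 h4 h5, ?_⟩, ?_⟩
  · intro b hbP
    have hbA : (b : G) ∈ A := mem_of_mem_sylow P A B r hr hodd hf b.2 hbP
    have e1 := hag ⟨(b : G), hbA⟩ hbP
    have e2 := h3 ⟨(b : G), hbA⟩ b.2
    rw [e1]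
    exact e2.symm
  · rintro β ⟨hg, -⟩
    exact hU β hg.1 hg.2.1 hg.2.2.1 hg.2.2.2.2

/-- a `P`-invariant irreducible character of `B` over `α` is the canonical extension -/
theorem eq_canonical_of_pinv (P : Sylow 2 G) (A : Subgroup G) (α : A → ℂ)
    (h : Datum P A α) (hinv : InvUnder ⊤ A α) (B : Subgroup G) (hB : B.Normal) (r : ℕ)
    (hr : r.Prime) (hf : ElemFactor A B r) (hodd : r ≠ 2) (αt : B → ℂ)
    (h1 : IsIrrCharacter B αt) (h2 : αt 1 = 1) (h3 : Agree B A α αt)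
    (h4 : ∀ b : B, ∃ k : ℕ, αt b ^ 2 ^ k = 1) (h5 : InvUnder ⊤ B αt)
    (β₀ : B → ℂ) (hβ₀ : IsIrrCharacter B β₀) (hβ₀inv : InvUnder (P : Subgroup G) B β₀)
    (hβ₀α : classInner (fun a : A => β₀ ⟨a, hf.1 a.2⟩) α ≠ 0) : β₀ = αt := by
  haveI := h.normal
  haveI := hB
  haveI hNn : (A.subgroupOf B).Normal := inferInstance
  have hAB := hf.1
  have hαtc := isCharacter_of_isIrrCharacter h1
  -- restriction of `αt` to `A.subgroupOf B`
  have hres : (fun n : A.subgroupOf B => αt n) = subFun A B α := by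
    funext n
    exact h3 ⟨((n : ↥B) : G), Subgroup.mem_subgroupOf.mp n.2⟩ (n : ↥B).2
  have hϑirr : IsIrrCharacter (A.subgroupOf B) (subFun A B α) := isIrrCharacter_subFun hAB h.irr
  have hηK : IsIrrCharacter (A.subgroupOf B) (fun n : A.subgroupOf B => αt n) := by
    rw [hres]; exact hϑirr
  have hover' : classInner (fun n : A.subgroupOf B => αt n) (fun n : A.subgroupOf B => β₀ n) ≠ 0 := by
    rw [hres]
    have e : (fun n : A.subgroupOf B => β₀ n) = subFun A B (fun a : A => β₀ ⟨a, hAB a.2⟩) := rfl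
    rw [e, classInner_subFun hAB, ← classInner_conj_symm]
    intro h0
    apply hβ₀α
    have := congrArg (starRingEnd ℂ) h0
    simpa using this
  obtain ⟨μ, hμ, hμK, hβμ⟩ := Cfsg.Agent.Lib.helper3.CExt.exists_mul_of_over_extension
    (A.subgroupOf B) αt β₀ h1 hβ₀ hηK hover'
  have hμc := isCharacter_of_isIrrCharacter hμ
  -- `μ` is linear
  have hμ1 : μ 1 = 1 := by
    apply Cfsg.Agent.Lib.Helper5.TISyl.apply_one_eq_one_of_commutator hμ
    intro a b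
    have hmem : ⁅a, b⁆ ∈ A.subgroupOf B := by
      rw [Subgroup.mem_subgroupOf, commutatorElement_def]
      exact hf.2.1 a a.2 b b.2
    exact hμK ⟨⁅a, b⁆, hmem⟩
  have hμA : ∀ b : ↥B, (b : G) ∈ A → μ b = 1 := by
    intro b hb
    have := hμK ⟨b, Subgroup.mem_subgroupOf.2 hb⟩
    rw [hμ1] at this
    exact this
  have hμmul : ∀ a b : ↥B, μ (a * b) = μ a * μ b := map_mul_of_apply_one_eq_one hμc hμ1
  have hαtne : ∀ b : ↥B, αt b ≠ 0 := by
    intro b h0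
    obtain ⟨k, hk⟩ := h4 b
    rw [h0, zero_pow (pow_ne_zero k two_ne_zero)] at hk
    exact zero_ne_one hk
  have hβ₀eq : ∀ b : ↥B, β₀ b = μ b * αt b := fun b => congrFun hβμ b
  -- `μ` is `P`-invariant
  have hμinv : ∀ x ∈ (P : Subgroup G), ∀ b : ↥B,
      μ ⟨x * (b : G) * x⁻¹, hB.conj_mem b b.2 x⟩ = μ b := by
    intro x hx b
    have e1 := hβ₀inv x hx b (hB.conj_mem b b.2 x)
    have e2 := h5 x (Subgroup.mem_top x) b (hB.conj_mem b b.2 x)
    rw [hβ₀eq, hβ₀eq, e2] at e1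
    exact mul_right_cancel₀ (hαtne b) e1
  -- the kernel of `μ`
  set B₀ : Subgroup G := (MonoidHom.ker (toHom hμc hμ1)).map B.subtype with hB₀
  have hmemB₀ : ∀ g : G, g ∈ B₀ ↔ ∃ hg : g ∈ B, μ ⟨g, hg⟩ = 1 := by
    intro g
    constructor
    · rintro ⟨b, hb, rfl⟩
      exact ⟨b.2, hb⟩
    · rintro ⟨hg, hg1⟩
      exact ⟨⟨g, hg⟩, hg1, rfl⟩
  have hle : B ≤ B₀ := by
    apply le_of_pinv P h.selfNorm B B₀ (Subgroup.map_subtype_le _)
    · intro x hxB hxP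
      rw [hmemB₀]
      exact ⟨hxB, hμA ⟨x, hxB⟩ (mem_of_mem_sylow P A B r hr hodd hf hxB hxP)⟩
    · intro x hx b hb
      rw [hmemB₀] at hb ⊢
      obtain ⟨hbB, hb1⟩ := hb
      refine ⟨hB.conj_mem b hbB x, ?_⟩
      rw [hμinv x hx ⟨b, hbB⟩]
      exact hb1
    · intro x hx b hb
      rw [hmemB₀]
      refine ⟨B.mul_mem (hB.conj_mem b hb x) (B.inv_mem hb), ?_⟩
      have e : (⟨x * b * x⁻¹ * b⁻¹, B.mul_mem (hB.conj_mem b hb x) (B.inv_mem hb)⟩ : ↥B) =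
          ⟨x * b * x⁻¹, hB.conj_mem b hb x⟩ * (⟨b, hb⟩ : ↥B)⁻¹ := rfl
      rw [e, hμmul, hμinv x hx ⟨b, hb⟩, ← hμmul, mul_inv_cancel, hμ1]
  funext b
  obtain ⟨hb, hb1⟩ := (hmemB₀ (b : G)).1 (hle b.2)
  rw [hβ₀eq, hb1, one_mul]

/-- **Piece (e)**: L-odd. -/
theorem existsUnique_good_over_odd (P : Sylow 2 G) (A : Subgroup G) (α : A → ℂ)
    (h : Datum P A α) (hinv : InvUnder ⊤ A α) (B : Subgroup G) (hB : B.Normal) (r : ℕ)
    (hr : r.Prime) (hf : ElemFactor A B r) (hodd : r ≠ 2) (χ : IrrCharacter G)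
    (hχ : Odd (charDegree (χ : G → ℂ))) (hover : Over A α (χ : G → ℂ)) :
    ∃! β : B → ℂ, Good P A B α β ∧ Over B β (χ : G → ℂ) := by
  obtain ⟨αt, h1, h2, h3, h4, h5, hU⟩ :=
    exists_canonical A B h.normal hB α h.irr h.lin h.pow2 hinv r hr hodd hf
  obtain ⟨β₀, hβ₀irr, hβ₀over, hβ₀inv, hβ₀α⟩ :=
    Cfsg.Agent.Lib.Helper4.OddCnt.exists_pinv_constituent_over P A α h.normal hinv B hB hf.1 χ hχ
      hover
  have heq : β₀ = αt := eq_canonical_of_pinv P A α h hinv B hB r hr hf hodd αt h1 h2 h3 h4 h5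
    β₀ hβ₀irr hβ₀inv hβ₀α
  refine ⟨αt, ⟨good_of_canonical P A B α αt h1 h2 h3 h4 h5, heq ▸ hβ₀over⟩, ?_⟩
  rintro β ⟨hg, -⟩
  exact hU β hg.1 hg.2.1 hg.2.2.1 hg.2.2.2.2

end Cfsg.Agent.Lib.Helper6.OddCnt
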