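import Mathlib
import Cfsg.Prelude.Def_Characters
import Cfsg.Agent.Lib.helper3.IndFun
import Cfsg.Agent.Lib.helper3.Cyclo

/-!
# S4472, pieces P3b and P4a: induction and power maps; integrality of power-invariant values
-/

set_option autoImplicit false
set_option linter.style.haveILetI false
set_option linter.unusedSectionVars false

namespace Cfsg.Agent.Lib.Helper6.PowInv

open Cfsg
open Cfsg.Agent.Lib.helper3.IndFun
open Cfsg.Agent.Lib.helper3.Cyclo

universe u

theorem conj_pow' {X : Type*} [Group X] (g x : X) (j : ℕ) :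
    g⁻¹ * x ^ j * g = (g⁻¹ * x * g) ^ j := by
  induction j with
  | zero => simp
  | succ n ih =>
    rw [pow_succ, pow_succ, ← ih]
    group

/-- if `j` is prime to `|X|` then `y ∈ T ↔ y ^ j ∈ T` -/
theorem mem_of_pow_mem {X : Type*} [Group X] [Finite X] (T : Subgroup X) (j : ℕ)
    (hj : j.Coprime (Nat.card X)) {y : X} (h : y ^ j ∈ T) : y ∈ T := by
  have h1 := (powCoprime hj.symm).left_inv y
  simp only [powCoprime] at h1
  rw [← h1]
  exact T.zpow_mem h _

theorem extendByZero_pow {X : Type*} [Group X] [Finite X] (T : Subgroup X) (η : T → ℂ) (j : ℕ)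
    (hj : j.Coprime (Nat.card X)) (hη : ∀ t : T, η (t ^ j) = η t) (y : X) :
    extendByZero T η (y ^ j) = extendByZero T η y := by
  by_cases hy : y ∈ T
  · rw [extendByZero_mem T η (T.pow_mem hy j), extendByZero_mem T η hy]
    exact hη ⟨y, hy⟩
  · have hy' : y ^ j ∉ T := fun h => hy (mem_of_pow_mem T j hj h)
    rw [extendByZero_not_mem T η hy, extendByZero_not_mem T η hy']

/-- **S4472 P3b (1)**: induction commutes with power maps prime to the group order. -/
theorem indFun_pow {X : Type u} [Group X] [Fintype X] (T : Subgroup X) (η : T → ℂ) (j : ℕ)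
    (hj : j.Coprime (Nat.card X)) (hη : ∀ t : T, η (t ^ j) = η t) (x : X) :
    indFun T η (x ^ j) = indFun T η x := by
  unfold indFun
  congr 1
  apply Finset.sum_congr rfl
  intro g _
  rw [conj_pow']
  exact extendByZero_pow T η j hj hη _

/-- **S4472 P3b (2)**: the restriction to a normal subgroup `K ≤ T` of an induced function depends
only on the restriction to `K`. -/
theorem indFun_restrict_normal {X : Type u} [Group X] [Fintype X] (K T : Subgroup X) [hK : K.Normal]
    (hKT : K ≤ T) (η η' : T → ℂ) (h : ∀ k : K, η ⟨k, hKT k.2⟩ = η' ⟨k, hKT k.2⟩) (k : K) :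
    indFun T η k = indFun T η' k := by
  unfold indFun
  congr 1
  apply Finset.sum_congr rfl
  intro g _
  have hmem : g⁻¹ * (k : X) * g ∈ K := by
    have := hK.conj_mem (k : X) k.2 g⁻¹
    rwa [inv_inv] at this
  rw [extendByZero_mem T η (hKT hmem), extendByZero_mem T η' (hKT hmem)]
  exact h ⟨_, hmem⟩

/-- **S4472 P4a**: a character value fixed by all power maps prime to the group order is a
rational integer. -/
theorem exists_int_of_pow_invariant {P : Type u} [Group P] [Finite P] (θ : P → ℂ)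
    (hθ : IsCharacter P θ) (x : P) (h : ∀ j : ℕ, j.Coprime (Nat.card P) → θ (x ^ j) = θ x) :
    ∃ z : ℤ, θ x = z := by
  obtain ⟨n, ρ, rfl⟩ := hθ
  obtain ⟨N, hNdef⟩ : ∃ N : ℕ, N = Nat.card P := ⟨_, rfl⟩
  have hNpos : 0 < N := by rw [hNdef]; exact Nat.card_pos
  haveI : NeZero N := ⟨hNpos.ne'⟩
  have hN : ∀ g : P, g ^ N = 1 := by
    intro g
    rw [hNdef]; exact pow_card_eq_one'
  obtain ⟨ax, hint, hemb, hgal⟩ := exists_cyclo_lift N hN ρ x
  have hfix : ∀ σ : CyclotomicField N ℚ ≃ₐ[ℚ] CyclotomicField N ℚ, σ ax = ax := by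
    intro σ
    obtain ⟨t, ht, hσt⟩ := aut_zeta N σ
    apply emb_injective N
    rw [hgal σ t hσt, hemb]
    apply h
    rw [← hNdef]; exact ht
  obtain ⟨q, hq⟩ := exists_rat_of_fixed N ax hfix
  rw [hq] at hint
  have hq' : IsIntegral ℤ q :=
    (isIntegral_algebraMap_iff (algebraMap ℚ (CyclotomicField N ℚ)).injective).1 hint
  obtain ⟨z, hz⟩ := IsIntegrallyClosed.isIntegral_iff.mp hq'
  refine ⟨z, ?_⟩
  rw [← hemb, hq, ← hz]
  simp

end Cfsg.Agent.Lib.Helper6.PowInv
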