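import Mathlib
import Cfsg.Prelude.Def_Local
import Cfsg.Agent.H1.Cores
import Cfsg.Agent.Lib.Helper7.CharP
import Cfsg.Agent.Lib.Lead.PSolvable

/-!
# Dual Hall–Higman lemma

In a finite `p`-solvable group with `O_p(G) = 1`, `C_G(O_{p'}(G)) ≤ O_{p'}(G)`
(piece P1 of helper1's S4472 split).
-/

set_option autoImplicit false
set_option linter.style.haveILetI false
set_option linter.unusedSectionVars false

namespace Cfsg.Agent.Lib.Helper6.PSolvDual

open Cfsg
open Cfsg.Agent.Lib.Lead.PSolvable

universe u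

/-- a normal subgroup `D` with a central `p'`-subgroup `D₀` of `p`-power index, in a group with
`O_p(G) = 1`, equals `D₀` -/
theorem eq_of_central_pPrime {G : Type u} [Group G] [Finite G] {p : ℕ} [hp : Fact p.Prime]
    (hbot : pCore p G = ⊥)
    {D D₀ : Subgroup G} [hD : D.Normal] (hle : D₀ ≤ D) (hD₀ : (Nat.card ↥D₀).Coprime p)
    (hidx : ∃ m : ℕ, D₀.relIndex D = p ^ m) (hcen : ∀ x ∈ D₀, ∀ d ∈ D, d * x = x * d) :
    D ≤ D₀ := by
  obtain ⟨m, hm⟩ := hidx
  have hp' := hp.out
  -- `O_p(D) = 1`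
  have hO : pCore p ↥D = ⊥ := by
    have := Cfsg.Agent.Lib.Helper7.pCore_map_subtype_le_of_normal (p := p) D
    rw [hbot, le_bot_iff] at this
    exact (Subgroup.map_eq_bot_iff_of_injective _ D.subtype_injective).1 this
  -- cardinalities
  have hcardD : Nat.card ↥D₀ * p ^ m = Nat.card ↥D := by
    have := Subgroup.relIndex_mul_relIndex ⊥ D₀ D bot_le hle
    rwa [Subgroup.relIndex_bot_left, Subgroup.relIndex_bot_left, hm] at this
  have hndvd : ¬ p ∣ Nat.card ↥D₀ := (Nat.Prime.coprime_iff_not_dvd hp').1 hD₀.symm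
  have hfac : (Nat.card ↥D).factorization p = m := by
    rw [← hcardD, Nat.factorization_mul Nat.card_pos.ne' (pow_ne_zero m hp'.ne_zero),
      Finsupp.add_apply, hp'.factorization_pow, Finsupp.single_eq_same,
      Nat.factorization_eq_zero_of_not_dvd hndvd, zero_add]
  obtain ⟨S⟩ : Nonempty (Sylow p ↥D) := inferInstance
  have hScard : Nat.card ↥(S : Subgroup ↥D) = p ^ m := by
    rw [S.card_eq_multiplicity, hfac]
  -- `S` is normal in `D`
  have hD₀N : D₀.subgroupOf D ≤ Subgroup.normalizer ((S : Subgroup ↥D) : Set ↥D) := by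
    intro x hx
    rw [Subgroup.mem_subgroupOf] at hx
    have hxc : ∀ d : ↥D, d * x = x * d := by
      intro d
      apply Subtype.ext
      rw [Subgroup.coe_mul, Subgroup.coe_mul]
      exact hcen x.1 hx d.1 d.2
    rw [Subgroup.mem_normalizer_iff]
    intro h
    have e : x * h * x⁻¹ = h := by
      rw [← hxc h, mul_assoc, mul_inv_cancel, mul_one]
    rw [e]
  have hSN : (S : Subgroup ↥D) ≤ Subgroup.normalizer ((S : Subgroup ↥D) : Set ↥D) :=
    Subgroup.le_normalizer
  have hNtop : Subgroup.normalizer ((S : Subgroup ↥D) : Set ↥D) = ⊤ := by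
    apply (Subgroup.card_eq_iff_eq_top _).1
    apply Nat.dvd_antisymm (Subgroup.card_subgroup_dvd_card _)
    have h1 : Nat.card ↥D₀ ∣ Nat.card ↥(Subgroup.normalizer ((S : Subgroup ↥D) : Set ↥D)) := by
      have : Nat.card ↥(D₀.subgroupOf D) = Nat.card ↥D₀ := by
        have e := (Subgroup.subgroupOfEquivOfLe hle)
        exact Nat.card_congr e.toEquiv
      rw [← this]
      exact Subgroup.card_dvd_of_le hD₀N
    have h2 : p ^ m ∣ Nat.card ↥(Subgroup.normalizer ((S : Subgroup ↥D) : Set ↥D)) := by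
      rw [← hScard]
      exact Subgroup.card_dvd_of_le hSN
    rw [← hcardD]
    exact Nat.Coprime.mul_dvd_of_dvd_of_dvd (Nat.Coprime.pow_right m hD₀) h1 h2
  have hSn : (S : Subgroup ↥D).Normal := Subgroup.normalizer_eq_top_iff.1 hNtop
  have hSle : (S : Subgroup ↥D) ≤ pCore p ↥D := Cfsg.Agent.H1.le_pCore hSn S.isPGroup'
  rw [hO, le_bot_iff] at hSle
  have hm1 : p ^ m = 1 := by
    rw [← hScard, hSle, Subgroup.card_bot]
  rw [hm1, mul_one] at hcardD
  exact (Subgroup.eq_of_le_of_card_ge hle hcardD.symm.le).symm.le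

/-- **dual Hall–Higman**: in a `p`-solvable group with `O_p(G) = 1`, `C_G(O_{p'}(G)) ≤ O_{p'}(G)`. -/
theorem centralizer_pPrimeCore_le {G : Type u} [Group G] [Finite G] (p : ℕ) [Fact p.Prime]
    (hsol : IsPSolvable p G) (hbot : pCore p G = ⊥) :
    Subgroup.centralizer ((pPrimeCore p G : Subgroup G) : Set G) ≤ pPrimeCore p G := by
  have hp : Fact p.Prime := inferInstance
  obtain ⟨n, H, h0, hlast, hmono, hnorm, hfac⟩ := hsol
  haveI hPn : (pPrimeCore p G).Normal := Cfsg.Agent.H1.pPrimeCore_normal p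
  haveI hCn : (Subgroup.centralizer ((pPrimeCore p G : Subgroup G) : Set G)).Normal :=
    Subgroup.normal_centralizer
  have hPc : (Nat.card ↥(pPrimeCore p G)).Coprime p := Cfsg.Agent.H1.pPrimeCore_coprime p
  have key : ∀ i : Fin (n + 1),
      Subgroup.centralizer ((pPrimeCore p G : Subgroup G) : Set G) ⊓ H i ≤ pPrimeCore p G := by
    intro i
    induction i using Fin.induction with
    | zero => rw [h0, inf_bot_eq]; exact bot_le
    | succ i ih =>
      haveI := hnorm i.succ
      haveI := hnorm i.castSucc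
      have hHle : H i.castSucc ≤ H i.succ := hmono (Fin.castSucc_lt_succ (i := i)).le
      set C := Subgroup.centralizer ((pPrimeCore p G : Subgroup G) : Set G) with hC
      haveI hDn : (C ⊓ H i.succ).Normal := Subgroup.normal_inf_normal C (H i.succ)
      have hD₀D : C ⊓ H i.castSucc ≤ C ⊓ H i.succ := inf_le_inf_left C hHle
      have hD₀eq : C ⊓ H i.castSucc = H i.castSucc ⊓ (C ⊓ H i.succ) := by
        apply le_antisymm
        · exact le_inf inf_le_right hD₀D
        · exact le_inf (inf_le_right.trans inf_le_left) inf_le_left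
      have hrel : (C ⊓ H i.castSucc).relIndex (C ⊓ H i.succ) ∣ (H i.castSucc).relIndex (H i.succ) := by
        rw [hD₀eq, Subgroup.inf_relIndex_right]
        exact relIndex_dvd_relIndex_of_le hHle inf_le_right
      have hD₀c : (Nat.card ↥(C ⊓ H i.castSucc)).Coprime p :=
        Nat.Coprime.coprime_dvd_left (Subgroup.card_dvd_of_le ih) hPc
      have hcardD : Nat.card ↥(C ⊓ H i.castSucc) * (C ⊓ H i.castSucc).relIndex (C ⊓ H i.succ) =
          Nat.card ↥(C ⊓ H i.succ) := by
        have := Subgroup.relIndex_mul_relIndex ⊥ (C ⊓ H i.castSucc) (C ⊓ H i.succ) bot_le hD₀D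
        rwa [Subgroup.relIndex_bot_left, Subgroup.relIndex_bot_left] at this
      rcases PP.of_dvd hp.out hrel (hfac i) with ⟨m, hm⟩ | hcop
      · have := eq_of_central_pPrime hbot hD₀D hD₀c ⟨m, hm⟩ (fun x hx d hd => by
          have hxP : x ∈ pPrimeCore p G := ih hx
          have hdC : d ∈ C := (Subgroup.mem_inf.1 hd).1
          exact (Subgroup.mem_centralizer_iff.1 hdC x hxP).symm)
        exact this.trans ih
      · apply Cfsg.Agent.H1.le_pPrimeCore hDn
        rw [← hcardD]
        exact Nat.Coprime.mul_left hD₀c hcop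
  have := key (Fin.last n)
  rwa [hlast, inf_top_eq] at this

end Cfsg.Agent.Lib.Helper6.PSolvDual
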