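import Mathlib
import Cfsg.Prelude.Def_Local
import Cfsg.Agent.H1.Cores
import Cfsg.Agent.H1.SZConj
import Cfsg.Agent.H2.PPrimeCore
import Cfsg.Agent.Lib.Lead.PSolvable

/-!
# A `p'`-subgroup `K` and a `p`-subgroup `Q` normalizing it, with `|Q : C_Q(K)| ≥ |G : O_p(G)|_p`

Piece P2 of helper1's S4472 split (Frattini reduction).
-/

set_option autoImplicit false
set_option linter.style.haveILetI false
set_option linter.unusedSectionVars false

namespace Cfsg.Agent.Lib.Helper6.PSolvPair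

open Cfsg
open scoped Pointwise

universe u

theorem mem_conj_smul_iff' {X : Type*} [Group X] (g x : X) (H : Subgroup X) :
    x ∈ MulAut.conj g • H ↔ g⁻¹ * x * g ∈ H := by
  rw [Subgroup.mem_pointwise_smul_iff_inv_smul_mem, MulAut.smul_def, MulAut.conj_inv_apply]

/-- Schur–Zassenhaus + Frattini: `R ≤ L` normal in `G`, `R` a solvable normal Hall subgroup of `L`;
then `R` has a complement `K` in `L` with `G = R N_G(K)`. -/
theorem exists_complement_frattini {G : Type u} [Group G] [Finite G] (R L : Subgroup G)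
    [hR : R.Normal] [hL : L.Normal] (hRL : R ≤ L) (hsolv : Group.IsSolvable ↥R)
    (hcop : (Nat.card ↥R).Coprime (R.relIndex L)) :
    ∃ K : Subgroup G, K ≤ L ∧ Nat.card ↥R * Nat.card ↥K = Nat.card ↥L ∧
      (∀ l ∈ L, ∃ r ∈ R, ∃ k ∈ K, l = r * k) ∧
      ∀ g : G, ∃ r ∈ R, ∃ n ∈ Subgroup.normalizer (K : Set G), g = r * n := by
  haveI hNn : (R.subgroupOf L).Normal := hR.subgroupOf L
  have hNcard : Nat.card ↥(R.subgroupOf L) = Nat.card ↥R :=
    Nat.card_congr (Subgroup.subgroupOfEquivOfLe hRL).toEquiv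
  have hNcop : (Nat.card ↥(R.subgroupOf L)).Coprime (R.subgroupOf L).index := by
    rw [hNcard]; exact hcop
  obtain ⟨K₀, hK₀⟩ := Subgroup.exists_right_complement'_of_coprime hNcop
  have hK₀card : Nat.card ↥(R.subgroupOf L) * Nat.card ↥K₀ = Nat.card ↥L := hK₀.card_mul_card
  have hK₀idx : Nat.card ↥K₀ = R.relIndex L := by
    have h1 := (R.subgroupOf L).card_mul_index
    have h2 : Nat.card ↥(R.subgroupOf L) * Nat.card ↥K₀ =
        Nat.card ↥(R.subgroupOf L) * (R.subgroupOf L).index := by rw [hK₀card, h1]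
    exact Nat.eq_of_mul_eq_mul_left Nat.card_pos h2
  have hNsolv : Group.IsSolvable ↥(R.subgroupOf L) :=
    haveI := hsolv
    Group.isSolvable_of_isSolvable_injective (f := (Subgroup.subgroupOfEquivOfLe hRL).toMonoidHom)
      (Subgroup.subgroupOfEquivOfLe hRL).injective
  have hcopK₀ : (Nat.card ↥(R.subgroupOf L)).Coprime (Nat.card ↥K₀) := by
    rw [hNcard, hK₀idx]; exact hcop
  refine ⟨K₀.map L.subtype, Subgroup.map_subtype_le K₀, ?_, ?_, ?_⟩
  · rw [Subgroup.card_map_of_injective L.subtype_injective, ← hNcard]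
    exact hK₀card
  · intro l hl
    obtain ⟨⟨n, k⟩, hnk⟩ := hK₀.2 ⟨l, hl⟩
    refine ⟨(n : ↥L), Subgroup.mem_subgroupOf.1 n.2, (k : ↥L),
      Subgroup.mem_map_of_mem L.subtype k.2, ?_⟩
    have := congrArg (fun z : ↥L => (z : G)) hnk
    simpa using this.symm
  · intro g
    -- the conjugate complement
    set φ : ↥L ≃* ↥L := MulAut.conjNormal g with hφ
    have hφ_coe : ∀ x : ↥L, ((φ x : ↥L) : G) = g * x * g⁻¹ := fun x => MulAut.conjNormal_apply g x
    have hK₁card : Nat.card ↥(K₀.map φ.toMonoidHom) = Nat.card ↥K₀ :=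
      Subgroup.card_map_of_injective φ.injective
    have hK₁ : Subgroup.IsComplement' (R.subgroupOf L) (K₀.map φ.toMonoidHom) := by
      apply Subgroup.isComplement'_of_coprime
      · rw [hK₁card]; exact hK₀card
      · rw [hK₁card]; exact hcopK₀
    obtain ⟨l, hl⟩ := Cfsg.Agent.H1.sz_conj (R.subgroupOf L) K₀ (K₀.map φ.toMonoidHom) hK₀ hK₁
      hcopK₀ (Or.inl hNsolv)
    -- `n = l⁻¹ g` normalizes `K`
    have hn : (l : G)⁻¹ * g ∈ Subgroup.normalizer ((K₀.map L.subtype : Subgroup G) : Set G) := by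
      rw [Subgroup.mem_normalizer_iff]
      intro h
      constructor
      · rintro ⟨k, hk, rfl⟩
        have h1 : φ k ∈ K₀.map φ.toMonoidHom := Subgroup.mem_map_of_mem φ.toMonoidHom hk
        rw [← hl, mem_conj_smul_iff'] at h1
        refine ⟨l⁻¹ * φ k * l, h1, ?_⟩
        simp only [Subgroup.subtype_apply, Subgroup.coe_mul, Subgroup.coe_inv, hφ_coe]
        group
      · rintro ⟨k, hk, hkeq⟩
        have h1 : l * k * l⁻¹ ∈ K₀.map φ.toMonoidHom := by
          rw [← hl, mem_conj_smul_iff']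
          have e : l⁻¹ * (l * k * l⁻¹) * l = k := by group
          rw [e]; exact hk
        obtain ⟨k', hk', hk'eq⟩ := h1
        refine ⟨k', hk', ?_⟩
        have h2 := congrArg (fun z : ↥L => (z : G)) hk'eq
        simp only [MulEquiv.coe_toMonoidHom, hφ_coe, Subgroup.coe_mul, Subgroup.coe_inv] at h2
        simp only [Subgroup.subtype_apply] at hkeq ⊢
        -- `g k' g⁻¹ = l k l⁻¹` and `k = l⁻¹ g h g⁻¹ l`
        have h3 : (k : G) = (l : G)⁻¹ * g * h * ((l : G)⁻¹ * g)⁻¹ := hkeq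
        have h4 : g * (k' : G) * g⁻¹ = g * h * g⁻¹ := by
          rw [h2, h3]; group
        exact mul_left_cancel (mul_right_cancel h4)
    obtain ⟨⟨n, k⟩, hnk⟩ := hK₀.2 l
    have hnk' : ((n : ↥L) : G) * ((k : ↥L) : G) = (l : G) := by
      have := congrArg (fun z : ↥L => (z : G)) hnk
      simpa using this
    refine ⟨(n : ↥L), Subgroup.mem_subgroupOf.1 n.2, ((k : ↥L) : G) * ((l : G)⁻¹ * g), ?_, ?_⟩
    · apply mul_mem _ hn
      exact Subgroup.le_normalizer (Subgroup.mem_map_of_mem L.subtype k.2)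
    · rw [← mul_assoc, hnk']; group

theorem pCore_quotient_pCore_eq_bot {G : Type u} [Group G] (p : ℕ) :
    haveI : (pCore p G).Normal := Cfsg.Agent.H1.pCore_normal p
    pCore p (G ⧸ pCore p G) = ⊥ := by
  haveI hRn : (pCore p G).Normal := Cfsg.Agent.H1.pCore_normal p
  haveI hOn : (pCore p (G ⧸ pCore p G)).Normal := Cfsg.Agent.H1.pCore_normal p
  haveI hn : ((pCore p (G ⧸ pCore p G)).comap (QuotientGroup.mk' (pCore p G))).Normal := hOn.comap _
  have hp : IsPGroup p ↥((pCore p (G ⧸ pCore p G)).comap (QuotientGroup.mk' (pCore p G))) := by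
    apply IsPGroup.comap_of_ker_isPGroup (Cfsg.Agent.H1.pCore_isPGroup p)
    rw [QuotientGroup.ker_mk']
    exact Cfsg.Agent.H1.pCore_isPGroup p
  have hle := Cfsg.Agent.H1.le_pCore hn hp
  rw [eq_bot_iff]
  intro x hx
  obtain ⟨g, rfl⟩ := QuotientGroup.mk_surjective x
  rw [Subgroup.mem_bot]
  have h1 : g ∈ pCore p G := hle hx
  exact (QuotientGroup.eq_one_iff g).mpr h1

/-- **S4472 P2**: in a `p`-solvable group there are a `p'`-subgroup `K` and a `p`-subgroup `Q`
normalizing it with `|G : O_p(G)|_p · |C_Q(K)|` dividing `|Q|`. -/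
theorem exists_pair {G : Type u} [Group G] [Finite G] (p : ℕ) [Fact p.Prime] (hsol : IsPSolvable p G)
    (hHH : ∀ (H : Type u) [Group H] [Finite H], IsPSolvable p H → pCore p H = ⊥ →
      Subgroup.centralizer ((pPrimeCore p H : Subgroup H) : Set H) ≤ pPrimeCore p H) :
    ∃ K Q : Subgroup G, (Nat.card K).Coprime p ∧ IsPGroup p Q ∧
      Q ≤ Subgroup.normalizer (K : Set G) ∧
      p ^ ((pCore p G).index.factorization p) *
        Nat.card ↥(Q ⊓ Subgroup.centralizer (K : Set G)) ∣ Nat.card Q := by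
  have hp : Fact p.Prime := inferInstance
  have hp' := hp.out
  haveI hRn : (pCore p G).Normal := Cfsg.Agent.H1.pCore_normal p
  have hRp : IsPGroup p ↥(pCore p G) := Cfsg.Agent.H1.pCore_isPGroup p
  set R := pCore p G with hR
  -- the quotient
  have hQsol : IsPSolvable p (G ⧸ R) := Cfsg.Agent.Lib.Lead.PSolvable.IsPSolvable.quotient R hsol
  have hQbot : pCore p (G ⧸ R) = ⊥ := pCore_quotient_pCore_eq_bot p
  have hcent := hHH (G ⧸ R) hQsol hQbot
  haveI hOn : (pPrimeCore p (G ⧸ R)).Normal := Cfsg.Agent.H1.pPrimeCore_normal p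
  have hOc : (Nat.card ↥(pPrimeCore p (G ⧸ R))).Coprime p := Cfsg.Agent.H1.pPrimeCore_coprime p
  set O := pPrimeCore p (G ⧸ R) with hO
  set L := O.comap (QuotientGroup.mk' R) with hL
  haveI hLn : L.Normal := hOn.comap _
  have hRL : R ≤ L := by
    intro x hx
    show QuotientGroup.mk' R x ∈ O
    have : QuotientGroup.mk' R x = 1 := (QuotientGroup.eq_one_iff x).2 hx
    rw [this]; exact one_mem _
  have hLcard : Nat.card ↥L = Nat.card ↥O * Nat.card ↥R := Cfsg.Agent.H2.card_comap_mk' R O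
  obtain ⟨r, hr⟩ := IsPGroup.iff_card.1 hRp
  have hrel : R.relIndex L = Nat.card ↥O := by
    have h1 := Subgroup.relIndex_mul_relIndex ⊥ R L bot_le hRL
    rw [Subgroup.relIndex_bot_left, Subgroup.relIndex_bot_left, hLcard, mul_comm] at h1
    exact Nat.eq_of_mul_eq_mul_right Nat.card_pos h1
  have hcop : (Nat.card ↥R).Coprime (R.relIndex L) := by
    rw [hrel, hr]
    exact Nat.Coprime.pow_left r hOc.symm
  haveI : Group.IsNilpotent ↥R := hRp.isNilpotent
  have hsolvR : Group.IsSolvable ↥R := inferInstance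
  obtain ⟨K, hKL, hKcard, hLRK, hfrat⟩ := exists_complement_frattini R L hRL hsolvR hcop
  have hKc : (Nat.card ↥K).Coprime p := by
    have h1 : Nat.card ↥K = Nat.card ↥O := by
      have h2 : Nat.card ↥R * Nat.card ↥K = Nat.card ↥R * Nat.card ↥O := by
        rw [hKcard, hLcard, mul_comm]
      exact Nat.eq_of_mul_eq_mul_left Nat.card_pos h2
    rw [h1]; exact hOc
  set M := Subgroup.normalizer (K : Set G) with hM
  obtain ⟨Q₀⟩ : Nonempty (Sylow p ↥M) := inferInstance
  have hQle : (Q₀ : Subgroup ↥M).map M.subtype ≤ M := Subgroup.map_subtype_le _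
  have hQp : IsPGroup p ↥((Q₀ : Subgroup ↥M).map M.subtype) := Q₀.isPGroup'.map _
  -- `R ⊓ M ≤ Q`
  have hRMQ : R ⊓ M ≤ (Q₀ : Subgroup ↥M).map M.subtype := by
    intro x hx
    haveI : (R.subgroupOf M).Normal := hRn.subgroupOf M
    have h1 : R.subgroupOf M ≤ (Q₀ : Subgroup ↥M) :=
      IsPGroup.le_sylow_of_normal (hRp.comap_subtype) Q₀
    have hxM : x ∈ M := hx.2
    exact ⟨⟨x, hxM⟩, h1 (Subgroup.mem_subgroupOf.2 hx.1), rfl⟩
  -- `M ⊔ R = ⊤`
  have hMR : M ⊔ R = ⊤ := by
    rw [eq_top_iff]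
    intro g _
    obtain ⟨r', hr', n, hn, rfl⟩ := hfrat g
    exact mul_mem (Subgroup.mem_sup_right hr') (Subgroup.mem_sup_left hn)
  have hrelM : R.relIndex M = R.index := by
    rw [← Subgroup.relIndex_sup_right M R, hMR, Subgroup.relIndex_top_right]
  -- cardinalities
  have hRMp : IsPGroup p ↥(R ⊓ M) := hRp.to_le inf_le_left
  obtain ⟨b, hb⟩ := IsPGroup.iff_card.1 hRMp
  have hMcard : Nat.card ↥M = p ^ b * R.index := by
    have h1 := Subgroup.relIndex_mul_relIndex ⊥ (R ⊓ M) M bot_le inf_le_right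
    rw [Subgroup.relIndex_bot_left, Subgroup.relIndex_bot_left, Subgroup.inf_relIndex_right,
      hrelM, hb] at h1
    exact h1.symm
  have hidx0 : R.index ≠ 0 := Subgroup.index_ne_zero_of_finite
  have hfacM : (Nat.card ↥M).factorization p = b + R.index.factorization p := by
    rw [hMcard, Nat.factorization_mul (pow_ne_zero b hp'.ne_zero) hidx0, Finsupp.add_apply,
      hp'.factorization_pow, Finsupp.single_eq_same]
  have hQcard : Nat.card ↥((Q₀ : Subgroup ↥M).map M.subtype) =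
      p ^ (R.index.factorization p) * p ^ b := by
    rw [Subgroup.card_map_of_injective M.subtype_injective, Q₀.card_eq_multiplicity, hfacM,
      add_comm, pow_add]
  -- `C_Q(K) ≤ R`
  have hCQR : (Q₀ : Subgroup ↥M).map M.subtype ⊓ Subgroup.centralizer (K : Set G) ≤ R ⊓ M := by
    intro x hx
    have hxQ := hx.1
    have hxC := hx.2
    refine ⟨?_, hQle hxQ⟩
    -- the image of `x` centralizes `O`
    have h1 : QuotientGroup.mk' R x ∈ Subgroup.centralizer ((O : Subgroup (G ⧸ R)) : Set (G ⧸ R)) := by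
      rw [Subgroup.mem_centralizer_iff]
      intro y hy
      obtain ⟨g, rfl⟩ := QuotientGroup.mk'_surjective R y
      have hgL : g ∈ L := hy
      obtain ⟨r', hr', k, hk, rfl⟩ := hLRK g hgL
      have hr1 : QuotientGroup.mk' R r' = 1 := (QuotientGroup.eq_one_iff r').2 hr'
      rw [map_mul, hr1, one_mul, ← map_mul, ← map_mul]
      congr 1
      exact Subgroup.mem_centralizer_iff.1 hxC k hk
    have h2 : QuotientGroup.mk' R x ∈ O := hcent h1
    -- its order is prime to `p` and a power of `p`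
    have h3 : orderOf (QuotientGroup.mk' R x) ∣ Nat.card ↥O := by
      have := orderOf_dvd_natCard (⟨QuotientGroup.mk' R x, h2⟩ : ↥O)
      rwa [Subgroup.orderOf_mk] at this
    obtain ⟨j, hj⟩ := (hQp.map (QuotientGroup.mk' R)) ⟨QuotientGroup.mk' R x,
      Subgroup.mem_map_of_mem _ hxQ⟩
    have hj' : (QuotientGroup.mk' R x) ^ p ^ j = 1 := by
      have := congrArg Subtype.val hj
      simpa using this
    have h4 : orderOf (QuotientGroup.mk' R x) ∣ p ^ j := orderOf_dvd_of_pow_eq_one hj'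
    have h5 : orderOf (QuotientGroup.mk' R x) = 1 := by
      have hc : (Nat.card ↥O).Coprime (p ^ j) := Nat.Coprime.pow_right j hOc
      exact Nat.eq_one_of_dvd_coprimes hc h3 h4
    have h6 : QuotientGroup.mk' R x = 1 := orderOf_eq_one_iff.1 h5
    exact (QuotientGroup.eq_one_iff x).1 h6
  refine ⟨K, (Q₀ : Subgroup ↥M).map M.subtype, hKc, hQp, hQle, ?_⟩
  rw [hQcard]
  apply Nat.mul_dvd_mul_left
  rw [← hb]
  exact Subgroup.card_dvd_of_le hCQR

end Cfsg.Agent.Lib.Helper6.PSolvPair
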