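import Mathlib
import Cfsg.Agent.Lib.helper3.Irr13

/-!
# Real elements, 2-elements and normal subgroups of odd order

Pure group theory used for the rows on real characters of `p'`-degree.
-/

set_option autoImplicit false
set_option linter.style.haveILetI false

namespace Cfsg.Agent.Lib.Helper6.RealLift

open Cfsg.Agent.Lib.helper3.Irr

variable {G : Type*} [Group G]

/-- an odd power of an element inverting `x` inverts `x` -/
theorem conj_pow_of_odd {x c : G} (h : c * x * c⁻¹ = x⁻¹) {m : ℕ} (hm : Odd m) :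
    c ^ m * x * (c ^ m)⁻¹ = x⁻¹ := by
  have h' : c * x⁻¹ * c⁻¹ = x := by
    have : c * x⁻¹ * c⁻¹ = (c * x * c⁻¹)⁻¹ := by group
    rw [this, h, inv_inv]
  obtain ⟨k, rfl⟩ := hm
  induction k with
  | zero => simpa using h
  | succ k ih =>
    have e : c ^ (2 * (k + 1) + 1) = c * c * c ^ (2 * k + 1) := by
      rw [show 2 * (k + 1) + 1 = 2 + (2 * k + 1) by ring, pow_add, pow_two]
    rw [e]
    have : c * c * c ^ (2 * k + 1) * x * (c * c * c ^ (2 * k + 1))⁻¹
        = c * (c * (c ^ (2 * k + 1) * x * (c ^ (2 * k + 1))⁻¹) * c⁻¹) * c⁻¹ := by group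
    rw [this, ih, h', h]

/-- the odd part of the order: a power of `c` that is a `2`-element, with odd exponent -/
theorem exists_odd_pow_two_elt [Finite G] (c : G) :
    ∃ m : ℕ, Odd m ∧ ∃ k : ℕ, orderOf (c ^ m) = 2 ^ k := by
  obtain ⟨k, m, hm, hn⟩ := Nat.exists_eq_two_pow_mul_odd (orderOf_pos c).ne'
  refine ⟨m, hm, k, ?_⟩
  have hm0 : m ≠ 0 := by
    rintro rfl
    simp at hm
  rw [orderOf_pow_of_dvd hm0 (Dvd.intro_left _ hn.symm), hn]
  exact Nat.mul_div_cancel _ (Nat.pos_of_ne_zero hm0)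

/-- (R2) a real element is inverted by a `2`-element -/
theorem exists_two_elt_inverting [Finite G] {x : G} (hx : IsConj x x⁻¹) :
    ∃ g : G, (∃ k : ℕ, orderOf g = 2 ^ k) ∧ g * x * g⁻¹ = x⁻¹ := by
  obtain ⟨c, hc⟩ := isConj_iff.mp hx
  obtain ⟨m, hm, hk⟩ := exists_odd_pow_two_elt c
  exact ⟨c ^ m, hk, conj_pow_of_odd hc hm⟩

/-- a real coset of a normal subgroup of odd order contains a real element -/
theorem exists_real_in_coset [Finite G] (M : Subgroup G) [hM : M.Normal] (hodd : Odd (Nat.card M))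
    {x : G} (hx : IsConj (QuotientGroup.mk x : G ⧸ M) (QuotientGroup.mk x : G ⧸ M)⁻¹) :
    ∃ y : G, (QuotientGroup.mk y : G ⧸ M) = QuotientGroup.mk x ∧ IsConj y y⁻¹ := by
  classical
  obtain ⟨cbar, hcbar⟩ := isConj_iff.mp hx
  obtain ⟨c, rfl⟩ := QuotientGroup.mk_surjective cbar
  obtain ⟨m0, hm0, a, ha⟩ := exists_odd_pow_two_elt c
  set g : G := c ^ m0 with hg
  have hgx : (QuotientGroup.mk g : G ⧸ M) * QuotientGroup.mk x * (QuotientGroup.mk g : G ⧸ M)⁻¹ =
      (QuotientGroup.mk x : G ⧸ M)⁻¹ := by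
    have := conj_pow_of_odd hcbar hm0
    rw [hg, QuotientGroup.mk_pow]
    exact this
  -- the twisted map on `G`
  set τ : G → G := fun y => g * y⁻¹ * g⁻¹ with hτ
  have hτ2 : ∀ (k : ℕ) (y : G), τ^[2 * k] y = g ^ (2 * k) * y * (g ^ (2 * k))⁻¹ := by
    intro k
    induction k with
    | zero => intro y; simp
    | succ k ih =>
      intro y
      rw [show 2 * (k + 1) = 2 * k + 2 by ring, Function.iterate_add_apply, ih]
      simp only [Function.iterate_succ, Function.iterate_zero, Function.comp_apply, id_eq, hτ]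
      rw [pow_add, pow_two]
      group
  have hτpow : ∀ y : G, τ^[2 ^ (a + 1)] y = y := by
    intro y
    rw [pow_succ, mul_comm, hτ2, mul_comm, pow_mul, ← ha, pow_orderOf_eq_one, one_pow]
    group
  -- the induced map on `M`
  have hmem : ∀ m : M, x⁻¹ * g * (m : G)⁻¹ * x⁻¹ * g⁻¹ ∈ M := by
    intro m
    rw [← QuotientGroup.eq_one_iff]
    have h1 : (QuotientGroup.mk (m : G) : G ⧸ M) = 1 := (QuotientGroup.eq_one_iff _).mpr m.2
    simp only [QuotientGroup.mk_mul, QuotientGroup.mk_inv, h1, inv_one, mul_one]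
    have h2 : (QuotientGroup.mk g : G ⧸ M) * (QuotientGroup.mk x : G ⧸ M)⁻¹ *
        (QuotientGroup.mk g : G ⧸ M)⁻¹ = QuotientGroup.mk x := by
      have : (QuotientGroup.mk g : G ⧸ M) * (QuotientGroup.mk x : G ⧸ M)⁻¹ *
        (QuotientGroup.mk g : G ⧸ M)⁻¹ = ((QuotientGroup.mk g : G ⧸ M) * QuotientGroup.mk x *
          (QuotientGroup.mk g : G ⧸ M)⁻¹)⁻¹ := by group
      rw [this, hgx, inv_inv]
    calc (QuotientGroup.mk x : G ⧸ M)⁻¹ * QuotientGroup.mk g * (QuotientGroup.mk x : G ⧸ M)⁻¹ *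
        (QuotientGroup.mk g : G ⧸ M)⁻¹
        = (QuotientGroup.mk x : G ⧸ M)⁻¹ * ((QuotientGroup.mk g : G ⧸ M) *
          (QuotientGroup.mk x : G ⧸ M)⁻¹ * (QuotientGroup.mk g : G ⧸ M)⁻¹) := by group
      _ = 1 := by rw [h2, inv_mul_cancel]
  set f : Function.End M := fun m => ⟨x⁻¹ * g * (m : G)⁻¹ * x⁻¹ * g⁻¹, hmem m⟩ with hf
  have hfτ : ∀ m : M, x * ((f m : M) : G) = τ (x * m) := by
    intro m
    simp only [hf, hτ]
    group
  have hiter : ∀ (k : ℕ) (m : M), x * ((f^[k] m : M) : G) = τ^[k] (x * m) := by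
    intro k
    induction k with
    | zero => intro m; rfl
    | succ k ih =>
      intro m
      rw [Function.iterate_succ_apply, ih, hfτ, ← Function.iterate_succ_apply]
  have hfpow : f ^ 2 ^ (a + 1) = 1 := by
    funext m
    apply Subtype.ext
    have h1 := hiter (2 ^ (a + 1)) m
    rw [hτpow] at h1
    exact mul_left_cancel h1
  letI : Fintype M := Fintype.ofFinite M
  haveI : Fact (Nat.Prime 2) := ⟨Nat.prime_two⟩
  have hcard := Equiv.Perm.card_fixedPoints_modEq (p := 2) (n := a + 1) hfpow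
  have hpos : 0 < Fintype.card (Function.fixedPoints f) := by
    rw [Nat.card_eq_fintype_card] at hodd
    have h1 : Fintype.card M % 2 = 1 := Nat.odd_iff.mp hodd
    have h2 : Fintype.card M % 2 = Fintype.card (Function.fixedPoints f) % 2 := hcard
    omega
  obtain ⟨⟨m, hm⟩⟩ := Fintype.card_pos_iff.mp hpos
  have hm' : f m = m := hm
  refine ⟨x * m, ?_, ?_⟩
  · rw [QuotientGroup.mk_mul, (QuotientGroup.eq_one_iff _).mpr m.2, mul_one]
  · have h1 := hfτ m
    rw [hm'] at h1
    -- `x * m = g * (x * m)⁻¹ * g⁻¹`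
    rw [isConj_iff]
    refine ⟨g, ?_⟩
    have h2 : g * (x * (m : G))⁻¹ * g⁻¹ = x * m := h1.symm
    have : g * (x * (m : G)) * g⁻¹ = (g * (x * (m : G))⁻¹ * g⁻¹)⁻¹ := by group
    rw [this, h2]

/-- (R3) a `2`-element that does not centralize a normal subgroup produces a nontrivial real
element of the group inside it -/
theorem exists_real_of_not_commute (M : Subgroup G) [hM : M.Normal] {t : G}
    (ht : ∃ k : ℕ, orderOf t = 2 ^ k) {m : G} (hm : m ∈ M) (hne : t * m ≠ m * t) :
    ∃ u ∈ M, u ≠ 1 ∧ IsConj u u⁻¹ := by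
  obtain ⟨k, hk⟩ := ht
  have key : ∀ (k : ℕ) (t : G), (∀ m ∈ M, t ^ 2 ^ k * m = m * t ^ 2 ^ k) →
      (∃ m ∈ M, t * m ≠ m * t) → ∃ u ∈ M, u ≠ 1 ∧ IsConj u u⁻¹ := by
    intro k
    induction k with
    | zero =>
      intro t h1 ⟨m, hm, hne⟩
      rw [pow_zero, pow_one] at h1
      exact absurd (h1 m hm) hne
    | succ k ih =>
      intro t h1 ⟨m, hm, hne⟩
      by_cases h2 : ∀ m ∈ M, t ^ 2 * m = m * t ^ 2
      · refine ⟨m⁻¹ * (t * m * t⁻¹), M.mul_mem (M.inv_mem hm) (hM.conj_mem m hm t), ?_, ?_⟩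
        · intro h
          apply hne
          have : t * m * t⁻¹ = m := by
            have := congrArg (fun z => m * z) h
            simpa using this
          calc t * m = t * m * t⁻¹ * t := by group
            _ = m * t := by rw [this]
        · rw [isConj_iff]
          refine ⟨t, ?_⟩
          have h3 := h2 m hm
          have h4 : t * t * m * t⁻¹ * t⁻¹ = m := by
            rw [pow_two] at h3
            rw [h3]
            group
          calc t * (m⁻¹ * (t * m * t⁻¹)) * t⁻¹ = t * m⁻¹ * t⁻¹ * (t * t * m * t⁻¹ * t⁻¹) := by group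
            _ = t * m⁻¹ * t⁻¹ * m := by rw [h4]
            _ = (m⁻¹ * (t * m * t⁻¹))⁻¹ := by group
      · push Not at h2
        apply ih (t ^ 2)
        · intro m' hm'
          have := h1 m' hm'
          rwa [pow_succ, mul_comm, pow_mul] at this
        · exact h2
  apply key k t
  · intro m' _
    rw [← hk, pow_orderOf_eq_one, one_mul, mul_one]
  · exact ⟨m, hm, hne⟩

/-- the map on real classes induced by a quotient map -/
noncomputable def realClassMap (M : Subgroup G) [M.Normal] :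
    {C : ConjClasses G // IsRealClass C} → {C : ConjClasses (G ⧸ M) // IsRealClass C} :=
  fun C => ⟨ConjClasses.map (QuotientGroup.mk' M) C.1, by
    obtain ⟨C, hC⟩ := C
    obtain ⟨g, rfl⟩ := ConjClasses.mk_surjective C
    rw [isRealClass_mk_iff] at hC
    show IsRealClass (ConjClasses.mk (QuotientGroup.mk' M g))
    rw [isRealClass_mk_iff]
    have := (QuotientGroup.mk' M).map_isConj hC
    rwa [map_inv] at this⟩

theorem realClassMap_surjective [Finite G] (M : Subgroup G) [M.Normal]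
    (hodd : Odd (Nat.card M)) : Function.Surjective (realClassMap M) := by
  rintro ⟨C, hC⟩
  obtain ⟨q, rfl⟩ := ConjClasses.mk_surjective C
  obtain ⟨x, rfl⟩ := QuotientGroup.mk_surjective q
  rw [isRealClass_mk_iff] at hC
  obtain ⟨y, hy1, hy2⟩ := exists_real_in_coset M hodd hC
  refine ⟨⟨ConjClasses.mk y, (isRealClass_mk_iff y).mpr hy2⟩, ?_⟩
  apply Subtype.ext
  show ConjClasses.mk (QuotientGroup.mk' M y) = ConjClasses.mk (QuotientGroup.mk x)
  rw [← hy1]
  rfl

/-- a normal subgroup of odd order containing a nontrivial real element: the quotient has fewer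
real classes -/
theorem card_real_classes_quot_lt [Finite G] (M : Subgroup G) [M.Normal]
    (hodd : Odd (Nat.card M)) {u : G} (huM : u ∈ M) (hu1 : u ≠ 1) (hur : IsConj u u⁻¹) :
    Nat.card {C : ConjClasses (G ⧸ M) // IsRealClass C} <
      Nat.card {C : ConjClasses G // IsRealClass C} := by
  classical
  letI : Fintype {C : ConjClasses (G ⧸ M) // IsRealClass C} := Fintype.ofFinite _
  letI : Fintype {C : ConjClasses G // IsRealClass C} := Fintype.ofFinite _
  rw [Nat.card_eq_fintype_card, Nat.card_eq_fintype_card]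
  apply Fintype.card_lt_of_surjective_not_injective (realClassMap M)
    (realClassMap_surjective M hodd)
  intro hinj
  have h1 : IsConj (1 : G) (1 : G)⁻¹ := by rw [inv_one]
  have : (⟨ConjClasses.mk u, (isRealClass_mk_iff u).mpr hur⟩ :
      {C : ConjClasses G // IsRealClass C}) = ⟨ConjClasses.mk 1, (isRealClass_mk_iff 1).mpr h1⟩ := by
    apply hinj
    apply Subtype.ext
    show ConjClasses.mk (QuotientGroup.mk' M u) = ConjClasses.mk (QuotientGroup.mk' M 1)
    have hu' : (QuotientGroup.mk' M) u = 1 := (QuotientGroup.eq_one_iff u).mpr huM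
    rw [map_one, hu']
  have h2 := congrArg Subtype.val this
  simp only at h2
  rw [ConjClasses.mk_eq_mk_iff_isConj, isConj_one_left] at h2
  exact hu1 h2

end Cfsg.Agent.Lib.Helper6.RealLift
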