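import Mathlib
import Cfsg.Agent.Lib.Helper6.RealLift

/-!
# Group theory for the rows on real characters of `p'`-degree, part 1

Subgroups generated by the elements of prime power order, minimal normal subgroups,
lifting `p`-elements from quotients.
-/

set_option autoImplicit false
set_option linter.style.haveILetI false

namespace Cfsg.Agent.Lib.Helper6.RealSylow

variable {G : Type*} [Group G]

/-- the elements of `p`-power order -/
abbrev pElts (p : ℕ) (G : Type*) [Group G] : Set G := {g : G | ∃ k : ℕ, orderOf g = p ^ k}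

theorem orderOf_conj_eq (g x : G) : orderOf (g * x * g⁻¹) = orderOf x := by
  have := (MulAut.conj g).orderOf_eq x
  rwa [MulAut.conj_apply] at this

/-- the closure of a set closed under conjugation is normal -/
theorem normal_closure_of_conj {s : Set G} (h : ∀ g x, x ∈ s → g * x * g⁻¹ ∈ s) :
    (Subgroup.closure s).Normal := by
  constructor
  intro n hn g
  induction hn using Subgroup.closure_induction with
  | mem x hx => exact Subgroup.subset_closure (h g x hx)
  | one => simp
  | mul x y _ _ hx hy =>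
    have : g * (x * y) * g⁻¹ = (g * x * g⁻¹) * (g * y * g⁻¹) := by group
    rw [this]
    exact Subgroup.mul_mem _ hx hy
  | inv x _ hx =>
    have : g * x⁻¹ * g⁻¹ = (g * x * g⁻¹)⁻¹ := by group
    rw [this]
    exact Subgroup.inv_mem _ hx

theorem normal_closure_pElts (p : ℕ) : (Subgroup.closure (pElts p G)).Normal :=
  normal_closure_of_conj fun g x ⟨k, hk⟩ => ⟨k, by rw [orderOf_conj_eq, hk]⟩

/-- a `p`-subgroup lies in the subgroup generated by the `p`-elements -/
theorem le_closure_pElts {p : ℕ} [Fact p.Prime] {H : Subgroup G} (hH : IsPGroup p H) :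
    H ≤ Subgroup.closure (pElts p G) := by
  intro x hx
  apply Subgroup.subset_closure
  obtain ⟨k, hk⟩ := hH ⟨x, hx⟩
  have hk' : x ^ p ^ k = 1 := by
    have := congrArg Subtype.val hk
    simpa using this
  obtain ⟨j, -, hj⟩ := (Nat.dvd_prime_pow Fact.out).mp (orderOf_dvd_of_pow_eq_one hk')
  exact ⟨j, hj⟩

/-! ### minimal normal subgroups -/

/-- a minimal normal subgroup -/
def IsMinNormal (N : Subgroup G) : Prop :=
  N.Normal ∧ N ≠ ⊥ ∧ ∀ N' : Subgroup G, N'.Normal → N' ≤ N → N' = ⊥ ∨ N' = N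

theorem exists_isMinNormal [Finite G] [Nontrivial G] : ∃ N : Subgroup G, IsMinNormal N := by
  classical
  have hne : {N : Subgroup G | N.Normal ∧ N ≠ ⊥}.Nonempty :=
    ⟨⊤, inferInstance, top_ne_bot⟩
  obtain ⟨N, hN⟩ := (Set.toFinite {N : Subgroup G | N.Normal ∧ N ≠ ⊥}).exists_minimal hne
  refine ⟨N, hN.1.1, hN.1.2, fun N' hN' hle => ?_⟩
  by_cases h : N' = ⊥
  · exact Or.inl h
  · exact Or.inr (le_antisymm hle (hN.2 ⟨hN', h⟩ hle))

/-- a solvable minimal normal subgroup is abelian -/
theorem IsMinNormal.comm_of_solvable {N : Subgroup G} (hN : IsMinNormal N)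
    (hsolv : Group.IsSolvable N) : ∀ a ∈ N, ∀ b ∈ N, a * b = b * a := by
  have := hN.1
  have hnt : Nontrivial N := (Subgroup.nontrivial_iff_ne_bot N).mpr hN.2.1
  have hlt := Group.IsSolvable.commutator_lt_top_of_nontrivial N
  have hmap : (commutator N).map N.subtype = ⁅N, N⁆ := by
    rw [commutator_def, Subgroup.map_commutator, ← MonoidHom.range_eq_map, Subgroup.range_subtype]
  have hnorm : (⁅N, N⁆ : Subgroup G).Normal := inferInstance
  rcases hN.2.2 ⁅N, N⁆ hnorm (Subgroup.commutator_le_left N N) with h | h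
  · intro a ha b hb
    have h1 : N ≤ Subgroup.centralizer (N : Set G) :=
      Subgroup.commutator_eq_bot_iff_le_centralizer.mp h
    exact (Subgroup.mem_centralizer_iff.mp (h1 ha) b hb).symm
  · exfalso
    have h2 : (commutator N).map N.subtype = (⊤ : Subgroup N).map N.subtype := by
      rw [hmap, h, ← MonoidHom.range_eq_map, Subgroup.range_subtype]
    exact hlt.ne (Subgroup.map_injective N.subtype_injective h2)

/-- an abelian minimal normal subgroup has prime exponent, for every prime dividing its order -/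
theorem IsMinNormal.pow_eq_one [Finite G] {N : Subgroup G} (hN : IsMinNormal N)
    (hab : ∀ a ∈ N, ∀ b ∈ N, a * b = b * a) {r : ℕ} [Fact r.Prime] (hr : r ∣ Nat.card N) :
    ∀ n ∈ N, n ^ r = 1 := by
  have := hN.1
  obtain ⟨x, hx⟩ := exists_prime_orderOf_dvd_card' r hr
  let Ω : Subgroup G :=
    { carrier := {n | n ∈ N ∧ n ^ r = 1}
      mul_mem' := by
        rintro a b ⟨ha, ha'⟩ ⟨hb, hb'⟩
        refine ⟨N.mul_mem ha hb, ?_⟩
        have hc : Commute a b := hab a ha b hb
        rw [hc.mul_pow, ha', hb', one_mul]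
      one_mem' := ⟨N.one_mem, one_pow _⟩
      inv_mem' := by
        rintro a ⟨ha, ha'⟩
        exact ⟨N.inv_mem ha, by rw [inv_pow, ha', inv_one]⟩ }
  have hΩn : Ω.Normal := by
    constructor
    rintro n ⟨hn, hn'⟩ g
    refine ⟨hN.1.conj_mem n hn g, ?_⟩
    rw [conj_pow, hn', mul_one, mul_inv_cancel]
  have hΩle : Ω ≤ N := fun n hn => hn.1
  rcases hN.2.2 Ω hΩn hΩle with h | h
  · exfalso
    have hxΩ : (x : G) ∈ Ω := by
      refine ⟨x.2, ?_⟩
      have : x ^ r = 1 := by rw [← hx]; exact pow_orderOf_eq_one x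
      have := congrArg Subtype.val this
      simpa using this
    rw [h, Subgroup.mem_bot] at hxΩ
    have : x = 1 := Subtype.ext hxΩ
    rw [this, orderOf_one] at hx
    exact (Fact.out : r.Prime).one_lt.ne hx
  · intro n hn
    have : n ∈ Ω := h ▸ hn
    exact this.2

/-! ### lifting `p`-elements -/

/-- a `p`-element of a quotient is the image of a `p`-element -/
theorem exists_pElt_lift [Finite G] {p : ℕ} [Fact p.Prime] (N : Subgroup G) [N.Normal]
    {q : G ⧸ N} (hq : q ∈ pElts p (G ⧸ N)) : ∃ g ∈ pElts p G, (QuotientGroup.mk g : G ⧸ N) = q := by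
  have hp : p.Prime := Fact.out
  obtain ⟨k, hk⟩ := hq
  obtain ⟨c, rfl⟩ := QuotientGroup.mk_surjective q
  obtain ⟨e, m, hm, hn⟩ :=
    Nat.exists_eq_pow_mul_and_not_dvd (orderOf_pos c).ne' p hp.one_lt.ne'
  have hm0 : m ≠ 0 := by
    rintro rfl
    exact hm (dvd_zero p)
  by_cases hk0 : k = 0
  · subst hk0
    rw [pow_zero, orderOf_eq_one_iff] at hk
    exact ⟨1, ⟨0, by simp⟩, by rw [hk]; rfl⟩
  have hcop : Nat.Coprime m (p ^ k) :=
    Nat.Coprime.pow_right k ((Nat.Prime.coprime_iff_not_dvd hp).mpr hm).symm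
  have hlt : 1 < p ^ k := Nat.one_lt_pow hk0 hp.one_lt
  obtain ⟨m', -, hm'⟩ := Nat.exists_mul_mod_eq_one_of_coprime hcop hlt
  refine ⟨(c ^ m) ^ m', ?_, ?_⟩
  · have h1 : orderOf (c ^ m) = p ^ e := by
      rw [orderOf_pow_of_dvd hm0 (Dvd.intro_left _ hn.symm), hn]
      exact Nat.mul_div_cancel _ (Nat.pos_of_ne_zero hm0)
    have h2 : orderOf ((c ^ m) ^ m') ∣ p ^ e := h1 ▸ orderOf_pow_dvd m'
    obtain ⟨j, -, hj⟩ := (Nat.dvd_prime_pow hp).mp h2
    exact ⟨j, hj⟩
  · rw [QuotientGroup.mk_pow, QuotientGroup.mk_pow, ← pow_mul, ← pow_mod_orderOf, hk, hm', pow_one]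

end Cfsg.Agent.Lib.Helper6.RealSylow
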