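import Mathlib
import Cfsg.Agent.H1.RecGL23Defs

/-!
# S3304 piece (P-R)(A4): `step3` — renaming, generation, minimal normal subgroups (helper6)
-/

set_option autoImplicit false
set_option linter.style.haveILetI false
set_option linter.unusedVariables false

namespace Cfsg.Agent.H1.RecGL23

variable {X : Type*} [Group X]

namespace A4

theorem ji' {Q : Subgroup X} {i j : X} (hq : Q8F Q i j) : j * i = i⁻¹ * j := by
  have := hq.ji
  calc j * i = (j * i * j⁻¹) * j := by group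
    _ = i⁻¹ * j := by rw [this]

theorem iji {Q : Subgroup X} {i j : X} (hq : Q8F Q i j) : i * j * i = j := by
  rw [mul_assoc, ji' hq, ← mul_assoc, mul_inv_cancel, one_mul]

theorem ij_sq {Q : Subgroup X} {i j : X} (hq : Q8F Q i j) : (i * j) ^ 2 = i ^ 2 := by
  rw [pow_two, ← mul_assoc, iji hq, ← pow_two, hq.j2]

theorem elem {Q : Subgroup X} {i j : X} (hq : Q8F Q i j) (q : X) (hqQ : q ∈ Q) :
    q = 1 ∨ q = i ^ 2 ∨ q ^ 2 = i ^ 2 := by
  obtain ⟨a, b, rfl⟩ := hq.span q hqQ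
  fin_cases b
  · fin_cases a
    · left; simp
    · right; right; simp
    · right; left; simp
    · right; right
      simp only [pow_zero, mul_one]
      show (i ^ 3) ^ 2 = i ^ 2
      rw [← pow_mul]
      calc i ^ (3 * 2) = i ^ 4 * i ^ 2 := by rw [← pow_add]
        _ = i ^ 2 := by rw [hq.i4, one_mul]
  · right; right
    have h1 : j * i ^ (a : ℕ) * j⁻¹ = (i⁻¹) ^ (a : ℕ) := by
      rw [← hq.ji, conj_pow]
    show (i ^ (a : ℕ) * j ^ 1) ^ 2 = i ^ 2
    rw [pow_one]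
    calc (i ^ (a : ℕ) * j) ^ 2 = i ^ (a : ℕ) * (j * i ^ (a : ℕ) * j⁻¹) * j ^ 2 := by
          simp only [pow_two, mul_assoc, inv_mul_cancel_left]
      _ = j ^ 2 := by rw [h1, inv_pow, mul_inv_cancel, one_mul]
      _ = i ^ 2 := hq.j2

theorem card_Q [Finite X] {Q : Subgroup X} {i j : X} (hq : Q8F Q i j) : Nat.card Q = 8 := by
  haveI : Fact (Nat.Prime 2) := ⟨Nat.prime_two⟩
  have hle : Nat.card Q ≤ 8 := by
    let f : Fin 4 × Fin 2 → Q := fun p =>
      ⟨i ^ (p.1 : ℕ) * j ^ (p.2 : ℕ), Q.mul_mem (Q.pow_mem hq.iQ _) (Q.pow_mem hq.jQ _)⟩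
    have hf : Function.Surjective f := by
      intro q
      obtain ⟨a, b, h⟩ := hq.span q q.2
      exact ⟨(a, b), Subtype.ext h.symm⟩
    have := Nat.card_le_card_of_surjective f hf
    simpa using this
  have ho : orderOf i = 4 := by
    have := orderOf_eq_prime_pow (x := i) (p := 2) (n := 1) (by simpa using hq.i2)
      (by simpa using hq.i4)
    simpa using this
  have h4 : 4 ∣ Nat.card Q := by
    rw [← ho]
    exact Subgroup.orderOf_dvd_natCard Q hq.iQ
  have hne : Nat.card Q ≠ 4 := by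
    intro h
    have hc := IsPGroup.commutative_of_card_eq_prime_sq (p := 2) (G := Q) (by rw [h]; norm_num)
    have := hc ⟨j, hq.jQ⟩ ⟨i, hq.iQ⟩
    have h2 : j * i = i * j := congrArg Subtype.val this
    have h3 : i⁻¹ = i := by
      rw [← hq.ji, h2]; group
    apply hq.i2
    rw [pow_two]
    nth_rewrite 1 [← h3]
    exact inv_mul_cancel i
  have hpos : 0 < Nat.card Q := Nat.card_pos
  obtain ⟨k, hk⟩ := h4
  omega

theorem gen [Finite X] (hcard : Nat.card X = 48) (Q : Subgroup X) [Q.Normal] (i j c u : X)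
    (hq : Q8F Q i j) (hc3 : c ^ 3 = 1) (hcQ : c ∉ Q) (hu2 : u ^ 2 = 1) (huQ : u ∉ Q) :
    Subgroup.closure ({i * j, i, c, u} : Set X) = ⊤ := by
  set H := Subgroup.closure ({i * j, i, c, u} : Set X) with hH
  have hiH : i ∈ H := Subgroup.subset_closure (by simp)
  have hijH : i * j ∈ H := Subgroup.subset_closure (by simp)
  have hcH : c ∈ H := Subgroup.subset_closure (by simp)
  have huH : u ∈ H := Subgroup.subset_closure (by simp)
  have hjH : j ∈ H := by
    have : j = i⁻¹ * (i * j) := by group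
    rw [this]; exact H.mul_mem (H.inv_mem hiH) hijH
  have hQH : Q ≤ H := by
    intro q hqQ
    obtain ⟨a, b, rfl⟩ := hq.span q hqQ
    exact H.mul_mem (H.pow_mem hiH _) (H.pow_mem hjH _)
  have hQ8 := card_Q hq
  have hquot : Nat.card (X ⧸ Q) = 6 := by
    have := Subgroup.card_eq_card_quotient_mul_card_subgroup Q
    rw [hcard, hQ8] at this
    omega
  set M := H.map (QuotientGroup.mk' Q) with hM
  have hcM : (QuotientGroup.mk' Q c) ∈ M := Subgroup.mem_map_of_mem _ hcH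
  have huM : (QuotientGroup.mk' Q u) ∈ M := Subgroup.mem_map_of_mem _ huH
  haveI : Fact (Nat.Prime 3) := ⟨Nat.prime_three⟩
  haveI : Fact (Nat.Prime 2) := ⟨Nat.prime_two⟩
  have hoc : orderOf (QuotientGroup.mk' Q c) = 3 := by
    apply orderOf_eq_prime
    · rw [← map_pow, hc3, map_one]
    · intro h
      apply hcQ
      rwa [QuotientGroup.mk'_apply, QuotientGroup.eq_one_iff] at h
  have hou : orderOf (QuotientGroup.mk' Q u) = 2 := by
    apply orderOf_eq_prime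
    · rw [← map_pow, hu2, map_one]
    · intro h
      apply huQ
      rwa [QuotientGroup.mk'_apply, QuotientGroup.eq_one_iff] at h
  have h3 : 3 ∣ Nat.card M := by
    have := Subgroup.orderOf_dvd_natCard M hcM
    rwa [hoc] at this
  have h2 : 2 ∣ Nat.card M := by
    have := Subgroup.orderOf_dvd_natCard M huM
    rwa [hou] at this
  have h6 : 6 ∣ Nat.card M := by omega
  have hMtop : M = ⊤ := by
    apply Subgroup.eq_top_of_le_card
    rw [hquot]
    exact Nat.le_of_dvd Nat.card_pos h6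
  rw [eq_top_iff]
  intro x _
  have hxM : QuotientGroup.mk' Q x ∈ M := by rw [hMtop]; trivial
  obtain ⟨h, hh, hhx⟩ := Subgroup.mem_map.1 hxM
  have hmem : h⁻¹ * x ∈ Q := by
    rw [← QuotientGroup.eq]
    exact hhx
  have hx : x = h * (h⁻¹ * x) := by group
  rw [hx]
  exact H.mul_mem hh (hQH hmem)

theorem hmin (Q : Subgroup X) [hQn : Q.Normal] (hC : Subgroup.centralizer (Q : Set X) ≤ Q)
    (i j : X) (hq : Q8F Q i j) (N : Subgroup X) (hN : N.Normal) (hNb : N ≠ ⊥) : i ^ 2 ∈ N := by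
  by_cases hNQ : N ⊓ Q = ⊥
  · exfalso
    apply hNb
    have hcomm : ∀ n ∈ N, ∀ q ∈ Q, q * n = n * q := by
      intro n hn q hqQ
      have h1 : n * q * n⁻¹ * q⁻¹ ∈ N ⊓ Q := by
        refine ⟨?_, ?_⟩
        · have : n * q * n⁻¹ * q⁻¹ = n * (q * n⁻¹ * q⁻¹) := by group
          rw [this]
          exact N.mul_mem hn (hN.conj_mem _ (N.inv_mem hn) q)
        · exact Q.mul_mem (hQn.conj_mem _ hqQ n) (Q.inv_mem hqQ)
      rw [hNQ, Subgroup.mem_bot] at h1
      have : n * q = q * n := by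
        calc n * q = (n * q * n⁻¹ * q⁻¹) * (q * n) := by group
          _ = q * n := by rw [h1, one_mul]
      exact this.symm
    have hNC : N ≤ Subgroup.centralizer (Q : Set X) := by
      intro n hn
      rw [Subgroup.mem_centralizer_iff]
      intro q hqQ
      exact hcomm n hn q hqQ
    have hNleQ : N ≤ Q := hNC.trans hC
    rw [← hNQ]
    exact (inf_eq_left.2 hNleQ).symm
  · obtain ⟨⟨x, hxN, hxQ⟩, hx1⟩ := (Subgroup.ne_bot_iff_exists_ne_one).1 hNQ
    rcases elem hq x hxQ with h | h | h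
    · exact absurd (Subtype.ext h) hx1
    · exact h ▸ hxN
    · exact h ▸ N.pow_mem hxN 2

end A4

/-- (A4) third step: cyclic renaming, generation, minimal normal subgroups. -/
theorem step3 [Finite X] (hcard : Nat.card X = 48) (Q : Subgroup X) [Q.Normal]
    (hC : Subgroup.centralizer (Q : Set X) ≤ Q)
    (i j c u : X) (hq : Q8F Q i j) (hc3 : c ^ 3 = 1) (hcQ : c ∉ Q) (hci : c * i * c⁻¹ = j)
    (hcj : c * j * c⁻¹ = i * j) (hu2 : u ^ 2 = 1) (hui : u * i * u⁻¹ = j⁻¹) (huj : u * j * u⁻¹ = i⁻¹)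
    (huc : u * c * u⁻¹ = c⁻¹) (huQ : u ∉ Q) :
    ∃ i' j' c' n : X, i' ^ 4 = 1 ∧ i' ^ 2 ≠ 1 ∧ j' ^ 2 = i' ^ 2 ∧ j' * i' * j'⁻¹ = i'⁻¹ ∧ c' ^ 3 = 1 ∧
      c' * i' * c'⁻¹ = j' ∧ c' * j' * c'⁻¹ = i' * j' ∧ n ^ 2 = 1 ∧ n * c' * n⁻¹ = c'⁻¹ ∧
      n * i' * n⁻¹ = i'⁻¹ ∧ n * j' * n⁻¹ = (i' * j')⁻¹ ∧
      Subgroup.closure ({i', j', c', n} : Set X) = ⊤ ∧
      ∀ N : Subgroup X, N.Normal → N ≠ ⊥ → i' ^ 2 ∈ N := by
  have hA := A4.ij_sq hq
  have hB := A4.iji hq
  refine ⟨i * j, i, c, u, ?_, ?_, ?_, ?_, hc3, ?_, ?_, hu2, huc, ?_, ?_,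
    A4.gen hcard Q i j c u hq hc3 hcQ hu2 huQ, ?_⟩
  · calc (i * j) ^ 4 = ((i * j) ^ 2) ^ 2 := by rw [← pow_mul]
      _ = 1 := by rw [hA, ← pow_mul]; exact hq.i4
  · rw [hA]; exact hq.i2
  · exact hA.symm
  · rw [eq_inv_iff_mul_eq_one]
    calc i * (i * j) * i⁻¹ * (i * j) = i ^ 2 * j ^ 2 := by
          simp only [pow_two, mul_assoc, inv_mul_cancel_left]
      _ = 1 := by rw [hq.j2, ← pow_add]; exact hq.i4
  · calc c * (i * j) * c⁻¹ = (c * i * c⁻¹) * (c * j * c⁻¹) := by group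
      _ = j * (i * j) := by rw [hci, hcj]
      _ = i⁻¹ * j ^ 2 := by rw [← mul_assoc, A4.ji' hq, mul_assoc, ← pow_two]
      _ = i := by rw [hq.j2, pow_two, inv_mul_cancel_left]
  · rw [hci, hB]
  · calc u * (i * j) * u⁻¹ = (u * i * u⁻¹) * (u * j * u⁻¹) := by group
      _ = (i * j)⁻¹ := by rw [hui, huj, mul_inv_rev]
  · rw [hui, hB]
  · intro N hN hNb
    rw [hA]
    exact A4.hmin Q hC i j hq N hN hNb

end Cfsg.Agent.H1.RecGL23
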