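import Cfsg.Agent.H2.LESComp
import Cfsg.Agent.Lib.helper3.LESR4b

/-!
# S5426 piece (R4c): `z ∈ E(G)` and `⟨z^G⟩ = F*(G)` when `O₂(G) = 1`
-/

set_option autoImplicit false
set_option linter.style.haveILetI false
set_option linter.unusedVariables false
set_option linter.unusedSectionVars false

namespace Cfsg.Agent.H2.LES

universe u
variable {G : Type u} [Group G] [Finite G] {Q : Subgroup G} {z : G}

/-- (R4c-1) -/
theorem Ctx.z_mem_layer (c : Ctx Q z) (h : Cfsg.pCore 2 G = ⊥) : z ∈ Cfsg.layer G := by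
  obtain ⟨K, hK⟩ := c.exists_component h
  have h1 := c.z_mem_orbit_join h K hK
  have h2 : (⨆ u : ↥Q, K.map (MulAut.conj (u : G)).toMonoidHom) ≤ Cfsg.layer G :=
    iSup_le (fun u => Cfsg.Agent.H2.component_le_layer (Cfsg.Agent.H2.component_conj hK (u : G)))
  exact h2 h1

/-- (R4c-2) `M = F*(G)`. -/
theorem Ctx.normalClosure_eq (c : Ctx Q z) (h : Cfsg.pCore 2 G = ⊥) :
    Subgroup.normalClosure ({z} : Set G) = Cfsg.generalizedFittingSubgroup G := by
  rw [c.gfs_eq_layer h]
  haveI hLn : (Cfsg.layer G).Normal := Cfsg.Agent.H2.layer_normal (G := G)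
  have hzM : z ∈ Subgroup.normalClosure ({z} : Set G) :=
    Subgroup.subset_normalClosure (Set.mem_singleton z)
  have hMs : (Subgroup.normalClosure ({z} : Set G)).IsSubnormal :=
    (Subgroup.normalClosure_normal (s := ({z} : Set G))).isSubnormal
  apply le_antisymm
  · apply Subgroup.normalClosure_le_normal
    intro x hx
    rw [Set.mem_singleton_iff] at hx
    rw [hx]
    exact c.z_mem_layer h
  · rw [Cfsg.Agent.H2.layer_le_iff]
    intro L hL
    rcases Cfsg.Agent.H2.component_le_or_commutator_eq_bot L _ hL hMs with h1 | h1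
    · exact h1
    · exfalso
      rw [Cfsg.Agent.H2.commutator_eq_bot_iff_forall_commute] at h1
      apply c.not_centralizes_all h
      intro K' hK' k hk
      obtain ⟨u, hu, rfl⟩ := c.transitive h L K' hL hK'
      obtain ⟨l, hl, rfl⟩ := hk
      have e1 : l * z = z * l := h1 l hl z hzM
      have e2 : z * u = u * z := c.zc u hu
      have e3 : z * u⁻¹ = u⁻¹ * z := by
        have : u⁻¹ * (z * u) * u⁻¹ = u⁻¹ * (u * z) * u⁻¹ := by rw [e2]
        simpa [mul_assoc] using this.symm
      show z * (u * l * u⁻¹) = (u * l * u⁻¹) * z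
      calc z * (u * l * u⁻¹) = (z * u) * l * u⁻¹ := by simp only [mul_assoc]
        _ = u * (z * l) * u⁻¹ := by rw [e2]; simp only [mul_assoc]
        _ = u * l * (z * u⁻¹) := by rw [← e1]; simp only [mul_assoc]
        _ = (u * l * u⁻¹) * z := by rw [e3]; simp only [mul_assoc]

end Cfsg.Agent.H2.LES
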