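import Mathlib
import Cfsg.Agent.H2.ClassProdA

/-!
# S4321 (p-singular class-size graph has diameter ≤ 3): working definitions
-/

set_option autoImplicit false

namespace Cfsg.Agent.Lib.Helper6.PSing

open Cfsg.Agent.H2.ClassProd

variable {G : Type*} [Group G]

/-- negation of the key claim for the pair `(a, b)`: no `p`-singular class size meets both
`cs a` and `cs b` -/
def NK (p : ℕ) (a b : G) : Prop :=
  ∀ w : G, p ∣ orderOf w → (cs w).Coprime (cs a) ∨ (cs w).Coprime (cs b)

/-- `a` is a nontrivial `p`-element -/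
def PEl (p : ℕ) (a : G) : Prop := a ≠ 1 ∧ ∃ k : ℕ, orderOf a = p ^ k

end Cfsg.Agent.Lib.Helper6.PSing
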