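import Cfsg.Agent.Lib.Helper6.GolayS5b
import Cfsg.Prelude.Def_Spor_Mathieu

/-!
# The two classes of `M11` inside `M12`
-/

set_option autoImplicit false

namespace Cfsg.Agent.Lib.Helper6.Golay

open Cfsg
open scoped Pointwise

set_option maxRecDepth 100000 in
theorem card_squareDodecad : Spor.squareDodecad.card = 12 := by
  unfold Spor.squareDodecad support₂ qrWord
  decide +kernel

theorem none_notMem_squareDodecad : (none : GolayPt) ∉ Spor.squareDodecad := by
  unfold Spor.squareDodecad support₂ qrWord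
  simp

theorem zero_mem_squareDodecad : (some 0 : GolayPt) ∈ Spor.squareDodecad := by
  unfold Spor.squareDodecad support₂ qrWord
  simp only [Finset.mem_filter, Finset.mem_univ, true_and]
  rw [if_pos ⟨0, by decide⟩]
  decide

theorem squareDodecad_mem : Spor.squareDodecad ∈ dodecads :=
  ⟨⟨qrWord 0, Submodule.subset_span (Or.inl ⟨0, rfl⟩), rfl⟩, card_squareDodecad⟩

theorem support₂_add_one_m11 (w : GolayPt → ZMod 2) :
    support₂ (w + fun _ => (1 : ZMod 2)) = (support₂ w)ᶜ := by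
  ext p
  simp only [support₂, Finset.mem_filter, Finset.mem_univ, true_and, Pi.add_apply,
    Finset.mem_compl, not_not]
  generalize w p = c
  revert c
  decide

theorem squareDodecad_compl_mem : Spor.squareDodecadᶜ ∈ dodecads := by
  refine ⟨⟨qrWord 0 + fun _ => (1 : ZMod 2), golayCode.add_mem
    (Submodule.subset_span (Or.inl ⟨0, rfl⟩)) (Submodule.subset_span (Or.inr rfl)),
    support₂_add_one_m11 _⟩, ?_⟩
  rw [Finset.card_compl, card_squareDodecad]; decide

theorem mem_SporM12 {g : Equiv.Perm GolayPt} :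
    g ∈ Spor.M12 ↔ g ∈ M24 ∧ g • Spor.squareDodecad = Spor.squareDodecad := by
  show g ∈ M24 ⊓ MulAction.stabilizer (Equiv.Perm GolayPt) Spor.squareDodecad ↔ _
  rw [Subgroup.mem_inf]
  exact Iff.rfl

theorem mem_SporM11 {g : Equiv.Perm GolayPt} :
    g ∈ Spor.M11 ↔ g ∈ M24 ∧ g • Spor.squareDodecad = Spor.squareDodecad ∧ g (some 0) = some 0 := by
  show g ∈ Spor.M12 ⊓ MulAction.stabilizer (Equiv.Perm GolayPt) (some 0 : GolayPt) ↔ _
  rw [Subgroup.mem_inf, mem_SporM12, and_assoc]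
  exact Iff.rfl

theorem mem_SporM11' {g : Equiv.Perm GolayPt} :
    g ∈ Spor.M12 ⊓ MulAction.stabilizer (Equiv.Perm GolayPt) (none : GolayPt) ↔
      g ∈ M24 ∧ g • Spor.squareDodecad = Spor.squareDodecad ∧ g none = none := by
  rw [Subgroup.mem_inf, mem_SporM12, and_assoc]
  exact Iff.rfl

theorem smul_compl_m11 (g : Equiv.Perm GolayPt) (s : Finset GolayPt) : g • sᶜ = (g • s)ᶜ := by
  rw [Finset.compl_eq_univ_sdiff, Finset.compl_eq_univ_sdiff, Finset.smul_finset_sdiff,
    Finset.smul_finset_univ]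

theorem mem_conj_smul {g h : Equiv.Perm GolayPt} {H : Subgroup (Equiv.Perm GolayPt)} :
    h ∈ MulAut.conj g • H ↔ g⁻¹ * h * g ∈ H := by
  rw [Subgroup.mem_pointwise_smul_iff_inv_smul_mem, MulAut.smul_def, MulAut.conj_inv_apply]

/-- conjugating `M11` by an element exchanging the dodecad of squares and its complement -/
theorem conj_M11_eq {g : Equiv.Perm GolayPt} (hg : g ∈ M24)
    (hgD : g • Spor.squareDodecad = Spor.squareDodecadᶜ) (hg0 : g (some 0) = none) :
    MulAut.conj g • Spor.M11 =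
      Spor.M12 ⊓ MulAction.stabilizer (Equiv.Perm GolayPt) (none : GolayPt) := by
  ext h
  rw [mem_conj_smul, mem_SporM11, mem_SporM11']
  have e1 : g⁻¹ * h * g ∈ M24 ↔ h ∈ M24 := by
    constructor
    · intro h1
      have := M24.mul_mem (M24.mul_mem hg h1) (M24.inv_mem hg)
      simpa [mul_assoc] using this
    · intro h1
      exact M24.mul_mem (M24.mul_mem (M24.inv_mem hg) h1) hg
  have e2 : (g⁻¹ * h * g) • Spor.squareDodecad = Spor.squareDodecad ↔
      h • Spor.squareDodecad = Spor.squareDodecad := by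
    rw [mul_smul, mul_smul, hgD, inv_smul_eq_iff, hgD, smul_compl_m11]
    exact compl_inj_iff
  have e3 : (g⁻¹ * h * g) (some 0) = some 0 ↔ h none = none := by
    rw [Equiv.Perm.mul_apply, Equiv.Perm.mul_apply, hg0, Equiv.Perm.inv_def, Equiv.symm_apply_eq, hg0]
  rw [e1, e2, e3]

theorem M11_two_main :
    Nonempty (↥(Spor.M12 ⊓ MulAction.stabilizer (Equiv.Perm GolayPt) (none : GolayPt)) ≃* ↥Spor.M11) ∧
    (¬ ∃ k ∈ Spor.M12, MulAut.conj k • Spor.M11 =
      Spor.M12 ⊓ MulAction.stabilizer (Equiv.Perm GolayPt) (none : GolayPt)) ∧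
    ∃ g ∈ M24, g • Spor.squareDodecad = Finset.univ \ Spor.squareDodecad ∧
      MulAut.conj g • Spor.M11 =
        Spor.M12 ⊓ MulAction.stabilizer (Equiv.Perm GolayPt) (none : GolayPt) := by
  have hnone : (none : GolayPt) ∈ Spor.squareDodecadᶜ :=
    Finset.mem_compl.mpr none_notMem_squareDodecad
  -- the exchanging element
  obtain ⟨t, ht, htD, ht0⟩ := exists_M24_dodecad_point squareDodecad_compl_mem hnone
  obtain ⟨t', ht', htD', ht0'⟩ := exists_M24_dodecad_point squareDodecad_mem zero_mem_squareDodecad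
  have hpt0 : pt 0 = (some 0 : GolayPt) := by decide
  have hg : t * t'⁻¹ ∈ M24 := M24.mul_mem ht (M24.inv_mem ht')
  have hgD : (t * t'⁻¹) • Spor.squareDodecad = Spor.squareDodecadᶜ := by
    calc (t * t'⁻¹) • Spor.squareDodecad = t • (t'⁻¹ • (t' • fs dodecad0)) := by
          rw [mul_smul, htD']
      _ = Spor.squareDodecadᶜ := by rw [inv_smul_smul, htD]
  have hg0 : (t * t'⁻¹) (some 0) = none := by
    rw [Equiv.Perm.mul_apply, ← ht0', Equiv.Perm.inv_def, Equiv.symm_apply_apply, ht0]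
  have hconj := conj_M11_eq hg hgD hg0
  refine ⟨?_, ?_, t * t'⁻¹, hg, ?_, hconj⟩
  · rw [← hconj]
    exact ⟨(Subgroup.equivSMul (MulAut.conj (t * t'⁻¹)) Spor.M11).symm⟩
  · rintro ⟨k, hk, hkconj⟩
    obtain ⟨hk24, hkD⟩ := mem_SporM12.mp hk
    have hq0 : k (some 0) ∈ Spor.squareDodecad := by
      rw [← hkD, ← Equiv.Perm.smul_def]
      exact Finset.smul_mem_smul_finset zero_mem_squareDodecad
    obtain ⟨q1, hq1, hq1ne⟩ : ∃ q1 ∈ Spor.squareDodecad, q1 ≠ k (some 0) := by
      have : 1 < Spor.squareDodecad.card := by rw [card_squareDodecad]; norm_num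
      obtain ⟨a, ha, b, hb, hab⟩ := Finset.one_lt_card.mp this
      by_cases h : a = k (some 0)
      · exact ⟨b, hb, fun h' => hab (h.trans h'.symm)⟩
      · exact ⟨a, ha, h⟩
    have hn0 : k (some 0) ∉ Spor.squareDodecadᶜ := by rw [Finset.mem_compl, not_not]; exact hq0
    have hn1 : q1 ∉ Spor.squareDodecadᶜ := by rw [Finset.mem_compl, not_not]; exact hq1
    obtain ⟨s1, hs1, hs1D, hs1p, hs1q, hs1q'⟩ :=
      exists_M24_dodecad_point_pair squareDodecad_compl_mem hnone hn0 hn1 (Ne.symm hq1ne)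
    obtain ⟨s2, hs2, hs2D, hs2p, hs2q, hs2q'⟩ :=
      exists_M24_dodecad_point_pair squareDodecad_compl_mem hnone hn1 hn0 hq1ne
    -- `h = s2 * s1⁻¹` fixes `none`, preserves the dodecad, and moves `k (some 0)` to `q1`
    have hh : s2 * s1⁻¹ ∈ Spor.M12 ⊓ MulAction.stabilizer (Equiv.Perm GolayPt) (none : GolayPt) := by
      rw [mem_SporM11']
      refine ⟨M24.mul_mem hs2 (M24.inv_mem hs1), ?_, ?_⟩
      · have : (s2 * s1⁻¹) • Spor.squareDodecadᶜ = Spor.squareDodecadᶜ := by
          calc (s2 * s1⁻¹) • Spor.squareDodecadᶜ = s2 • (s1⁻¹ • (s1 • fs dodecad0)) := by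
                rw [mul_smul, hs1D]
            _ = Spor.squareDodecadᶜ := by rw [inv_smul_smul, hs2D]
        rw [smul_compl_m11] at this
        exact compl_injective this
      · have : s1⁻¹ none = pt 0 := by rw [Equiv.Perm.inv_def, Equiv.symm_apply_eq, hs1p]
        rw [Equiv.Perm.mul_apply, this, hs2p]
    have hmove : (s2 * s1⁻¹) (k (some 0)) = q1 := by
      have : s1⁻¹ (k (some 0)) = pt 1 := by rw [Equiv.Perm.inv_def, Equiv.symm_apply_eq, hs1q]
      rw [Equiv.Perm.mul_apply, this, hs2q]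
    rw [← hkconj, mem_conj_smul, mem_SporM11] at hh
    have hfix := hh.2.2
    rw [Equiv.Perm.mul_apply, Equiv.Perm.mul_apply, hmove, Equiv.Perm.inv_def,
      Equiv.symm_apply_eq] at hfix
    exact hq1ne hfix
  · rw [hgD, Finset.compl_eq_univ_sdiff]

end Cfsg.Agent.Lib.Helper6.Golay
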