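import Cfsg.Agent.Lib.Helper6.GolayM12

/-!
# Consequences for an arbitrary dodecad: sharp 5-transitivity, `M11`
-/

set_option autoImplicit false

namespace Cfsg.Agent.Lib.Helper6.Golay

open Cfsg
open Cfsg.Agent.Lib.Helper6.PermChain
open scoped Pointwise

theorem perm_apply_inv (t : Equiv.Perm GolayPt) (p : GolayPt) : t (t⁻¹ p) = p :=
  t.apply_symm_apply p

theorem perm_inv_apply (t : Equiv.Perm GolayPt) (p : GolayPt) : t⁻¹ (t p) = p :=
  t.symm_apply_apply p

theorem mem_smul_iff_inv_mem (t : Equiv.Perm GolayPt) (s : Finset GolayPt) (p : GolayPt) :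
    p ∈ t • s ↔ t⁻¹ p ∈ s := by
  rw [← Finset.inv_smul_mem_iff]; rfl

/-- conjugating the stabilizer of `t • s` back to the stabilizer of `s` -/
theorem conj_smul_eq {t g : Equiv.Perm GolayPt} {s : Finset GolayPt} :
    (t⁻¹ * g * t) • s = s ↔ g • (t • s) = t • s := by
  rw [mul_smul, mul_smul, inv_smul_eq_iff]

/-- **The stabilizer of a dodecad is sharply 5-transitive on it** (permutation form). -/
theorem existsUnique_stab_dodecad {d : Finset GolayPt} (hd : d ∈ dodecads) (x y : Fin 5 ↪ GolayPt)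
    (hx : ∀ i, x i ∈ d) (hy : ∀ i, y i ∈ d) :
    ∃! g : Equiv.Perm GolayPt, (g ∈ M24 ∧ g • d = d) ∧ ∀ i, g (x i) = y i := by
  obtain ⟨t, ht, rfl⟩ := cwReach_dodecad hd
  let x' : Fin 5 ↪ GolayPt := x.trans (t⁻¹ : Equiv.Perm GolayPt).toEmbedding
  let y' : Fin 5 ↪ GolayPt := y.trans (t⁻¹ : Equiv.Perm GolayPt).toEmbedding
  have hx' : ∀ i, x' i ∈ fs dodecad0 := fun i => (mem_smul_iff_inv_mem t _ _).mp (hx i)
  have hy' : ∀ i, y' i ∈ fs dodecad0 := fun i => (mem_smul_iff_inv_mem t _ _).mp (hy i)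
  obtain ⟨g', hg', hgxy⟩ := exists_M12_map hasGens_M24 x' y' hx' hy'
  have hg'2 := mem_M12in.mp hg'
  refine ⟨t * g' * t⁻¹, ⟨⟨M24.mul_mem (M24.mul_mem ht hg'2.1) (M24.inv_mem ht), ?_⟩, ?_⟩, ?_⟩
  · rw [mul_smul, mul_smul, inv_smul_smul, hg'2.2]
  · intro i
    have := hgxy i
    simp only [x', y', Function.Embedding.trans_apply, Equiv.coe_toEmbedding] at this
    rw [Equiv.Perm.mul_apply, Equiv.Perm.mul_apply, this, perm_apply_inv]
  · rintro g2 ⟨⟨hg2, hg2d⟩, hg2xy⟩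
    have hmem : t⁻¹ * ((t * g' * t⁻¹)⁻¹ * g2) * t ∈ M12in M24 := by
      rw [mem_M12in]
      refine ⟨M24.mul_mem (M24.mul_mem (M24.inv_mem ht) (M24.mul_mem (M24.inv_mem
        (M24.mul_mem (M24.mul_mem ht hg'2.1) (M24.inv_mem ht))) hg2)) ht, ?_⟩
      rw [conj_smul_eq, mul_smul, hg2d, inv_smul_eq_iff, mul_smul, mul_smul, inv_smul_smul, hg'2.2]
    have hfix : ∀ i, (t⁻¹ * ((t * g' * t⁻¹)⁻¹ * g2) * t) (x' i) = x' i := by
      intro i
      have h1 := hgxy i
      simp only [x', y', Function.Embedding.trans_apply, Equiv.coe_toEmbedding] at h1 ⊢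
      simp only [Equiv.Perm.mul_apply, perm_apply_inv, perm_inv_apply, hg2xy i, mul_inv_rev, inv_inv]
      rw [← h1, perm_inv_apply]
    have h1 := eq_one_of_M12_fix hmem x' hx' hfix
    have h2 : (t * g' * t⁻¹)⁻¹ * g2 = 1 := by
      have := congrArg (fun z => t * z * t⁻¹) h1
      simpa [mul_assoc] using this
    exact (inv_mul_eq_one.mp h2).symm

/-- an element of `M24` carrying the reference dodecad and its first base point to a given
dodecad and a given point of it -/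
theorem exists_M24_dodecad_point {d : Finset GolayPt} (hd : d ∈ dodecads) {p : GolayPt}
    (hp : p ∈ d) : ∃ t ∈ M24, t • fs dodecad0 = d ∧ t (pt 0) = p := by
  obtain ⟨t, ht, rfl⟩ := cwReach_dodecad hd
  have hp' : t⁻¹ p ∈ D12 := (mem_smul_iff_inv_mem t _ _).mp hp
  obtain ⟨h, hh, hhp⟩ := chain12 hasGens_M24 0 (by decide) _ hp' (by simp)
  have hh2 := mem_M12in.mp (fixL_le _ _ hh)
  refine ⟨t * h, M24.mul_mem ht hh2.1, ?_, ?_⟩
  · rw [mul_smul, hh2.2]
  · have e : bs12[0]'(by decide) = pt 0 := by decide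
    rw [e] at hhp
    rw [Equiv.Perm.mul_apply, hhp, perm_apply_inv]

/-- `M11`: the stabilizer of a dodecad and one of its points has order 7920 -/
theorem card_stab_dodecad_point {d : Finset GolayPt} (hd : d ∈ dodecads) {p : GolayPt}
    (hp : p ∈ d) :
    Nat.card ↥(MulAction.stabilizer M24 d ⊓ MulAction.stabilizer M24 p) = 7920 := by
  obtain ⟨t, ht, rfl, rfl⟩ := exists_M24_dodecad_point hd hp
  rw [← card_fixL_M12_vals.1]
  have e : bs12.take 1 = [pt 0] := by decide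
  rw [e]
  apply Nat.card_congr
  refine ⟨fun g => ⟨t⁻¹ * g.1.1 * t, ?_⟩, fun h => ⟨⟨t * h.1 * t⁻¹, ?_⟩, ?_⟩, ?_, ?_⟩
  · have hg := g.2
    rw [Subgroup.mem_inf, MulAction.mem_stabilizer_iff, MulAction.mem_stabilizer_iff] at hg
    rw [mem_fixL, mem_M12in]
    refine ⟨⟨M24.mul_mem (M24.mul_mem (M24.inv_mem ht) g.1.2) ht, ?_⟩, ?_⟩
    · rw [conj_smul_eq]; exact hg.1
    · intro q hq
      rw [List.mem_singleton] at hq
      subst hq
      have h2 : g.1.1 (t (pt 0)) = t (pt 0) := hg.2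
      rw [Equiv.Perm.mul_apply, Equiv.Perm.mul_apply, h2, perm_inv_apply]
  · have hh := mem_fixL.mp h.2
    exact M24.mul_mem (M24.mul_mem ht (mem_M12in.mp hh.1).1) (M24.inv_mem ht)
  · have hh := mem_fixL.mp h.2
    refine Subgroup.mem_inf.mpr ⟨MulAction.mem_stabilizer_iff.mpr ?_, MulAction.mem_stabilizer_iff.mpr ?_⟩
    · show (t * h.1 * t⁻¹) • (t • fs dodecad0) = t • fs dodecad0
      rw [mul_smul, mul_smul, inv_smul_smul, (mem_M12in.mp hh.1).2]
    · show (t * h.1 * t⁻¹) (t (pt 0)) = t (pt 0)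
      rw [Equiv.Perm.mul_apply, Equiv.Perm.mul_apply, perm_inv_apply,
        hh.2 _ (List.mem_singleton.mpr rfl)]
  · intro g
    apply Subtype.ext
    apply Subtype.ext
    simp [mul_assoc]
  · intro h
    apply Subtype.ext
    simp [mul_assoc]

end Cfsg.Agent.Lib.Helper6.Golay
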