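import Cfsg.Agent.Lib.Helper6.GolayStab

/-!
# A base and strong generating set for `M24`: order, transitivity, generation
-/

set_option autoImplicit false

namespace Cfsg.Agent.Lib.Helper6.Golay

open Cfsg
open Cfsg.Agent.Lib.Helper6.PermChain
open scoped Pointwise

def alphaL : List ℕ := [1, 2, 3, 4, 5, 6, 7, 8, 9, 10, 11, 12, 13, 14, 15, 16, 17, 18, 19, 20, 21, 22, 0, 23]

def gammaL : List ℕ := [23, 22, 11, 15, 17, 9, 19, 13, 20, 5, 16, 2, 21, 7, 18, 3, 10, 4, 14, 6, 8, 12, 1, 0]

def deltaL : List ℕ := [0, 18, 6, 3, 2, 21, 1, 5, 16, 12, 7, 19, 8, 9, 17, 15, 13, 11, 4, 22, 10, 20, 14, 23]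

def baseL : List ℕ := [23, 0, 1, 2, 3, 5, 4]

def progL : List (ℕ × ℕ) := [(1, 1), (3, 1), (4, 0), (5, 1), (6, 2), (7, 2), (3, 0), (9, 0), (10, 0), (0, 1), (12, 2), (13, 1), (14, 2), (15, 2), (16, 2), (17, 2), (18, 0), (19, 1), (20, 0), (21, 2), (22, 0), (8, 23), (11, 24), (3, 1), (26, 0), (27, 2), (3, 0), (29, 25), (3, 2), (31, 2), (32, 25), (33, 25), (23, 0), (35, 1), (36, 1), (37, 0), (38, 1), (28, 39), (30, 40), (34, 41), (3, 1), (43, 0), (44, 0), (3, 0), (46, 2), (47, 25), (48, 0), (3, 25), (3, 42), (39, 0), (52, 2), (53, 0), (54, 0), (55, 2), (56, 0), (57, 1), (58, 1), (59, 0), (60, 1), (61, 0), (45, 62), (49, 63), (50, 64), (51, 65), (3, 1), (67, 0), (68, 2), (69, 25), (3, 0), (71, 25), (72, 25), (3, 2), (74, 2), (75, 25), (76, 25), (3, 42), (78, 42), (79, 66), (80, 42), (3, 66), (62, 0), (83, 2), (84, 2), (85, 1), (70, 86), (73, 87), (77, 88), (81, 89), (82, 90), (3, 1), (92, 0), (93, 2), (94, 25), (3, 0), (96, 2), (3, 2), (98, 25), (99, 42), (3, 42), (101, 66), (102, 42), (3, 66),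 (104, 66), (105, 66), (106, 91), (107, 91), (3, 91), (86, 0), (110, 0), (111, 0), (112, 0), (113, 0), (114, 0), (115, 1), (116, 1), (117, 0), (118, 2), (95, 119), (97, 120), (100, 121), (103, 122), (108, 123), (109, 124), (3, 1), (126, 0), (127, 2), (128, 25), (3, 0), (130, 2), (131, 91), (3, 25), (3, 42), (134, 66), (3, 66), (119, 0), (137, 2), (138, 0), (139, 1), (140, 1), (141, 0), (129, 142), (132, 143), (133, 144), (135, 145), (136, 146), (3, 1), (148, 0), (149, 2), (150, 91), (3, 0), (152, 42), (153, 0), (3, 2), (155, 25), (156, 147), (3, 42), (158, 42), (159, 42), (160, 42), (3, 66), (162, 66), (163, 91), (142, 1), (165, 0), (166, 0), (167, 1), (168, 0), (169, 1), (170, 1), (171, 2), (151, 172), (154, 173), (157, 174), (161, 175), (164, 176), (3, 1), (178, 0), (179, 0), (180, 25), (3, 0), (182, 66), (3, 2), (184, 91), (185, 125), (3, 42), (187, 42), (188, 125), (3, 66), (190, 91), (191, 91), (192, 125), (3, 91), (172, 0), (195, 2), (196, 2), (197, 2), (198, 1), (199, 0), (200, 1),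 (201, 1), (202, 1), (203, 1), (204, 2), (205, 1), (206, 1), (207, 1), (208, 2), (209, 0), (210, 0), (181, 211), (183, 212), (186, 213), (189, 214), (193, 215), (194, 216)]

def treesL : List (List (ℕ × ℕ)) := [[(23, 1), (0, 0), (1, 0), (1, 1), (1, 2), (1, 25), (2, 0), (2, 1), (2, 2), (2, 25), (22, 2), (22, 25), (22, 42), (22, 66), (22, 91), (22, 147), (22, 177), (22, 217), (18, 0), (20, 0), (20, 42), (20, 177), (11, 42)],
  [(0, 0), (1, 0), (1, 2), (1, 25), (2, 0), (2, 2), (2, 25), (18, 0), (18, 2), (18, 42), (18, 66), (18, 91), (18, 125), (18, 217), (20, 0), (20, 2), (20, 42), (20, 66), (20, 177), (9, 42), (19, 91), (22, 25)],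
  [(1, 2), (1, 25), (18, 2), (18, 25), (18, 42), (18, 66), (18, 91), (18, 125), (18, 147), (18, 217), (20, 2), (20, 42), (20, 66), (20, 91), (20, 177), (4, 25), (4, 147), (2, 42), (8, 147), (22, 2), (22, 25)],
  [(2, 42), (3, 42), (3, 66), (9, 42), (9, 66), (9, 91), (9, 147), (9, 217), (7, 42), (7, 66), (7, 147), (7, 177), (7, 217), (14, 42), (10, 125), (19, 66), (19, 91), (4, 66), (22, 66), (22, 217)],
  [(3, 66), (7, 66), (7, 91), (7, 125), (7, 147), (7, 177), (7, 217), (17, 66), (17, 91), (4, 66), (4, 91), (4, 177), (4, 217), (9, 91), (9, 217), (11, 177), (21, 66), (21, 91), (6, 147)],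
  [(5, 91), (14, 91)],
  [(4, 125), (4, 147), (4, 177), (4, 217), (11, 147), (11, 177), (11, 217), (9, 177), (9, 217), (18, 217), (7, 177), (7, 217), (16, 217), (19, 217), (20, 217)]]

def orbsL : List (List ℕ) := [[0, 1, 2, 3, 4, 5, 6, 7, 8, 9, 10, 11, 12, 13, 14, 15, 16, 17, 18, 19, 20, 21, 22, 23],
  [0, 1, 2, 3, 4, 5, 6, 7, 8, 9, 10, 11, 12, 13, 14, 15, 16, 17, 18, 19, 20, 21, 22],
  [1, 2, 3, 4, 5, 6, 7, 8, 9, 10, 11, 12, 13, 14, 15, 16, 17, 18, 19, 20, 21, 22],
  [2, 3, 4, 5, 6, 7, 8, 9, 10, 11, 12, 13, 14, 15, 16, 17, 18, 19, 20, 21, 22],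
  [3, 4, 5, 6, 7, 8, 9, 10, 11, 12, 13, 14, 15, 16, 17, 18, 19, 20, 21, 22],
  [5, 14, 17],
  [4, 6, 7, 8, 9, 10, 11, 12, 13, 15, 16, 18, 19, 20, 21, 22]]

def closeL : List (ℕ × ℕ) := [(12656663, 5275709), (12656663, 14688364), (3416079, 6832158), (11100169, 12656663), (11100169, 2826278), (9347075, 10305542), (9347075, 11952160), (9347075, 1302533), (1302533, 11100169), (1302533, 10305542), (15515712, 6447171), (14254209, 5709954), (4038912, 11731203), (8077824, 6857221), (7767041, 16262146), (14919680, 7145475), (13062145, 4845570)]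

def baseMask : ℕ := 8388671

def octad0 : ℕ := 8536111

/-- the elements of the straight-line program -/
def EL : List (List ℕ) := slpRun [alphaL, gammaL, deltaL] progL

/-- a subgroup containing the three standard generators -/
structure HasGens (H : Subgroup (Equiv.Perm GolayPt)) : Prop where
  a : Equiv.optionCongr (Equiv.addRight (1 : ZMod 23)) ∈ H
  c : projInv ∈ H
  d : cubeTwist ∈ H

theorem alpha_eq : ∀ p, Equiv.optionCongr (Equiv.addRight (1 : ZMod 23)) p = lfun alphaL p := by
  decide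

theorem gamma_eq : ∀ p, projInv p = lfun gammaL p := by decide

theorem delta_eq : ∀ p, cubeTwist p = lfun deltaL p := by
  intro p
  rw [cubeTwist, Equiv.ofBijective_apply]
  revert p
  decide

theorem rep_EL {H : Subgroup (Equiv.Perm GolayPt)} (hH : HasGens H) : ∀ l ∈ EL, Rep H l := by
  apply rep_slpRun
  intro l hl
  simp only [List.mem_cons, List.not_mem_nil, or_false] at hl
  rcases hl with rfl | rfl | rfl
  · exact Rep.of_mem hH.a _ (by decide) alpha_eq
  · exact Rep.of_mem hH.c _ (by decide) gamma_eq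
  · exact Rep.of_mem hH.d _ (by decide) delta_eq

set_option maxHeartbeats 4000000 in
theorem chain_ok : chainCheck EL baseL treesL orbsL = true := by decide +kernel

set_option maxHeartbeats 4000000 in
theorem close_ok : closeRun (maskL baseL) closeL = 2 ^ 24 - 1 := by decide +kernel

/-- the first `k` base points -/
def Lk (k : ℕ) : List GolayPt := (baseL.take k).map pt

/-- the `k`-th base point -/
def bk (k : ℕ) : GolayPt := pt (baseL.getD k 0)

/-- the `k`-th basic orbit -/
def orbk (k : ℕ) : Finset GolayPt := ((orbsL.getD k []).map pt).toFinset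

theorem Lk_succ (k : ℕ) (hk : k < 7) : Lk k ++ [bk k] = Lk (k + 1) := by
  interval_cases k <;> decide

/-- lower bound: every point of the basic orbit is reached -/
theorem exists_of_mem_orbk {H : Subgroup (Equiv.Perm GolayPt)} (hH : HasGens H) (k : ℕ) (hk : k < 7)
    (q : GolayPt) (hq : q ∈ orbk k) : ∃ g ∈ fixL H (Lk k), g (bk k) = q := by
  rw [orbk, List.mem_toFinset, List.mem_map] at hq
  obtain ⟨q', hq', rfl⟩ := hq
  obtain ⟨_, g, hg, hgq⟩ := reach_of_chainCheck (rep_EL hH) chain_ok k hk q' hq'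
  exact ⟨g, hg, hgq⟩

theorem fixL7_eq_bot {H : Subgroup (Equiv.Perm GolayPt)} (hH : H ≤ M24) : fixL H (Lk 7) = ⊥ :=
  fixL_eq_bot_of_cert hH baseL closeL close_ok

theorem octad0_mem : fs octad0 ∈ octads := fs_mem_octads (by decide +kernel) (by decide +kernel)

theorem smul_octad0 {H : Subgroup (Equiv.Perm GolayPt)} (hH : H ≤ M24) {k : ℕ} (hk : 5 ≤ k)
    {g : Equiv.Perm GolayPt} (hg : g ∈ fixL H (Lk k)) : g • fs octad0 = fs octad0 := by
  have hg5 : ∀ p ∈ (Lk 5).toFinset, g p = p := by
    intro p hp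
    rw [List.mem_toFinset] at hp
    apply (mem_fixL.mp hg).2
    rw [Lk, List.mem_map] at hp ⊢
    obtain ⟨i, hi, rfl⟩ := hp
    exact ⟨i, List.mem_of_mem_take (by rw [List.take_take, min_eq_left hk]; exact hi), rfl⟩
  apply smul_octad_eq (hH (fixL_le H _ hg)) octad0_mem hg5
  decide

/-- upper bound: the image of the base point lies in the basic orbit -/
theorem mem_orbk_of_fixL {H : Subgroup (Equiv.Perm GolayPt)} (hH : H ≤ M24) (k : ℕ) (hk : k < 7)
    (g : Equiv.Perm GolayPt) (hg : g ∈ fixL H (Lk k)) : g (bk k) ∈ orbk k := by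
  have hnm : bk k ∉ Lk k := by interval_cases k <;> decide
  have h1 := apply_not_mem_of_fixL hg hnm
  by_cases hk5 : k < 5
  · have : ∀ q, q ∉ Lk k → q ∈ orbk k := by interval_cases k <;> decide
    exact this _ h1
  · have hO := smul_octad0 hH (not_lt.mp hk5) hg
    have h2 := @mem_of_smul_eq g _ hO (bk k)
    have hk' : k = 5 ∨ k = 6 := by omega
    rcases hk' with rfl | rfl
    · have h3 : bk 5 ∈ fs octad0 := by decide
      have : ∀ q, q ∈ fs octad0 → q ∉ Lk 5 → q ∈ orbk 5 := by decide
      exact this _ (h2.mpr h3) h1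
    · have h3 : bk 6 ∉ fs octad0 := by decide
      have : ∀ q, q ∉ fs octad0 → q ∈ orbk 6 := by decide
      exact this _ (fun h => h3 (h2.mp h))

theorem card_fixL_Lk {H : Subgroup (Equiv.Perm GolayPt)} (hH : HasGens H) (hle : H ≤ M24) (k : ℕ)
    (hk : k < 7) : Nat.card (fixL H (Lk k)) = (orbk k).card * Nat.card (fixL H (Lk (k + 1))) := by
  rw [← Lk_succ k hk]
  exact card_fixL_step H (Lk k) (bk k) (orbk k) (exists_of_mem_orbk hH k hk)
    (mem_orbk_of_fixL hle k hk)

theorem card_orbk : (List.range 7).map (fun k => (orbk k).card) = [24, 23, 22, 21, 20, 3, 16] := by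
  decide

/-- any subgroup of `M24` containing the three generators has the order of `M24` -/
theorem card_of_hasGens {H : Subgroup (Equiv.Perm GolayPt)} (hH : HasGens H) (hle : H ≤ M24) :
    Nat.card H = 244823040 := by
  have h0 := card_fixL_Lk hH hle 0 (by norm_num)
  have h1 := card_fixL_Lk hH hle 1 (by norm_num)
  have h2 := card_fixL_Lk hH hle 2 (by norm_num)
  have h3 := card_fixL_Lk hH hle 3 (by norm_num)
  have h4 := card_fixL_Lk hH hle 4 (by norm_num)
  have h5 := card_fixL_Lk hH hle 5 (by norm_num)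
  have h6 := card_fixL_Lk hH hle 6 (by norm_num)
  have h7 : Nat.card (fixL H (Lk 7)) = 1 := by rw [fixL7_eq_bot hle]; exact Subgroup.card_bot
  have e0 : fixL H (Lk 0) = H := fixL_nil H
  have c0 : (orbk 0).card = 24 := by decide
  have c1 : (orbk 1).card = 23 := by decide
  have c2 : (orbk 2).card = 22 := by decide
  have c3 : (orbk 3).card = 21 := by decide
  have c4 : (orbk 4).card = 20 := by decide
  have c5 : (orbk 5).card = 3 := by decide
  have c6 : (orbk 6).card = 16 := by decide
  rw [e0] at h0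
  rw [h0, h1, h2, h3, h4, h5, h6, h7, c0, c1, c2, c3, c4, c5, c6]

set_option maxHeartbeats 4000000 in
theorem hasGens_M24 : HasGens M24 where
  a := mem_M24_of_checkFun _ (by decide +kernel)
  c := mem_M24_of_checkFun _ (by decide +kernel)
  d := mem_M24_of_checkFun _ (by decide +kernel)

/-- **The order of `M24`.** -/
theorem card_M24 : Nat.card M24 = 244823040 := card_of_hasGens hasGens_M24 le_rfl

/-- **`M24` is generated by the three standard permutations.** -/
theorem closure_eq_M24 :
    Subgroup.closure {Equiv.optionCongr (Equiv.addRight (1 : ZMod 23)), projInv, cubeTwist} = M24 := by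
  have hle : Subgroup.closure {Equiv.optionCongr (Equiv.addRight (1 : ZMod 23)), projInv, cubeTwist}
      ≤ M24 := by
    rw [Subgroup.closure_le]
    rintro x (rfl | rfl | rfl)
    · exact hasGens_M24.a
    · exact hasGens_M24.c
    · exact hasGens_M24.d
  have hg : HasGens (Subgroup.closure
      {Equiv.optionCongr (Equiv.addRight (1 : ZMod 23)), projInv, cubeTwist}) :=
    ⟨Subgroup.subset_closure (by simp), Subgroup.subset_closure (by simp),
      Subgroup.subset_closure (by simp)⟩
  apply Subgroup.eq_of_le_of_card_ge hle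
  rw [card_M24, card_of_hasGens hg hle]

/-- the chain hypothesis for the first `n ≤ 5` levels -/
theorem chain_M24 (n : ℕ) (hn : n ≤ 5) :
    ∀ k (hk : k < (Lk n).length), ∀ q, q ∉ (Lk n).take k →
      ∃ g ∈ fixL M24 ((Lk n).take k), g ((Lk n)[k]) = q := by
  intro k hk q hq
  have hlen : (Lk n).length = n := by
    rw [Lk, List.length_map, List.length_take]
    have : baseL.length = 7 := rfl
    omega
  rw [hlen] at hk
  have e1 : (Lk n).take k = Lk k := by
    rw [Lk, ← List.map_take, List.take_take, min_eq_left hk.le]; rfl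
  have e2 : (Lk n)[k] = bk k := by
    simp only [Lk, bk, List.getElem_map, List.getElem_take]
    rw [List.getD_eq_getElem]
  rw [e1] at hq ⊢
  rw [e2]
  have hk5 : k < 5 := by omega
  apply exists_of_mem_orbk hasGens_M24 k (by omega) q
  have : ∀ q, q ∉ Lk k → q ∈ orbk k := by interval_cases k <;> decide
  exact this q hq

/-- **`M24` is 5-transitive.** -/
theorem M24_five_transitive : MulAction.IsMultiplyPretransitive M24 GolayPt 5 :=
  isMultiplyPretransitive_of_chain M24 (Lk 5) 5 rfl (chain_M24 5 le_rfl)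

/-- any two injective `n`-tuples (`n ≤ 5`) are conjugate under `M24`. -/
theorem exists_M24_map {n : ℕ} (hn : n ≤ 5) (x y : Fin n ↪ GolayPt) :
    ∃ g ∈ M24, ∀ i, g (x i) = y i := by
  have hlen : (Lk n).length = n := by
    rw [Lk, List.length_map, List.length_take]
    have : baseL.length = 7 := rfl
    omega
  have := exists_map_of_chain M24 (Lk n) (chain_M24 n hn)
  rw [hlen] at this
  exact this x y

/-- an embedding of `Fin n` onto a finset of cardinality `n` -/
theorem exists_embedding_of_card {s : Finset GolayPt} {n : ℕ} (hs : s.card = n) :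
    ∃ x : Fin n ↪ GolayPt, ∀ p, p ∈ s ↔ ∃ i, x i = p := by
  classical
  refine ⟨(s.equivFinOfCardEq hs).symm.toEmbedding.trans (Function.Embedding.subtype _), ?_⟩
  intro p
  constructor
  · intro hp
    refine ⟨s.equivFinOfCardEq hs ⟨p, hp⟩, ?_⟩
    simp only [Function.Embedding.trans_apply, Equiv.coe_toEmbedding, Equiv.symm_apply_apply,
      Function.Embedding.subtype_apply]
  · rintro ⟨i, rfl⟩
    simp only [Function.Embedding.trans_apply, Equiv.coe_toEmbedding,
      Function.Embedding.subtype_apply]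
    exact Subtype.coe_prop _

/-- **`M24` is transitive on octads.** -/
theorem exists_M24_octad {o o' : Finset GolayPt} (ho : o ∈ octads) (ho' : o' ∈ octads) :
    ∃ g ∈ M24, g • o = o' := by
  obtain ⟨s, hs, hsc⟩ := Finset.exists_subset_card_eq (show 5 ≤ o.card by rw [ho.2]; norm_num)
  obtain ⟨s', hs', hsc'⟩ := Finset.exists_subset_card_eq (show 5 ≤ o'.card by rw [ho'.2]; norm_num)
  obtain ⟨x, hx⟩ := exists_embedding_of_card hsc
  obtain ⟨y, hy⟩ := exists_embedding_of_card hsc'
  obtain ⟨g, hg, hgxy⟩ := exists_M24_map le_rfl x y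
  refine ⟨g, hg, ?_⟩
  apply octad_unique (smul_mem_octads hg ho) ho' hsc'
  · intro p hp
    rw [Finset.mem_smul_finset]
    obtain ⟨i, rfl⟩ := (hy p).mp hp
    exact ⟨x i, hs ((hx _).mpr ⟨i, rfl⟩), hgxy i⟩
  · exact hs'

/-- the orders of the stabilizers of the base chain -/
theorem card_fixL_chain {H : Subgroup (Equiv.Perm GolayPt)} (hH : HasGens H) (hle : H ≤ M24) :
    Nat.card (fixL H (Lk 1)) = 10200960 ∧ Nat.card (fixL H (Lk 2)) = 443520 ∧
    Nat.card (fixL H (Lk 3)) = 20160 ∧ Nat.card (fixL H (Lk 4)) = 960 ∧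
    Nat.card (fixL H (Lk 5)) = 48 ∧ Nat.card (fixL H (Lk 6)) = 16 := by
  have h1 := card_fixL_Lk hH hle 1 (by norm_num)
  have h2 := card_fixL_Lk hH hle 2 (by norm_num)
  have h3 := card_fixL_Lk hH hle 3 (by norm_num)
  have h4 := card_fixL_Lk hH hle 4 (by norm_num)
  have h5 := card_fixL_Lk hH hle 5 (by norm_num)
  have h6 := card_fixL_Lk hH hle 6 (by norm_num)
  have h7 : Nat.card (fixL H (Lk 7)) = 1 := by rw [fixL7_eq_bot hle]; exact Subgroup.card_bot
  have c1 : (orbk 1).card = 23 := by decide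
  have c2 : (orbk 2).card = 22 := by decide
  have c3 : (orbk 3).card = 21 := by decide
  have c4 : (orbk 4).card = 20 := by decide
  have c5 : (orbk 5).card = 3 := by decide
  have c6 : (orbk 6).card = 16 := by decide
  rw [c1] at h1; rw [c2] at h2; rw [c3] at h3; rw [c4] at h4; rw [c5] at h5; rw [c6, h7] at h6
  rw [h6] at h5; rw [h5] at h4; rw [h4] at h3; rw [h3] at h2; rw [h2] at h1
  exact ⟨h1, h2, h3, h4, h5, h6⟩

/-- the pointwise stabilizer of an injective `n`-tuple is conjugate to that of the base -/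
theorem card_fixL_pair {p q : GolayPt} (hpq : p ≠ q) : Nat.card (fixL M24 [p, q]) = 443520 := by
  have hb : bk 0 ≠ bk 1 := by decide
  let x : Fin 2 ↪ GolayPt := ⟨![bk 0, bk 1], by
    intro i j h; fin_cases i <;> fin_cases j <;> simp_all⟩
  let y : Fin 2 ↪ GolayPt := ⟨![p, q], by
    intro i j h; fin_cases i <;> fin_cases j <;> simp_all⟩
  obtain ⟨g, hg, hgxy⟩ := exists_M24_map (by norm_num) x y
  have h0 : g (bk 0) = p := hgxy 0
  have h1 : g (bk 1) = q := hgxy 1
  have : [p, q] = (Lk 2).map g := by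
    rw [← h0, ← h1]; rfl
  rw [this, card_fixL_map M24 hg]
  exact (card_fixL_chain hasGens_M24 le_rfl).2.1

theorem card_fixL_single (p : GolayPt) : Nat.card (fixL M24 [p]) = 10200960 := by
  let x : Fin 1 ↪ GolayPt := ⟨![bk 0], by intro i j _; exact Subsingleton.elim _ _⟩
  let y : Fin 1 ↪ GolayPt := ⟨![p], by intro i j _; exact Subsingleton.elim _ _⟩
  obtain ⟨g, hg, hgxy⟩ := exists_M24_map (by norm_num) x y
  have h0 : g (bk 0) = p := hgxy 0
  have : [p] = (Lk 1).map g := by
    rw [← h0]; rfl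
  rw [this, card_fixL_map M24 hg]
  exact (card_fixL_chain hasGens_M24 le_rfl).1

/-! ### `M24` is the automorphism group of the octad system -/

theorem comboAux_induction (P : (GolayPt → ZMod 2) → Prop) (h0 : P 0)
    (hadd : ∀ v w, P v → P w → P (v + w)) (bs : List ℕ) (h : ∀ b ∈ bs, P (dec b)) (i m : ℕ) :
    P (dec (comboAux bs i m)) := by
  induction bs generalizing i with
  | nil => simp only [comboAux]; rw [dec_zero]; exact h0
  | cons x xs ih =>
    simp only [comboAux]
    rw [dec_xor]
    refine hadd _ _ ?_ (ih (fun b hb => h b (List.mem_cons_of_mem _ hb)) _)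
    split_ifs
    · exact h x (List.mem_cons_self)
    · rw [dec_zero]; exact h0

/-- induction principle: the code is generated by the twelve basis octads -/
theorem golayCode_induction (P : (GolayPt → ZMod 2) → Prop) (h0 : P 0)
    (hadd : ∀ v w, P v → P w → P (v + w)) (h : ∀ b ∈ basis, P (dec b)) :
    ∀ w ∈ golayCode, P w := by
  intro w hw
  obtain ⟨m, _, rfl⟩ := (mem_golayCode_iff w).mp hw
  exact comboAux_induction P h0 hadd basis h 0 m

theorem basis_octads : ∀ b ∈ basis, inCode b = true ∧ pc 24 b = 8 := by decide +kernel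

theorem mem_M24_of_smul_octads {g : Equiv.Perm GolayPt} (h : ∀ o ∈ octads, g • o ∈ octads) :
    g ∈ M24 := by
  apply mem_M24_of_forall
  apply golayCode_induction
  · exact Submodule.zero_mem _
  · intro v w hv hw
    rw [comp_symm_add]; exact Submodule.add_mem _ hv hw
  · intro b hb
    obtain ⟨h1, h2⟩ := basis_octads b hb
    have ho := h _ (fs_mem_octads h1 h2)
    rw [← support₂_dec, smul_support₂] at ho
    obtain ⟨⟨v, hv, hvs⟩, _⟩ := ho
    rw [← support₂_injective hvs]; exact hv

/-- **`M24` is the full automorphism group of the octad system.** -/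
theorem M24_eq_setSystemAut : M24 = setSystemAut octads := by
  ext g
  have hfin : (octads : Set (Finset GolayPt)).Finite := Set.toFinite _
  rw [MulAction.mem_stabilizer_set_iff_smul_set_subset hfin]
  constructor
  · intro hg o ho
    obtain ⟨o', ho', rfl⟩ := ho
    exact smul_mem_octads hg ho'
  · intro h
    apply mem_M24_of_smul_octads
    intro o ho
    exact h (Set.smul_mem_smul_set ho)

end Cfsg.Agent.Lib.Helper6.Golay
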