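import Mathlib
import Cfsg.Prelude.Def_KGroupFacts

/-! Automorphisms of permutation groups whose point stabilisers are recognisable: every automorphism
is induced by a permutation of the points normalising the group. -/

set_option autoImplicit false

namespace Cfsg.Agent.Lib.Helper6.OutGeneric

open MulAction

section perm

variable {G X : Type*} [Group G] [MulAction G X] [Finite X]

/-- an automorphism permutes the point stabilisers, hence the points -/
theorem exists_perm_of_aut [IsPretransitive G X]
    (h2 : ∀ H : Subgroup G, H.index = Nat.card X → ∃ x : X, H = stabilizer G x)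
    (h3 : ∀ x y : X, stabilizer G x = stabilizer G y → x = y) (φ : G ≃* G) :
    ∃ π : Equiv.Perm X, ∀ (g : G) (x : X), π (g • x) = φ g • π x := by
  classical
  have hex : ∀ x : X, ∃ y : X, (stabilizer G x).map (φ : G →* G) = stabilizer G y := by
    intro x
    apply h2
    rw [Subgroup.index_map_equiv, index_stabilizer_of_transitive]
  choose f hf using hex
  have hinj : Function.Injective f := by
    intro x x' hxx
    apply h3
    have h1 := hf x
    rw [hxx, ← hf x'] at h1
    exact Subgroup.map_injective φ.injective h1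
  have hbij : Function.Bijective f := Finite.injective_iff_bijective.1 hinj
  refine ⟨Equiv.ofBijective f hbij, fun g x => ?_⟩
  show f (g • x) = φ g • f x
  apply h3
  rw [← hf (g • x), stabilizer_smul_eq_stabilizer_map_conj, stabilizer_smul_eq_stabilizer_map_conj,
    ← hf x, Subgroup.map_map, Subgroup.map_map]
  congr 1
  ext k
  simp [MulAut.conj_apply]

end perm

section subgroup

variable {X : Type*} [Finite X] (G : Subgroup (Equiv.Perm X))

/-- every automorphism is inner when the normaliser in the symmetric group is the group itself -/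
theorem inner_of_perm [IsPretransitive G X]
    (h2 : ∀ H : Subgroup G, H.index = Nat.card X → ∃ x : X, H = stabilizer G x)
    (h3 : ∀ x y : X, stabilizer G x = stabilizer G y → x = y)
    (h4 : ∀ π : Equiv.Perm X, (∀ g ∈ G, π * g * π⁻¹ ∈ G) → (∀ g ∈ G, π⁻¹ * g * π ∈ G) → π ∈ G)
    (φ : G ≃* G) : ∃ g : G, φ = MulAut.conj g := by
  obtain ⟨π, hπ⟩ := exists_perm_of_aut h2 h3 φ
  have hconj : ∀ g : G, π * g.1 * π⁻¹ = (φ g).1 := by
    intro g
    ext x
    have := hπ g (π⁻¹ x)
    have h1 : π (π⁻¹ x) = x := π.apply_symm_apply x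
    rw [h1] at this
    show π (g.1 (π⁻¹ x)) = (φ g).1 x
    exact this
  have hmem : π ∈ G := h4 π (fun g hg => by rw [hconj ⟨g, hg⟩]; exact (φ ⟨g, hg⟩).2)
    (fun g hg => by
      have h1 := hconj (φ.symm ⟨g, hg⟩)
      rw [φ.apply_symm_apply] at h1
      have h1' : π * (φ.symm ⟨g, hg⟩).1 * π⁻¹ = g := h1
      have h2 : π⁻¹ * g * π = (φ.symm ⟨g, hg⟩).1 := by
        generalize (φ.symm ⟨g, hg⟩).1 = k at h1'
        rw [← h1']; group
      rw [h2]
      exact (φ.symm ⟨g, hg⟩).2)
  refine ⟨⟨π, hmem⟩, ?_⟩
  ext g : 1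
  apply Subtype.ext
  rw [MulAut.conj_apply]
  exact (hconj g).symm

end subgroup

section out

variable {G G' : Type*} [Group G] [Group G']

/-- if every automorphism is inner, the outer automorphism group is trivial -/
theorem card_out_eq_one (h : ∀ φ : G ≃* G, ∃ g : G, φ = MulAut.conj g) :
    Nat.card (Cfsg.Out G) = 1 := by
  have htop : Cfsg.Inn G = ⊤ := by
    rw [eq_top_iff]
    intro φ _
    obtain ⟨g, hg⟩ := h φ
    exact ⟨g, hg.symm⟩
  show Nat.card (MulAut G ⧸ Cfsg.Inn G) = 1
  rw [← Subgroup.index_eq_card, htop, Subgroup.index_top]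

/-- innerness of all automorphisms is invariant under isomorphism -/
theorem inner_congr (e : G ≃* G') (h : ∀ φ : G ≃* G, ∃ g : G, φ = MulAut.conj g)
    (φ : G' ≃* G') : ∃ g : G', φ = MulAut.conj g := by
  obtain ⟨g, hg⟩ := h ((e.trans φ).trans e.symm)
  refine ⟨e g, ?_⟩
  ext x
  have := congrArg (fun ψ : G ≃* G => e (ψ (e.symm x))) hg
  simp only [MulEquiv.trans_apply, MulEquiv.apply_symm_apply, MulAut.conj_apply, map_mul,
    map_inv] at this
  rw [MulAut.conj_apply]
  exact this

/-- the outer automorphism groups of isomorphic groups have the same order -/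
theorem card_out_congr (e : G ≃* G') : Nat.card (Cfsg.Out G) = Nat.card (Cfsg.Out G') := by
  have hmap : (Cfsg.Inn G).map (MulAut.congr e : MulAut G →* MulAut G') = Cfsg.Inn G' := by
    ext ψ
    constructor
    · rintro ⟨_, ⟨g, rfl⟩, rfl⟩
      refine ⟨e g, ?_⟩
      ext x
      simp [MulAut.congr, MulAut.conj_apply]
    · rintro ⟨g', rfl⟩
      refine ⟨MulAut.conj (e.symm g'), ⟨e.symm g', rfl⟩, ?_⟩
      ext x
      simp [MulAut.congr, MulAut.conj_apply]
  exact Nat.card_congr (QuotientGroup.congr (Cfsg.Inn G) (Cfsg.Inn G') (MulAut.congr e) hmap).toEquiv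

end out

end Cfsg.Agent.Lib.Helper6.OutGeneric
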