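import Cfsg.Agent.Lib.Helper6.M12Out3
import Cfsg.Agent.Lib.Helper6.OutGeneric
import Cfsg.Agent.Lib.Helper6.GolayM11Two

/-!
# The outer automorphism group of the stabilizer of a dodecad has order two
-/

set_option autoImplicit false
set_option maxRecDepth 1000000

namespace Cfsg.Agent.Lib.Helper6.Golay.M12Out

open Cfsg Cfsg.Agent.Lib.Helper6.Golay
open Cfsg.Agent.Lib.Helper6.PermChain
open scoped Pointwise

theorem wL_facts : wL.getD 8 0 = 8 ∧ wL.getD 22 0 ≠ 22 := by decide +kernel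

theorem yL_fixed : ∀ i < 24, yL.getD i 0 = i → i = 8 ∨ i = 22 := by decide +kernel

/-- the exchanging involution, as a normalizing element -/
noncomputable def hh : Ghat := ⟨h, h_mem_Ghat⟩

/-- conjugation by the exchanging involution is not inner -/
theorem conjG_hh_not_inner : conjG hh ∉ Cfsg.Inn G := by
  rintro ⟨g0, hg0⟩
  -- the element `c = g0⁻¹ * h` centralizes the group
  have hcomm : ∀ g : G, (g0.1⁻¹ * h) * g.1 = g.1 * (g0.1⁻¹ * h) := by
    intro g
    have h1 := congrArg (fun φ : MulAut G => (φ g).1) hg0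
    have h2 : g0.1 * g.1 * g0.1⁻¹ = h * g.1 * h⁻¹ := h1
    calc g0.1⁻¹ * h * g.1 = g0.1⁻¹ * (h * g.1 * h⁻¹) * h := by group
      _ = g0.1⁻¹ * (g0.1 * g.1 * g0.1⁻¹) * h := by rw [h2]
      _ = g.1 * (g0.1⁻¹ * h) := by group
  set c : Equiv.Perm GolayPt := g0.1⁻¹ * h with hc
  have hcD : c • fs dodecad0 = (fs dodecad0)ᶜ := by
    rw [hc, mul_smul, h_smul, smul_compl', inv_smul_eq_iff.2 (mem_M12in.1 g0.2).2.symm]
  -- `c` maps the point 8 to the point 22
  have h8 : c (pt 8) = pt 22 := by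
    have hy8 : y (pt 8) = pt 8 := y_apply (by norm_num)
    have h1 := congrArg (fun σ : Equiv.Perm GolayPt => σ (pt 8)) (hcomm yG)
    simp only [Equiv.Perm.mul_apply] at h1
    have h2 : y (c (pt 8)) = c (pt 8) := by
      have : c (y (pt 8)) = y (c (pt 8)) := h1
      rw [hy8] at this
      exact this.symm
    have hlt := idx_lt (c (pt 8))
    have h3 : yL.getD (idx (c (pt 8))) 0 = idx (c (pt 8)) := by
      have := y_apply hlt
      rw [pt_idx, h2] at this
      have h4 := congrArg idx this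
      rw [idx_pt _ (getD_lt y_isL.1 hlt)] at h4
      exact h4.symm
    have hmem : c (pt 8) ∈ (fs dodecad0)ᶜ := by
      rw [← hcD]
      exact Finset.smul_mem_smul_finset (by decide)
    rcases yL_fixed _ hlt h3 with h5 | h5
    · exfalso
      have : c (pt 8) = pt 8 := by
        have h6 := pt_idx (c (pt 8))
        rw [h5] at h6
        exact h6.symm
      rw [this] at hmem
      revert hmem
      decide
    · have h6 := pt_idx (c (pt 8))
      rw [h5] at h6
      exact h6.symm
  -- an element fixing the point 8 and moving the point 22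
  obtain ⟨wwf, w, hwK, hwL⟩ := rep_getD rep_EK wIdx
  have hwG : w ∈ G := K_le hwK
  have hw : IsL w wL := ⟨wwf, hwL⟩
  have h1 := congrArg (fun σ : Equiv.Perm GolayPt => σ (pt 8)) (hcomm ⟨w, hwG⟩)
  simp only [Equiv.Perm.mul_apply] at h1
  have h2 : c (w (pt 8)) = w (c (pt 8)) := h1
  rw [hw.apply (by norm_num), wL_facts.1, h8, hw.apply (by norm_num)] at h2
  exact wL_facts.2 (pt_inj' (by norm_num) (getD_lt wwf (by norm_num)) h2).symm

/-- the outer automorphism group of the stabilizer of the reference dodecad has order two -/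
theorem card_out_G : Nat.card (Cfsg.Out G) = 2 := by
  show Nat.card (MulAut G ⧸ Cfsg.Inn G) = 2
  rw [← Subgroup.index_eq_card, Subgroup.index_eq_two_iff]
  refine ⟨conjG hh, fun b => ?_⟩
  obtain ⟨n, rfl⟩ := exists_conjG b
  have hmul : conjG n * conjG hh = conjG (n * hh) := (conjG_mul n hh).symm
  rcases n.2.2 with hn | hn
  · -- `n` preserves the dodecad
    have hnG : n.1 ∈ G := mem_G_of_smul n.2 hn
    have hinn : conjG n ∈ Cfsg.Inn G := ⟨⟨n.1, hnG⟩, (conjG_of_mem n hnG).symm⟩
    right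
    refine ⟨hinn, fun hcon => ?_⟩
    apply conjG_hh_not_inner
    have := (Cfsg.Inn G).mul_mem ((Cfsg.Inn G).inv_mem hinn) hcon
    rwa [inv_mul_cancel_left] at this
  · -- `n` exchanges the dodecad and its complement
    have hnh : (n * hh).1 ∈ G := by
      apply mem_G_of_smul (n * hh).2
      show (n.1 * h) • fs dodecad0 = fs dodecad0
      rw [mul_smul, h_smul, smul_compl', hn, compl_compl]
    have hinn : conjG n * conjG hh ∈ Cfsg.Inn G := by
      rw [hmul]
      exact ⟨⟨(n * hh).1, hnh⟩, (conjG_of_mem (n * hh) hnh).symm⟩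
    left
    refine ⟨hinn, fun hcon => ?_⟩
    apply conjG_hh_not_inner
    have := (Cfsg.Inn G).mul_mem ((Cfsg.Inn G).inv_mem hcon) hinn
    rwa [inv_mul_cancel_left] at this

/-- conjugate subgroups are isomorphic -/
def conjSubEquiv (t : Equiv.Perm GolayPt) (H H' : Subgroup (Equiv.Perm GolayPt))
    (hHH' : ∀ g, g ∈ H ↔ t * g * t⁻¹ ∈ H') : H ≃* H' where
  toFun g := ⟨t * g.1 * t⁻¹, (hHH' g.1).1 g.2⟩
  invFun g := ⟨t⁻¹ * g.1 * t, (hHH' _).2 (by
    have : t * (t⁻¹ * g.1 * t) * t⁻¹ = g.1 := by group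
    rw [this]; exact g.2)⟩
  left_inv g := Subtype.ext (by
    show t⁻¹ * (t * g.1 * t⁻¹) * t = g.1
    group)
  right_inv g := Subtype.ext (by
    show t * (t⁻¹ * g.1 * t) * t⁻¹ = g.1
    group)
  map_mul' g g' := Subtype.ext (by
    show t * (g.1 * g'.1) * t⁻¹ = (t * g.1 * t⁻¹) * (t * g'.1 * t⁻¹)
    group)

/-- the stabilizer of the reference dodecad is isomorphic to the stabilizer of the dodecad of
squares -/
theorem nonempty_equiv_SporM12 : Nonempty (G ≃* Cfsg.Spor.M12) := by
  obtain ⟨t, ht, htD, _⟩ := exists_M24_dodecad_point squareDodecad_mem zero_mem_squareDodecad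
  refine ⟨conjSubEquiv t G Cfsg.Spor.M12 (fun g => ?_)⟩
  rw [mem_M12in, mem_SporM12]
  have e1 : t * g * t⁻¹ ∈ M24 ↔ g ∈ M24 := by
    constructor
    · intro h1
      have := M24.mul_mem (M24.mul_mem (M24.inv_mem ht) h1) ht
      have e : t⁻¹ * (t * g * t⁻¹) * t = g := by group
      rwa [e] at this
    · intro h1
      exact M24.mul_mem (M24.mul_mem ht h1) (M24.inv_mem ht)
  have e2 : (t * g * t⁻¹) • Cfsg.Spor.squareDodecad = Cfsg.Spor.squareDodecad ↔
      g • fs dodecad0 = fs dodecad0 := by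
    rw [← htD, mul_smul, mul_smul, inv_smul_smul, smul_left_cancel_iff]
  rw [e1, e2]

theorem card_out_SporM12 : Nat.card (Cfsg.Out Cfsg.Spor.M12) = 2 := by
  obtain ⟨e⟩ := nonempty_equiv_SporM12
  rw [← Cfsg.Agent.Lib.Helper6.OutGeneric.card_out_congr e]
  exact card_out_G

end Cfsg.Agent.Lib.Helper6.Golay.M12Out
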