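import Cfsg.Agent.Lib.Helper6.GolayWeights

/-!
# Membership in `M24` (the permutation group of the length-24 code)
-/

set_option autoImplicit false

namespace Cfsg.Agent.Lib.Helper6.Golay

open Cfsg
open scoped Pointwise

theorem smul_support₂ (σ : Equiv.Perm GolayPt) (w : GolayPt → ZMod 2) :
    σ • support₂ w = support₂ (w ∘ σ.symm) := by
  ext p
  rw [Finset.mem_smul_finset]
  simp only [support₂, Finset.mem_filter, Finset.mem_univ, true_and, Function.comp]
  constructor
  · rintro ⟨q, hq, rfl⟩
    simpa using hq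
  · intro h
    exact ⟨σ.symm p, h, by simp⟩

/-- the linear action of a permutation on words -/
theorem comp_symm_add (σ : Equiv.Perm GolayPt) (v w : GolayPt → ZMod 2) :
    (v + w) ∘ σ.symm = v ∘ σ.symm + w ∘ σ.symm := rfl

theorem comp_symm_injective (σ : Equiv.Perm GolayPt) :
    Function.Injective (fun w : GolayPt → ZMod 2 => w ∘ σ.symm) := by
  intro v w h
  funext p
  have := congrFun h (σ p)
  simpa using this

/-- If `σ` maps the code into itself, it maps it onto itself. -/
theorem comp_symm_surjOn (σ : Equiv.Perm GolayPt)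
    (h : ∀ w ∈ golayCode, w ∘ σ.symm ∈ golayCode) (w : GolayPt → ZMod 2) (hw : w ∈ golayCode) :
    ∃ v ∈ golayCode, v ∘ σ.symm = w := by
  let f : golayCode → golayCode := fun v => ⟨v.1 ∘ σ.symm, h v.1 v.2⟩
  have hf : Function.Injective f := by
    intro a b hab
    apply Subtype.ext
    exact comp_symm_injective σ (congrArg Subtype.val hab)
  have : Finite golayCode := by
    have : Finite (GolayPt → ZMod 2) := inferInstance
    exact Finite.of_injective (fun v : golayCode => v.1) Subtype.val_injective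
  obtain ⟨v, hv⟩ := Finite.surjective_of_injective hf ⟨w, hw⟩
  exact ⟨v.1, v.2, congrArg Subtype.val hv⟩

theorem mem_M24_of_forall (σ : Equiv.Perm GolayPt)
    (h : ∀ w ∈ golayCode, w ∘ σ.symm ∈ golayCode) : σ ∈ M24 := by
  rw [MulAction.mem_stabilizer_iff]
  ext b
  rw [Set.mem_smul_set]
  simp only [supports, Set.mem_image, SetLike.mem_coe]
  constructor
  · rintro ⟨_, ⟨w, hw, rfl⟩, rfl⟩
    exact ⟨w ∘ σ.symm, h w hw, (smul_support₂ σ w).symm⟩
  · rintro ⟨w, hw, rfl⟩
    obtain ⟨v, hv, rfl⟩ := comp_symm_surjOn σ h w hw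
    exact ⟨support₂ v, ⟨v, hv, rfl⟩, smul_support₂ σ v⟩

theorem forall_of_mem_M24 (σ : Equiv.Perm GolayPt) (hσ : σ ∈ M24) :
    ∀ w ∈ golayCode, w ∘ σ.symm ∈ golayCode := by
  intro w hw
  rw [MulAction.mem_stabilizer_iff] at hσ
  have h1 : σ • support₂ w ∈ σ • supports (golayCode : Set (GolayPt → ZMod 2)) :=
    Set.smul_mem_smul_set ⟨w, hw, rfl⟩
  rw [hσ, smul_support₂] at h1
  obtain ⟨v, hv, hvw⟩ := h1
  rw [← support₂_injective hvw]
  exact hv

theorem mem_M24_iff (σ : Equiv.Perm GolayPt) :
    σ ∈ M24 ↔ ∀ w ∈ golayCode, w ∘ σ.symm ∈ golayCode :=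
  ⟨forall_of_mem_M24 σ, mem_M24_of_forall σ⟩

/-- It is enough to check the generators. -/
theorem mem_M24_of_gens (σ : Equiv.Perm GolayPt)
    (h : ∀ t : ZMod 23, qrWord t ∘ σ.symm ∈ golayCode) : σ ∈ M24 := by
  apply mem_M24_of_forall
  intro w hw
  induction hw using Submodule.span_induction with
  | mem x hx =>
    rcases hx with ⟨t, rfl⟩ | hx
    · exact h t
    · rw [Set.mem_singleton_iff] at hx
      rw [hx]
      have : (1 : GolayPt → ZMod 2) ∘ σ.symm = 1 := rfl
      rw [this]
      exact Submodule.subset_span (Or.inr rfl)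
  | zero =>
    have : (0 : GolayPt → ZMod 2) ∘ σ.symm = 0 := rfl
    rw [this]; exact Submodule.zero_mem _
  | add x y _ _ hx hy => rw [comp_symm_add]; exact Submodule.add_mem _ hx hy
  | smul a x _ hx =>
    have : (a • x) ∘ σ.symm = a • (x ∘ σ.symm) := rfl
    rw [this]; exact Submodule.smul_mem _ _ hx

/-! ### a computational test -/

/-- the mask of the image of the set with mask `g` under `f`. -/
def imageMask (f : GolayPt → GolayPt) (g : ℕ) : ℕ :=
  (List.range 24).foldr (fun i acc => if g.testBit i then acc ||| 2 ^ idx (f (pt i)) else acc) 0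

/-- Boolean test: `f` maps every generator word to a codeword. -/
def checkFun (f : GolayPt → GolayPt) : Bool :=
  qrMasks.all fun g =>
    inCode (imageMask f g) && decide (∀ p : GolayPt, dec (imageMask f g) (f p) = dec g p)

theorem mem_M24_of_checkFun (σ : Equiv.Perm GolayPt) (h : checkFun (⇑σ) = true) : σ ∈ M24 := by
  apply mem_M24_of_gens
  intro t
  rw [checkFun, List.all_eq_true] at h
  have ht : t.val < 23 := ZMod.val_lt t
  have hmem : qrMasks.getD t.val 0 ∈ qrMasks := by
    rw [List.getD_eq_getElem _ _ (by simpa [qrMasks] using ht)]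
    exact List.getElem_mem _
  have h1 := h _ hmem
  rw [Bool.and_eq_true, decide_eq_true_eq] at h1
  obtain ⟨hin, heq⟩ := h1
  have : qrWord t ∘ σ.symm = dec (imageMask (⇑σ) (qrMasks.getD t.val 0)) := by
    funext q
    rw [qrWord_eq]
    have := heq (σ.symm q)
    simp only [Equiv.apply_symm_apply] at this
    simp only [Function.comp]
    exact this.symm
  rw [this]
  exact (mem_golayCode_iff' _).mpr ⟨_, hin, rfl⟩

end Cfsg.Agent.Lib.Helper6.Golay
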