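import Cfsg.Agent.Lib.Helper6.M11Out2
import Cfsg.Agent.Lib.Helper6.M12Out4

/-!
# The outer automorphism group of the stabilizer of the dodecad of squares and the residue 0
-/

set_option autoImplicit false

namespace Cfsg.Agent.Lib.Helper6.Golay.M11Out

open Cfsg Cfsg.Agent.Lib.Helper6.Golay Cfsg.Agent.Lib.Helper6.Golay.M12Out
open Cfsg.Agent.Lib.Helper6.PermChain
open scoped Pointwise

theorem nonempty_equiv_SporM11 : Nonempty (G0 ≃* Cfsg.Spor.M11) := by
  obtain ⟨t, ht, htD, ht0⟩ := exists_M24_dodecad_point squareDodecad_mem zero_mem_squareDodecad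
  refine ⟨conjSubEquiv t G0 Cfsg.Spor.M11 (fun g => ?_)⟩
  rw [mem_G0, mem_M12in, mem_SporM11]
  have e1 : t * g * t⁻¹ ∈ M24 ↔ g ∈ M24 := by
    constructor
    · intro h1
      have := M24.mul_mem (M24.mul_mem (M24.inv_mem ht) h1) ht
      have e : t⁻¹ * (t * g * t⁻¹) * t = g := by group
      rwa [e] at this
    · intro h1
      exact M24.mul_mem (M24.mul_mem ht h1) (M24.inv_mem ht)
  have e2 : (t * g * t⁻¹) • Cfsg.Spor.squareDodecad = Cfsg.Spor.squareDodecad ↔
      g • fs dodecad0 = fs dodecad0 := by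
    rw [← htD, mul_smul, mul_smul, inv_smul_smul, smul_left_cancel_iff]
  have e3 : (t * g * t⁻¹) (some 0) = some 0 ↔ g (pt 0) = pt 0 := by
    rw [← ht0, Equiv.Perm.mul_apply, Equiv.Perm.mul_apply, Equiv.Perm.inv_def,
      Equiv.symm_apply_apply, EmbeddingLike.apply_eq_iff_eq]
  rw [e1, e2, e3, and_assoc]

theorem card_out_SporM11 : Nat.card (Cfsg.Out Cfsg.Spor.M11) = 1 := by
  obtain ⟨e⟩ := nonempty_equiv_SporM11
  exact Cfsg.Agent.Lib.Helper6.OutGeneric.card_out_eq_one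
    (Cfsg.Agent.Lib.Helper6.OutGeneric.inner_congr e G0_inner)

end Cfsg.Agent.Lib.Helper6.Golay.M11Out
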