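import Cfsg.Agent.Lib.Helper6.GolayBSGS
import Cfsg.Prelude.Def_Spor_Mathieu

/-!
# The two-point stabilizer `M22` inside the stabilizer of the pair: index 2, non-inner automorphism
-/

set_option autoImplicit false

namespace Cfsg.Agent.Lib.Helper6.Golay

open Cfsg
open Cfsg.Agent.Lib.Helper6.PermChain
open scoped Pointwise

theorem mem_SporM22 {g : Equiv.Perm GolayPt} :
    g ∈ Spor.M22 ↔ g ∈ M24 ∧ g none = none ∧ g (some 0) = some 0 := by
  constructor
  · intro h
    have h1 := (Subgroup.mem_inf.mp h).1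
    have h2 : g • (some 0 : GolayPt) = some 0 := MulAction.mem_stabilizer_iff.mp (Subgroup.mem_inf.mp h).2
    have h3 : g • (none : GolayPt) = none := MulAction.mem_stabilizer_iff.mp (Subgroup.mem_inf.mp h1).2
    exact ⟨(Subgroup.mem_inf.mp h1).1, h3, h2⟩
  · rintro ⟨h1, h2, h3⟩
    exact Subgroup.mem_inf.mpr ⟨Subgroup.mem_inf.mpr ⟨h1, MulAction.mem_stabilizer_iff.mpr h2⟩,
      MulAction.mem_stabilizer_iff.mpr h3⟩

theorem mem_pairStab {g : Equiv.Perm GolayPt} :
    g ∈ MulAction.stabilizer (Equiv.Perm GolayPt) ({none, some 0} : Finset GolayPt) ↔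
      (g none = none ∧ g (some 0) = some 0) ∨ (g none = some 0 ∧ g (some 0) = none) := by
  rw [MulAction.mem_stabilizer_iff]
  constructor
  · intro h
    have h1 : g none ∈ ({none, some 0} : Finset GolayPt) := by
      rw [← h]; exact Finset.smul_mem_smul_finset (by simp)
    have h2 : g (some 0) ∈ ({none, some 0} : Finset GolayPt) := by
      rw [← h]; exact Finset.smul_mem_smul_finset (by simp)
    have hne : g none ≠ g (some 0) := fun h' => by
      have := g.injective h'
      simp at this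
    simp only [Finset.mem_insert, Finset.mem_singleton] at h1 h2
    rcases h1 with h1 | h1 <;> rcases h2 with h2 | h2
    · exact absurd (h1.trans h2.symm) hne
    · exact Or.inl ⟨h1, h2⟩
    · exact Or.inr ⟨h1, h2⟩
    · exact absurd (h1.trans h2.symm) hne
  · intro h
    apply Finset.eq_of_subset_of_card_le
    · intro p hp
      rw [Finset.mem_smul_finset] at hp
      obtain ⟨y, hy, rfl⟩ := hp
      simp only [Finset.mem_insert, Finset.mem_singleton] at hy ⊢
      rw [Equiv.Perm.smul_def]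
      rcases h with h | h <;> rcases hy with rfl | rfl
      · exact Or.inl h.1
      · exact Or.inr h.2
      · exact Or.inr h.1
      · exact Or.inl h.2
    · rw [Finset.card_smul_finset]

theorem inv_swap {g : Equiv.Perm GolayPt} (h₁ : g none = some 0) (h₂ : g (some 0) = none) :
    g⁻¹ none = some 0 ∧ g⁻¹ (some 0) = none := by
  constructor
  · rw [Equiv.Perm.inv_def, Equiv.symm_apply_eq, h₂]
  · rw [Equiv.Perm.inv_def, Equiv.symm_apply_eq, h₁]

/-- an element of `M24` fixing the 22 points other than the two special ones is trivial -/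
theorem eq_one_of_fix22 {c : Equiv.Perm GolayPt} (hc : c ∈ M24)
    (h : ∀ p : GolayPt, p ≠ none → p ≠ some 0 → c p = p) : c = 1 := by
  apply eq_one_of_fixes_all
  have hF : Fixes c 8388606 := by
    intro p hp
    apply h p
    · rintro rfl; revert hp; decide
    · rintro rfl; revert hp; decide
  have := fixes_closeRun hc [(13938692, 10305542), (1302533, 5902343)] hF
  have e : closeRun 8388606 [(13938692, 10305542), (1302533, 5902343)] = 2 ^ 24 - 1 := by
    decide +kernel
  rwa [e] at this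

/-- `M22` is doubly transitive on the 22 points -/
theorem M22_two_trans {p r r' : GolayPt} (hp : p ≠ none ∧ p ≠ some 0)
    (hr : r ≠ none ∧ r ≠ some 0 ∧ r ≠ p) (hr' : r' ≠ none ∧ r' ≠ some 0 ∧ r' ≠ p) :
    ∃ x ∈ Spor.M22, x p = p ∧ x r = r' := by
  let a : Fin 4 ↪ GolayPt := ⟨![none, some 0, p, r], by
    intro i j hij
    fin_cases i <;> fin_cases j <;> simp_all [Ne.symm]⟩
  let b : Fin 4 ↪ GolayPt := ⟨![none, some 0, p, r'], by
    intro i j hij
    fin_cases i <;> fin_cases j <;> simp_all [Ne.symm]⟩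
  obtain ⟨x, hx, hab⟩ := exists_M24_map (by norm_num : 4 ≤ 5) a b
  exact ⟨x, mem_SporM22.mpr ⟨hx, hab 0, hab 1⟩, hab 2, hab 3⟩

/-- the centralizer of `M22` in `M24` fixes the 22 points -/
theorem centralizer_M22_fix {c : Equiv.Perm GolayPt}
    (hpair : c ∈ MulAction.stabilizer (Equiv.Perm GolayPt) ({none, some 0} : Finset GolayPt))
    (hcomm : ∀ x ∈ Spor.M22, c * x = x * c) (p : GolayPt) (hp1 : p ≠ none) (hp2 : p ≠ some 0) :
    c p = p := by
  by_contra hne
  have hcp : c p ≠ none ∧ c p ≠ some 0 := by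
    rcases mem_pairStab.mp hpair with h | h
    · exact ⟨fun h' => hp1 (c.injective (h'.trans h.1.symm)),
        fun h' => hp2 (c.injective (h'.trans h.2.symm))⟩
    · exact ⟨fun h' => hp2 (c.injective (h'.trans h.2.symm)),
        fun h' => hp1 (c.injective (h'.trans h.1.symm))⟩
  -- a fifth point
  obtain ⟨r', hr'⟩ : ∃ r' : GolayPt, r' ∉ ({none, some 0, p, c p} : Finset GolayPt) := by
    by_contra hall
    push Not at hall
    have : (Finset.univ : Finset GolayPt) ⊆ {none, some 0, p, c p} := fun x _ => hall x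
    have := Finset.card_le_card this
    have h4 : ({none, some 0, p, c p} : Finset GolayPt).card ≤ 4 := Finset.card_le_four
    rw [Finset.card_univ] at this
    have : Fintype.card GolayPt = 24 := by decide
    omega
  simp only [Finset.mem_insert, Finset.mem_singleton, not_or] at hr'
  obtain ⟨x, hx, hxp, hxr⟩ := M22_two_trans (p := p) (r := c p) (r' := r') ⟨hp1, hp2⟩
    ⟨hcp.1, hcp.2, hne⟩ ⟨hr'.1, hr'.2.1, hr'.2.2.1⟩
  have := congrArg (fun e : Equiv.Perm GolayPt => e p) (hcomm x hx)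
  simp only [Equiv.Perm.mul_apply, hxp, hxr] at this
  exact hr'.2.2.2 this.symm

theorem M22_ext_main (g : Equiv.Perm GolayPt) (hg : g ∈ M24) (h₁ : g none = some 0)
    (h₂ : g (some 0) = none) :
    Spor.M22.relIndex (M24 ⊓ MulAction.stabilizer (Equiv.Perm GolayPt)
      ({none, some 0} : Finset GolayPt)) = 2 ∧
    (∀ x ∈ Spor.M22, g * x * g⁻¹ ∈ Spor.M22) ∧
    ¬ ∃ h ∈ Spor.M22, ∀ x ∈ Spor.M22, g * x * g⁻¹ = h * x * h⁻¹ := by
  obtain ⟨hi1, hi2⟩ := inv_swap h₁ h₂
  refine ⟨?_, ?_, ?_⟩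
  · rw [Subgroup.relIndex_eq_two_iff_exists_notMem_and]
    refine ⟨g, Subgroup.mem_inf.mpr ⟨hg, mem_pairStab.mpr (Or.inr ⟨h₁, h₂⟩)⟩, ?_, ?_⟩
    · intro h
      have := (mem_SporM22.mp h).2.1
      rw [h₁] at this
      exact absurd this (by simp)
    · intro b hb
      rw [Subgroup.mem_inf] at hb
      rcases mem_pairStab.mp hb.2 with h | h
      · exact Or.inr (mem_SporM22.mpr ⟨hb.1, h.1, h.2⟩)
      · left
        refine mem_SporM22.mpr ⟨M24.mul_mem hb.1 hg, ?_, ?_⟩
        · rw [Equiv.Perm.mul_apply, h₁, h.2]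
        · rw [Equiv.Perm.mul_apply, h₂, h.1]
  · intro x hx
    obtain ⟨hx1, hx2, hx3⟩ := mem_SporM22.mp hx
    refine mem_SporM22.mpr ⟨M24.mul_mem (M24.mul_mem hg hx1) (M24.inv_mem hg), ?_, ?_⟩
    · rw [Equiv.Perm.mul_apply, Equiv.Perm.mul_apply, hi1, hx3, h₂]
    · rw [Equiv.Perm.mul_apply, Equiv.Perm.mul_apply, hi2, hx2, h₁]
  · rintro ⟨h, hh, hconj⟩
    obtain ⟨hh1, hh2, hh3⟩ := mem_SporM22.mp hh
    have hhi2 : h⁻¹ (some 0) = some 0 := by
      rw [Equiv.Perm.inv_def, Equiv.symm_apply_eq, hh3]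
    have hhi1 : h⁻¹ none = none := by
      rw [Equiv.Perm.inv_def, Equiv.symm_apply_eq, hh2]
    have hc24 : h⁻¹ * g ∈ M24 := M24.mul_mem (M24.inv_mem hh1) hg
    have hcn : (h⁻¹ * g) none = some 0 := by rw [Equiv.Perm.mul_apply, h₁, hhi2]
    have hcz : (h⁻¹ * g) (some 0) = none := by rw [Equiv.Perm.mul_apply, h₂, hhi1]
    have hcomm : ∀ x ∈ Spor.M22, (h⁻¹ * g) * x = x * (h⁻¹ * g) := by
      intro x hx
      have := hconj x hx
      calc h⁻¹ * g * x = h⁻¹ * (g * x * g⁻¹) * g := by group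
        _ = h⁻¹ * (h * x * h⁻¹) * g := by rw [this]
        _ = x * (h⁻¹ * g) := by group
    have hone : h⁻¹ * g = 1 := by
      apply eq_one_of_fix22 hc24
      intro p hp1 hp2
      exact centralizer_M22_fix (mem_pairStab.mpr (Or.inr ⟨hcn, hcz⟩)) hcomm p hp1 hp2
    rw [hone, Equiv.Perm.one_apply] at hcn
    exact absurd hcn (by simp)

end Cfsg.Agent.Lib.Helper6.Golay
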