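import Cfsg.Agent.Lib.Helper6.GolayCent2B
import Cfsg.Agent.Lib.Helper6.GolaySextetList

/-!
# The centralizer of a fixed-point-free involution of `M24`: transitivity, invariant sextet
-/

set_option autoImplicit false

namespace Cfsg.Agent.Lib.Helper6.Golay

open Cfsg
open Cfsg.Agent.Lib.Helper6.PermChain
open scoped Pointwise

/-- the sextet left invariant by the centralizer of `r2B` -/
def sextetCB : List ℕ := [46, 10512, 1573952, 2130560, 4526080, 8536065]

theorem sextetCB_mem : sextetCB ∈ sextetsR := by decide +kernel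

theorem sextetCB_fix : sextetCB.all (fun a => lmask r2B a == a) = true := by decide +kernel

set_option maxHeartbeats 4000000 in
set_option maxRecDepth 100000 in
theorem sextetCB_unique :
    sextetsR.all (fun L => !(L.all (fun a => lmask r2B a == a)) || L == sextetCB) = true := by
  decide +kernel

section ref

variable {t : Equiv.Perm GolayPt} (ht : ⇑t = lfun r2B)

include ht

theorem centM_transitive (p q : GolayPt) : ∃ c ∈ centM t, c p = q := by
  have key : ∀ r : GolayPt, ∃ c ∈ centM t, c (pt 23) = r := by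
    intro r
    have hq := List.all_eq_true.mp cwit0_cover (idx r) (List.mem_range.mpr (idx_lt r))
    rw [List.any_eq_true] at hq
    obtain ⟨w, hw, hwq⟩ := hq
    rw [beq_iff_eq] at hwq
    obtain ⟨g, hg, hgf, -⟩ := exists_of_cwit ht (w := w) (by simp [hw])
    refine ⟨g, hg, ?_⟩
    rw [hgf, lfun_pt w (by norm_num), hwq, pt_idx]
  obtain ⟨a, ha, hap⟩ := key p
  obtain ⟨b, hb, hbq⟩ := key q
  refine ⟨b * a⁻¹, (centM t).mul_mem hb ((centM t).inv_mem ha), ?_⟩
  rw [Equiv.Perm.mul_apply, ← hap, Equiv.Perm.inv_def, Equiv.symm_apply_apply, hbq]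

theorem centM_sextet :
    fss sextetCB ∈ sextets ∧ ∀ c ∈ centM t, c • fss sextetCB = fss sextetCB := by
  have hS0 : fss sextetCB ∈ sextets := sextetsR_mem _ sextetCB_mem
  refine ⟨hS0, ?_⟩
  intro c hc
  have hcS : c • fss sextetCB ∈ sextets := smul_mem_sextets hc.1 hS0
  obtain ⟨L, hL, hLeq⟩ := sextetsR_enum _ hcS
  have hcan := List.all_eq_true.mp sextetsR_canon L hL
  obtain ⟨-, hbound⟩ := canonB_spec L hcan
  have hfixL : L.all (fun a => lmask r2B a == a) = true := by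
    rw [List.all_eq_true]
    intro a ha
    rw [beq_iff_eq]
    have h1 : fs a ∈ c • fss sextetCB := by rw [hLeq]; exact mem_fss.mpr ⟨a, ha, rfl⟩
    rw [Finset.mem_smul_finset] at h1
    obtain ⟨T, hT, hTa⟩ := h1
    obtain ⟨a0, ha0, rfl⟩ := mem_fss.mp hT
    have h2 : t • fs a0 = fs a0 := by
      rw [smul_fs wf_r2B ht]
      have := List.all_eq_true.mp sextetCB_fix a0 ha0
      rw [beq_iff_eq] at this
      rw [this]
    have h3 : t • fs a = fs a := by
      rw [← hTa, smul_smul, ← hc.2, ← smul_smul, h2]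
    rw [smul_fs wf_r2B ht] at h3
    exact fs_injOn (lmask_lt r2B wf_r2B a) (hbound a ha) h3
  have hchk := List.all_eq_true.mp sextetCB_unique L hL
  rw [hfixL] at hchk
  simp only [Bool.not_true, Bool.false_or, beq_iff_eq] at hchk
  rw [hLeq, hchk]

end ref

/-! ### transfer to an arbitrary fixed-point-free involution -/

theorem card_centM_conj {t k : Equiv.Perm GolayPt} (hk : k ∈ M24) :
    Nat.card (centM t) = Nat.card (centM (k * t * k⁻¹)) := by
  apply Nat.card_congr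
  refine ⟨fun c => ⟨k * c.1 * k⁻¹, ?_⟩, fun c => ⟨k⁻¹ * c.1 * k, ?_⟩, ?_, ?_⟩
  · refine ⟨M24.mul_mem (M24.mul_mem hk c.2.1) (M24.inv_mem hk), ?_⟩
    have h1 : k * c.1 * k⁻¹ * (k * t * k⁻¹) = k * (c.1 * t) * k⁻¹ := by group
    have h2 : k * t * k⁻¹ * (k * c.1 * k⁻¹) = k * (t * c.1) * k⁻¹ := by group
    rw [h1, h2, c.2.2]
  · refine ⟨M24.mul_mem (M24.mul_mem (M24.inv_mem hk) c.2.1) hk, ?_⟩
    have h1 : k⁻¹ * c.1 * k * t = k⁻¹ * (c.1 * (k * t * k⁻¹)) * k := by group
    have h2 : t * (k⁻¹ * c.1 * k) = k⁻¹ * ((k * t * k⁻¹) * c.1) * k := by group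
    rw [h1, h2, c.2.2]
  · intro c; apply Subtype.ext; simp [mul_assoc]
  · intro c; apply Subtype.ext; simp [mul_assoc]

/-- **The centralizer of a fixed-point-free involution of `M24`.** -/
theorem centM_main {t : Equiv.Perm GolayPt} (ht : t ∈ M24) (h2 : orderOf t = 2)
    (h0 : ∀ p, t p ≠ p) :
    Nat.card (centM t) = 7680 ∧ (∀ p q : GolayPt, ∃ c ∈ centM t, c p = q) ∧
      ∃ S ∈ sextets, t • S = S ∧ ∀ c ∈ centM t, c • S = S := by
  obtain ⟨hsq, -⟩ := sq_of_orderOf_two h2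
  obtain ⟨k, hk, hk'⟩ := invol_fpf_conj ht hsq h0
  have hconj : ∀ c ∈ centM t, k * c * k⁻¹ ∈ centM (k * t * k⁻¹) := by
    intro c hc
    refine ⟨M24.mul_mem (M24.mul_mem hk hc.1) (M24.inv_mem hk), ?_⟩
    have h1 : k * c * k⁻¹ * (k * t * k⁻¹) = k * (c * t) * k⁻¹ := by group
    have h2 : k * t * k⁻¹ * (k * c * k⁻¹) = k * (t * c) * k⁻¹ := by group
    rw [h1, h2, hc.2]
  have hconj' : ∀ c ∈ centM (k * t * k⁻¹), k⁻¹ * c * k ∈ centM t := by
    intro c hc
    refine ⟨M24.mul_mem (M24.mul_mem (M24.inv_mem hk) hc.1) hk, ?_⟩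
    have h1 : k⁻¹ * c * k * t = k⁻¹ * (c * (k * t * k⁻¹)) * k := by group
    have h2 : t * (k⁻¹ * c * k) = k⁻¹ * ((k * t * k⁻¹) * c) * k := by group
    rw [h1, h2, hc.2]
  refine ⟨?_, ?_, ?_⟩
  · rw [card_centM_conj hk, card_centM_ref hk']
  · intro p q
    obtain ⟨c, hc, hcp⟩ := centM_transitive hk' (k p) (k q)
    refine ⟨k⁻¹ * c * k, hconj' c hc, ?_⟩
    rw [Equiv.Perm.mul_apply, Equiv.Perm.mul_apply, hcp, Equiv.Perm.inv_def,
      Equiv.symm_apply_apply]
  · obtain ⟨hS0, hfix⟩ := centM_sextet hk'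
    have htself : t ∈ centM t := ⟨ht, rfl⟩
    refine ⟨k⁻¹ • fss sextetCB, smul_mem_sextets (M24.inv_mem hk) hS0, ?_, ?_⟩
    · have := hfix _ (hconj t htself)
      have h3 : t • k⁻¹ • fss sextetCB = k⁻¹ • (k * t * k⁻¹) • fss sextetCB := by
        simp only [mul_smul, inv_smul_smul]
      rw [h3, this]
    · intro c hc
      have := hfix _ (hconj c hc)
      have h3 : c • k⁻¹ • fss sextetCB = k⁻¹ • (k * c * k⁻¹) • fss sextetCB := by
        simp only [mul_smul, inv_smul_smul]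
      rw [h3, this]

end Cfsg.Agent.Lib.Helper6.Golay
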