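import Cfsg.Agent.Lib.Helper6.GolayNF

/-!
# The classes of elements of order two and three in `M24`

Every involution of `M24` with a fixed point is conjugate to `r2A`, every fixed-point-free
involution to `r2B`; every element of order three with a fixed point is conjugate to `r3A`,
every fixed-point-free one to `r3B`.
-/

set_option autoImplicit false

namespace Cfsg.Agent.Lib.Helper6.Golay

open Cfsg
open Cfsg.Agent.Lib.Helper6.PermChain
open scoped Pointwise

/-! ### the computations -/

set_option maxHeartbeats 4000000 in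
set_option maxRecDepth 100000 in
theorem check_tA : (cosetL tA).all (fun m => !(isInvL m) || isConjL conj2A r2A m) = true := by
  decide +kernel

set_option maxHeartbeats 4000000 in
set_option maxRecDepth 100000 in
theorem check_tB : (cosetL tB).all (fun m => !(isInvL m) || isConjL conj2A r2A m) = true := by
  decide +kernel

set_option maxHeartbeats 4000000 in
set_option maxRecDepth 100000 in
theorem check_tC : (cosetL tC).all (fun m => !(isInvL m && !hasFix m) || isConjL conj2B r2B m)
    = true := by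
  decide +kernel

set_option maxHeartbeats 4000000 in
set_option maxRecDepth 100000 in
theorem check_tD : (cosetL tD).all (fun m => !(isInvL m && !hasFix m) || isConjL conj2B r2B m)
    = true := by
  decide +kernel

set_option maxHeartbeats 4000000 in
set_option maxRecDepth 100000 in
theorem check_tE : (cosetL tE).all (fun m => !(isOrd3L m) || isConjL conj3A r3A m) = true := by
  decide +kernel

set_option maxHeartbeats 4000000 in
set_option maxRecDepth 100000 in
theorem check_tF : (cosetL tF).all (fun m => !(isOrd3L m) || isConjL conj3A r3A m) = true := by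
  decide +kernel

set_option maxHeartbeats 4000000 in
set_option maxRecDepth 100000 in
theorem check_tG : (cosetL tG).all (fun m => !(isOrd3L m) || isConjL conj3A r3A m) = true := by
  decide +kernel

set_option maxHeartbeats 4000000 in
set_option maxRecDepth 100000 in
theorem check_tH : (cosetL tH).all (fun m => !(isOrd3L m && !hasFix m) || isConjL conj3B r3B m)
    = true := by
  decide +kernel

set_option maxHeartbeats 4000000 in
set_option maxRecDepth 100000 in
theorem check_tI : (cosetL tI).all (fun m => !(isOrd3L m && !hasFix m) || isConjL conj3B r3B m)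
    = true := by
  decide +kernel

/-! ### membership of the data in `nfAll` -/

theorem rep_cosReps : ∀ t ∈ [tA, tB, tC, tD, tE, tF, tG, tH, tI], Rep M24 t := by
  intro t ht
  apply rep_nfAll
  simp only [nfAll, List.mem_append]
  exact Or.inl (Or.inl (Or.inl (Or.inl (Or.inl (Or.inr ht)))))

theorem rep_refs : ∀ t ∈ [r2A, r2B, r3A, r3B], Rep M24 t := by
  intro t ht
  apply rep_nfAll
  simp only [nfAll, List.mem_append]
  exact Or.inl (Or.inl (Or.inl (Or.inl (Or.inr ht))))

theorem rep_conj2A : ∀ t ∈ conj2A, Rep M24 t := by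
  intro t ht
  apply rep_nfAll
  simp only [nfAll, List.mem_append]
  exact Or.inl (Or.inl (Or.inl (Or.inr ht)))

theorem rep_conj2B : ∀ t ∈ conj2B, Rep M24 t := by
  intro t ht
  apply rep_nfAll
  simp only [nfAll, List.mem_append]
  exact Or.inl (Or.inl (Or.inr ht))

theorem rep_conj3A : ∀ t ∈ conj3A, Rep M24 t := by
  intro t ht
  apply rep_nfAll
  simp only [nfAll, List.mem_append]
  exact Or.inl (Or.inr ht)

theorem rep_conj3B : ∀ t ∈ conj3B, Rep M24 t := by
  intro t ht
  apply rep_nfAll
  simp only [nfAll, List.mem_append]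
  exact Or.inr ht

/-! ### moving points to the base -/

def baseEmb : Fin 5 ↪ GolayPt := ⟨fun i => pt ([23, 0, 1, 2, 3].getD i.val 0), by decide⟩

theorem nodup5 {α : Type*} {a b c d e : α} (hab : a ≠ b) (hac : a ≠ c) (had : a ≠ d)
    (hae : a ≠ e) (hbc : b ≠ c) (hbd : b ≠ d) (hbe : b ≠ e) (hcd : c ≠ d) (hce : c ≠ e)
    (hde : d ≠ e) : [a, b, c, d, e].Nodup := by
  simp [hab, hac, had, hae, hbc, hbd, hbe, hcd, hce, hde]

theorem nodup6 {α : Type*} {a b c d e f : α} (hab : a ≠ b) (hac : a ≠ c) (had : a ≠ d)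
    (hae : a ≠ e) (haf : a ≠ f) (hbc : b ≠ c) (hbd : b ≠ d) (hbe : b ≠ e) (hbf : b ≠ f)
    (hcd : c ≠ d) (hce : c ≠ e) (hcf : c ≠ f) (hde : d ≠ e) (hdf : d ≠ f) (hef : e ≠ f) :
    [a, b, c, d, e, f].Nodup := by
  simp [hab, hac, had, hae, haf, hbc, hbd, hbe, hbf, hcd, hce, hcf, hde, hdf, hef]

theorem exists_to_base5 {p0 p1 p2 p3 p4 : GolayPt} (h : [p0, p1, p2, p3, p4].Nodup) :
    ∃ k ∈ M24, k p0 = pt 23 ∧ k p1 = pt 0 ∧ k p2 = pt 1 ∧ k p3 = pt 2 ∧ k p4 = pt 3 := by
  have hinj : Function.Injective ![p0, p1, p2, p3, p4] := by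
    rw [← List.nodup_ofFn]
    simpa using h
  obtain ⟨k, hk, hk'⟩ := exists_M24_map le_rfl ⟨![p0, p1, p2, p3, p4], hinj⟩ baseEmb
  exact ⟨k, hk, hk' 0, hk' 1, hk' 2, hk' 3, hk' 4⟩

theorem exists_to_base6 {p0 p1 p2 p3 p4 f : GolayPt} (h : [p0, p1, p2, p3, p4, f].Nodup) :
    ∃ k ∈ M24, (k p0 = pt 23 ∧ k p1 = pt 0 ∧ k p2 = pt 1 ∧ k p3 = pt 2 ∧ k p4 = pt 3) ∧
      (k f = pt 5 ∨ k f = pt 4) := by
  have h5 : [p0, p1, p2, p3, p4].Nodup := by
    have : [p0, p1, p2, p3, p4] = [p0, p1, p2, p3, p4, f].take 5 := rfl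
    rw [this]
    exact h.sublist (List.take_sublist _ _)
  have hf : f ∉ [p0, p1, p2, p3, p4] := by
    have h' : ([p0, p1, p2, p3, p4] ++ [f]).Nodup := h
    rw [List.nodup_append] at h'
    intro hmem
    exact h'.2.2 f hmem f (by simp) rfl
  obtain ⟨k, hk, h0, h1, h2, h3, h4⟩ := exists_to_base5 h5
  have hkf : k f ∉ Lk 5 := by
    intro hmem
    have hL : Lk 5 = [pt 23, pt 0, pt 1, pt 2, pt 3] := by decide
    rw [hL, ← h0, ← h1, ← h2, ← h3, ← h4] at hmem
    simp only [List.mem_cons, List.not_mem_nil, or_false, EmbeddingLike.apply_eq_iff_eq] at hmem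
    apply hf
    simp only [List.mem_cons, List.not_mem_nil, or_false]
    exact hmem
  have hfix : ∀ {h : Equiv.Perm GolayPt}, h ∈ fixL M24 (Lk 5) →
      h (pt 23) = pt 23 ∧ h (pt 0) = pt 0 ∧ h (pt 1) = pt 1 ∧ h (pt 2) = pt 2 ∧
        h (pt 3) = pt 3 := by
    intro h hh
    have := (mem_fixL.mp hh).2
    exact ⟨this _ (by decide), this _ (by decide), this _ (by decide), this _ (by decide),
      this _ (by decide)⟩
  by_cases hin : k f ∈ fs octad0
  · obtain ⟨h, hh, hhf⟩ := fix5_trans (q := k f) (q' := pt 5) hkf (by decide)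
      (iff_of_true hin (by decide))
    obtain ⟨e0, e1, e2, e3, e4⟩ := hfix hh
    refine ⟨h * k, M24.mul_mem (mem_fixL.mp hh).1 hk, ⟨?_, ?_, ?_, ?_, ?_⟩, Or.inl ?_⟩ <;>
      simp only [Equiv.Perm.mul_apply, h0, h1, h2, h3, h4, e0, e1, e2, e3, e4, hhf]
  · obtain ⟨h, hh, hhf⟩ := fix5_trans (q := k f) (q' := pt 4) hkf (by decide)
      (iff_of_false hin (by decide))
    obtain ⟨e0, e1, e2, e3, e4⟩ := hfix hh
    refine ⟨h * k, M24.mul_mem (mem_fixL.mp hh).1 hk, ⟨?_, ?_, ?_, ?_, ?_⟩, Or.inr ?_⟩ <;>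
      simp only [Equiv.Perm.mul_apply, h0, h1, h2, h3, h4, e0, e1, e2, e3, e4, hhf]

theorem exists_not_mem_list (l : List GolayPt) (hl : l.length < 24) : ∃ t, t ∉ l := by
  by_contra hcon
  push Not at hcon
  have h1 : (Finset.univ : Finset GolayPt) ⊆ l.toFinset := fun t _ => List.mem_toFinset.mpr (hcon t)
  have h2 := Finset.card_le_card h1
  have h3 : (Finset.univ : Finset GolayPt).card = 24 := by simp [GolayPt]
  have h4 := List.toFinset_card_le l
  omega

theorem conj_apply_of_eq {k g : Equiv.Perm GolayPt} {a b x y : GolayPt} (ha : k a = x)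
    (hb : k b = y) (hab : g a = b) : (k * g * k⁻¹) x = y := by
  rw [← ha, ← hb, ← hab]
  simp

theorem conj_mul_self {k g : Equiv.Perm GolayPt} (h : g * g = 1) :
    (k * g * k⁻¹) * (k * g * k⁻¹) = 1 := by
  have : (k * g * k⁻¹) * (k * g * k⁻¹) = k * (g * g) * k⁻¹ := by group
  rw [this, h]; group

theorem conj_mul_cube {k g : Equiv.Perm GolayPt} (h : g * (g * g) = 1) :
    (k * g * k⁻¹) * ((k * g * k⁻¹) * (k * g * k⁻¹)) = 1 := by
  have : (k * g * k⁻¹) * ((k * g * k⁻¹) * (k * g * k⁻¹)) = k * (g * (g * g)) * k⁻¹ := by group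
  rw [this, h]; group

theorem conj_fpf {k g : Equiv.Perm GolayPt} (h : ∀ p, g p ≠ p) : ∀ p, (k * g * k⁻¹) p ≠ p := by
  intro p hp
  apply h (k⁻¹ p)
  have := congrArg (k⁻¹ : Equiv.Perm GolayPt) hp
  simpa using this

/-! ### the four classes -/

/-- an involution of `M24` with a fixed point is conjugate to `r2A` -/
theorem invol_fix_conj {g : Equiv.Perm GolayPt} (hg : g ∈ M24) (h2 : g * g = 1) (h1 : g ≠ 1)
    {p : GolayPt} (hp : g p = p) : ConjTo g r2A := by
  have hgg : ∀ x, g (g x) = x := fun x => by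
    rw [← Equiv.Perm.mul_apply, h2]; rfl
  obtain ⟨q, hq⟩ : ∃ q, g q ≠ q := by
    by_contra hcon
    push Not at hcon
    exact h1 (Equiv.ext hcon)
  have hgr : g (g q) = q := hgg q
  have hpq : p ≠ q := fun e => hq (e ▸ hp)
  have hpr : p ≠ g q := fun e => hpq (g.injective (hp.trans e))
  have hqr : q ≠ g q := fun e => hq e.symm
  by_cases hs : ∃ s, s ≠ p ∧ s ≠ q ∧ s ≠ g q ∧ g s ≠ s
  · obtain ⟨s, hsp, hsq, hsr, hgs⟩ := hs
    have htp : p ≠ g s := fun e => hsp (g.injective (e.symm.trans hp.symm))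
    have htq : q ≠ g s := fun e => hsr (g.injective (e.symm.trans hgr.symm))
    have htr : g q ≠ g s := fun e => hsq (g.injective e).symm
    obtain ⟨k, hk, k0, k1, k2, k3, k4⟩ := exists_to_base5
      (nodup5 hpq hpr hsp.symm htp hqr hsq.symm htq hsr.symm htr (Ne.symm hgs))
    apply conjTo_of_coset hk hg (rep_cosReps tA (by simp)) _ rep_conj2A isInvL check_tA
      (fun m hm hf => isInvL_of hm hf (conj_mul_self h2))
    intro b hb
    simp only [List.mem_cons, List.not_mem_nil, or_false] at hb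
    rcases hb with rfl | rfl | rfl | rfl | rfl
    · exact conj_apply_of_eq k0 k0 hp
    · exact conj_apply_of_eq k1 k2 rfl
    · exact conj_apply_of_eq k2 k1 hgr
    · exact conj_apply_of_eq k3 k4 rfl
    · exact conj_apply_of_eq k4 k3 (hgg s)
  · push Not at hs
    obtain ⟨s, hs'⟩ := exists_not_mem_list [p, q, g q] (by simp)
    simp only [List.mem_cons, List.not_mem_nil, or_false, not_or] at hs'
    obtain ⟨hsp, hsq, hsr⟩ := hs'
    obtain ⟨t, ht'⟩ := exists_not_mem_list [p, q, g q, s] (by simp)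
    simp only [List.mem_cons, List.not_mem_nil, or_false, not_or] at ht'
    obtain ⟨htp, htq, htr, hts⟩ := ht'
    obtain ⟨k, hk, k0, k1, k2, k3, k4⟩ := exists_to_base5
      (nodup5 hpq hpr (Ne.symm hsp) (Ne.symm htp) hqr (Ne.symm hsq) (Ne.symm htq) (Ne.symm hsr)
        (Ne.symm htr) (Ne.symm hts))
    apply conjTo_of_coset hk hg (rep_cosReps tB (by simp)) _ rep_conj2A isInvL check_tB
      (fun m hm hf => isInvL_of hm hf (conj_mul_self h2))
    intro b hb
    simp only [List.mem_cons, List.not_mem_nil, or_false] at hb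
    rcases hb with rfl | rfl | rfl | rfl | rfl
    · exact conj_apply_of_eq k0 k0 hp
    · exact conj_apply_of_eq k1 k2 rfl
    · exact conj_apply_of_eq k2 k1 hgr
    · exact conj_apply_of_eq k3 k3 (hs s hsp hsq hsr)
    · exact conj_apply_of_eq k4 k4 (hs t htp htq htr)

/-- a fixed-point-free involution of `M24` is conjugate to `r2B` -/
theorem invol_fpf_conj {g : Equiv.Perm GolayPt} (hg : g ∈ M24) (h2 : g * g = 1)
    (h0 : ∀ p, g p ≠ p) : ConjTo g r2B := by
  have hgg : ∀ x, g (g x) = x := fun x => by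
    rw [← Equiv.Perm.mul_apply, h2]; rfl
  obtain ⟨a, -⟩ : ∃ a : GolayPt, a = pt 0 := ⟨_, rfl⟩
  obtain ⟨c, hc'⟩ := exists_not_mem_list [a, g a] (by simp)
  simp only [List.mem_cons, List.not_mem_nil, or_false, not_or] at hc'
  obtain ⟨hca, hcb⟩ := hc'
  obtain ⟨e, he'⟩ := exists_not_mem_list [a, g a, c, g c] (by simp)
  simp only [List.mem_cons, List.not_mem_nil, or_false, not_or] at he'
  obtain ⟨hea, heb, hec, hed⟩ := he'
  have hab : a ≠ g a := (h0 a).symm
  have had : a ≠ g c := fun e' => hcb ((hgg c).symm.trans (congrArg g e'.symm))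
  have haf : a ≠ g e := fun e' => heb ((hgg e).symm.trans (congrArg g e'.symm))
  have hbd : g a ≠ g c := fun e' => hca (g.injective e').symm
  have hbf : g a ≠ g e := fun e' => hea (g.injective e').symm
  have hcd : c ≠ g c := (h0 c).symm
  have hcf : c ≠ g e := fun e' => hed ((hgg e).symm.trans (congrArg g e'.symm))
  have hdf : g c ≠ g e := fun e' => hec (g.injective e').symm
  have hef : e ≠ g e := (h0 e).symm
  obtain ⟨k, hk, ⟨k0, k1, k2, k3, k4⟩, k5⟩ := exists_to_base6
    (nodup6 hab (Ne.symm hca) had (Ne.symm hea) haf (Ne.symm hcb) hbd (Ne.symm heb) hbf hcd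
      (Ne.symm hec) hcf (Ne.symm hed) hdf hef)
  have hP : ∀ m, wf m = true → ⇑(k * g * k⁻¹) = lfun m → (isInvL m && !hasFix m) = true := by
    intro m hm hf
    rw [isInvL_of hm hf (conj_mul_self h2), hasFix_false_of hf (conj_fpf h0)]
    rfl
  rcases k5 with k5 | k5
  · apply conjTo_of_coset hk hg (rep_cosReps tC (by simp)) _ rep_conj2B
      (fun m => isInvL m && !hasFix m) check_tC hP
    intro b hb
    simp only [List.mem_cons, List.not_mem_nil, or_false] at hb
    rcases hb with rfl | rfl | rfl | rfl | rfl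
    · exact conj_apply_of_eq k0 k1 rfl
    · exact conj_apply_of_eq k1 k0 (hgg a)
    · exact conj_apply_of_eq k2 k3 rfl
    · exact conj_apply_of_eq k3 k2 (hgg c)
    · exact conj_apply_of_eq k4 k5 rfl
  · apply conjTo_of_coset hk hg (rep_cosReps tD (by simp)) _ rep_conj2B
      (fun m => isInvL m && !hasFix m) check_tD hP
    intro b hb
    simp only [List.mem_cons, List.not_mem_nil, or_false] at hb
    rcases hb with rfl | rfl | rfl | rfl | rfl
    · exact conj_apply_of_eq k0 k1 rfl
    · exact conj_apply_of_eq k1 k0 (hgg a)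
    · exact conj_apply_of_eq k2 k3 rfl
    · exact conj_apply_of_eq k3 k2 (hgg c)
    · exact conj_apply_of_eq k4 k5 rfl

/-- an element of order three of `M24` with a fixed point is conjugate to `r3A` -/
theorem ord3_fix_conj {g : Equiv.Perm GolayPt} (hg : g ∈ M24) (h3 : g * (g * g) = 1) (h1 : g ≠ 1)
    {p : GolayPt} (hp : g p = p) : ConjTo g r3A := by
  have hggg : ∀ x, g (g (g x)) = x := fun x => by
    have := congrArg (fun f : Equiv.Perm GolayPt => f x) h3
    simpa using this
  obtain ⟨q, hq⟩ : ∃ q, g q ≠ q := by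
    by_contra hcon
    push Not at hcon
    exact h1 (Equiv.ext hcon)
  have hpq : p ≠ q := fun e => hq (e ▸ hp)
  have hpr : p ≠ g q := fun e => hpq (g.injective (hp.trans e))
  have hps : p ≠ g (g q) := fun e => hpr (g.injective (hp.trans e))
  have hqr : q ≠ g q := fun e => hq e.symm
  have hqs : q ≠ g (g q) := fun e => hq ((congrArg g e).trans (hggg q))
  have hrs : g q ≠ g (g q) := fun e => hqr (g.injective e)
  obtain ⟨t, ht'⟩ := exists_not_mem_list [p, q, g q, g (g q)] (by simp)
  simp only [List.mem_cons, List.not_mem_nil, or_false, not_or] at ht'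
  obtain ⟨htp, htq, htr, hts⟩ := ht'
  have hP : ∀ (k : Equiv.Perm GolayPt) m, wf m = true → ⇑(k * g * k⁻¹) = lfun m →
      isOrd3L m = true := fun k m hm hf => isOrd3L_of hm hf (conj_mul_cube h3)
  by_cases hu : g t = t
  · obtain ⟨k, hk, k0, k1, k2, k3, k4⟩ := exists_to_base5
      (nodup5 hpq hpr hps (Ne.symm htp) hqr hqs (Ne.symm htq) hrs (Ne.symm htr) (Ne.symm hts))
    apply conjTo_of_coset hk hg (rep_cosReps tG (by simp)) _ rep_conj3A isOrd3L check_tG (hP k)
    intro b hb
    simp only [List.mem_cons, List.not_mem_nil, or_false] at hb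
    rcases hb with rfl | rfl | rfl | rfl | rfl
    · exact conj_apply_of_eq k0 k0 hp
    · exact conj_apply_of_eq k1 k2 rfl
    · exact conj_apply_of_eq k2 k3 rfl
    · exact conj_apply_of_eq k3 k1 (hggg q)
    · exact conj_apply_of_eq k4 k4 hu
  · have haf : p ≠ g t := fun e => htp (g.injective (e.symm.trans hp.symm))
    have hbf : q ≠ g t := fun e => hts (g.injective (e.symm.trans (hggg q).symm))
    have hcf : g q ≠ g t := fun e => htq (g.injective e).symm
    have hdf : g (g q) ≠ g t := fun e => htr (g.injective e).symm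
    obtain ⟨k, hk, ⟨k0, k1, k2, k3, k4⟩, k5⟩ := exists_to_base6
      (nodup6 hpq hpr hps (Ne.symm htp) haf hqr hqs (Ne.symm htq) hbf hrs (Ne.symm htr) hcf
        (Ne.symm hts) hdf (Ne.symm hu))
    rcases k5 with k5 | k5
    · apply conjTo_of_coset hk hg (rep_cosReps tE (by simp)) _ rep_conj3A isOrd3L check_tE (hP k)
      intro b hb
      simp only [List.mem_cons, List.not_mem_nil, or_false] at hb
      rcases hb with rfl | rfl | rfl | rfl | rfl
      · exact conj_apply_of_eq k0 k0 hp
      · exact conj_apply_of_eq k1 k2 rfl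
      · exact conj_apply_of_eq k2 k3 rfl
      · exact conj_apply_of_eq k3 k1 (hggg q)
      · exact conj_apply_of_eq k4 k5 rfl
    · apply conjTo_of_coset hk hg (rep_cosReps tF (by simp)) _ rep_conj3A isOrd3L check_tF (hP k)
      intro b hb
      simp only [List.mem_cons, List.not_mem_nil, or_false] at hb
      rcases hb with rfl | rfl | rfl | rfl | rfl
      · exact conj_apply_of_eq k0 k0 hp
      · exact conj_apply_of_eq k1 k2 rfl
      · exact conj_apply_of_eq k2 k3 rfl
      · exact conj_apply_of_eq k3 k1 (hggg q)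
      · exact conj_apply_of_eq k4 k5 rfl

/-- a fixed-point-free element of order three of `M24` is conjugate to `r3B` -/
theorem ord3_fpf_conj {g : Equiv.Perm GolayPt} (hg : g ∈ M24) (h3 : g * (g * g) = 1)
    (h0 : ∀ p, g p ≠ p) : ConjTo g r3B := by
  have hggg : ∀ x, g (g (g x)) = x := fun x => by
    have := congrArg (fun f : Equiv.Perm GolayPt => f x) h3
    simpa using this
  obtain ⟨a, -⟩ : ∃ a : GolayPt, a = pt 0 := ⟨_, rfl⟩
  obtain ⟨d, hd'⟩ := exists_not_mem_list [a, g a, g (g a)] (by simp)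
  simp only [List.mem_cons, List.not_mem_nil, or_false, not_or] at hd'
  obtain ⟨hda, hdb, hdc⟩ := hd'
  have hab : a ≠ g a := (h0 a).symm
  have hac : a ≠ g (g a) := fun e => h0 a ((congrArg g e).trans (hggg a))
  have hae : a ≠ g d := fun e => hdc (g.injective (e.symm.trans (hggg a).symm))
  have haf : a ≠ g (g d) := fun e =>
    hdb (g.injective (g.injective (e.symm.trans (hggg a).symm)))
  have hbc : g a ≠ g (g a) := fun e => h0 a (g.injective e).symm
  have hbe : g a ≠ g d := fun e => hda (g.injective e).symm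
  have hbf : g a ≠ g (g d) := fun e => hae (g.injective e)
  have hce : g (g a) ≠ g d := fun e => hdb (g.injective e).symm
  have hcf : g (g a) ≠ g (g d) := fun e => hda (g.injective (g.injective e)).symm
  have hde : d ≠ g d := (h0 d).symm
  have hdf : d ≠ g (g d) := fun e => h0 d ((congrArg g e).trans (hggg d))
  have hef : g d ≠ g (g d) := fun e => h0 d (g.injective e).symm
  obtain ⟨k, hk, ⟨k0, k1, k2, k3, k4⟩, k5⟩ := exists_to_base6
    (nodup6 hab hac (Ne.symm hda) hae haf hbc (Ne.symm hdb) hbe hbf (Ne.symm hdc) hce hcf hde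
      hdf hef)
  have hP : ∀ m, wf m = true → ⇑(k * g * k⁻¹) = lfun m → (isOrd3L m && !hasFix m) = true := by
    intro m hm hf
    rw [isOrd3L_of hm hf (conj_mul_cube h3), hasFix_false_of hf (conj_fpf h0)]
    rfl
  rcases k5 with k5 | k5
  · apply conjTo_of_coset hk hg (rep_cosReps tH (by simp)) _ rep_conj3B
      (fun m => isOrd3L m && !hasFix m) check_tH hP
    intro b hb
    simp only [List.mem_cons, List.not_mem_nil, or_false] at hb
    rcases hb with rfl | rfl | rfl | rfl | rfl
    · exact conj_apply_of_eq k0 k1 rfl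
    · exact conj_apply_of_eq k1 k2 rfl
    · exact conj_apply_of_eq k2 k0 (hggg a)
    · exact conj_apply_of_eq k3 k4 rfl
    · exact conj_apply_of_eq k4 k5 rfl
  · apply conjTo_of_coset hk hg (rep_cosReps tI (by simp)) _ rep_conj3B
      (fun m => isOrd3L m && !hasFix m) check_tI hP
    intro b hb
    simp only [List.mem_cons, List.not_mem_nil, or_false] at hb
    rcases hb with rfl | rfl | rfl | rfl | rfl
    · exact conj_apply_of_eq k0 k1 rfl
    · exact conj_apply_of_eq k1 k2 rfl
    · exact conj_apply_of_eq k2 k0 (hggg a)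
    · exact conj_apply_of_eq k3 k4 rfl
    · exact conj_apply_of_eq k4 k5 rfl

end Cfsg.Agent.Lib.Helper6.Golay
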