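import Cfsg.Agent.Lib.Helper6.M12OutData

/-!
# Elements of the stabilizer of the reference dodecad given by lists
-/

set_option autoImplicit false
set_option maxRecDepth 1000000

namespace Cfsg.Agent.Lib.Helper6.Golay.M12Out

open Cfsg Cfsg.Agent.Lib.Helper6.Golay
open Cfsg.Agent.Lib.Helper6.PermChain
open scoped Pointwise

theorem lfun_pt' (l : List ℕ) {i : ℕ} (hi : i < 24) : lfun l (pt i) = pt (l.getD i 0) := by
  rw [lfun, idx_pt i hi]

theorem pt_inj' {i j : ℕ} (hi : i < 24) (hj : j < 24) (h : pt i = pt j) : i = j := by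
  have := congrArg idx h
  rwa [idx_pt i hi, idx_pt j hj] at this

theorem lfun_mul'' {a b : Equiv.Perm GolayPt} {ma mb : List ℕ} (wb : wf mb = true)
    (ha : ⇑a = lfun ma) (hb : ⇑b = lfun mb) : ⇑(a * b) = lfun (lmul ma mb) := by
  rw [lfun_lmul ma wb, ← ha, ← hb]
  rfl

/-- a permutation is described by a list -/
def IsL (g : Equiv.Perm GolayPt) (l : List ℕ) : Prop := wf l = true ∧ ⇑g = lfun l

theorem IsL.one : IsL 1 idl := ⟨wf_idl, by rw [lfun_idl]; rfl⟩

theorem IsL.mul {a b : Equiv.Perm GolayPt} {la lb : List ℕ} (ha : IsL a la) (hb : IsL b lb) :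
    IsL (a * b) (lmul la lb) :=
  ⟨wf_lmul ha.1 hb.1, lfun_mul'' hb.1 ha.2 hb.2⟩

theorem IsL.pow {a : Equiv.Perm GolayPt} {la : List ℕ} (ha : IsL a la) (n : ℕ) :
    IsL (a ^ n) (lpow la n) := by
  induction n with
  | zero => exact IsL.one
  | succ n ih => rw [pow_succ, lpow]; exact ih.mul ha

theorem IsL.ext {a b : Equiv.Perm GolayPt} {l : List ℕ} (ha : IsL a l) (hb : IsL b l) : a = b :=
  DFunLike.coe_injective (ha.2.trans hb.2.symm)

theorem IsL.ext' {a b : Equiv.Perm GolayPt} {la lb : List ℕ} (ha : IsL a la) (hb : IsL b lb)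
    (h : la = lb) : a = b := by
  subst h; exact ha.ext hb

theorem IsL.apply {a : Equiv.Perm GolayPt} {l : List ℕ} (ha : IsL a l) {i : ℕ} (hi : i < 24) :
    a (pt i) = pt (l.getD i 0) := by
  rw [ha.2, lfun_pt' l hi]

theorem IsL.smul_fs {a : Equiv.Perm GolayPt} {l : List ℕ} (ha : IsL a l) (n : ℕ) :
    a • fs n = fs (lmask l n) := Golay.smul_fs ha.1 ha.2 n

theorem lfun_inj_of_nodup {l : List ℕ} (hl : wf l = true) (hnd : l.Nodup) :
    Function.Injective (lfun l) := by
  intro p q hpq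
  have hl' := (wf_iff l).mp hl
  have hp := idx_lt p
  have hq := idx_lt q
  unfold lfun at hpq
  have h1 := pt_inj' (getD_lt hl hp) (getD_lt hl hq) hpq
  rw [List.getD_eq_getElem _ _ (by rw [hl'.1]; exact hp),
    List.getD_eq_getElem _ _ (by rw [hl'.1]; exact hq)] at h1
  have h2 := (List.Nodup.getElem_inj_iff hnd).1 h1
  rw [← pt_idx p, ← pt_idx q, h2]

/-- a checked list gives an element of the group of the code -/
theorem exists_of_chk {l : List ℕ} (h : chkL l = true) : ∃ g ∈ M24, IsL g l := by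
  unfold chkL at h
  rw [Bool.and_eq_true, Bool.and_eq_true, decide_eq_true_eq] at h
  obtain ⟨⟨hwf, hnd⟩, hchk⟩ := h
  have hinj := lfun_inj_of_nodup hwf hnd
  let σ : Equiv.Perm GolayPt := Equiv.ofBijective (lfun l) (Finite.injective_iff_bijective.1 hinj)
  exact ⟨σ, mem_M24_of_checkFun σ hchk, hwf, rfl⟩

noncomputable def y : Equiv.Perm GolayPt := Classical.choose (exists_of_chk yL_chk)
noncomputable def z : Equiv.Perm GolayPt := Classical.choose (exists_of_chk zL_chk)
noncomputable def u : Equiv.Perm GolayPt := Classical.choose (exists_of_chk uL_chk)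
noncomputable def h : Equiv.Perm GolayPt := Classical.choose (exists_of_chk hL_chk)

theorem y_mem24 : y ∈ M24 := (Classical.choose_spec (exists_of_chk yL_chk)).1
theorem z_mem24 : z ∈ M24 := (Classical.choose_spec (exists_of_chk zL_chk)).1
theorem u_mem24 : u ∈ M24 := (Classical.choose_spec (exists_of_chk uL_chk)).1
theorem h_mem24 : h ∈ M24 := (Classical.choose_spec (exists_of_chk hL_chk)).1
theorem y_isL : IsL y yL := (Classical.choose_spec (exists_of_chk yL_chk)).2
theorem z_isL : IsL z zL := (Classical.choose_spec (exists_of_chk zL_chk)).2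
theorem u_isL : IsL u uL := (Classical.choose_spec (exists_of_chk uL_chk)).2
theorem h_isL : IsL h hL := (Classical.choose_spec (exists_of_chk hL_chk)).2

/-- the stabilizer of the reference dodecad -/
abbrev G : Subgroup (Equiv.Perm GolayPt) := M12in M24

theorem y_mem : y ∈ G := mem_M12in.2 ⟨y_mem24, by rw [y_isL.smul_fs, stab_chk.1]⟩
theorem z_mem : z ∈ G := mem_M12in.2 ⟨z_mem24, by rw [z_isL.smul_fs, stab_chk.2.1]⟩
theorem u_mem : u ∈ G := mem_M12in.2 ⟨u_mem24, by rw [u_isL.smul_fs, stab_chk.2.2.1]⟩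

theorem h_smul : h • fs dodecad0 = (fs dodecad0)ᶜ := by
  rw [h_isL.smul_fs, stab_chk.2.2.2, fs_compl]

theorem smul_compl' (g : Equiv.Perm GolayPt) (s : Finset GolayPt) : g • sᶜ = (g • s)ᶜ := by
  rw [Finset.compl_eq_univ_sdiff, Finset.compl_eq_univ_sdiff, Finset.smul_finset_sdiff,
    Finset.smul_finset_univ]

/-! ### relations -/

theorem y_pow : y ^ 11 = 1 := (y_isL.pow 11).ext' IsL.one (by decide +kernel)
theorem z_pow : z ^ 5 = 1 := (z_isL.pow 5).ext' IsL.one (by decide +kernel)
theorem u_sq : u * u = 1 := (u_isL.mul u_isL).ext' IsL.one (by decide +kernel)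
theorem h_sq : h * h = 1 := (h_isL.mul h_isL).ext' IsL.one (by decide +kernel)
theorem zy : z * y = y ^ 9 * z := (z_isL.mul y_isL).ext' ((y_isL.pow 9).mul z_isL) (by decide +kernel)
theorem uz : u * z = z * u := (u_isL.mul z_isL).ext' (z_isL.mul u_isL) (by decide +kernel)
theorem hy : h * y = y ^ 10 * h := (h_isL.mul y_isL).ext' ((y_isL.pow 10).mul h_isL) (by decide +kernel)

theorem y_ne_one : y ≠ 1 := by
  intro h1
  have := y_isL.apply (i := 0) (by norm_num)
  rw [h1] at this
  have h2 : pt 0 = pt (yL.getD 0 0) := this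
  exact absurd (pt_inj' (by norm_num) (by decide) h2) (by decide)

theorem y_order : orderOf y = 11 := by
  have : Fact (Nat.Prime 11) := ⟨by norm_num⟩
  exact orderOf_eq_prime y_pow y_ne_one

end Cfsg.Agent.Lib.Helper6.Golay.M12Out
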