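import Cfsg.Agent.Lib.Helper6.GolayDodecad

/-!
# The pointwise stabilizer of an octad: order 16, exponent 2
-/

set_option autoImplicit false

namespace Cfsg.Agent.Lib.Helper6.Golay

open Cfsg
open Cfsg.Agent.Lib.Helper6.PermChain
open scoped Pointwise

def progT : List (ℕ × ℕ) := [(1, 1), (3, 1), (4, 0), (5, 1), (6, 2), (7, 2), (3, 0), (9, 0), (10, 0), (0, 1), (12, 2), (13, 1), (14, 2), (15, 2), (16, 2), (17, 2), (18, 0), (19, 1), (20, 0), (21, 2), (22, 0), (8, 23), (11, 24), (3, 1), (26, 0), (27, 2), (3, 0), (29, 25), (3, 2), (31, 2), (32, 25), (33, 25), (23, 0), (35, 1), (36, 1), (37, 0), (38, 1), (28, 39), (30, 40), (34, 41), (3, 1), (43, 0), (44, 0), (3, 0), (46, 2), (47, 25), (48, 0), (3, 25), (3, 42), (39, 0), (52, 2), (53, 0), (54, 0), (55, 2), (56, 0), (57, 1), (58, 1), (59, 0), (60, 1), (61, 0), (45, 62), (49, 63), (50, 64), (51, 65), (3, 1), (67, 0), (68, 2), (69, 25), (3, 0), (71, 25), (72, 25), (3, 2), (74, 2), (75, 25), (76, 25), (3, 42), (78,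 42), (79, 66), (80, 42), (3, 66), (62, 0), (83, 2), (84, 2), (85, 1), (70, 86), (73, 87), (77, 88), (81, 89), (82, 90), (3, 1), (92, 0), (93, 2), (94, 25), (3, 0), (96, 2), (3, 2), (98, 25), (99, 42), (3, 42), (101, 66), (102, 42), (3, 66), (104, 66), (105, 66), (106, 91), (107, 91), (3, 91), (86, 0), (110, 0), (111, 0), (112, 0), (113, 0), (114, 0), (115, 1), (116, 1), (117, 0), (118, 2), (95, 119), (97, 120), (100, 121), (103, 122), (108, 123), (109, 124), (3, 1), (126, 0), (127, 2), (128, 25), (3, 0), (130, 2), (131, 91), (3, 25), (3, 42), (134, 66), (3, 66), (119, 0), (137, 2), (138, 0), (139, 1), (140, 1), (141, 0), (129, 142), (132, 143), (133, 144), (135, 145), (136, 146), (3, 1), (148, 0), (149, 2), (150, 91), (3, 0), (152, 42), (153, 0), (3, 2), (155, 25), (156, 147), (3, 42), (158, 42), (159, 42), (160, 42), (3, 66), (162, 66), (163, 91), (142, 1), (165, 0), (166, 0), (167, 1), (168, 0), (169, 1), (170, 1), (171, 2), (151, 172), (154, 173), (157,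 174), (161, 175), (164, 176), (3, 1), (178, 0), (179, 0), (180, 25), (3, 0), (182, 66), (3, 2), (184, 91), (185, 125), (3, 42), (187, 42), (188, 125), (3, 66), (190, 91), (191, 91), (192, 125), (3, 91), (172, 0), (195, 2), (196, 2), (197, 2), (198, 1), (199, 0), (200, 1), (201, 1), (202, 1), (203, 1), (204, 2), (205, 1), (206, 1), (207, 1), (208, 2), (209, 0), (210, 0), (181, 211), (183, 212), (186, 213), (189, 214), (193, 215), (194, 216), (125, 3), (147, 3), (177, 3), (217, 3), (147, 218), (177, 218), (217, 218), (177, 219), (217, 219), (217, 220), (177, 222), (217, 222), (217, 223), (217, 225), (217, 228)]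

def t6idx : List ℕ := [3, 218, 219, 220, 221, 222, 223, 224, 225, 226, 227, 228, 229, 230, 231, 232]

/-- the sixteen elements of the pointwise stabilizer of the first six base points -/
def T6 : List (List ℕ) := t6idx.map (fun i => (slpRun gens3 progT).getD i idl)

theorem rep_T6 {H : Subgroup (Equiv.Perm GolayPt)} (hH : HasGens H) : ∀ l ∈ T6, Rep H l := by
  intro l hl
  rw [T6, List.mem_map] at hl
  obtain ⟨i, _, rfl⟩ := hl
  exact rep_getD (rep_slpRun _ _ (rep_gens3 hH)) i

set_option maxHeartbeats 4000000 in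
theorem T6_ok : T6.all (fun l => fixesAll l [23, 0, 1, 2, 3, 5] && (lmul l l == idl) &&
    fixesAll l [14, 17]) = true := by decide +kernel

set_option maxHeartbeats 4000000 in
theorem T6_cover : (orbsL.getD 6 []).all (fun q => T6.any (fun l => l.getD 4 0 == q)) = true := by
  decide +kernel

/-- every element of `M24` fixing the first six base points is one of the sixteen -/
theorem exists_T6_of_fixL {g : Equiv.Perm GolayPt} (hg : g ∈ fixL M24 (Lk 6)) :
    ∃ l ∈ T6, ⇑g = lfun l := by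
  have h1 := mem_orbk_of_fixL le_rfl 6 (by norm_num) g hg
  rw [orbk, List.mem_toFinset, List.mem_map] at h1
  obtain ⟨q, hq, hqg⟩ := h1
  have h2 := List.all_eq_true.mp T6_cover q hq
  rw [List.any_eq_true] at h2
  obtain ⟨l, hl, hlq⟩ := h2
  rw [beq_iff_eq] at hlq
  obtain ⟨wl, u, hu, hul⟩ := rep_T6 hasGens_M24 l hl
  have h3 := List.all_eq_true.mp T6_ok l hl
  simp only [Bool.and_eq_true, beq_iff_eq] at h3
  have hu6 : u ∈ fixL M24 (Lk 6) := by
    rw [mem_fixL]
    refine ⟨hu, ?_⟩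
    intro x hx
    rw [Lk, List.mem_map] at hx
    obtain ⟨b, hb, rfl⟩ := hx
    have hb' : b ∈ [23, 0, 1, 2, 3, 5] := hb
    have := List.all_eq_true.mp h3.1.1 b hb'
    rw [beq_iff_eq] at this
    have hb24 : b < 24 := by
      simp only [List.mem_cons, List.not_mem_nil, or_false] at hb'
      omega
    rw [hul, lfun, idx_pt b hb24, this]
  have hu4 : u (bk 6) = g (bk 6) := by
    rw [← hqg, hul, lfun]
    have : idx (bk 6) = 4 := by decide
    rw [this, hlq]
  have h7 : u⁻¹ * g ∈ fixL M24 (Lk 7) := by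
    rw [← Lk_succ 6 (by norm_num), fixL_concat, Subgroup.mem_inf, MulAction.mem_stabilizer_iff]
    refine ⟨(fixL M24 (Lk 6)).mul_mem ((fixL M24 (Lk 6)).inv_mem hu6) hg, ?_⟩
    rw [Equiv.Perm.smul_def, Equiv.Perm.mul_apply, ← hu4, Equiv.Perm.inv_def,
      Equiv.symm_apply_apply]
  rw [fixL7_eq_bot le_rfl, Subgroup.mem_bot, inv_mul_eq_one] at h7
  exact ⟨l, hl, by rw [← h7, hul]⟩

/-- the pointwise stabilizer of the reference octad is the stabilizer of the first six base
points -/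
theorem fixOctad0_eq :
    M24 ⊓ fixingSubgroup (Equiv.Perm GolayPt) (↑(fs octad0) : Set GolayPt) = fixL M24 (Lk 6) := by
  ext g
  rw [Subgroup.mem_inf, mem_fixingSubgroup_iff, mem_fixL]
  constructor
  · rintro ⟨h1, h2⟩
    refine ⟨h1, fun x hx => h2 x ?_⟩
    have : ∀ x ∈ Lk 6, x ∈ fs octad0 := by decide
    exact this x hx
  · rintro ⟨h1, h2⟩
    refine ⟨h1, ?_⟩
    obtain ⟨l, hl, hgl⟩ := exists_T6_of_fixL (mem_fixL.mpr ⟨h1, h2⟩)
    have h3 := List.all_eq_true.mp T6_ok l hl
    simp only [Bool.and_eq_true, beq_iff_eq] at h3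
    intro y hy
    have hy' : idx y ∈ [23, 0, 1, 2, 3, 5] ∨ idx y ∈ [14, 17] := by
      have : ∀ y : GolayPt, y ∈ fs octad0 → idx y ∈ [23, 0, 1, 2, 3, 5] ∨ idx y ∈ [14, 17] := by
        decide
      exact this y hy
    have hfix : l.getD (idx y) 0 = idx y := by
      rcases hy' with h | h
      · have := List.all_eq_true.mp h3.1.1 _ h
        rwa [beq_iff_eq] at this
      · have := List.all_eq_true.mp h3.2 _ h
        rwa [beq_iff_eq] at this
    show g y = y
    rw [hgl, lfun, hfix, pt_idx]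

theorem card_fixOctad0 :
    Nat.card ↥(M24 ⊓ fixingSubgroup (Equiv.Perm GolayPt) (↑(fs octad0) : Set GolayPt)) = 16 := by
  rw [fixOctad0_eq]
  exact (card_fixL_chain hasGens_M24 le_rfl).2.2.2.2.2

theorem sq_fixOctad0 {g : Equiv.Perm GolayPt}
    (hg : g ∈ M24 ⊓ fixingSubgroup (Equiv.Perm GolayPt) (↑(fs octad0) : Set GolayPt)) :
    g * g = 1 := by
  rw [fixOctad0_eq] at hg
  obtain ⟨l, hl, hgl⟩ := exists_T6_of_fixL hg
  have h3 := List.all_eq_true.mp T6_ok l hl
  simp only [Bool.and_eq_true, beq_iff_eq] at h3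
  obtain ⟨wl, _⟩ := rep_T6 hasGens_M24 l hl
  apply Equiv.ext
  intro p
  rw [Equiv.Perm.mul_apply, Equiv.Perm.one_apply, hgl]
  have := congrFun (lfun_lmul l wl) p
  rw [h3.1.2, lfun_idl] at this
  exact this.symm

/-- conjugation of pointwise stabilizers -/
theorem fixingSubgroup_smul_conj (t : Equiv.Perm GolayPt) (s : Finset GolayPt) (g : Equiv.Perm GolayPt) :
    g ∈ fixingSubgroup (Equiv.Perm GolayPt) (↑(t • s) : Set GolayPt) ↔
      t⁻¹ * g * t ∈ fixingSubgroup (Equiv.Perm GolayPt) (↑s : Set GolayPt) := by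
  rw [mem_fixingSubgroup_iff, mem_fixingSubgroup_iff]
  constructor
  · intro h y hy
    have := h (t y) (by
      rw [Finset.mem_coe, Finset.mem_smul_finset]; exact ⟨y, hy, rfl⟩)
    show t⁻¹ (g (t y)) = y
    have h2 : g (t y) = t y := this
    rw [h2, Equiv.Perm.inv_def, Equiv.symm_apply_apply]
  · intro h y hy
    rw [Finset.mem_coe, Finset.mem_smul_finset] at hy
    obtain ⟨z, hz, rfl⟩ := hy
    have h2 : t⁻¹ (g (t z)) = z := h z hz
    show g (t z) = t z
    rw [Equiv.Perm.inv_def, Equiv.symm_apply_eq] at h2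
    exact h2

/-- **The pointwise stabilizer of an octad has order 16 and exponent 2.** -/
theorem fixOctad {o : Finset GolayPt} (ho : o ∈ octads) :
    Nat.card ↥(M24 ⊓ fixingSubgroup (Equiv.Perm GolayPt) (↑o : Set GolayPt)) = 16 ∧
      ∀ g ∈ M24 ⊓ fixingSubgroup (Equiv.Perm GolayPt) (↑o : Set GolayPt), g * g = 1 := by
  obtain ⟨t, ht, rfl⟩ := exists_M24_octad octad0_mem ho
  have hconj : ∀ g, g ∈ M24 ⊓ fixingSubgroup (Equiv.Perm GolayPt) (↑(t • fs octad0) : Set GolayPt) ↔
      t⁻¹ * g * t ∈ M24 ⊓ fixingSubgroup (Equiv.Perm GolayPt) (↑(fs octad0) : Set GolayPt) := by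
    intro g
    rw [Subgroup.mem_inf, Subgroup.mem_inf, fixingSubgroup_smul_conj]
    constructor
    · rintro ⟨h1, h2⟩
      exact ⟨M24.mul_mem (M24.mul_mem (M24.inv_mem ht) h1) ht, h2⟩
    · rintro ⟨h1, h2⟩
      refine ⟨?_, h2⟩
      have := M24.mul_mem (M24.mul_mem ht h1) (M24.inv_mem ht)
      simpa [mul_assoc] using this
  constructor
  · rw [← card_fixOctad0]
    apply Nat.card_congr
    refine ⟨fun g => ⟨t⁻¹ * g.1 * t, (hconj g.1).mp g.2⟩, fun h => ⟨t * h.1 * t⁻¹, ?_⟩, ?_, ?_⟩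
    · rw [hconj]
      have : t⁻¹ * (t * h.1 * t⁻¹) * t = h.1 := by simp [mul_assoc]
      rw [this]; exact h.2
    · intro g; apply Subtype.ext; simp [mul_assoc]
    · intro h; apply Subtype.ext; simp [mul_assoc]
  · intro g hg
    have h1 := sq_fixOctad0 ((hconj g).mp hg)
    have h2 : t⁻¹ * (g * g) * t = 1 := by
      rw [← h1]; simp [mul_assoc]
    have h3 := congrArg (fun z => t * z * t⁻¹) h2
    simpa [mul_assoc] using h3

end Cfsg.Agent.Lib.Helper6.Golay
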