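import Cfsg.Agent.Lib.Helper6.GolayRank

/-!
# Glue lemmas for the rank statements
-/

set_option autoImplicit false

namespace Cfsg.Agent.Lib.Helper6.Golay

open Cfsg
open Cfsg.Agent.Lib.Helper6.PermChain
open scoped Pointwise

/-- two octads meet in 0, 2, 4 or 8 points -/
theorem octad_inter_cases {o o' : Finset GolayPt} (ho : o ∈ octads) (ho' : o' ∈ octads) :
    (o ∩ o').card = 0 ∨ (o ∩ o').card = 2 ∨ (o ∩ o').card = 4 ∨ (o ∩ o').card = 8 := by
  obtain ⟨⟨v, hv, rfl⟩, hvc⟩ := ho
  obtain ⟨⟨w, hw, rfl⟩, hwc⟩ := ho'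
  have hvw : v + w ∈ golayCode := Submodule.add_mem _ hv hw
  have h1 := hammingNorm_mem _ hvw
  rw [← card_support₂, support₂_add] at h1
  have h2 := card_symmDiff_add (support₂ v) (support₂ w)
  omega

/-- two dodecads meet in 0, 4, 6, 8 or 12 points -/
theorem dodecad_inter_cases {d d' : Finset GolayPt} (hd : d ∈ dodecads) (hd' : d' ∈ dodecads) :
    (d ∩ d').card = 0 ∨ (d ∩ d').card = 4 ∨ (d ∩ d').card = 6 ∨ (d ∩ d').card = 8 ∨
      (d ∩ d').card = 12 := by
  obtain ⟨⟨v, hv, rfl⟩, hvc⟩ := hd
  obtain ⟨⟨w, hw, rfl⟩, hwc⟩ := hd'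
  have hvw : v + w ∈ golayCode := Submodule.add_mem _ hv hw
  have h1 := hammingNorm_mem _ hvw
  rw [← card_support₂, support₂_add] at h1
  have h2 := card_symmDiff_add (support₂ v) (support₂ w)
  omega

/-- two sets of the same cardinality `c` meeting a third set `a` of cardinality `c` in `c` points
are equal -/
theorem eq_of_full_inter {a b b' : Finset GolayPt} {c : ℕ} (ha : a.card = c) (hb : b.card = c)
    (hb' : b'.card = c) (h : (a ∩ b).card = c) (h' : (a ∩ b').card = c) : b = b' := by
  have e1 : a ∩ b = b := Finset.eq_of_subset_of_card_le Finset.inter_subset_right (by rw [h, hb])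
  have e2 : a ∩ b = a := Finset.eq_of_subset_of_card_le Finset.inter_subset_left (by rw [h, ha])
  have e3 : a ∩ b' = b' := Finset.eq_of_subset_of_card_le Finset.inter_subset_right (by rw [h', hb'])
  have e4 : a ∩ b' = a := Finset.eq_of_subset_of_card_le Finset.inter_subset_left (by rw [h', ha])
  rw [← e1, e2, ← e4, e3]

theorem card_inter_singleton (b : Finset GolayPt) (x : GolayPt) :
    (b ∩ {x}).card = if x ∈ b then 1 else 0 := by
  split_ifs with h
  · rw [Finset.inter_singleton_of_mem h, Finset.card_singleton]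
  · rw [Finset.inter_singleton_of_notMem h, Finset.card_empty]

theorem card_inter_singleton_eq_one {b : Finset GolayPt} {x : GolayPt} :
    (b ∩ {x}).card = 1 ↔ x ∈ b := by
  rw [card_inter_singleton]; split_ifs with h <;> simp [h]

theorem card_inter_singleton_eq_zero {b : Finset GolayPt} {x : GolayPt} :
    (b ∩ {x}).card = 0 ↔ x ∉ b := by
  rw [card_inter_singleton]; split_ifs with h <;> simp [h]

theorem smul_fs_pow (t : Equiv.Perm GolayPt) (i : ℕ) (hi : i < 24) : t • fs (2 ^ i) = {t (pt i)} := by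
  rw [fs_pow i hi, Finset.smul_finset_singleton]; rfl

theorem smul_singleton_eq {g : Equiv.Perm GolayPt} {x : GolayPt}
    (h : g • ({x} : Finset GolayPt) = {x}) : g x = x := by
  rw [Finset.smul_finset_singleton] at h
  exact Finset.singleton_injective h

/-- an element of `M24` carrying the reference octad and its point `∞` to a given octad and a given
point of it -/
theorem exists_M24_octad_point_in {o : Finset GolayPt} (ho : o ∈ octads) {x : GolayPt} (hx : x ∈ o) :
    ∃ t ∈ M24, t • fs octad0 = o ∧ t (pt 23) = x := by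
  obtain ⟨B, hxB, hBo, hBc⟩ := Finset.exists_subsuperset_card_eq (Finset.singleton_subset_iff.mpr hx)
    (show ({x} : Finset GolayPt).card ≤ 5 by simp) (by rw [ho.2]; norm_num)
  have hA0 : ({pt 23} : Finset GolayPt) ⊆ fs 8388623 := by decide
  have hB0o : fs 8388623 ⊆ fs octad0 := by decide
  have hB0c : (fs 8388623).card = 5 := by rw [card_fs]; decide
  obtain ⟨t, ht, htA, htB⟩ := exists_M24_flag hA0 hxB (by simp) (by rw [hB0c, hBc]) (by rw [hB0c])
  refine ⟨t, ht, ?_, ?_⟩
  · apply octad_unique (smul_mem_octads ht octad0_mem) ho hBc _ hBo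
    rw [← htB]
    exact Finset.smul_finset_subset_smul_finset hB0o
  · rw [Finset.smul_finset_singleton] at htA
    exact Finset.singleton_injective htA

/-- an element of `M24` carrying the reference octad and the point `4` outside it to a given octad
and a given point outside it -/
theorem exists_M24_octad_point_out {o : Finset GolayPt} (ho : o ∈ octads) {x : GolayPt} (hx : x ∉ o) :
    ∃ t ∈ M24, t • fs octad0 = o ∧ t (pt 4) = x := by
  obtain ⟨t, ht, rfl⟩ := exists_M24_octad octad0_mem ho
  have hx' : t⁻¹ x ∉ fs octad0 := by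
    intro h
    apply hx
    rw [Finset.mem_smul_finset]
    exact ⟨t⁻¹ x, h, by simp⟩
  have hmem : t⁻¹ x ∈ orbk 6 := by
    have : ∀ q, q ∉ fs octad0 → q ∈ orbk 6 := by decide
    exact this _ hx'
  obtain ⟨h, hh, hhx⟩ := exists_of_mem_orbk hasGens_M24 6 (by norm_num) _ hmem
  have hho := smul_octad0 le_rfl (by norm_num) hh
  refine ⟨t * h, M24.mul_mem ht (fixL_le _ _ hh), ?_, ?_⟩
  · rw [mul_smul, hho]
  · have : bk 6 = pt 4 := by decide
    rw [this] at hhx
    rw [Equiv.Perm.mul_apply, hhx]
    simp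

end Cfsg.Agent.Lib.Helper6.Golay
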