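import Cfsg.Agent.Lib.Helper6.GolayOctadA8
import Cfsg.Agent.Lib.Helper6.GolayRankGlue

/-!
# The stabilizer of an octad splits over the pointwise stabilizer, with complement `A8`
-/

set_option autoImplicit false

namespace Cfsg.Agent.Lib.Helper6.Golay

open Cfsg
open Cfsg.Agent.Lib.Helper6.PermChain
open scoped Pointwise

/-- the pointwise stabilizer of `o` in `M24` -/
abbrev fixP (o : Finset GolayPt) : Subgroup (Equiv.Perm GolayPt) :=
  M24 ⊓ fixingSubgroup (Equiv.Perm GolayPt) (o : Set GolayPt)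

/-- the stabilizer of `o` and of the point `p` in `M24` -/
abbrev stabPP (o : Finset GolayPt) (p : GolayPt) : Subgroup (Equiv.Perm GolayPt) :=
  M24 ⊓ MulAction.stabilizer (Equiv.Perm GolayPt) o ⊓ MulAction.stabilizer (Equiv.Perm GolayPt) p

theorem mem_fixP {o : Finset GolayPt} {g : Equiv.Perm GolayPt} :
    g ∈ fixP o ↔ g ∈ M24 ∧ ∀ y ∈ o, g y = y := by
  rw [Subgroup.mem_inf, mem_fixingSubgroup_iff]
  rfl

theorem mem_stabPP {o : Finset GolayPt} {p : GolayPt} {g : Equiv.Perm GolayPt} :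
    g ∈ stabPP o p ↔ g ∈ M24 ∧ g • o = o ∧ g p = p := by
  rw [Subgroup.mem_inf, Subgroup.mem_inf]
  exact and_assoc

theorem fixP_le_stabP (o : Finset GolayPt) : fixP o ≤ stabP o := by
  intro g hg
  rw [mem_fixP] at hg
  rw [mem_stabP]
  refine ⟨hg.1, ?_⟩
  ext x
  rw [Finset.mem_smul_finset]
  constructor
  · rintro ⟨y, hy, rfl⟩
    rw [Equiv.Perm.smul_def, hg.2 y hy]; exact hy
  · intro hx
    exact ⟨x, hx, hg.2 x hx⟩

/-- in reference position: the pointwise stabilizer of the octad meets the stabilizer of the outside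
point `4` trivially, and is transitive on the outside points -/
theorem fixP0_inf : ∀ g ∈ fixP (fs octad0), g (pt 4) = pt 4 → g = 1 := by
  intro g hg h4
  have hg' : g ∈ M24 ⊓ fixingSubgroup (Equiv.Perm GolayPt) (↑(fs octad0) : Set GolayPt) := hg
  rw [fixOctad0_eq] at hg'
  have : g ∈ fixL M24 (Lk 7) := by
    rw [← Lk_succ 6 (by norm_num), fixL_concat, Subgroup.mem_inf, MulAction.mem_stabilizer_iff]
    exact ⟨hg', h4⟩
  rw [fixL7_eq_bot le_rfl, Subgroup.mem_bot] at this
  exact this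

theorem fixP0_trans {q : GolayPt} (hq : q ∉ fs octad0) : ∃ k ∈ fixP (fs octad0), k (pt 4) = q := by
  have hmem : q ∈ orbk 6 := by
    have : ∀ q, q ∉ fs octad0 → q ∈ orbk 6 := by decide
    exact this q hq
  obtain ⟨k, hk, hkq⟩ := exists_of_mem_orbk hasGens_M24 6 (by norm_num) q hmem
  have hk' : k ∈ M24 ⊓ fixingSubgroup (Equiv.Perm GolayPt) (↑(fs octad0) : Set GolayPt) := by
    rw [fixOctad0_eq]; exact hk
  exact ⟨k, hk', hkq⟩

theorem conj_mem_fixP {t : Equiv.Perm GolayPt} (ht : t ∈ M24) {s : Finset GolayPt}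
    {g : Equiv.Perm GolayPt} : g ∈ fixP (t • s) ↔ t⁻¹ * g * t ∈ fixP s := by
  rw [Subgroup.mem_inf, Subgroup.mem_inf, fixingSubgroup_smul_conj]
  constructor
  · rintro ⟨h1, h2⟩
    exact ⟨M24.mul_mem (M24.mul_mem (M24.inv_mem ht) h1) ht, h2⟩
  · rintro ⟨h1, h2⟩
    refine ⟨?_, h2⟩
    have := M24.mul_mem (M24.mul_mem ht h1) (M24.inv_mem ht)
    simpa [mul_assoc] using this

/-- general position -/
theorem fixP_inf {o : Finset GolayPt} (ho : o ∈ octads) {p : GolayPt} (hp : p ∉ o) :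
    ∀ g ∈ fixP o, g p = p → g = 1 := by
  obtain ⟨t, ht, rfl, rfl⟩ := exists_M24_octad_point_out ho hp
  intro g hg hgp
  have h1 := (conj_mem_fixP ht).mp hg
  have h2 : (t⁻¹ * g * t) (pt 4) = pt 4 := by
    rw [Equiv.Perm.mul_apply, Equiv.Perm.mul_apply, hgp]
    simp
  have h3 := fixP0_inf _ h1 h2
  have h4 := congrArg (fun z => t * z * t⁻¹) h3
  simpa [mul_assoc] using h4

theorem fixP_trans {o : Finset GolayPt} (ho : o ∈ octads) {p q : GolayPt} (hp : p ∉ o) (hq : q ∉ o) :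
    ∃ k ∈ fixP o, k p = q := by
  obtain ⟨t, ht, rfl, rfl⟩ := exists_M24_octad_point_out ho hp
  have hq' : t⁻¹ q ∉ fs octad0 := by
    intro h
    apply hq
    rw [Finset.mem_smul_finset]
    exact ⟨t⁻¹ q, h, by simp⟩
  obtain ⟨k0, hk0, hk0q⟩ := fixP0_trans hq'
  refine ⟨t * k0 * t⁻¹, ?_, ?_⟩
  · rw [conj_mem_fixP ht]
    have : t⁻¹ * (t * k0 * t⁻¹) * t = k0 := by simp [mul_assoc]
    rw [this]; exact hk0
  · rw [Equiv.Perm.mul_apply, Equiv.Perm.mul_apply]
    simp [hk0q]

/-- every element of the octad stabilizer is a product of an element of the pointwise stabilizer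
and an element fixing the outside point -/
theorem exists_factor {o : Finset GolayPt} (ho : o ∈ octads) {p : GolayPt} (hp : p ∉ o)
    {g : Equiv.Perm GolayPt} (hg : g ∈ stabP o) : ∃ k ∈ fixP o, k⁻¹ * g ∈ stabPP o p := by
  have hg' := mem_stabP.mp hg
  have hgp : g p ∉ o := fun h => hp ((mem_of_smul_eq hg'.2).mp h)
  obtain ⟨k, hk, hkp⟩ := fixP_trans ho hp hgp
  refine ⟨k, hk, ?_⟩
  have hk' := mem_stabP.mp (fixP_le_stabP o hk)
  rw [mem_stabPP]
  refine ⟨M24.mul_mem (M24.inv_mem hk'.1) hg'.1, ?_, ?_⟩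
  · rw [mul_smul, hg'.2, inv_smul_eq_iff, hk'.2]
  · rw [Equiv.Perm.mul_apply, ← hkp]; simp

theorem stabPP_le_stabP (o : Finset GolayPt) (p : GolayPt) : stabPP o p ≤ stabP o := by
  intro g hg
  rw [mem_stabPP] at hg
  exact mem_stabP.mpr ⟨hg.1, hg.2.1⟩

/-- the restriction of the complement to the octad -/
def restrictHomPP (o : Finset GolayPt) (p : GolayPt) : stabPP o p →* Equiv.Perm ↥o :=
  (restrictHom o).comp (Subgroup.inclusion (stabPP_le_stabP o p))

theorem restrictHom_fixP {o : Finset GolayPt} {k : Equiv.Perm GolayPt} (hk : k ∈ fixP o) :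
    restrictHom o ⟨k, fixP_le_stabP o hk⟩ = 1 := by
  apply Equiv.ext
  intro x
  apply Subtype.ext
  exact (mem_fixP.mp hk).2 x.1 x.2

theorem restrictHomPP_injective {o : Finset GolayPt} (ho : o ∈ octads) {p : GolayPt} (hp : p ∉ o) :
    Function.Injective (restrictHomPP o p) := by
  rw [injective_iff_map_eq_one]
  intro g hg
  have hg' := mem_stabPP.mp g.2
  have hfix : g.1 ∈ fixP o := by
    rw [mem_fixP]
    refine ⟨hg'.1, ?_⟩
    intro y hy
    have := congrArg (fun e : Equiv.Perm ↥o => ((e ⟨y, hy⟩ : ↥o) : GolayPt)) hg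
    exact this
  apply Subtype.ext
  exact fixP_inf ho hp g.1 hfix hg'.2.2

theorem range_restrictHomPP {o : Finset GolayPt} (ho : o ∈ octads) {p : GolayPt} (hp : p ∉ o) :
    (restrictHomPP o p).range = alternatingGroup ↥o := by
  rw [← range_restrictHom ho]
  apply le_antisymm
  · rintro e ⟨g, rfl⟩
    exact ⟨Subgroup.inclusion (stabPP_le_stabP o p) g, rfl⟩
  · rintro e ⟨g, rfl⟩
    obtain ⟨k, hk, hkg⟩ := exists_factor ho hp g.2
    refine ⟨⟨k⁻¹ * g.1, hkg⟩, ?_⟩
    have h1 : restrictHom o ⟨k⁻¹ * g.1, stabPP_le_stabP o p hkg⟩ =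
        (restrictHom o ⟨k, fixP_le_stabP o hk⟩)⁻¹ * restrictHom o g := by
      rw [← map_inv, ← map_mul]
      rfl
    rw [restrictHom_fixP hk, inv_one, one_mul] at h1
    exact h1

/-- **The stabilizer of an octad is a split extension of the pointwise stabilizer by `A8`.** -/
theorem octad_stabilizer_splits {o : Finset GolayPt} (ho : o ∈ octads) {p : GolayPt} (hp : p ∉ o) :
    fixP o ⊓ stabPP o p = ⊥ ∧ fixP o ⊔ stabPP o p = stabP o ∧
      Nonempty (↥(stabPP o p) ≃* alternatingGroup (Fin 8)) := by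
  refine ⟨?_, ?_, ?_⟩
  · rw [eq_bot_iff]
    intro g hg
    rw [Subgroup.mem_inf] at hg
    rw [Subgroup.mem_bot]
    exact fixP_inf ho hp g hg.1 (mem_stabPP.mp hg.2).2.2
  · apply le_antisymm
    · exact sup_le (fixP_le_stabP o) (stabPP_le_stabP o p)
    · intro g hg
      obtain ⟨k, hk, hkg⟩ := exists_factor ho hp hg
      have : g = k * (k⁻¹ * g) := by simp
      rw [this]
      exact Subgroup.mul_mem_sup hk hkg
  · have e1 : ↥(stabPP o p) ≃* (restrictHomPP o p).range :=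
      MonoidHom.ofInjective (restrictHomPP_injective ho hp)
    have e2 : (restrictHomPP o p).range ≃* alternatingGroup ↥o :=
      MulEquiv.subgroupCongr (range_restrictHomPP ho hp)
    have hcard : Fintype.card ↥o = Fintype.card (Fin 8) := by
      rw [Fintype.card_coe, ho.2, Fintype.card_fin]
    have e3 : alternatingGroup ↥o ≃* alternatingGroup (Fin 8) :=
      Equiv.altCongrHom (Fintype.equivOfCardEq hcard)
    exact ⟨(e1.trans e2).trans e3⟩

end Cfsg.Agent.Lib.Helper6.Golay
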