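import Cfsg.Agent.Lib.Helper6.GolayOctadFix

/-!
# The stabilizer of an octad induces the alternating group on the octad
-/

set_option autoImplicit false

namespace Cfsg.Agent.Lib.Helper6.Golay

open Cfsg
open Cfsg.Agent.Lib.Helper6.PermChain
open scoped Pointwise

/-- the setwise stabilizer of `o` in `M24`, as a subgroup of the symmetric group -/
def stabP (o : Finset GolayPt) : Subgroup (Equiv.Perm GolayPt) :=
  M24 ⊓ MulAction.stabilizer (Equiv.Perm GolayPt) o

theorem mem_stabP {o : Finset GolayPt} {g : Equiv.Perm GolayPt} :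
    g ∈ stabP o ↔ g ∈ M24 ∧ g • o = o := by
  rw [stabP, Subgroup.mem_inf]
  exact Iff.rfl

theorem card_stabP_octad {o : Finset GolayPt} (ho : o ∈ octads) : Nat.card (stabP o) = 322560 := by
  rw [← card_stabilizer_octad ho]
  apply Nat.card_congr
  refine ⟨fun g => ⟨⟨g.1, (mem_stabP.mp g.2).1⟩, ?_⟩, fun g => ⟨g.1.1, mem_stabP.mpr ⟨g.1.2, ?_⟩⟩,
    fun g => rfl, fun g => rfl⟩
  · exact (mem_stabP.mp g.2).2
  · exact g.2

/-- the restriction homomorphism to the octad -/
def restrictHom (o : Finset GolayPt) : stabP o →* Equiv.Perm ↥o where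
  toFun g := (g.1).subtypePerm (fun _ => mem_of_smul_eq (mem_stabP.mp g.2).2)
  map_one' := rfl
  map_mul' _ _ := rfl

theorem restrictHom_apply (o : Finset GolayPt) (g : stabP o) (x : ↥o) :
    ((restrictHom o g) x : GolayPt) = g.1 x := rfl

theorem card_ker_restrictHom {o : Finset GolayPt} (ho : o ∈ octads) :
    Nat.card (restrictHom o).ker = 16 := by
  rw [← (fixOctad ho).1]
  apply Nat.card_congr
  refine ⟨fun g => ⟨g.1.1, ?_⟩, fun k => ⟨⟨k.1, ?_⟩, ?_⟩, fun g => rfl, fun k => rfl⟩
  · have hg := g.2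
    rw [MonoidHom.mem_ker] at hg
    rw [Subgroup.mem_inf, mem_fixingSubgroup_iff]
    refine ⟨(mem_stabP.mp g.1.2).1, ?_⟩
    intro y hy
    have := congrArg (fun e : Equiv.Perm ↥o => ((e ⟨y, hy⟩ : ↥o) : GolayPt)) hg
    exact this
  · have hk := k.2
    rw [Subgroup.mem_inf, mem_fixingSubgroup_iff] at hk
    rw [mem_stabP]
    refine ⟨hk.1, ?_⟩
    ext x
    rw [Finset.mem_smul_finset]
    constructor
    · rintro ⟨y, hy, rfl⟩
      rw [hk.2 y hy]; exact hy
    · intro hx
      exact ⟨x, hx, hk.2 x hx⟩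
  · have hk := k.2
    rw [Subgroup.mem_inf, mem_fixingSubgroup_iff] at hk
    rw [MonoidHom.mem_ker]
    apply Equiv.ext
    intro x
    apply Subtype.ext
    exact hk.2 x.1 x.2

theorem card_range_restrictHom {o : Finset GolayPt} (ho : o ∈ octads) :
    Nat.card (restrictHom o).range = 20160 := by
  have h1 := Subgroup.card_mul_index (restrictHom o).ker
  rw [Subgroup.index_ker, card_ker_restrictHom ho, card_stabP_octad ho] at h1
  omega

theorem range_restrictHom {o : Finset GolayPt} (ho : o ∈ octads) :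
    (restrictHom o).range = alternatingGroup ↥o := by
  apply Equiv.Perm.eq_alternatingGroup_of_index_eq_two
  have h1 := Subgroup.card_mul_index (restrictHom o).range
  rw [card_range_restrictHom ho, Nat.card_perm, Nat.card_eq_fintype_card, Fintype.card_coe, ho.2] at h1
  have : (8 : ℕ).factorial = 40320 := by decide
  rw [this] at h1
  omega

/-- **The stabilizer of an octad induces the alternating group on it.** -/
theorem octad_stabilizer_induces_alternating {o : Finset GolayPt} (ho : o ∈ octads) :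
    {e : Equiv.Perm ↥o | ∃ g : Equiv.Perm GolayPt, g ∈ M24 ∧ ∃ h : (∀ x, g x ∈ o ↔ x ∈ o),
      g.subtypePerm h = e} = (alternatingGroup ↥o : Set (Equiv.Perm ↥o)) := by
  rw [← range_restrictHom ho]
  ext e
  constructor
  · rintro ⟨g, hg, h, rfl⟩
    have hgo : g • o = o := by
      ext x
      rw [Finset.mem_smul_finset]
      constructor
      · rintro ⟨y, hy, rfl⟩
        exact (h y).mpr hy
      · intro hx
        refine ⟨g⁻¹ x, ?_, by simp⟩
        rw [← h]; simpa using hx
    exact ⟨⟨g, mem_stabP.mpr ⟨hg, hgo⟩⟩, rfl⟩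
  · rintro ⟨g, rfl⟩
    exact ⟨g.1, (mem_stabP.mp g.2).1, fun x => mem_of_smul_eq (mem_stabP.mp g.2).2, rfl⟩

end Cfsg.Agent.Lib.Helper6.Golay
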