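import Cfsg.Agent.Lib.Helper6.GolayNFData

/-!
# Normal forms of elements of `M24` modulo conjugation

An element of `M24` is determined by the images of the five base points up to the 48 elements
fixing them.  Conjugating a given element so that a suitable five-tuple becomes the base
five-tuple leaves finitely many candidates, which are treated by computation.
-/

set_option autoImplicit false

namespace Cfsg.Agent.Lib.Helper6.Golay

open Cfsg
open Cfsg.Agent.Lib.Helper6.PermChain
open scoped Pointwise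

theorem lfun_pt (l : List ℕ) {i : ℕ} (hi : i < 24) : lfun l (pt i) = pt (l.getD i 0) := by
  rw [lfun, idx_pt i hi]

theorem pt_injOn {i j : ℕ} (hi : i < 24) (hj : j < 24) (h : pt i = pt j) : i = j := by
  have := congrArg idx h
  rwa [idx_pt i hi, idx_pt j hj] at this

theorem lfun_injective {a b : List ℕ} (ha : wf a = true) (hb : wf b = true)
    (h : lfun a = lfun b) : a = b := by
  have ha' := (wf_iff a).mp ha
  have hb' := (wf_iff b).mp hb
  apply List.ext_getElem (by rw [ha'.1, hb'.1])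
  intro i h1 h2
  have hi : i < 24 := by omega
  have h3 := congrFun h (pt i)
  rw [lfun_pt a hi, lfun_pt b hi] at h3
  have h4 := pt_injOn (getD_lt ha hi) (getD_lt hb hi) h3
  rwa [List.getD_eq_getElem _ _ h1, List.getD_eq_getElem _ _ h2] at h4

/-! ### the 48 elements fixing the five base points -/

theorem U5_ok : U5.all (fun l => fixesAll l [23, 0, 1, 2, 3]) = true := by decide +kernel

theorem U5_cover : (orbsL.getD 5 []).all (fun q => U5.any (fun l => l.getD 5 0 == q)) = true := by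
  decide +kernel

set_option maxHeartbeats 4000000 in
set_option maxRecDepth 100000 in
theorem T5_cover : U5.all (fun u => T6.all (fun l => T5.contains (lmul u l))) = true := by
  decide +kernel

theorem U5_sub : ∀ l ∈ U5, l ∈ nfAll := by
  intro l hl
  simp only [nfAll, List.mem_append]
  exact Or.inl (Or.inl (Or.inl (Or.inl (Or.inl (Or.inl (Or.inl hl))))))

theorem T5_sub : ∀ l ∈ T5, l ∈ nfAll := by
  intro l hl
  simp only [nfAll, List.mem_append]
  exact Or.inl (Or.inl (Or.inl (Or.inl (Or.inl (Or.inl (Or.inr hl))))))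

theorem rep_T5 : ∀ l ∈ T5, Rep M24 l := fun l hl => rep_nfAll l (T5_sub l hl)

/-- every element of `M24` fixing the five base points is one of the 48 listed ones -/
theorem exists_T5_of_fixL {g : Equiv.Perm GolayPt} (hg : g ∈ fixL M24 (Lk 5)) :
    ∃ l ∈ T5, ⇑g = lfun l := by
  have h1 := mem_orbk_of_fixL le_rfl 5 (by norm_num) g hg
  rw [orbk, List.mem_toFinset, List.mem_map] at h1
  obtain ⟨q, hq, hqg⟩ := h1
  have h2 := List.all_eq_true.mp U5_cover q hq
  rw [List.any_eq_true] at h2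
  obtain ⟨ul, hul, hulq⟩ := h2
  rw [beq_iff_eq] at hulq
  obtain ⟨wu, u, hu, huf⟩ := rep_nfAll ul (U5_sub ul hul)
  have h3 := List.all_eq_true.mp U5_ok ul hul
  have hu5 : u ∈ fixL M24 (Lk 5) := by
    rw [mem_fixL]
    refine ⟨hu, ?_⟩
    intro x hx
    rw [Lk, List.mem_map] at hx
    obtain ⟨b, hb, rfl⟩ := hx
    have hb' : b ∈ [23, 0, 1, 2, 3] := hb
    have := List.all_eq_true.mp h3 b hb'
    rw [beq_iff_eq] at this
    have hb24 : b < 24 := by
      simp only [List.mem_cons, List.not_mem_nil, or_false] at hb'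
      omega
    rw [huf, lfun, idx_pt b hb24, this]
  have hu4 : u (bk 5) = g (bk 5) := by
    rw [← hqg, huf, lfun]
    have : idx (bk 5) = 5 := by decide
    rw [this, hulq]
  have h6 : u⁻¹ * g ∈ fixL M24 (Lk 6) := by
    rw [← Lk_succ 5 (by norm_num), fixL_concat, Subgroup.mem_inf, MulAction.mem_stabilizer_iff]
    refine ⟨(fixL M24 (Lk 5)).mul_mem ((fixL M24 (Lk 5)).inv_mem hu5) hg, ?_⟩
    rw [Equiv.Perm.smul_def, Equiv.Perm.mul_apply, ← hu4, Equiv.Perm.inv_def,
      Equiv.symm_apply_apply]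
  obtain ⟨l, hl, hlf⟩ := exists_T6_of_fixL h6
  have hwl : wf l = true := (rep_T6 hasGens_M24 l hl).1
  refine ⟨lmul ul l, ?_, ?_⟩
  · have h4 := List.all_eq_true.mp (List.all_eq_true.mp T5_cover ul hul) l hl
    simpa using h4
  · rw [lfun_lmul ul hwl, ← huf, ← hlf]
    funext p
    simp only [Function.comp, Equiv.Perm.mul_apply, Equiv.Perm.inv_def, Equiv.apply_symm_apply]

/-- **Normal form.** An element of `M24` acting on the five base points as the listed
permutation `t` does is `t` times one of the 48. -/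
theorem coset_nf {t : List ℕ} (ht : Rep M24 t) {g : Equiv.Perm GolayPt} (hg : g ∈ M24)
    (h : ∀ b ∈ [23, 0, 1, 2, 3], g (pt b) = pt (t.getD b 0)) :
    ∃ l ∈ T5, ⇑g = lfun (lmul t l) := by
  obtain ⟨wt, u, hu, huf⟩ := ht
  have h5 : u⁻¹ * g ∈ fixL M24 (Lk 5) := by
    rw [mem_fixL]
    refine ⟨M24.mul_mem (M24.inv_mem hu) hg, ?_⟩
    intro x hx
    rw [Lk, List.mem_map] at hx
    obtain ⟨b, hb, rfl⟩ := hx
    have hb' : b ∈ [23, 0, 1, 2, 3] := hb
    have hb24 : b < 24 := by
      simp only [List.mem_cons, List.not_mem_nil, or_false] at hb'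
      omega
    rw [Equiv.Perm.mul_apply, h b hb', ← lfun_pt t hb24, ← huf, Equiv.Perm.inv_def,
      Equiv.symm_apply_apply]
  obtain ⟨l, hl, hlf⟩ := exists_T5_of_fixL h5
  have hwl : wf l = true := (rep_T5 l hl).1
  refine ⟨l, hl, ?_⟩
  rw [lfun_lmul t hwl, ← huf, ← hlf]
  funext p
  simp only [Function.comp, Equiv.Perm.mul_apply, Equiv.Perm.inv_def, Equiv.apply_symm_apply]

/-! ### conjugacy to a listed permutation -/

/-- `g` is conjugate under `M24` to the permutation listed as `r` -/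
def ConjTo (g : Equiv.Perm GolayPt) (r : List ℕ) : Prop :=
  ∃ k ∈ M24, ⇑(k * g * k⁻¹) = lfun r

theorem ConjTo.of_conj {g : Equiv.Perm GolayPt} {r : List ℕ} {k : Equiv.Perm GolayPt}
    (hk : k ∈ M24) (h : ConjTo (k * g * k⁻¹) r) : ConjTo g r := by
  obtain ⟨k', hk', h'⟩ := h
  refine ⟨k' * k, M24.mul_mem hk' hk, ?_⟩
  have : k' * k * g * (k' * k)⁻¹ = k' * (k * g * k⁻¹) * k'⁻¹ := by group
  rw [this]; exact h'

theorem ConjTo.exists_conj {g h : Equiv.Perm GolayPt} {r : List ℕ} (hg : ConjTo g r)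
    (hh : ConjTo h r) : ∃ k ∈ M24, k * g * k⁻¹ = h := by
  obtain ⟨a, ha, ha'⟩ := hg
  obtain ⟨b, hb, hb'⟩ := hh
  refine ⟨b⁻¹ * a, M24.mul_mem (M24.inv_mem hb) ha, ?_⟩
  have e : a * g * a⁻¹ = b * h * b⁻¹ := DFunLike.coe_injective (ha'.trans hb'.symm)
  have : b⁻¹ * a * g * (b⁻¹ * a)⁻¹ = b⁻¹ * (a * g * a⁻¹) * b := by group
  rw [this, e]; group

/-- is the list `m` conjugate to `ref` by one of the listed conjugators? -/
def isConjL (cs : List (List ℕ)) (ref m : List ℕ) : Bool :=
  cs.any (fun c => lmul c m == lmul ref c)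

theorem conjTo_of_isConjL {cs : List (List ℕ)} {ref m : List ℕ} (hcs : ∀ c ∈ cs, Rep M24 c)
    {g : Equiv.Perm GolayPt} (hm : wf m = true) (hg : ⇑g = lfun m)
    (h : isConjL cs ref m = true) : ConjTo g ref := by
  rw [isConjL, List.any_eq_true] at h
  obtain ⟨c, hc, hcm⟩ := h
  rw [beq_iff_eq] at hcm
  obtain ⟨wc, u, hu, huf⟩ := hcs c hc
  refine ⟨u, hu, ?_⟩
  funext p
  have h1 : lfun (lmul c m) (u⁻¹ p) = lfun (lmul ref c) (u⁻¹ p) := by rw [hcm]
  rw [lfun_lmul c hm, lfun_lmul ref wc, ← huf, ← hg] at h1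
  simp only [Function.comp, Equiv.Perm.inv_def, Equiv.apply_symm_apply] at h1
  simp only [Equiv.Perm.mul_apply, Equiv.Perm.inv_def]
  exact h1

/-- the coset of the 48 with representative `t` -/
def cosetL (t : List ℕ) : List (List ℕ) := T5.map (lmul t)

/-- does the list permutation have a fixed point? -/
def hasFix (m : List ℕ) : Bool := (List.range 24).any (fun i => m.getD i 0 == i)

def isInvL (m : List ℕ) : Bool := lmul m m == idl

def isOrd3L (m : List ℕ) : Bool := lmul m (lmul m m) == idl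

theorem isInvL_of {g : Equiv.Perm GolayPt} {m : List ℕ} (hm : wf m = true) (hg : ⇑g = lfun m)
    (h2 : g * g = 1) : isInvL m = true := by
  rw [isInvL, beq_iff_eq]
  apply lfun_injective (wf_lmul hm hm) wf_idl
  rw [lfun_lmul m hm, ← hg, lfun_idl]
  funext p
  have := congrArg (fun f : Equiv.Perm GolayPt => f p) h2
  simpa using this

theorem isOrd3L_of {g : Equiv.Perm GolayPt} {m : List ℕ} (hm : wf m = true) (hg : ⇑g = lfun m)
    (h3 : g * (g * g) = 1) : isOrd3L m = true := by
  rw [isOrd3L, beq_iff_eq]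
  apply lfun_injective (wf_lmul hm (wf_lmul hm hm)) wf_idl
  rw [lfun_lmul m (wf_lmul hm hm), lfun_lmul m hm, ← hg, lfun_idl]
  funext p
  have := congrArg (fun f : Equiv.Perm GolayPt => f p) h3
  simpa using this

theorem hasFix_false_of {g : Equiv.Perm GolayPt} {m : List ℕ}
    (hg : ⇑g = lfun m) (h0 : ∀ p, g p ≠ p) : hasFix m = false := by
  rw [Bool.eq_false_iff]
  intro h
  rw [hasFix, List.any_eq_true] at h
  obtain ⟨i, hi, him⟩ := h
  rw [beq_iff_eq] at him
  rw [List.mem_range] at hi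
  apply h0 (pt i)
  rw [hg, lfun_pt m hi, him]

/-- the finishing step: an element acting on the base points as `t`, with the decidable property
`P`, is conjugate to the reference element -/
theorem conjTo_of_coset {g k : Equiv.Perm GolayPt} (hk : k ∈ M24) (hg : g ∈ M24) {t : List ℕ}
    (ht : Rep M24 t)
    (hbase : ∀ b ∈ [23, 0, 1, 2, 3], (k * g * k⁻¹) (pt b) = pt (t.getD b 0))
    {cs : List (List ℕ)} {ref : List ℕ} (hcs : ∀ c ∈ cs, Rep M24 c) (P : List ℕ → Bool)
    (hchk : (cosetL t).all (fun m => !(P m) || isConjL cs ref m) = true)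
    (hP : ∀ m, wf m = true → ⇑(k * g * k⁻¹) = lfun m → P m = true) : ConjTo g ref := by
  apply ConjTo.of_conj hk
  have hg' : k * g * k⁻¹ ∈ M24 := M24.mul_mem (M24.mul_mem hk hg) (M24.inv_mem hk)
  obtain ⟨l, hl, hlf⟩ := coset_nf ht hg' hbase
  have hwm : wf (lmul t l) = true := wf_lmul ht.1 (rep_T5 l hl).1
  have h1 := List.all_eq_true.mp hchk (lmul t l) (List.mem_map.mpr ⟨l, hl, rfl⟩)
  rw [hP _ hwm hlf] at h1
  exact conjTo_of_isConjL hcs hwm hlf (by simpa using h1)

end Cfsg.Agent.Lib.Helper6.Golay
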