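import Mathlib

/-!
S4349 piece (G3): the set-wise stabiliser `K p` of a predicate `p` in `Perm α` is
`Perm {a // p a} × Perm {a // ¬ p a}`; a Sylow 2-subgroup of `K p` is the product of
Sylow 2-subgroups of the factors, and it is self-normalising in `K p` as soon as the
Sylow 2-subgroups of the two factors are.
-/

set_option autoImplicit false

namespace Cfsg.Agent.Lib.Helper6.UniqSyl

open Equiv

universe u

variable {α : Type u}

/-- set-wise stabiliser of the predicate `p`, elementwise form -/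
def K (p : α → Prop) : Subgroup (Perm α) where
  carrier := {g | ∀ a, p (g a) ↔ p a}
  one_mem' := fun _ => Iff.rfl
  mul_mem' := by
    intro g h hg hh a
    rw [Perm.mul_apply, hg, hh]
  inv_mem' := by
    intro g hg a
    have := hg (g⁻¹ a)
    rw [show g (g⁻¹ a) = a from Equiv.apply_symm_apply g a] at this
    exact this.symm

theorem mem_K (p : α → Prop) (g : Perm α) : g ∈ K p ↔ ∀ a, p (g a) ↔ p a := Iff.rfl

theorem K_not (p : α → Prop) : K (fun a => ¬ p a) = K p := by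
  ext g
  simp only [mem_K]
  exact ⟨fun h a => not_iff_not.mp (h a), fun h a => not_iff_not.mpr (h a)⟩

/-- restriction to `p` -/
def resL (p : α → Prop) : K p →* Perm {a // p a} where
  toFun g := g.1.subtypePerm (fun a => g.2 a)
  map_one' := by ext; rfl
  map_mul' := by intro g h; ext; rfl

/-- restriction to `¬ p` -/
def resR (p : α → Prop) : K p →* Perm {a // ¬ p a} where
  toFun g := g.1.subtypePerm (fun a => not_iff_not.mpr (g.2 a))
  map_one' := by ext; rfl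
  map_mul' := by intro g h; ext; rfl

@[simp] theorem resL_apply (p : α → Prop) (g : K p) (a : {a // p a}) :
    ((resL p g a : {a // p a}) : α) = g.1 a := rfl

@[simp] theorem resR_apply (p : α → Prop) (g : K p) (a : {a // ¬ p a}) :
    ((resR p g a : {a // ¬ p a}) : α) = g.1 a := rfl

theorem ext_K (p : α → Prop) (g h : K p) (hL : resL p g = resL p h) (hR : resR p g = resR p h) :
    g = h := by
  apply Subtype.ext
  ext a
  by_cases ha : p a
  · have := congrArg (fun f => ((f ⟨a, ha⟩ : {a // p a}) : α)) hL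
    simpa using this
  · have := congrArg (fun f => ((f ⟨a, ha⟩ : {a // ¬ p a}) : α)) hR
    simpa using this

theorem subtypeCongr_mem_K (p : α → Prop) [DecidablePred p] (τ : Perm {a // p a})
    (τ' : Perm {a // ¬ p a}) : Perm.subtypeCongr τ τ' ∈ K p := by
  intro a
  by_cases h : p a
  · rw [Perm.subtypeCongr.left_apply _ _ h]
    exact ⟨fun _ => h, fun _ => (τ ⟨a, h⟩).2⟩
  · rw [Perm.subtypeCongr.right_apply _ _ h]
    exact ⟨fun h' => absurd h' (τ' ⟨a, h⟩).2, fun h' => absurd h' h⟩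

theorem resL_subtypeCongr (p : α → Prop) [DecidablePred p] (τ : Perm {a // p a})
    (τ' : Perm {a // ¬ p a}) :
    resL p ⟨Perm.subtypeCongr τ τ', subtypeCongr_mem_K p τ τ'⟩ = τ := by
  ext a
  rw [resL_apply]
  exact Perm.subtypeCongr.left_apply_subtype τ τ' a

theorem resR_subtypeCongr (p : α → Prop) [DecidablePred p] (τ : Perm {a // p a})
    (τ' : Perm {a // ¬ p a}) :
    resR p ⟨Perm.subtypeCongr τ τ', subtypeCongr_mem_K p τ τ'⟩ = τ' := by
  ext a
  rw [resR_apply]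
  exact Perm.subtypeCongr.right_apply_subtype τ τ' a

/-- the product decomposition of `K p` -/
noncomputable def prodEquiv (p : α → Prop) [DecidablePred p] :
    K p ≃* Perm {a // p a} × Perm {a // ¬ p a} :=
  MulEquiv.ofBijective ((resL p).prod (resR p)) (by
    constructor
    · intro g h hgh
      have h1 : resL p g = resL p h := congrArg Prod.fst hgh
      have h2 : resR p g = resR p h := congrArg Prod.snd hgh
      exact ext_K p g h h1 h2
    · rintro ⟨τ, τ'⟩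
      refine ⟨⟨Perm.subtypeCongr τ τ', subtypeCongr_mem_K p τ τ'⟩, ?_⟩
      exact Prod.ext (resL_subtypeCongr p τ τ') (resR_subtypeCongr p τ τ'))

theorem card_K [Fintype α] [DecidableEq α] (p : α → Prop) [DecidablePred p] :
    Nat.card (K p) = (Nat.card {a // p a}).factorial * (Nat.card {a // ¬ p a}).factorial := by
  rw [Nat.card_congr (prodEquiv p).toEquiv, Nat.card_prod, Nat.card_perm, Nat.card_perm]

/-- the subgroup of `K p` cut out by two subgroups of the factors -/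
def box (p : α → Prop) (A : Subgroup (Perm {a // p a})) (B : Subgroup (Perm {a // ¬ p a})) :
    Subgroup (Perm α) :=
  ((A.comap (resL p)) ⊓ (B.comap (resR p))).map (K p).subtype

theorem mem_box (p : α → Prop) (A : Subgroup (Perm {a // p a}))
    (B : Subgroup (Perm {a // ¬ p a})) (g : Perm α) :
    g ∈ box p A B ↔ ∃ hg : g ∈ K p, resL p ⟨g, hg⟩ ∈ A ∧ resR p ⟨g, hg⟩ ∈ B := by
  unfold box
  constructor
  · rintro ⟨k, hk, rfl⟩
    exact ⟨k.2, hk.1, hk.2⟩
  · rintro ⟨hg, h1, h2⟩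
    exact ⟨⟨g, hg⟩, ⟨h1, h2⟩, rfl⟩

theorem box_le_K (p : α → Prop) (A : Subgroup (Perm {a // p a}))
    (B : Subgroup (Perm {a // ¬ p a})) : box p A B ≤ K p := by
  intro g hg
  obtain ⟨h, -⟩ := (mem_box p A B g).mp hg
  exact h

theorem box_isPGroup (p : α → Prop) (A : Subgroup (Perm {a // p a}))
    (B : Subgroup (Perm {a // ¬ p a})) (hA : IsPGroup 2 A) (hB : IsPGroup 2 B) :
    IsPGroup 2 (box p A B) := by
  rintro ⟨g, hg⟩
  obtain ⟨hgK, h1, h2⟩ := (mem_box p A B g).mp hg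
  obtain ⟨a, ha⟩ := hA ⟨_, h1⟩
  obtain ⟨b, hb⟩ := hB ⟨_, h2⟩
  have ha' : (resL p ⟨g, hgK⟩) ^ 2 ^ a = 1 := by
    have := congrArg Subtype.val ha
    simpa using this
  have hb' : (resR p ⟨g, hgK⟩) ^ 2 ^ b = 1 := by
    have := congrArg Subtype.val hb
    simpa using this
  refine ⟨a + b, ?_⟩
  apply Subtype.ext
  have key : (⟨g, hgK⟩ : K p) ^ 2 ^ (a + b) = 1 := by
    apply ext_K
    · rw [map_pow, map_one, pow_add, pow_mul, ha', one_pow]
    · rw [map_pow, map_one, pow_add, mul_comm, pow_mul, hb', one_pow]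
  have := congrArg Subtype.val key
  simpa using this

/-- (G3) a Sylow 2-subgroup of `K p` (maximality form) is the box on two Sylow 2-subgroups. -/
theorem G3 [Fintype α] [DecidableEq α] (p : α → Prop) [DecidablePred p]
    (M : Subgroup (Perm α)) (hMK : M ≤ K p) (hM2 : IsPGroup 2 M)
    (hmax : ∀ Q : Subgroup (Perm α), IsPGroup 2 Q → Q ≤ K p → M ≤ Q → Q ≤ M) :
    ∃ (S : Sylow 2 (Perm {a // p a})) (S' : Sylow 2 (Perm {a // ¬ p a})),
      ∀ g : Perm α, g ∈ M ↔ ∃ hg : g ∈ K p, resL p ⟨g, hg⟩ ∈ S ∧ resR p ⟨g, hg⟩ ∈ S' := by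
  have : Fact (Nat.Prime 2) := ⟨Nat.prime_two⟩
  have hM' : IsPGroup 2 (M.subgroupOf (K p)) :=
    hM2.comap_of_injective (K p).subtype (K p).subtype_injective
  have hA : IsPGroup 2 ((M.subgroupOf (K p)).map (resL p)) := hM'.map _
  have hB : IsPGroup 2 ((M.subgroupOf (K p)).map (resR p)) := hM'.map _
  obtain ⟨S, hS⟩ := hA.exists_le_sylow
  obtain ⟨S', hS'⟩ := hB.exists_le_sylow
  refine ⟨S, S', ?_⟩
  have hle : M ≤ box p (S : Subgroup _) (S' : Subgroup _) := by
    intro g hg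
    rw [mem_box]
    refine ⟨hMK hg, hS ⟨⟨g, hMK hg⟩, ?_, rfl⟩, hS' ⟨⟨g, hMK hg⟩, ?_, rfl⟩⟩
    · exact hg
    · exact hg
  have hge : box p (S : Subgroup _) (S' : Subgroup _) ≤ M :=
    hmax _ (box_isPGroup p _ _ S.isPGroup' S'.isPGroup') (box_le_K p _ _) hle
  intro g
  exact ⟨fun h => (mem_box p _ _ g).mp (hle h), fun h => hge ((mem_box p _ _ g).mpr h)⟩

theorem hmax_of_sylow [Fintype α] [DecidableEq α] (p : α → Prop) (P : Sylow 2 (Perm α)) :
    ∀ Q : Subgroup (Perm α), IsPGroup 2 Q → Q ≤ K p → (P : Subgroup (Perm α)) ≤ Q →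
      Q ≤ (P : Subgroup (Perm α)) := by
  intro Q hQ _ hPQ
  exact (P.is_maximal' hQ hPQ).le

theorem hmax_of_card [Fintype α] [DecidableEq α] (p : α → Prop) [DecidablePred p]
    (M : Subgroup (Perm α)) (hMK : M ≤ K p) (hM2 : IsPGroup 2 M)
    (hcard : Nat.card M = 2 ^ (padicValNat 2 (Nat.card {a // p a}).factorial
      + padicValNat 2 (Nat.card {a // ¬ p a}).factorial)) :
    ∀ Q : Subgroup (Perm α), IsPGroup 2 Q → Q ≤ K p → M ≤ Q → Q ≤ M := by
  have : Fact (Nat.Prime 2) := ⟨Nat.prime_two⟩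
  intro Q hQ hQK hMQ
  obtain ⟨k, hk⟩ := hQ.exists_card_eq
  have hdvd : Nat.card Q ∣ Nat.card (K p) := Subgroup.card_dvd_of_le hQK
  rw [card_K, hk] at hdvd
  have hne : (Nat.card {a // p a}).factorial * (Nat.card {a // ¬ p a}).factorial ≠ 0 :=
    Nat.mul_ne_zero (Nat.factorial_ne_zero _) (Nat.factorial_ne_zero _)
  have hkle : k ≤ padicValNat 2 (Nat.card {a // p a}).factorial
      + padicValNat 2 (Nat.card {a // ¬ p a}).factorial := by
    rw [← padicValNat.mul (Nat.factorial_ne_zero _) (Nat.factorial_ne_zero _)]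
    exact (padicValNat_dvd_iff_le hne).mp hdvd
  have hcle : Nat.card Q ≤ Nat.card M := by
    rw [hk, hcard]
    exact Nat.pow_le_pow_right (by norm_num) hkle
  exact (Subgroup.eq_of_le_of_card_ge hMQ hcle).ge

/-- self-normalisation inside `K p` -/
theorem G3_selfnorm [Fintype α] [DecidableEq α] (p : α → Prop) [DecidablePred p]
    (hSN : ∀ S : Sylow 2 (Perm {a // p a}), ∀ σ : Perm {a // p a},
      (∀ τ ∈ S, σ * τ * σ⁻¹ ∈ S) → σ ∈ S)
    (hSN' : ∀ S : Sylow 2 (Perm {a // ¬ p a}), ∀ σ : Perm {a // ¬ p a},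
      (∀ τ ∈ S, σ * τ * σ⁻¹ ∈ S) → σ ∈ S)
    (M : Subgroup (Perm α)) (hMK : M ≤ K p) (hM2 : IsPGroup 2 M)
    (hmax : ∀ Q : Subgroup (Perm α), IsPGroup 2 Q → Q ≤ K p → M ≤ Q → Q ≤ M)
    (g : Perm α) (hg : g ∈ K p) (hn : ∀ m ∈ M, g * m * g⁻¹ ∈ M) : g ∈ M := by
  obtain ⟨S, S', hchar⟩ := G3 p M hMK hM2 hmax
  rw [hchar]
  refine ⟨hg, hSN S _ ?_, hSN' S' _ ?_⟩
  · intro τ hτ
    have hm : Perm.subtypeCongr τ 1 ∈ M := by
      rw [hchar]
      refine ⟨subtypeCongr_mem_K p τ 1, ?_, ?_⟩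
      · rw [resL_subtypeCongr]; exact hτ
      · rw [resR_subtypeCongr]; exact S'.one_mem
    have h2 := hn _ hm
    rw [hchar] at h2
    obtain ⟨hK2, h3, -⟩ := h2
    have : resL p ⟨g * Perm.subtypeCongr τ 1 * g⁻¹, hK2⟩
        = resL p ⟨g, hg⟩ * τ * (resL p ⟨g, hg⟩)⁻¹ := by
      have e : (⟨g * Perm.subtypeCongr τ 1 * g⁻¹, hK2⟩ : K p)
          = ⟨g, hg⟩ * ⟨Perm.subtypeCongr τ 1, subtypeCongr_mem_K p τ 1⟩ * (⟨g, hg⟩ : K p)⁻¹ := rfl
      rw [e, map_mul, map_mul, map_inv, resL_subtypeCongr]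
    rw [this] at h3
    exact h3
  · intro τ hτ
    have hm : Perm.subtypeCongr 1 τ ∈ M := by
      rw [hchar]
      refine ⟨subtypeCongr_mem_K p 1 τ, ?_, ?_⟩
      · rw [resL_subtypeCongr]; exact S.one_mem
      · rw [resR_subtypeCongr]; exact hτ
    have h2 := hn _ hm
    rw [hchar] at h2
    obtain ⟨hK2, -, h3⟩ := h2
    have : resR p ⟨g * Perm.subtypeCongr 1 τ * g⁻¹, hK2⟩
        = resR p ⟨g, hg⟩ * τ * (resR p ⟨g, hg⟩)⁻¹ := by
      have e : (⟨g * Perm.subtypeCongr 1 τ * g⁻¹, hK2⟩ : K p)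
          = ⟨g, hg⟩ * ⟨Perm.subtypeCongr 1 τ, subtypeCongr_mem_K p 1 τ⟩ * (⟨g, hg⟩ : K p)⁻¹ := rfl
      rw [e, map_mul, map_mul, map_inv, resR_subtypeCongr]
    rw [this] at h3
    exact h3

end Cfsg.Agent.Lib.Helper6.UniqSyl
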