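import Mathlib
import Cfsg.Agent.Lib.Helper6.UniqSylG3

/-!
S4349 pieces (P1)-(P3), verbatim from helper9's stubs, derived from the (G3) library.
-/

set_option autoImplicit false

namespace Cfsg.Agent.Lib.Helper6.UniqSyl

open Equiv Equiv.Perm

universe u

theorem box_eq_map {α : Type u} (p : α → Prop) [DecidablePred p]
    (A : Subgroup (Perm {a // p a})) (B : Subgroup (Perm {a // ¬ p a})) :
    box p A B = (A.prod B).map (Equiv.Perm.subtypeCongrHom p) := by
  ext g
  rw [mem_box]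
  constructor
  · rintro ⟨hg, h1, h2⟩
    refine ⟨(resL p ⟨g, hg⟩, resR p ⟨g, hg⟩), ⟨h1, h2⟩, ?_⟩
    have : (⟨Perm.subtypeCongr (resL p ⟨g, hg⟩) (resR p ⟨g, hg⟩),
        subtypeCongr_mem_K p _ _⟩ : K p) = ⟨g, hg⟩ := by
      apply ext_K
      · rw [resL_subtypeCongr]
      · rw [resR_subtypeCongr]
    exact congrArg Subtype.val this
  · rintro ⟨⟨a, b⟩, ⟨ha, hb⟩, rfl⟩
    have ha' : a ∈ A := ha
    have hb' : b ∈ B := hb
    refine ⟨subtypeCongr_mem_K p a b, ?_, ?_⟩
    · have : resL p ⟨Perm.subtypeCongr a b, subtypeCongr_mem_K p a b⟩ = a :=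
        resL_subtypeCongr p a b
      rw [← this] at ha'
      exact ha'
    · have : resR p ⟨Perm.subtypeCongr a b, subtypeCongr_mem_K p a b⟩ = b :=
        resR_subtypeCongr p a b
      rw [← this] at hb'
      exact hb'

theorem eq_map_of_char {α : Type u} (p : α → Prop) [DecidablePred p]
    (M : Subgroup (Perm α)) (S : Sylow 2 (Perm {a // p a})) (S' : Sylow 2 (Perm {a // ¬ p a}))
    (h : ∀ g : Perm α, g ∈ M ↔ ∃ hg : g ∈ K p, resL p ⟨g, hg⟩ ∈ S ∧ resR p ⟨g, hg⟩ ∈ S') :
    M = ((S : Subgroup (Perm {a // p a})).prod (S' : Subgroup (Perm {a // ¬ p a}))).map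
      (Equiv.Perm.subtypeCongrHom p) := by
  rw [← box_eq_map]
  ext g
  rw [h, mem_box]
  rfl

/-- (P1) a Sylow 2-subgroup preserving `H` is a product of Sylows of the two factors -/
theorem exists_prod_of_preserve {α : Type u} [Fintype α] [DecidableEq α] (H : Finset α)
    (P : Sylow 2 (Perm α)) (hP : ∀ g ∈ P, ∀ a, g a ∈ H ↔ a ∈ H) :
    ∃ (S1 : Sylow 2 (Perm {a // a ∈ H})) (S2 : Sylow 2 (Perm {a // ¬ a ∈ H})),
      (P : Subgroup (Perm α)) =
        ((S1 : Subgroup (Perm {a // a ∈ H})).prod (S2 : Subgroup (Perm {a // ¬ a ∈ H}))).map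
          (Equiv.Perm.subtypeCongrHom (fun a => a ∈ H)) := by
  have hPK : (P : Subgroup (Perm α)) ≤ K (fun a => a ∈ H) := fun g hg => hP g hg
  obtain ⟨S1, S2, h⟩ := G3 (fun a => a ∈ H) (P : Subgroup (Perm α)) hPK P.isPGroup'
    (hmax_of_sylow (fun a => a ∈ H) P)
  exact ⟨S1, S2, eq_map_of_char (fun a => a ∈ H) _ S1 S2 h⟩

theorem card_sub_mem {α : Type u} [Fintype α] [DecidableEq α] (H : Finset α) :
    Nat.card {a // a ∈ H} = H.card := by
  rw [Nat.card_eq_fintype_card, Fintype.card_coe]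

theorem card_sub_not_mem {α : Type u} [Fintype α] [DecidableEq α] (H : Finset α) :
    Nat.card {a // ¬ a ∈ H} = Fintype.card α - H.card := by
  rw [Nat.card_eq_fintype_card, Fintype.card_subtype_compl, Fintype.card_coe]

theorem card_sylow_perm {α : Type u} [Fintype α] [DecidableEq α] (P : Sylow 2 (Perm α)) :
    Nat.card P = 2 ^ padicValNat 2 (Fintype.card α).factorial := by
  have : Fact (Nat.Prime 2) := ⟨Nat.prime_two⟩
  rw [P.card_eq_multiplicity, Nat.card_perm, Nat.card_eq_fintype_card,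
    Nat.factorization_def _ Nat.prime_two]

/-- (P2) no Sylow 2-subgroup preserves a subset of exactly half the points -/
theorem not_preserve_half {α : Type u} [Fintype α] [DecidableEq α] (H : Finset α)
    (hH : 2 * H.card = Fintype.card α) (hne : H.Nonempty)
    (P : Sylow 2 (Perm α)) : ¬ ∀ g ∈ P, ∀ a, g a ∈ H ↔ a ∈ H := by
  have : Fact (Nat.Prime 2) := ⟨Nat.prime_two⟩
  intro hP
  have hPK : (P : Subgroup (Perm α)) ≤ K (fun a => a ∈ H) := fun g hg => hP g hg
  have hdvd : Nat.card (P : Subgroup (Perm α)) ∣ Nat.card (K (fun a => a ∈ H)) :=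
    Subgroup.card_dvd_of_le hPK
  have hm : H.card ≠ 0 := Finset.card_ne_zero.mpr hne
  rw [card_K, card_sub_mem, card_sub_not_mem, ← hH, show 2 * H.card - H.card = H.card by omega]
    at hdvd
  have hc : Nat.card (P : Subgroup (Perm α)) = 2 ^ padicValNat 2 (Fintype.card α).factorial :=
    card_sylow_perm P
  rw [hc, ← hH, padicValNat_factorial_mul] at hdvd
  have hne0 : H.card.factorial * H.card.factorial ≠ 0 :=
    Nat.mul_ne_zero (Nat.factorial_ne_zero _) (Nat.factorial_ne_zero _)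
  have hle := (padicValNat_dvd_iff_le hne0).mp hdvd
  rw [padicValNat.mul (Nat.factorial_ne_zero _) (Nat.factorial_ne_zero _)] at hle
  have hlt := padicValNat_factorial_lt_of_ne_zero 2 hm
  omega

theorem padicValNat_two_pow_factorial (j : ℕ) :
    padicValNat 2 (2 ^ j).factorial = 2 ^ j - 1 := by
  have : Fact (Nat.Prime 2) := ⟨Nat.prime_two⟩
  induction j with
  | zero => simp
  | succ j ih =>
    rw [pow_succ, mul_comm, padicValNat_factorial_mul, ih]
    have : 1 ≤ 2 ^ j := Nat.one_le_two_pow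
    omega

/-- (P3) an index-2 subgroup of a Sylow preserving a half of 2-power size is a product of
Sylows -/
theorem exists_prod_of_relIndex_two {α : Type u} [Fintype α] [DecidableEq α] (H : Finset α) (j : ℕ)
    (hH : H.card = 2 ^ j) (hα : Fintype.card α = 2 * 2 ^ j)
    (P : Sylow 2 (Perm α)) (M : Subgroup (Perm α)) (hMP : M ≤ P) (hi : M.relIndex P = 2)
    (hM : ∀ g ∈ M, ∀ a, g a ∈ H ↔ a ∈ H) :
    ∃ (S1 : Sylow 2 (Perm {a // a ∈ H})) (S2 : Sylow 2 (Perm {a // ¬ a ∈ H})),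
      M = ((S1 : Subgroup (Perm {a // a ∈ H})).prod (S2 : Subgroup (Perm {a // ¬ a ∈ H}))).map
          (Equiv.Perm.subtypeCongrHom (fun a => a ∈ H)) := by
  have : Fact (Nat.Prime 2) := ⟨Nat.prime_two⟩
  have hMK : M ≤ K (fun a => a ∈ H) := fun g hg => hM g hg
  have hM2 : IsPGroup 2 M := P.isPGroup'.to_le hMP
  have hcP : Nat.card (P : Subgroup (Perm α)) = 2 ^ (2 ^ j - 1 + 2 ^ j) := by
    rw [card_sylow_perm P, hα, padicValNat_factorial_mul, padicValNat_two_pow_factorial]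
  have hcM : Nat.card M * 2 = Nat.card (P : Subgroup (Perm α)) := by
    have h1 := Subgroup.card_mul_index (M.subgroupOf (P : Subgroup (Perm α)))
    have h2 : Nat.card (M.subgroupOf (P : Subgroup (Perm α))) = Nat.card M :=
      Nat.card_congr (Subgroup.subgroupOfEquivOfLe hMP).toEquiv
    have h3 : (M.subgroupOf (P : Subgroup (Perm α))).index = 2 := hi
    rw [h2, h3] at h1
    exact h1
  have h1j : 1 ≤ 2 ^ j := Nat.one_le_two_pow
  have hcard : Nat.card M = 2 ^ (padicValNat 2 (Nat.card {a // a ∈ H}).factorial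
      + padicValNat 2 (Nat.card {a // ¬ a ∈ H}).factorial) := by
    rw [card_sub_mem, card_sub_not_mem, hα, hH, show 2 * 2 ^ j - 2 ^ j = 2 ^ j by omega,
      padicValNat_two_pow_factorial]
    have e : 2 ^ j - 1 + 2 ^ j = (2 ^ j - 1 + (2 ^ j - 1)) + 1 := by omega
    rw [hcP, e, pow_succ] at hcM
    exact Nat.eq_of_mul_eq_mul_right (by norm_num) hcM
  obtain ⟨S1, S2, h⟩ := G3 (fun a => a ∈ H) M hMK hM2
    (hmax_of_card (fun a => a ∈ H) M hMK hM2 hcard)
  exact ⟨S1, S2, eq_map_of_char (fun a => a ∈ H) _ S1 S2 h⟩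

end Cfsg.Agent.Lib.Helper6.UniqSyl
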