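import Mathlib
import Cfsg.Prelude.Def_Characters
import Cfsg.Prelude.Def_Blocks
import Cfsg.Agent.Lib.Helper6.RealSylow1

/-!
# Group theory for the rows on real characters of `p'`-degree, part 2

The induction: if the `p`-elements generate a solvable subgroup, every real irreducible character
has `p'`-degree and the group is generated by its `2`-elements, then the Sylow `p`-subgroup is
normal.  The facts of character theory enter through the structure `CharFacts`.
-/

set_option autoImplicit false
set_option linter.style.haveILetI false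

universe u

namespace Cfsg.Agent.Lib.Helper6.RealSylow

open Cfsg
open Cfsg.Agent.Lib.helper3.Irr
open Cfsg.Agent.Lib.Helper6.RealLift

/-- every real irreducible character has degree prime to `p` -/
def HR (p : ℕ) (G : Type u) [Group G] : Prop :=
  ∀ χ : IrrCharacter G, (∀ g : G, ((χ : G → ℂ) g).im = 0) → ¬ p ∣ charDegree (χ : G → ℂ)

/-- the facts of character theory used in the induction -/
structure CharFacts (p : ℕ) [Fact p.Prime] : Prop where
  /-- the hypothesis passes to normal subgroups of odd index -/
  c1 : ∀ (G : Type u) [Group G] [Finite G] (N : Subgroup G) [N.Normal], Odd N.index →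
    HR p G → HR p ↥N
  /-- the hypothesis passes to quotients -/
  c2 : ∀ (G : Type u) [Group G] [Finite G] (N : Subgroup G) [N.Normal], HR p G → HR p (G ⧸ N)
  /-- characters of `p'`-degree are trivial on an abelian normal `p'`-subgroup on which a Sylow
  `p`-subgroup acts without fixed points -/
  c3 : ∀ (G : Type u) [Group G] [Finite G] (P : Sylow p G) (N : Subgroup G) [N.Normal],
    (∀ a ∈ N, ∀ b ∈ N, a * b = b * a) → ¬ p ∣ Nat.card N →
    (∀ n ∈ N, (∀ x ∈ (P : Subgroup G), x * n = n * x) → n = 1) →
    ∀ χ : IrrCharacter G, ¬ p ∣ charDegree (χ : G → ℂ) →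
      ∀ n ∈ N, (χ : G → ℂ) n = (χ : G → ℂ) 1
  /-- real characters trivial on a normal subgroup come from the quotient -/
  b : ∀ (G : Type u) [Group G] [Finite G] (M : Subgroup G) [M.Normal],
    (∀ χ : IrrCharacter G, (∀ g, ((χ : G → ℂ) g).im = 0) →
      ∀ m ∈ M, (χ : G → ℂ) m = (χ : G → ℂ) 1) →
    Nat.card {χ : IrrCharacter G // ∀ g : G, ((χ : G → ℂ) g).im = 0} ≤
      Nat.card {ψ : IrrCharacter (G ⧸ M) // ∀ g : G ⧸ M, ((ψ : G ⧸ M → ℂ) g).im = 0}

section transfer

variable {G : Type u} [Group G] [Finite G]

/-- the subgroup generated by the `p`-elements of a quotient is solvable if that of the group is -/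
theorem solvable_quot (p : ℕ) [Fact p.Prime] (N : Subgroup G) [N.Normal]
    (h : Group.IsSolvable ↥(Subgroup.closure (pElts p G))) :
    Group.IsSolvable ↥(Subgroup.closure (pElts p (G ⧸ N))) := by
  have hle : Subgroup.closure (pElts p (G ⧸ N)) ≤
      (Subgroup.closure (pElts p G)).map (QuotientGroup.mk' N) := by
    rw [Subgroup.closure_le]
    intro q hq
    obtain ⟨g, hg, rfl⟩ := exists_pElt_lift N hq
    exact ⟨g, Subgroup.subset_closure hg, rfl⟩
  have h1 : Group.IsSolvable ↥((Subgroup.closure (pElts p G)).map (QuotientGroup.mk' N)) :=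
    Group.isSolvable_of_surjective
      (MonoidHom.subgroupMap_surjective (QuotientGroup.mk' N) (Subgroup.closure (pElts p G)))
  exact Group.isSolvable_of_isSolvable_injective (Subgroup.inclusion_injective hle)

/-- a quotient of a group generated by `2`-elements is generated by `2`-elements -/
theorem closure_two_quot (N : Subgroup G) [N.Normal]
    (h : Subgroup.closure (pElts 2 G) = ⊤) : Subgroup.closure (pElts 2 (G ⧸ N)) = ⊤ := by
  rw [eq_top_iff]
  have h1 : (⊤ : Subgroup (G ⧸ N)) = (Subgroup.closure (pElts 2 G)).map (QuotientGroup.mk' N) := by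
    rw [h, ← MonoidHom.range_eq_map, MonoidHom.range_eq_top.mpr (QuotientGroup.mk'_surjective N)]
  rw [h1, MonoidHom.map_closure, Subgroup.closure_le]
  rintro _ ⟨g, ⟨k, hk⟩, rfl⟩
  apply Subgroup.subset_closure
  have hdvd : orderOf (QuotientGroup.mk' N g) ∣ 2 ^ k := hk ▸ orderOf_map_dvd _ g
  obtain ⟨j, -, hj⟩ := (Nat.dvd_prime_pow Nat.prime_two).mp hdvd
  exact ⟨j, hj⟩

theorem card_quot_lt (N : Subgroup G) [N.Normal] (hN : N ≠ ⊥) : Nat.card (G ⧸ N) < Nat.card G := by
  rw [Subgroup.card_eq_card_quotient_mul_card_subgroup N]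
  have h1 : 1 < Nat.card N := by
    rw [Subgroup.one_lt_card_iff_ne_bot]
    exact hN
  have h2 : 0 < Nat.card (G ⧸ N) := Nat.card_pos
  nlinarith

end transfer

section main

variable {p : ℕ} [Fact p.Prime]

/-- a variant of the count: a surjective map of real classes and a nontrivial real element in
the kernel -/
theorem card_real_classes_quot_lt' {G : Type u} [Group G] [Finite G] (M : Subgroup G) [M.Normal]
    (hsurj : Function.Surjective (realClassMap M)) {v : G} (hvM : v ∈ M) (hv1 : v ≠ 1)
    (hvr : IsConj v v⁻¹) :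
    Nat.card {C : ConjClasses (G ⧸ M) // IsRealClass C} <
      Nat.card {C : ConjClasses G // IsRealClass C} := by
  classical
  letI : Fintype {C : ConjClasses (G ⧸ M) // IsRealClass C} := Fintype.ofFinite _
  letI : Fintype {C : ConjClasses G // IsRealClass C} := Fintype.ofFinite _
  rw [Nat.card_eq_fintype_card, Nat.card_eq_fintype_card]
  apply Fintype.card_lt_of_surjective_not_injective (realClassMap M) hsurj
  intro hinj
  have h1 : IsConj (1 : G) (1 : G)⁻¹ := by rw [inv_one]
  have : (⟨ConjClasses.mk v, (isRealClass_mk_iff v).mpr hvr⟩ :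
      {C : ConjClasses G // IsRealClass C}) = ⟨ConjClasses.mk 1, (isRealClass_mk_iff 1).mpr h1⟩ := by
    apply hinj
    apply Subtype.ext
    show ConjClasses.mk (QuotientGroup.mk' M v) = ConjClasses.mk (QuotientGroup.mk' M 1)
    have hv' : (QuotientGroup.mk' M) v = 1 := (QuotientGroup.eq_one_iff v).mpr hvM
    rw [map_one, hv']
  have h2 := congrArg Subtype.val this
  simp only at h2
  rw [ConjClasses.mk_eq_mk_iff_isConj, isConj_one_left] at h2
  exact hv1 h2

/-- surjectivity of the map of real classes when the normal subgroup has a complement -/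
theorem realClassMap_surjective_of_complement {G : Type u} [Group G] [Finite G] (N H : Subgroup G)
    [N.Normal] (hsup : H ⊔ N = ⊤) (hinf : N ⊓ H = ⊥) : Function.Surjective (realClassMap N) := by
  rintro ⟨C, hC⟩
  obtain ⟨q, rfl⟩ := ConjClasses.mk_surjective C
  obtain ⟨g, rfl⟩ := QuotientGroup.mk_surjective q
  rw [isRealClass_mk_iff] at hC
  have hdec : ∀ g : G, ∃ h ∈ H, (QuotientGroup.mk h : G ⧸ N) = QuotientGroup.mk g := by
    intro g
    have hg : g ∈ H ⊔ N := hsup ▸ Subgroup.mem_top g
    obtain ⟨h, hh, n, hn, rfl⟩ := Subgroup.mem_sup_of_normal_right.mp hg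
    refine ⟨h, hh, ?_⟩
    rw [QuotientGroup.mk_mul, (QuotientGroup.eq_one_iff n).mpr hn, mul_one]
  obtain ⟨h, hh, hhg⟩ := hdec g
  obtain ⟨cbar, hcbar⟩ := isConj_iff.mp hC
  obtain ⟨c, rfl⟩ := QuotientGroup.mk_surjective cbar
  obtain ⟨h', hh', hh'c⟩ := hdec c
  rw [← hh'c, ← hhg] at hcbar
  have hmem : h' * h * h'⁻¹ * h ∈ N ⊓ H := by
    refine Subgroup.mem_inf.mpr ⟨?_, H.mul_mem (H.mul_mem (H.mul_mem hh' hh) (H.inv_mem hh')) hh⟩
    rw [← QuotientGroup.eq_one_iff]
    simp only [QuotientGroup.mk_mul, QuotientGroup.mk_inv]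
    rw [hcbar, inv_mul_cancel]
  rw [hinf, Subgroup.mem_bot] at hmem
  have hreal : IsConj h h⁻¹ := by
    rw [isConj_iff]
    exact ⟨h', eq_inv_of_mul_eq_one_left hmem⟩
  refine ⟨⟨ConjClasses.mk h, (isRealClass_mk_iff h).mpr hreal⟩, ?_⟩
  apply Subtype.ext
  show ConjClasses.mk (QuotientGroup.mk' N h) = ConjClasses.mk (QuotientGroup.mk g)
  rw [← hhg]
  rfl

/-- the main induction -/
theorem sylow_normal_aux (hF : CharFacts.{u} p) : ∀ (n : ℕ) (G : Type u) [Group G] [Finite G],
    Nat.card G = n → Group.IsSolvable ↥(Subgroup.closure (pElts p G)) → HR p G →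
    Subgroup.closure (pElts 2 G) = ⊤ → ∀ P : Sylow p G, (P : Subgroup G).Normal := by
  intro n
  induction n using Nat.strong_induction_on with
  | _ n ih =>
  intro G _ _ hcard hsolv hreal hgen P
  have hp : p.Prime := Fact.out
  by_cases hnt : Nontrivial G
  swap
  · rw [not_nontrivial_iff_subsingleton] at hnt
    constructor
    intro x hx g
    rw [Subsingleton.elim (g * x * g⁻¹) x]
    exact hx
  obtain ⟨N, hN⟩ := exists_isMinNormal (G := G)
  have hNn : N.Normal := hN.1
  -- induction: the Sylow subgroup of the quotient is normal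
  have hquot : ((P : Subgroup G).map (QuotientGroup.mk' N)).Normal := by
    have := ih (Nat.card (G ⧸ N)) (hcard ▸ card_quot_lt N hN.2.1) (G ⧸ N) rfl
      (solvable_quot p N hsolv) (hF.c2 G N hreal) (closure_two_quot N hgen)
      (P.mapSurjective (QuotientGroup.mk'_surjective N))
    rwa [Sylow.coe_mapSurjective] at this
  have hT : ((P : Subgroup G) ⊔ N).Normal := by
    have h1 := hquot.comap (QuotientGroup.mk' N)
    rwa [Subgroup.comap_map_eq, QuotientGroup.ker_mk'] at h1
  -- Frattini
  have hfrat : Subgroup.normalizer ((P : Subgroup G) : Set G) ⊔ N = ⊤ := by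
    have h1 := Sylow.normalizer_sup_eq_top' P (le_sup_left : (P : Subgroup G) ≤ (P : Subgroup G) ⊔ N)
    rw [eq_top_iff, ← h1]
    apply sup_le le_sup_left
    exact sup_le (le_sup_of_le_left Subgroup.le_normalizer) le_sup_right
  -- two sufficient conditions
  have claimX : N ≤ Subgroup.centralizer ((P : Subgroup G) : Set G) → (P : Subgroup G).Normal := by
    intro h
    rw [← Subgroup.normalizer_eq_top_iff, eq_top_iff, ← hfrat]
    exact sup_le le_rfl (h.trans (Subgroup.centralizer_le_normalizer _))
  have claimY : IsPGroup p N → (P : Subgroup G).Normal := by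
    intro h
    have h1 : IsPGroup p ((P : Subgroup G) ⊔ N : Subgroup G) :=
      IsPGroup.to_sup_of_normal_right P.isPGroup' h
    have h2 := P.is_maximal' h1 le_sup_left
    have h3 : N ≤ (P : Subgroup G) := by
      rw [← h2]
      exact le_sup_right
    rw [← Subgroup.normalizer_eq_top_iff, eq_top_iff, ← hfrat]
    exact sup_le le_rfl (h3.trans Subgroup.le_normalizer)
  -- the subgroup generated by the `p`-elements
  have hLn : (Subgroup.closure (pElts p G)).Normal := normal_closure_pElts p
  have hPL : (P : Subgroup G) ≤ Subgroup.closure (pElts p G) := le_closure_pElts P.isPGroup'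
  have hNL : (N ⊓ Subgroup.closure (pElts p G)).Normal := inferInstance
  rcases hN.2.2 _ hNL inf_le_left with hA | hB
  · -- case A: the `p`-elements centralize `N`
    apply claimX
    have h1 : ⁅N, Subgroup.closure (pElts p G)⁆ = ⊥ := by
      rw [eq_bot_iff, ← hA]
      exact Subgroup.commutator_le_inf N _
    have h2 : N ≤ Subgroup.centralizer (Subgroup.closure (pElts p G) : Set G) :=
      Subgroup.commutator_eq_bot_iff_le_centralizer.mp h1
    exact h2.trans (Subgroup.centralizer_le hPL)
  · -- case B: `N` lies in the solvable subgroup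
    have hNleL : N ≤ Subgroup.closure (pElts p G) := by
      rw [← hB]
      exact inf_le_right
    have hNsolv : Group.IsSolvable N :=
      Group.isSolvable_of_isSolvable_injective (Subgroup.inclusion_injective hNleL)
    have hab := hN.comm_of_solvable hNsolv
    by_cases hpN : p ∣ Nat.card N
    · apply claimY
      have hpow := hN.pow_eq_one hab hpN
      intro x
      refine ⟨1, ?_⟩
      apply Subtype.ext
      rw [pow_one]
      simpa using hpow x x.2
    -- `N` is an abelian `p'`-group
    have hcop : Nat.Coprime (Nat.card N) (Nat.card (P : Subgroup G)) := by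
      obtain ⟨k, hk⟩ := IsPGroup.iff_card.mp P.isPGroup'
      rw [hk]
      exact Nat.Coprime.pow_right k ((Nat.Prime.coprime_iff_not_dvd hp).mpr hpN).symm
    have hNP : N ⊓ (P : Subgroup G) = ⊥ := (Subgroup.disjoint_of_coprime_natCard hcop).eq_bot
    -- the centralizer of `P` in `N` is normal
    have hCn : (N ⊓ Subgroup.centralizer ((P : Subgroup G) : Set G)).Normal := by
      rw [← Subgroup.normalizer_eq_top_iff, eq_top_iff, ← hfrat]
      apply sup_le
      · intro g hg
        rw [Subgroup.mem_normalizer_iff'']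
        intro n
        rw [Subgroup.mem_inf, Subgroup.mem_inf]
        have hgP : ∀ x, x ∈ (P : Subgroup G) ↔ g * x * g⁻¹ ∈ (P : Subgroup G) :=
          Subgroup.mem_normalizer_iff.mp hg
        have hgP' : ∀ x, x ∈ (P : Subgroup G) ↔ g⁻¹ * x * g ∈ (P : Subgroup G) :=
          Subgroup.mem_normalizer_iff''.mp hg
        constructor
        · rintro ⟨hn1, hn2⟩
          refine ⟨?_, ?_⟩
          · have := hNn.conj_mem n hn1 g⁻¹
            simpa using this
          · rw [Subgroup.mem_centralizer_iff] at hn2 ⊢
            intro x hx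
            have h1 := hn2 (g * x * g⁻¹) ((hgP x).mp hx)
            calc x * (g⁻¹ * n * g) = g⁻¹ * ((g * x * g⁻¹) * n) * g := by group
              _ = g⁻¹ * (n * (g * x * g⁻¹)) * g := by rw [h1]
              _ = g⁻¹ * n * g * x := by group
        · rintro ⟨hn1, hn2⟩
          refine ⟨?_, ?_⟩
          · have := hNn.conj_mem _ hn1 g
            simpa [mul_assoc] using this
          · rw [Subgroup.mem_centralizer_iff] at hn2 ⊢
            intro x hx
            have h1 := hn2 (g⁻¹ * x * g) ((hgP' x).mp hx)
            calc x * n = g * ((g⁻¹ * x * g) * (g⁻¹ * n * g)) * g⁻¹ := by group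
              _ = g * ((g⁻¹ * n * g) * (g⁻¹ * x * g)) * g⁻¹ := by rw [h1]
              _ = n * x := by group
      · intro g hg
        rw [Subgroup.mem_normalizer_iff]
        intro n
        rw [Subgroup.mem_inf, Subgroup.mem_inf]
        constructor
        · rintro ⟨hn1, hn2⟩
          have : g * n * g⁻¹ = n := by
            rw [hab g hg n hn1]
            group
          rw [this]
          exact ⟨hn1, hn2⟩
        · rintro ⟨hn1, hn2⟩
          have hn : n ∈ N := by
            have := hNn.conj_mem _ hn1 g⁻¹
            simpa [mul_assoc] using this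
          have : g * n * g⁻¹ = n := by
            rw [hab g hg n hn]
            group
          rw [this] at hn2
          exact ⟨hn, hn2⟩
    rcases hN.2.2 _ hCn inf_le_left with hC | hC
    swap
    · apply claimX
      rw [← hC]
      exact inf_le_right
    -- the hard case: `P` acts on `N` without fixed points
    exfalso
    have hC' : ∀ n ∈ N, (∀ x ∈ (P : Subgroup G), x * n = n * x) → n = 1 := by
      intro n hn hx
      have : n ∈ N ⊓ Subgroup.centralizer ((P : Subgroup G) : Set G) :=
        Subgroup.mem_inf.mpr ⟨hn, Subgroup.mem_centralizer_iff.mpr hx⟩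
      rw [hC, Subgroup.mem_bot] at this
      exact this
    -- the normalizer of `P` is a complement
    have hinf : N ⊓ Subgroup.normalizer ((P : Subgroup G) : Set G) = ⊥ := by
      rw [eq_bot_iff]
      intro n hn
      obtain ⟨hn1, hn2⟩ := Subgroup.mem_inf.mp hn
      rw [Subgroup.mem_bot]
      apply hC' n hn1
      intro x hx
      have hmem : n * x * n⁻¹ * x⁻¹ ∈ N ⊓ (P : Subgroup G) := by
        refine Subgroup.mem_inf.mpr ⟨?_, ?_⟩
        · have h1 := hNn.conj_mem n⁻¹ (N.inv_mem hn1) x
          have h2 : n * x * n⁻¹ * x⁻¹ = n * (x * n⁻¹ * x⁻¹) := by group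
          rw [h2]
          exact N.mul_mem hn1 h1
        · have h1 : n * x * n⁻¹ ∈ (P : Subgroup G) := (Subgroup.mem_normalizer_iff.mp hn2 x).mp hx
          exact Subgroup.mul_mem _ h1 (Subgroup.inv_mem _ hx)
      rw [hNP, Subgroup.mem_bot] at hmem
      calc x * n = (n * x * n⁻¹ * x⁻¹)⁻¹ * n * x := by group
        _ = n * x := by rw [hmem, inv_one, one_mul]
    have hsurj := realClassMap_surjective_of_complement N _ hfrat hinf
    -- no nontrivial real element in `N`
    have hnoreal : ∀ v ∈ N, IsConj v v⁻¹ → v = 1 := by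
      intro v hv hvr
      by_contra hv1
      have h1 := card_real_classes_quot_lt' N hsurj hv hv1 hvr
      have h2 := hF.b G N (fun χ hχ => hF.c3 G P N hab hpN hC' χ (hreal χ hχ))
      rw [card_real_irr_eq_card_real_classes, card_real_irr_eq_card_real_classes] at h2
      omega
    -- so every `2`-element centralizes `N`
    have hcent : Subgroup.closure (pElts 2 G) ≤ Subgroup.centralizer (N : Set G) := by
      rw [Subgroup.closure_le]
      intro t ht
      rw [SetLike.mem_coe, Subgroup.mem_centralizer_iff]
      intro m hm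
      by_contra hne
      obtain ⟨u, huN, hu1, hur⟩ := exists_real_of_not_commute N ht hm (fun h => hne h.symm)
      exact hu1 (hnoreal u huN hur)
    rw [hgen] at hcent
    -- hence `P` centralizes `N`
    obtain ⟨v, hvN, hv1⟩ : ∃ v ∈ N, v ≠ 1 := by
      by_contra h
      push Not at h
      exact hN.2.1 ((Subgroup.eq_bot_iff_forall N).mpr h)
    apply hv1
    apply hC' v hvN
    intro x _
    have hx : x ∈ Subgroup.centralizer (N : Set G) := hcent (Subgroup.mem_top x)
    exact (Subgroup.mem_centralizer_iff.mp hx v hvN).symm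

end main

end Cfsg.Agent.Lib.Helper6.RealSylow
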