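import Cfsg.Agent.Lib.Helper6.TCOrb

/-! # A faster check that powers of words act trivially on a coset table: walk the cycles -/

set_option autoImplicit false

noncomputable section

namespace Cfsg.Agent.Lib.Helper6.TC

open Cfsg.Agent.Lib.Helper6.NatArr Cfsg.Spor

/-- mark a row: the marks are kept above the lowest 32 binary digits, which hold the row marked
last (the kernel tells big numbers apart by their lowest digits) -/
def mark (M cur : ℕ) : ℕ :=
  Nat.lor (Nat.shiftLeft (bset (Nat.shiftRight M 32) cur) 32) (Nat.land cur 4294967295)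

/-- is the row marked? -/
def marked (M a : ℕ) : Bool := btest (Nat.shiftRight M 32) a

theorem shiftRight_mark (M cur : ℕ) :
    Nat.shiftRight (mark M cur) 32 = bset (Nat.shiftRight M 32) cur := by
  show (bset (M >>> 32) cur <<< 32 ||| (cur &&& 4294967295)) >>> 32 = _
  rw [Nat.shiftRight_or_distrib, Nat.shiftLeft_shiftRight]
  have : (cur &&& 4294967295) >>> 32 = 0 := by
    rw [Nat.shiftRight_eq_div_pow]
    apply Nat.div_eq_of_lt
    exact lt_of_le_of_lt Nat.and_le_right (by norm_num)
  rw [this, Nat.or_zero]
  rfl

namespace Tab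

variable (T : Tab)

/-- walk the cycle of the word `u` through the row `a`, marking its rows; the cycle has to close
after a number of steps that divides `k` -/
def cycWalk (u : List ℕ) (k a : ℕ) : ℕ → ℕ → ℕ → ℕ → Option ℕ
  | 0, _, _, _ => none
  | f + 1, cur, j, M =>
    force (T.trace cur u) fun nx =>
    force (mark M cur) fun M' =>
    bif Nat.beq nx a then (bif Nat.beq (Nat.mod k (Nat.succ j)) 0 then some M' else none)
    else cycWalk u k a f nx (Nat.succ j) M'

/-- walk the cycles of the word `u` through all rows from `a` on that are not yet marked -/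
def cycLoop (u : List ℕ) (k : ℕ) : ℕ → ℕ → ℕ → Bool
  | 0, _, _ => true
  | t + 1, a, M =>
    force (Nat.succ a) fun a' =>
    bif marked M a then cycLoop u k t a' M
    else
      match T.cycWalk u k a k a 0 M with
      | none => false
      | some M' => cycLoop u k t a' M'

/-- as `cycLoop`, giving the marks at the end -/
def cycLoopM (u : List ℕ) (k : ℕ) : ℕ → ℕ → ℕ → Option ℕ
  | 0, _, M => some M
  | t + 1, a, M =>
    force (Nat.succ a) fun a' =>
    bif marked M a then cycLoopM u k t a' M
    else
      match T.cycWalk u k a k a 0 M with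
      | none => none
      | some M' => cycLoopM u k t a' M'

/-- a part of the loop leads from the marks `M` to the marks `M1` -/
def cycPart (u : List ℕ) (k t a M M1 : ℕ) : Bool :=
  match T.cycLoopM u k t a M with
  | none => false
  | some M' => Nat.beq M' M1

theorem cycLoop_split (u : List ℕ) (k : ℕ) : ∀ (t1 a M M1 t2 : ℕ),
    T.cycLoopM u k t1 a M = some M1 → T.cycLoop u k t2 (a + t1) M1 = true →
    T.cycLoop u k (t1 + t2) a M = true := by
  intro t1
  induction t1 with
  | zero =>
    intro a M M1 t2 h1 h2
    simp only [cycLoopM, Option.some.injEq] at h1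
    subst h1
    rw [Nat.zero_add]
    rw [Nat.add_zero] at h2
    exact h2
  | succ t1 ih =>
    intro a M M1 t2 h1 h2
    have e : t1 + 1 + t2 = (t1 + t2) + 1 := by omega
    rw [e]
    simp only [cycLoopM, force_eq] at h1
    simp only [cycLoop, force_eq]
    have e2 : a + (t1 + 1) = Nat.succ a + t1 := by omega
    rw [e2] at h2
    cases hb : marked M a
    · rw [hb, cond_false] at h1
      rw [cond_false]
      cases hw : T.cycWalk u k a k a 0 M with
      | none => rw [hw] at h1; simp at h1
      | some M' =>
        rw [hw] at h1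
        simp only at h1 ⊢
        exact ih _ _ _ _ h1 h2
    · rw [hb, cond_true] at h1
      rw [cond_true]
      exact ih _ _ _ _ h1 h2

/-- join a part of the loop to the rest -/
theorem cycLoop_join {u : List ℕ} {k t1 a M M1 t2 a' t : ℕ}
    (h1 : T.cycPart u k t1 a M M1 = true) (ha : a' = a + t1) (ht : t = t1 + t2)
    (h2 : T.cycLoop u k t2 a' M1 = true) : T.cycLoop u k t a M = true := by
  unfold cycPart at h1
  cases hr : T.cycLoopM u k t1 a M with
  | none => rw [hr] at h1; simp at h1
  | some M' =>
    rw [hr] at h1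
    simp only at h1
    rw [Nat.eq_of_beq_eq_true h1] at hr
    subst ha ht
    exact T.cycLoop_split u k t1 a M M1 t2 hr h2

/-- the `k`-th power of the word `u` acts trivially -/
def powOK (u : List ℕ) (k : ℕ) : Bool :=
  (u.all fun x => Nat.blt x T.g) && T.cycLoop u k T.n 0 0

/-- the given powers of words act trivially -/
def powsOK (ps : List (List ℕ × ℕ)) : Bool := ps.all fun p => T.powOK p.1 p.2

theorem powOK_intro {u : List ℕ} {k : ℕ} (hl : (u.all fun x => Nat.blt x T.g) = true)
    (h : T.cycLoop u k T.n 0 0 = true) : T.powOK u k = true := by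
  unfold powOK
  rw [hl, h]
  rfl

variable {T}

theorem pow_fix_of_dvd {n : ℕ} (P : Equiv.Perm (Fin n)) {a : Fin n} {j k : ℕ}
    (hj : (P ^ j) a = a) (hd : j ∣ k) : (P ^ k) a = a := by
  obtain ⟨m, rfl⟩ := hd
  rw [pow_mul]
  induction m with
  | zero => simp
  | succ m ih => rw [pow_succ, Equiv.Perm.mul_apply, hj, ih]

theorem pow_fix_pow {n : ℕ} (P : Equiv.Perm (Fin n)) {a : Fin n} {k : ℕ}
    (hk : (P ^ k) a = a) (i : ℕ) : (P ^ k) ((P ^ i) a) = (P ^ i) a := by
  rw [← Equiv.Perm.mul_apply, ← pow_add, add_comm, pow_add, Equiv.Perm.mul_apply, hk]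

theorem cycWalk_spec (h : T.tabOK = true) (u : List ℕ) (hu : ∀ x ∈ u, x < T.g) (k : ℕ)
    (a : Fin T.n) : ∀ (f : ℕ) (cur : Fin T.n) (j M M' : ℕ),
    T.cycWalk u k a.val f cur.val j M = some M' →
    cur = (((u.reverse.map (T.perm h)).prod) ^ j) a →
    ((((u.reverse.map (T.perm h)).prod) ^ k) a = a) ∧
      ∀ b, (Nat.shiftRight M' 32).testBit b = true → (Nat.shiftRight M 32).testBit b = true ∨
        ∃ i, b = ((((u.reverse.map (T.perm h)).prod) ^ i) a).val := by
  intro f
  induction f with
  | zero => intro cur j M M' hw; simp [cycWalk] at hw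
  | succ f ih =>
    intro cur j M M' hw hcur
    simp only [cycWalk, force_eq] at hw
    have htr := T.trace_eq h u cur hu
    set P := (u.reverse.map (T.perm h)).prod with hP
    have hnx : P cur = (P ^ (j + 1)) a := by
      rw [pow_succ', Equiv.Perm.mul_apply, ← hcur]
    cases hb : Nat.beq (T.trace cur.val u) a.val
    · rw [hb, cond_false] at hw
      rw [htr] at hw
      obtain ⟨h1, h2⟩ := ih (P cur) (Nat.succ j) _ M' hw hnx
      refine ⟨h1, ?_⟩
      intro b hb'
      rcases h2 b hb' with h3 | h3
      · rw [shiftRight_mark, testBit_bset] at h3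
        rcases Bool.or_eq_true_iff.1 h3 with h3 | h3
        · exact Or.inl h3
        · right
          refine ⟨j, ?_⟩
          rw [← of_decide_eq_true h3, hcur]
      · exact Or.inr h3
    · rw [hb, cond_true] at hw
      cases hm : Nat.beq (Nat.mod k (Nat.succ j)) 0
      · rw [hm, cond_false] at hw
        exact absurd hw (by simp)
      · rw [hm, cond_true, Option.some.injEq] at hw
        have hm' : k % (j + 1) = 0 := Nat.eq_of_beq_eq_true hm
        have hfix : (P ^ (j + 1)) a = a := by
          rw [← hnx]
          apply Fin.ext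
          rw [← htr]
          exact Nat.eq_of_beq_eq_true hb
        refine ⟨pow_fix_of_dvd P hfix (Nat.dvd_of_mod_eq_zero hm'), ?_⟩
        intro b hb'
        rw [← hw, shiftRight_mark, testBit_bset] at hb'
        rcases Bool.or_eq_true_iff.1 hb' with h3 | h3
        · exact Or.inl h3
        · right
          refine ⟨j, ?_⟩
          rw [← of_decide_eq_true h3, hcur]

theorem cycLoop_spec (h : T.tabOK = true) (u : List ℕ) (hu : ∀ x ∈ u, x < T.g) (k : ℕ) :
    ∀ (t a M : ℕ), T.cycLoop u k t a M = true → a + t = T.n →
    (∀ b : Fin T.n, (Nat.shiftRight M 32).testBit b.val = true →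
      (((u.reverse.map (T.perm h)).prod) ^ k) b = b) →
    (∀ b : Fin T.n, b.val < a → (((u.reverse.map (T.perm h)).prod) ^ k) b = b) →
    ∀ b : Fin T.n, (((u.reverse.map (T.perm h)).prod) ^ k) b = b := by
  intro t
  induction t with
  | zero =>
    intro a M _ hat _ hlow b
    exact hlow b (by have := b.isLt; omega)
  | succ t ih =>
    intro a M hl hat hM hlow
    have ha : a < T.n := by omega
    simp only [cycLoop, force_eq] at hl
    cases hb : marked M a
    · rw [hb, cond_false] at hl
      cases hw : T.cycWalk u k a k a 0 M with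
      | none => rw [hw] at hl; simp at hl
      | some M' =>
        rw [hw] at hl
        simp only at hl
        obtain ⟨h1, h2⟩ := cycWalk_spec h u hu k ⟨a, ha⟩ k ⟨a, ha⟩ 0 M M' hw (by simp)
        refine ih (a + 1) M' hl (by omega) ?_ ?_
        · intro b hb'
          rcases h2 b.val hb' with h3 | ⟨i, h3⟩
          · exact hM b h3
          · have : b = (((u.reverse.map (T.perm h)).prod) ^ i) ⟨a, ha⟩ := Fin.ext h3
            rw [this]
            exact pow_fix_pow _ h1 i
        · intro b hb'
          rcases Nat.lt_succ_iff_lt_or_eq.1 hb' with h3 | h3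
          · exact hlow b h3
          · have : b = ⟨a, ha⟩ := Fin.ext h3
            rw [this]
            exact h1
    · rw [hb, cond_true] at hl
      refine ih (a + 1) M hl (by omega) hM ?_
      intro b hb'
      rcases Nat.lt_succ_iff_lt_or_eq.1 hb' with h3 | h3
      · exact hlow b h3
      · refine hM b ?_
        rw [h3, ← btest_eq]
        exact hb

/-- a checked power of a word is the trivial permutation -/
theorem pow_eq_one_of_powOK (h : T.tabOK = true) {u : List ℕ} {k : ℕ}
    (hp : T.powOK u k = true) :
    (∀ x ∈ u, x < T.g) ∧ ((u.map (T.perm h)).prod) ^ k = 1 := by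
  simp only [powOK, Bool.and_eq_true] at hp
  obtain ⟨h1, h2⟩ := hp
  have hu : ∀ x ∈ u, x < T.g := by
    intro x hx
    have := List.all_eq_true.1 h1 x hx
    rwa [Nat.blt_eq] at this
  refine ⟨hu, ?_⟩
  have h3 := cycLoop_spec h u hu k T.n 0 0 h2 (by simp) (by simp [Nat.shiftRight]) (by simp)
  have h4 : ((u.reverse.map (T.perm h)).prod) ^ k = 1 := by
    ext b
    rw [h3 b]
    rfl
  rw [prod_reverse_eq_inv (T.perm_mul_self h), inv_pow, inv_eq_one] at h4
  exact h4

theorem prod_flatten_replicate {K : Type*} [Monoid K] (φ : ℕ → K) (u : List ℕ) :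
    ∀ k, (((List.replicate k u).flatten).map φ).prod = ((u.map φ).prod) ^ k
  | 0 => by simp
  | k + 1 => by
    rw [List.replicate_succ, List.flatten_cons, List.map_append, List.prod_append,
      prod_flatten_replicate φ u k, pow_succ']

/-- the old check follows from a proof that the words are trivial permutations -/
theorem relsOK_of_forall (h : T.tabOK = true) {ws : List (List ℕ)}
    (hl : ∀ w ∈ ws, ∀ x ∈ w, x < T.g)
    (hw : ∀ w ∈ ws, (w.map (T.perm h)).prod = 1) : T.relsOK ws = true := by
  unfold relsOK
  rw [List.all_eq_true]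
  intro w hww
  have h1 : ∀ (N : ℕ) (f : ℕ → Bool), (∀ a < N, f a = true) → allBelow N f = true := by
    intro N
    induction N with
    | zero => intro f _; rfl
    | succ N ih =>
      intro f hf
      simp only [allBelow, Bool.and_eq_true]
      exact ⟨hf N (by omega), ih f (fun a ha => hf a (by omega))⟩
  apply h1
  intro a ha
  have h2 := T.trace_eq h w ⟨a, ha⟩ (hl w hww)
  have h3 : (w.reverse.map (T.perm h)).prod = 1 := by
    rw [prod_reverse_eq_inv (T.perm_mul_self h), hw w hww, inv_one]
  rw [h3] at h2
  simp only [Equiv.Perm.coe_one, id_eq] at h2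
  rw [h2]
  exact Nat.beq_refl a

theorem powsOK_append (T : Tab) (A B : List (List ℕ × ℕ)) :
    T.powsOK (A ++ B) = (T.powsOK A && T.powsOK B) := by
  unfold powsOK
  rw [List.all_append]

end Tab

section

variable {α : Type} [DecidableEq α]

theorem coxLabel_comm (edges : List (α × ℕ × α)) (x y : α) :
    coxLabel edges x y = coxLabel edges y x := by
  unfold coxLabel
  by_cases hxy : x = y
  · subst hxy; rfl
  · rw [if_neg hxy, if_neg (Ne.symm hxy)]
    have : (fun e : α × ℕ × α => decide ((e.1 = x ∧ e.2.2 = y) ∨ (e.1 = y ∧ e.2.2 = x))) =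
        (fun e : α × ℕ × α => decide ((e.1 = y ∧ e.2.2 = x) ∨ (e.1 = x ∧ e.2.2 = y))) := by
      funext e
      simp only [or_comm]
    rw [this]

/-- the Coxeter relators for the pairs `i < j`, as powers -/
def coxPairs (edges : List (α × ℕ × α)) (gen : ℕ → α) (g : ℕ) : List (List ℕ × ℕ) :=
  (List.range g).flatMap fun j => (List.range j).map fun i =>
    ([i, j], coxLabel edges (gen i) (gen j))

theorem mem_coxPairs (edges : List (α × ℕ × α)) (gen : ℕ → α) {g i j : ℕ} (hij : i < j)
    (hj : j < g) : ([i, j], coxLabel edges (gen i) (gen j)) ∈ coxPairs edges gen g := by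
  unfold coxPairs
  rw [List.mem_flatMap]
  exact ⟨j, List.mem_range.2 hj, List.mem_map.2 ⟨i, List.mem_range.2 hij, rfl⟩⟩

/-- **the check of the relators by cycles gives the check by tracing** -/
theorem Tab.relsOK_of_powsOK {T : Tab} (h : T.tabOK = true) (edges : List (α × ℕ × α))
    (gen : ℕ → α)
    (extraPow : List (List ℕ × ℕ))
    (hp : T.powsOK (coxPairs edges gen T.g ++ extraPow) = true) :
    T.relsOK (coxWordsL edges gen T.g ++
      extraPow.map fun p => (List.replicate p.2 p.1).flatten) = true := by
  have hall : ∀ p ∈ coxPairs edges gen T.g ++ extraPow,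
      (∀ x ∈ p.1, x < T.g) ∧ ((p.1.map (T.perm h)).prod) ^ p.2 = 1 := by
    intro p hpm
    exact Tab.pow_eq_one_of_powOK h (List.all_eq_true.1 hp p hpm)
  have hcox : ∀ i j, i < T.g → j < T.g →
      (T.perm h i * T.perm h j) ^ coxLabel edges (gen i) (gen j) = 1 := by
    have hlt : ∀ i j, i < j → j < T.g →
        (T.perm h i * T.perm h j) ^ coxLabel edges (gen i) (gen j) = 1 := by
      intro i j hij hj
      have := (hall _ (List.mem_append_left _ (mem_coxPairs edges gen hij hj))).2
      simpa using this
    intro i j hi hj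
    rcases Nat.lt_trichotomy i j with hij | hij | hij
    · exact hlt i j hij hj
    · subst hij
      have : coxLabel edges (gen i) (gen i) = 1 := by simp [coxLabel]
      rw [this, pow_one]
      exact T.perm_mul_self h i
    · have h1 := hlt j i hij hi
      rw [coxLabel_comm edges (gen j) (gen i)] at h1
      have h2 : T.perm h i * T.perm h j = (T.perm h j * T.perm h i)⁻¹ := by
        rw [mul_inv_rev, inv_eq_of_mul_eq_one_left (T.perm_mul_self h i),
          inv_eq_of_mul_eq_one_left (T.perm_mul_self h j)]
      rw [h2, inv_pow, h1, inv_one]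
  apply Tab.relsOK_of_forall h
  · intro w hw x hx
    rcases List.mem_append.1 hw with hw | hw
    · unfold coxWordsL at hw
      rw [List.mem_flatMap] at hw
      obtain ⟨i, hi, hw⟩ := hw
      rw [List.mem_map] at hw
      obtain ⟨j, hj, rfl⟩ := hw
      have hx' : x = i ∨ x = j := by
        unfold rep2 at hx
        rw [List.mem_flatten] at hx
        obtain ⟨l, hl, hxl⟩ := hx
        rw [List.eq_of_mem_replicate hl] at hxl
        simpa using hxl
      rcases hx' with rfl | rfl
      · exact List.mem_range.1 hi
      · exact List.mem_range.1 hj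
    · rw [List.mem_map] at hw
      obtain ⟨p, hp', rfl⟩ := hw
      rw [List.mem_flatten] at hx
      obtain ⟨l, hl, hxl⟩ := hx
      rw [List.eq_of_mem_replicate hl] at hxl
      exact (hall p (List.mem_append_right _ hp')).1 x hxl
  · intro w hw
    rcases List.mem_append.1 hw with hw | hw
    · unfold coxWordsL at hw
      rw [List.mem_flatMap] at hw
      obtain ⟨i, hi, hw⟩ := hw
      rw [List.mem_map] at hw
      obtain ⟨j, hj, rfl⟩ := hw
      rw [prod_rep2]
      exact hcox i j (List.mem_range.1 hi) (List.mem_range.1 hj)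
    · rw [List.mem_map] at hw
      obtain ⟨p, hp', rfl⟩ := hw
      rw [Tab.prod_flatten_replicate]
      exact (hall p (List.mem_append_right _ hp')).2

end

end Cfsg.Agent.Lib.Helper6.TC
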