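import Cfsg.Agent.Lib.Helper6.Fi22BTCData
import Cfsg.Agent.Lib.Helper6.TCRel2

/-! # Fi22B: the kernel check of part 1 of the relators on the coset table -/

set_option autoImplicit false

namespace Cfsg.Agent.Lib.Helper6.Fi22BTC

open Cfsg.Agent.Lib.Helper6.TC

theorem chk_pows1 : tab.powsOK pows1 = true := by decide +kernel

end Cfsg.Agent.Lib.Helper6.Fi22BTC
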