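import Cfsg.Agent.Lib.Helper6.TCOrb

/-! # Coset enumeration certificates from data: subgroups generated by words -/

set_option autoImplicit false

noncomputable section

namespace Cfsg.Agent.Lib.Helper6.TC

open Cfsg.Agent.Lib.Helper6.NatArr Cfsg.Spor

section

variable {α : Type} [DecidableEq α]

/-- the word in the free group with the given codes -/
def fgWord (gen : ℕ → α) (w : List ℕ) : FreeGroup α := (w.map fun x => FreeGroup.of (gen x)).prod

omit [DecidableEq α] in
theorem hom_fgWord {K : Type*} [Group K] (φ : FreeGroup α →* K) (gen : ℕ → α) (w : List ℕ) :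
    φ (fgWord gen w) = (w.map fun x => φ (FreeGroup.of (gen x))).prod := by
  unfold fgWord
  rw [map_list_prod, List.map_map]
  rfl

/-- the subgroup words of the configuration are the given ones, which have letters below `g` and
fix the first row -/
def subOK (c : Cfg) (T : Tab) (subW : List (List ℕ)) : Bool :=
  Nat.beq subW.length c.nsub &&
  ((allBelow c.nsub fun k => unpack (wordAt c k) == subW.getD k []) &&
  (subW.all fun w => (w.all fun x => Nat.blt x c.g) && Nat.beq (T.trace 0 w.reverse) 0))

/-- the data of a coset enumeration over the subgroup generated by the images of the set `S` of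
words -/
structure CoxData (edges : List (α × ℕ × α)) (extra : List (FreeGroup α))
    (S : Set (FreeGroup α)) where
  gen : ℕ → α
  code : α → ℕ
  c : Cfg
  extraWords : List (List ℕ)
  nw : ℕ
  srcs : List ℕ
  T : Tab
  subW : List (List ℕ)
  hnode : ∀ a : α, a ∈ coxNodes edges
  hcode : ∀ a, code a < c.g ∧ gen (code a) = a
  hgen : ∀ x, x < c.g → code (gen x) = x
  hTg : T.g = c.g
  hTn : 0 < T.n
  hw : 1 < 2 ^ c.w
  chk_words : wordsSrcOK c (coxWordsL edges gen c.g ++ extraWords) nw srcs = true
  hrun : RunCert c T.n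
  chk_tab : T.tabOK = true
  chk_rels : T.relsOK (coxWordsL edges gen c.g ++ extraWords) = true
  chk_tree : T.treeOK = true
  hextra : ∀ {K : Type} [Group K] (f : α → K), (∀ a, f a * f a = 1) →
    ((∀ r ∈ extra, FreeGroup.lift f r = 1) ↔
      ∀ w ∈ extraWords, (w.map (fun x => f (gen x))).prod = 1)
  hS : ∀ s, s ∈ S ↔ ∃ w ∈ subW, s = fgWord gen w
  chk_sub : subOK c T subW = true

namespace CoxData

variable {edges : List (α × ℕ × α)} {extra : List (FreeGroup α)} {S : Set (FreeGroup α)}
  (D : CoxData edges extra S)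

theorem sub_spec : D.subW.length = D.c.nsub ∧
    (∀ k, k < D.c.nsub → unpack (wordAt D.c k) = D.subW.getD k []) ∧
    ∀ w ∈ D.subW, (∀ x ∈ w, x < D.c.g) ∧ D.T.trace 0 w.reverse = 0 := by
  have h := D.chk_sub
  simp only [subOK, Bool.and_eq_true] at h
  obtain ⟨h1, h2, h3⟩ := h
  refine ⟨Nat.eq_of_beq_eq_true h1, ?_, ?_⟩
  · intro k hk
    exact eq_of_beq (allBelow_spec _ _ h2 k hk)
  · intro w hw
    have := List.all_eq_true.1 h3 w hw
    rw [Bool.and_eq_true] at this
    refine ⟨?_, Nat.eq_of_beq_eq_true this.2⟩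
    intro x hx
    have := List.all_eq_true.1 this.1 x hx
    rwa [Nat.blt_eq] at this

theorem lift_perm_fgWord {w : List ℕ} (hw : ∀ x ∈ w, x < D.c.g) :
    FreeGroup.lift (fun a => D.T.perm D.chk_tab (D.code a)) (fgWord D.gen w) =
      (w.map (D.T.perm D.chk_tab)).prod := by
  rw [hom_fgWord]
  congr 1
  apply List.map_congr_left
  intro x hx
  rw [FreeGroup.lift_apply_of, D.hgen x (hw x hx)]

/-- the certificate of the index -/
def cert : CoxCert edges extra where
  gen := D.gen
  code := D.code
  c := D.c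
  S := S
  extraWords := D.extraWords
  nw := D.nw
  srcs := D.srcs
  T := D.T
  hnode := D.hnode
  hcode := D.hcode
  hgen := D.hgen
  hTg := D.hTg
  hTn := D.hTn
  hw := D.hw
  chk_words := D.chk_words
  hrun := D.hrun
  chk_tab := D.chk_tab
  chk_rels := D.chk_rels
  chk_tree := D.chk_tree
  hextra := D.hextra
  hsubG := by
    intro k hk
    obtain ⟨h1, h2, _⟩ := D.sub_spec
    rw [h2 k hk]
    have hlt : k < D.subW.length := by rw [h1]; exact hk
    rw [List.getD_eq_getElem _ _ hlt]
    refine ⟨fgWord D.gen D.subW[k], Subgroup.subset_closure ?_, ?_⟩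
    · exact (D.hS _).2 ⟨_, List.getElem_mem hlt, rfl⟩
    · rw [hom_fgWord]
      rfl
  hsubP := by
    intro s hs
    obtain ⟨w, hw, rfl⟩ := (D.hS s).1 hs
    obtain ⟨_, _, h3⟩ := D.sub_spec
    obtain ⟨hl, hfix⟩ := h3 w hw
    rw [D.lift_perm_fgWord hl]
    apply Fin.ext
    have hl' : ∀ x ∈ w.reverse, x < D.T.g := by
      intro x hx
      rw [D.hTg]
      exact hl x (List.mem_reverse.1 hx)
    have := D.T.trace_eq D.chk_tab w.reverse ⟨0, D.hTn⟩ hl'
    rw [List.reverse_reverse] at this
    rw [← this]
    exact hfix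

/-- **the index of the subgroup is the number of rows** -/
theorem index_eq : ((Subgroup.closure S).map
    (PresentedGroup.mk (coxRelators edges ∪ {r | r ∈ extra}))).index = D.T.n :=
  D.cert.index_eq

/-- the data of an orbit -/
structure Orb where
  a : ℕ
  ha : a < D.T.n
  instrs : List ℕ
  B : ℕ
  chk_orb : D.T.orbRun D.subW instrs [a] (bset 0 a) = some B
  chk_closed : D.T.closedOK D.subW B = true

/-- the certificate of an orbit -/
def Orb.cert {D : CoxData edges extra S} (O : D.Orb) : OrbCert D.cert where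
  subW := D.subW
  hsub1 := by
    intro s hs
    obtain ⟨w, hw, rfl⟩ := (D.hS s).1 hs
    obtain ⟨_, _, h3⟩ := D.sub_spec
    exact ⟨w, hw, D.lift_perm_fgWord (h3 w hw).1⟩
  hsub2 := by
    intro w hw
    obtain ⟨_, _, h3⟩ := D.sub_spec
    refine ⟨?_, fgWord D.gen w, (D.hS _).2 ⟨w, hw, rfl⟩, D.lift_perm_fgWord (h3 w hw).1⟩
    intro x hx
    show x < D.T.g
    rw [D.hTg]
    exact (h3 w hw).1 x hx
  a := O.a
  ha := O.ha
  instrs := O.instrs
  B := O.B
  chk_orb := O.chk_orb
  chk_closed := O.chk_closed

/-- **an injective map from the cosets of the subgroup to the rows, under which every certified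
orbit on the rows is the image of an orbit of the subgroup on its cosets** -/
theorem exists_orbit_map :
    ∃ Φ : CoxPresented α edges extra ⧸ ((Subgroup.closure S).map
        (PresentedGroup.mk (coxRelators edges ∪ {r | r ∈ extra}))) → Fin D.T.n,
      Function.Injective Φ ∧ ∀ O : D.Orb, ∃ q,
        Φ '' (MulAction.orbit ((Subgroup.closure S).map
          (PresentedGroup.mk (coxRelators edges ∪ {r | r ∈ extra}))) q) =
            {b : Fin D.T.n | O.B.testBit b.val = true} := by
  obtain ⟨Φ, hinj, hΦ⟩ := D.cert.exists_orbit_map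
  exact ⟨Φ, hinj, fun O => hΦ O.cert⟩

theorem Orb.root_mem {D : CoxData edges extra S} (O : D.Orb) : O.B.testBit O.a = true :=
  O.cert.root_mem

end CoxData

end

end Cfsg.Agent.Lib.Helper6.TC
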