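import Cfsg.Agent.Lib.Helper6.Fi22BTCData
import Cfsg.Agent.Lib.Helper6.TCInst
import Cfsg.Prelude.Def_Spor_Fi22
import Cfsg.Agent.Lib.Helper6.Fi22BTCRel0
import Cfsg.Agent.Lib.Helper6.Fi22BTCRel1

/-! # Fi22B: the kernel checks of the words, the coset table and the orbits -/

set_option autoImplicit false

namespace Cfsg.Agent.Lib.Helper6.Fi22BTC

open Cfsg.Agent.Lib.Helper6.TC Cfsg.Spor

/-- the generator with a given code -/
def gen : ℕ → Fi22.Gen
  | 0 => .a
  | 1 => .b
  | 2 => .c
  | 3 => .d
  | 4 => .e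
  | 5 => .f
  | 6 => .g
  | 7 => .h
  | _ => .i

/-- the code of a generator -/
def code : Fi22.Gen → ℕ
  | .a => 0
  | .b => 1
  | .c => 2
  | .d => 3
  | .e => 4
  | .f => 5
  | .g => 6
  | .h => 7
  | .i => 8

theorem chk_words : wordsSrcOK cfg (coxWordsL Fi22.edges gen cfg.g ++ extraWords) nw srcs = true := by
  decide +kernel

theorem chk_tab : tab.tabOK = true := by decide +kernel

theorem extraWords_eq : (extraPow.map fun p => (List.replicate p.2 p.1).flatten) = extraWords := by
  decide +kernel

theorem pows_eq : coxPairs Fi22.edges gen tab.g ++ extraPow = pows0 ++ pows1 := by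
  decide +kernel

theorem chk_pows : tab.powsOK (coxPairs Fi22.edges gen tab.g ++ extraPow) = true := by
  rw [pows_eq]
  simp only [Tab.powsOK_append, Bool.and_eq_true]
  exact ⟨chk_pows0, chk_pows1⟩

theorem chk_rels : tab.relsOK (coxWordsL Fi22.edges gen cfg.g ++ extraWords) = true := by
  rw [← extraWords_eq]
  exact Tab.relsOK_of_powsOK chk_tab Fi22.edges gen extraPow chk_pows

theorem chk_tree : tab.treeOK = true := by decide +kernel

theorem chk_sub : subOK cfg tab subW = true := by decide +kernel

end Cfsg.Agent.Lib.Helper6.Fi22BTC
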