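import Cfsg.Agent.Lib.Helper6.SimpUB
import Cfsg.Prelude.Def_Spor_Fi22

/-! # Sub-presentations of the presented Fischer group Fi22 -/

set_option autoImplicit false
set_option linter.unusedSimpArgs false

namespace Cfsg.Agent.Lib.Helper6.Fi22Sub

open Cfsg.Spor Cfsg.Agent.Lib.Helper6.Simp

namespace Q8

/-- the generators b, c, d, e, f, g, h, i -/
inductive Gen
  | b
  | c
  | d
  | e
  | f
  | g
  | h
  | i
  deriving DecidableEq

abbrev b : FreeGroup Gen := FreeGroup.of Gen.b
abbrev c : FreeGroup Gen := FreeGroup.of Gen.c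
abbrev d : FreeGroup Gen := FreeGroup.of Gen.d
abbrev e : FreeGroup Gen := FreeGroup.of Gen.e
abbrev f : FreeGroup Gen := FreeGroup.of Gen.f
abbrev g : FreeGroup Gen := FreeGroup.of Gen.g
abbrev h : FreeGroup Gen := FreeGroup.of Gen.h
abbrev i : FreeGroup Gen := FreeGroup.of Gen.i

/-- the Coxeter graph -/
def edges : List (Gen × ℕ × Gen) :=
  [(.b, 3, .c), (.c, 3, .d), (.d, 3, .e), (.d, 3, .h), (.e, 3, .f), (.f, 3, .g), (.h, 3, .i)]

/-- the further relators -/
def extra : List (FreeGroup Gen) := [  (d * c * b * d * e * f * d * h * i) ^ 10,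
  (b * c * d * e * f * g * h) ^ 9]

/-- the inclusion of the generators -/
def ι : Gen → Fi22.Gen
  | .b => .b
  | .c => .c
  | .d => .d
  | .e => .e
  | .f => .f
  | .g => .g
  | .h => .h
  | .i => .i

end Q8

/-- the group of the sub-presentation on b, c, d, e, f, g, h, i -/
abbrev Q8 : Type := CoxPresented Q8.Gen Q8.edges Q8.extra

namespace Q7

/-- the generators b, c, d, e, f, h, i -/
inductive Gen
  | b
  | c
  | d
  | e
  | f
  | h
  | i
  deriving DecidableEq

abbrev b : FreeGroup Gen := FreeGroup.of Gen.b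
abbrev c : FreeGroup Gen := FreeGroup.of Gen.c
abbrev d : FreeGroup Gen := FreeGroup.of Gen.d
abbrev e : FreeGroup Gen := FreeGroup.of Gen.e
abbrev f : FreeGroup Gen := FreeGroup.of Gen.f
abbrev h : FreeGroup Gen := FreeGroup.of Gen.h
abbrev i : FreeGroup Gen := FreeGroup.of Gen.i

/-- the Coxeter graph -/
def edges : List (Gen × ℕ × Gen) :=
  [(.b, 3, .c), (.c, 3, .d), (.d, 3, .e), (.d, 3, .h), (.e, 3, .f), (.h, 3, .i)]

/-- the further relators -/
def extra : List (FreeGroup Gen) := [  (d * c * b * d * e * f * d * h * i) ^ 10]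

/-- the inclusion of the generators -/
def ι : Gen → Q8.Gen
  | .b => .b
  | .c => .c
  | .d => .d
  | .e => .e
  | .f => .f
  | .h => .h
  | .i => .i

end Q7

/-- the group of the sub-presentation on b, c, d, e, f, h, i -/
abbrev Q7 : Type := CoxPresented Q7.Gen Q7.edges Q7.extra

namespace Q6

/-- the generators b, c, d, e, f, h -/
inductive Gen
  | b
  | c
  | d
  | e
  | f
  | h
  deriving DecidableEq

abbrev b : FreeGroup Gen := FreeGroup.of Gen.b
abbrev c : FreeGroup Gen := FreeGroup.of Gen.c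
abbrev d : FreeGroup Gen := FreeGroup.of Gen.d
abbrev e : FreeGroup Gen := FreeGroup.of Gen.e
abbrev f : FreeGroup Gen := FreeGroup.of Gen.f
abbrev h : FreeGroup Gen := FreeGroup.of Gen.h

/-- the Coxeter graph -/
def edges : List (Gen × ℕ × Gen) :=
  [(.b, 3, .c), (.c, 3, .d), (.d, 3, .e), (.d, 3, .h), (.e, 3, .f)]

/-- the further relators -/
def extra : List (FreeGroup Gen) := []

/-- the inclusion of the generators -/
def ι : Gen → Q7.Gen
  | .b => .b
  | .c => .c
  | .d => .d
  | .e => .e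
  | .f => .f
  | .h => .h

end Q6

/-- the group of the sub-presentation on b, c, d, e, f, h -/
abbrev Q6 : Type := CoxPresented Q6.Gen Q6.edges Q6.extra

namespace Q5

/-- the generators b, c, d, e, h -/
inductive Gen
  | b
  | c
  | d
  | e
  | h
  deriving DecidableEq

abbrev b : FreeGroup Gen := FreeGroup.of Gen.b
abbrev c : FreeGroup Gen := FreeGroup.of Gen.c
abbrev d : FreeGroup Gen := FreeGroup.of Gen.d
abbrev e : FreeGroup Gen := FreeGroup.of Gen.e
abbrev h : FreeGroup Gen := FreeGroup.of Gen.h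

/-- the Coxeter graph -/
def edges : List (Gen × ℕ × Gen) :=
  [(.b, 3, .c), (.c, 3, .d), (.d, 3, .e), (.d, 3, .h)]

/-- the further relators -/
def extra : List (FreeGroup Gen) := []

/-- the inclusion of the generators -/
def ι : Gen → Q6.Gen
  | .b => .b
  | .c => .c
  | .d => .d
  | .e => .e
  | .h => .h

end Q5

/-- the group of the sub-presentation on b, c, d, e, h -/
abbrev Q5 : Type := CoxPresented Q5.Gen Q5.edges Q5.extra

namespace Q4

/-- the generators b, c, d, e -/
inductive Gen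
  | b
  | c
  | d
  | e
  deriving DecidableEq

abbrev b : FreeGroup Gen := FreeGroup.of Gen.b
abbrev c : FreeGroup Gen := FreeGroup.of Gen.c
abbrev d : FreeGroup Gen := FreeGroup.of Gen.d
abbrev e : FreeGroup Gen := FreeGroup.of Gen.e

/-- the Coxeter graph -/
def edges : List (Gen × ℕ × Gen) :=
  [(.b, 3, .c), (.c, 3, .d), (.d, 3, .e)]

/-- the further relators -/
def extra : List (FreeGroup Gen) := []

/-- the inclusion of the generators -/
def ι : Gen → Q5.Gen
  | .b => .b
  | .c => .c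
  | .d => .d
  | .e => .e

end Q4

/-- the group of the sub-presentation on b, c, d, e -/
abbrev Q4 : Type := CoxPresented Q4.Gen Q4.edges Q4.extra

/-- `Q8` maps to `Fi22` -/
def subQ8 : SubPres Fi22.edges Fi22.extra Q8.edges Q8.extra where
  ι := Q8.ι
  hnode := by decide
  hlabel := by decide
  hextra := by
    intro r hr
    simp only [Q8.extra, List.mem_cons, List.not_mem_nil, or_false] at hr
    rcases hr with rfl | rfl <;>
      simp only [map_mul, map_inv, map_pow, FreeGroup.map.of, Q8.ι, Fi22.extra, List.mem_cons,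
        true_or, or_true]

/-- `Q7` maps to `Q8` -/
def subQ7 : SubPres Q8.edges Q8.extra Q7.edges Q7.extra where
  ι := Q7.ι
  hnode := by decide
  hlabel := by decide
  hextra := by
    intro r hr
    simp only [Q7.extra, List.mem_cons, List.not_mem_nil, or_false] at hr
    rcases hr with rfl
    simp only [map_mul, map_inv, map_pow, FreeGroup.map.of, Q7.ι, Q8.extra, List.mem_cons,
      true_or, or_true]

/-- `Q6` maps to `Q7` -/
def subQ6 : SubPres Q7.edges Q7.extra Q6.edges Q6.extra where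
  ι := Q6.ι
  hnode := by decide
  hlabel := by decide
  hextra := by
    intro r hr
    simp [Q6.extra] at hr

/-- `Q5` maps to `Q6` -/
def subQ5 : SubPres Q6.edges Q6.extra Q5.edges Q5.extra where
  ι := Q5.ι
  hnode := by decide
  hlabel := by decide
  hextra := by
    intro r hr
    simp [Q5.extra] at hr

/-- `Q4` maps to `Q5` -/
def subQ4 : SubPres Q5.edges Q5.extra Q4.edges Q4.extra where
  ι := Q4.ι
  hnode := by decide
  hlabel := by decide
  hextra := by
    intro r hr
    simp [Q4.extra] at hr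

theorem rangeQ8 : (Set.range fun y => FreeGroup.of (subQ8.ι y)) =
    ({Fi22.b, Fi22.c, Fi22.d, Fi22.e, Fi22.f, Fi22.g, Fi22.h, Fi22.i} : Set (FreeGroup Fi22.Gen)) := by
  ext z
  constructor
  · rintro ⟨y, rfl⟩
    cases y <;> simp [subQ8, Q8.ι]
  · intro hz
    simp only [Set.mem_insert_iff, Set.mem_singleton_iff] at hz
    rcases hz with rfl | rfl | rfl | rfl | rfl | rfl | rfl | rfl
    · exact ⟨.b, rfl⟩
    · exact ⟨.c, rfl⟩
    · exact ⟨.d, rfl⟩
    · exact ⟨.e, rfl⟩
    · exact ⟨.f, rfl⟩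
    · exact ⟨.g, rfl⟩
    · exact ⟨.h, rfl⟩
    · exact ⟨.i, rfl⟩

theorem rangeQ7 : (Set.range fun y => FreeGroup.of (subQ7.ι y)) =
    ({Q8.b, Q8.c, Q8.d, Q8.e, Q8.f, Q8.h, Q8.i} : Set (FreeGroup Q8.Gen)) := by
  ext z
  constructor
  · rintro ⟨y, rfl⟩
    cases y <;> simp [subQ7, Q7.ι]
  · intro hz
    simp only [Set.mem_insert_iff, Set.mem_singleton_iff] at hz
    rcases hz with rfl | rfl | rfl | rfl | rfl | rfl | rfl
    · exact ⟨.b, rfl⟩
    · exact ⟨.c, rfl⟩
    · exact ⟨.d, rfl⟩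
    · exact ⟨.e, rfl⟩
    · exact ⟨.f, rfl⟩
    · exact ⟨.h, rfl⟩
    · exact ⟨.i, rfl⟩

theorem rangeQ6 : (Set.range fun y => FreeGroup.of (subQ6.ι y)) =
    ({Q7.b, Q7.c, Q7.d, Q7.e, Q7.f, Q7.h} : Set (FreeGroup Q7.Gen)) := by
  ext z
  constructor
  · rintro ⟨y, rfl⟩
    cases y <;> simp [subQ6, Q6.ι]
  · intro hz
    simp only [Set.mem_insert_iff, Set.mem_singleton_iff] at hz
    rcases hz with rfl | rfl | rfl | rfl | rfl | rfl
    · exact ⟨.b, rfl⟩
    · exact ⟨.c, rfl⟩
    · exact ⟨.d, rfl⟩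
    · exact ⟨.e, rfl⟩
    · exact ⟨.f, rfl⟩
    · exact ⟨.h, rfl⟩

theorem rangeQ5 : (Set.range fun y => FreeGroup.of (subQ5.ι y)) =
    ({Q6.b, Q6.c, Q6.d, Q6.e, Q6.h} : Set (FreeGroup Q6.Gen)) := by
  ext z
  constructor
  · rintro ⟨y, rfl⟩
    cases y <;> simp [subQ5, Q5.ι]
  · intro hz
    simp only [Set.mem_insert_iff, Set.mem_singleton_iff] at hz
    rcases hz with rfl | rfl | rfl | rfl | rfl
    · exact ⟨.b, rfl⟩
    · exact ⟨.c, rfl⟩
    · exact ⟨.d, rfl⟩
    · exact ⟨.e, rfl⟩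
    · exact ⟨.h, rfl⟩

theorem rangeQ4 : (Set.range fun y => FreeGroup.of (subQ4.ι y)) =
    ({Q5.b, Q5.c, Q5.d, Q5.e} : Set (FreeGroup Q5.Gen)) := by
  ext z
  constructor
  · rintro ⟨y, rfl⟩
    cases y <;> simp [subQ4, Q4.ι]
  · intro hz
    simp only [Set.mem_insert_iff, Set.mem_singleton_iff] at hz
    rcases hz with rfl | rfl | rfl | rfl
    · exact ⟨.b, rfl⟩
    · exact ⟨.c, rfl⟩
    · exact ⟨.d, rfl⟩
    · exact ⟨.e, rfl⟩

end Cfsg.Agent.Lib.Helper6.Fi22Sub
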