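import Cfsg.Agent.Lib.Helper6.Fi22Q8TCData
import Cfsg.Agent.Lib.Helper6.TCInst
import Cfsg.Agent.Lib.Helper6.Fi22Sub

/-! # Fi22Q8: the kernel checks of the words, the coset table and the orbits -/

set_option autoImplicit false

namespace Cfsg.Agent.Lib.Helper6.Fi22Q8TC

open Cfsg.Agent.Lib.Helper6.TC Cfsg.Spor Cfsg.Agent.Lib.Helper6.Fi22Sub

/-- the generator with a given code -/
def gen : ℕ → Q8.Gen
  | 0 => .b
  | 1 => .c
  | 2 => .d
  | 3 => .e
  | 4 => .f
  | 5 => .g
  | 6 => .h
  | _ => .i

/-- the code of a generator -/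
def code : Q8.Gen → ℕ
  | .b => 0
  | .c => 1
  | .d => 2
  | .e => 3
  | .f => 4
  | .g => 5
  | .h => 6
  | .i => 7

theorem chk_words : wordsSrcOK cfg (coxWordsL Q8.edges gen cfg.g ++ extraWords) nw srcs = true := by
  decide +kernel

theorem chk_tab : tab.tabOK = true := by decide +kernel

theorem chk_rels : tab.relsOK (coxWordsL Q8.edges gen cfg.g ++ extraWords) = true := by
  decide +kernel

theorem chk_tree : tab.treeOK = true := by decide +kernel

theorem chk_sub : subOK cfg tab subW = true := by decide +kernel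


end Cfsg.Agent.Lib.Helper6.Fi22Q8TC
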