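import Cfsg.Agent.Lib.Helper6.Fi22Simp
import Cfsg.Agent.Lib.Helper6.Fi22TC
import Cfsg.Agent.Lib.Helper6.Fi22BTC
import Cfsg.Agent.Lib.Helper6.Fi22Q8TC
import Cfsg.Agent.Lib.Helper6.Fi22Q7TC
import Cfsg.Agent.Lib.Helper6.Fi22Q6TC
import Cfsg.Agent.Lib.Helper6.Fi22Q5TC
import Cfsg.Agent.Lib.Helper6.Fi22Q4TC

/-! # The presented Fischer group Fi22 is simple of order 64561751654400 -/

set_option autoImplicit false

namespace Cfsg.Agent.Lib.Helper6.Fi22Simple

open Cfsg.Spor Cfsg.Agent.Lib.Helper6.Simp Cfsg.Agent.Lib.Helper6.Fi22Sub Cfsg.Agent.Lib.Helper6.TC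
  Cfsg.Agent.Lib.Helper6.NatArr 

/-- the upper bound for the order, along the chain of sub-presentations -/
theorem ub : Finite Fi22 ∧ Nat.card Fi22 ≤ 64561751654400 := by
  have h5 := finite_card_of_index_empty Fi22Q4TC.main (by norm_num)
  have h4 := subQ4.finite_card_le Fi22Q5TC.S rangeQ4.symm Fi22Q5TC.main (by norm_num) h5.1
    (le_of_eq h5.2)
  have h3 := subQ5.finite_card_le Fi22Q6TC.S rangeQ5.symm Fi22Q6TC.main (by norm_num) h4.1
    h4.2
  have h2 := subQ6.finite_card_le Fi22Q7TC.S rangeQ6.symm Fi22Q7TC.main (by norm_num) h3.1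
    h3.2
  have h1 := subQ7.finite_card_le Fi22Q8TC.S rangeQ7.symm Fi22Q8TC.main (by norm_num) h2.1
    h2.2
  have h0 := subQ8.finite_card_le Fi22BTC.S rangeQ8.symm Fi22BTC.main (by norm_num) h1.1
    h1.2
  exact ⟨h0.1, h0.2.trans (by norm_num)⟩

theorem chk_cover : allBelow 3510 (fun b => Nat.beq b 0 ||
    (btest Fi22TC.orbB1 b || btest Fi22TC.orbB2 b)) = true := by decide +kernel

theorem chk_disj0_1 : Nat.land Fi22TC.orbB1 Fi22TC.orbB2 = 0 := by decide +kernel

theorem chk_disj1_0 : Nat.land Fi22TC.orbB2 Fi22TC.orbB1 = 0 := by decide +kernel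

theorem chk_o0 : Fi22TC.orbB1.testBit 0 = false := by decide +kernel

theorem chk_o1 : Fi22TC.orbB2.testBit 0 = false := by decide +kernel

/-- **The presented Fischer group Fi22 is simple of order 64561751654400** -/
theorem main : IsSimpleGroup Fi22 ∧ Nat.card Fi22 = 64561751654400 := by
  refine simple_card Fi22TC.data ub Fi22Simp.levels Fi22Simp.chain_ok Fi22Simp.chain_prod
    (r := 2) ![Fi22TC.orb1, Fi22TC.orb2] ![2816, 693] ?_ ?_ ?_ ?_ ?_ 13 ?_ Fi22Simp.us
    Fi22Simp.chk_pow ?_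
  · intro i
    fin_cases i
    · exact Fi22TC.chk_cnt1
    · exact Fi22TC.chk_cnt2
  · intro b hb
    have h := allBelow_spec _ _ chk_cover b hb
    simp only [Bool.or_eq_true, btest_eq] at h
    rcases h with h | h | h
    · exact Or.inl (Nat.eq_of_beq_eq_true h)
    · exact Or.inr ⟨0, h⟩
    · exact Or.inr ⟨1, h⟩
  · intro i j hij
    fin_cases i <;> fin_cases j
    · exact absurd rfl hij
    · exact chk_disj0_1
    · exact chk_disj1_0
    · exact absurd rfl hij
  · intro i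
    fin_cases i
    · exact chk_o0
    · exact chk_o1
  · show ∀ I : Finset (Fin 2), I.Nonempty → (1 + ∑ i ∈ I, ![2816, 693] i) ∣ 3510 →
      1 + ∑ i ∈ I, ![2816, 693] i = 3510
    decide
  · show (64561751654400 / 3510).Coprime 13
    norm_num
  · show 1 < 3510
    norm_num

end Cfsg.Agent.Lib.Helper6.Fi22Simple
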