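import Cfsg.Agent.Lib.Helper6.TCCheck

/-! # Arrays of numbers kept in trees, for the kernel: an entry is read in a few steps, and the
numbers that the kernel has to handle stay small -/

set_option autoImplicit false

namespace Cfsg.Agent.Lib.Helper6.TC

open Cfsg.Agent.Lib.Helper6.NatArr

/-- a tree of numbers; each number at a leaf holds 1024 entries of an array -/
inductive BT where
  | leaf : ℕ → BT
  | node : BT → BT → BT

/-- the leaf reached by the path given by the binary digits of `p`, the lowest first -/
noncomputable def BT.get : BT → ℕ → ℕ := fun t =>
  BT.rec (motive := fun _ => ℕ → ℕ) (fun v _ => v)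
    (fun _ _ ihl ihr p =>
      Nat.rec (motive := fun _ => ℕ) (ihl (Nat.shiftRight p 1))
        (fun _ _ => ihr (Nat.shiftRight p 1)) (Nat.land p 1)) t

/-- the entry number `i` of an array of entries of width `w` that is kept in a tree -/
noncomputable def BT.entry (t : BT) (w i : ℕ) : ℕ :=
  force i fun i' => aget w (t.get (Nat.shiftRight i' 10)) (Nat.land i' 1023)

end Cfsg.Agent.Lib.Helper6.TC
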