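import Cfsg.Agent.Lib.Helper6.TCCox
import Cfsg.Agent.Lib.Helper6.BTree

/-! # A static checker for coset enumerations: the table with a proof for every entry

All the entries that a coset enumeration ever writes into its table (rows are never reused,
entries never overwritten) are kept in one array, each with the time at which it was written and
the reason for it: the definition of a row, the entry of the same generator in the other
direction, a relator or a subgroup word scanned from some row that closes up to this entry, or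
the transfer of an entry of a row that was found to be equal to a smaller row.  A reason may only
use entries written before.  Nothing is ever changed, so every entry can be checked by itself. -/

set_option autoImplicit false

namespace Cfsg.Agent.Lib.Helper6.TCS

open Cfsg.Agent.Lib.Helper6.NatArr Cfsg.Agent.Lib.Helper6.TC

/-- the data: the words (as for the replaying checker, `c.w` is the width of a row number plus
one), the width of the times, the number of rows, the table and the merge map (entries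
`value + 2 ^ c.w * time`), the reasons for them, and the definitions of the rows
(`16 * row + generator`) -/
structure SCert where
  c : Cfg
  tb : ℕ
  N : ℕ
  E : BT
  M : BT
  J : BT
  JM : BT
  P : BT

namespace SCert

variable (Z : SCert)

/-- the width of an entry -/
def W : ℕ := Nat.add Z.c.w Z.tb

/-- the place of the entry of row `a` and generator `x` -/
def slotS (a x : ℕ) : ℕ := Nat.add (Nat.mul a Z.c.g) x

/-- the entry of the table at a place -/
noncomputable def eget (i : ℕ) : ℕ := Z.E.entry Z.W i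

/-- the entry of the merge map for a row -/
noncomputable def mget (b : ℕ) : ℕ := Z.M.entry Z.W b

/-- the reason for the entry of the table at a place -/
noncomputable def jget (i : ℕ) : ℕ := Z.J.entry (Nat.add 21 Z.c.w) i

/-- the reason for the entry of the merge map for a row -/
noncomputable def jmget (b : ℕ) : ℕ := Z.JM.entry (Nat.add 21 Z.c.w) b

/-- the definition of a row -/
noncomputable def pget (r : ℕ) : ℕ := Z.P.entry (Nat.add Z.c.w 4) r

/-- the value of an entry -/
def valOf (e : ℕ) : ℕ := Nat.land e (Nat.pred (Nat.shiftLeft 1 Z.c.w))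

/-- the time of an entry -/
def timeOf (e : ℕ) : ℕ := Nat.shiftRight e Z.c.w

/-- an entry as seen at time `t` -/
def filt (t e : ℕ) : ℕ := bif Nat.blt (Z.timeOf e) t then Z.valOf e else 0

/-- the table at time `t` -/
noncomputable def rd (t a x : ℕ) : ℕ :=
  bif Nat.blt a Z.N then force (Z.eget (Z.slotS a x)) fun e => Z.filt t e else 0

/-- the merge map at time `t` -/
noncomputable def rm (t b : ℕ) : ℕ :=
  bif Nat.blt b Z.N then force (Z.mget b) fun e => Z.filt t e else 0

/-- follow the merge map -/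
noncomputable def find (t : ℕ) : ℕ → ℕ → ℕ
  | 0, b => b
  | f + 1, b => force (Z.rm t b) fun e => bif Nat.beq e 0 then b else find t f (Nat.pred e)

/-- trace `n` letters of a packed word from place `i` on; `none` if an entry is missing -/
noncomputable def scanF (t wd : ℕ) : ℕ → ℕ → ℕ → Option ℕ
  | 0, _, cur => some cur
  | n + 1, i, cur => force (Z.rd t cur (letter wd i)) fun e =>
      bif Nat.beq e 0 then none
      else force (Z.find t Z.c.fuel (Nat.pred e)) fun nxt => scanF t wd n (Nat.succ i) nxt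

/-- trace `n` letters of a packed word backwards, from place `i - 1` down -/
noncomputable def scanB (t wd : ℕ) : ℕ → ℕ → ℕ → Option ℕ
  | 0, _, cur => some cur
  | n + 1, i, cur => force (Z.rd t cur (letter wd (Nat.pred i))) fun e =>
      bif Nat.beq e 0 then none
      else force (Z.find t Z.c.fuel (Nat.pred e)) fun nxt => scanB t wd n (Nat.pred i) nxt

/-- the entry `(f, x) ↦ b` follows at time `t` from the word `k` scanned from row `a0` with a
gap at place `p` -/
noncomputable def dedOK (t f x b a0 k p : ℕ) : Bool :=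
  force (wordAt Z.c k) fun wd =>
  (Nat.ble Z.c.nsub k || Nat.beq a0 0) && (Nat.blt p (wlen wd) && (Nat.beq (letter wd p) x &&
  ((match Z.scanF t wd p 0 a0 with
    | none => false
    | some f' => Nat.beq f' f) &&
   (match Z.scanB t wd (Nat.sub (wlen wd) (Nat.succ p)) (wlen wd) a0 with
    | none => false
    | some b' => Nat.beq b' b))))

/-- the entry `(a, x) ↦ r` is, at time `t`, the entry of the row `v` that was merged into `a` -/
noncomputable def moveOK (t a x r v : ℕ) : Bool :=
  Nat.beq (Z.find t Z.c.fuel v) a &&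
  (force (Z.rd t v x) fun y => !Nat.beq y 0 && Nat.beq (Z.find t Z.c.fuel (Nat.pred y)) r)

/-- the fields of a reason -/
def fA (j : ℕ) : ℕ := Nat.div j 2097152
def fB (j : ℕ) : ℕ := Nat.mod (Nat.div j 512) 4096
def fC (j : ℕ) : ℕ := Nat.mod (Nat.div j 4) 128

/-- check the entry of row `a` and generator `x` -/
noncomputable def slotOK (a x : ℕ) : Bool :=
  force (Z.eget (Z.slotS a x)) fun e =>
  force (Z.valOf e) fun v =>
  bif Nat.beq v 0 then true else
  force (Z.timeOf e) fun t =>
  force (Nat.pred v) fun r =>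
  force (Z.jget (Z.slotS a x)) fun j =>
  force (Nat.mod j 4) fun kind =>
  bif Nat.beq kind 0 then
    Nat.blt a r && (Nat.blt x 16 &&
      Nat.beq (Z.pget r) (Nat.add (Nat.mul a 16) x))
  else bif Nat.beq kind 1 then
    force (Z.eget (Z.slotS r x)) fun e' =>
      Nat.blt r Z.N && (Nat.beq (Z.valOf e') (Nat.succ a) && Nat.blt (Z.timeOf e') t)
  else bif Nat.beq kind 2 then Z.dedOK t a x r (fA j) (fB j) (fC j)
  else Z.moveOK t a x r (fA j)

/-- two pairs with the same members -/
def pairEq (p q hi lo : ℕ) : Bool :=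
  (Nat.beq p hi && Nat.beq q lo) || (Nat.beq p lo && Nat.beq q hi)

/-- the rows `hi` and `lo` are the two ends of the word `k` scanned from row `a0`, forwards up to
place `p` and backwards from the end -/
noncomputable def coinOK (t hi lo a0 k p : ℕ) : Bool :=
  force (wordAt Z.c k) fun wd =>
  (Nat.ble Z.c.nsub k || Nat.beq a0 0) && (Nat.ble p (wlen wd) &&
  (match Z.scanF t wd p 0 a0 with
    | none => false
    | some f =>
      match Z.scanB t wd (Nat.sub (wlen wd) p) (wlen wd) a0 with
      | none => false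
      | some b => pairEq f b hi lo))

/-- the word `k` scanned from row `a0` with a gap at place `p`, where there is an entry already -/
noncomputable def dedCoinOK (t hi lo a0 k p : ℕ) : Bool :=
  force (wordAt Z.c k) fun wd =>
  (Nat.ble Z.c.nsub k || Nat.beq a0 0) && (Nat.blt p (wlen wd) &&
  (Nat.blt (letter wd p) Z.c.g &&
  (match Z.scanF t wd p 0 a0 with
    | none => false
    | some f =>
      match Z.scanB t wd (Nat.sub (wlen wd) (Nat.succ p)) (wlen wd) a0 with
      | none => false
      | some b =>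
        force (Z.rd t f (letter wd p)) fun e =>
          !Nat.beq e 0 && pairEq (Z.find t Z.c.fuel (Nat.pred e)) b hi lo)))

/-- the entry of generator `x` of the merged row `v` against the entry of the row it was merged
into -/
noncomputable def moveCoinOK (t hi lo v x : ℕ) : Bool :=
  Nat.blt x Z.c.g &&
  (force (Z.find t Z.c.fuel v) fun r0 =>
   force (Z.rd t v x) fun y => !Nat.beq y 0 &&
   (force (Z.find t Z.c.fuel (Nat.pred y)) fun r =>
    force (Z.rd t r0 x) fun e =>
      !Nat.beq e 0 && pairEq r (Z.find t Z.c.fuel (Nat.pred e)) hi lo))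

/-- check the entry of row `b` in the merge map -/
noncomputable def mslotOK (b : ℕ) : Bool :=
  force (Z.mget b) fun e =>
  force (Z.valOf e) fun v =>
  bif Nat.beq v 0 then true else
  force (Z.timeOf e) fun t =>
  force (Nat.pred v) fun lo =>
  force (Z.jmget b) fun j =>
  force (Nat.mod j 4) fun kind =>
  bif Nat.beq kind 0 then Z.coinOK t b lo (fA j) (fB j) (fC j)
  else bif Nat.beq kind 1 then Z.dedCoinOK t b lo (fA j) (fB j) (fC j)
  else Z.moveCoinOK t b lo (fA j) (fB j)

/-- the rows from `lo` on, `len` of them, are checked -/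
noncomputable def rowsOK (lo len : ℕ) : Bool :=
  allBelow len fun i => allBelow Z.c.g fun x => Z.slotOK (Nat.add lo i) x

/-- the entries of the merge map from `lo` on, `len` of them, are checked -/
noncomputable def mrowsOK (lo len : ℕ) : Bool := allBelow len fun i => Z.mslotOK (Nat.add lo i)

/-- the first `n` rows are complete and closed -/
noncomputable def finalOK (n : ℕ) : Bool :=
  allBelow n fun a => allBelow Z.c.g fun x =>
    force (Z.rd (Nat.pow 2 Z.W) a x) fun e =>
      !Nat.beq e 0 && Nat.blt (Z.find (Nat.pow 2 Z.W) Z.c.fuel (Nat.pred e)) n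

/-! ### soundness -/

section

variable {G : Type*} [Group G] (γ : ℕ → G) (H : Subgroup G)

/-- the row from which a row is defined -/
noncomputable def parOf (r : ℕ) : ℕ := Nat.div (Z.pget r) 16

/-- the generator with which a row is defined -/
noncomputable def pgenOf (r : ℕ) : ℕ := Nat.mod (Z.pget r) 16

/-- the element of the group that belongs to a row -/
noncomputable def τ (r : ℕ) : G :=
  if h : Z.parOf r < r then τ (Z.parOf r) * γ (Z.pgenOf r) else 1
termination_by r
decreasing_by exact h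

theorem τ_zero : Z.τ γ 0 = 1 := by
  rw [τ]
  simp

theorem τ_def {a x r : ℕ} (har : a < r) (hx : x < 16)
    (hP : Z.pget r = a * 16 + x) : Z.τ γ r = Z.τ γ a * γ x := by
  have h1 : Z.parOf r = a := by
    unfold parOf
    rw [hP]
    show (a * 16 + x) / 16 = a
    omega
  have h2 : Z.pgenOf r = x := by
    unfold pgenOf
    rw [hP]
    show (a * 16 + x) % 16 = x
    omega
  rw [τ, dif_pos (by rw [h1]; exact har), h1, h2]

/-- all that the table and the merge map say at time `t` is true -/
def Good (t : ℕ) : Prop :=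
  (∀ a x r, x < Z.c.g → Z.rd t a x = r + 1 → R H (Z.τ γ a * γ x) (Z.τ γ r)) ∧
  (∀ b lo, Z.rm t b = lo + 1 → R H (Z.τ γ b) (Z.τ γ lo))

variable {Z γ H}

theorem find_spec {t : ℕ} (hG : Z.Good γ H t) : ∀ (fuel b : ℕ),
    R H (Z.τ γ b) (Z.τ γ (Z.find t fuel b))
  | 0, b => R.refl _
  | fuel + 1, b => by
    unfold find
    rw [force_eq]
    cases he : Z.rm t b with
    | zero => exact R.refl _
    | succ a =>
      simp only [Nat.beq, cond_false, Nat.pred_succ]
      exact (hG.2 b a he).trans (find_spec hG fuel a)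

theorem scanF_spec {t : ℕ} (hG : Z.Good γ H t) (wd : ℕ) : ∀ (n i cur r : ℕ),
    (∀ j, i ≤ j → j < i + n → letter wd j < Z.c.g) →
    Z.scanF t wd n i cur = some r → R H (Z.τ γ cur * ev γ wd i n) (Z.τ γ r)
  | 0, i, cur, r, _, h => by
    simp only [scanF, Option.some.injEq] at h
    subst h
    simpa [ev] using R.refl (H := H) (Z.τ γ cur)
  | n + 1, i, cur, r, hl, h => by
    unfold scanF at h
    rw [force_eq] at h
    cases he : Z.rd t cur (letter wd i) with
    | zero => rw [he] at h; simp at h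
    | succ e =>
      rw [he] at h
      simp only [Nat.beq, cond_false, force_eq, Nat.pred_succ] at h
      have hlt : letter wd i < Z.c.g := hl i le_rfl (by omega)
      have hR1 := hG.1 cur (letter wd i) e hlt he
      have hR2 := find_spec hG Z.c.fuel e
      have hR3 := scanF_spec hG wd n (Nat.succ i) _ r
        (fun j h1 h2 => hl j (by omega) (by omega)) h
      rw [ev, ← mul_assoc]
      exact ((hR1.trans hR2).mul_right _).trans hR3

theorem scanB_spec (hinv : ∀ x, γ x * γ x = 1) {t : ℕ} (hG : Z.Good γ H t)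
    (wd : ℕ) : ∀ (n i cur r : ℕ), n ≤ i →
    (∀ j, i - n ≤ j → j < i → letter wd j < Z.c.g) →
    Z.scanB t wd n i cur = some r → R H (Z.τ γ cur * (ev γ wd (i - n) n)⁻¹) (Z.τ γ r)
  | 0, i, cur, r, _, _, h => by
    simp only [scanB, Option.some.injEq] at h
    subst h
    simpa [ev] using R.refl (H := H) (Z.τ γ cur)
  | n + 1, i, cur, r, hni, hl, h => by
    unfold scanB at h
    rw [force_eq] at h
    cases he : Z.rd t cur (letter wd (Nat.pred i)) with
    | zero => rw [he] at h; simp at h
    | succ e =>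
      rw [he] at h
      simp only [Nat.beq, cond_false, force_eq, Nat.pred_succ] at h
      have hlt : letter wd (Nat.pred i) < Z.c.g :=
        hl (Nat.pred i) (by simp only [Nat.pred_eq_sub_one]; omega)
          (by simp only [Nat.pred_eq_sub_one]; omega)
      have hR1 := hG.1 cur (letter wd (Nat.pred i)) e hlt he
      have hR2 := find_spec hG Z.c.fuel e
      have hR3 := scanB_spec hinv hG wd n (Nat.pred i) _ r
        (by simp only [Nat.pred_eq_sub_one]; omega)
        (fun j h1 h2 => hl j (by simp only [Nat.pred_eq_sub_one] at h1; omega)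
          (by simp only [Nat.pred_eq_sub_one] at h2; omega)) h
      have e1 : i - (n + 1) = Nat.pred i - n := by simp only [Nat.pred_eq_sub_one]; omega
      have e2 : Nat.pred i - n + n = Nat.pred i := by simp only [Nat.pred_eq_sub_one]; omega
      rw [e1, ev_succ_right, e2, mul_inv_rev]
      have e3 : (γ (letter wd (Nat.pred i)))⁻¹ = γ (letter wd (Nat.pred i)) :=
        inv_eq_of_mul_eq_one_left (hinv _)
      rw [e3, ← mul_assoc]
      exact ((hR1.trans hR2).mul_right _).trans hR3

theorem word_fact (hW : WordsOK Z.c γ H) {a k : ℕ}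
    (h : (Nat.ble Z.c.nsub k || Nat.beq a 0) = true) :
    R H (Z.τ γ a * ev γ (wordAt Z.c k) 0 (wlen (wordAt Z.c k))) (Z.τ γ a) := by
  by_cases hk : Z.c.nsub ≤ k
  · rw [hW.rel k hk, mul_one]
    exact R.refl _
  · have h1 : Nat.ble Z.c.nsub k = false := by
      cases hb : Nat.ble Z.c.nsub k
      · rfl
      · exact absurd (Nat.le_of_ble_eq_true hb) hk
    rw [h1, Bool.false_or] at h
    have ha : a = 0 := Nat.eq_of_beq_eq_true h
    subst ha
    rw [Z.τ_zero γ]
    simpa [R] using hW.sub k (by omega)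

/-- the fact deduced from a word scanned with a gap -/
theorem gap_fact (hinv : ∀ x, γ x * γ x = 1) (hW : WordsOK Z.c γ H) {t : ℕ}
    (hG : Z.Good γ H t) {a k p f b : ℕ}
    (hsub : (Nat.ble Z.c.nsub k || Nat.beq a 0) = true) (hp : p < wlen (wordAt Z.c k))
    (hf : Z.scanF t (wordAt Z.c k) p 0 a = some f)
    (hb : Z.scanB t (wordAt Z.c k) (Nat.sub (wlen (wordAt Z.c k)) (Nat.succ p))
      (wlen (wordAt Z.c k)) a = some b) :
    R H (Z.τ γ f * γ (letter (wordAt Z.c k) p)) (Z.τ γ b) := by
  have hRf := scanF_spec hG (wordAt Z.c k) p 0 a f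
    (fun j _ h2 => hW.lett k j (by omega)) hf
  have hRb := scanB_spec hinv hG (wordAt Z.c k) _ _ a b
    (Nat.sub_le _ _) (fun j _ h2 => hW.lett k j h2) hb
  have hWf := word_fact hW (a := a) (k := k) hsub
  have eL : wlen (wordAt Z.c k) = p + ((wlen (wordAt Z.c k) - (p + 1)) + 1) := by omega
  have e1 : wlen (wordAt Z.c k) - (wlen (wordAt Z.c k) - Nat.succ p) = p + 1 := by omega
  rw [e1] at hRb
  have e2 : wlen (wordAt Z.c k) - Nat.succ p = wlen (wordAt Z.c k) - (p + 1) := rfl
  rw [e2] at hRb
  rw [eL, ev_add, ev, zero_add] at hWf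
  have h1 := (hRf.mul_right (γ (letter (wordAt Z.c k) p))).symm
  have h2 := hWf.mul_right (ev γ (wordAt Z.c k) (p + 1) (wlen (wordAt Z.c k) - (p + 1)))⁻¹
  have e3 : Z.τ γ a * (ev γ (wordAt Z.c k) 0 p * (γ (letter (wordAt Z.c k) p) *
      ev γ (wordAt Z.c k) (p + 1) (wlen (wordAt Z.c k) - (p + 1)))) *
      (ev γ (wordAt Z.c k) (p + 1) (wlen (wordAt Z.c k) - (p + 1)))⁻¹ =
      Z.τ γ a * ev γ (wordAt Z.c k) 0 p * γ (letter (wordAt Z.c k) p) := by
    simp only [mul_assoc, mul_inv_cancel, mul_one]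
  rw [e3] at h2
  exact h1.trans (h2.trans hRb)

/-- the fact deduced from a word scanned without a gap -/
theorem nogap_fact (hinv : ∀ x, γ x * γ x = 1) (hW : WordsOK Z.c γ H) {t : ℕ}
    (hG : Z.Good γ H t) {a k p f b : ℕ}
    (hsub : (Nat.ble Z.c.nsub k || Nat.beq a 0) = true) (hp : p ≤ wlen (wordAt Z.c k))
    (hf : Z.scanF t (wordAt Z.c k) p 0 a = some f)
    (hb : Z.scanB t (wordAt Z.c k) (Nat.sub (wlen (wordAt Z.c k)) p)
      (wlen (wordAt Z.c k)) a = some b) :
    R H (Z.τ γ f) (Z.τ γ b) := by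
  have hRf := scanF_spec hG (wordAt Z.c k) p 0 a f
    (fun j _ h2 => hW.lett k j (by omega)) hf
  have hRb := scanB_spec hinv hG (wordAt Z.c k) _ _ a b
    (Nat.sub_le _ _) (fun j _ h2 => hW.lett k j h2) hb
  have hWf := word_fact hW (a := a) (k := k) hsub
  have eL : wlen (wordAt Z.c k) = p + (wlen (wordAt Z.c k) - p) := by omega
  have e1 : wlen (wordAt Z.c k) - (wlen (wordAt Z.c k) - p) = p := by omega
  rw [e1] at hRb
  rw [eL, ev_add, zero_add] at hWf
  have h2 := hWf.mul_right (ev γ (wordAt Z.c k) p (wlen (wordAt Z.c k) - p))⁻¹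
  have e3 : Z.τ γ a * (ev γ (wordAt Z.c k) 0 p * ev γ (wordAt Z.c k) p
      (wlen (wordAt Z.c k) - p)) *
      (ev γ (wordAt Z.c k) p (wlen (wordAt Z.c k) - p))⁻¹ = Z.τ γ a * ev γ (wordAt Z.c k) 0 p := by
    simp only [mul_assoc, mul_inv_cancel, mul_one]
  rw [e3] at h2
  exact hRf.symm.trans (h2.trans hRb)

theorem dedOK_spec (hinv : ∀ x, γ x * γ x = 1) (hW : WordsOK Z.c γ H) {t : ℕ}
    (hG : Z.Good γ H t) {f x b a0 k p : ℕ} (h : Z.dedOK t f x b a0 k p = true) :
    R H (Z.τ γ f * γ x) (Z.τ γ b) := by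
  unfold dedOK at h
  rw [force_eq] at h
  simp only [Bool.and_eq_true, Nat.blt_eq] at h
  obtain ⟨hsub, hp, hx, hf, hb⟩ := h
  cases hf' : Z.scanF t (wordAt Z.c k) p 0 a0 with
  | none => rw [hf'] at hf; simp at hf
  | some f' =>
    rw [hf'] at hf
    simp only at hf
    cases hb' : Z.scanB t (wordAt Z.c k) (Nat.sub (wlen (wordAt Z.c k)) (Nat.succ p))
        (wlen (wordAt Z.c k)) a0 with
    | none => rw [hb'] at hb; simp at hb
    | some b' =>
      rw [hb'] at hb
      simp only at hb
      have := gap_fact hinv hW hG hsub hp hf' hb'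
      rw [Nat.eq_of_beq_eq_true hf, Nat.eq_of_beq_eq_true hb, Nat.eq_of_beq_eq_true hx] at this
      exact this

theorem moveOK_spec {t : ℕ} (hG : Z.Good γ H t) {a x r v : ℕ} (hx : x < Z.c.g)
    (h : Z.moveOK t a x r v = true) : R H (Z.τ γ a * γ x) (Z.τ γ r) := by
  unfold moveOK at h
  rw [force_eq] at h
  simp only [Bool.and_eq_true, Bool.not_eq_true'] at h
  obtain ⟨h1, h2, h3⟩ := h
  have hRa := find_spec hG Z.c.fuel v
  rw [Nat.eq_of_beq_eq_true h1] at hRa
  cases hy : Z.rd t v x with
  | zero => rw [hy] at h2; simp [Nat.beq] at h2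
  | succ y =>
    rw [hy] at h3
    simp only [Nat.pred_succ] at h3
    have hRy := hG.1 v x y hx hy
    have hRr := find_spec hG Z.c.fuel y
    rw [Nat.eq_of_beq_eq_true h3] at hRr
    exact ((hRa.symm.mul_right (γ x)).trans hRy).trans hRr

theorem filt_succ {t e v : ℕ} (h : Z.filt (t + 1) e = v + 1) :
    Z.filt t e = v + 1 ∨ (Z.timeOf e = t ∧ Z.valOf e = v + 1) := by
  unfold filt at h ⊢
  cases hb : Nat.blt (Z.timeOf e) (t + 1)
  · rw [hb] at h; simp at h
  · rw [hb, cond_true] at h
    have hlt : Z.timeOf e < t + 1 := by simpa [Nat.blt_eq] using hb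
    by_cases h2 : Z.timeOf e < t
    · left
      have : Nat.blt (Z.timeOf e) t = true := by simpa [Nat.blt_eq] using h2
      rw [this, cond_true]
      exact h
    · right
      exact ⟨by omega, h⟩

theorem filt_zero (e : ℕ) : Z.filt 0 e = 0 := by
  unfold filt
  cases h : Nat.blt (Z.timeOf e) 0
  · rfl
  · have : Z.timeOf e < 0 := by simpa [Nat.blt_eq] using h
    exact absurd this (Nat.not_lt_zero _)

theorem filt_of {t e v : ℕ} (h1 : Z.valOf e = v) (h2 : Z.timeOf e < t) : Z.filt t e = v := by
  unfold filt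
  have : Nat.blt (Z.timeOf e) t = true := by simpa [Nat.blt_eq] using h2
  rw [this, cond_true, h1]

theorem rd_eq {t a x v : ℕ} (h : Z.rd t a x = v + 1) :
    a < Z.N ∧ Z.filt t (Z.eget (Z.slotS a x)) = v + 1 := by
  unfold rd at h
  cases hb : Nat.blt a Z.N
  · rw [hb, cond_false] at h; omega
  · rw [hb, cond_true, force_eq] at h
    exact ⟨by simpa [Nat.blt_eq] using hb, h⟩

theorem rd_of {t a x v : ℕ} (ha : a < Z.N) (h : Z.filt t (Z.eget (Z.slotS a x)) = v) :
    Z.rd t a x = v := by
  unfold rd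
  have : Nat.blt a Z.N = true := by simpa [Nat.blt_eq] using ha
  rw [this, cond_true, force_eq]
  exact h

theorem rm_eq {t b v : ℕ} (h : Z.rm t b = v + 1) :
    b < Z.N ∧ Z.filt t (Z.mget b) = v + 1 := by
  unfold rm at h
  cases hb : Nat.blt b Z.N
  · rw [hb, cond_false] at h; omega
  · rw [hb, cond_true, force_eq] at h
    exact ⟨by simpa [Nat.blt_eq] using hb, h⟩

theorem rm_of {t b v : ℕ} (hb : b < Z.N) (h : Z.filt t (Z.mget b) = v) : Z.rm t b = v := by
  unfold rm
  have : Nat.blt b Z.N = true := by simpa [Nat.blt_eq] using hb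
  rw [this, cond_true, force_eq]
  exact h

theorem slotOK_spec (hinv : ∀ x, γ x * γ x = 1) (hW : WordsOK Z.c γ H) {a x r : ℕ}
    (hx : x < Z.c.g) (h : Z.slotOK a x = true)
    (hv : Z.valOf (Z.eget (Z.slotS a x)) = r + 1)
    (hG : Z.Good γ H (Z.timeOf (Z.eget (Z.slotS a x)))) :
    R H (Z.τ γ a * γ x) (Z.τ γ r) := by
  unfold slotOK at h
  simp only [force_eq] at h
  rw [hv] at h
  simp only [Nat.beq, cond_false, Nat.pred_succ] at h
  cases h0 : Nat.beq (Nat.mod (Z.jget (Z.slotS a x)) 4) 0
  · rw [h0, cond_false] at h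
    cases h1 : Nat.beq (Nat.mod (Z.jget (Z.slotS a x)) 4) 1
    · rw [h1, cond_false] at h
      cases h2 : Nat.beq (Nat.mod (Z.jget (Z.slotS a x)) 4) 2
      · rw [h2, cond_false] at h
        exact moveOK_spec hG hx h
      · rw [h2, cond_true] at h
        exact dedOK_spec hinv hW hG h
    · rw [h1, cond_true] at h
      simp only [Bool.and_eq_true, Nat.blt_eq] at h
      obtain ⟨hrN, h3, h4⟩ := h
      have h5 : Z.rd (Z.timeOf (Z.eget (Z.slotS a x))) r x = a + 1 :=
        rd_of hrN (filt_of (Nat.eq_of_beq_eq_true h3) h4)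
      have h6 := hG.1 r x a hx h5
      have := h6.mul_right (γ x)
      rw [mul_assoc, hinv, mul_one] at this
      exact this.symm
  · rw [h0, cond_true] at h
    simp only [Bool.and_eq_true, Nat.blt_eq] at h
    obtain ⟨h3, h4, h5⟩ := h
    rw [Z.τ_def γ h3 h4 (Nat.eq_of_beq_eq_true h5)]
    exact R.refl _

theorem pairEq_spec {p q hi lo : ℕ} (h : pairEq p q hi lo = true) (hR : R H (Z.τ γ p) (Z.τ γ q)) :
    R H (Z.τ γ hi) (Z.τ γ lo) := by
  unfold pairEq at h
  simp only [Bool.or_eq_true, Bool.and_eq_true] at h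
  rcases h with ⟨h1, h2⟩ | ⟨h1, h2⟩
  · rw [Nat.eq_of_beq_eq_true h1, Nat.eq_of_beq_eq_true h2] at hR
    exact hR
  · rw [Nat.eq_of_beq_eq_true h1, Nat.eq_of_beq_eq_true h2] at hR
    exact hR.symm

theorem coinOK_spec (hinv : ∀ x, γ x * γ x = 1) (hW : WordsOK Z.c γ H) {t : ℕ}
    (hG : Z.Good γ H t) {hi lo a0 k p : ℕ} (h : Z.coinOK t hi lo a0 k p = true) :
    R H (Z.τ γ hi) (Z.τ γ lo) := by
  unfold coinOK at h
  rw [force_eq] at h
  simp only [Bool.and_eq_true, Nat.ble_eq] at h
  obtain ⟨hsub, hp, h3⟩ := h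
  cases hf : Z.scanF t (wordAt Z.c k) p 0 a0 with
  | none => rw [hf] at h3; simp at h3
  | some f =>
    rw [hf] at h3
    simp only at h3
    cases hb : Z.scanB t (wordAt Z.c k) (Nat.sub (wlen (wordAt Z.c k)) p)
        (wlen (wordAt Z.c k)) a0 with
    | none => rw [hb] at h3; simp at h3
    | some b =>
      rw [hb] at h3
      simp only at h3
      exact pairEq_spec h3 (nogap_fact hinv hW hG hsub hp hf hb)

theorem dedCoinOK_spec (hinv : ∀ x, γ x * γ x = 1) (hW : WordsOK Z.c γ H) {t : ℕ}
    (hG : Z.Good γ H t) {hi lo a0 k p : ℕ} (h : Z.dedCoinOK t hi lo a0 k p = true) :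
    R H (Z.τ γ hi) (Z.τ γ lo) := by
  unfold dedCoinOK at h
  rw [force_eq] at h
  simp only [Bool.and_eq_true, Nat.blt_eq] at h
  obtain ⟨hsub, hp, hx, h3⟩ := h
  cases hf : Z.scanF t (wordAt Z.c k) p 0 a0 with
  | none => rw [hf] at h3; simp at h3
  | some f =>
    rw [hf] at h3
    simp only at h3
    cases hb : Z.scanB t (wordAt Z.c k) (Nat.sub (wlen (wordAt Z.c k)) (Nat.succ p))
        (wlen (wordAt Z.c k)) a0 with
    | none => rw [hb] at h3; simp at h3
    | some b =>
      rw [hb] at h3
      simp only [force_eq, Bool.and_eq_true, Bool.not_eq_true'] at h3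
      obtain ⟨h4, h5⟩ := h3
      have hkey := gap_fact hinv hW hG hsub hp hf hb
      cases he : Z.rd t f (letter (wordAt Z.c k) p) with
      | zero => rw [he] at h4; simp [Nat.beq] at h4
      | succ e =>
        rw [he] at h5
        simp only [Nat.pred_succ] at h5
        have hRe := hG.1 f _ e hx he
        have hRc := find_spec hG Z.c.fuel e
        exact pairEq_spec h5 (hRc.symm.trans (hRe.symm.trans hkey))

theorem moveCoinOK_spec {t : ℕ} (hG : Z.Good γ H t) {hi lo v x : ℕ}
    (h : Z.moveCoinOK t hi lo v x = true) : R H (Z.τ γ hi) (Z.τ γ lo) := by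
  unfold moveCoinOK at h
  simp only [force_eq, Bool.and_eq_true, Bool.not_eq_true', Nat.blt_eq] at h
  obtain ⟨hx, h2, h3, h4⟩ := h
  have hRa := find_spec hG Z.c.fuel v
  cases hy : Z.rd t v x with
  | zero => rw [hy] at h2; simp [Nat.beq] at h2
  | succ y =>
    rw [hy] at h4
    simp only [Nat.pred_succ] at h4
    have hRy := hG.1 v x y hx hy
    have hRr := find_spec hG Z.c.fuel y
    have hkey : R H (Z.τ γ (Z.find t Z.c.fuel v) * γ x) (Z.τ γ (Z.find t Z.c.fuel y)) :=
      ((hRa.symm.mul_right (γ x)).trans hRy).trans hRr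
    cases he : Z.rd t (Z.find t Z.c.fuel v) x with
    | zero => rw [he] at h3; simp [Nat.beq] at h3
    | succ e =>
      rw [he] at h4
      simp only [Nat.pred_succ] at h4
      have hRe := hG.1 _ x e hx he
      have hRd := find_spec hG Z.c.fuel e
      exact pairEq_spec h4 (hkey.symm.trans (hRe.trans hRd))

theorem mslotOK_spec (hinv : ∀ x, γ x * γ x = 1) (hW : WordsOK Z.c γ H) {b lo : ℕ}
    (h : Z.mslotOK b = true) (hv : Z.valOf (Z.mget b) = lo + 1)
    (hG : Z.Good γ H (Z.timeOf (Z.mget b))) : R H (Z.τ γ b) (Z.τ γ lo) := by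
  unfold mslotOK at h
  simp only [force_eq] at h
  rw [hv] at h
  simp only [Nat.beq, cond_false, Nat.pred_succ] at h
  cases h0 : Nat.beq (Nat.mod (Z.jmget b) 4) 0
  · rw [h0, cond_false] at h
    cases h1 : Nat.beq (Nat.mod (Z.jmget b) 4) 1
    · rw [h1, cond_false] at h
      exact moveCoinOK_spec hG h
    · rw [h1, cond_true] at h
      exact dedCoinOK_spec hinv hW hG h
  · rw [h0, cond_true] at h
    exact coinOK_spec hinv hW hG h

/-- **all the entries are true** -/
theorem good_all (hinv : ∀ x, γ x * γ x = 1) (hW : WordsOK Z.c γ H)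
    (hrows : ∀ a < Z.N, ∀ x < Z.c.g, Z.slotOK a x = true)
    (hmrows : ∀ b < Z.N, Z.mslotOK b = true) : ∀ t, Z.Good γ H t := by
  intro t
  induction t with
  | zero =>
    constructor
    · intro a x r _ h
      have := (rd_eq h).2
      rw [filt_zero] at this
      omega
    · intro b lo h
      have := (rm_eq h).2
      rw [filt_zero] at this
      omega
  | succ t ih =>
    constructor
    · intro a x r hx h
      obtain ⟨ha, h⟩ := rd_eq h
      rcases filt_succ h with h1 | ⟨h1, h2⟩
      · exact ih.1 a x r hx (rd_of ha h1)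
      · exact slotOK_spec hinv hW hx (hrows a ha x hx) h2 (by rw [h1]; exact ih)
    · intro b lo h
      obtain ⟨hb, h⟩ := rm_eq h
      rcases filt_succ h with h1 | ⟨h1, h2⟩
      · exact ih.2 b lo (rm_of hb h1)
      · exact mslotOK_spec hinv hW (hmrows b hb) h2 (by rw [h1]; exact ih)

theorem final_spec (hG : Z.Good γ H (Nat.pow 2 Z.W)) {n : ℕ}
    (h : Z.finalOK n = true) {a x : ℕ} (ha : a < n) (hx : x < Z.c.g) :
    ∃ b, b < n ∧ R H (Z.τ γ a * γ x) (Z.τ γ b) := by
  have h1 := allBelow_spec _ _ (allBelow_spec _ _ h a ha) x hx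
  simp only [force_eq, Bool.and_eq_true, Bool.not_eq_true', Nat.blt_eq] at h1
  obtain ⟨h2, h3⟩ := h1
  cases he : Z.rd (Nat.pow 2 Z.W) a x with
  | zero => rw [he] at h2; simp [Nat.beq] at h2
  | succ e =>
    rw [he] at h3
    simp only [Nat.pred_succ] at h3
    exact ⟨_, h3, (hG.1 a x e hx he).trans (find_spec hG Z.c.fuel e)⟩

end

end SCert

/-- the rows of a table that is closed under the generators cover the group -/
theorem index_le_of_closed {G : Type*} [Group G] {γ : ℕ → G} {H : Subgroup G} {g n : ℕ}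
    (τ : ℕ → G) (hτ : τ 0 = 1) (hn : 0 < n)
    (hcl : ∀ a, a < n → ∀ x, x < g → ∃ b, b < n ∧ R H (τ a * γ x) (τ b))
    (hgen : ∀ z : G, ∃ u : List ℕ, (∀ x ∈ u, x < g) ∧ z = (u.map γ).prod) :
    H.index ≤ n ∧ H.index ≠ 0 := by
  have key : ∀ (u : List ℕ), (∀ x ∈ u, x < g) → ∀ a, a < n →
      ∃ b, b < n ∧ R H (τ a * (u.map γ).prod) (τ b) := by
    intro u
    induction u with
    | nil =>
      intro _ a ha
      exact ⟨a, ha, by simpa using R.refl (H := H) (τ a)⟩
    | cons x u ih =>
      intro hu a ha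
      obtain ⟨b, hb, hRb⟩ := hcl a ha x (hu x (List.mem_cons_self ..))
      obtain ⟨b', hb', hRb'⟩ := ih (fun y hy => hu y (List.mem_cons_of_mem _ hy)) b hb
      refine ⟨b', hb', ?_⟩
      rw [List.map_cons, List.prod_cons, ← mul_assoc]
      exact (hRb.mul_right _).trans hRb'
  let φ : Fin n → G ⧸ H := fun b => QuotientGroup.mk ((τ b.val)⁻¹)
  have hsurj : Function.Surjective φ := by
    intro q
    induction q using QuotientGroup.induction_on with
    | H z =>
      obtain ⟨u, hu, hz⟩ := hgen z⁻¹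
      obtain ⟨b, hb, hRb⟩ := key u hu 0 hn
      refine ⟨⟨b, hb⟩, ?_⟩
      show (QuotientGroup.mk ((τ b)⁻¹) : G ⧸ H) = QuotientGroup.mk z
      rw [QuotientGroup.eq]
      rw [hτ, one_mul, ← hz] at hRb
      have := H.inv_mem hRb
      simpa [R, mul_inv_rev] using this
  have hfin : Finite (G ⧸ H) := Finite.of_surjective φ hsurj
  have hle : Nat.card (G ⧸ H) ≤ Nat.card (Fin n) := Nat.card_le_card_of_surjective φ hsurj
  rw [Nat.card_fin] at hle
  refine ⟨hle, ?_⟩
  show Nat.card (G ⧸ H) ≠ 0
  exact Nat.card_pos.ne'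

/-- **the checked table bounds the index** -/
theorem index_le_of_static {G : Type*} [Group G] {γ : ℕ → G} {H : Subgroup G} (Z : SCert)
    (hinv : ∀ x, γ x * γ x = 1) (hW : WordsOK Z.c γ H)
    (hgen : ∀ z : G, ∃ u : List ℕ, (∀ x ∈ u, x < Z.c.g) ∧ z = (u.map γ).prod)
    (n : ℕ) (hn : 0 < n)
    (hrows : ∀ a < Z.N, ∀ x < Z.c.g, Z.slotOK a x = true)
    (hmrows : ∀ b < Z.N, Z.mslotOK b = true)
    (hfin : Z.finalOK n = true) : H.index ≤ n ∧ H.index ≠ 0 := by
  have hG := SCert.good_all hinv hW hrows hmrows (Nat.pow 2 Z.W)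
  exact index_le_of_closed (Z.τ γ) (Z.τ_zero γ) hn
    (fun a ha x hx => SCert.final_spec hG hfin ha hx) hgen

theorem RunCert.of_static (Z : SCert) (n : ℕ) (hn : 0 < n)
    (hrows : ∀ a < Z.N, ∀ x < Z.c.g, Z.slotOK a x = true)
    (hmrows : ∀ b < Z.N, Z.mslotOK b = true) (hfin : Z.finalOK n = true) : RunCert Z.c n :=
  fun _ _ hinv hW hgen => index_le_of_static Z hinv hW hgen n hn hrows hmrows hfin

/-- the rows are checked in parts of `L` rows -/
theorem SCert.rows_of_chunks (Z : SCert) (L K : ℕ) (hL : 0 < L) (hN : Z.N ≤ K * L)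
    (h : ∀ k < K, Z.rowsOK (Nat.mul k L) L = true) :
    ∀ a < Z.N, ∀ x < Z.c.g, Z.slotOK a x = true := by
  intro a ha x hx
  have hk : a / L < K := by
    apply Nat.div_lt_of_lt_mul
    rw [Nat.mul_comm]
    omega
  have h1 := allBelow_spec _ _ (allBelow_spec _ _ (h (a / L) hk) (a % L) (Nat.mod_lt _ hL)) x hx
  have e : Nat.add (Nat.mul (a / L) L) (a % L) = a := by
    show a / L * L + a % L = a
    rw [Nat.mul_comm]
    exact Nat.div_add_mod a L
  rw [e] at h1
  exact h1

/-- the merge map is checked in parts of `L` rows -/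
theorem SCert.mrows_of_chunks (Z : SCert) (L K : ℕ) (hL : 0 < L) (hN : Z.N ≤ K * L)
    (h : ∀ k < K, Z.mrowsOK (Nat.mul k L) L = true) : ∀ b < Z.N, Z.mslotOK b = true := by
  intro a ha
  have hk : a / L < K := by
    apply Nat.div_lt_of_lt_mul
    rw [Nat.mul_comm]
    omega
  have h1 := allBelow_spec _ _ (h (a / L) hk) (a % L) (Nat.mod_lt _ hL)
  have e : Nat.add (Nat.mul (a / L) L) (a % L) = a := by
    show a / L * L + a % L = a
    rw [Nat.mul_comm]
    exact Nat.div_add_mod a L
  rw [e] at h1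
  exact h1

/-- a range of rows is checked in parts of `L` rows -/
theorem SCert.range_of_chunks (Z : SCert) (lo L F : ℕ) (hL : 0 < L)
    (h : ∀ k < F, Z.rowsOK (Nat.add lo (Nat.mul k L)) L = true) :
    ∀ a, lo ≤ a → a < lo + F * L → ∀ x < Z.c.g, Z.slotOK a x = true := by
  intro a h1 h2 x hx
  have hk : (a - lo) / L < F := by
    apply Nat.div_lt_of_lt_mul
    rw [Nat.mul_comm]
    omega
  have h3 := allBelow_spec _ _ (allBelow_spec _ _ (h ((a - lo) / L) hk) ((a - lo) % L)
    (Nat.mod_lt _ hL)) x hx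
  have e : Nat.add (Nat.add lo (Nat.mul ((a - lo) / L) L)) ((a - lo) % L) = a := by
    show lo + (a - lo) / L * L + (a - lo) % L = a
    have := Nat.div_add_mod (a - lo) L
    rw [Nat.mul_comm] at this
    omega
  rw [e] at h3
  exact h3

/-- all rows are checked in ranges of `B` rows -/
theorem SCert.rows_of_ranges (Z : SCert) (B Q : ℕ) (hB : 0 < B) (hN : Z.N ≤ Q * B)
    (h : ∀ f < Q, ∀ a, Nat.mul f B ≤ a → a < Nat.mul f B + B → ∀ x < Z.c.g,
      Z.slotOK a x = true) : ∀ a < Z.N, ∀ x < Z.c.g, Z.slotOK a x = true := by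
  intro a ha x hx
  have hf : a / B < Q := by
    apply Nat.div_lt_of_lt_mul
    rw [Nat.mul_comm]
    omega
  have h1 := Nat.div_add_mod a B
  have h2 := Nat.mod_lt a hB
  refine h (a / B) hf a ?_ ?_ x hx
  · show a / B * B ≤ a
    rw [Nat.mul_comm]
    omega
  · show a < a / B * B + B
    rw [Nat.mul_comm]
    omega

/-- a range of the merge map is checked in parts of `L` rows -/
theorem SCert.mrange_of_chunks (Z : SCert) (lo L F : ℕ) (hL : 0 < L)
    (h : ∀ k < F, Z.mrowsOK (Nat.add lo (Nat.mul k L)) L = true) :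
    ∀ a, lo ≤ a → a < lo + F * L → Z.mslotOK a = true := by
  intro a h1 h2
  have hk : (a - lo) / L < F := by
    apply Nat.div_lt_of_lt_mul
    rw [Nat.mul_comm]
    omega
  have h3 := allBelow_spec _ _ (h ((a - lo) / L) hk) ((a - lo) % L) (Nat.mod_lt _ hL)
  have e : Nat.add (Nat.add lo (Nat.mul ((a - lo) / L) L)) ((a - lo) % L) = a := by
    show lo + (a - lo) / L * L + (a - lo) % L = a
    have := Nat.div_add_mod (a - lo) L
    rw [Nat.mul_comm] at this
    omega
  rw [e] at h3
  exact h3

/-- the merge map is checked in ranges of `B` rows -/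
theorem SCert.mrows_of_ranges (Z : SCert) (B Q : ℕ) (hB : 0 < B) (hN : Z.N ≤ Q * B)
    (h : ∀ f < Q, ∀ a, Nat.mul f B ≤ a → a < Nat.mul f B + B → Z.mslotOK a = true) :
    ∀ a < Z.N, Z.mslotOK a = true := by
  intro a ha
  have hf : a / B < Q := by
    apply Nat.div_lt_of_lt_mul
    rw [Nat.mul_comm]
    omega
  have h1 := Nat.div_add_mod a B
  have h2 := Nat.mod_lt a hB
  refine h (a / B) hf a ?_ ?_
  · show a / B * B ≤ a
    rw [Nat.mul_comm]
    omega
  · show a < a / B * B + B
    rw [Nat.mul_comm]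
    omega

end Cfsg.Agent.Lib.Helper6.TCS
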