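import Cfsg.Agent.Lib.Helper6.TCOrb2
import Cfsg.Agent.Lib.Helper6.TCStatic

/-! # The checks over all rows of a table, done in parts

The kernel keeps all that it has computed until it is done with a theorem, so a check that runs
for minutes needs more memory than is good; the checks over all rows are split into parts here. -/

set_option autoImplicit false

noncomputable section

namespace Cfsg.Agent.Lib.Helper6.TC

open Cfsg.Agent.Lib.Helper6.NatArr

/-- a test holds for the numbers below `n` among `lo, …, lo + len - 1` -/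
def chunkBelow (n lo len : ℕ) (f : ℕ → Bool) : Bool :=
  allBelow len fun i => Nat.ble n (Nat.add lo i) || f (Nat.add lo i)

theorem allBelow_intro : ∀ (N : ℕ) (f : ℕ → Bool), (∀ a < N, f a = true) → allBelow N f = true := by
  intro N
  induction N with
  | zero => intro f _; rfl
  | succ N ih =>
    intro f hf
    simp only [allBelow, Bool.and_eq_true]
    exact ⟨hf N (by omega), ih f (fun a ha => hf a (by omega))⟩

theorem allBelow_of_chunks {n : ℕ} {f : ℕ → Bool} (L K : ℕ) (hL : 0 < L) (hn : n ≤ K * L)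
    (h : ∀ k < K, chunkBelow n (Nat.mul k L) L f = true) : allBelow n f = true := by
  apply allBelow_intro
  intro a ha
  have hk : a / L < K := by
    apply Nat.div_lt_of_lt_mul
    rw [Nat.mul_comm]
    omega
  have h1 := allBelow_spec _ _ (h (a / L) hk) (a % L) (Nat.mod_lt _ hL)
  have e : Nat.add (Nat.mul (a / L) L) (a % L) = a := by
    show a / L * L + a % L = a
    rw [Nat.mul_comm]
    exact Nat.div_add_mod a L
  rw [e] at h1
  have h2 : Nat.ble n a = false := by
    cases hb : Nat.ble n a
    · rfl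
    · have := Nat.le_of_ble_eq_true hb
      omega
  rw [h2, Bool.false_or] at h1
  exact h1

namespace Tab

variable (T : Tab)

/-- a part of `tabOK` -/
def tabOKc (lo len : ℕ) : Bool :=
  chunkBelow T.n lo len fun a => allBelow T.g fun x =>
    force (T.t.entry T.w (Nat.succ (Nat.add (Nat.mul a T.g) x))) fun e =>
      !Nat.beq e 0 && (Nat.blt (Nat.pred e) T.n && Nat.beq (T.nxt (Nat.pred e) x) a)

theorem tabOK_of_chunks (L K : ℕ) (hL : 0 < L) (hn : T.n ≤ K * L)
    (h : ∀ k < K, T.tabOKc (Nat.mul k L) L = true) : T.tabOK = true :=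
  allBelow_of_chunks L K hL hn h

/-- a part of `treeOK` -/
def treeOKc (lo len : ℕ) : Bool :=
  chunkBelow T.n lo len fun a =>
    Nat.beq a 0 || !(allBelow T.g fun x => !Nat.blt (T.nxt a x) a)

theorem treeOK_of_chunks (L K : ℕ) (hL : 0 < L) (hn : T.n ≤ K * L)
    (h : ∀ k < K, T.treeOKc (Nat.mul k L) L = true) : T.treeOK = true :=
  allBelow_of_chunks L K hL hn h

/-- a part of `closedOK` -/
def closedOKc (ws : List (List ℕ)) (B lo len : ℕ) : Bool :=
  chunkBelow T.n lo len fun b => !btest B b ||
    ws.all fun w => btest B (T.trace b w) && btest B (T.trace b w.reverse)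

theorem closedOK_of_chunks (ws : List (List ℕ)) (B L K : ℕ) (hL : 0 < L) (hn : T.n ≤ K * L)
    (h : ∀ k < K, T.closedOKc ws B (Nat.mul k L) L = true) : T.closedOK ws B = true :=
  allBelow_of_chunks L K hL hn h

theorem powsOK_cons (p : List ℕ × ℕ) (ps : List (List ℕ × ℕ)) :
    T.powsOK (p :: ps) = (T.powOK p.1 p.2 && T.powsOK ps) := by
  unfold powsOK
  rw [List.all_cons]

theorem powsOK_nil : T.powsOK [] = true := rfl

end Tab

end Cfsg.Agent.Lib.Helper6.TC

namespace Cfsg.Agent.Lib.Helper6.TCS

open Cfsg.Agent.Lib.Helper6.TC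

/-- a part of `finalOK` -/
def SCert.finalOKc (Z : SCert) (n lo len : ℕ) : Bool :=
  chunkBelow n lo len fun a => allBelow Z.c.g fun x =>
    force (Z.rd (Nat.pow 2 Z.W) a x) fun e =>
      !Nat.beq e 0 && Nat.blt (Z.find (Nat.pow 2 Z.W) Z.c.fuel (Nat.pred e)) n

theorem SCert.finalOK_of_chunks (Z : SCert) (n L K : ℕ) (hL : 0 < L) (hn : n ≤ K * L)
    (h : ∀ k < K, Z.finalOKc n (Nat.mul k L) L = true) : Z.finalOK n = true :=
  allBelow_of_chunks L K hL hn h

end Cfsg.Agent.Lib.Helper6.TCS
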