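import Cfsg.Agent.Lib.Helper6.SimpUB
import Cfsg.Prelude.Def_Spor_Suz

/-! # Sub-presentations of the presented Suzuki group

`Q6` on the generators `a, b, c, d, f, g`, `Q5` on `a, b, c, d, f`, `Q4` on `a, b, c, d` and `Q2`
on `a, b`, with the relators of the presentation of `Suz` that involve only these generators. -/

set_option autoImplicit false
set_option linter.unusedSimpArgs false

namespace Cfsg.Agent.Lib.Helper6.SuzSub

open Cfsg.Spor Cfsg.Agent.Lib.Helper6.Simp

namespace Q6

/-- the generators a, b, c, d, f, g -/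
inductive Gen
  | a
  | b
  | c
  | d
  | f
  | g
  deriving DecidableEq

abbrev a : FreeGroup Gen := FreeGroup.of Gen.a
abbrev b : FreeGroup Gen := FreeGroup.of Gen.b
abbrev c : FreeGroup Gen := FreeGroup.of Gen.c
abbrev d : FreeGroup Gen := FreeGroup.of Gen.d
abbrev f : FreeGroup Gen := FreeGroup.of Gen.f
abbrev g : FreeGroup Gen := FreeGroup.of Gen.g

/-- the Coxeter graph -/
def edges : List (Gen × ℕ × Gen) :=
  [(.a, 5, .b), (.b, 3, .c), (.c, 8, .d), (.b, 3, .f), (.f, 4, .g), (.g, 3, .b)]

/-- the further relators -/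
def extra : List (FreeGroup Gen) := [  a * ((c * d) ^ 4)⁻¹,
  a * ((f * g) ^ 2)⁻¹,
  (a * b * c * f) ^ 5,
  (b * f * g) ^ 5]

/-- the inclusion of the generators -/
def ι : Gen → Suz.Gen
  | .a => .a
  | .b => .b
  | .c => .c
  | .d => .d
  | .f => .f
  | .g => .g

end Q6

/-- the group of the sub-presentation on a, b, c, d, f, g -/
abbrev Q6 : Type := CoxPresented Q6.Gen Q6.edges Q6.extra

namespace Q5

/-- the generators a, b, c, d, f -/
inductive Gen
  | a
  | b
  | c
  | d
  | f
  deriving DecidableEq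

abbrev a : FreeGroup Gen := FreeGroup.of Gen.a
abbrev b : FreeGroup Gen := FreeGroup.of Gen.b
abbrev c : FreeGroup Gen := FreeGroup.of Gen.c
abbrev d : FreeGroup Gen := FreeGroup.of Gen.d
abbrev f : FreeGroup Gen := FreeGroup.of Gen.f

/-- the Coxeter graph -/
def edges : List (Gen × ℕ × Gen) :=
  [(.a, 5, .b), (.b, 3, .c), (.c, 8, .d), (.b, 3, .f)]

/-- the further relators -/
def extra : List (FreeGroup Gen) := [  a * ((c * d) ^ 4)⁻¹,
  (a * b * c * f) ^ 5]

/-- the inclusion of the generators -/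
def ι : Gen → Q6.Gen
  | .a => .a
  | .b => .b
  | .c => .c
  | .d => .d
  | .f => .f

end Q5

/-- the group of the sub-presentation on a, b, c, d, f -/
abbrev Q5 : Type := CoxPresented Q5.Gen Q5.edges Q5.extra

namespace Q4

/-- the generators a, b, c, d -/
inductive Gen
  | a
  | b
  | c
  | d
  deriving DecidableEq

abbrev a : FreeGroup Gen := FreeGroup.of Gen.a
abbrev b : FreeGroup Gen := FreeGroup.of Gen.b
abbrev c : FreeGroup Gen := FreeGroup.of Gen.c
abbrev d : FreeGroup Gen := FreeGroup.of Gen.d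

/-- the Coxeter graph -/
def edges : List (Gen × ℕ × Gen) :=
  [(.a, 5, .b), (.b, 3, .c), (.c, 8, .d)]

/-- the further relators -/
def extra : List (FreeGroup Gen) := [  a * ((c * d) ^ 4)⁻¹]

/-- the inclusion of the generators -/
def ι : Gen → Q5.Gen
  | .a => .a
  | .b => .b
  | .c => .c
  | .d => .d

end Q4

/-- the group of the sub-presentation on a, b, c, d -/
abbrev Q4 : Type := CoxPresented Q4.Gen Q4.edges Q4.extra

namespace Q2

/-- the generators a, b -/
inductive Gen
  | a
  | b
  deriving DecidableEq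

abbrev a : FreeGroup Gen := FreeGroup.of Gen.a
abbrev b : FreeGroup Gen := FreeGroup.of Gen.b

/-- the Coxeter graph -/
def edges : List (Gen × ℕ × Gen) :=
  [(.a, 5, .b)]

/-- the further relators -/
def extra : List (FreeGroup Gen) := []

/-- the inclusion of the generators -/
def ι : Gen → Q4.Gen
  | .a => .a
  | .b => .b

end Q2

/-- the group of the sub-presentation on a, b -/
abbrev Q2 : Type := CoxPresented Q2.Gen Q2.edges Q2.extra

/-- `Q6` maps to `Suz` -/
def sub6 : SubPres Suz.edges Suz.extra Q6.edges Q6.extra where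
  ι := Q6.ι
  hnode := by decide
  hlabel := by decide
  hextra := by
    intro r hr
    simp only [Q6.extra, List.mem_cons, List.not_mem_nil, or_false] at hr
    rcases hr with rfl | rfl | rfl | rfl <;>
      simp only [map_mul, map_inv, map_pow, FreeGroup.map.of, Q6.ι, Suz.extra, List.mem_cons,
        true_or, or_true]

/-- `Q5` maps to `Q6` -/
def sub5 : SubPres Q6.edges Q6.extra Q5.edges Q5.extra where
  ι := Q5.ι
  hnode := by decide
  hlabel := by decide
  hextra := by
    intro r hr
    simp only [Q5.extra, List.mem_cons, List.not_mem_nil, or_false] at hr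
    rcases hr with rfl | rfl <;>
      simp only [map_mul, map_inv, map_pow, FreeGroup.map.of, Q5.ι, Q6.extra, List.mem_cons,
        true_or, or_true]

/-- `Q4` maps to `Q5` -/
def sub4 : SubPres Q5.edges Q5.extra Q4.edges Q4.extra where
  ι := Q4.ι
  hnode := by decide
  hlabel := by decide
  hextra := by
    intro r hr
    simp only [Q4.extra, List.mem_cons, List.not_mem_nil, or_false] at hr
    rcases hr with rfl
    simp only [map_mul, map_inv, map_pow, FreeGroup.map.of, Q4.ι, Q5.extra, List.mem_cons,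
      true_or, or_true]

/-- `Q2` maps to `Q4` -/
def sub2 : SubPres Q4.edges Q4.extra Q2.edges Q2.extra where
  ι := Q2.ι
  hnode := by decide
  hlabel := by decide
  hextra := by
    intro r hr
    simp [Q2.extra] at hr

theorem range6 : (Set.range fun y => FreeGroup.of (sub6.ι y)) =
    ({Suz.a, Suz.b, Suz.c, Suz.d, Suz.f, Suz.g} : Set (FreeGroup Suz.Gen)) := by
  ext z
  constructor
  · rintro ⟨y, rfl⟩
    cases y <;> simp [sub6, Q6.ι]
  · intro hz
    simp only [Set.mem_insert_iff, Set.mem_singleton_iff] at hz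
    rcases hz with rfl | rfl | rfl | rfl | rfl | rfl
    · exact ⟨.a, rfl⟩
    · exact ⟨.b, rfl⟩
    · exact ⟨.c, rfl⟩
    · exact ⟨.d, rfl⟩
    · exact ⟨.f, rfl⟩
    · exact ⟨.g, rfl⟩

theorem range5 : (Set.range fun y => FreeGroup.of (sub5.ι y)) =
    ({Q6.a, Q6.b, Q6.c, Q6.d, Q6.f} : Set (FreeGroup Q6.Gen)) := by
  ext z
  constructor
  · rintro ⟨y, rfl⟩
    cases y <;> simp [sub5, Q5.ι]
  · intro hz
    simp only [Set.mem_insert_iff, Set.mem_singleton_iff] at hz
    rcases hz with rfl | rfl | rfl | rfl | rfl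
    · exact ⟨.a, rfl⟩
    · exact ⟨.b, rfl⟩
    · exact ⟨.c, rfl⟩
    · exact ⟨.d, rfl⟩
    · exact ⟨.f, rfl⟩

theorem range4 : (Set.range fun y => FreeGroup.of (sub4.ι y)) =
    ({Q5.a, Q5.b, Q5.c, Q5.d} : Set (FreeGroup Q5.Gen)) := by
  ext z
  constructor
  · rintro ⟨y, rfl⟩
    cases y <;> simp [sub4, Q4.ι]
  · intro hz
    simp only [Set.mem_insert_iff, Set.mem_singleton_iff] at hz
    rcases hz with rfl | rfl | rfl | rfl
    · exact ⟨.a, rfl⟩
    · exact ⟨.b, rfl⟩
    · exact ⟨.c, rfl⟩
    · exact ⟨.d, rfl⟩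

theorem range2 : (Set.range fun y => FreeGroup.of (sub2.ι y)) =
    ({Q4.a, Q4.b} : Set (FreeGroup Q4.Gen)) := by
  ext z
  constructor
  · rintro ⟨y, rfl⟩
    cases y <;> simp [sub2, Q2.ι]
  · intro hz
    simp only [Set.mem_insert_iff, Set.mem_singleton_iff] at hz
    rcases hz with rfl | rfl
    · exact ⟨.a, rfl⟩
    · exact ⟨.b, rfl⟩

end Cfsg.Agent.Lib.Helper6.SuzSub
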