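import Cfsg.Agent.Lib.Helper6.SuzTCChk1
import Cfsg.Agent.Lib.Helper6.SuzTCChk2

/-! # The presented Suzuki group: the subgroup generated by `a, …, f` has index 1782, with
orbits of lengths 1, 416, 1365 on its cosets -/

set_option autoImplicit false
set_option linter.constructorNameAsVariable false
set_option linter.unusedSimpArgs false

namespace Cfsg.Agent.Lib.Helper6.SuzTC

open Cfsg.Agent.Lib.Helper6.TC Cfsg.Spor

theorem extra_iff {K : Type} [Group K] (f : Suz.Gen → K) (hf : ∀ a, f a * f a = 1) :
    (∀ r ∈ Suz.extra, FreeGroup.lift f r = 1) ↔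
      ∀ w ∈ extraWords, (w.map (fun x => f (gen x))).prod = 1 := by
  have hi : ∀ a, (f a)⁻¹ = f a := fun a => inv_eq_of_mul_eq_one_left (hf a)
  simp only [Suz.extra, extraWords, List.forall_mem_cons, List.not_mem_nil, false_imp_iff,
    implies_true, and_true, IsEmpty.forall_iff]
  simp only [Suz.a, Suz.b, Suz.c, Suz.d, Suz.e, Suz.f, Suz.g, map_mul, map_inv, map_pow,
    FreeGroup.lift_apply_of, List.map_cons, List.map_nil, List.prod_cons, List.prod_nil, gen,
    mul_inv_rev, inv_pow, hi, pow_succ, pow_zero, one_mul, mul_one, mul_assoc]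

/-- the generating set of the subgroup -/
abbrev S : Set (FreeGroup Suz.Gen) := {Suz.a, Suz.b, Suz.c, Suz.d, Suz.e, Suz.f}

theorem hS (s : FreeGroup Suz.Gen) : s ∈ S ↔ ∃ w ∈ subW, s = fgWord gen w := by
  simp only [S, subW, fgWord, Set.mem_insert_iff, Set.mem_singleton_iff, List.mem_cons,
    List.not_mem_nil, or_false, exists_eq_or_imp, exists_eq_left, List.map_cons, List.map_nil,
    List.prod_cons, List.prod_nil, mul_one, gen, pow_succ, pow_zero, one_mul, mul_assoc]

/-- the data of the enumeration -/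
def data : CoxData Suz.edges Suz.extra S where
  gen := gen
  code := code
  c := cfg
  extraWords := extraWords
  nw := nw
  srcs := srcs
  T := tab
  subW := subW
  hnode := by intro a; cases a <;> decide
  hcode := by intro a; cases a <;> exact ⟨by decide, rfl⟩
  hgen := by
    intro x hx
    have hx' : x < 7 := hx
    interval_cases x <;> rfl
  hTg := rfl
  hTn := show 0 < 1782 by norm_num
  hw := show 1 < 2 ^ 14 by norm_num
  chk_words := chk_words
  hrun := RunCert.of_run (show 1 < 2 ^ 14 by norm_num) (show 0 < 1782 by norm_num) chk_run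
  chk_tab := chk_tab
  chk_rels := chk_rels
  chk_tree := chk_tree
  hextra := fun f hf => extra_iff f hf
  hS := hS
  chk_sub := chk_sub

/-- the orbit of length 1365 -/
def orb1 : data.Orb where
  a := orbRoot1
  ha := show 1 < 1782 by norm_num
  instrs := orbInstr1
  B := orbB1
  chk_orb := chk_orb1
  chk_closed := chk_closed1

/-- the orbit of length 416 -/
def orb2 : data.Orb where
  a := orbRoot2
  ha := show 47 < 1782 by norm_num
  instrs := orbInstr2
  B := orbB2
  chk_orb := chk_orb2
  chk_closed := chk_closed2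

theorem main : ((Subgroup.closure S).map (PresentedGroup.mk
      (coxRelators Suz.edges ∪ {r | r ∈ Suz.extra}))).index = 1782 ∧
    ∃ q₁ q₂ : Suz ⧸ ((Subgroup.closure S).map (PresentedGroup.mk
        (coxRelators Suz.edges ∪ {r | r ∈ Suz.extra}))),
      (MulAction.orbit ((Subgroup.closure S).map (PresentedGroup.mk
        (coxRelators Suz.edges ∪ {r | r ∈ Suz.extra}))) q₁).ncard = 416 ∧
      (MulAction.orbit ((Subgroup.closure S).map (PresentedGroup.mk
        (coxRelators Suz.edges ∪ {r | r ∈ Suz.extra}))) q₂).ncard = 1365 := by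
  refine ⟨data.index_eq, ?_⟩
  obtain ⟨Φ, hinj, hΦ⟩ := data.exists_orbit_map
  obtain ⟨q₁, h₁⟩ := hΦ orb2
  obtain ⟨q₂, h₂⟩ := hΦ orb1
  exact ⟨q₁, q₂, (ncard_of_img hinj h₁).trans chk_cnt2, (ncard_of_img hinj h₂).trans chk_cnt1⟩

end Cfsg.Agent.Lib.Helper6.SuzTC
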