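import Cfsg.Agent.Lib.Helper6.SuzSimp
import Cfsg.Agent.Lib.Helper6.SuzTC
import Cfsg.Agent.Lib.Helper6.SuzBTC
import Cfsg.Agent.Lib.Helper6.SuzQ6TC
import Cfsg.Agent.Lib.Helper6.SuzQ5TC
import Cfsg.Agent.Lib.Helper6.SuzQ4TC
import Cfsg.Agent.Lib.Helper6.SuzQ2TC

/-! # The presented Suzuki group is simple of order 448345497600 -/

set_option autoImplicit false

namespace Cfsg.Agent.Lib.Helper6.SuzSimple

open Cfsg.Spor Cfsg.Agent.Lib.Helper6.Simp Cfsg.Agent.Lib.Helper6.SuzSub Cfsg.Agent.Lib.Helper6.TC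
  Cfsg.Agent.Lib.Helper6.NatArr

/-- the order is at most `22880 * 162 * 56 * 216 * 10` -/
theorem ub : Finite Suz ∧ Nat.card Suz ≤ 448345497600 := by
  have h2 := finite_card_of_index_empty SuzQ2TC.main (by norm_num)
  have h4 := sub2.finite_card_le SuzQ4TC.S range2.symm SuzQ4TC.main (by norm_num) h2.1
    (le_of_eq h2.2)
  have h5 := sub4.finite_card_le SuzQ5TC.S range4.symm SuzQ5TC.main (by norm_num) h4.1 h4.2
  have h6 := sub5.finite_card_le SuzQ6TC.S range5.symm SuzQ6TC.main (by norm_num) h5.1 h5.2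
  have h7 := sub6.finite_card_le SuzBTC.S range6.symm SuzBTC.main (by norm_num) h6.1 h6.2
  exact ⟨h7.1, h7.2.trans (by norm_num)⟩

theorem chk_cover : allBelow 1782 (fun b => Nat.beq b 0 ||
    (btest SuzTC.orbB1 b || btest SuzTC.orbB2 b)) = true := by decide +kernel

theorem chk_disj : Nat.land SuzTC.orbB1 SuzTC.orbB2 = 0 := by decide +kernel

theorem chk_disj' : Nat.land SuzTC.orbB2 SuzTC.orbB1 = 0 := by decide +kernel

theorem chk_o1 : SuzTC.orbB1.testBit 0 = false := by decide +kernel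

theorem chk_o2 : SuzTC.orbB2.testBit 0 = false := by decide +kernel

/-- **the presented Suzuki group is simple of order 448345497600** -/
theorem main : IsSimpleGroup Suz ∧ Nat.card Suz = 448345497600 := by
  refine simple_card SuzTC.data ub SuzSimp.levels SuzSimp.chain_ok SuzSimp.chain_prod
    (r := 2) ![SuzTC.orb1, SuzTC.orb2] ![1365, 416] ?_ ?_ ?_ ?_ ?_ 11 ?_ SuzSimp.us
    SuzSimp.chk_pow ?_
  · intro i
    fin_cases i
    · exact SuzTC.chk_cnt1
    · exact SuzTC.chk_cnt2
  · intro b hb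
    have h := allBelow_spec _ _ chk_cover b hb
    simp only [Bool.or_eq_true, btest_eq] at h
    rcases h with h | h | h
    · exact Or.inl (Nat.eq_of_beq_eq_true h)
    · exact Or.inr ⟨0, h⟩
    · exact Or.inr ⟨1, h⟩
  · intro i j hij
    fin_cases i <;> fin_cases j
    · exact absurd rfl hij
    · exact chk_disj
    · exact chk_disj'
    · exact absurd rfl hij
  · intro i
    fin_cases i
    · exact chk_o1
    · exact chk_o2
  · show ∀ I : Finset (Fin 2), I.Nonempty → (1 + ∑ i ∈ I, ![1365, 416] i) ∣ 1782 →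
      1 + ∑ i ∈ I, ![1365, 416] i = 1782
    decide
  · show (448345497600 / 1782).Coprime 11
    norm_num
  · show 1 < 1782
    norm_num

end Cfsg.Agent.Lib.Helper6.SuzSimple
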