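import Cfsg.Agent.Lib.Helper6.SimpG

/-! # The word problem by base points: when the order of the group is the product of the orbit
lengths of a chain of stabilizers, an element that fixes all the base points is trivial -/

set_option autoImplicit false

noncomputable section

namespace Cfsg.Agent.Lib.Helper6.SimpWP

open Cfsg.Agent.Lib.Helper6.TC Cfsg.Agent.Lib.Helper6.TCG Cfsg.Agent.Lib.Helper6.NatArr
  Cfsg.Agent.Lib.Helper6.Simp Cfsg.Agent.Lib.Helper6.SimpG Cfsg.Spor

/-- the base points of a chain, added to the earlier ones -/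
def allFixed : List Level → List ℕ → List ℕ
  | [], f => f
  | L :: Ls, f => allFixed Ls (L.b :: f)

section

variable {T : Tab} (P : ℕ → Equiv.Perm (Fin T.n))
  (htr : ∀ (w : List ℕ) (a : Fin T.n), (∀ x ∈ w, x < T.g) →
    T.trace a.val w = (((w.reverse.map P).prod) a).val)

include htr in
/-- the product of the orbit lengths times the order of the stabilizer of all the base points is
at most the order of the stabilizer of the earlier ones -/
theorem chainProd_mul_le {Γ : Subgroup (Equiv.Perm (Fin T.n))}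
    (hΓ : ∀ x, x < T.g → P x ∈ Γ) : ∀ (Ls : List Level) (fixed : List ℕ),
      ChainOK T fixed Ls →
        chainProd Ls * Nat.card (pstab T Γ (allFixed Ls fixed)) ≤ Nat.card (pstab T Γ fixed)
  | [], fixed, _ => by
    rw [chainProd, allFixed, one_mul]
  | L :: Ls, fixed, hc => by
    cases hc with
    | cons hL hLs =>
      rw [chainProd, allFixed, mul_assoc]
      exact (Nat.mul_le_mul_left _ (chainProd_mul_le hΓ Ls (L.b :: fixed) hLs)).trans
        (SimpG.card_pstab_ge P htr hΓ hL)

end

section

variable {α : Type} [DecidableEq α] {edges : List (α × ℕ × α)} {extra : List (FreeGroup α)}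
  {S : Set (FreeGroup α)} (D : GenData edges extra S)

/-- **the word problem**: an element that fixes all the base points is trivial -/
theorem eq_one_of_fix_base {N : ℕ} [Finite (CoxPresented α edges extra)]
    (hcard : Nat.card (CoxPresented α edges extra) = N) (hinj : Function.Injective D.ρ)
    (Ls : List Level) (hchain : ChainOK D.T [0] Ls) (hprod : D.T.n * chainProd Ls = N)
    (hN : 0 < N) (x : CoxPresented α edges extra)
    (hx : ∀ c ∈ allFixed Ls [0], ∀ hc : c < D.T.n, D.ρ x ⟨c, hc⟩ = ⟨c, hc⟩) : x = 1 := by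
  set ρ := D.ρ with hρ
  have hΓ : ∀ x, x < D.T.g → D.P x ∈ ρ.range := by
    intro x hx
    rw [D.hTg] at hx
    refine ⟨(D.γ x)⁻¹, ?_⟩
    rw [map_inv, hρ, ρ_γ D hx, inv_inv]
  have hcr : Nat.card ρ.range = N := by
    rw [← hcard]
    exact (Nat.card_congr (MonoidHom.ofInjective hinj).toEquiv).symm
  have h1 := chainProd_mul_le D.P (fun w a hw => trace_eq D.chk_tab w a hw) hΓ Ls [0] hchain
  have h2 := card_ge_of_transitive (T := D.T) (Γ := ρ.range) D.hTn (fun a => by
    obtain ⟨z, hz⟩ := D.trans a
    exact ⟨ρ z, ⟨z, rfl⟩, hz⟩)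
  have h3 : N * Nat.card (pstab D.T ρ.range (allFixed Ls [0])) ≤ N * 1 := by
    rw [mul_one, ← hprod, mul_assoc]
    calc D.T.n * (chainProd Ls * Nat.card (pstab D.T ρ.range (allFixed Ls [0])))
        ≤ D.T.n * Nat.card (pstab D.T ρ.range [0]) := Nat.mul_le_mul_left _ h1
      _ ≤ Nat.card ρ.range := h2
      _ = D.T.n * chainProd Ls := by rw [hcr, hprod]
  have h4 : Nat.card (pstab D.T ρ.range (allFixed Ls [0])) ≤ 1 := Nat.le_of_mul_le_mul_left h3 hN
  have hfin : Finite (pstab D.T ρ.range (allFixed Ls [0])) := by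
    have : Finite ρ.range := Finite.of_surjective ρ.rangeRestrict ρ.rangeRestrict_surjective
    exact Finite.of_injective (fun σ : pstab D.T ρ.range (allFixed Ls [0]) =>
      (⟨σ.1, σ.2.1⟩ : ρ.range)) (fun σ τ h => Subtype.ext (congrArg (fun z : ρ.range => z.1) h))
  have hsub : Subsingleton (pstab D.T ρ.range (allFixed Ls [0])) :=
    (Finite.card_le_one_iff_subsingleton).1 h4
  have hmem : ρ x ∈ pstab D.T ρ.range (allFixed Ls [0]) := ⟨⟨x, rfl⟩, hx⟩
  have h5 : (⟨ρ x, hmem⟩ : pstab D.T ρ.range (allFixed Ls [0])) = 1 := Subsingleton.elim _ _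
  have h6 : ρ x = 1 := congrArg Subtype.val h5
  apply hinj
  rw [h6, map_one]

/-- the check that a word fixes the given rows -/
def fixOK (T : Tab) (base : List ℕ) (w : List ℕ) : Bool :=
  (w.all fun x => Nat.blt x T.g) && base.all fun c => Nat.beq (T.trace c w) c

/-- **the word problem for words**: a word that fixes all the base points is trivial -/
theorem wordG_eq_one_of_fixOK {N : ℕ} [Finite (CoxPresented α edges extra)]
    (hcard : Nat.card (CoxPresented α edges extra) = N) (hinj : Function.Injective D.ρ)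
    (Ls : List Level) (hchain : ChainOK D.T [0] Ls) (hprod : D.T.n * chainProd Ls = N)
    (hN : 0 < N) (w : List ℕ) (hw : fixOK D.T (allFixed Ls [0]) w = true) :
    wordG D w = 1 := by
  unfold fixOK at hw
  rw [Bool.and_eq_true] at hw
  obtain ⟨h1, h2⟩ := hw
  have hl : ∀ x ∈ w, x < D.T.g := by
    intro x hx
    have := List.all_eq_true.1 h1 x hx
    rwa [Nat.blt_eq] at this
  apply eq_one_of_fix_base D hcard hinj Ls hchain hprod hN
  intro c hc hcn
  have h3 : D.T.trace c w = c := Nat.eq_of_beq_eq_true (List.all_eq_true.1 h2 c hc)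
  have h4 := trace_eq D.chk_tab w ⟨c, hcn⟩ hl
  rw [ρ_wordG D (fun x hx => by rw [← D.hTg]; exact hl x hx)]
  have h5 : ((w.reverse.map D.P).prod) ⟨c, hcn⟩ = ⟨c, hcn⟩ := by
    apply Fin.ext
    exact h4.symm.trans h3
  rw [Equiv.Perm.inv_eq_iff_eq]
  exact h5.symm

end

end Cfsg.Agent.Lib.Helper6.SimpWP

end
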