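import Cfsg.Agent.Lib.Helper6.SimpInst
import Cfsg.Agent.Lib.Helper6.SimpWP

/-! # The word problem by base points in a presented group generated by involutions, and
homomorphisms into it given by words for the images of the generators -/

set_option autoImplicit false

noncomputable section

namespace Cfsg.Agent.Lib.Helper6.SimpWPC

open Cfsg.Agent.Lib.Helper6.TC Cfsg.Agent.Lib.Helper6.NatArr Cfsg.Agent.Lib.Helper6.Simp Cfsg.Spor
  Cfsg.Agent.Lib.Helper6.SimpWP

section

variable {T : Tab} (h : T.tabOK = true)

include h in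
/-- the product of the orbit lengths times the order of the stabilizer of all the base points is
at most the order of the stabilizer of the earlier ones -/
theorem chainProd_mul_le {Γ : Subgroup (Equiv.Perm (Fin T.n))}
    (hΓ : ∀ x, x < T.g → T.perm h x ∈ Γ) : ∀ (Ls : List Level) (fixed : List ℕ),
      ChainOK T fixed Ls →
        chainProd Ls * Nat.card (pstab T Γ (allFixed Ls fixed)) ≤ Nat.card (pstab T Γ fixed)
  | [], fixed, _ => by
    rw [chainProd, allFixed, one_mul]
  | L :: Ls, fixed, hc => by
    cases hc with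
    | cons hL hLs =>
      rw [chainProd, allFixed, mul_assoc]
      exact (Nat.mul_le_mul_left _ (chainProd_mul_le hΓ Ls (L.b :: fixed) hLs)).trans
        (card_pstab_ge h hΓ hL)

end

section

variable {α : Type} [DecidableEq α] {edges : List (α × ℕ × α)} {extra : List (FreeGroup α)}
  {S : Set (FreeGroup α)} (D : CoxData edges extra S)

/-- **the word problem**: an element that fixes all the base points is trivial -/
theorem eq_one_of_fix_base {N : ℕ} [Finite (CoxPresented α edges extra)]
    (hcard : Nat.card (CoxPresented α edges extra) = N) (hinj : Function.Injective D.cert.ρ)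
    (Ls : List Level) (hchain : ChainOK D.T [] Ls) (hprod : chainProd Ls = N)
    (hN : 0 < N) (x : CoxPresented α edges extra)
    (hx : ∀ c ∈ allFixed Ls [], ∀ hc : c < D.T.n, D.cert.ρ x ⟨c, hc⟩ = ⟨c, hc⟩) : x = 1 := by
  set ρ := D.cert.ρ with hρ
  have hΓ : ∀ x, x < D.T.g → D.T.perm D.chk_tab x ∈ ρ.range := by
    intro x hx
    rw [D.hTg] at hx
    exact ⟨PresentedGroup.of (D.gen x), ρ_of_gen D hx⟩
  have hcr : Nat.card ρ.range = N := by
    rw [← hcard]
    exact (Nat.card_congr (MonoidHom.ofInjective hinj).toEquiv).symm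
  have h1 : chainProd Ls * Nat.card (pstab D.cert.T ρ.range (allFixed Ls [])) ≤
      Nat.card (pstab D.cert.T ρ.range []) := chainProd_mul_le D.chk_tab hΓ Ls [] hchain
  rw [pstab_nil D.cert.T ρ.range, hprod, hcr] at h1
  have h3 : N * Nat.card (pstab D.cert.T ρ.range (allFixed Ls [])) ≤ N * 1 := by
    rw [mul_one]
    exact h1
  have h4 : Nat.card (pstab D.cert.T ρ.range (allFixed Ls [])) ≤ 1 := Nat.le_of_mul_le_mul_left h3 hN
  have hfin : Finite (pstab D.cert.T ρ.range (allFixed Ls [])) := by
    have : Finite ρ.range := Finite.of_surjective ρ.rangeRestrict ρ.rangeRestrict_surjective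
    exact Finite.of_injective (fun σ : pstab D.cert.T ρ.range (allFixed Ls []) =>
      (⟨σ.1, σ.2.1⟩ : ρ.range)) (fun σ τ h => Subtype.ext (congrArg (fun z : ρ.range => z.1) h))
  have hsub : Subsingleton (pstab D.cert.T ρ.range (allFixed Ls [])) :=
    (Finite.card_le_one_iff_subsingleton).1 h4
  have hmem : ρ x ∈ pstab D.cert.T ρ.range (allFixed Ls []) := ⟨⟨x, rfl⟩, hx⟩
  have h5 : (⟨ρ x, hmem⟩ : pstab D.cert.T ρ.range (allFixed Ls [])) = 1 := Subsingleton.elim _ _
  have h6 : ρ x = 1 := congrArg Subtype.val h5
  apply hinj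
  rw [h6, map_one]

/-- the permutation of a word, by the table -/
theorem ρ_wordG_apply {w : List ℕ} (hl : ∀ x ∈ w, x < D.T.g) (c : ℕ) (hc : c < D.T.n) :
    (D.cert.ρ (Simp.wordG D w) ⟨c, hc⟩).val = D.T.trace c w.reverse := by
  rw [ρ_wordG D (fun x hx => by rw [← D.hTg]; exact hl x hx)]
  have hl' : ∀ x ∈ w.reverse, x < D.T.g := fun x hx => hl x (List.mem_reverse.1 hx)
  have h4 := D.T.trace_eq D.chk_tab w.reverse ⟨c, hc⟩ hl'
  rw [List.reverse_reverse] at h4
  exact h4.symm

/-- the check that a word fixes the given rows -/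
def fixOK (T : Tab) (base : List ℕ) (w : List ℕ) : Bool :=
  (w.all fun x => Nat.blt x T.g) && base.all fun c => Nat.beq (T.trace c w.reverse) c

/-- **the word problem for words**: a word that fixes all the base points is trivial -/
theorem wordG_eq_one_of_fixOK {N : ℕ} [Finite (CoxPresented α edges extra)]
    (hcard : Nat.card (CoxPresented α edges extra) = N) (hinj : Function.Injective D.cert.ρ)
    (Ls : List Level) (hchain : ChainOK D.T [] Ls) (hprod : chainProd Ls = N)
    (hN : 0 < N) (w : List ℕ) (hw : fixOK D.T (allFixed Ls []) w = true) :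
    Simp.wordG D w = 1 := by
  unfold fixOK at hw
  rw [Bool.and_eq_true] at hw
  obtain ⟨h1, h2⟩ := hw
  have hl : ∀ x ∈ w, x < D.T.g := by
    intro x hx
    have := List.all_eq_true.1 h1 x hx
    rwa [Nat.blt_eq] at this
  apply eq_one_of_fix_base D hcard hinj Ls hchain hprod hN
  intro c hc hcn
  have h3 : D.T.trace c w.reverse = c := Nat.eq_of_beq_eq_true (List.all_eq_true.1 h2 c hc)
  apply Fin.ext
  rw [ρ_wordG_apply D hl c hcn]
  exact h3

/-- a word that moves a row is not trivial -/
theorem wordG_ne_one {w : List ℕ} {c : ℕ} (hl : ∀ x ∈ w, x < D.T.g) (hc : c < D.T.n)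
    (hm : D.T.trace c w.reverse ≠ c) : Simp.wordG D w ≠ 1 := by
  intro h1
  have h2 := ρ_wordG_apply D hl c hc
  rw [h1, map_one] at h2
  exact hm h2.symm

theorem wordG_nil : Simp.wordG D [] = 1 := rfl

theorem wordG_append (u v : List ℕ) :
    Simp.wordG D (u ++ v) = Simp.wordG D u * Simp.wordG D v := by
  unfold Simp.wordG
  rw [List.map_append, List.prod_append]

include D in
theorem of_mul_self (a : α) :
    (PresentedGroup.of a : CoxPresented α edges extra) * PresentedGroup.of a = 1 := by
  have ha := D.hnode a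
  have hm : (FreeGroup.of a * FreeGroup.of a) ^ coxLabel edges a a ∈
      coxRelators edges ∪ {r | r ∈ extra} :=
    Or.inl ⟨a, ha, a, ha, rfl⟩
  have h1 := PresentedGroup.one_of_mem hm
  have e : coxLabel edges a a = 1 := by simp [coxLabel]
  rw [e, pow_one, map_mul] at h1
  exact h1

theorem wordG_reverse : ∀ w : List ℕ, Simp.wordG D w.reverse = (Simp.wordG D w)⁻¹
  | [] => by
    show Simp.wordG D [] = (Simp.wordG D [])⁻¹
    rw [wordG_nil, inv_one]
  | x :: w => by
    rw [List.reverse_cons, wordG_append, wordG_reverse w]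
    have h1 : Simp.wordG D [x] = PresentedGroup.of (D.gen x) := by
      unfold Simp.wordG
      rw [List.map_cons, List.map_nil, List.prod_cons, List.prod_nil, mul_one]
    have h2 : Simp.wordG D (x :: w) = PresentedGroup.of (D.gen x) * Simp.wordG D w := by
      unfold Simp.wordG
      rw [List.map_cons, List.prod_cons]
    rw [h1, h2, mul_inv_rev, inv_eq_of_mul_eq_one_left (of_mul_self D (D.gen x))]

/-- a word of the list of the generators of the subgroup lies in the subgroup -/
theorem wordG_mem_H {w : List ℕ} (hw : w ∈ D.subW) : Simp.wordG D w ∈ D.cert.H := by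
  have h1 : Simp.wordG D w = PresentedGroup.mk _ (TC.fgWord D.gen w) := by
    rw [TC.hom_fgWord]
    rfl
  rw [h1]
  exact Subgroup.mem_map_of_mem _ (Subgroup.subset_closure ((D.hS _).2 ⟨w, hw, rfl⟩))

/-- a product of words of the list of the generators of the subgroup lies in the subgroup -/
theorem wordG_flatten_mem_H : ∀ {ws : List (List ℕ)}, (∀ w ∈ ws, w ∈ D.subW) →
    Simp.wordG D ws.flatten ∈ D.cert.H
  | [], _ => by
    show Simp.wordG D [] ∈ D.cert.H
    rw [wordG_nil]
    exact Subgroup.one_mem _
  | w :: ws, h => by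
    rw [List.flatten_cons, wordG_append]
    exact Subgroup.mul_mem _ (wordG_mem_H D (h w (List.mem_cons_self ..)))
      (wordG_flatten_mem_H (fun v hv => h v (List.mem_cons_of_mem _ hv)))

section hom

variable {β : Type} (gen' : ℕ → β) (sgn' : ℕ → Bool) (wOf : β → List ℕ)

/-- the images of the generators -/
def img (b : β) : CoxPresented α edges extra := Simp.wordG D (wOf b)

/-- the word of a letter -/
def sub (x : ℕ) : List ℕ :=
  bif sgn' x then (wOf (gen' x)).reverse else wOf (gen' x)

theorem lift_lt' (x : ℕ) :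
    FreeGroup.lift (img D wOf) (TCG.lt gen' sgn' x) = Simp.wordG D (sub gen' sgn' wOf x) := by
  unfold TCG.lt sub
  cases sgn' x
  · simp only [cond_false, FreeGroup.lift_apply_of]
    rfl
  · simp only [cond_true, map_inv, FreeGroup.lift_apply_of]
    rw [wordG_reverse D]
    rfl

theorem prod_letters (L : List ℕ) :
    (L.map fun x => FreeGroup.lift (img D wOf) (TCG.lt gen' sgn' x)).prod =
      Simp.wordG D (L.flatMap (sub gen' sgn' wOf)) := by
  induction L with
  | nil => rfl
  | cons x L ih =>
    rw [List.map_cons, List.prod_cons, List.flatMap_cons, wordG_append, ih,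
      lift_lt' D gen' sgn' wOf]

end hom

end

end Cfsg.Agent.Lib.Helper6.SimpWPC

end
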