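import Cfsg.Agent.Lib.Helper6.TCGIndex

/-! # Coset enumeration certificates from data, when some generators are not involutions -/

set_option autoImplicit false

noncomputable section

namespace Cfsg.Agent.Lib.Helper6.TCG

open Cfsg.Agent.Lib.Helper6.NatArr Cfsg.Agent.Lib.Helper6.TC Cfsg.Agent.Lib.Helper6.TCGS Cfsg.Spor

theorem pow_comm_eq_one {K : Type*} [Group K] {a b : K} {m : ℕ} (h : (a * b) ^ m = 1) :
    (b * a) ^ m = 1 := by
  have e : b * a = b * (a * b) * b⁻¹ := by group
  rw [e, conj_pow, h]
  group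

section

variable {α : Type} [DecidableEq α]

/-- the element of the free group for a letter: a generator or the inverse of a generator -/
def lt (gen : ℕ → α) (sgn : ℕ → Bool) (x : ℕ) : FreeGroup α :=
  bif sgn x then (FreeGroup.of (gen x))⁻¹ else FreeGroup.of (gen x)

/-- the word in the free group with the given letters -/
def fgWord (gen : ℕ → α) (sgn : ℕ → Bool) (w : List ℕ) : FreeGroup α := (w.map (lt gen sgn)).prod

omit [DecidableEq α] in
theorem hom_fgWord {K : Type*} [Group K] (φ : FreeGroup α →* K) (gen : ℕ → α) (sgn : ℕ → Bool)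
    (w : List ℕ) : φ (fgWord gen sgn w) = (w.map fun x => φ (lt gen sgn x)).prod := by
  unfold fgWord
  rw [map_list_prod, List.map_map]
  rfl

/-- the subgroup words of the configuration are the given ones, which have letters below `g` and
fix the first row -/
def subOK (c : Cfg) (T : Tab) (subW : List (List ℕ)) : Bool :=
  Nat.beq subW.length c.nsub &&
  ((allBelow c.nsub fun k => unpack (wordAt c k) == subW.getD k []) &&
  (subW.all fun w => (w.all fun x => Nat.blt x c.g) && Nat.beq (T.trace 0 w) 0))

/-- the words of the relators: the Coxeter words of the pairs of the first `gn` letters, and the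
further relators, given as powers -/
def relWords (edges : List (α × ℕ × α)) (gen : ℕ → α) (gn : ℕ) (extraPow : List (List ℕ × ℕ)) :
    List (List ℕ) :=
  coxWordsL edges gen gn ++ extraPow.map fun p => (List.replicate p.2 p.1).flatten

/-- the data of a coset enumeration over the subgroup generated by the images of the set `S` of
words; the first `gn` letters are the nodes of the graph -/
structure GenData (edges : List (α × ℕ × α)) (extra : List (FreeGroup α))
    (S : Set (FreeGroup α)) where
  gen : ℕ → α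
  sgn : ℕ → Bool
  code : α → ℕ
  c : Cfg
  ivs : ℕ
  gn : ℕ
  extraPow : List (List ℕ × ℕ)
  nw : ℕ
  srcs : List ℕ
  T : Tab
  subW : List (List ℕ)
  hnode : ∀ a ∈ coxNodes edges, code a < gn
  hlow : ∀ x, x < gn → gen x ∈ coxNodes edges ∧ sgn x = false ∧ ivN ivs x = x ∧ code (gen x) = x
  hgn : gn ≤ c.g
  hcode : ∀ a, code a < c.g ∧ gen (code a) = a ∧ sgn (code a) = false
  hletter : ∀ x, x < c.g → gen (ivN ivs x) = gen x ∧
    (sgn x = true → sgn (ivN ivs x) = false ∧ code (gen x) = ivN ivs x) ∧
    (sgn x = false → code (gen x) = x ∧ (ivN ivs x = x → gen x ∈ coxNodes edges) ∧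
      (ivN ivs x ≠ x → sgn (ivN ivs x) = true))
  hTg : T.g = c.g
  hTn : 0 < T.n
  chk_words : wordsSrcOK c ivs (relWords edges gen gn extraPow) nw srcs = true
  hrun : RunCertG c ivs T.n
  chk_tab : tabOK T ivs = true
  chk_pows : T.minsOK (coxPairs edges gen gn ++ extraPow) = true
  chk_tree : T.treeOK = true
  hextra : ∀ {K : Type} [Group K] (f : α → K), (∀ a ∈ coxNodes edges, f a * f a = 1) →
    ((∀ r ∈ extra, FreeGroup.lift f r = 1) ↔
      ∀ p ∈ extraPow, (((List.replicate p.2 p.1).flatten).map
        (fun x => FreeGroup.lift f (lt gen sgn x))).prod = 1)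
  hS : ∀ s, s ∈ S ↔ ∃ w ∈ subW, s = fgWord gen sgn w
  chk_sub : subOK c T subW = true

namespace GenData

variable {edges : List (α × ℕ × α)} {extra : List (FreeGroup α)} {S : Set (FreeGroup α)}
  (D : GenData edges extra S)

/-- the subgroup -/
def H (_D : GenData edges extra S) : Subgroup (CoxPresented α edges extra) :=
  (Subgroup.closure S).map (PresentedGroup.mk (coxRelators edges ∪ {r | r ∈ extra}))

/-- the element of the group for a letter -/
def γ (x : ℕ) : CoxPresented α edges extra :=
  PresentedGroup.mk (coxRelators edges ∪ {r | r ∈ extra}) (lt D.gen D.sgn x)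

theorem of_mul_self {a : α} (ha : a ∈ coxNodes edges) :
    (PresentedGroup.of a : CoxPresented α edges extra) * PresentedGroup.of a = 1 := by
  have hm : (FreeGroup.of a * FreeGroup.of a) ^ coxLabel edges a a ∈
      coxRelators edges ∪ {r | r ∈ extra} :=
    Or.inl ⟨a, ha, a, ha, rfl⟩
  have h1 := PresentedGroup.one_of_mem hm
  have e : coxLabel edges a a = 1 := by simp [coxLabel]
  rw [e, pow_one, map_mul] at h1
  exact h1

theorem iv_lt {x : ℕ} (hx : x < D.c.g) : ivN D.ivs x < D.c.g := by
  have := (iv_spec D.chk_tab (x := x) (by rw [D.hTg]; exact hx)).1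
  rwa [D.hTg] at this

theorem γ_iv : ∀ x, x < D.c.g → ivN D.ivs x < D.c.g ∧ D.γ (ivN D.ivs x) = (D.γ x)⁻¹ := by
  intro x hx
  refine ⟨D.iv_lt hx, ?_⟩
  obtain ⟨h1, h2, h3⟩ := D.hletter x hx
  unfold γ lt
  cases hs : D.sgn x
  · obtain ⟨_, h4, h5⟩ := h3 hs
    by_cases he : ivN D.ivs x = x
    · rw [he, hs, cond_false]
      exact (inv_eq_of_mul_eq_one_left (of_mul_self (h4 he))).symm
    · rw [h5 he, cond_true, cond_false, h1, map_inv]
  · obtain ⟨h4, _⟩ := h2 hs
    rw [h4, cond_false, cond_true, h1, map_inv, inv_inv]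

theorem γ_code (a : α) : D.γ (D.code a) = PresentedGroup.of a := by
  obtain ⟨_, h2, h3⟩ := D.hcode a
  unfold γ lt
  rw [h3, cond_false, h2]
  rfl

/-- every element is a product of letters -/
theorem γ_gen (z : CoxPresented α edges extra) :
    ∃ u : List ℕ, (∀ x ∈ u, x < D.c.g) ∧ z = (u.map D.γ).prod := by
  induction z using PresentedGroup.induction_on with
  | _ w =>
    induction w using FreeGroup.induction_on with
    | C1 => exact ⟨[], by simp, by simp⟩
    | of a =>
      refine ⟨[D.code a], by simpa using (D.hcode a).1, ?_⟩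
      simp only [List.map_cons, List.map_nil, List.prod_cons, List.prod_nil, mul_one]
      rw [D.γ_code]
      rfl
    | inv_of a _ =>
      refine ⟨[ivN D.ivs (D.code a)], by simpa using D.iv_lt (D.hcode a).1, ?_⟩
      simp only [List.map_cons, List.map_nil, List.prod_cons, List.prod_nil, mul_one]
      rw [(D.γ_iv _ (D.hcode a).1).2, D.γ_code, map_inv]
      rfl
    | mul w1 w2 h1 h2 =>
      obtain ⟨u1, hu1, e1⟩ := h1
      obtain ⟨u2, hu2, e2⟩ := h2
      refine ⟨u1 ++ u2, ?_, ?_⟩
      · intro x hx
        rcases List.mem_append.1 hx with hx | hx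
        · exact hu1 x hx
        · exact hu2 x hx
      · rw [map_mul, e1, e2, List.map_append, List.prod_append]

theorem sub_spec : D.subW.length = D.c.nsub ∧
    (∀ k, k < D.c.nsub → unpack (wordAt D.c k) = D.subW.getD k []) ∧
    ∀ w ∈ D.subW, (∀ x ∈ w, x < D.c.g) ∧ D.T.trace 0 w = 0 := by
  have h := D.chk_sub
  simp only [subOK, Bool.and_eq_true] at h
  obtain ⟨h1, h2, h3⟩ := h
  refine ⟨Nat.eq_of_beq_eq_true h1, ?_, ?_⟩
  · intro k hk
    exact eq_of_beq (allBelow_spec _ _ h2 k hk)
  · intro w hw
    have := List.all_eq_true.1 h3 w hw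
    rw [Bool.and_eq_true] at this
    refine ⟨?_, Nat.eq_of_beq_eq_true this.2⟩
    intro x hx
    have := List.all_eq_true.1 this.1 x hx
    rwa [Nat.blt_eq] at this

theorem wordsOK : WordsOK D.c D.γ D.H := by
  refine wordsOK_of_src D.γ_iv D.chk_words ?_ ?_
  · intro w hw
    unfold relWords at hw
    rcases List.mem_append.1 hw with hw | hw
    · unfold coxWordsL at hw
      rw [List.mem_flatMap] at hw
      obtain ⟨i, hi, hw⟩ := hw
      rw [List.mem_map] at hw
      obtain ⟨j, hj, rfl⟩ := hw
      rw [prod_rep2]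
      obtain ⟨hi1, hi2, _, _⟩ := D.hlow i (List.mem_range.1 hi)
      obtain ⟨hj1, hj2, _, _⟩ := D.hlow j (List.mem_range.1 hj)
      have hm : (FreeGroup.of (D.gen i) * FreeGroup.of (D.gen j)) ^
          coxLabel edges (D.gen i) (D.gen j) ∈ coxRelators edges ∪ {r | r ∈ extra} :=
        Or.inl ⟨D.gen i, hi1, D.gen j, hj1, rfl⟩
      have h1 := PresentedGroup.one_of_mem hm
      rw [map_pow, map_mul] at h1
      unfold γ lt
      rw [hi2, hj2, cond_false, cond_false]
      exact h1
    · rw [List.mem_map] at hw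
      obtain ⟨p, hp, rfl⟩ := hw
      have h1 : ∀ r ∈ extra, FreeGroup.lift
          (fun a => (PresentedGroup.of a : CoxPresented α edges extra)) r = 1 := by
        intro r hr
        rw [lift_of_eq_mk]
        exact PresentedGroup.one_of_mem (Or.inr hr)
      have h2 := (D.hextra (fun a => (PresentedGroup.of a : CoxPresented α edges extra))
        (fun a ha => of_mul_self ha)).1 h1 p hp
      rw [← h2]
      congr 1
      apply List.map_congr_left
      intro x _
      unfold γ
      rw [lift_of_eq_mk]
  · intro k hk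
    obtain ⟨h1, h2, _⟩ := D.sub_spec
    rw [h2 k hk]
    have hlt : k < D.subW.length := by rw [h1]; exact hk
    rw [List.getD_eq_getElem _ _ hlt]
    refine ⟨fgWord D.gen D.sgn D.subW[k], Subgroup.subset_closure ?_, ?_⟩
    · exact (D.hS _).2 ⟨_, List.getElem_mem hlt, rfl⟩
    · rw [hom_fgWord]
      rfl

/-- the permutation of a letter -/
def P (x : ℕ) : Equiv.Perm (Fin D.T.n) := perm D.chk_tab x

/-- the permutation of a generator -/
def f (a : α) : Equiv.Perm (Fin D.T.n) := (D.P (D.code a))⁻¹

theorem lift_lt {x : ℕ} (hx : x < D.c.g) :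
    FreeGroup.lift D.f (lt D.gen D.sgn x) = (D.P x)⁻¹ := by
  obtain ⟨h1, h2, h3⟩ := D.hletter x hx
  unfold lt
  cases hs : D.sgn x
  · obtain ⟨h4, _, _⟩ := h3 hs
    rw [cond_false, FreeGroup.lift_apply_of]
    unfold f
    rw [h4]
  · obtain ⟨_, h4⟩ := h2 hs
    rw [cond_true, map_inv, FreeGroup.lift_apply_of]
    unfold f P
    rw [h4, perm_iv D.chk_tab (by rw [D.hTg]; exact hx), inv_inv]

theorem lift_word {w : List ℕ} (hw : ∀ x ∈ w, x < D.c.g) :
    (w.map (fun x => FreeGroup.lift D.f (lt D.gen D.sgn x))).prod =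
      ((w.reverse.map D.P).prod)⁻¹ := by
  rw [← prod_inv_eq]
  congr 1
  apply List.map_congr_left
  intro x hx
  exact D.lift_lt (hw x hx)

theorem P_node_mul_self {x : ℕ} (hx : x < D.gn) : D.P x * D.P x = 1 := by
  obtain ⟨_, _, h3, _⟩ := D.hlow x hx
  have h := perm_iv D.chk_tab (x := x) (by rw [D.hTg]; exact lt_of_lt_of_le hx D.hgn)
  rw [h3] at h
  unfold P
  nth_rewrite 1 [h]
  exact inv_mul_cancel _

theorem pair_eq_one {i j : ℕ} (hij : i < j) (hj : j < D.gn) :
    (D.P j * D.P i) ^ coxLabel edges (D.gen i) (D.gen j) = 1 := by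
  have hm := List.mem_append_left D.extraPow (mem_coxPairs edges D.gen hij hj)
  have := (pow_eq_one_of_minOK D.chk_tab (List.all_eq_true.1 D.chk_pows _ hm)).2
  simpa [P] using this

theorem lift_eq_one : ∀ r ∈ coxRelators edges ∪ {r | r ∈ extra}, FreeGroup.lift D.f r = 1 := by
  intro r hr
  rcases hr with ⟨x, hx, y, hy, rfl⟩ | hr
  · rw [map_pow, map_mul, FreeGroup.lift_apply_of, FreeGroup.lift_apply_of]
    have hcx := D.hnode x hx
    have hcy := D.hnode y hy
    have hgx := (D.hcode x).2.1
    have hgy := (D.hcode y).2.1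
    have key : (D.P (D.code y) * D.P (D.code x)) ^ coxLabel edges x y = 1 := by
      rcases Nat.lt_trichotomy (D.code x) (D.code y) with h | h | h
      · have := D.pair_eq_one h hcy
        rwa [hgx, hgy] at this
      · have hxy : x = y := by rw [← hgx, ← hgy, h]
        subst hxy
        have : coxLabel edges x x = 1 := by simp [coxLabel]
        rw [this, pow_one]
        exact D.P_node_mul_self hcx
      · have := D.pair_eq_one h hcx
        rw [hgx, hgy, coxLabel_comm edges y x] at this
        exact pow_comm_eq_one this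
    unfold f
    rw [← mul_inv_rev, inv_pow, key, inv_one]
  · have hnode : ∀ a ∈ coxNodes edges, D.f a * D.f a = 1 := by
      intro a ha
      unfold f
      rw [← mul_inv_rev, D.P_node_mul_self (D.hnode a ha), inv_one]
    refine (D.hextra D.f hnode).2 ?_ r hr
    intro p hp
    have hm := List.mem_append_right (coxPairs edges D.gen D.gn) hp
    obtain ⟨h1, h2⟩ := rev_prod_eq_one_of_minsOK D.chk_tab D.chk_pows hm
    have hl : ∀ x ∈ (List.replicate p.2 p.1).flatten, x < D.c.g := by
      intro x hx
      rw [List.mem_flatten] at hx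
      obtain ⟨l, hl, hxl⟩ := hx
      rw [List.eq_of_mem_replicate hl] at hxl
      rw [← D.hTg]
      exact h1 x hxl
    rw [D.lift_word hl]
    unfold P
    rw [h2, inv_one]

/-- the action on the rows of the table -/
def ρ : CoxPresented α edges extra →* Equiv.Perm (Fin D.T.n) :=
  PresentedGroup.toGroup D.lift_eq_one

theorem ρ_mk (r : FreeGroup α) : D.ρ (PresentedGroup.mk _ r) = FreeGroup.lift D.f r := by
  have : D.ρ.comp (PresentedGroup.mk _) = FreeGroup.lift D.f := by
    apply FreeGroup.ext_hom
    intro a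
    rw [MonoidHom.comp_apply, FreeGroup.lift_apply_of]
    exact PresentedGroup.toGroup.of _
  rw [← this]
  rfl

/-- the base point -/
def o : Fin D.T.n := ⟨0, D.hTn⟩

theorem fix : ∀ h ∈ D.H, D.ρ h D.o = D.o := by
  intro h hh
  obtain ⟨r, hr, rfl⟩ := hh
  rw [D.ρ_mk]
  have hr' : r ∈ Subgroup.closure S := hr
  induction hr' using Subgroup.closure_induction with
  | mem s hs =>
    obtain ⟨w, hw, rfl⟩ := (D.hS s).1 hs
    obtain ⟨_, _, h3⟩ := D.sub_spec
    obtain ⟨hl, hfix⟩ := h3 w hw
    rw [hom_fgWord, D.lift_word hl, Equiv.Perm.inv_eq_iff_eq]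
    apply Fin.ext
    have hl' : ∀ x ∈ w, x < D.T.g := by
      intro x hx
      rw [D.hTg]
      exact hl x hx
    have := trace_eq D.chk_tab w ⟨0, D.hTn⟩ hl'
    unfold P o
    rw [← this]
    exact hfix.symm
  | one => simp
  | mul s t _ _ hs ht =>
    rw [map_mul, Equiv.Perm.mul_apply, ht (by assumption), hs (by assumption)]
  | inv s _ hs =>
    rw [map_inv, Equiv.Perm.inv_eq_iff_eq]
    exact (hs (by assumption)).symm

theorem trans (a : Fin D.T.n) : ∃ z : CoxPresented α edges extra, D.ρ z D.o = a := by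
  have key : ∀ (k : ℕ) (hk : k < D.T.n), ∃ z : CoxPresented α edges extra,
      (D.ρ z D.o).val = k := by
    intro k
    induction k using Nat.strong_induction_on with
    | _ k ih =>
      intro hk
      by_cases h0 : k = 0
      · subst h0
        exact ⟨1, by simp [o]⟩
      · have ht := allBelow_spec _ _ D.chk_tree k hk
        have hb : Nat.beq k 0 = false := by
          cases hb : Nat.beq k 0
          · rfl
          · exact absurd (Nat.eq_of_beq_eq_true hb) h0
        rw [hb, Bool.false_or, Bool.not_eq_true'] at ht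
        obtain ⟨x, hx, hlt⟩ := allBelow_false _ _ ht
        rw [Bool.not_eq_false', Nat.blt_eq] at hlt
        have hx' : x < D.T.g := hx
        have hxc : x < D.c.g := by rw [← D.hTg]; exact hx'
        obtain ⟨hbn, _⟩ := nxt_spec D.chk_tab hk hx'
        obtain ⟨z, hz⟩ := ih _ hlt hbn
        refine ⟨D.γ x * z, ?_⟩
        unfold γ
        rw [map_mul, Equiv.Perm.mul_apply, D.ρ_mk, D.lift_lt hxc]
        have e : D.ρ z D.o = D.P x ⟨k, hk⟩ := by
          apply Fin.ext
          rw [hz]
          unfold P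
          rw [perm_apply D.chk_tab hx']
        rw [e]
        simp
  obtain ⟨z, hz⟩ := key a.val a.isLt
  exact ⟨z, Fin.ext hz⟩

/-- **the index of the subgroup is the number of rows** -/
theorem index_eq : ((Subgroup.closure S).map
    (PresentedGroup.mk (coxRelators edges ∪ {r | r ∈ extra}))).index = D.T.n := by
  have hle := D.hrun D.γ D.H D.γ_iv D.wordsOK D.γ_gen
  have hdvd := dvd_index_of_action (ρ := D.ρ) (o := D.o) (H := D.H) D.trans D.fix
  exact le_antisymm hle.1 (Nat.le_of_dvd (Nat.pos_of_ne_zero hle.2) hdvd)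

end GenData

end

end Cfsg.Agent.Lib.Helper6.TCG
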