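import Cfsg.Agent.Lib.Helper6.TCChunk

/-! # The check that powers of words act trivially on a coset table, without marks: walk the
cycle of a row until a row is met that is not bigger -/

set_option autoImplicit false

noncomputable section

namespace Cfsg.Agent.Lib.Helper6.TC

open Cfsg.Agent.Lib.Helper6.NatArr Cfsg.Spor

/-- a test over a range follows from the test over its parts -/
theorem chunkBelow_of_chunks {n lo : ℕ} {f : ℕ → Bool} (L K : ℕ) (hL : 0 < L)
    (h : ∀ k < K, chunkBelow n (Nat.add lo (Nat.mul k L)) L f = true) :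
    chunkBelow n lo (Nat.mul K L) f = true := by
  unfold chunkBelow
  apply allBelow_intro
  intro i hi
  have hi' : i < K * L := hi
  have hk : i / L < K := by
    apply Nat.div_lt_of_lt_mul
    rw [Nat.mul_comm]
    exact hi'
  have h1 := allBelow_spec _ _ (h (i / L) hk) (i % L) (Nat.mod_lt _ hL)
  have e : Nat.add (Nat.add lo (Nat.mul (i / L) L)) (i % L) = Nat.add lo i := by
    show lo + i / L * L + i % L = lo + i
    have := Nat.div_add_mod i L
    rw [Nat.mul_comm] at this
    omega
  rw [e] at h1
  exact h1

/-- a step in proving a property of all numbers below a bound, range by range -/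
theorem upto_step {P : ℕ → Prop} {lo hi : ℕ} (h1 : ∀ a, a < lo → P a)
    (h2 : ∀ a, lo ≤ a → a < hi → P a) : ∀ a, a < hi → P a := by
  intro a ha
  rcases Nat.lt_or_ge a lo with h | h
  · exact h1 a h
  · exact h2 a h ha

theorem upto_zero {P : ℕ → Prop} : ∀ a, a < 0 → P a := fun a h => absurd h (Nat.not_lt_zero a)

namespace Tab

variable (T : Tab)

/-- walk the cycle of the word `u` from the row `a` until a row is met that is not bigger than `a`;
if that row is `a` itself, the number of steps has to divide `k` -/
def minWalk (u : List ℕ) (k a : ℕ) : ℕ → ℕ → ℕ → Bool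
  | 0, _, _ => false
  | f + 1, cur, j =>
    force (T.trace cur u) fun nx =>
    bif Nat.blt a nx then minWalk u k a f nx (Nat.succ j)
    else bif Nat.beq nx a then Nat.beq (Nat.mod k (Nat.succ j)) 0 else true

/-- a part of the check that the `k`-th power of the word `u` acts trivially -/
def minOKc (u : List ℕ) (k lo len : ℕ) : Bool :=
  chunkBelow T.n lo len fun a => T.minWalk u k a k a 0

/-- the check that the `k`-th power of the word `u` acts trivially -/
def minOK (u : List ℕ) (k : ℕ) : Bool :=
  (u.all fun x => Nat.blt x T.g) && allBelow T.n fun a => T.minWalk u k a k a 0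

theorem minOKc_of_chunks (u : List ℕ) (k lo L K : ℕ) (hL : 0 < L)
    (h : ∀ i < K, T.minOKc u k (Nat.add lo (Nat.mul i L)) L = true) :
    T.minOKc u k lo (Nat.mul K L) = true :=
  chunkBelow_of_chunks L K hL h

theorem minOK_of_chunks (u : List ℕ) (k L K : ℕ) (hu : (u.all fun x => Nat.blt x T.g) = true)
    (hL : 0 < L) (hn : T.n ≤ K * L)
    (h : ∀ i < K, T.minOKc u k (Nat.mul i L) L = true) : T.minOK u k = true := by
  unfold minOK
  rw [hu, Bool.true_and]
  exact allBelow_of_chunks L K hL hn h

/-- the given powers of words act trivially -/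
def minsOK (ps : List (List ℕ × ℕ)) : Bool := ps.all fun p => T.minOK p.1 p.2

theorem minsOK_cons (p : List ℕ × ℕ) (ps : List (List ℕ × ℕ)) :
    T.minsOK (p :: ps) = (T.minOK p.1 p.2 && T.minsOK ps) := by
  unfold minsOK
  rw [List.all_cons]

theorem minsOK_nil : T.minsOK [] = true := rfl

variable {T}

theorem minWalk_spec (h : T.tabOK = true) (u : List ℕ) (hu : ∀ x ∈ u, x < T.g) (k : ℕ)
    (a : Fin T.n) : ∀ (f : ℕ) (cur : Fin T.n) (j : ℕ),
    T.minWalk u k a.val f cur.val j = true →
    cur = (((u.reverse.map (T.perm h)).prod) ^ j) a →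
    (∃ i, ((((u.reverse.map (T.perm h)).prod) ^ (i + 1)) a = a) ∧ (i + 1) ∣ k) ∨
      ∃ i, (((((u.reverse.map (T.perm h)).prod) ^ (i + 1)) a).val < a.val) := by
  intro f
  induction f with
  | zero => intro cur j hw; simp [minWalk] at hw
  | succ f ih =>
    intro cur j hw hcur
    simp only [minWalk, force_eq] at hw
    have htr := T.trace_eq h u cur hu
    set P := (u.reverse.map (T.perm h)).prod with hP
    have hnx : P cur = (P ^ (j + 1)) a := by
      rw [pow_succ', Equiv.Perm.mul_apply, ← hcur]
    cases hb : Nat.blt a.val (T.trace cur.val u)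
    · rw [hb, cond_false] at hw
      cases hc : Nat.beq (T.trace cur.val u) a.val
      · right
        refine ⟨j, ?_⟩
        rw [← hnx, ← htr]
        have h1 : ¬ a.val < T.trace cur.val u := by
          intro hlt
          rw [← Nat.blt_eq] at hlt
          rw [hlt] at hb
          exact absurd hb (by simp)
        have h2 : T.trace cur.val u ≠ a.val := by
          intro he
          rw [he, Nat.beq_refl] at hc
          exact absurd hc (by simp)
        omega
      · rw [hc, cond_true] at hw
        left
        refine ⟨j, ?_, Nat.dvd_of_mod_eq_zero (Nat.eq_of_beq_eq_true hw)⟩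
        rw [← hnx]
        apply Fin.ext
        rw [← htr]
        exact Nat.eq_of_beq_eq_true hc
    · rw [hb, cond_true] at hw
      rw [htr] at hw
      exact ih (P cur) (Nat.succ j) hw hnx

theorem pow_fix_of_minOK (h : T.tabOK = true) (u : List ℕ) (hu : ∀ x ∈ u, x < T.g) (k : ℕ)
    (hm : ∀ a < T.n, T.minWalk u k a k a 0 = true) :
    ∀ (m : ℕ) (b : Fin T.n), b.val = m → (((u.reverse.map (T.perm h)).prod) ^ k) b = b := by
  intro m
  induction m using Nat.strong_induction_on with
  | _ m ih =>
    intro b hb
    set P := (u.reverse.map (T.perm h)).prod with hP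
    rcases minWalk_spec h u hu k b k b 0 (hm b.val b.isLt) (by simp) with ⟨i, h2, h3⟩ | ⟨i, h2⟩
    · exact pow_fix_of_dvd P h2 h3
    · have h3 := ih _ (hb ▸ h2) ((P ^ (i + 1)) b) rfl
      have h4 : (P ^ (i + 1)) ((P ^ k) b) = (P ^ (i + 1)) b := by
        rw [← Equiv.Perm.mul_apply, ← pow_add, add_comm, pow_add, Equiv.Perm.mul_apply, h3]
      exact (P ^ (i + 1)).injective h4

/-- a checked power of a word is the trivial permutation -/
theorem pow_eq_one_of_minOK (h : T.tabOK = true) {u : List ℕ} {k : ℕ}
    (hp : T.minOK u k = true) :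
    (∀ x ∈ u, x < T.g) ∧ ((u.map (T.perm h)).prod) ^ k = 1 := by
  simp only [minOK, Bool.and_eq_true] at hp
  obtain ⟨h1, h2⟩ := hp
  have hu : ∀ x ∈ u, x < T.g := by
    intro x hx
    have := List.all_eq_true.1 h1 x hx
    rwa [Nat.blt_eq] at this
  refine ⟨hu, ?_⟩
  have h3 := pow_fix_of_minOK h u hu k (allBelow_spec _ _ h2)
  have h4 : ((u.reverse.map (T.perm h)).prod) ^ k = 1 := by
    ext b
    rw [h3 b.val b rfl]
    rfl
  rw [prod_reverse_eq_inv (T.perm_mul_self h), inv_pow, inv_eq_one] at h4
  exact h4

end Tab

section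

variable {α : Type} [DecidableEq α]

/-- **the check of the relators by walks gives the check by tracing** -/
theorem Tab.relsOK_of_minsOK {T : Tab} (h : T.tabOK = true) (edges : List (α × ℕ × α))
    (gen : ℕ → α)
    (extraPow : List (List ℕ × ℕ))
    (hp : T.minsOK (coxPairs edges gen T.g ++ extraPow) = true) :
    T.relsOK (coxWordsL edges gen T.g ++
      extraPow.map fun p => (List.replicate p.2 p.1).flatten) = true := by
  have hall : ∀ p ∈ coxPairs edges gen T.g ++ extraPow,
      (∀ x ∈ p.1, x < T.g) ∧ ((p.1.map (T.perm h)).prod) ^ p.2 = 1 := by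
    intro p hpm
    exact Tab.pow_eq_one_of_minOK h (List.all_eq_true.1 hp p hpm)
  have hcox : ∀ i j, i < T.g → j < T.g →
      (T.perm h i * T.perm h j) ^ coxLabel edges (gen i) (gen j) = 1 := by
    have hlt : ∀ i j, i < j → j < T.g →
        (T.perm h i * T.perm h j) ^ coxLabel edges (gen i) (gen j) = 1 := by
      intro i j hij hj
      have := (hall _ (List.mem_append_left _ (mem_coxPairs edges gen hij hj))).2
      simpa using this
    intro i j hi hj
    rcases Nat.lt_trichotomy i j with hij | hij | hij
    · exact hlt i j hij hj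
    · subst hij
      have : coxLabel edges (gen i) (gen i) = 1 := by simp [coxLabel]
      rw [this, pow_one]
      exact T.perm_mul_self h i
    · have h1 := hlt j i hij hi
      rw [coxLabel_comm edges (gen j) (gen i)] at h1
      have h2 : T.perm h i * T.perm h j = (T.perm h j * T.perm h i)⁻¹ := by
        rw [mul_inv_rev, inv_eq_of_mul_eq_one_left (T.perm_mul_self h i),
          inv_eq_of_mul_eq_one_left (T.perm_mul_self h j)]
      rw [h2, inv_pow, h1, inv_one]
  apply Tab.relsOK_of_forall h
  · intro w hw x hx
    rcases List.mem_append.1 hw with hw | hw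
    · unfold coxWordsL at hw
      rw [List.mem_flatMap] at hw
      obtain ⟨i, hi, hw⟩ := hw
      rw [List.mem_map] at hw
      obtain ⟨j, hj, rfl⟩ := hw
      have hx' : x = i ∨ x = j := by
        unfold rep2 at hx
        rw [List.mem_flatten] at hx
        obtain ⟨l, hl, hxl⟩ := hx
        rw [List.eq_of_mem_replicate hl] at hxl
        simpa using hxl
      rcases hx' with rfl | rfl
      · exact List.mem_range.1 hi
      · exact List.mem_range.1 hj
    · rw [List.mem_map] at hw
      obtain ⟨p, hp', rfl⟩ := hw
      rw [List.mem_flatten] at hx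
      obtain ⟨l, hl, hxl⟩ := hx
      rw [List.eq_of_mem_replicate hl] at hxl
      exact (hall p (List.mem_append_right _ hp')).1 x hxl
  · intro w hw
    rcases List.mem_append.1 hw with hw | hw
    · unfold coxWordsL at hw
      rw [List.mem_flatMap] at hw
      obtain ⟨i, hi, hw⟩ := hw
      rw [List.mem_map] at hw
      obtain ⟨j, hj, rfl⟩ := hw
      rw [prod_rep2]
      exact hcox i j (List.mem_range.1 hi) (List.mem_range.1 hj)
    · rw [List.mem_map] at hw
      obtain ⟨p, hp', rfl⟩ := hw
      rw [Tab.prod_flatten_replicate]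
      exact (hall p (List.mem_append_right _ hp')).2

end

end Cfsg.Agent.Lib.Helper6.TC
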