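import Cfsg.Agent.Lib.Helper6.TCGStatic
import Cfsg.Agent.Lib.Helper6.TCRel3

/-! # The index of a subgroup of a group presented by a Coxeter graph and further relators, when
some generators are not involutions: letters come in inverse pairs

The letters `0, …, g - 1` stand for generators and inverses of generators; a packed map `ivs` takes
a letter to its inverse, and the letters of the nodes of the graph are their own inverses. -/

set_option autoImplicit false

noncomputable section

namespace Cfsg.Agent.Lib.Helper6.TCG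

open Cfsg.Agent.Lib.Helper6.NatArr Cfsg.Agent.Lib.Helper6.TC Cfsg.Agent.Lib.Helper6.TCGS Cfsg.Spor

/-! ### words -/

/-- a word, possibly inverted, then rotated -/
def rotinv (ivs : ℕ) (w : List ℕ) (r : ℕ) (rev : Bool) : List ℕ :=
  (bif rev then w.reverse.map (ivN ivs) else w).rotate r

section

variable {G : Type*} [Group G] {γ : ℕ → G} {ivs g : ℕ}

theorem prod_inv_word (hinv : ∀ x, x < g → ivN ivs x < g ∧ γ (ivN ivs x) = (γ x)⁻¹)
    {w : List ℕ} (hw : ∀ x ∈ w, x < g) :
    ((w.reverse.map (ivN ivs)).map γ).prod = ((w.map γ).prod)⁻¹ := by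
  induction w with
  | nil => simp
  | cons x w ih =>
    have hx := (hinv x (hw x (List.mem_cons_self ..))).2
    have ih' := ih (fun y hy => hw y (List.mem_cons_of_mem _ hy))
    rw [List.reverse_cons, List.map_append, List.map_append, List.prod_append, ih']
    simp [hx, mul_inv_rev]

theorem prod_rotinv_eq_one (hinv : ∀ x, x < g → ivN ivs x < g ∧ γ (ivN ivs x) = (γ x)⁻¹)
    {w : List ℕ} (hw : ∀ x ∈ w, x < g) (h : (w.map γ).prod = 1) (r : ℕ) (rev : Bool) :
    ((rotinv ivs w r rev).map γ).prod = 1 := by
  unfold rotinv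
  rw [List.map_rotate]
  apply prod_rotate_eq_one
  cases rev
  · exact h
  · show ((w.reverse.map (ivN ivs)).map γ).prod = 1
    rw [prod_inv_word hinv hw, h, inv_one]

theorem mem_rotinv (hinv : ∀ x, x < g → ivN ivs x < g) {w : List ℕ} (hw : ∀ x ∈ w, x < g)
    {r : ℕ} {rev : Bool} {x : ℕ} (hx : x ∈ rotinv ivs w r rev) : x < g := by
  unfold rotinv at hx
  rw [List.mem_rotate] at hx
  cases rev
  · exact hw x hx
  · simp only [cond_true, List.mem_map, List.mem_reverse] at hx
    obtain ⟨y, hy, rfl⟩ := hx
    exact hinv y (hw y hy)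

end

/-- the word number `k` comes from the relator word given by the code `src` -/
def srcOK (c : Cfg) (ivs : ℕ) (relWords : List (List ℕ)) (k src : ℕ) : Bool :=
  unpack (wordAt c k) == rotinv ivs (relWords.getD (Nat.div src 512) [])
    (Nat.mod (Nat.div src 2) 256) (Nat.beq (Nat.mod src 2) 1)

/-- all words are accounted for: the subgroup words have letters below `g`, the other words come
from relator words, whose letters are below `g`, and there is nothing after the last word -/
def wordsSrcOK (c : Cfg) (ivs : ℕ) (relWords : List (List ℕ)) (nw : ℕ) (srcs : List ℕ) : Bool :=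
  (allBelow (nw - c.nsub) fun j => srcOK c ivs relWords (c.nsub + j) (srcs.getD j 0)) &&
  ((allBelow c.nsub fun k => (unpack (wordAt c k)).all fun x => Nat.blt x c.g) &&
  ((relWords.all fun w => w.all fun x => Nat.blt x c.g) &&
  (Nat.blt c.wn (Nat.pow 2 (Nat.mul c.S nw)) && Nat.ble c.nsub nw)))

section

variable {G : Type*} [Group G] {γ : ℕ → G} {H : Subgroup G} {c : Cfg} {ivs : ℕ}

/-- the words of a checked configuration are as they should be -/
theorem wordsOK_of_src (hinv : ∀ x, x < c.g → ivN ivs x < c.g ∧ γ (ivN ivs x) = (γ x)⁻¹)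
    {relWords : List (List ℕ)} {nw : ℕ}
    {srcs : List ℕ} (hchk : wordsSrcOK c ivs relWords nw srcs = true)
    (hrel : ∀ w ∈ relWords, (w.map γ).prod = 1)
    (hsub : ∀ k, k < c.nsub → ((unpack (wordAt c k)).map γ).prod ∈ H) : WordsOK c γ H := by
  simp only [wordsSrcOK, Bool.and_eq_true, Nat.blt_eq, Nat.ble_eq] at hchk
  obtain ⟨h1, h2, h3, h4, h5⟩ := hchk
  have h4' : c.wn < 2 ^ (c.S * nw) := h4
  have hbig : ∀ k, nw ≤ k → wordAt c k = 0 := fun k hk => aget_eq_zero_of_lt h4' hk
  have hmid : ∀ k, c.nsub ≤ k → k < nw → ∃ w ∈ relWords ++ [[]], ∃ r rev,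
      unpack (wordAt c k) = rotinv ivs w r rev := by
    intro k hk1 hk2
    have := allBelow_spec _ _ h1 (k - c.nsub) (by omega)
    have e : c.nsub + (k - c.nsub) = k := by omega
    rw [e] at this
    unfold srcOK at this
    have e2 := eq_of_beq this
    refine ⟨_, ?_, _, _, e2⟩
    rw [List.mem_append]
    by_cases hlt : Nat.div (srcs.getD (k - c.nsub) 0) 512 < relWords.length
    · left
      rw [List.getD_eq_getElem _ _ hlt]
      exact List.getElem_mem hlt
    · right
      rw [List.getD_eq_default _ _ (by omega)]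
      simp
  have hrel' : ∀ w ∈ relWords ++ [[]], (w.map γ).prod = 1 ∧ ∀ x ∈ w, x < c.g := by
    intro w hw
    rcases List.mem_append.1 hw with hw | hw
    · refine ⟨hrel w hw, ?_⟩
      intro x hx
      have := List.all_eq_true.1 (List.all_eq_true.1 h3 w hw) x hx
      rwa [Nat.blt_eq] at this
    · simp only [List.mem_singleton] at hw
      subst hw
      simp
  refine ⟨?_, ?_, ?_⟩
  · intro k i hi
    by_cases hk2 : k < nw
    · by_cases hk1 : c.nsub ≤ k
      · obtain ⟨w, hw, r, rev, e⟩ := hmid k hk1 hk2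
        have hm := letter_mem_unpack hi
        rw [e] at hm
        exact mem_rotinv (fun x hx => (hinv x hx).1) (hrel' w hw).2 hm
      · have := allBelow_spec _ _ h2 k (by omega)
        have := List.all_eq_true.1 this _ (letter_mem_unpack hi)
        rwa [Nat.blt_eq] at this
    · rw [hbig k (by omega)] at hi
      simp [wlen] at hi
  · intro k hk1
    rw [ev_unpack]
    by_cases hk2 : k < nw
    · obtain ⟨w, hw, r, rev, e⟩ := hmid k hk1 hk2
      rw [e]
      exact prod_rotinv_eq_one hinv (hrel' w hw).2 (hrel' w hw).1 r rev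
    · rw [hbig k (by omega)]
      simp [unpack, wlen]
  · intro k hk
    rw [ev_unpack]
    exact hsub k hk

end

/-! ### the table -/

/-- the inverse map on the letters below `g` is an involution -/
def ivOK (ivs g : ℕ) : Bool :=
  allBelow g fun x => Nat.blt (ivN ivs x) g && Nat.beq (ivN ivs (ivN ivs x)) x

theorem ivOK_spec {ivs g : ℕ} (h : ivOK ivs g = true) {x : ℕ} (hx : x < g) :
    ivN ivs x < g ∧ ivN ivs (ivN ivs x) = x := by
  have h1 := allBelow_spec _ _ h x hx
  simp only [Bool.and_eq_true, Nat.blt_eq] at h1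
  exact ⟨h1.1, Nat.eq_of_beq_eq_true h1.2⟩

/-- a part of the check of the table: it is complete, with entries in range, and the letter `x`
and its inverse act as inverse maps -/
def tabOKc (T : Tab) (ivs lo len : ℕ) : Bool :=
  chunkBelow T.n lo len fun a => allBelow T.g fun x =>
    force (T.t.entry T.w (Nat.succ (Nat.add (Nat.mul a T.g) x))) fun e =>
      !Nat.beq e 0 && (Nat.blt (Nat.pred e) T.n && Nat.beq (T.nxt (Nat.pred e) (ivN ivs x)) a)

/-- the check of the table -/
def tabOK (T : Tab) (ivs : ℕ) : Bool :=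
  ivOK ivs T.g && allBelow T.n fun a => allBelow T.g fun x =>
    force (T.t.entry T.w (Nat.succ (Nat.add (Nat.mul a T.g) x))) fun e =>
      !Nat.beq e 0 && (Nat.blt (Nat.pred e) T.n && Nat.beq (T.nxt (Nat.pred e) (ivN ivs x)) a)

theorem tabOK_of_chunks (T : Tab) (ivs L K : ℕ) (hiv : ivOK ivs T.g = true) (hL : 0 < L)
    (hn : T.n ≤ K * L) (h : ∀ k < K, tabOKc T ivs (Nat.mul k L) L = true) :
    tabOK T ivs = true := by
  unfold tabOK
  rw [hiv, Bool.true_and]
  exact allBelow_of_chunks L K hL hn h

section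

variable {T : Tab} {ivs : ℕ}

theorem iv_spec (h : tabOK T ivs = true) {x : ℕ} (hx : x < T.g) :
    ivN ivs x < T.g ∧ ivN ivs (ivN ivs x) = x := by
  unfold tabOK at h
  rw [Bool.and_eq_true] at h
  exact ivOK_spec h.1 hx

theorem nxt_spec (h : tabOK T ivs = true) {a x : ℕ} (ha : a < T.n) (hx : x < T.g) :
    T.nxt a x < T.n ∧ T.nxt (T.nxt a x) (ivN ivs x) = a := by
  unfold tabOK at h
  rw [Bool.and_eq_true] at h
  have h1 := allBelow_spec _ _ (allBelow_spec _ _ h.2 a ha) x hx
  simp only [force_eq, Bool.and_eq_true, Nat.blt_eq] at h1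
  obtain ⟨_, h2, h3⟩ := h1
  exact ⟨h2, Nat.eq_of_beq_eq_true h3⟩

theorem fn_val (h : tabOK T ivs = true) {x : ℕ} (hx : x < T.g) (a : Fin T.n) :
    (T.fn x a).val = T.nxt a.val x := by
  unfold Tab.fn
  rw [dif_pos (nxt_spec h a.isLt hx).1]

theorem fn_fn (h : tabOK T ivs = true) {x : ℕ} (hx : x < T.g) (a : Fin T.n) :
    T.fn (ivN ivs x) (T.fn x a) = a := by
  apply Fin.ext
  rw [fn_val h (iv_spec h hx).1, fn_val h hx]
  exact (nxt_spec h a.isLt hx).2

/-- the permutation of a letter -/
def perm (h : tabOK T ivs = true) (x : ℕ) : Equiv.Perm (Fin T.n) :=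
  if hx : x < T.g then
    { toFun := T.fn x
      invFun := T.fn (ivN ivs x)
      left_inv := fn_fn h hx
      right_inv := by
        intro a
        have := fn_fn h (iv_spec h hx).1 a
        rw [(iv_spec h hx).2] at this
        exact this }
  else 1

theorem perm_apply (h : tabOK T ivs = true) {x : ℕ} (hx : x < T.g) (a : Fin T.n) :
    ((perm h x) a).val = T.nxt a.val x := by
  unfold perm
  rw [dif_pos hx]
  exact fn_val h hx a

theorem perm_iv (h : tabOK T ivs = true) {x : ℕ} (hx : x < T.g) :
    perm h (ivN ivs x) = (perm h x)⁻¹ := by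
  apply Equiv.ext
  intro a
  rw [Equiv.Perm.eq_inv_iff_eq]
  apply Fin.ext
  rw [perm_apply h hx, perm_apply h (iv_spec h hx).1]
  have := nxt_spec h a.isLt (iv_spec h hx).1
  rw [(iv_spec h hx).2] at this
  exact this.2

theorem trace_eq (h : tabOK T ivs = true) : ∀ (w : List ℕ) (a : Fin T.n), (∀ x ∈ w, x < T.g) →
    T.trace a.val w = (((w.reverse.map (perm h)).prod) a).val
  | [], a, _ => by simp [Tab.trace]
  | x :: w, a, hw => by
    have hx : x < T.g := hw x (List.mem_cons_self ..)
    unfold Tab.trace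
    rw [force_eq, List.reverse_cons, List.map_append, List.prod_append]
    simp only [List.map_cons, List.map_nil, List.prod_cons, List.prod_nil, mul_one,
      Equiv.Perm.coe_mul, Function.comp_apply]
    rw [← trace_eq h w (perm h x a) (fun y hy => hw y (List.mem_cons_of_mem _ hy)),
      perm_apply h hx]

/-- the product of the inverses of the permutations of the letters of a word -/
theorem prod_inv_eq (P : ℕ → Equiv.Perm (Fin T.n)) (w : List ℕ) :
    (w.map fun x => (P x)⁻¹).prod = ((w.reverse.map P).prod)⁻¹ := by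
  induction w with
  | nil => simp
  | cons x w ih =>
    rw [List.map_cons, List.prod_cons, ih, List.reverse_cons, List.map_append, List.prod_append,
      mul_inv_rev]
    simp

/-! ### the relators, checked by walks -/

theorem minWalk_spec (h : tabOK T ivs = true) (u : List ℕ) (hu : ∀ x ∈ u, x < T.g) (k : ℕ)
    (a : Fin T.n) : ∀ (f : ℕ) (cur : Fin T.n) (j : ℕ),
    T.minWalk u k a.val f cur.val j = true →
    cur = (((u.reverse.map (perm h)).prod) ^ j) a →
    (∃ i, ((((u.reverse.map (perm h)).prod) ^ (i + 1)) a = a) ∧ (i + 1) ∣ k) ∨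
      ∃ i, (((((u.reverse.map (perm h)).prod) ^ (i + 1)) a).val < a.val) := by
  intro f
  induction f with
  | zero => intro cur j hw; simp [Tab.minWalk] at hw
  | succ f ih =>
    intro cur j hw hcur
    simp only [Tab.minWalk, force_eq] at hw
    have htr := trace_eq h u cur hu
    set P := (u.reverse.map (perm h)).prod with hP
    have hnx : P cur = (P ^ (j + 1)) a := by
      rw [pow_succ', Equiv.Perm.mul_apply, ← hcur]
    cases hb : Nat.blt a.val (T.trace cur.val u)
    · rw [hb, cond_false] at hw
      cases hc : Nat.beq (T.trace cur.val u) a.val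
      · right
        refine ⟨j, ?_⟩
        rw [← hnx, ← htr]
        have h1 : ¬ a.val < T.trace cur.val u := by
          intro hlt
          rw [← Nat.blt_eq] at hlt
          rw [hlt] at hb
          exact absurd hb (by simp)
        have h2 : T.trace cur.val u ≠ a.val := by
          intro he
          rw [he, Nat.beq_refl] at hc
          exact absurd hc (by simp)
        omega
      · rw [hc, cond_true] at hw
        left
        refine ⟨j, ?_, Nat.dvd_of_mod_eq_zero (Nat.eq_of_beq_eq_true hw)⟩
        rw [← hnx]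
        apply Fin.ext
        rw [← htr]
        exact Nat.eq_of_beq_eq_true hc
    · rw [hb, cond_true] at hw
      rw [htr] at hw
      exact ih (P cur) (Nat.succ j) hw hnx

theorem pow_fix_of_minOK (h : tabOK T ivs = true) (u : List ℕ) (hu : ∀ x ∈ u, x < T.g) (k : ℕ)
    (hm : ∀ a < T.n, T.minWalk u k a k a 0 = true) :
    ∀ (m : ℕ) (b : Fin T.n), b.val = m → (((u.reverse.map (perm h)).prod) ^ k) b = b := by
  intro m
  induction m using Nat.strong_induction_on with
  | _ m ih =>
    intro b hb
    set P := (u.reverse.map (perm h)).prod with hP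
    rcases minWalk_spec h u hu k b k b 0 (hm b.val b.isLt) (by simp) with ⟨i, h2, h3⟩ | ⟨i, h2⟩
    · exact Tab.pow_fix_of_dvd P h2 h3
    · have h3 := ih _ (hb ▸ h2) ((P ^ (i + 1)) b) rfl
      have h4 : (P ^ (i + 1)) ((P ^ k) b) = (P ^ (i + 1)) b := by
        rw [← Equiv.Perm.mul_apply, ← pow_add, add_comm, pow_add, Equiv.Perm.mul_apply, h3]
      exact (P ^ (i + 1)).injective h4

/-- a checked power of a word is the trivial permutation -/
theorem pow_eq_one_of_minOK (h : tabOK T ivs = true) {u : List ℕ} {k : ℕ}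
    (hp : T.minOK u k = true) :
    (∀ x ∈ u, x < T.g) ∧ ((u.reverse.map (perm h)).prod) ^ k = 1 := by
  simp only [Tab.minOK, Bool.and_eq_true] at hp
  obtain ⟨h1, h2⟩ := hp
  have hu : ∀ x ∈ u, x < T.g := by
    intro x hx
    have := List.all_eq_true.1 h1 x hx
    rwa [Nat.blt_eq] at this
  refine ⟨hu, ?_⟩
  have h3 := pow_fix_of_minOK h u hu k (allBelow_spec _ _ h2)
  ext b
  rw [h3 b.val b rfl]
  rfl

theorem reverse_flatten_replicate (u : List ℕ) : ∀ k,
    ((List.replicate k u).flatten).reverse = (List.replicate k u.reverse).flatten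
  | 0 => by simp
  | k + 1 => by
    rw [List.replicate_succ, List.flatten_cons, List.reverse_append,
      reverse_flatten_replicate u k, List.replicate_succ']
    simp

/-- the words that are checked as powers are trivial permutations, read backwards -/
theorem rev_prod_eq_one_of_minsOK (h : tabOK T ivs = true) {ps : List (List ℕ × ℕ)}
    (hp : T.minsOK ps = true) {p : List ℕ × ℕ} (hpm : p ∈ ps) :
    (∀ x ∈ p.1, x < T.g) ∧
      ((((List.replicate p.2 p.1).flatten).reverse.map (perm h)).prod) = 1 := by
  have h1 := pow_eq_one_of_minOK h (List.all_eq_true.1 hp p hpm)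
  refine ⟨h1.1, ?_⟩
  rw [reverse_flatten_replicate, Tab.prod_flatten_replicate]
  exact h1.2

end

end Cfsg.Agent.Lib.Helper6.TCG

namespace Cfsg.Agent.Lib.Helper6.TCGS

open Cfsg.Agent.Lib.Helper6.NatArr Cfsg.Agent.Lib.Helper6.TC

/-- a part of `finalOK` -/
def SCert.finalOKc (Z : SCert) (n lo len : ℕ) : Bool :=
  chunkBelow n lo len fun a => allBelow Z.c.g fun x =>
    force (Z.rd (Nat.pow 2 Z.W) a x) fun e =>
      !Nat.beq e 0 && Nat.blt (Z.find (Nat.pow 2 Z.W) Z.c.fuel (Nat.pred e)) n

theorem SCert.finalOK_of_chunks (Z : SCert) (n L K : ℕ) (hL : 0 < L) (hn : n ≤ K * L)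
    (h : ∀ k < K, Z.finalOKc n (Nat.mul k L) L = true) : Z.finalOK n = true :=
  allBelow_of_chunks L K hL hn h

end Cfsg.Agent.Lib.Helper6.TCGS
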