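import Cfsg.Agent.Lib.Helper6.TCInst

/-! # Upper bounds for the order of a presented group along a chain of sub-presentations -/

set_option autoImplicit false

namespace Cfsg.Agent.Lib.Helper6.Simp

open Cfsg.Spor

/-- a group with a finite subgroup of finite index is finite, of order at most the product -/
theorem finite_card_le_of_index {G : Type*} [Group G] (H : Subgroup G) {n m : ℕ}
    (hn : H.index = n) (hn0 : n ≠ 0) (hfin : Finite H) (hm : Nat.card H ≤ m) :
    Finite G ∧ Nat.card G ≤ n * m := by
  have hfi : H.FiniteIndex := ⟨by rw [hn]; exact hn0⟩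
  have hG : Finite G := by
    have e := Subgroup.groupEquivQuotientProdSubgroup (s := H)
    have : Finite (G ⧸ H) := Subgroup.finite_quotient_of_finiteIndex
    exact Finite.of_equiv _ e.symm
  refine ⟨hG, ?_⟩
  rw [← Subgroup.card_mul_index H, hn, mul_comm]
  exact Nat.mul_le_mul_left n hm

/-- a group whose trivial subgroup has nonzero index `n` is finite of order `n` -/
theorem finite_card_of_index_bot {G : Type*} [Group G] {n : ℕ}
    (hn : (⊥ : Subgroup G).index = n) (hn0 : n ≠ 0) : Finite G ∧ Nat.card G = n := by
  rw [Subgroup.index_bot] at hn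
  refine ⟨?_, hn⟩
  apply Nat.finite_of_card_ne_zero
  rw [hn]
  exact hn0

section

variable {α β : Type} [DecidableEq α] [DecidableEq β]

/-- a map of generators compatible with the Coxeter graphs and the further relators -/
structure SubPres (edges : List (α × ℕ × α)) (extra : List (FreeGroup α))
    (edges' : List (β × ℕ × β)) (extra' : List (FreeGroup β)) where
  ι : β → α
  hnode : ∀ x ∈ coxNodes edges', ι x ∈ coxNodes edges
  hlabel : ∀ x ∈ coxNodes edges', ∀ y ∈ coxNodes edges',
    coxLabel edges' x y = coxLabel edges (ι x) (ι y)
  hextra : ∀ r ∈ extra', FreeGroup.map ι r ∈ extra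

namespace SubPres

variable {edges : List (α × ℕ × α)} {extra : List (FreeGroup α)}
  {edges' : List (β × ℕ × β)} {extra' : List (FreeGroup β)}
  (P : SubPres edges extra edges' extra')

omit [DecidableEq α] [DecidableEq β] in
theorem lift_of_comp (rels : Set (FreeGroup α)) (ι : β → α) (r : FreeGroup β) :
    FreeGroup.lift (fun b => (PresentedGroup.of (ι b) : PresentedGroup rels)) r =
      PresentedGroup.mk rels (FreeGroup.map ι r) := by
  have : FreeGroup.lift (fun b => (PresentedGroup.of (ι b) : PresentedGroup rels)) =
      (PresentedGroup.mk rels).comp (FreeGroup.map ι) := by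
    ext b
    simp [PresentedGroup.of]
  rw [this]
  rfl

theorem map_mem (r : FreeGroup β) (hr : r ∈ coxRelators edges' ∪ {r | r ∈ extra'}) :
    FreeGroup.map P.ι r ∈ coxRelators edges ∪ {r | r ∈ extra} := by
  rcases hr with ⟨x, hx, y, hy, rfl⟩ | hr
  · left
    refine ⟨P.ι x, P.hnode x hx, P.ι y, P.hnode y hy, ?_⟩
    rw [map_pow, map_mul, FreeGroup.map.of, FreeGroup.map.of, P.hlabel x hx y hy]
  · right
    exact P.hextra r hr

/-- the homomorphism from the group of the sub-presentation -/
def hom : CoxPresented β edges' extra' →* CoxPresented α edges extra :=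
  PresentedGroup.toGroup (f := fun b => PresentedGroup.of (P.ι b)) (by
    intro r hr
    rw [lift_of_comp]
    exact PresentedGroup.one_of_mem (P.map_mem r hr))

theorem hom_of (b : β) : P.hom (PresentedGroup.of b) = PresentedGroup.of (P.ι b) :=
  PresentedGroup.toGroup.of _

/-- the image is the subgroup generated by the images of the generators -/
theorem range_hom : P.hom.range = (Subgroup.closure (Set.range fun b => FreeGroup.of (P.ι b))).map
    (PresentedGroup.mk (coxRelators edges ∪ {r | r ∈ extra})) := by
  rw [MonoidHom.map_closure, ← Set.range_comp, MonoidHom.range_eq_map,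
    ← PresentedGroup.closure_range_of, MonoidHom.map_closure, ← Set.range_comp]
  have : (⇑P.hom ∘ PresentedGroup.of : β → CoxPresented α edges extra) =
      ⇑(PresentedGroup.mk (coxRelators edges ∪ {r | r ∈ extra})) ∘ fun b => FreeGroup.of (P.ι b) := by
    funext b
    exact P.hom_of b
  rw [this]

/-- **the step of the chain**: if the subgroup generated by the images of the generators of the
sub-presentation has index `n`, and the group of the sub-presentation has at most `m` elements,
then the group has at most `n * m` elements -/
theorem finite_card_le (S : Set (FreeGroup α))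
    (hS : S = Set.range fun b => FreeGroup.of (P.ι b)) {n m : ℕ}
    (hidx : ((Subgroup.closure S).map
      (PresentedGroup.mk (coxRelators edges ∪ {r | r ∈ extra}))).index = n) (hn0 : n ≠ 0)
    (hfin : Finite (CoxPresented β edges' extra'))
    (hm : Nat.card (CoxPresented β edges' extra') ≤ m) :
    Finite (CoxPresented α edges extra) ∧ Nat.card (CoxPresented α edges extra) ≤ n * m := by
  rw [hS, ← P.range_hom] at hidx
  have hfr : Finite P.hom.range :=
    Finite.of_surjective P.hom.rangeRestrict P.hom.rangeRestrict_surjective
  have hcr : Nat.card P.hom.range ≤ m :=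
    (Nat.card_le_card_of_surjective _ P.hom.rangeRestrict_surjective).trans hm
  exact finite_card_le_of_index _ hidx hn0 hfr hcr

end SubPres

/-- the base of the chain: an enumeration over the trivial subgroup -/
theorem finite_card_of_index_empty {edges : List (α × ℕ × α)} {extra : List (FreeGroup α)}
    {n : ℕ} (hidx : ((Subgroup.closure (∅ : Set (FreeGroup α))).map
      (PresentedGroup.mk (coxRelators edges ∪ {r | r ∈ extra}))).index = n) (hn0 : n ≠ 0) :
    Finite (CoxPresented α edges extra) ∧ Nat.card (CoxPresented α edges extra) = n := by
  rw [Subgroup.closure_empty, Subgroup.map_bot] at hidx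
  exact finite_card_of_index_bot hidx hn0

end

end Cfsg.Agent.Lib.Helper6.Simp
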