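import Mathlib

/-!
# Permutations of `Fin n` given by lists of natural numbers

`toPerm n l` is the permutation `i ↦ l[i]` when the list `l` is valid (length `n`, entries below `n`,
no repetition), and `1` otherwise.  Composition of lists corresponds to multiplication.
-/

set_option autoImplicit false

namespace Cfsg.Agent.Lib.Helper6.SS

/-- composition of list permutations: `(cmp a b)[i] = a[b[i]]` -/
def cmp (a b : List ℕ) : List ℕ := b.map (fun i => a.getD i 0)

/-- the identity list -/
def idL (n : ℕ) : List ℕ := List.range n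

/-- the validity test -/
def valid (n : ℕ) (l : List ℕ) : Bool :=
  l.length == n && l.all (fun x => decide (x < n)) && decide l.Nodup

/-- validity as a proposition -/
structure Valid (n : ℕ) (l : List ℕ) : Prop where
  len : l.length = n
  lt : ∀ x ∈ l, x < n
  nodup : l.Nodup

theorem valid_iff {n : ℕ} {l : List ℕ} : valid n l = true ↔ Valid n l := by
  simp only [valid, Bool.and_eq_true, beq_iff_eq, List.all_eq_true, decide_eq_true_eq]
  constructor
  · rintro ⟨⟨h1, h2⟩, h3⟩; exact ⟨h1, h2, h3⟩
  · rintro ⟨h1, h2, h3⟩; exact ⟨⟨h1, h2⟩, h3⟩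

variable {n : ℕ}

theorem Valid.getD_lt {l : List ℕ} (h : Valid n l) {i : ℕ} (hi : i < n) : l.getD i 0 < n := by
  rw [List.getD_eq_getElem _ _ (by rw [h.len]; exact hi)]
  exact h.lt _ (List.getElem_mem _)

theorem Valid.getD_inj {l : List ℕ} (h : Valid n l) {i j : ℕ} (hi : i < n) (hj : j < n)
    (hij : l.getD i 0 = l.getD j 0) : i = j := by
  rw [List.getD_eq_getElem _ _ (by rw [h.len]; exact hi),
    List.getD_eq_getElem _ _ (by rw [h.len]; exact hj)] at hij
  exact (List.Nodup.getElem_inj_iff h.nodup).1 hij

/-- the function of a list -/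
def lfn (n : ℕ) (l : List ℕ) (i : Fin n) : Fin n :=
  if h : l.getD i 0 < n then ⟨l.getD i 0, h⟩ else i

theorem lfn_val {l : List ℕ} (h : Valid n l) (i : Fin n) : (lfn n l i : ℕ) = l.getD i 0 := by
  rw [lfn, dif_pos (h.getD_lt i.2)]

theorem lfn_injective {l : List ℕ} (h : Valid n l) : Function.Injective (lfn n l) := by
  intro i j hij
  have := congrArg Fin.val hij
  rw [lfn_val h, lfn_val h] at this
  exact Fin.ext (h.getD_inj i.2 j.2 this)

open Classical in
/-- the permutation of a list -/
noncomputable def toPerm (n : ℕ) (l : List ℕ) : Equiv.Perm (Fin n) :=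
  if h : Valid n l then
    Equiv.ofBijective (lfn n l) (Finite.injective_iff_bijective.1 (lfn_injective h))
  else 1

theorem toPerm_apply {l : List ℕ} (h : Valid n l) (i : Fin n) :
    ((toPerm n l i : Fin n) : ℕ) = l.getD i 0 := by
  rw [toPerm, dif_pos h]
  exact lfn_val h i

theorem cmp_length (a b : List ℕ) : (cmp a b).length = b.length := by
  rw [cmp, List.length_map]

theorem cmp_getD {a b : List ℕ} (hb : Valid n b) {i : ℕ} (hi : i < n) :
    (cmp a b).getD i 0 = a.getD (b.getD i 0) 0 := by
  have h1 : i < (cmp a b).length := by rw [cmp_length, hb.len]; exact hi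
  have h2 : i < b.length := by rw [hb.len]; exact hi
  rw [List.getD_eq_getElem _ _ h1, List.getD_eq_getElem _ _ h2]
  simp only [cmp, List.getElem_map]

theorem Valid.cmp {a b : List ℕ} (ha : Valid n a) (hb : Valid n b) : Valid n (cmp a b) := by
  refine ⟨by rw [cmp_length, hb.len], ?_, ?_⟩
  · intro x hx
    rw [SS.cmp, List.mem_map] at hx
    obtain ⟨y, hy, rfl⟩ := hx
    exact ha.getD_lt (hb.lt y hy)
  · rw [SS.cmp]
    apply List.Nodup.map_on _ hb.nodup
    intro x hx y hy hxy
    exact ha.getD_inj (hb.lt x hx) (hb.lt y hy) hxy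

theorem toPerm_cmp {a b : List ℕ} (ha : Valid n a) (hb : Valid n b) :
    toPerm n (cmp a b) = toPerm n a * toPerm n b := by
  refine Equiv.ext fun i => Fin.ext ?_
  rw [toPerm_apply (ha.cmp hb), Equiv.Perm.mul_apply, toPerm_apply ha, toPerm_apply hb,
    cmp_getD hb i.2]

theorem valid_idL (n : ℕ) : Valid n (idL n) :=
  ⟨List.length_range, fun x hx => List.mem_range.1 hx, List.nodup_range⟩

theorem idL_getD {i : ℕ} (hi : i < n) : (idL n).getD i 0 = i := by
  rw [idL, List.getD_eq_getElem _ _ (by rw [List.length_range]; exact hi), List.getElem_range]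

theorem toPerm_idL (n : ℕ) : toPerm n (idL n) = 1 := by
  refine Equiv.ext fun i => Fin.ext ?_
  rw [toPerm_apply (valid_idL n), idL_getD i.2]
  rfl

theorem toPerm_inj {a b : List ℕ} (ha : Valid n a) (hb : Valid n b)
    (h : toPerm n a = toPerm n b) : a = b := by
  apply List.ext_getElem (by rw [ha.len, hb.len])
  intro i h1 h2
  have hi : i < n := by rw [← ha.len]; exact h1
  have := congrArg (fun σ : Equiv.Perm (Fin n) => ((σ ⟨i, hi⟩ : Fin n) : ℕ)) h
  simp only [toPerm_apply ha, toPerm_apply hb] at this
  rwa [List.getD_eq_getElem _ _ h1, List.getD_eq_getElem _ _ h2] at this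

/-- product of a list of list permutations -/
def prodL (n : ℕ) (us : List (List ℕ)) : List ℕ := us.foldr cmp (idL n)

theorem prodL_nil (n : ℕ) : prodL n [] = idL n := rfl

theorem prodL_cons (n : ℕ) (u : List ℕ) (us : List (List ℕ)) :
    prodL n (u :: us) = cmp u (prodL n us) := rfl

theorem valid_prodL {us : List (List ℕ)} (h : ∀ u ∈ us, Valid n u) : Valid n (prodL n us) := by
  induction us with
  | nil => exact valid_idL n
  | cons u us ih =>
    rw [prodL_cons]
    exact (h u (List.mem_cons_self)).cmp (ih fun v hv => h v (List.mem_cons_of_mem _ hv))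

theorem toPerm_prodL {us : List (List ℕ)} (h : ∀ u ∈ us, Valid n u) :
    toPerm n (prodL n us) = (us.map (toPerm n)).prod := by
  induction us with
  | nil => rw [prodL_nil, toPerm_idL]; rfl
  | cons u us ih =>
    have h' : ∀ v ∈ us, Valid n v := fun v hv => h v (List.mem_cons_of_mem _ hv)
    rw [prodL_cons, toPerm_cmp (h u (List.mem_cons_self)) (valid_prodL h'), ih h',
      List.map_cons, List.prod_cons]

/-! ### straight-line programs -/

/-- run a straight-line program: each instruction appends the product of two earlier entries -/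
def slpRun (gens : List (List ℕ)) (prog : List (ℕ × ℕ)) : List (List ℕ) :=
  prog.foldl (fun E ij => E ++ [cmp (E.getD ij.1 []) (E.getD ij.2 [])]) gens

/-- the indices of a program are in range -/
def progOK : ℕ → List (ℕ × ℕ) → Bool
  | _, [] => true
  | m, ij :: rest => decide (ij.1 < m) && decide (ij.2 < m) && progOK (m + 1) rest

theorem slpRun_mem (H : Subgroup (Equiv.Perm (Fin n))) (prog : List (ℕ × ℕ))
    (gens : List (List ℕ)) (hg : ∀ g ∈ gens, Valid n g ∧ toPerm n g ∈ H)
    (hok : progOK gens.length prog = true) :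
    ∀ e ∈ slpRun gens prog, Valid n e ∧ toPerm n e ∈ H := by
  induction prog generalizing gens with
  | nil => exact hg
  | cons ij prog ih =>
    rw [progOK, Bool.and_eq_true, Bool.and_eq_true, decide_eq_true_eq, decide_eq_true_eq] at hok
    obtain ⟨⟨h1, h2⟩, h3⟩ := hok
    rw [slpRun, List.foldl_cons]
    apply ih
    · intro e he
      rw [List.mem_append, List.mem_singleton] at he
      rcases he with he | rfl
      · exact hg e he
      · rw [List.getD_eq_getElem _ _ h1, List.getD_eq_getElem _ _ h2]
        obtain ⟨v1, m1⟩ := hg _ (List.getElem_mem h1)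
        obtain ⟨v2, m2⟩ := hg _ (List.getElem_mem h2)
        exact ⟨v1.cmp v2, by rw [toPerm_cmp v1 v2]; exact H.mul_mem m1 m2⟩
    · rw [List.length_append, List.length_singleton]
      exact h3

end Cfsg.Agent.Lib.Helper6.SS
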