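import Cfsg.Agent.Lib.Helper6.TCAct

/-! # A criterion for simplicity of a transitive permutation group

A finite group acting faithfully and transitively on `n` points, whose suborbit lengths admit no
proper block size, and which is generated by elements of a prime order `p` such that the `p`-part
of its order divides `n`, is simple. -/

set_option autoImplicit false

namespace Cfsg.Agent.Lib.Helper6.Simp

open Cfsg.Agent.Lib.Helper6.TC

section

theorem perm_inv_apply_self {α : Type*} (f : Equiv.Perm α) (x : α) : f⁻¹ (f x) = x :=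
  Equiv.Perm.inv_eq_iff_eq.2 rfl

variable {G : Type*} [Group G] {n : ℕ}

/-- a subset of the points that contains the base point and is a union of the base point and of
some of the pairwise disjoint sets `Δ i` has `1 + ∑ s i` elements -/
theorem ncard_eq_of_union {r : ℕ} (o : Fin n) (Δ : Fin r → Set (Fin n))
    (hdisj : ∀ i j, i ≠ j → ∀ b, b ∈ Δ i → b ∉ Δ j) (ho : ∀ i, o ∉ Δ i)
    (s : Fin r → ℕ) (hs : ∀ i, (Δ i).ncard = s i) (I : Finset (Fin r)) (X : Set (Fin n))
    (hX : X = {o} ∪ ⋃ i ∈ I, Δ i) : X.ncard = 1 + ∑ i ∈ I, s i := by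
  classical
  have hXf : X = ((insert o (I.biUnion fun i => (Δ i).toFinset) : Finset (Fin n)) : Set (Fin n)) := by
    rw [hX]
    ext b
    simp only [Set.singleton_union, Set.mem_insert_iff, Set.mem_iUnion, exists_prop,
      Finset.coe_insert, Finset.coe_biUnion, Finset.mem_coe, Set.coe_toFinset]
  rw [hXf, Set.ncard_coe_finset, Finset.card_insert_of_notMem, Finset.card_biUnion, add_comm]
  · congr 1
    apply Finset.sum_congr rfl
    intro i _
    rw [← hs i, Set.ncard_eq_toFinset_card']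
  · intro i _ j _ hij
    rw [Function.onFun, Finset.disjoint_left]
    intro b hb hb'
    rw [Set.mem_toFinset] at hb hb'
    exact hdisj i j hij b hb hb'
  · simp only [Finset.mem_biUnion, Set.mem_toFinset, not_exists, not_and]
    intro i _
    exact ho i

/-- **the criterion** -/
theorem isSimpleGroup_of_cert [Finite G] (ρ : G →* Equiv.Perm (Fin n))
    (hinj : Function.Injective ρ) (o : Fin n) (htrans : ∀ a : Fin n, ∃ z : G, ρ z o = a)
    (H : Subgroup G) (hH : ∀ h ∈ H, ρ h o = o)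
    {r : ℕ} (Δ : Fin r → Set (Fin n)) (hΔ : ∀ i, ∃ a, Δ i = imgOrbit ρ H a)
    (hcover : ∀ b, b = o ∨ ∃ i, b ∈ Δ i)
    (hdisj : ∀ i j, i ≠ j → ∀ b, b ∈ Δ i → b ∉ Δ j) (ho : ∀ i, o ∉ Δ i)
    (s : Fin r → ℕ) (hs : ∀ i, (Δ i).ncard = s i)
    (harith : ∀ I : Finset (Fin r), I.Nonempty → (1 + ∑ i ∈ I, s i) ∣ n → 1 + ∑ i ∈ I, s i = n)
    (p : ℕ) (hcop : (Nat.card G / n).Coprime p)
    (hgen : Subgroup.closure {g : G | g ^ p = 1} = ⊤) (hn : 1 < n) : IsSimpleGroup G := by
  classical
  let _ : MulAction G (Fin n) := MulAction.compHom (Fin n) ρ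
  have hsmul : ∀ (g : G) (b : Fin n), g • b = ρ g b := fun _ _ => rfl
  have : MulAction.IsPretransitive G (Fin n) := ⟨fun a b => by
    obtain ⟨x, hx⟩ := htrans a
    obtain ⟨y, hy⟩ := htrans b
    refine ⟨y * x⁻¹, ?_⟩
    rw [hsmul, map_mul, map_inv, Equiv.Perm.mul_apply, ← hx, perm_inv_apply_self, hy]⟩
  have hnt : Nontrivial G := by
    by_contra hG
    rw [not_nontrivial_iff_subsingleton] at hG
    have hall : ∀ a : Fin n, a = o := fun a => by
      obtain ⟨z, hz⟩ := htrans a
      rw [← hz, Subsingleton.elim z 1, map_one]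
      rfl
    have h01 := (hall ⟨0, by omega⟩).trans (hall ⟨1, hn⟩).symm
    simp [Fin.ext_iff] at h01
  refine { toNontrivial := hnt, eq_bot_or_eq_top_of_normal := ?_ }
  intro N hN
  by_cases hbot : N = ⊥
  · exact Or.inl hbot
  right
  -- the orbit of the base point under `N`
  set X : Set (Fin n) := MulAction.orbit N o with hXdef
  have hXmem : ∀ b, b ∈ X ↔ ∃ x ∈ N, ρ x o = b := by
    intro b
    constructor
    · rintro ⟨⟨x, hx⟩, rfl⟩
      exact ⟨x, hx, rfl⟩
    · rintro ⟨x, hx, rfl⟩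
      exact ⟨⟨x, hx⟩, rfl⟩
  have hoX : o ∈ X := MulAction.mem_orbit_self o
  have hblock : MulAction.IsBlock G X := MulAction.IsBlock.orbit_of_normal o
  have hdvd : X.ncard ∣ n := by
    have := hblock.ncard_dvd_card ⟨o, hoX⟩
    rwa [Nat.card_fin] at this
  -- invariance under the subgroup `H`
  have hinv : ∀ h ∈ H, ∀ b ∈ X, ρ h b ∈ X := by
    intro h hh b hb
    obtain ⟨x, hx, rfl⟩ := (hXmem b).1 hb
    refine (hXmem _).2 ⟨h * x * h⁻¹, hN.conj_mem x hx h, ?_⟩
    rw [map_mul, map_mul, map_inv, Equiv.Perm.mul_apply, Equiv.Perm.mul_apply]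
    congr 2
    rw [Equiv.Perm.inv_eq_iff_eq]
    exact (hH h hh).symm
  have hsub : ∀ i, (∃ b ∈ Δ i, b ∈ X) → Δ i ⊆ X := by
    intro i ⟨b, hbΔ, hbX⟩
    obtain ⟨a, ha⟩ := hΔ i
    rw [ha] at hbΔ ⊢
    obtain ⟨h, hh, rfl⟩ := hbΔ
    have haX : a ∈ X := by
      have := hinv h⁻¹ (H.inv_mem hh) _ hbX
      rwa [map_inv, perm_inv_apply_self] at this
    rintro c ⟨h', hh', rfl⟩
    exact hinv h' hh' a haX
  set I : Finset (Fin r) := Finset.univ.filter fun i => Δ i ⊆ X with hIdef
  have hXeq : X = {o} ∪ ⋃ i ∈ I, Δ i := by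
    ext b
    simp only [Set.singleton_union, Set.mem_insert_iff, Set.mem_iUnion, exists_prop]
    constructor
    · intro hb
      rcases hcover b with rfl | ⟨i, hi⟩
      · exact Or.inl rfl
      · refine Or.inr ⟨i, ?_, hi⟩
        rw [hIdef, Finset.mem_filter]
        exact ⟨Finset.mem_univ _, hsub i ⟨b, hi, hb⟩⟩
    · rintro (rfl | ⟨i, hi, hb⟩)
      · exact hoX
      · rw [hIdef, Finset.mem_filter] at hi
        exact hi.2 hb
  have hcard : X.ncard = 1 + ∑ i ∈ I, s i := ncard_eq_of_union o Δ hdisj ho s hs I X hXeq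
  -- `N` moves the base point
  have hmove : ∃ b ∈ X, b ≠ o := by
    by_contra hcon
    push Not at hcon
    apply hbot
    rw [Subgroup.eq_bot_iff_forall]
    intro x hx
    apply hinj
    rw [map_one]
    ext a
    obtain ⟨z, rfl⟩ := htrans a
    have h1 : ρ (z⁻¹ * x * z) o = o :=
      hcon _ ((hXmem _).2 ⟨z⁻¹ * x * z, by
        have := hN.conj_mem x hx z⁻¹
        rwa [inv_inv] at this, rfl⟩)
    rw [map_mul, map_mul, map_inv, Equiv.Perm.mul_apply, Equiv.Perm.mul_apply,
      Equiv.Perm.inv_eq_iff_eq] at h1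
    rw [Equiv.Perm.coe_one, id_eq, h1]
  have hIne : I.Nonempty := by
    obtain ⟨b, hbX, hbo⟩ := hmove
    rcases hcover b with rfl | ⟨i, hi⟩
    · exact absurd rfl hbo
    · refine ⟨i, ?_⟩
      rw [hIdef, Finset.mem_filter]
      exact ⟨Finset.mem_univ _, hsub i ⟨b, hi, hbX⟩⟩
  have hXn : X.ncard = n := by
    rw [hcard]
    apply harith I hIne
    rw [← hcard]
    exact hdvd
  -- so `n` divides the order of `N`
  have hnN : n ∣ Nat.card N := by
    have h1 : (MulAction.stabilizer N o).index = X.ncard := MulAction.index_stabilizer N o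
    rw [← hXn, ← h1]
    exact Subgroup.index_dvd_card _
  have hn0 : 0 < n := by omega
  have hidx : N.index ∣ Nat.card G / n := by
    obtain ⟨t, ht⟩ := hnN
    have h2 := Subgroup.card_mul_index N
    rw [ht] at h2
    have : Nat.card G / n = t * N.index := by
      rw [← h2, mul_assoc, Nat.mul_div_cancel_left _ hn0]
    rw [this]
    exact Dvd.intro_left _ rfl
  have hcopN : N.index.Coprime p := Nat.Coprime.coprime_dvd_left hidx hcop
  rw [eq_top_iff, ← hgen, Subgroup.closure_le]
  intro g hg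
  have hg' : g ^ p = 1 := hg
  have h1 : ((g : G ⧸ N)) ^ p = 1 := by
    rw [← QuotientGroup.mk_pow, hg', QuotientGroup.mk_one]
  have h2 : orderOf (g : G ⧸ N) ∣ p := orderOf_dvd_of_pow_eq_one h1
  have h3 : orderOf (g : G ⧸ N) ∣ N.index := by
    rw [Subgroup.index]
    exact orderOf_dvd_natCard _
  have h4 : orderOf (g : G ⧸ N) = 1 := Nat.eq_one_of_dvd_coprimes hcopN h3 h2
  rw [orderOf_eq_one_iff] at h4
  exact (QuotientGroup.eq_one_iff g).1 h4

end

end Cfsg.Agent.Lib.Helper6.Simp
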