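import Cfsg.Agent.Lib.Helper6.J3ChkDefs

/-! # The chain of 3·J₃: check of the top level, part d -/

set_option autoImplicit false
set_option maxRecDepth 1000000

namespace Cfsg.Agent.Lib.Helper6.J3

set_option maxHeartbeats 0 in
theorem chk0d : chunkOK B0d C0d = true := by decide +kernel

end Cfsg.Agent.Lib.Helper6.J3
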