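import Cfsg.Agent.Lib.Helper6.CodSys

/-! # Exact orders of generated subgroups, cores, and the abstract criterion for a simple
central quotient -/

set_option autoImplicit false

namespace Cfsg.Agent.Lib.Helper6.Cod

open Cfsg.Agent.Lib.Helper6.SylowSimple

section exact

variable {M : Type*} [Monoid M] {K : Coding M} {Γ : Type*} [Group Γ] {ι : Γ →* M}
  {H : Subgroup Γ}

/-- the test of a list of elements given by words in the letters `LQ` -/
def wordsOK (mul : ℕ → ℕ → ℕ) (one : ℕ) (S LQ : List ℕ) (D : List (ℕ × List ℕ)) : Bool :=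
  D.all (fun d => Nat.beq d.1 (evalW mul one S d.2) && d.2.all fun l => LQ.contains l) &&
    nodupB (D.map fun d => d.1)

theorem wordsOK_code {mul : ℕ → ℕ → ℕ} {one : ℕ} {S LQ : List ℕ} {D : List (ℕ × List ℕ)}
    (h : wordsOK mul one S LQ D = true) : ∀ d ∈ D, d.1 = evalW mul one S d.2 := by
  unfold wordsOK at h
  rw [Bool.and_eq_true, List.all_eq_true] at h
  intro d hd
  have := h.1 d hd
  rw [Bool.and_eq_true] at this
  exact Nat.eq_of_beq_eq_true this.1

/-- the subgroup generated by the letters in a list -/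
def lettersClosure (s : Sys K ι H) (LQ : List ℕ) : Subgroup Γ :=
  Subgroup.closure {x | ∃ i ∈ LQ, x = s.gen i}

theorem lettersClosure_le (s : Sys K ι H) (LQ : List ℕ) : lettersClosure s LQ ≤ H := by
  unfold lettersClosure
  rw [Subgroup.closure_le]
  rintro x ⟨i, -, rfl⟩
  exact s.hH i

theorem evalGL_mem_lettersClosure (s : Sys K ι H) (LQ : List ℕ) (w : List ℕ)
    (hw : w.all (fun l => LQ.contains l) = true) : evalGL s.gen w ∈ lettersClosure s LQ := by
  unfold evalGL
  apply Subgroup.list_prod_mem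
  intro x hx
  obtain ⟨i, hi, rfl⟩ := List.mem_map.1 hx
  rw [List.all_eq_true] at hw
  have := hw i hi
  exact Subgroup.subset_closure ⟨i, by simpa using this, rfl⟩

/-- **exact order and enumeration of a generated subgroup** -/
theorem closure_exact [Finite Γ] (hι : Function.Injective ι) (s : Sys K ι H) (LQ : List ℕ)
    (Ls : List Level) (D : List (ℕ × List ℕ))
    (hchain : chainOK K.mul K.one (LQ.map fun i => s.codes.getD i K.one) Ls = true)
    (hD : wordsOK K.mul K.one s.codes LQ D = true)
    (hlen : (Ls.map fun L => L.U.length).prod = D.length) :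
    Nat.card (lettersClosure s LQ) = D.length ∧
      ∀ q ∈ lettersClosure s LQ, ∃ d ∈ D, q = evalGL s.gen d.2 := by
  classical
  unfold wordsOK at hD
  rw [Bool.and_eq_true, List.all_eq_true] at hD
  obtain ⟨hD1, hD2⟩ := hD
  have hnd := nodupB_nodup hD2
  have hcode : ∀ d ∈ D, d.1 = evalW K.mul K.one s.codes d.2 := by
    intro d hd
    have := hD1 d hd
    rw [Bool.and_eq_true] at this
    exact Nat.eq_of_beq_eq_true this.1
  have hmemQ : ∀ d ∈ D, evalGL s.gen d.2 ∈ lettersClosure s LQ := by
    intro d hd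
    have := hD1 d hd
    rw [Bool.and_eq_true] at this
    exact evalGL_mem_lettersClosure s LQ _ this.2
  have hval : ∀ d ∈ D, ι (evalGL s.gen d.2) = K.den d.1 := by
    intro d hd
    rw [val_evalGL s.hgen, ← hcode d hd]
  have hinj : ∀ d ∈ D, ∀ d' ∈ D, evalGL s.gen d.2 = evalGL s.gen d'.2 → d = d' := by
    intro d hd d' hd' h
    have hc : d.1 = d'.1 := by
      apply K.den_inj
      · rw [hcode d hd]; exact canon_evalW K _ _
      · rw [hcode d' hd']; exact canon_evalW K _ _
      · rw [← hval d hd, ← hval d' hd', h]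
    exact List.inj_on_of_nodup_map hnd hd hd' hc
  have hupper : Nat.card (lettersClosure s LQ) ≤ D.length := by
    rw [← hlen]
    apply card_le_of_chain K ι hι _ hchain
    intro g hg
    refine mem_Nmon_of_mem_closure K ι ?_ hg
    rintro t ⟨i, hi, rfl⟩
    rw [s.hgen]
    exact den_mem_Nmon K (List.mem_map.2 ⟨i, hi, rfl⟩)
  set Fimg : Finset Γ := (D.map fun d => evalGL s.gen d.2).toFinset with hF
  have hFcard : Fimg.card = D.length := by
    rw [hF, List.toFinset_card_of_nodup, List.length_map]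
    exact List.Nodup.map_on hinj (List.Nodup.of_map _ hnd)
  have hsub : (Fimg : Set Γ) ⊆ (lettersClosure s LQ : Set Γ) := by
    intro x hx
    rw [Finset.mem_coe, hF, List.mem_toFinset, List.mem_map] at hx
    obtain ⟨d, hd, rfl⟩ := hx
    exact hmemQ d hd
  have hfin : (lettersClosure s LQ : Set Γ).Finite := Set.toFinite _
  have hcardQ : Nat.card (lettersClosure s LQ) = (lettersClosure s LQ : Set Γ).ncard := rfl
  have hle : D.length ≤ (lettersClosure s LQ : Set Γ).ncard := by
    rw [← hFcard, ← Set.ncard_coe_finset]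
    exact Set.ncard_le_ncard hsub hfin
  have heq : (Fimg : Set Γ) = (lettersClosure s LQ : Set Γ) := by
    apply Set.eq_of_subset_of_ncard_le hsub _ hfin
    rw [Set.ncard_coe_finset, hFcard, ← hcardQ]
    exact hupper
  refine ⟨le_antisymm hupper (hcardQ ▸ hle), ?_⟩
  intro q hq
  have : q ∈ (Fimg : Set Γ) := by rw [heq]; exact hq
  rw [Finset.mem_coe, hF, List.mem_toFinset, List.mem_map] at this
  obtain ⟨d, hd, rfl⟩ := this
  exact ⟨d, hd, rfl⟩

/-- the test that every element of the list outside `Zc` has a conjugate outside the list -/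
def coreOK (mul : ℕ → ℕ → ℕ) (one : ℕ) (S : List ℕ) (D : List (ℕ × List ℕ)) (Zc : List ℕ)
    (Wc : List (List ℕ)) : Bool :=
  D.all fun d => memB d.1 Zc || Wc.any fun w =>
    !(memB (mul (mul (evalW mul one S w) d.1) (evalW mul one S (invW w))) (D.map fun d => d.1))

/-- a normal subgroup of `H` inside the listed set consists of elements with codes in `Zc` -/
theorem coreOK_sound (s : Sys K ι H) (D : List (ℕ × List ℕ))
    (Zc : List ℕ) (Wc : List (List ℕ))
    (hD : ∀ d ∈ D, d.1 = evalW K.mul K.one s.codes d.2)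
    (hcore : coreOK K.mul K.one s.codes D Zc Wc = true)
    (N : Subgroup H) (hN : N.Normal)
    (hND : ∀ n ∈ N, ∃ d ∈ D, (n : Γ) = evalGL s.gen d.2) :
    ∀ n ∈ N, ∃ c ∈ Zc, ι (n : Γ) = K.den c := by
  intro n hn
  obtain ⟨d, hd, hnd⟩ := hND n hn
  have hval : ι (n : Γ) = K.den d.1 := by rw [hnd, val_evalGL s.hgen, ← hD d hd]
  unfold coreOK at hcore
  rw [List.all_eq_true] at hcore
  have h1 := hcore d hd
  rw [Bool.or_eq_true] at h1
  rcases h1 with h1 | h1
  · exact ⟨d.1, memB_iff.1 h1, hval⟩
  · exfalso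
    rw [List.any_eq_true] at h1
    obtain ⟨w, -, hw⟩ := h1
    set g : H := ⟨evalGL s.gen w, evalGL_mem H s.hH w⟩ with hg
    have hconj : g * n * g⁻¹ ∈ N := hN.conj_mem n hn g
    obtain ⟨d', hd', hnd'⟩ := hND _ hconj
    have hval' : ι ((g * n * g⁻¹ : H) : Γ) = K.den d'.1 := by
      rw [hnd', val_evalGL s.hgen, ← hD d' hd']
    have hval'' : ι ((g * n * g⁻¹ : H) : Γ) =
        K.den (K.mul (K.mul (evalW K.mul K.one s.codes w) d.1)
          (evalW K.mul K.one s.codes (invW w))) := by
      rw [K.den_mul, K.den_mul, ← val_evalGL s.hgen, ← val_evalGL s.hgen, evalGL_invW s.hinv,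
        ← hval]
      simp only [Subgroup.coe_mul, Subgroup.coe_inv, map_mul, hg]
    have hc : K.mul (K.mul (evalW K.mul K.one s.codes w) d.1)
        (evalW K.mul K.one s.codes (invW w)) = d'.1 := by
      apply K.den_inj
      · exact K.canon_mul _ _
      · rw [hD d' hd']; exact canon_evalW K _ _
      · rw [← hval'', hval']
    rw [hc] at hw
    have : memB d'.1 (D.map fun d => d.1) = true := memB_iff.2 (List.mem_map.2 ⟨d', hd', rfl⟩)
    rw [this] at hw
    exact absurd hw (by simp)

end exact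

section abstract

variable {G : Type*} [Group G]

/-- a normal `p`-subgroup lies in every Sylow `p`-subgroup -/
theorem normal_pgroup_le_sylow [Finite G] {p : ℕ} [Fact p.Prime] (P : Sylow p G)
    (N : Subgroup G) (hN : N.Normal) (hp : IsPGroup p N) : N ≤ (P : Subgroup G) := by
  obtain ⟨Q, hQ⟩ := hp.exists_le_sylow
  obtain ⟨g, hg⟩ := MulAction.exists_smul_eq G Q P
  intro n hn
  rw [← hg, Sylow.coe_subgroup_smul, Subgroup.mem_pointwise_smul_iff_inv_smul_mem,
    MulAut.smul_def, ← map_inv, MulAut.conj_apply, inv_inv]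
  have := hN.conj_mem n hn g⁻¹
  rw [inv_inv] at this
  exact hQ this

/-- a subgroup of the right order inside `H` gives a Sylow subgroup of `H` -/
theorem exists_sylow_of_subgroup {Γ : Type*} [Group Γ] [Finite Γ] (H Q : Subgroup Γ) (p k : ℕ)
    [hp : Fact p.Prime] (hle : Q ≤ H) (hcard : Nat.card Q = p ^ k)
    (hidx : ¬ p ∣ Nat.card H / p ^ k) :
    ∃ P : Sylow p H, ∀ e : H, e ∈ (P : Subgroup H) ↔ e.1 ∈ Q := by
  have hc : Nat.card (Q.subgroupOf H) = p ^ k := by
    rw [← hcard]
    exact Nat.card_congr (Subgroup.subgroupOfEquivOfLe hle).toEquiv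
  have hpg : IsPGroup p (Q.subgroupOf H) := IsPGroup.of_card hc
  have hindex : (Q.subgroupOf H).index = Nat.card H / p ^ k := by
    have h2 := Subgroup.card_mul_index (Q.subgroupOf H)
    rw [hc] at h2
    rw [← h2, Nat.mul_div_cancel_left _ (pow_pos hp.out.pos k)]
  refine ⟨hpg.toSylow (by rw [hindex]; exact hidx), fun e => ?_⟩
  show e ∈ Q.subgroupOf H ↔ _
  rw [Subgroup.mem_subgroupOf]

/-- proper normal subgroups are small, if the Sylow subgroups for all primes but `r` consist of
elements normally generating the group and the normal subgroups inside a Sylow `r`-subgroup are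
small -/
theorem proper_normal_le [Finite G] (r k m : ℕ) [Fact r.Prime] (hcard : Nat.card G = r ^ k * m)
    (hm : ∀ p : ℕ, p.Prime → p ∣ m → ∃ (_ : Fact p.Prime) (P : Sylow p G),
      ∀ e ∈ (P : Subgroup G), e ≠ 1 → Subgroup.normalClosure {e} = ⊤)
    (P : Sylow r G) (Zs : Subgroup G)
    (hcore : ∀ N : Subgroup G, N.Normal → N ≤ (P : Subgroup G) → N ≤ Zs) :
    ∀ N : Subgroup G, N.Normal → N ≠ ⊤ → N ≤ Zs := by
  intro N hN hne
  have hr : r.Prime := Fact.out
  have hprime : ∀ {d : ℕ}, d.Prime → d ∣ Nat.card N → d = r := by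
    intro d hd hdN
    have hdG : d ∣ r ^ k * m := by
      rw [← hcard]; exact hdN.trans (Subgroup.card_subgroup_dvd_card N)
    rcases (Nat.Prime.dvd_mul hd).1 hdG with h | h
    · exact (Nat.prime_dvd_prime_iff_eq hd hr).1 (hd.dvd_of_dvd_pow h)
    · exfalso
      obtain ⟨hf, Pd, hPd⟩ := hm d hd h
      exact hne (eq_top_of_dvd d Pd hPd N hN hdN)
  have hpow := Nat.eq_prime_pow_of_unique_prime_dvd (Nat.card_pos (α := N)).ne' hprime
  have hpg : IsPGroup r N := IsPGroup.of_card hpow
  exact hcore N hN (normal_pgroup_le_sylow P N hN hpg)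

/-- **the centre and the simplicity of the central quotient** -/
theorem center_eq_and_simple (Zs : Subgroup G)
    (hprop : ∀ N : Subgroup G, N.Normal → N ≠ ⊤ → N ≤ Zs) (hZ : Zs ≤ Subgroup.center G)
    (hab : Subgroup.center G ≠ ⊤) :
    Subgroup.center G = Zs ∧ IsSimpleGroup (G ⧸ Subgroup.center G) := by
  have hC : Subgroup.center G = Zs :=
    le_antisymm (hprop _ inferInstance hab) hZ
  refine ⟨hC, ?_⟩
  have hnt : Nontrivial (G ⧸ Subgroup.center G) := by
    obtain ⟨g, hg⟩ : ∃ g : G, g ∉ Subgroup.center G := by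
      by_contra h
      exact hab (eq_top_iff.2 fun g _ => by
        by_contra hg
        exact h ⟨g, hg⟩)
    refine ⟨⟨(g : G ⧸ Subgroup.center G), 1, ?_⟩⟩
    intro h
    exact hg ((QuotientGroup.eq_one_iff g).1 h)
  refine { exists_pair_ne := hnt.exists_pair_ne, eq_bot_or_eq_top_of_normal := ?_ }
  intro Nb hNb
  set N : Subgroup G := Nb.comap (QuotientGroup.mk' (Subgroup.center G)) with hNdef
  have hNn : N.Normal := hNb.comap _
  by_cases htop : N = ⊤
  · right
    rw [eq_top_iff]
    intro x _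
    obtain ⟨g, rfl⟩ := QuotientGroup.mk_surjective x
    have : g ∈ N := by rw [htop]; exact Subgroup.mem_top g
    exact this
  · left
    rw [eq_bot_iff]
    intro x hx
    obtain ⟨g, rfl⟩ := QuotientGroup.mk_surjective x
    have hgN : g ∈ N := hx
    have hgC : g ∈ Subgroup.center G := by
      rw [hC]; exact hprop N hNn htop hgN
    rw [Subgroup.mem_bot]
    exact (QuotientGroup.eq_one_iff g).2 hgC

end abstract

end Cfsg.Agent.Lib.Helper6.Cod
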