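import Cfsg.Agent.Lib.Helper6.J3ChkDefs
import Cfsg.Agent.Lib.Helper6.CodGroup
import Cfsg.Agent.Lib.Helper6.J3SylData
import Cfsg.Agent.Lib.Helper6.J3P3Data

/-! # 3·J₃: the finite checks other than the top level of the chain -/

set_option autoImplicit false
set_option maxRecDepth 1000000

namespace Cfsg.Agent.Lib.Helper6.J3

open Cfsg.Agent.Lib.Helper6.Cod Cfsg.Agent.Lib.Helper6.F4

set_option maxHeartbeats 0 in
theorem chk_tail : chainOK lmul lone S1c tailLevels = true := by decide +kernel

theorem chk_codes : extCodes lmul lone [ca, cai, cb, cbi] ws = codesX := by decide +kernel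

theorem chk_inv : lmul ca cai = lone ∧ lmul cai ca = lone ∧ lmul cb cbi = lone ∧
    lmul cbi cb = lone := by decide +kernel

theorem chk_wordA : genA = wordA.map (evalW lmul lone codesX) := by decide +kernel
theorem chk_wordE : genE = wordE.map (evalW lmul lone codesX) := by decide +kernel
theorem chk_wordD : genD = wordD.map (evalW lmul lone codesX) := by decide +kernel
theorem chk_wordB : genB = wordB.map (evalW lmul lone codesX) := by decide +kernel
theorem chk_wordC : genC = wordC.map (evalW lmul lone codesX) := by decide +kernel

theorem chk_ab : ca = lmul (genC.getD 1 lone) (genB.getD 5 lone) ∧ cb = genD.getD 2 lone := by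
  decide +kernel

set_option maxHeartbeats 0 in
theorem chk_syl2 : sylOK lmul lone codesX [ca, cb] root2 sylD2 = true := by decide +kernel
set_option maxHeartbeats 0 in
theorem chk_syl5 : sylOK lmul lone codesX [ca, cb] root5 sylD5 = true := by decide +kernel
set_option maxHeartbeats 0 in
theorem chk_syl17 : sylOK lmul lone codesX [ca, cb] root17 sylD17 = true := by decide +kernel
set_option maxHeartbeats 0 in
theorem chk_syl19 : sylOK lmul lone codesX [ca, cb] root19 sylD19 = true := by decide +kernel

theorem chk_len : sylD2.length = 128 ∧ sylD5.length = 5 ∧ sylD17.length = 17 ∧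
    sylD19.length = 19 ∧ L3.length = 729 := by decide +kernel

set_option maxHeartbeats 0 in
theorem chk_chain3 : chainOK lmul lone (LQ3.map fun i => codesX.getD i lone) chain3 = true := by
  decide +kernel

set_option maxHeartbeats 0 in
theorem chk_L3 : wordsOK lmul lone codesX LQ3 L3 = true := by decide +kernel

theorem chk_prod3 : (chain3.map fun L => L.U.length).prod = L3.length := by decide +kernel

set_option maxHeartbeats 0 in
theorem chk_core : coreOK lmul lone codesX L3 Zc Wc = true := by decide +kernel

/-- the scalar: central, of order three -/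
theorem chk_z : Zc = [lone, codesX.getD 8 lone, lmul (codesX.getD 8 lone) (codesX.getD 8 lone)] ∧
    lmul (codesX.getD 8 lone) ca = lmul ca (codesX.getD 8 lone) ∧
    lmul (codesX.getD 8 lone) cb = lmul cb (codesX.getD 8 lone) ∧
    lmul (codesX.getD 8 lone) (lmul (codesX.getD 8 lone) (codesX.getD 8 lone)) = lone ∧
    codesX.getD 8 lone ≠ lone ∧ lmul ca cb ≠ lmul cb ca ∧ codesX.getD 8 lone < 2 ^ 162 := by
  decide +kernel

end Cfsg.Agent.Lib.Helper6.J3
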