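import Cfsg.Agent.Lib.Helper6.F4Den

/-! # The defining matrices of 3·J₃, entry by entry, as symbols `0, 1, ω, 1 + ω` -/

set_option autoImplicit false

namespace Cfsg.Agent.Lib.Helper6.J3

open Cfsg.Spor Cfsg.Agent.Lib.Helper6.F4

section

variable (F : Type*) [Field F] (ω : F)

/-- the four elements of the field, by number -/
def φ : ℕ → F
  | 0 => 0
  | 1 => 1
  | 2 => ω
  | 3 => 1 + ω
  | _ => 0

end

/-- the symbol of an entry of a coded matrix -/
def sym (c i j : ℕ) : ℕ := bt c (9 * i + j) + 2 * bt c (81 + (9 * i + j))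

section

variable {F : Type*} [Field F] {ω : F}

theorem den_eq_φ (c : ℕ) (w z : F9) : den F ω c w z = φ F ω (sym c (idx w) (idx z)) := by
  unfold den sym
  rw [bt_eq, bt_eq]
  cases c.testBit (9 * idx w + idx z) <;> cases c.testBit (81 + (9 * idx w + idx z)) <;>
    simp [β, φ]

/-- the symbol of a power of `ω` -/
def pw (n : ZMod 3) : ℕ := [1, 2, 3].getD n.val 0

theorem omegaPow_eq (hω : ω ^ 2 + ω + 1 = 0) (h2 : (2 : F) = 0) (n : ZMod 3) :
    omegaPow F ω n = φ F ω (pw n) := by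
  have hω' : ω ^ 2 = 1 + ω := by linear_combination hω - (ω + 1) * h2
  unfold omegaPow pw
  fin_cases n
  · show ω ^ 0 = (1 : F)
    simp
  · show ω ^ 1 = ω
    simp
  · show ω ^ 2 = 1 + ω
    exact hω'

/-- symbols of the entries of `A_Z` -/
def sA (Z w z : F9) : ℕ := if w = z then pw (Z.1 * w.1 + Z.2 * w.2) else 0
/-- symbols of the entries of `E_Z` -/
def sE (Z w z : F9) : ℕ := if w = z then pw ((Z.1 - w.1) ^ 2 + (Z.2 - w.2) ^ 2) else 0
/-- symbols of the coefficients of `D_Z` -/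
def sLam (Z z : F9) : ℕ :=
  if z = 0 then 1
  else if F9.div Z z = F9.I - F9.one then 2
  else if F9.div Z z = -F9.I - F9.one then 3
  else 1
/-- symbols of the entries of `D_Z` -/
def sD (Z w z : F9) : ℕ := if w = z + Z then sLam Z z else 0
/-- symbols of the entries of `B_Z` -/
def sB (Z w z : F9) : ℕ := if w = F9.mul Z z then 1 else 0
/-- symbols of the entries of `C_Z` -/
def sC (Z w z : F9) : ℕ :=
  if z = 0 then (if w = 0 then 1 else 0)
  else if w = -F9.div Z z ∨ w = F9.mul F9.I (F9.div Z z) ∨ w = -F9.mul F9.I (F9.div Z z) then 1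
  else 0

theorem j3A_eq (hω : ω ^ 2 + ω + 1 = 0) (h2 : (2 : F) = 0) (Z w z : F9) :
    j3A F ω Z w z = φ F ω (sA Z w z) := by
  unfold j3A sA
  rw [Matrix.diagonal_apply]
  split_ifs
  · exact omegaPow_eq hω h2 _
  · rfl

theorem j3E_eq (hω : ω ^ 2 + ω + 1 = 0) (h2 : (2 : F) = 0) (Z w z : F9) :
    j3E F ω Z w z = φ F ω (sE Z w z) := by
  unfold j3E sE
  rw [Matrix.diagonal_apply]
  split_ifs
  · exact omegaPow_eq hω h2 _
  · rfl

theorem j3Lam_eq (hω : ω ^ 2 + ω + 1 = 0) (h2 : (2 : F) = 0) (Z z : F9) :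
    j3Lam F ω Z z = φ F ω (sLam Z z) := by
  have hω' : ω ^ 2 = 1 + ω := by linear_combination hω - (ω + 1) * h2
  unfold j3Lam sLam
  split_ifs
  · rfl
  · rfl
  · exact hω'
  · rfl

theorem j3D_eq (hω : ω ^ 2 + ω + 1 = 0) (h2 : (2 : F) = 0) (Z w z : F9) :
    j3D F ω Z w z = φ F ω (sD Z w z) := by
  unfold j3D sD
  rw [Matrix.of_apply]
  split_ifs
  · exact j3Lam_eq hω h2 _ _
  · rfl

theorem j3B_eq (Z w z : F9) : j3B F Z w z = φ F ω (sB Z w z) := by
  unfold j3B sB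
  rw [Matrix.of_apply]
  split_ifs <;> rfl

theorem j3C_eq (Z w z : F9) : j3C F Z w z = φ F ω (sC Z w z) := by
  unfold j3C sC
  rw [Matrix.of_apply]
  split_ifs <;> rfl

/-- a coded matrix is a given matrix, if the symbols agree -/
theorem den_eq_of_sym {c : ℕ} {A : Matrix F9 F9 F} {sf : F9 → F9 → ℕ}
    (hA : ∀ w z, A w z = φ F ω (sf w z)) (h : ∀ w z, sym c (idx w) (idx z) = sf w z) :
    den F ω c = A := by
  ext w z
  rw [den_eq_φ, h, hA]

end

end Cfsg.Agent.Lib.Helper6.J3
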