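import Cfsg.Agent.Lib.Helper6.J3Chk0a
import Cfsg.Agent.Lib.Helper6.J3Chk0b
import Cfsg.Agent.Lib.Helper6.J3Chk0c
import Cfsg.Agent.Lib.Helper6.J3Chk0d
import Cfsg.Agent.Lib.Helper6.J3Chk1
import Cfsg.Agent.Lib.Helper6.J3Sym

/-! # The group 3·J₃ of 9 × 9 matrices over a field with four elements: order, centre, and the
simplicity of the central quotient -/

set_option autoImplicit false
set_option maxRecDepth 1000000

namespace Cfsg.Agent.Lib.Helper6.J3

open Cfsg.Spor Cfsg.Agent.Lib.Helper6.Cod Cfsg.Agent.Lib.Helper6.F4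
  Cfsg.Agent.Lib.Helper6.SylowSimple

/-! ### the defining generators, as coded matrices -/

theorem symA_ok : ∀ Z w z : F9, sym (genA.getD (idx Z) lone) (idx w) (idx z) = sA Z w z := by
  decide +kernel
theorem symE_ok : ∀ Z w z : F9, sym (genE.getD (idx Z) lone) (idx w) (idx z) = sE Z w z := by
  decide +kernel
theorem symD_ok : ∀ Z w z : F9, sym (genD.getD (idx Z) lone) (idx w) (idx z) = sD Z w z := by
  decide +kernel
theorem symB_ok : ∀ Z w z : F9, Z ≠ 0 →
    sym (genB.getD (idx Z) lone) (idx w) (idx z) = sB Z w z := by decide +kernel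
theorem symC_ok : ∀ Z w z : F9, Z ≠ 0 →
    sym (genC.getD (idx Z) lone) (idx w) (idx z) = sC Z w z := by decide +kernel

/-- the top level of the chain -/
def L0 : Level := ⟨B0.flatten, C0, S1c⟩

theorem chk_prod : (((L0 :: tailLevels : List Level).map
    fun L => L.U.length).prod) = 150698880 := by decide +kernel

theorem chk_one_mem : lone ∈ B0.flatten := by decide +kernel

theorem chk_lens : B0.flatten.length ≤ C0.length ∧ B0a.flatten.length = C0a.length ∧
    B0b.flatten.length = C0b.length ∧ B0c.flatten.length = C0c.length := by decide +kernel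

section

variable {F : Type*} [Field F] [Finite F] {ω : F} (hω : ω ^ 2 + ω + 1 = 0) (h2 : (2 : F) = 0)

/-- the inclusion of the general linear group into the matrices -/
abbrev ι (F : Type*) [Field F] : GL F9 F →* Matrix F9 F9 F := Units.coeHom _

theorem ι_inj : Function.Injective (ι F) := fun _ _ h => Units.ext h

/-- the invertible matrix of a code with an inverse -/
def unitOf (c c' : ℕ) (h : lmul c c' = lone) (h' : lmul c' c = lone) : GL F9 F :=
  ⟨den F ω c, den F ω c', by rw [← den_mul hω h2, h, den_one],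
    by rw [← den_mul hω h2, h', den_one]⟩

/-- the first generator -/
def aΓ : GL F9 F := unitOf hω h2 ca cai chk_inv.1 chk_inv.2.1
/-- the second generator -/
def bΓ : GL F9 F := unitOf hω h2 cb cbi chk_inv.2.2.1 chk_inv.2.2.2

/-- the group generated by the two generators -/
def G₂ : Subgroup (GL F9 F) := Subgroup.closure {aΓ hω h2, bΓ hω h2}

/-- the system of the two generators -/
def base : Sys (coding hω h2) (ι F) (G₂ hω h2) :=
  Sys.base2 (aΓ hω h2) (bΓ hω h2) ca cai cb cbi rfl rfl rfl rfl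

/-- the system of all letters -/
def sys : Sys (coding hω h2) (ι F) (G₂ hω h2) := (base hω h2).extendAll ws

theorem sys_codes : (sys hω h2).codes = codesX := by
  unfold sys
  rw [Sys.codes_extendAll]
  exact chk_codes

theorem sys_hgen (i : ℕ) : ι F ((sys hω h2).gen i) = den F ω (codesX.getD i lone) := by
  have := (sys hω h2).hgen i
  rw [sys_codes] at this
  exact this

theorem val_evalGL' (w : List ℕ) :
    ι F (evalGL (sys hω h2).gen w) = den F ω (evalW lmul lone codesX w) := by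
  have := val_evalGL (sys hω h2).hgen w
  rw [sys_codes] at this
  exact this

attribute [local irreducible] sys

/-! ### the order is at most 150698880 -/

theorem level0 : LevelProp (coding hω h2) [ca, cb] L0 := by
  obtain ⟨l0, la, lb, lc⟩ := chk_lens
  unfold L0
  apply levelProp_of_rows (coding hω h2) B0 81 S1c [ca, cb] C0 chk_one_mem l0
  unfold B0 C0
  apply rows_append la (fun uc h => List.all_eq_true.1 chk0a uc h)
  apply rows_append lb (fun uc h => List.all_eq_true.1 chk0b uc h)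
  apply rows_append lc (fun uc h => List.all_eq_true.1 chk0c uc h)
  exact fun uc h => List.all_eq_true.1 chk0d uc h

attribute [local irreducible] Tfin in
theorem card_le : Nat.card (G₂ hω h2) ≤ 150698880 := by
  classical
  have hmem : ∀ g ∈ G₂ hω h2,
      ι F g ∈ Tfin (coding hω h2) (L0 :: tailLevels) := by
    intro g hg
    have hchain1 : chainOK (coding hω h2).mul (coding hω h2).one L0.S' tailLevels = true :=
      chk_tail
    apply chain_sound_cons (coding hω h2) L0 tailLevels [ca, cb] (level0 hω h2) hchain1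
    refine mem_Nmon_of_mem_closure (coding hω h2) (ι F) ?_ hg
    rintro t (rfl | rfl)
    · exact den_mem_Nmon (coding hω h2) (s := ca) (by simp)
    · exact den_mem_Nmon (coding hω h2) (s := cb) (by simp)
  have := card_le_of_mem_Tfin (coding hω h2) (ι F) ι_inj (G₂ hω h2) hmem
  exact this.trans_eq chk_prod

/-! ### the Sylow subgroups for the primes 2, 5, 17, 19 -/

theorem aΓ_mem : aΓ hω h2 ∈ G₂ hω h2 := Subgroup.subset_closure (by simp)
theorem bΓ_mem : bΓ hω h2 ∈ G₂ hω h2 := Subgroup.subset_closure (by simp)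

theorem syl_spec {R : List Root} {D : List SylEntry}
    (hD : sylOK lmul lone codesX [ca, cb] R D = true) :
    ∃ Fs : Finset (GL F9 F), 1 ∈ Fs ∧ (∀ a ∈ Fs, ∀ b ∈ Fs, a * b ∈ Fs) ∧
      (∀ a ∈ Fs, a ∈ G₂ hω h2) ∧ Fs.card = D.length ∧
      ∀ (a : GL F9 F) (ha : a ∈ G₂ hω h2), a ∈ Fs → a ≠ 1 →
        Subgroup.normalClosure ({⟨a, ha⟩} : Set ↥(G₂ hω h2)) = ⊤ := by
  classical
  have hD' : sylOK (coding hω h2).mul (coding hω h2).one (sys hω h2).codes [ca, cb] R D = true := by
    rw [sys_codes]; exact hD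
  obtain ⟨Fs, h1, h2', h3, h4, h5⟩ := sylOK_sound (ι := ι F) ι_inj (sys hω h2).hgen
    (sys hω h2).hinv (G₂ hω h2) (sys hω h2).hH hD'
  refine ⟨Fs, h1, h2', h3, h4, fun a ha haF hne => ?_⟩
  have i1 := h5 a ha haF hne ca (by simp) (aΓ hω h2) rfl
  have i2 := h5 a ha haF hne cb (by simp) (bΓ hω h2) rfl
  exact normalClosure_eq_top_of_gens rfl i1 i2

/-! ### the Sylow 3-subgroup -/

/-- the Sylow 3-subgroup -/
def Q3 : Subgroup (GL F9 F) := lettersClosure (sys hω h2) LQ3

theorem Q3_le : Q3 hω h2 ≤ G₂ hω h2 := lettersClosure_le _ _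

theorem Q3_exact : Nat.card (Q3 hω h2) = 729 ∧
    ∀ q ∈ Q3 hω h2, ∃ d ∈ L3, q = evalGL (sys hω h2).gen d.2 := by
  have hchain : chainOK (coding hω h2).mul (coding hω h2).one
      (LQ3.map fun i => (sys hω h2).codes.getD i (coding hω h2).one) chain3 = true := by
    rw [sys_codes]; exact chk_chain3
  have hD : wordsOK (coding hω h2).mul (coding hω h2).one (sys hω h2).codes LQ3 L3 = true := by
    rw [sys_codes]; exact chk_L3
  have := closure_exact (ι := ι F) ι_inj (sys hω h2) LQ3 chain3 L3 hchain hD chk_prod3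
  rw [chk_len.2.2.2.2] at this
  exact this

/-! ### the order -/

theorem card_G₂ : Nat.card (G₂ hω h2) = 150698880 := by
  classical
  obtain ⟨F2, a1, a2, a3, a4, -⟩ := syl_spec hω h2 chk_syl2
  obtain ⟨F5, c1, c2, c3, c4, -⟩ := syl_spec hω h2 chk_syl5
  obtain ⟨F17, d1, d2, d3, d4, -⟩ := syl_spec hω h2 chk_syl17
  obtain ⟨F19, e1, e2, e3, e4, -⟩ := syl_spec hω h2 chk_syl19
  obtain ⟨l2, l5, l17, l19, -⟩ := chk_len
  have h2' := card_dvd_of_finset (G₂ hω h2) F2 a1 a2 a3
  have h5 := card_dvd_of_finset (G₂ hω h2) F5 c1 c2 c3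
  have h17 := card_dvd_of_finset (G₂ hω h2) F17 d1 d2 d3
  have h19 := card_dvd_of_finset (G₂ hω h2) F19 e1 e2 e3
  have h3 : 729 ∣ Nat.card (G₂ hω h2) := by
    rw [← (Q3_exact hω h2).1]
    exact Subgroup.card_dvd_of_le (Q3_le hω h2)
  rw [a4, l2] at h2'
  rw [c4, l5] at h5
  rw [d4, l17] at h17
  rw [e4, l19] at h19
  have hdvd : 150698880 ∣ Nat.card (G₂ hω h2) := by
    have s1 : 128 * 729 ∣ Nat.card (G₂ hω h2) :=
      Nat.Coprime.mul_dvd_of_dvd_of_dvd (by norm_num) h2' h3
    have s2 : 128 * 729 * 5 ∣ Nat.card (G₂ hω h2) :=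
      Nat.Coprime.mul_dvd_of_dvd_of_dvd (by norm_num) s1 h5
    have s3 : 128 * 729 * 5 * 17 ∣ Nat.card (G₂ hω h2) :=
      Nat.Coprime.mul_dvd_of_dvd_of_dvd (by norm_num) s2 h17
    have s4 : 128 * 729 * 5 * 17 * 19 ∣ Nat.card (G₂ hω h2) :=
      Nat.Coprime.mul_dvd_of_dvd_of_dvd (by norm_num) s3 h19
    exact s4
  exact le_antisymm (card_le hω h2) (Nat.le_of_dvd Nat.card_pos hdvd)

/-- the Sylow step, for one prime -/
theorem syl_step (p k : ℕ) [Fact p.Prime] {R : List Root} {D : List SylEntry}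
    (hD : sylOK lmul lone codesX [ca, cb] R D = true)
    (hlen : D.length = p ^ k) (hidx : ¬ p ∣ 150698880 / p ^ k) :
    ∃ P : Sylow p ↥(G₂ hω h2), ∀ e ∈ (P : Subgroup ↥(G₂ hω h2)), e ≠ 1 →
      Subgroup.normalClosure ({e} : Set ↥(G₂ hω h2)) = ⊤ := by
  obtain ⟨Fs, h1, h2', h3, h4, h5⟩ := syl_spec hω h2 hD
  obtain ⟨P, hP⟩ := exists_sylow_of_finset (G₂ hω h2) p k Fs h1 h2' h3 (h4.trans hlen)
    (by rw [card_G₂]; exact hidx)
  refine ⟨P, fun e he hne => ?_⟩
  exact h5 e.1 e.2 ((hP e).1 he) (fun h => hne (Subtype.ext h))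

/-! ### the centre and the simple quotient -/

/-- the scalar, as an element of the group -/
def zG : ↥(G₂ hω h2) := ⟨(sys hω h2).gen 8, (sys hω h2).hH 8⟩

theorem ι_z : ι F (zG hω h2).1 = den F ω (codesX.getD 8 lone) := sys_hgen hω h2 8

theorem z_comm (g : GL F9 F) (hg : g ∈ G₂ hω h2) : Commute g (zG hω h2).1 := by
  unfold G₂ at hg
  induction hg using Subgroup.closure_induction with
  | mem x hx =>
    rcases hx with rfl | rfl
    · apply ι_inj
      rw [map_mul, map_mul, ι_z]
      show den F ω ca * _ = _ * den F ω ca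
      rw [← den_mul hω h2, ← den_mul hω h2, chk_z.2.1]
    · apply ι_inj
      rw [map_mul, map_mul, ι_z]
      show den F ω cb * _ = _ * den F ω cb
      rw [← den_mul hω h2, ← den_mul hω h2, chk_z.2.2.1]
  | one => exact Commute.one_left _
  | mul x y _ _ hx hy => exact hx.mul_left hy
  | inv x _ hx => exact hx.inv_left

theorem z_pow_three : zG hω h2 ^ 3 = 1 := by
  apply Subtype.ext
  apply ι_inj
  rw [pow_three]
  show ι F ((zG hω h2).1 * ((zG hω h2).1 * (zG hω h2).1)) = ι F 1
  rw [map_mul, map_mul, ι_z, ← den_mul hω h2, ← den_mul hω h2, chk_z.2.2.2.1, map_one, den_one]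

theorem z_ne_one : zG hω h2 ≠ 1 := by
  intro h
  have h1 : ι F (zG hω h2).1 = ι F 1 := by rw [h]; rfl
  rw [ι_z, map_one, ← den_one (F := F) (ω := ω)] at h1
  have := den_inj hω h2 _ _ chk_z.2.2.2.2.2.2 (coding hω h2).canon_one h1
  exact chk_z.2.2.2.2.1 this

theorem card_zpowers : Nat.card (Subgroup.zpowers (zG hω h2)) = 3 := by
  rw [Nat.card_zpowers]
  have : Fact (Nat.Prime 3) := ⟨Nat.prime_three⟩
  exact orderOf_eq_prime (z_pow_three hω h2) (z_ne_one hω h2)

theorem zpowers_le_center : Subgroup.zpowers (zG hω h2) ≤ Subgroup.center ↥(G₂ hω h2) := by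
  rw [Subgroup.zpowers_le, Subgroup.mem_center_iff]
  intro g
  apply Subtype.ext
  exact z_comm hω h2 g.1 g.2

theorem center_ne_top : Subgroup.center ↥(G₂ hω h2) ≠ ⊤ := by
  intro h
  have hb : (⟨bΓ hω h2, bΓ_mem hω h2⟩ : ↥(G₂ hω h2)) ∈ Subgroup.center ↥(G₂ hω h2) := by
    rw [h]; exact Subgroup.mem_top _
  rw [Subgroup.mem_center_iff] at hb
  have h1 := congrArg Subtype.val (hb ⟨aΓ hω h2, aΓ_mem hω h2⟩)
  have h3 : aΓ hω h2 * bΓ hω h2 = bΓ hω h2 * aΓ hω h2 := h1
  have h4 := congrArg (ι F) h3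
  rw [map_mul, map_mul] at h4
  have h5 : den F ω (lmul ca cb) = den F ω (lmul cb ca) := by
    rw [den_mul hω h2, den_mul hω h2]; exact h4
  exact chk_z.2.2.2.2.2.1 (den_inj hω h2 _ _ (lmul_lt _ _) (lmul_lt _ _) h5)

/-- the primes dividing the index of the Sylow 3-subgroup -/
theorem prime_cases {p : ℕ} (hp : p.Prime) (hpd : p ∣ 206720) :
    p = 2 ∨ p = 5 ∨ p = 17 ∨ p = 19 := by
  have hp' : p ∣ 2 ^ 7 * 5 * 17 * 19 := by norm_num; exact hpd
  rcases (Nat.Prime.dvd_mul hp).1 hp' with h | h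
  · rcases (Nat.Prime.dvd_mul hp).1 h with h | h
    · rcases (Nat.Prime.dvd_mul hp).1 h with h | h
      · left
        exact (Nat.prime_dvd_prime_iff_eq hp Nat.prime_two).1 (hp.dvd_of_dvd_pow h)
      · right; left
        exact (Nat.prime_dvd_prime_iff_eq hp Nat.prime_five).1 h
    · right; right; left
      exact (Nat.prime_dvd_prime_iff_eq hp (by norm_num)).1 h
  · right; right; right
    exact (Nat.prime_dvd_prime_iff_eq hp (by norm_num)).1 h

theorem proper_normal (N : Subgroup ↥(G₂ hω h2)) (hN : N.Normal) (hne : N ≠ ⊤) :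
    N ≤ Subgroup.zpowers (zG hω h2) := by
  have : Fact (Nat.Prime 3) := ⟨Nat.prime_three⟩
  obtain ⟨l2, l5, l17, l19, -⟩ := chk_len
  obtain ⟨hQcard, hQel⟩ := Q3_exact hω h2
  obtain ⟨P3, hP3⟩ := exists_sylow_of_subgroup (G₂ hω h2) (Q3 hω h2) 3 6 (Q3_le hω h2)
    (by rw [hQcard]; norm_num) (by rw [card_G₂]; norm_num)
  refine proper_normal_le 3 6 206720 (by rw [card_G₂]; norm_num) ?_ P3 _ ?_ N hN hne
  · intro p hp hpd
    rcases prime_cases hp hpd with rfl | rfl | rfl | rfl
    · have : Fact (Nat.Prime 2) := ⟨hp⟩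
      exact ⟨inferInstance, syl_step hω h2 2 7 chk_syl2 (by rw [l2]; norm_num) (by norm_num)⟩
    · have : Fact (Nat.Prime 5) := ⟨hp⟩
      exact ⟨inferInstance, syl_step hω h2 5 1 chk_syl5 (by rw [l5]; norm_num) (by norm_num)⟩
    · have : Fact (Nat.Prime 17) := ⟨hp⟩
      exact ⟨inferInstance, syl_step hω h2 17 1 chk_syl17 (by rw [l17]; norm_num) (by norm_num)⟩
    · have : Fact (Nat.Prime 19) := ⟨hp⟩
      exact ⟨inferInstance, syl_step hω h2 19 1 chk_syl19 (by rw [l19]; norm_num) (by norm_num)⟩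
  · intro N' hN' hle n hn
    have hD : ∀ d ∈ L3, d.1 = evalW (coding hω h2).mul (coding hω h2).one (sys hω h2).codes d.2 := by
      rw [sys_codes]; exact wordsOK_code chk_L3
    have hcore : coreOK (coding hω h2).mul (coding hω h2).one (sys hω h2).codes L3 Zc Wc = true := by
      rw [sys_codes]; exact chk_core
    have hND : ∀ n ∈ N', ∃ d ∈ L3, (n : GL F9 F) = evalGL (sys hω h2).gen d.2 :=
      fun n hn => hQel n.1 ((hP3 n).1 (hle hn))
    obtain ⟨c, hc, hval⟩ := coreOK_sound (sys hω h2) L3 Zc Wc hD hcore N' hN' hND n hn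
    rw [chk_z.1] at hc
    simp only [List.mem_cons, List.not_mem_nil, or_false] at hc
    rcases hc with rfl | rfl | rfl
    · have : n = 1 := by
        apply Subtype.ext
        apply ι_inj
        rw [hval]
        show den F ω lone = ι F 1
        rw [den_one, map_one]
      rw [this]; exact Subgroup.one_mem _
    · have : n = zG hω h2 := by
        apply Subtype.ext
        apply ι_inj
        rw [hval, ι_z]; rfl
      rw [this]; exact Subgroup.mem_zpowers _
    · have hz2 : zG hω h2 * zG hω h2 ∈ Subgroup.zpowers (zG hω h2) :=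
        Subgroup.mul_mem _ (Subgroup.mem_zpowers _) (Subgroup.mem_zpowers _)
      have : n = zG hω h2 * zG hω h2 := by
        apply Subtype.ext
        apply ι_inj
        rw [hval]
        show den F ω (lmul _ _) = ι F ((zG hω h2).1 * (zG hω h2).1)
        rw [map_mul, ι_z, den_mul hω h2]
      rw [this]
      exact hz2

/-- **the group generated by the two generators: order, centre, simple central quotient** -/
theorem main_G₂ : Nat.card (Subgroup.center ↥(G₂ hω h2)) = 3 ∧
    Nat.card ↥(G₂ hω h2) = 150698880 ∧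
    Nat.card (↥(G₂ hω h2) ⧸ Subgroup.center ↥(G₂ hω h2)) = 50232960 ∧
    IsSimpleGroup (↥(G₂ hω h2) ⧸ Subgroup.center ↥(G₂ hω h2)) := by
  obtain ⟨hC, hS⟩ := center_eq_and_simple (Subgroup.zpowers (zG hω h2)) (proper_normal hω h2)
    (zpowers_le_center hω h2) (center_ne_top hω h2)
  have hc3 : Nat.card (Subgroup.center ↥(G₂ hω h2)) = 3 := by
    rw [hC]; exact card_zpowers hω h2
  refine ⟨hc3, card_G₂ hω h2, ?_, hS⟩
  have := Subgroup.card_eq_card_quotient_mul_card_subgroup (Subgroup.center ↥(G₂ hω h2))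
  rw [card_G₂, hc3] at this
  omega

/-! ### the group of the definition is the group generated by the two generators -/

theorem mem_of_code (t : GL F9 F) (w : List ℕ)
    (ht : (t : Matrix F9 F9 F) = den F ω (evalW lmul lone codesX w)) : t ∈ G₂ hω h2 := by
  have : t = evalGL (sys hω h2).gen w := ι_inj (by rw [val_evalGL']; exact ht)
  rw [this]
  exact evalGL_mem _ (sys hω h2).hH w

omit [Finite F] in
theorem getD_word {gens : List ℕ} {words : List (List ℕ)}
    (h : gens = words.map (evalW lmul lone codesX)) (i : ℕ) :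
    gens.getD i lone = evalW lmul lone codesX (words.getD i []) := by
  rw [h]
  exact List.getD_map words [] (evalW lmul lone codesX)

include hω h2 in
theorem den_genA (Z : F9) : den F ω (genA.getD (idx Z) lone) = j3A F ω Z :=
  den_eq_of_sym (j3A_eq hω h2 Z) (symA_ok Z)
include hω h2 in
theorem den_genE (Z : F9) : den F ω (genE.getD (idx Z) lone) = j3E F ω Z :=
  den_eq_of_sym (j3E_eq hω h2 Z) (symE_ok Z)
include hω h2 in
theorem den_genD (Z : F9) : den F ω (genD.getD (idx Z) lone) = j3D F ω Z :=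
  den_eq_of_sym (j3D_eq hω h2 Z) (symD_ok Z)
omit [Finite F] in
theorem den_genB (Z : F9) (hZ : Z ≠ 0) : den F ω (genB.getD (idx Z) lone) = j3B F Z :=
  den_eq_of_sym (j3B_eq Z) (fun w z => symB_ok Z w z hZ)
omit [Finite F] in
theorem den_genC (Z : F9) (hZ : Z ≠ 0) : den F ω (genC.getD (idx Z) lone) = j3C F Z :=
  den_eq_of_sym (j3C_eq Z) (fun w z => symC_ok Z w z hZ)

theorem threeJ3_le : threeJ3 F ω ≤ G₂ hω h2 := by
  unfold threeJ3
  rw [Subgroup.closure_le]
  intro t ht
  have ht' : (t : Matrix F9 F9 F) ∈ j3Gens F ω := ht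
  unfold j3Gens at ht'
  rcases ht' with (((⟨Z, hZ⟩ | ⟨Z, hZ⟩) | ⟨Z, hZ⟩) | ⟨Z, hZ0, hZ⟩) | ⟨Z, hZ0, hZ⟩
  · apply mem_of_code hω h2 t (wordA.getD (idx Z) [])
    rw [← getD_word chk_wordA, den_genA hω h2, hZ]
  · apply mem_of_code hω h2 t (wordE.getD (idx Z) [])
    rw [← getD_word chk_wordE, den_genE hω h2, hZ]
  · apply mem_of_code hω h2 t (wordD.getD (idx Z) [])
    rw [← getD_word chk_wordD, den_genD hω h2, hZ]
  · apply mem_of_code hω h2 t (wordB.getD (idx Z) [])
    rw [← getD_word chk_wordB, den_genB Z hZ0, hZ]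
  · apply mem_of_code hω h2 t (wordC.getD (idx Z) [])
    rw [← getD_word chk_wordC, den_genC Z hZ0, hZ]

theorem le_threeJ3 : G₂ hω h2 ≤ threeJ3 F ω := by
  have hC : ι F (evalGL (sys hω h2).gen (wordC.getD 1 [])) = j3C F (0, 1) := by
    have := val_evalGL' hω h2 (wordC.getD 1 [])
    rw [← getD_word chk_wordC 1] at this
    rw [← den_genC (F := F) (ω := ω) (0, 1) (by decide)]
    exact this
  have hB : ι F (evalGL (sys hω h2).gen (wordB.getD 5 [])) = j3B F (1, 2) := by
    have := val_evalGL' hω h2 (wordB.getD 5 [])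
    rw [← getD_word chk_wordB 5] at this
    rw [← den_genB (F := F) (ω := ω) (1, 2) (by decide)]
    exact this
  have hD : ι F (evalGL (sys hω h2).gen (wordD.getD 2 [])) = j3D F ω (0, 2) := by
    have := val_evalGL' hω h2 (wordD.getD 2 [])
    rw [← getD_word chk_wordD 2] at this
    rw [← den_genD hω h2 (0, 2)]
    exact this
  have mC : evalGL (sys hω h2).gen (wordC.getD 1 []) ∈ threeJ3 F ω :=
    Subgroup.subset_closure (show _ ∈ j3Gens F ω from Or.inr ⟨(0, 1), by decide, hC⟩)
  have mB : evalGL (sys hω h2).gen (wordB.getD 5 []) ∈ threeJ3 F ω :=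
    Subgroup.subset_closure (show _ ∈ j3Gens F ω from Or.inl (Or.inr ⟨(1, 2), by decide, hB⟩))
  have mD : evalGL (sys hω h2).gen (wordD.getD 2 []) ∈ threeJ3 F ω :=
    Subgroup.subset_closure (show _ ∈ j3Gens F ω from Or.inl (Or.inl (Or.inr ⟨(0, 2), hD.symm⟩)))
  unfold G₂
  rw [Subgroup.closure_le]
  rintro t (rfl | rfl)
  · have : aΓ hω h2 = evalGL (sys hω h2).gen (wordC.getD 1 []) *
        evalGL (sys hω h2).gen (wordB.getD 5 []) := by
      apply ι_inj
      rw [map_mul, val_evalGL', val_evalGL', ← getD_word chk_wordC 1, ← getD_word chk_wordB 5,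
        ← den_mul hω h2, ← chk_ab.1]
      rfl
    rw [this]
    exact Subgroup.mul_mem _ mC mB
  · have : bΓ hω h2 = evalGL (sys hω h2).gen (wordD.getD 2 []) := by
      apply ι_inj
      rw [val_evalGL', ← getD_word chk_wordD 2, ← chk_ab.2]
      rfl
    rw [this]
    exact mD

theorem threeJ3_eq : threeJ3 F ω = G₂ hω h2 :=
  le_antisymm (threeJ3_le hω h2) (le_threeJ3 hω h2)

include hω h2 in
/-- **the matrix group 3·J₃: order, centre, simple central quotient** -/
theorem main : Nat.card (Subgroup.center ↥(threeJ3 F ω)) = 3 ∧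
    Nat.card ↥(threeJ3 F ω) = 150698880 ∧
    Nat.card (↥(threeJ3 F ω) ⧸ Subgroup.center ↥(threeJ3 F ω)) = 50232960 ∧
    IsSimpleGroup (↥(threeJ3 F ω) ⧸ Subgroup.center ↥(threeJ3 F ω)) := by
  rw [threeJ3_eq hω h2]
  exact main_G₂ hω h2

end

end Cfsg.Agent.Lib.Helper6.J3
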