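import Mathlib

/-! # 9 × 9 matrices over the field with four elements, coded by natural numbers: arithmetic

The entry `a + b ω` (`a, b ∈ {0, 1}`) at place `(i, j)` is stored as bit `9 i + j` (for `a`) and
bit `81 + 9 i + j` (for `b`) of the code.  The product is computed from the four products of bit
planes; a product of bit planes is the XOR over `k` of (column `k`, spread with stride 9) times
(row `k`), nine integer multiplications.  This file proves the bit-level specification. -/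

set_option autoImplicit false

namespace Cfsg.Agent.Lib.Helper6.F4

/-- bit `n` of `a`, as a number -/
def bt (a n : ℕ) : ℕ := Nat.mod (Nat.div a (Nat.pow 2 n)) 2

theorem bt_eq (a n : ℕ) : bt a n = (a.testBit n).toNat := (Nat.toNat_testBit a n).symm

theorem bt_le_one (a n : ℕ) : bt a n ≤ 1 := by
  have : bt a n < 2 := Nat.mod_lt _ (by norm_num)
  omega

/-- `2 ^ 81` -/
def P81 : ℕ := 2417851639229258349412352

theorem P81_eq : P81 = 2 ^ 81 := by norm_num [P81]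

/-- the two bit planes -/
def pl0 (a : ℕ) : ℕ := Nat.mod a P81
def pl1 (a : ℕ) : ℕ := Nat.div a P81

/-- row `k` of a plane -/
def rw9 (P k : ℕ) : ℕ := Nat.mod (Nat.div P (Nat.pow 512 k)) 512

/-- the number with the given base-512 digits -/
def ofD : List ℕ → ℕ
  | [] => 0
  | d :: L => d + 512 * ofD L

/-- column `k` of a plane, spread with stride 9 -/
def cl9 (P k : ℕ) : ℕ :=
  Nat.add (bt P k) (Nat.mul 512 (Nat.add (bt P (Nat.add 9 k)) (Nat.mul 512
  (Nat.add (bt P (Nat.add 18 k)) (Nat.mul 512 (Nat.add (bt P (Nat.add 27 k)) (Nat.mul 512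
  (Nat.add (bt P (Nat.add 36 k)) (Nat.mul 512 (Nat.add (bt P (Nat.add 45 k)) (Nat.mul 512
  (Nat.add (bt P (Nat.add 54 k)) (Nat.mul 512 (Nat.add (bt P (Nat.add 63 k)) (Nat.mul 512
  (bt P (Nat.add 72 k)))))))))))))))))

theorem cl9_eq (P k : ℕ) : cl9 P k = ofD ((List.range 9).map fun i => bt P (9 * i + k)) := by
  simp only [cl9, ofD, List.range, List.range.loop, List.map, Nat.add_eq, Nat.mul_eq]
  norm_num

/-- product of two planes over the field with two elements -/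
def f2 (X Y : ℕ) : ℕ :=
  Nat.xor (Nat.xor (Nat.xor (Nat.xor (Nat.xor (Nat.xor (Nat.xor (Nat.xor
    (Nat.mul (cl9 X 0) (rw9 Y 0)) (Nat.mul (cl9 X 1) (rw9 Y 1))) (Nat.mul (cl9 X 2) (rw9 Y 2)))
    (Nat.mul (cl9 X 3) (rw9 Y 3))) (Nat.mul (cl9 X 4) (rw9 Y 4))) (Nat.mul (cl9 X 5) (rw9 Y 5)))
    (Nat.mul (cl9 X 6) (rw9 Y 6))) (Nat.mul (cl9 X 7) (rw9 Y 7))) (Nat.mul (cl9 X 8) (rw9 Y 8))

/-- product of codes -/
def lmul (a b : ℕ) : ℕ :=
  Nat.add (Nat.xor (f2 (pl0 a) (pl0 b)) (f2 (pl1 a) (pl1 b)))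
    (Nat.mul P81 (Nat.xor (Nat.xor (f2 (pl0 a) (pl1 b)) (f2 (pl1 a) (pl0 b)))
      (f2 (pl1 a) (pl1 b))))

/-- code of the identity -/
def lone : ℕ := 1210107565283851686118401

/-! ### digits in base 512 -/

theorem ofD_lt : ∀ (L : List ℕ) (_ : ∀ d ∈ L, d < 512), ofD L < 512 ^ L.length
  | [], _ => by simp [ofD]
  | d :: L, h => by
    have hd : d < 512 := h d (List.mem_cons_self ..)
    have ih := ofD_lt L (fun e he => h e (List.mem_cons_of_mem _ he))
    rw [ofD, List.length_cons, pow_succ']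
    have : 512 * (ofD L + 1) ≤ 512 * 512 ^ L.length := Nat.mul_le_mul_left _ ih
    omega

theorem testBit_ofD : ∀ (L : List ℕ) (_ : ∀ d ∈ L, d < 512) (i j : ℕ), j < 9 →
    (ofD L).testBit (9 * i + j) = (L.getD i 0).testBit j
  | [], _, i, j, _ => by simp [ofD]
  | d :: L, h, 0, j, hj => by
    have hd : d < 2 ^ 9 := h d (List.mem_cons_self ..)
    have e : ofD (d :: L) = 2 ^ 9 * ofD L + d := by rw [ofD]; ring
    rw [e, Nat.testBit_two_pow_mul_add _ hd]
    simp [hj]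
  | d :: L, h, i + 1, j, hj => by
    have hd : d < 2 ^ 9 := h d (List.mem_cons_self ..)
    have ih := testBit_ofD L (fun e he => h e (List.mem_cons_of_mem _ he)) i j hj
    have e : ofD (d :: L) = 2 ^ 9 * ofD L + d := by rw [ofD]; ring
    rw [e, Nat.testBit_two_pow_mul_add _ hd]
    have h1 : ¬ 9 * (i + 1) + j < 9 := by omega
    have h2 : 9 * (i + 1) + j - 9 = 9 * i + j := by omega
    rw [if_neg h1, h2, ih, List.getD_cons_succ]

theorem ofD_map_mul (L : List ℕ) (R : ℕ) : ofD (L.map (· * R)) = ofD L * R := by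
  induction L with
  | nil => simp [ofD]
  | cons d L ih => rw [List.map_cons, ofD, ofD, ih]; ring

theorem testBit_bit_mul {b R j : ℕ} (hb : b ≤ 1) :
    (b * R).testBit j = (decide (b = 1) && R.testBit j) := by
  rcases Nat.le_one_iff_eq_zero_or_eq_one.1 hb with rfl | rfl <;> simp

theorem testBit_rw9 (Y k j : ℕ) (hj : j < 9) : (rw9 Y k).testBit j = Y.testBit (9 * k + j) := by
  have e : rw9 Y k = Y / 2 ^ (9 * k) % 2 ^ 9 := by
    show Y / 512 ^ k % 512 = _
    rw [pow_mul]; norm_num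
  rw [e, Nat.testBit_mod_two_pow, Nat.testBit_div_two_pow]
  simp [hj, add_comm]

theorem rw9_lt (Y k : ℕ) : rw9 Y k < 512 := Nat.mod_lt _ (by norm_num)

/-- one summand of a plane product -/
theorem testBit_term (X Y k i j : ℕ) (hi : i < 9) (hj : j < 9) :
    (cl9 X k * rw9 Y k).testBit (9 * i + j) =
      (X.testBit (9 * i + k) && Y.testBit (9 * k + j)) := by
  rw [cl9_eq, ← ofD_map_mul, testBit_ofD _ _ i j hj]
  · rw [List.map_map, List.getD_eq_getElem _ _ (by simpa using hi)]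
    simp only [List.getElem_map, List.getElem_range, Function.comp]
    rw [testBit_bit_mul (bt_le_one _ _), testBit_rw9 _ _ _ hj, bt_eq]
    cases X.testBit (9 * i + k) <;> simp
  · intro d hd
    simp only [List.map_map, List.mem_map, List.mem_range, Function.comp] at hd
    obtain ⟨t, _, rfl⟩ := hd
    have h1 := bt_le_one X (9 * t + k)
    have h2 := rw9_lt Y k
    rcases Nat.le_one_iff_eq_zero_or_eq_one.1 h1 with h | h <;> rw [h] <;> omega

theorem term_lt (X Y k : ℕ) : cl9 X k * rw9 Y k < 2 ^ 81 := by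
  rw [cl9_eq, ← ofD_map_mul]
  have := ofD_lt (((List.range 9).map fun i => bt X (9 * i + k)).map (· * rw9 Y k)) (by
    intro d hd
    simp only [List.map_map, List.mem_map, List.mem_range, Function.comp] at hd
    obtain ⟨t, _, rfl⟩ := hd
    have h1 := bt_le_one X (9 * t + k)
    have h2 := rw9_lt Y k
    rcases Nat.le_one_iff_eq_zero_or_eq_one.1 h1 with h | h <;> rw [h] <;> omega)
  simpa using this

theorem f2_lt (X Y : ℕ) : f2 X Y < 2 ^ 81 := by
  unfold f2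
  repeat' apply Nat.xor_lt_two_pow
  all_goals exact term_lt _ _ _

/-- **specification of the plane product** -/
theorem testBit_f2 (X Y i j : ℕ) (hi : i < 9) (hj : j < 9) :
    (f2 X Y).testBit (9 * i + j) =
      (((((((((X.testBit (9 * i + 0) && Y.testBit (9 * 0 + j)) ^^
        (X.testBit (9 * i + 1) && Y.testBit (9 * 1 + j))) ^^
        (X.testBit (9 * i + 2) && Y.testBit (9 * 2 + j))) ^^
        (X.testBit (9 * i + 3) && Y.testBit (9 * 3 + j))) ^^
        (X.testBit (9 * i + 4) && Y.testBit (9 * 4 + j))) ^^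
        (X.testBit (9 * i + 5) && Y.testBit (9 * 5 + j))) ^^
        (X.testBit (9 * i + 6) && Y.testBit (9 * 6 + j))) ^^
        (X.testBit (9 * i + 7) && Y.testBit (9 * 7 + j))) ^^
        (X.testBit (9 * i + 8) && Y.testBit (9 * 8 + j))) := by
  unfold f2
  show (((((((((cl9 X 0 * rw9 Y 0) ^^^ (cl9 X 1 * rw9 Y 1)) ^^^ (cl9 X 2 * rw9 Y 2)) ^^^
    (cl9 X 3 * rw9 Y 3)) ^^^ (cl9 X 4 * rw9 Y 4)) ^^^ (cl9 X 5 * rw9 Y 5)) ^^^
    (cl9 X 6 * rw9 Y 6)) ^^^ (cl9 X 7 * rw9 Y 7)) ^^^ (cl9 X 8 * rw9 Y 8)).testBit (9 * i + j) = _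
  simp only [Nat.testBit_xor, testBit_term _ _ _ _ _ hi hj]

/-! ### the planes of a product -/

theorem testBit_pl0 (a n : ℕ) (hn : n < 81) : (pl0 a).testBit n = a.testBit n := by
  show (a % P81).testBit n = _
  rw [P81_eq, Nat.testBit_mod_two_pow]
  simp [hn]

theorem testBit_pl1 (a n : ℕ) : (pl1 a).testBit n = a.testBit (81 + n) := by
  show (a / P81).testBit n = _
  rw [P81_eq, Nat.testBit_div_two_pow, add_comm]

theorem lmul_eq (a b : ℕ) : lmul a b =
    2 ^ 81 * ((f2 (pl0 a) (pl1 b) ^^^ f2 (pl1 a) (pl0 b)) ^^^ f2 (pl1 a) (pl1 b)) +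
      (f2 (pl0 a) (pl0 b) ^^^ f2 (pl1 a) (pl1 b)) := by
  show (f2 (pl0 a) (pl0 b) ^^^ f2 (pl1 a) (pl1 b)) +
    P81 * ((f2 (pl0 a) (pl1 b) ^^^ f2 (pl1 a) (pl0 b)) ^^^ f2 (pl1 a) (pl1 b)) = _
  rw [P81_eq]; ring

theorem lmul_lt (a b : ℕ) : lmul a b < 2 ^ 162 := by
  rw [lmul_eq]
  have h1 : (f2 (pl0 a) (pl0 b) ^^^ f2 (pl1 a) (pl1 b)) < 2 ^ 81 :=
    Nat.xor_lt_two_pow (f2_lt _ _) (f2_lt _ _)
  have h2 : ((f2 (pl0 a) (pl1 b) ^^^ f2 (pl1 a) (pl0 b)) ^^^ f2 (pl1 a) (pl1 b)) < 2 ^ 81 :=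
    Nat.xor_lt_two_pow (Nat.xor_lt_two_pow (f2_lt _ _) (f2_lt _ _)) (f2_lt _ _)
  have e : (2 : ℕ) ^ 162 = 2 ^ 81 * 2 ^ 81 := by norm_num
  rw [e]
  nlinarith

theorem testBit_lmul_lo (a b n : ℕ) (hn : n < 81) : (lmul a b).testBit n =
    (f2 (pl0 a) (pl0 b) ^^^ f2 (pl1 a) (pl1 b)).testBit n := by
  rw [lmul_eq, Nat.testBit_two_pow_mul_add _
    (Nat.xor_lt_two_pow (f2_lt _ _) (f2_lt _ _)), if_pos hn]

theorem testBit_lmul_hi (a b n : ℕ) : (lmul a b).testBit (81 + n) =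
    ((f2 (pl0 a) (pl1 b) ^^^ f2 (pl1 a) (pl0 b)) ^^^ f2 (pl1 a) (pl1 b)).testBit n := by
  rw [lmul_eq, Nat.testBit_two_pow_mul_add _
    (Nat.xor_lt_two_pow (f2_lt _ _) (f2_lt _ _))]
  have h1 : ¬ 81 + n < 81 := by omega
  rw [if_neg h1]
  congr 1
  omega

end Cfsg.Agent.Lib.Helper6.F4
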