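import Cfsg.Agent.Lib.Lead.Extraspecial2Rank

/-!
# S3299, piece U (helper6, for helper5)

In an extraspecial 2-group `Q` of width `n ≥ 2` (elementary description `ES2.ES z`) a subgroup `M`
of index 2 has a non-central element `e` in its centre, `C_Q(M) = {1, z, e, ez}`, and there is an
involution `u` outside `M` (which then does not commute with `e`).
-/

set_option autoImplicit false
open Cfsg Cfsg.Agent.Lead
open scoped commutatorElement

namespace Cfsg.Agent.LES99U

open Cfsg.Agent.S2880 (Ctx)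

theorem exists_e_u {Q : Type*} [Group Q] [Finite Q] {z : Q} (hes : ES2.ES z) (n : ℕ) (hn : 2 ≤ n)
    (hcard : Nat.card Q = 2 ^ (2 * n + 1)) (M : Subgroup Q) (hM : M.index = 2) :
    ∃ e u : Q, e ∈ M ∧ e ≠ 1 ∧ e ≠ z ∧ (∀ m ∈ M, e * m = m * e) ∧
      (∀ c : Q, (∀ m ∈ M, c * m = m * c) → c = 1 ∨ c = z ∨ c = e ∨ c = e * z) ∧
      u ∉ M ∧ u * u = 1 ∧ e * u = z * (u * e) := by
  have C := hes.ctx
  have hbig : 2 ^ 5 ≤ 2 ^ (2 * n + 1) := Nat.pow_le_pow_right (by norm_num) (by omega)
  -- `Q` is not abelian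
  have hna : ¬ ∀ x y : Q, ⁅x, y⁆ = 1 := by
    intro hab
    have h2 := (ES2.abelian_case hes hab).2.1
    rw [hcard] at h2
    omega
  obtain ⟨x, y, hxy⟩ := ES2.exists_pair hes hna
  have hzM : z ∈ M := by
    rw [← hxy, commutatorElement_def]
    have h1 : x * y * x⁻¹ * y⁻¹ = (x * y) * (x⁻¹ * y⁻¹) := by group
    rw [h1, Subgroup.mul_mem_iff_of_index_two hM, Subgroup.mul_mem_iff_of_index_two hM,
      Subgroup.mul_mem_iff_of_index_two hM, inv_mem_iff, inv_mem_iff]
  obtain ⟨x0, hx0⟩ : ∃ x0 : Q, x0 ∉ M := by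
    by_contra h
    push Not at h
    have : M = ⊤ := by ext q; simp [h q]
    rw [this, Subgroup.index_top] at hM
    omega
  have hcoset : ∀ x1 : Q, x1 ∉ M → ∀ q : Q, q ∉ M → x1⁻¹ * q ∈ M := by
    intro x1 hx1 q hq
    rw [Subgroup.mul_mem_iff_of_index_two hM, inv_mem_iff]
    exact ⟨fun h => absurd h hx1, fun h => absurd h hq⟩
  -- an element commuting with `M` and with one element outside `M` is central
  have hcentral : ∀ x1 : Q, x1 ∉ M → ∀ c : Q, (∀ m ∈ M, c * m = m * c) → c * x1 = x1 * c →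
      c = 1 ∨ c = z := by
    intro x1 hx1 c hcM hcx
    apply hes.cent
    intro q
    by_cases hq : q ∈ M
    · exact (hcM q hq).symm
    · have hm := hcoset x1 hx1 q hq
      have hq' : q = x1 * (x1⁻¹ * q) := by group
      rw [hq']
      calc x1 * (x1⁻¹ * q) * c = x1 * ((x1⁻¹ * q) * c) := by rw [mul_assoc]
        _ = x1 * (c * (x1⁻¹ * q)) := by rw [hcM _ hm]
        _ = (x1 * c) * (x1⁻¹ * q) := by rw [mul_assoc]
        _ = (c * x1) * (x1⁻¹ * q) := by rw [hcx]
        _ = c * (x1 * (x1⁻¹ * q)) := by rw [mul_assoc]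
  -- existence of `e`
  have hex : ∃ e ∈ M, e ≠ 1 ∧ e ≠ z ∧ ∀ m ∈ M, e * m = m * e := by
    by_contra hno
    push Not at hno
    have hesM : ES2.ES (⟨z, hzM⟩ : M) := by
      refine ⟨ES2.ctx_sub C M hzM, ?_⟩
      intro w hw
      by_contra hw'
      push Not at hw'
      have h1 : (w : Q) ≠ 1 := fun h => hw'.1 (Subtype.ext h)
      have h2 : (w : Q) ≠ z := fun h => hw'.2 (Subtype.ext h)
      obtain ⟨m, hm, hne⟩ := hno w w.2 h1 h2
      apply hne
      have := hw ⟨m, hm⟩
      exact (congrArg Subtype.val this).symm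
    obtain ⟨m, hm, -⟩ := ES2.T1 (Nat.card M) M ⟨z, hzM⟩ hesM rfl
    have hidx : Nat.card M * M.index = Nat.card Q := M.card_mul_index
    rw [hM, hcard, hm] at hidx
    have h3 : 2 ^ (2 * m + 1 + 1) = 2 ^ (2 * n + 1) := by rw [pow_succ]; exact hidx
    have := Nat.pow_right_injective (le_refl 2) h3
    omega
  obtain ⟨e, heM, he1, hez, hecomm⟩ := hex
  -- `e` does not commute with anything outside `M`
  have hnc' : ∀ q : Q, q ∉ M → ⁅e, q⁆ = z := by
    intro q hq
    refine (C.comm e q).resolve_left ?_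
    intro h
    have hcomm : e * q = q * e := commutatorElement_eq_one_iff_mul_comm.mp h
    rcases hcentral q hq e hecomm hcomm with h1 | h1
    · exact he1 h1
    · exact hez h1
  have hnc : ∀ q : Q, q ∉ M → e * q = z * (q * e) := by
    intro q hq
    rw [ES2.swap_mul q e, hnc' q hq]
  have hee : ⁅e, x0⁆ = z := hnc' x0 hx0
  -- the centraliser of `M`
  have hCM : ∀ c : Q, (∀ m ∈ M, c * m = m * c) → c = 1 ∨ c = z ∨ c = e ∨ c = e * z := by
    intro c hc
    by_cases hcx : c * x0 = x0 * c
    · rcases hcentral x0 hx0 c hc hcx with h | h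
      · exact Or.inl h
      · exact Or.inr (Or.inl h)
    · have hce : ⁅c, x0⁆ = z :=
        (C.comm c x0).resolve_left fun h => hcx (commutatorElement_eq_one_iff_mul_comm.mp h)
      have hd : (c * e⁻¹) * x0 = x0 * (c * e⁻¹) := by
        apply commutatorElement_eq_one_iff_mul_comm.mp
        rw [ES2.kmul' C, ES2.cinv_left C, hce, hee, C.sq]
      have hdM : ∀ m ∈ M, (c * e⁻¹) * m = m * (c * e⁻¹) := by
        intro m hm
        exact ((show Commute c m from hc m hm).mul_left
          ((show Commute e m from hecomm m hm).inv_left)).eq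
      rcases hcentral x0 hx0 (c * e⁻¹) hdM hd with h | h
      · exact Or.inr (Or.inr (Or.inl (mul_inv_eq_one.mp h)))
      · refine Or.inr (Or.inr (Or.inr ?_))
        rw [C.cen e]
        exact mul_inv_eq_iff_eq_mul.mp h
  -- an involution outside `M`
  have hu : ∃ u : Q, u ∉ M ∧ u * u = 1 := by
    rcases C.sqr x0 with h | h
    · exact ⟨x0, hx0, h⟩
    · rcases C.sqr e with he2 | he2
      · refine ⟨x0 * e, ?_, ?_⟩
        · rw [Subgroup.mul_mem_iff_of_index_two hM]
          intro hh
          exact hx0 (hh.mpr heM)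
        · have h5 : ⁅x0, e⁆ = z := by rw [ES2.csymm C]; exact hee
          rw [ES2.sq_mul C, h, he2, mul_one, h5, C.sq]
      · have hesC := ES2.es_sub hes hee
        have hcardC := ES2.card_E C hee
        have hnaC : ¬ ∀ a b : Subgroup.centralizer ({e, x0} : Set Q), ⁅a, b⁆ = 1 := by
          intro hab
          have h2 := (ES2.abelian_case hesC hab).2.1
          rw [h2, hcard] at hcardC
          omega
        obtain ⟨a, b, hab⟩ := ES2.exists_pair hesC hnaC
        have hab' : ⁅(a : Q), (b : Q)⁆ = z := by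
          have := congrArg Subtype.val hab
          simpa [commutatorElement_def] using this
        have hm : ∃ m : Q, m ∈ Subgroup.centralizer ({e, x0} : Set Q) ∧ m * m = z := by
          rcases C.sqr (a : Q) with ha | ha
          · rcases C.sqr (b : Q) with hb | hb
            · refine ⟨(a : Q) * (b : Q), Subgroup.mul_mem _ a.2 b.2, ?_⟩
              rw [ES2.sq_mul C, ha, hb, hab', mul_one, one_mul]
            · exact ⟨b, b.2, hb⟩
          · exact ⟨a, a.2, ha⟩
        obtain ⟨m, hmC, hm2⟩ := hm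
        have hmc := ES2.memC_comm hmC
        have hmM : m ∈ M := by
          by_contra hmn
          have h6 := hnc m hmn
          rw [hmc.1] at h6
          have h7 : 1 * (m * e) = z * (m * e) := by rw [one_mul]; exact h6
          exact C.ne (mul_right_cancel h7).symm
        refine ⟨x0 * m, ?_, ?_⟩
        · rw [Subgroup.mul_mem_iff_of_index_two hM]
          intro hh
          exact hx0 (hh.mpr hmM)
        · rw [ES2.sq_comm_mul hmc.2, h, hm2, C.sq]
  obtain ⟨u, huM, hu2⟩ := hu
  exact ⟨e, u, heM, he1, hez, hecomm, hCM, huM, hu2, hnc u huM⟩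

end Cfsg.Agent.LES99U
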