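import Cfsg.Agent.Lib.Helper6.SimpInst2
import Cfsg.Prelude.Def_SporadicB

/-! # Non-split double covers from presentations -/

set_option autoImplicit false

namespace Cfsg.Agent.Lib.Helper6.Simp

open Cfsg.Spor Cfsg.Agent.Lib.Helper6.TC

section

variable {Q F : Type*} [Group Q] [Group F]

/-- a group of twice the order of a quotient with trivial centre, without subgroups of index two,
is a non-split double cover of the quotient -/
theorem isNonsplitDoubleCover_of_card (π : Q →* F) (hsurj : Function.Surjective π) [Finite Q]
    (hcard : Nat.card Q = 2 * Nat.card F) (hcen : Subgroup.center F = ⊥)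
    (hperf : ∀ L : Subgroup Q, L.index ≠ 2) : Cfsg.IsNonsplitDoubleCover Q F := by
  have hF : Finite F := Finite.of_surjective π hsurj
  have hFpos : 0 < Nat.card F := Nat.card_pos
  -- the kernel has order two
  have hK : Nat.card π.ker = 2 := by
    have h1 := Subgroup.card_mul_index π.ker
    have h2 : π.ker.index = Nat.card F := by
      rw [Subgroup.index]
      exact Nat.card_congr (QuotientGroup.quotientKerEquivOfSurjective π hsurj).toEquiv
    rw [h2, hcard] at h1
    exact Nat.eq_of_mul_eq_mul_right hFpos h1
  -- the kernel is the centre
  have hKc : π.ker = Subgroup.center Q := by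
    apply le_antisymm
    · intro k hk
      rw [Subgroup.mem_center_iff]
      intro g
      by_cases hk1 : k = 1
      · rw [hk1, mul_one, one_mul]
      · obtain ⟨x, hx, hxu⟩ := (Nat.card_eq_two_iff' (1 : π.ker)).1 hK
        have hkx : (⟨k, hk⟩ : π.ker) = x := hxu _ (fun h => hk1 (congrArg Subtype.val h))
        have hc : g * k * g⁻¹ ∈ π.ker := (inferInstance : π.ker.Normal).conj_mem k hk g
        have hc1 : (⟨g * k * g⁻¹, hc⟩ : π.ker) ≠ 1 := by
          intro h
          have h' : g * k * g⁻¹ = 1 := congrArg Subtype.val h
          apply hk1
          have : k = g⁻¹ * (g * k * g⁻¹) * g := by group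
          rw [this, h']
          group
        have hcx : (⟨g * k * g⁻¹, hc⟩ : π.ker) = x := hxu _ hc1
        have : g * k * g⁻¹ = k := by
          have := hcx.trans hkx.symm
          exact congrArg Subtype.val this
        calc g * k = (g * k * g⁻¹) * g := by group
          _ = k * g := by rw [this]
    · intro z hz
      rw [MonoidHom.mem_ker]
      have : π z ∈ Subgroup.center F := by
        rw [Subgroup.mem_center_iff]
        intro y
        obtain ⟨g, rfl⟩ := hsurj y
        rw [← map_mul, ← map_mul, (Subgroup.mem_center_iff.1 hz g)]
      rw [hcen] at this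
      exact (Subgroup.mem_bot.1 this)
  refine ⟨by rw [← hKc]; exact hK, ?_, ?_⟩
  · exact ⟨(QuotientGroup.quotientMulEquivOfEq hKc.symm).trans
      (QuotientGroup.quotientKerEquivOfSurjective π hsurj)⟩
  · intro L hL
    have h1 := hL.card_mul_card
    rw [← hKc, hK] at h1
    have h2 := Subgroup.card_mul_index L
    have hLpos : 0 < Nat.card L := Nat.card_pos
    apply hperf L
    have : Nat.card L * 2 = Nat.card L * L.index := by rw [h2, ← h1, mul_comm]
    exact (Nat.eq_of_mul_eq_mul_left hLpos this).symm

end

section

variable {α : Type} [DecidableEq α] {edges : List (α × ℕ × α)} {extra : List (FreeGroup α)}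

/-- the generators reached from the generator `x0` along edges with label three -/
inductive ReachA (edges : List (α × ℕ × α)) (x0 : α) : α → Prop
  | root : ReachA edges x0 x0
  | step {x y : α} : ReachA edges x0 x → coxLabel edges x y = 3 → ReachA edges x0 y

/-- a presented group whose generators are involutions joined by edges with label three, with
a word of odd length in the generators that is trivial, has no subgroup of index two -/
theorem index_ne_two_of_odd (hnode : ∀ a : α, a ∈ coxNodes edges) (x0 : α)
    (hreach : ∀ a, ReachA edges x0 a) (w : List α) (hodd : Odd w.length)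
    (hw : (w.map fun a => (PresentedGroup.of a : CoxPresented α edges extra)).prod = 1)
    (L : Subgroup (CoxPresented α edges extra)) : L.index ≠ 2 := by
  intro hL
  have hN : L.Normal := Subgroup.normal_of_index_eq_two hL
  -- every generator lies in `L`
  have hcomm : ∀ x y : CoxPresented α edges extra, x * y * x⁻¹ * y⁻¹ ∈ L := by
    intro x y
    have hcard : Nat.card (CoxPresented α edges extra ⧸ L) = 2 := hL
    have : Fact (Nat.Prime 2) := ⟨Nat.prime_two⟩
    have hcyc : IsCyclic (CoxPresented α edges extra ⧸ L) := isCyclic_of_prime_card hcard
    have hc : ((x : CoxPresented α edges extra ⧸ L)) * (y : CoxPresented α edges extra ⧸ L) =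
        (y : CoxPresented α edges extra ⧸ L) * (x : CoxPresented α edges extra ⧸ L) := by
      let _ := hcyc.commGroup
      exact mul_comm _ _
    rw [← QuotientGroup.eq_one_iff]
    simp only [QuotientGroup.mk_mul, QuotientGroup.mk_inv]
    rw [hc]
    group
  -- all generators are congruent to the first one modulo `L`
  have hall : ∀ a, ReachA edges x0 a →
      (PresentedGroup.of a : CoxPresented α edges extra) * (PresentedGroup.of x0)⁻¹ ∈ L := by
    intro a ha
    induction ha with
    | root => rw [mul_inv_cancel]; exact L.one_mem
    | step _ h3 ih =>
      rename_i x y _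
      have hy := conj_of_braid (of_mul_self (extra := extra) hnode x)
        (of_mul_self (extra := extra) hnode y) (of_braid (extra := extra) hnode x y h3)
      set X := (PresentedGroup.of x : CoxPresented α edges extra) with hX
      set Y := (PresentedGroup.of y : CoxPresented α edges extra) with hY
      have h1 : Y * X⁻¹ ∈ L := by
        have : Y * X⁻¹ = (X * Y) * X * (X * Y)⁻¹ * X⁻¹ := by rw [← hy]
        rw [this]
        exact hcomm (X * Y) X
      have : Y * (PresentedGroup.of x0)⁻¹ = (Y * X⁻¹) * (X * (PresentedGroup.of x0)⁻¹) := by group
      rw [this]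
      exact L.mul_mem h1 ih
  -- the image of the first generator in the quotient
  set t : CoxPresented α edges extra ⧸ L := ((PresentedGroup.of x0 : CoxPresented α edges extra) :
    CoxPresented α edges extra ⧸ L) with ht
  have himg : ∀ a : α, ((PresentedGroup.of a : CoxPresented α edges extra) :
      CoxPresented α edges extra ⧸ L) = t := by
    intro a
    have := hall a (hreach a)
    rw [← QuotientGroup.eq_one_iff, QuotientGroup.mk_mul, QuotientGroup.mk_inv,
      mul_inv_eq_one] at this
    exact this
  have ht2 : t * t = 1 := by
    rw [ht, ← QuotientGroup.mk_mul, of_mul_self hnode x0, QuotientGroup.mk_one]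
  have hprod : ∀ v : List α, (((v.map fun a =>
      (PresentedGroup.of a : CoxPresented α edges extra)).prod : CoxPresented α edges extra) :
      CoxPresented α edges extra ⧸ L) = t ^ v.length := by
    intro v
    induction v with
    | nil => simp
    | cons a v ih =>
      rw [List.map_cons, List.prod_cons, QuotientGroup.mk_mul, ih, himg a, List.length_cons,
        pow_succ']
  have h1 := hprod w
  rw [hw, QuotientGroup.mk_one] at h1
  obtain ⟨k, hk⟩ := hodd
  rw [hk, pow_succ, pow_mul, pow_two, ht2, one_pow, one_mul] at h1
  -- so the first generator, hence every generator, lies in `L`, and `L` is the whole group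
  have hx0 : (PresentedGroup.of x0 : CoxPresented α edges extra) ∈ L := by
    rw [← QuotientGroup.eq_one_iff]
    exact h1.symm
  have htop : L = ⊤ := by
    rw [eq_top_iff, ← PresentedGroup.closure_range_of, Subgroup.closure_le]
    rintro _ ⟨a, rfl⟩
    have := hall a (hreach a)
    have h2 : (PresentedGroup.of a : CoxPresented α edges extra) =
        (PresentedGroup.of a * (PresentedGroup.of x0)⁻¹) * PresentedGroup.of x0 := by group
    rw [SetLike.mem_coe, h2]
    exact L.mul_mem this hx0
  rw [htop, Subgroup.index_top] at hL
  exact absurd hL (by norm_num)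

end

end Cfsg.Agent.Lib.Helper6.Simp
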