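import Mathlib
import Cfsg.Prelude.Def_SporadicB
import Cfsg.Agent.Lib.Helper6.SimpCrit

/-! # General lemmas for classes of transpositions: centralizers, conjugacy classes, double covers,
maximality of a point stabilizer from the suborbit lengths -/

set_option autoImplicit false

namespace Cfsg.Agent.Lib.Helper6.T3Gen

open Cfsg.Agent.Lib.Helper6.TC Cfsg.Agent.Lib.Helper6.Simp

section

variable {G : Type*} [Group G]

/-- a normal subgroup of order two is central -/
theorem normal_card_two_le_center (K : Subgroup G) [hK : K.Normal] (h : Nat.card K = 2) :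
    K ≤ Subgroup.center G := by
  intro k hk
  rw [Subgroup.mem_center_iff]
  intro g
  by_cases hk1 : k = 1
  · rw [hk1, mul_one, one_mul]
  · obtain ⟨x, hx, hxu⟩ := (Nat.card_eq_two_iff' (1 : K)).1 h
    have hkx : (⟨k, hk⟩ : K) = x := hxu _ (fun h => hk1 (congrArg Subtype.val h))
    have hc : g * k * g⁻¹ ∈ K := hK.conj_mem k hk g
    have hc1 : (⟨g * k * g⁻¹, hc⟩ : K) ≠ 1 := by
      intro h
      have h' : g * k * g⁻¹ = 1 := congrArg Subtype.val h
      apply hk1
      have : k = g⁻¹ * (g * k * g⁻¹) * g := by group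
      rw [this, h']
      group
    have hcx : (⟨g * k * g⁻¹, hc⟩ : K) = x := hxu _ hc1
    have : g * k * g⁻¹ = k := by
      have := hcx.trans hkx.symm
      exact congrArg Subtype.val this
    calc g * k = (g * k * g⁻¹) * g := by group
      _ = k * g := by rw [this]

/-- the conjugates of `z`, parametrized by the group -/
def conjMap (z : G) (x : G) : conjugatesOf z :=
  ⟨x * z * x⁻¹, (isConj_iff.2 ⟨x, rfl⟩ : IsConj z (x * z * x⁻¹))⟩

theorem conjMap_eq_iff (z x y : G) :
    conjMap z x = conjMap z y ↔ x⁻¹ * y ∈ Subgroup.centralizer ({z} : Set G) := by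
  rw [Subgroup.mem_centralizer_iff]
  constructor
  · intro h
    have h' : x * z * x⁻¹ = y * z * y⁻¹ := congrArg Subtype.val h
    intro w hw
    rw [Set.mem_singleton_iff] at hw
    subst hw
    have : w = x⁻¹ * (y * w * y⁻¹) * x := by rw [← h']; group
    calc w * (x⁻¹ * y) = (x⁻¹ * (y * w * y⁻¹) * x) * (x⁻¹ * y) := by rw [← this]
      _ = x⁻¹ * y * w := by group
  · intro h
    have h' := h z rfl
    apply Subtype.ext
    show x * z * x⁻¹ = y * z * y⁻¹
    have : z = (x⁻¹ * y) * z * (x⁻¹ * y)⁻¹ := by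
      rw [← h']
      group
    calc x * z * x⁻¹ = x * ((x⁻¹ * y) * z * (x⁻¹ * y)⁻¹) * x⁻¹ := by rw [← this]
      _ = y * z * y⁻¹ := by group

/-- the size of a conjugacy class is the index of the centralizer -/
theorem card_conjugatesOf (z : G) :
    Nat.card (conjugatesOf z) = (Subgroup.centralizer ({z} : Set G)).index := by
  rw [Subgroup.index]
  symm
  apply Nat.card_congr
  let f : G ⧸ Subgroup.centralizer ({z} : Set G) → conjugatesOf z :=
    Quotient.lift (s := QuotientGroup.leftRel _) (conjMap z)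
      (fun x y h => (conjMap_eq_iff z x y).2 (QuotientGroup.leftRel_apply.1 h))
  refine Equiv.ofBijective f ⟨?_, ?_⟩
  · intro a b
    induction a using QuotientGroup.induction_on with
    | H x =>
      induction b using QuotientGroup.induction_on with
      | H y =>
        intro h
        exact QuotientGroup.eq.2 ((conjMap_eq_iff z x y).1 h)
  · rintro ⟨d, hd⟩
    obtain ⟨x, hx⟩ := isConj_iff.1 (show IsConj z d from hd)
    exact ⟨QuotientGroup.mk x, Subtype.ext hx⟩

/-- the centralizer of a conjugate is isomorphic to the centralizer -/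
noncomputable def centralizerConj (x z : G) :
    Subgroup.centralizer ({x * z * x⁻¹} : Set G) ≃* Subgroup.centralizer ({z} : Set G) :=
  have h : (Subgroup.centralizer ({x * z * x⁻¹} : Set G)).map (MulAut.conj x⁻¹).toMonoidHom =
      Subgroup.centralizer ({z} : Set G) := by
    ext y
    rw [Subgroup.mem_map, Subgroup.mem_centralizer_iff]
    constructor
    · rintro ⟨c, hc, rfl⟩
      rw [Subgroup.mem_centralizer_iff] at hc
      have hc' := hc _ rfl
      intro w hw
      rw [Set.mem_singleton_iff] at hw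
      subst hw
      show w * (x⁻¹ * c * x⁻¹⁻¹) = (x⁻¹ * c * x⁻¹⁻¹) * w
      rw [inv_inv]
      calc w * (x⁻¹ * c * x) = x⁻¹ * ((x * w * x⁻¹) * c) * x := by group
        _ = x⁻¹ * (c * (x * w * x⁻¹)) * x := by rw [hc']
        _ = x⁻¹ * c * x * w := by group
    · intro hy
      have hy' := hy z rfl
      refine ⟨x * y * x⁻¹, ?_, ?_⟩
      · rw [Subgroup.mem_centralizer_iff]
        intro w hw
        rw [Set.mem_singleton_iff] at hw
        subst hw
        calc x * z * x⁻¹ * (x * y * x⁻¹) = x * (z * y) * x⁻¹ := by group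
          _ = x * (y * z) * x⁻¹ := by rw [hy']
          _ = x * y * x⁻¹ * (x * z * x⁻¹) := by group
      · show x⁻¹ * (x * y * x⁻¹) * x⁻¹⁻¹ = y
        group
  ((MulAut.conj x⁻¹).subgroupMap _).trans (MulEquiv.subgroupCongr h)

/-- the normal closure of a nontrivial element of a simple group -/
theorem closure_conjugatesOf_eq_top [IsSimpleGroup G] {z : G} (hz : z ≠ 1) :
    Subgroup.closure (conjugatesOf z) = ⊤ := by
  have h1 : Subgroup.normalClosure ({z} : Set G) = Subgroup.closure (conjugatesOf z) := by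
    rw [Subgroup.normalClosure, Group.conjugatesOfSet]
    simp
  rw [← h1]
  rcases (Subgroup.normalClosure_normal (s := ({z} : Set G))).eq_bot_or_eq_top with h | h
  · exfalso
    apply hz
    have : z ∈ Subgroup.normalClosure ({z} : Set G) :=
      Subgroup.subset_normalClosure (Set.mem_singleton z)
    rw [h] at this
    exact Subgroup.mem_bot.1 this
  · exact h

end

section dc

variable {H H' K : Type*} [Group H] [Group H'] [Group K]

theorem map_center (e : H ≃* H') :
    (Subgroup.center H).map e.toMonoidHom = Subgroup.center H' := by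
  ext y
  rw [Subgroup.mem_map, Subgroup.mem_center_iff]
  constructor
  · rintro ⟨x, hx, rfl⟩ g
    rw [Subgroup.mem_center_iff] at hx
    obtain ⟨g', rfl⟩ := e.surjective g
    show e g' * e x = e x * e g'
    rw [← map_mul, ← map_mul, hx g']
  · intro hy
    refine ⟨e.symm y, ?_, e.apply_symm_apply y⟩
    rw [Subgroup.mem_center_iff]
    intro g
    apply e.injective
    rw [map_mul, map_mul, e.apply_symm_apply]
    exact hy (e g)

/-- non-split double covers are invariant under isomorphism -/
theorem isNonsplitDoubleCover_of_equiv [Finite H] (e : H ≃* H')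
    (h : Cfsg.IsNonsplitDoubleCover H K) : Cfsg.IsNonsplitDoubleCover H' K := by
  have hfin' : Finite H' := Finite.of_equiv H e.toEquiv
  obtain ⟨h1, ⟨q⟩, h3⟩ := h
  refine ⟨?_, ⟨?_⟩, ?_⟩
  · rw [← h1]
    exact Nat.card_congr (Subgroup.centerCongr e).symm.toEquiv
  · exact (QuotientGroup.congr (Subgroup.center H') (Subgroup.center H) e.symm
      (map_center e.symm)).trans q
  · intro L' hL'
    apply h3 (L'.map e.symm.toMonoidHom)
    rw [Subgroup.isComplement'_iff_card_mul_and_disjoint] at hL' ⊢
    obtain ⟨hc, hd⟩ := hL'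
    constructor
    · rw [Nat.card_congr (Subgroup.centerCongr e).toEquiv,
        Subgroup.card_map_of_injective e.symm.injective, hc]
      exact Nat.card_congr e.symm.toEquiv
    · rw [Subgroup.disjoint_def] at hd ⊢
      intro x hx hxL
      obtain ⟨y, hy, rfl⟩ := hxL
      have hyc : y ∈ Subgroup.center H' := by
        rw [← map_center e]
        exact ⟨e.symm y, hx, e.apply_symm_apply y⟩
      rw [hd hyc hy, map_one]

end dc

section maximal

variable {G : Type*} [Group G] {n : ℕ}

/-- **maximality of the point stabilizer** when the suborbit lengths admit no proper block size -/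
theorem eq_or_eq_top_of_cert [Finite G] (ρ : G →* Equiv.Perm (Fin n)) (o : Fin n)
    (H : Subgroup G) (hH : ∀ h ∈ H, ρ h o = o) (hstab : ∀ g : G, ρ g o = o → g ∈ H)
    (hidx : H.index = n)
    {r : ℕ} (Δ : Fin r → Set (Fin n)) (hΔ : ∀ i, ∃ a, Δ i = imgOrbit ρ H a)
    (hcover : ∀ b, b = o ∨ ∃ i, b ∈ Δ i)
    (hdisj : ∀ i j, i ≠ j → ∀ b, b ∈ Δ i → b ∉ Δ j) (ho : ∀ i, o ∉ Δ i)
    (s : Fin r → ℕ) (hs : ∀ i, (Δ i).ncard = s i)
    (harith : ∀ I : Finset (Fin r), I.Nonempty → (1 + ∑ i ∈ I, s i) ∣ n → 1 + ∑ i ∈ I, s i = n)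
    (K : Subgroup G) (hHK : H ≤ K) : K = H ∨ K = ⊤ := by
  classical
  let _ : MulAction G (Fin n) := MulAction.compHom (Fin n) ρ
  have hsmul : ∀ (g : G) (b : Fin n), g • b = ρ g b := fun _ _ => rfl
  set X : Set (Fin n) := MulAction.orbit K o with hXdef
  have hXmem : ∀ b, b ∈ X ↔ ∃ x ∈ K, ρ x o = b := by
    intro b
    constructor
    · rintro ⟨⟨x, hx⟩, rfl⟩
      exact ⟨x, hx, rfl⟩
    · rintro ⟨x, hx, rfl⟩
      exact ⟨⟨x, hx⟩, rfl⟩
  have hoX : o ∈ X := MulAction.mem_orbit_self o
  have hinv : ∀ h ∈ H, ∀ b ∈ X, ρ h b ∈ X := by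
    intro h hh b hb
    obtain ⟨x, hx, rfl⟩ := (hXmem b).1 hb
    exact (hXmem _).2 ⟨h * x, K.mul_mem (hHK hh) hx, by rw [map_mul, Equiv.Perm.mul_apply]⟩
  have hsub : ∀ i, (∃ b ∈ Δ i, b ∈ X) → Δ i ⊆ X := by
    intro i ⟨b, hbΔ, hbX⟩
    obtain ⟨a, ha⟩ := hΔ i
    rw [ha] at hbΔ ⊢
    obtain ⟨h, hh, rfl⟩ := hbΔ
    have haX : a ∈ X := by
      have := hinv h⁻¹ (H.inv_mem hh) _ hbX
      rwa [map_inv, perm_inv_apply_self] at this
    rintro c ⟨h', hh', rfl⟩
    exact hinv h' hh' a haX
  set I : Finset (Fin r) := Finset.univ.filter fun i => Δ i ⊆ X with hIdef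
  have hXeq : X = {o} ∪ ⋃ i ∈ I, Δ i := by
    ext b
    simp only [Set.singleton_union, Set.mem_insert_iff, Set.mem_iUnion, exists_prop]
    constructor
    · intro hb
      rcases hcover b with rfl | ⟨i, hi⟩
      · exact Or.inl rfl
      · refine Or.inr ⟨i, ?_, hi⟩
        rw [hIdef, Finset.mem_filter]
        exact ⟨Finset.mem_univ _, hsub i ⟨b, hi, hb⟩⟩
    · rintro (rfl | ⟨i, hi, hb⟩)
      · exact hoX
      · rw [hIdef, Finset.mem_filter] at hi
        exact hi.2 hb
  have hcard : X.ncard = 1 + ∑ i ∈ I, s i := ncard_eq_of_union o Δ hdisj ho s hs I X hXeq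
  -- the stabilizer of the base point in `K` is `H`
  have hst : Nat.card (MulAction.stabilizer K o) = Nat.card H := by
    have h1 : MulAction.stabilizer K o = H.subgroupOf K := by
      ext ⟨k, hk⟩
      rw [MulAction.mem_stabilizer_iff, Subgroup.mem_subgroupOf]
      show ρ k o = o ↔ k ∈ H
      exact ⟨hstab k, hH k⟩
    rw [h1]
    exact Nat.card_congr (Subgroup.subgroupOfEquivOfLe hHK).toEquiv
  have horb : X.ncard * Nat.card H = Nat.card K := by
    have h1 : (MulAction.stabilizer K o).index = X.ncard := MulAction.index_stabilizer K o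
    have h2 := Subgroup.card_mul_index (MulAction.stabilizer K o)
    rw [h1, hst] at h2
    rw [mul_comm]
    exact h2
  have hG : Nat.card G = n * Nat.card H := by
    rw [← hidx, mul_comm]
    exact (Subgroup.card_mul_index H).symm
  have hKdvd : Nat.card K ∣ Nat.card G := Subgroup.card_subgroup_dvd_card K
  have hHpos : 0 < Nat.card H := Nat.card_pos
  have hdvd : X.ncard ∣ n := by
    rw [← horb, hG] at hKdvd
    exact Nat.dvd_of_mul_dvd_mul_right hHpos hKdvd
  by_cases hI : I.Nonempty
  · right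
    have hXn : X.ncard = n := by
      rw [hcard]
      apply harith I hI
      rw [← hcard]
      exact hdvd
    apply Subgroup.eq_top_of_card_eq
    rw [← horb, hXn, hG]
  · left
    rw [Finset.not_nonempty_iff_eq_empty] at hI
    have hX1 : X.ncard = 1 := by
      rw [hcard, hI]
      simp
    have hKH : Nat.card K = Nat.card H := by rw [← horb, hX1, one_mul]
    exact (Subgroup.eq_of_le_of_card_ge hHK (le_of_eq hKH)).symm

end maximal

section three

variable {G : Type*} [Group G] {n : ℕ}

/-- the product of `z` and a conjugate of `z` has order dividing two or three, checked on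
representatives of the double cosets of the subgroup `H` of the centralizer of `z` -/
theorem three_of_cert (ρ : G →* Equiv.Perm (Fin n)) (o : Fin n)
    (H : Subgroup G) (hstab : ∀ g : G, ρ g o = o → g ∈ H)
    (z : G) (hzz : z * z = 1) (hzH : ∀ h ∈ H, h * z = z * h)
    {r : ℕ} (Δ : Fin r → Set (Fin n)) (hΔ : ∀ i, ∃ a, Δ i = imgOrbit ρ H a)
    (hcover : ∀ b, b = o ∨ ∃ i, b ∈ Δ i)
    (y : Fin r → G) (hy : ∀ i, ρ (y i) o ∈ Δ i)
    (hy3 : ∀ i, (z * (y i * z * (y i)⁻¹)) ^ 2 = 1 ∨ (z * (y i * z * (y i)⁻¹)) ^ 3 = 1) (w : G) :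
    (z * (w * z * w⁻¹)) ^ 2 = 1 ∨ (z * (w * z * w⁻¹)) ^ 3 = 1 := by
  rcases hcover (ρ w o) with h | ⟨i, hi⟩
  · have hw := hstab w h
    have hc := hzH w hw
    have h1 : w * z * w⁻¹ = z := by rw [hc]; group
    left
    rw [h1, hzz, one_pow]
  · obtain ⟨a, ha⟩ := hΔ i
    have hyi := hy i
    rw [ha] at hi hyi
    obtain ⟨h1, hh1, e1⟩ := hi
    obtain ⟨h2, hh2, e2⟩ := hyi
    have hhH : h1 * h2⁻¹ ∈ H := H.mul_mem hh1 (H.inv_mem hh2)
    have e3 : ρ (h1 * h2⁻¹ * y i) o = ρ w o := by
      rw [map_mul, Equiv.Perm.mul_apply, ← e2, map_mul, map_inv, Equiv.Perm.mul_apply,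
        perm_inv_apply_self, e1]
    have hh'H : (h1 * h2⁻¹ * y i)⁻¹ * w ∈ H := by
      apply hstab
      rw [map_mul, map_inv, Equiv.Perm.mul_apply, ← e3, perm_inv_apply_self]
    generalize h1 * h2⁻¹ = h at hhH hh'H
    generalize hh' : (h * y i)⁻¹ * w = h' at hh'H
    have hw : w = h * y i * h' := by rw [← hh']; group
    have c1 := hzH h hhH
    have c2 := hzH h' hh'H
    have key : z * (w * z * w⁻¹) = h * (z * (y i * z * (y i)⁻¹)) * h⁻¹ := by
      rw [hw]
      calc z * (h * y i * h' * z * (h * y i * h')⁻¹)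
          = z * h * y i * (h' * z) * h'⁻¹ * (y i)⁻¹ * h⁻¹ := by group
        _ = h * z * y i * (z * h') * h'⁻¹ * (y i)⁻¹ * h⁻¹ := by rw [c2, ← c1]
        _ = h * (z * (y i * z * (y i)⁻¹)) * h⁻¹ := by group
    rw [key, conj_pow, conj_pow]
    rcases hy3 i with h3 | h3
    · left
      rw [h3]
      group
    · right
      rw [h3]
      group

/-- the conjugates of an involution form a set of 3-transpositions, when the products with the
involution have order dividing two or three -/
theorem isThreeTranspositionSet_conjugatesOf (z : G) (hz1 : z ≠ 1) (hzz : z * z = 1)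
    (h : ∀ w : G, (z * (w * z * w⁻¹)) ^ 2 = 1 ∨ (z * (w * z * w⁻¹)) ^ 3 = 1) :
    Cfsg.IsThreeTranspositionSet (conjugatesOf z) := by
  constructor
  · intro d hd
    obtain ⟨x, rfl⟩ := isConj_iff.1 (show IsConj z d from hd)
    have : Fact (Nat.Prime 2) := ⟨Nat.prime_two⟩
    apply orderOf_eq_prime
    · rw [conj_pow, pow_two, hzz]
      group
    · intro h1
      apply hz1
      have h2 : z = x⁻¹ * (x * z * x⁻¹) * x := by group
      rw [h2, h1]
      group
  · intro d hd e he
    obtain ⟨x, rfl⟩ := isConj_iff.1 (show IsConj z d from hd)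
    obtain ⟨y, rfl⟩ := isConj_iff.1 (show IsConj z e from he)
    have key : x * z * x⁻¹ * (y * z * y⁻¹) =
        x * (z * ((x⁻¹ * y) * z * (x⁻¹ * y)⁻¹)) * x⁻¹ := by group
    rw [key, conj_pow, conj_pow]
    rcases h (x⁻¹ * y) with h3 | h3
    · left
      rw [h3]
      group
    · right
      rw [h3]
      group

/-- the centre of a finite simple group whose order is not a prime is trivial -/
theorem center_eq_bot_of_simple [hs : IsSimpleGroup G] (hc : ¬ (Nat.card G).Prime) :
    Subgroup.center G = ⊥ := by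
  rcases hs.eq_bot_or_eq_top_of_normal (Subgroup.center G) inferInstance with h | h
  · exact h
  · exfalso
    exact hc (@IsSimpleGroup.prime_card G (Group.commGroupOfCenterEqTop h) hs)

/-- a homomorphism from a simple group that is not trivial is injective -/
theorem injective_of_simple {G' : Type*} [Group G'] [hs : IsSimpleGroup G] (f : G →* G')
    {x : G} (hx : f x ≠ 1) : Function.Injective f := by
  rw [← MonoidHom.ker_eq_bot_iff]
  rcases hs.eq_bot_or_eq_top_of_normal f.ker inferInstance with h | h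
  · exact h
  · exfalso
    apply hx
    have : x ∈ f.ker := by rw [h]; exact Subgroup.mem_top x
    exact MonoidHom.mem_ker.1 this

end three

end Cfsg.Agent.Lib.Helper6.T3Gen
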