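import Cfsg.Agent.Lib.Helper6.ONSCert

/-! # ON: the kernel check of the rows from 52104 on -/

set_option autoImplicit false

namespace Cfsg.Agent.Lib.Helper6.ONTC

open Cfsg.Agent.Lib.Helper6.TC Cfsg.Agent.Lib.Helper6.TCGS

theorem chk_rows4_0 : cert.rowsOK 52104 564 = true := by decide +kernel

theorem chk_rows4_1 : cert.rowsOK 52668 564 = true := by decide +kernel

theorem chk_rows4_2 : cert.rowsOK 53232 564 = true := by decide +kernel

theorem chk_rows4_3 : cert.rowsOK 53796 564 = true := by decide +kernel

theorem chk_rows4_4 : cert.rowsOK 54360 564 = true := by decide +kernel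

theorem chk_rows4_5 : cert.rowsOK 54924 564 = true := by decide +kernel

theorem chk_rows4_6 : cert.rowsOK 55488 564 = true := by decide +kernel

theorem chk_rows4_7 : cert.rowsOK 56052 564 = true := by decide +kernel

theorem chk_rows4_8 : cert.rowsOK 56616 564 = true := by decide +kernel

theorem chk_rows4_9 : cert.rowsOK 57180 564 = true := by decide +kernel

theorem chk_rows4_10 : cert.rowsOK 57744 564 = true := by decide +kernel

theorem chk_rows4_11 : cert.rowsOK 58308 564 = true := by decide +kernel

theorem chk_rows4_12 : cert.rowsOK 58872 564 = true := by decide +kernel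

theorem chk_rows4_13 : cert.rowsOK 59436 564 = true := by decide +kernel

theorem chk_rows4_14 : cert.rowsOK 60000 564 = true := by decide +kernel

theorem chk_rows4_15 : cert.rowsOK 60564 564 = true := by decide +kernel

theorem chk_rows4_16 : cert.rowsOK 61128 564 = true := by decide +kernel

theorem chk_rows4_17 : cert.rowsOK 61692 564 = true := by decide +kernel

theorem chk_rows4_18 : cert.rowsOK 62256 564 = true := by decide +kernel

theorem chk_rows4_19 : cert.rowsOK 62820 564 = true := by decide +kernel

theorem chk_rows4_20 : cert.rowsOK 63384 564 = true := by decide +kernel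

theorem chk_rows4_21 : cert.rowsOK 63948 564 = true := by decide +kernel

theorem chk_rows4_22 : cert.rowsOK 64512 564 = true := by decide +kernel

theorem chk_rows4_23 : cert.rowsOK 65076 564 = true := by decide +kernel

theorem chk_range4 : ∀ a, 52104 ≤ a → a < 65640 → ∀ x < cert.c.g, cert.slotOK a x = true := by
  refine cert.range_of_chunks 52104 564 24 (by norm_num) ?_
  intro k hk
  interval_cases k
  · exact chk_rows4_0
  · exact chk_rows4_1
  · exact chk_rows4_2
  · exact chk_rows4_3
  · exact chk_rows4_4
  · exact chk_rows4_5
  · exact chk_rows4_6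
  · exact chk_rows4_7
  · exact chk_rows4_8
  · exact chk_rows4_9
  · exact chk_rows4_10
  · exact chk_rows4_11
  · exact chk_rows4_12
  · exact chk_rows4_13
  · exact chk_rows4_14
  · exact chk_rows4_15
  · exact chk_rows4_16
  · exact chk_rows4_17
  · exact chk_rows4_18
  · exact chk_rows4_19
  · exact chk_rows4_20
  · exact chk_rows4_21
  · exact chk_rows4_22
  · exact chk_rows4_23

end Cfsg.Agent.Lib.Helper6.ONTC
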