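import Cfsg.Agent.Lib.Helper6.ONSCert
import Cfsg.Agent.Lib.Helper6.ONSRows4

/-! # ON: the kernel check of the rows from 316632 on -/

set_option autoImplicit false

namespace Cfsg.Agent.Lib.Helper6.ONTC

open Cfsg.Agent.Lib.Helper6.TC Cfsg.Agent.Lib.Helper6.TCGS

theorem chk_rows16_0 : cert.rowsOK 316632 1500 = true := by decide +kernel

theorem chk_rows16_1 : cert.rowsOK 318132 1500 = true := by decide +kernel

theorem chk_rows16_2 : cert.rowsOK 319632 1500 = true := by decide +kernel

theorem chk_rows16_3 : cert.rowsOK 321132 1500 = true := by decide +kernel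

theorem chk_rows16_4 : cert.rowsOK 322632 1500 = true := by decide +kernel

theorem chk_rows16_5 : cert.rowsOK 324132 1500 = true := by decide +kernel

theorem chk_rows16_6 : cert.rowsOK 325632 1500 = true := by decide +kernel

theorem chk_rows16_7 : cert.rowsOK 327132 1500 = true := by decide +kernel

theorem chk_rows16_8 : cert.rowsOK 328632 1500 = true := by decide +kernel

theorem chk_rows16_9 : cert.rowsOK 330132 1500 = true := by decide +kernel

theorem chk_rows16_10 : cert.rowsOK 331632 1500 = true := by decide +kernel

theorem chk_rows16_11 : cert.rowsOK 333132 1500 = true := by decide +kernel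

theorem chk_rows16_12 : cert.rowsOK 334632 1500 = true := by decide +kernel

theorem chk_rows16_13 : cert.rowsOK 336132 1500 = true := by decide +kernel

theorem chk_rows16_14 : cert.rowsOK 337632 1500 = true := by decide +kernel

theorem chk_rows16_15 : cert.rowsOK 339132 1500 = true := by decide +kernel

theorem chk_rows16_16 : cert.rowsOK 340632 1500 = true := by decide +kernel

theorem chk_rows16_17 : cert.rowsOK 342132 1500 = true := by decide +kernel

theorem chk_rows16_18 : cert.rowsOK 343632 1500 = true := by decide +kernel

theorem chk_rows16_19 : cert.rowsOK 345132 1500 = true := by decide +kernel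

theorem chk_rows16_20 : cert.rowsOK 346632 1500 = true := by decide +kernel

theorem chk_rows16_21 : cert.rowsOK 348132 1500 = true := by decide +kernel

theorem chk_rows16_22 : cert.rowsOK 349632 1500 = true := by decide +kernel

theorem chk_rows16_23 : cert.rowsOK 351132 1500 = true := by decide +kernel

theorem chk_range16 : ∀ a, 316632 ≤ a → a < 352632 → ∀ x < cert.c.g, cert.slotOK a x = true := by
  refine cert.range_of_chunks 316632 1500 24 (by norm_num) ?_
  intro k hk
  interval_cases k
  · exact chk_rows16_0
  · exact chk_rows16_1
  · exact chk_rows16_2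
  · exact chk_rows16_3
  · exact chk_rows16_4
  · exact chk_rows16_5
  · exact chk_rows16_6
  · exact chk_rows16_7
  · exact chk_rows16_8
  · exact chk_rows16_9
  · exact chk_rows16_10
  · exact chk_rows16_11
  · exact chk_rows16_12
  · exact chk_rows16_13
  · exact chk_rows16_14
  · exact chk_rows16_15
  · exact chk_rows16_16
  · exact chk_rows16_17
  · exact chk_rows16_18
  · exact chk_rows16_19
  · exact chk_rows16_20
  · exact chk_rows16_21
  · exact chk_rows16_22
  · exact chk_rows16_23

end Cfsg.Agent.Lib.Helper6.ONTC
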