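import Cfsg.Agent.Lib.Helper6.ONTCData
import Cfsg.Agent.Lib.Helper6.TCRel3
import Cfsg.Agent.Lib.Helper6.ONSMRows21

/-! # ON: the kernel check of a part of the relators on the coset table -/

set_option autoImplicit false

namespace Cfsg.Agent.Lib.Helper6.ONTC

open Cfsg.Agent.Lib.Helper6.TC

theorem chk_pow0_0_0 : tab.minOKc [0, 1] 3 0 5343 = true := by decide +kernel

theorem chk_pow0_0_1 : tab.minOKc [0, 1] 3 5343 5343 = true := by decide +kernel

theorem chk_pow0_0_2 : tab.minOKc [0, 1] 3 10686 5343 = true := by decide +kernel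

theorem chk_pow0_0_3 : tab.minOKc [0, 1] 3 16029 5343 = true := by decide +kernel

theorem chk_pow0_0_4 : tab.minOKc [0, 1] 3 21372 5343 = true := by decide +kernel

theorem chk_pow0_0_5 : tab.minOKc [0, 1] 3 26715 5343 = true := by decide +kernel

theorem chk_pow0_0_6 : tab.minOKc [0, 1] 3 32058 5343 = true := by decide +kernel

theorem chk_pow0_0_7 : tab.minOKc [0, 1] 3 37401 5343 = true := by decide +kernel

theorem chk_pow0_0_8 : tab.minOKc [0, 1] 3 42744 5343 = true := by decide +kernel

theorem chk_pow0_0_9 : tab.minOKc [0, 1] 3 48087 5343 = true := by decide +kernel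

theorem chk_pow0_0_10 : tab.minOKc [0, 1] 3 53430 5343 = true := by decide +kernel

theorem chk_pow0_0_11 : tab.minOKc [0, 1] 3 58773 5343 = true := by decide +kernel

theorem chk_pow0_0_12 : tab.minOKc [0, 1] 3 64116 5343 = true := by decide +kernel

theorem chk_pow0_0_13 : tab.minOKc [0, 1] 3 69459 5343 = true := by decide +kernel

theorem chk_pow0_0_14 : tab.minOKc [0, 1] 3 74802 5343 = true := by decide +kernel

theorem chk_pow0_0 : tab.minOKc [0, 1] 3 0 80145 = true := by
  refine tab.minOKc_of_chunks [0, 1] 3 0 5343 15 (by norm_num) ?_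
  intro i hi
  interval_cases i
  · exact chk_pow0_0_0
  · exact chk_pow0_0_1
  · exact chk_pow0_0_2
  · exact chk_pow0_0_3
  · exact chk_pow0_0_4
  · exact chk_pow0_0_5
  · exact chk_pow0_0_6
  · exact chk_pow0_0_7
  · exact chk_pow0_0_8
  · exact chk_pow0_0_9
  · exact chk_pow0_0_10
  · exact chk_pow0_0_11
  · exact chk_pow0_0_12
  · exact chk_pow0_0_13
  · exact chk_pow0_0_14

theorem chk_pow0_1_0 : tab.minOKc [0, 1] 3 80145 5343 = true := by decide +kernel

theorem chk_pow0_1_1 : tab.minOKc [0, 1] 3 85488 5343 = true := by decide +kernel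

theorem chk_pow0_1_2 : tab.minOKc [0, 1] 3 90831 5343 = true := by decide +kernel

theorem chk_pow0_1_3 : tab.minOKc [0, 1] 3 96174 5343 = true := by decide +kernel

theorem chk_pow0_1_4 : tab.minOKc [0, 1] 3 101517 5343 = true := by decide +kernel

theorem chk_pow0_1_5 : tab.minOKc [0, 1] 3 106860 5343 = true := by decide +kernel

theorem chk_pow0_1_6 : tab.minOKc [0, 1] 3 112203 5343 = true := by decide +kernel

theorem chk_pow0_1_7 : tab.minOKc [0, 1] 3 117546 5343 = true := by decide +kernel

theorem chk_pow0_1_8 : tab.minOKc [0, 1] 3 122889 5343 = true := by decide +kernel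

theorem chk_pow0_1_9 : tab.minOKc [0, 1] 3 128232 5343 = true := by decide +kernel

theorem chk_pow0_1_10 : tab.minOKc [0, 1] 3 133575 5343 = true := by decide +kernel

theorem chk_pow0_1_11 : tab.minOKc [0, 1] 3 138918 5343 = true := by decide +kernel

theorem chk_pow0_1_12 : tab.minOKc [0, 1] 3 144261 5343 = true := by decide +kernel

theorem chk_pow0_1_13 : tab.minOKc [0, 1] 3 149604 5343 = true := by decide +kernel

theorem chk_pow0_1_14 : tab.minOKc [0, 1] 3 154947 5343 = true := by decide +kernel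

theorem chk_pow0_1 : tab.minOKc [0, 1] 3 80145 80145 = true := by
  refine tab.minOKc_of_chunks [0, 1] 3 80145 5343 15 (by norm_num) ?_
  intro i hi
  interval_cases i
  · exact chk_pow0_1_0
  · exact chk_pow0_1_1
  · exact chk_pow0_1_2
  · exact chk_pow0_1_3
  · exact chk_pow0_1_4
  · exact chk_pow0_1_5
  · exact chk_pow0_1_6
  · exact chk_pow0_1_7
  · exact chk_pow0_1_8
  · exact chk_pow0_1_9
  · exact chk_pow0_1_10
  · exact chk_pow0_1_11
  · exact chk_pow0_1_12
  · exact chk_pow0_1_13
  · exact chk_pow0_1_14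

end Cfsg.Agent.Lib.Helper6.ONTC
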