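import Cfsg.Agent.Lib.Helper6.ONSCert

/-! # ON: the kernel check of the rows from 65640 on -/

set_option autoImplicit false

namespace Cfsg.Agent.Lib.Helper6.ONTC

open Cfsg.Agent.Lib.Helper6.TC Cfsg.Agent.Lib.Helper6.TCGS

theorem chk_rows5_0 : cert.rowsOK 65640 664 = true := by decide +kernel

theorem chk_rows5_1 : cert.rowsOK 66304 664 = true := by decide +kernel

theorem chk_rows5_2 : cert.rowsOK 66968 664 = true := by decide +kernel

theorem chk_rows5_3 : cert.rowsOK 67632 664 = true := by decide +kernel

theorem chk_rows5_4 : cert.rowsOK 68296 664 = true := by decide +kernel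

theorem chk_rows5_5 : cert.rowsOK 68960 664 = true := by decide +kernel

theorem chk_rows5_6 : cert.rowsOK 69624 664 = true := by decide +kernel

theorem chk_rows5_7 : cert.rowsOK 70288 664 = true := by decide +kernel

theorem chk_rows5_8 : cert.rowsOK 70952 664 = true := by decide +kernel

theorem chk_rows5_9 : cert.rowsOK 71616 664 = true := by decide +kernel

theorem chk_rows5_10 : cert.rowsOK 72280 664 = true := by decide +kernel

theorem chk_rows5_11 : cert.rowsOK 72944 664 = true := by decide +kernel

theorem chk_rows5_12 : cert.rowsOK 73608 664 = true := by decide +kernel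

theorem chk_rows5_13 : cert.rowsOK 74272 664 = true := by decide +kernel

theorem chk_rows5_14 : cert.rowsOK 74936 664 = true := by decide +kernel

theorem chk_rows5_15 : cert.rowsOK 75600 664 = true := by decide +kernel

theorem chk_rows5_16 : cert.rowsOK 76264 664 = true := by decide +kernel

theorem chk_rows5_17 : cert.rowsOK 76928 664 = true := by decide +kernel

theorem chk_rows5_18 : cert.rowsOK 77592 664 = true := by decide +kernel

theorem chk_rows5_19 : cert.rowsOK 78256 664 = true := by decide +kernel

theorem chk_rows5_20 : cert.rowsOK 78920 664 = true := by decide +kernel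

theorem chk_rows5_21 : cert.rowsOK 79584 664 = true := by decide +kernel

theorem chk_rows5_22 : cert.rowsOK 80248 664 = true := by decide +kernel

theorem chk_rows5_23 : cert.rowsOK 80912 664 = true := by decide +kernel

theorem chk_range5 : ∀ a, 65640 ≤ a → a < 81576 → ∀ x < cert.c.g, cert.slotOK a x = true := by
  refine cert.range_of_chunks 65640 664 24 (by norm_num) ?_
  intro k hk
  interval_cases k
  · exact chk_rows5_0
  · exact chk_rows5_1
  · exact chk_rows5_2
  · exact chk_rows5_3
  · exact chk_rows5_4
  · exact chk_rows5_5
  · exact chk_rows5_6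
  · exact chk_rows5_7
  · exact chk_rows5_8
  · exact chk_rows5_9
  · exact chk_rows5_10
  · exact chk_rows5_11
  · exact chk_rows5_12
  · exact chk_rows5_13
  · exact chk_rows5_14
  · exact chk_rows5_15
  · exact chk_rows5_16
  · exact chk_rows5_17
  · exact chk_rows5_18
  · exact chk_rows5_19
  · exact chk_rows5_20
  · exact chk_rows5_21
  · exact chk_rows5_22
  · exact chk_rows5_23

end Cfsg.Agent.Lib.Helper6.ONTC
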