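import Cfsg.Agent.Lib.Helper6.ONSCert
import Cfsg.Agent.Lib.Helper6.ONSRows3

/-! # ON: the kernel check of the rows from 290640 on -/

set_option autoImplicit false

namespace Cfsg.Agent.Lib.Helper6.ONTC

open Cfsg.Agent.Lib.Helper6.TC Cfsg.Agent.Lib.Helper6.TCGS

theorem chk_rows15_0 : cert.rowsOK 290640 1083 = true := by decide +kernel

theorem chk_rows15_1 : cert.rowsOK 291723 1083 = true := by decide +kernel

theorem chk_rows15_2 : cert.rowsOK 292806 1083 = true := by decide +kernel

theorem chk_rows15_3 : cert.rowsOK 293889 1083 = true := by decide +kernel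

theorem chk_rows15_4 : cert.rowsOK 294972 1083 = true := by decide +kernel

theorem chk_rows15_5 : cert.rowsOK 296055 1083 = true := by decide +kernel

theorem chk_rows15_6 : cert.rowsOK 297138 1083 = true := by decide +kernel

theorem chk_rows15_7 : cert.rowsOK 298221 1083 = true := by decide +kernel

theorem chk_rows15_8 : cert.rowsOK 299304 1083 = true := by decide +kernel

theorem chk_rows15_9 : cert.rowsOK 300387 1083 = true := by decide +kernel

theorem chk_rows15_10 : cert.rowsOK 301470 1083 = true := by decide +kernel

theorem chk_rows15_11 : cert.rowsOK 302553 1083 = true := by decide +kernel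

theorem chk_rows15_12 : cert.rowsOK 303636 1083 = true := by decide +kernel

theorem chk_rows15_13 : cert.rowsOK 304719 1083 = true := by decide +kernel

theorem chk_rows15_14 : cert.rowsOK 305802 1083 = true := by decide +kernel

theorem chk_rows15_15 : cert.rowsOK 306885 1083 = true := by decide +kernel

theorem chk_rows15_16 : cert.rowsOK 307968 1083 = true := by decide +kernel

theorem chk_rows15_17 : cert.rowsOK 309051 1083 = true := by decide +kernel

theorem chk_rows15_18 : cert.rowsOK 310134 1083 = true := by decide +kernel

theorem chk_rows15_19 : cert.rowsOK 311217 1083 = true := by decide +kernel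

theorem chk_rows15_20 : cert.rowsOK 312300 1083 = true := by decide +kernel

theorem chk_rows15_21 : cert.rowsOK 313383 1083 = true := by decide +kernel

theorem chk_rows15_22 : cert.rowsOK 314466 1083 = true := by decide +kernel

theorem chk_rows15_23 : cert.rowsOK 315549 1083 = true := by decide +kernel

theorem chk_range15 : ∀ a, 290640 ≤ a → a < 316632 → ∀ x < cert.c.g, cert.slotOK a x = true := by
  refine cert.range_of_chunks 290640 1083 24 (by norm_num) ?_
  intro k hk
  interval_cases k
  · exact chk_rows15_0
  · exact chk_rows15_1
  · exact chk_rows15_2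
  · exact chk_rows15_3
  · exact chk_rows15_4
  · exact chk_rows15_5
  · exact chk_rows15_6
  · exact chk_rows15_7
  · exact chk_rows15_8
  · exact chk_rows15_9
  · exact chk_rows15_10
  · exact chk_rows15_11
  · exact chk_rows15_12
  · exact chk_rows15_13
  · exact chk_rows15_14
  · exact chk_rows15_15
  · exact chk_rows15_16
  · exact chk_rows15_17
  · exact chk_rows15_18
  · exact chk_rows15_19
  · exact chk_rows15_20
  · exact chk_rows15_21
  · exact chk_rows15_22
  · exact chk_rows15_23

end Cfsg.Agent.Lib.Helper6.ONTC
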