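import Cfsg.Agent.Lib.Helper6.ONTCData
import Cfsg.Agent.Lib.Helper6.TCRel3
import Cfsg.Agent.Lib.Helper6.ONSFin6

/-! # ON: the kernel check of a part of the relators on the coset table -/

set_option autoImplicit false

namespace Cfsg.Agent.Lib.Helper6.ONTC

open Cfsg.Agent.Lib.Helper6.TC

theorem chk_pow10_1_0 : tab.minOKc [0, 5] 2 100395 6693 = true := by decide +kernel

theorem chk_pow10_1_1 : tab.minOKc [0, 5] 2 107088 6693 = true := by decide +kernel

theorem chk_pow10_1_2 : tab.minOKc [0, 5] 2 113781 6693 = true := by decide +kernel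

theorem chk_pow10_1_3 : tab.minOKc [0, 5] 2 120474 6693 = true := by decide +kernel

theorem chk_pow10_1_4 : tab.minOKc [0, 5] 2 127167 6693 = true := by decide +kernel

theorem chk_pow10_1_5 : tab.minOKc [0, 5] 2 133860 6693 = true := by decide +kernel

theorem chk_pow10_1_6 : tab.minOKc [0, 5] 2 140553 6693 = true := by decide +kernel

theorem chk_pow10_1_7 : tab.minOKc [0, 5] 2 147246 6693 = true := by decide +kernel

theorem chk_pow10_1_8 : tab.minOKc [0, 5] 2 153939 6693 = true := by decide +kernel

theorem chk_pow10_1_9 : tab.minOKc [0, 5] 2 160632 6693 = true := by decide +kernel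

theorem chk_pow10_1_10 : tab.minOKc [0, 5] 2 167325 6693 = true := by decide +kernel

theorem chk_pow10_1_11 : tab.minOKc [0, 5] 2 174018 6693 = true := by decide +kernel

theorem chk_pow10_1_12 : tab.minOKc [0, 5] 2 180711 6693 = true := by decide +kernel

theorem chk_pow10_1_13 : tab.minOKc [0, 5] 2 187404 6693 = true := by decide +kernel

theorem chk_pow10_1_14 : tab.minOKc [0, 5] 2 194097 6693 = true := by decide +kernel

theorem chk_pow10_1 : tab.minOKc [0, 5] 2 100395 100395 = true := by
  refine tab.minOKc_of_chunks [0, 5] 2 100395 6693 15 (by norm_num) ?_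
  intro i hi
  interval_cases i
  · exact chk_pow10_1_0
  · exact chk_pow10_1_1
  · exact chk_pow10_1_2
  · exact chk_pow10_1_3
  · exact chk_pow10_1_4
  · exact chk_pow10_1_5
  · exact chk_pow10_1_6
  · exact chk_pow10_1_7
  · exact chk_pow10_1_8
  · exact chk_pow10_1_9
  · exact chk_pow10_1_10
  · exact chk_pow10_1_11
  · exact chk_pow10_1_12
  · exact chk_pow10_1_13
  · exact chk_pow10_1_14

theorem chk_pow11_0_0 : tab.minOKc [1, 5] 2 0 6727 = true := by decide +kernel

theorem chk_pow11_0_1 : tab.minOKc [1, 5] 2 6727 6727 = true := by decide +kernel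

theorem chk_pow11_0_2 : tab.minOKc [1, 5] 2 13454 6727 = true := by decide +kernel

theorem chk_pow11_0_3 : tab.minOKc [1, 5] 2 20181 6727 = true := by decide +kernel

theorem chk_pow11_0_4 : tab.minOKc [1, 5] 2 26908 6727 = true := by decide +kernel

theorem chk_pow11_0_5 : tab.minOKc [1, 5] 2 33635 6727 = true := by decide +kernel

theorem chk_pow11_0_6 : tab.minOKc [1, 5] 2 40362 6727 = true := by decide +kernel

theorem chk_pow11_0_7 : tab.minOKc [1, 5] 2 47089 6727 = true := by decide +kernel

theorem chk_pow11_0_8 : tab.minOKc [1, 5] 2 53816 6727 = true := by decide +kernel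

theorem chk_pow11_0_9 : tab.minOKc [1, 5] 2 60543 6727 = true := by decide +kernel

theorem chk_pow11_0_10 : tab.minOKc [1, 5] 2 67270 6727 = true := by decide +kernel

theorem chk_pow11_0_11 : tab.minOKc [1, 5] 2 73997 6727 = true := by decide +kernel

theorem chk_pow11_0_12 : tab.minOKc [1, 5] 2 80724 6727 = true := by decide +kernel

theorem chk_pow11_0_13 : tab.minOKc [1, 5] 2 87451 6727 = true := by decide +kernel

theorem chk_pow11_0_14 : tab.minOKc [1, 5] 2 94178 6727 = true := by decide +kernel

theorem chk_pow11_0 : tab.minOKc [1, 5] 2 0 100905 = true := by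
  refine tab.minOKc_of_chunks [1, 5] 2 0 6727 15 (by norm_num) ?_
  intro i hi
  interval_cases i
  · exact chk_pow11_0_0
  · exact chk_pow11_0_1
  · exact chk_pow11_0_2
  · exact chk_pow11_0_3
  · exact chk_pow11_0_4
  · exact chk_pow11_0_5
  · exact chk_pow11_0_6
  · exact chk_pow11_0_7
  · exact chk_pow11_0_8
  · exact chk_pow11_0_9
  · exact chk_pow11_0_10
  · exact chk_pow11_0_11
  · exact chk_pow11_0_12
  · exact chk_pow11_0_13
  · exact chk_pow11_0_14

end Cfsg.Agent.Lib.Helper6.ONTC
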