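import Cfsg.Agent.Lib.Helper6.ONSCert
import Cfsg.Agent.Lib.Helper6.ONSRows6

/-! # ON: the kernel check of the rows from 388632 on -/

set_option autoImplicit false

namespace Cfsg.Agent.Lib.Helper6.ONTC

open Cfsg.Agent.Lib.Helper6.TC Cfsg.Agent.Lib.Helper6.TCGS

theorem chk_rows18_0 : cert.rowsOK 388632 1500 = true := by decide +kernel

theorem chk_rows18_1 : cert.rowsOK 390132 1500 = true := by decide +kernel

theorem chk_rows18_2 : cert.rowsOK 391632 1500 = true := by decide +kernel

theorem chk_rows18_3 : cert.rowsOK 393132 1500 = true := by decide +kernel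

theorem chk_rows18_4 : cert.rowsOK 394632 1500 = true := by decide +kernel

theorem chk_rows18_5 : cert.rowsOK 396132 1500 = true := by decide +kernel

theorem chk_rows18_6 : cert.rowsOK 397632 1500 = true := by decide +kernel

theorem chk_rows18_7 : cert.rowsOK 399132 1500 = true := by decide +kernel

theorem chk_rows18_8 : cert.rowsOK 400632 1500 = true := by decide +kernel

theorem chk_rows18_9 : cert.rowsOK 402132 1500 = true := by decide +kernel

theorem chk_rows18_10 : cert.rowsOK 403632 1500 = true := by decide +kernel

theorem chk_rows18_11 : cert.rowsOK 405132 1500 = true := by decide +kernel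

theorem chk_rows18_12 : cert.rowsOK 406632 1500 = true := by decide +kernel

theorem chk_rows18_13 : cert.rowsOK 408132 1500 = true := by decide +kernel

theorem chk_rows18_14 : cert.rowsOK 409632 1500 = true := by decide +kernel

theorem chk_rows18_15 : cert.rowsOK 411132 1500 = true := by decide +kernel

theorem chk_rows18_16 : cert.rowsOK 412632 1500 = true := by decide +kernel

theorem chk_rows18_17 : cert.rowsOK 414132 1500 = true := by decide +kernel

theorem chk_rows18_18 : cert.rowsOK 415632 1500 = true := by decide +kernel

theorem chk_rows18_19 : cert.rowsOK 417132 1500 = true := by decide +kernel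

theorem chk_rows18_20 : cert.rowsOK 418632 1500 = true := by decide +kernel

theorem chk_rows18_21 : cert.rowsOK 420132 1500 = true := by decide +kernel

theorem chk_rows18_22 : cert.rowsOK 421632 1500 = true := by decide +kernel

theorem chk_rows18_23 : cert.rowsOK 423132 1500 = true := by decide +kernel

theorem chk_range18 : ∀ a, 388632 ≤ a → a < 424632 → ∀ x < cert.c.g, cert.slotOK a x = true := by
  refine cert.range_of_chunks 388632 1500 24 (by norm_num) ?_
  intro k hk
  interval_cases k
  · exact chk_rows18_0
  · exact chk_rows18_1
  · exact chk_rows18_2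
  · exact chk_rows18_3
  · exact chk_rows18_4
  · exact chk_rows18_5
  · exact chk_rows18_6
  · exact chk_rows18_7
  · exact chk_rows18_8
  · exact chk_rows18_9
  · exact chk_rows18_10
  · exact chk_rows18_11
  · exact chk_rows18_12
  · exact chk_rows18_13
  · exact chk_rows18_14
  · exact chk_rows18_15
  · exact chk_rows18_16
  · exact chk_rows18_17
  · exact chk_rows18_18
  · exact chk_rows18_19
  · exact chk_rows18_20
  · exact chk_rows18_21
  · exact chk_rows18_22
  · exact chk_rows18_23

end Cfsg.Agent.Lib.Helper6.ONTC
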