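import Cfsg.Agent.Lib.Helper6.ONTCData
import Cfsg.Agent.Lib.Helper6.TCRel3
import Cfsg.Agent.Lib.Helper6.ONSMRows23

/-! # ON: the kernel check of a part of the relators on the coset table -/

set_option autoImplicit false

namespace Cfsg.Agent.Lib.Helper6.ONTC

open Cfsg.Agent.Lib.Helper6.TC

theorem chk_pow2_0_0 : tab.minOKc [1, 2] 3 0 5335 = true := by decide +kernel

theorem chk_pow2_0_1 : tab.minOKc [1, 2] 3 5335 5335 = true := by decide +kernel

theorem chk_pow2_0_2 : tab.minOKc [1, 2] 3 10670 5335 = true := by decide +kernel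

theorem chk_pow2_0_3 : tab.minOKc [1, 2] 3 16005 5335 = true := by decide +kernel

theorem chk_pow2_0_4 : tab.minOKc [1, 2] 3 21340 5335 = true := by decide +kernel

theorem chk_pow2_0_5 : tab.minOKc [1, 2] 3 26675 5335 = true := by decide +kernel

theorem chk_pow2_0_6 : tab.minOKc [1, 2] 3 32010 5335 = true := by decide +kernel

theorem chk_pow2_0_7 : tab.minOKc [1, 2] 3 37345 5335 = true := by decide +kernel

theorem chk_pow2_0_8 : tab.minOKc [1, 2] 3 42680 5335 = true := by decide +kernel

theorem chk_pow2_0_9 : tab.minOKc [1, 2] 3 48015 5335 = true := by decide +kernel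

theorem chk_pow2_0_10 : tab.minOKc [1, 2] 3 53350 5335 = true := by decide +kernel

theorem chk_pow2_0_11 : tab.minOKc [1, 2] 3 58685 5335 = true := by decide +kernel

theorem chk_pow2_0_12 : tab.minOKc [1, 2] 3 64020 5335 = true := by decide +kernel

theorem chk_pow2_0_13 : tab.minOKc [1, 2] 3 69355 5335 = true := by decide +kernel

theorem chk_pow2_0_14 : tab.minOKc [1, 2] 3 74690 5335 = true := by decide +kernel

theorem chk_pow2_0 : tab.minOKc [1, 2] 3 0 80025 = true := by
  refine tab.minOKc_of_chunks [1, 2] 3 0 5335 15 (by norm_num) ?_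
  intro i hi
  interval_cases i
  · exact chk_pow2_0_0
  · exact chk_pow2_0_1
  · exact chk_pow2_0_2
  · exact chk_pow2_0_3
  · exact chk_pow2_0_4
  · exact chk_pow2_0_5
  · exact chk_pow2_0_6
  · exact chk_pow2_0_7
  · exact chk_pow2_0_8
  · exact chk_pow2_0_9
  · exact chk_pow2_0_10
  · exact chk_pow2_0_11
  · exact chk_pow2_0_12
  · exact chk_pow2_0_13
  · exact chk_pow2_0_14

theorem chk_pow2_1_0 : tab.minOKc [1, 2] 3 80025 5335 = true := by decide +kernel

theorem chk_pow2_1_1 : tab.minOKc [1, 2] 3 85360 5335 = true := by decide +kernel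

theorem chk_pow2_1_2 : tab.minOKc [1, 2] 3 90695 5335 = true := by decide +kernel

theorem chk_pow2_1_3 : tab.minOKc [1, 2] 3 96030 5335 = true := by decide +kernel

theorem chk_pow2_1_4 : tab.minOKc [1, 2] 3 101365 5335 = true := by decide +kernel

theorem chk_pow2_1_5 : tab.minOKc [1, 2] 3 106700 5335 = true := by decide +kernel

theorem chk_pow2_1_6 : tab.minOKc [1, 2] 3 112035 5335 = true := by decide +kernel

theorem chk_pow2_1_7 : tab.minOKc [1, 2] 3 117370 5335 = true := by decide +kernel

theorem chk_pow2_1_8 : tab.minOKc [1, 2] 3 122705 5335 = true := by decide +kernel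

theorem chk_pow2_1_9 : tab.minOKc [1, 2] 3 128040 5335 = true := by decide +kernel

theorem chk_pow2_1_10 : tab.minOKc [1, 2] 3 133375 5335 = true := by decide +kernel

theorem chk_pow2_1_11 : tab.minOKc [1, 2] 3 138710 5335 = true := by decide +kernel

theorem chk_pow2_1_12 : tab.minOKc [1, 2] 3 144045 5335 = true := by decide +kernel

theorem chk_pow2_1_13 : tab.minOKc [1, 2] 3 149380 5335 = true := by decide +kernel

theorem chk_pow2_1_14 : tab.minOKc [1, 2] 3 154715 5335 = true := by decide +kernel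

theorem chk_pow2_1 : tab.minOKc [1, 2] 3 80025 80025 = true := by
  refine tab.minOKc_of_chunks [1, 2] 3 80025 5335 15 (by norm_num) ?_
  intro i hi
  interval_cases i
  · exact chk_pow2_1_0
  · exact chk_pow2_1_1
  · exact chk_pow2_1_2
  · exact chk_pow2_1_3
  · exact chk_pow2_1_4
  · exact chk_pow2_1_5
  · exact chk_pow2_1_6
  · exact chk_pow2_1_7
  · exact chk_pow2_1_8
  · exact chk_pow2_1_9
  · exact chk_pow2_1_10
  · exact chk_pow2_1_11
  · exact chk_pow2_1_12
  · exact chk_pow2_1_13
  · exact chk_pow2_1_14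

end Cfsg.Agent.Lib.Helper6.ONTC
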