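import Cfsg.Agent.Lib.Helper6.ONTCData
import Cfsg.Agent.Lib.Helper6.TCRel3
import Cfsg.Agent.Lib.Helper6.ONTCRel2

/-! # ON: the kernel check of a part of the relators on the coset table -/

set_option autoImplicit false

namespace Cfsg.Agent.Lib.Helper6.ONTC

open Cfsg.Agent.Lib.Helper6.TC

theorem chk_pow13_1_0 : tab.minOKc [3, 5] 2 100575 6705 = true := by decide +kernel

theorem chk_pow13_1_1 : tab.minOKc [3, 5] 2 107280 6705 = true := by decide +kernel

theorem chk_pow13_1_2 : tab.minOKc [3, 5] 2 113985 6705 = true := by decide +kernel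

theorem chk_pow13_1_3 : tab.minOKc [3, 5] 2 120690 6705 = true := by decide +kernel

theorem chk_pow13_1_4 : tab.minOKc [3, 5] 2 127395 6705 = true := by decide +kernel

theorem chk_pow13_1_5 : tab.minOKc [3, 5] 2 134100 6705 = true := by decide +kernel

theorem chk_pow13_1_6 : tab.minOKc [3, 5] 2 140805 6705 = true := by decide +kernel

theorem chk_pow13_1_7 : tab.minOKc [3, 5] 2 147510 6705 = true := by decide +kernel

theorem chk_pow13_1_8 : tab.minOKc [3, 5] 2 154215 6705 = true := by decide +kernel

theorem chk_pow13_1_9 : tab.minOKc [3, 5] 2 160920 6705 = true := by decide +kernel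

theorem chk_pow13_1_10 : tab.minOKc [3, 5] 2 167625 6705 = true := by decide +kernel

theorem chk_pow13_1_11 : tab.minOKc [3, 5] 2 174330 6705 = true := by decide +kernel

theorem chk_pow13_1_12 : tab.minOKc [3, 5] 2 181035 6705 = true := by decide +kernel

theorem chk_pow13_1_13 : tab.minOKc [3, 5] 2 187740 6705 = true := by decide +kernel

theorem chk_pow13_1_14 : tab.minOKc [3, 5] 2 194445 6705 = true := by decide +kernel

theorem chk_pow13_1 : tab.minOKc [3, 5] 2 100575 100575 = true := by
  refine tab.minOKc_of_chunks [3, 5] 2 100575 6705 15 (by norm_num) ?_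
  intro i hi
  interval_cases i
  · exact chk_pow13_1_0
  · exact chk_pow13_1_1
  · exact chk_pow13_1_2
  · exact chk_pow13_1_3
  · exact chk_pow13_1_4
  · exact chk_pow13_1_5
  · exact chk_pow13_1_6
  · exact chk_pow13_1_7
  · exact chk_pow13_1_8
  · exact chk_pow13_1_9
  · exact chk_pow13_1_10
  · exact chk_pow13_1_11
  · exact chk_pow13_1_12
  · exact chk_pow13_1_13
  · exact chk_pow13_1_14

theorem chk_pow14_0_0 : tab.minOKc [4, 5] 3 0 5634 = true := by decide +kernel

theorem chk_pow14_0_1 : tab.minOKc [4, 5] 3 5634 5634 = true := by decide +kernel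

theorem chk_pow14_0_2 : tab.minOKc [4, 5] 3 11268 5634 = true := by decide +kernel

theorem chk_pow14_0_3 : tab.minOKc [4, 5] 3 16902 5634 = true := by decide +kernel

theorem chk_pow14_0_4 : tab.minOKc [4, 5] 3 22536 5634 = true := by decide +kernel

theorem chk_pow14_0_5 : tab.minOKc [4, 5] 3 28170 5634 = true := by decide +kernel

theorem chk_pow14_0_6 : tab.minOKc [4, 5] 3 33804 5634 = true := by decide +kernel

theorem chk_pow14_0_7 : tab.minOKc [4, 5] 3 39438 5634 = true := by decide +kernel

theorem chk_pow14_0_8 : tab.minOKc [4, 5] 3 45072 5634 = true := by decide +kernel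

theorem chk_pow14_0_9 : tab.minOKc [4, 5] 3 50706 5634 = true := by decide +kernel

theorem chk_pow14_0_10 : tab.minOKc [4, 5] 3 56340 5634 = true := by decide +kernel

theorem chk_pow14_0_11 : tab.minOKc [4, 5] 3 61974 5634 = true := by decide +kernel

theorem chk_pow14_0_12 : tab.minOKc [4, 5] 3 67608 5634 = true := by decide +kernel

theorem chk_pow14_0_13 : tab.minOKc [4, 5] 3 73242 5634 = true := by decide +kernel

theorem chk_pow14_0_14 : tab.minOKc [4, 5] 3 78876 5634 = true := by decide +kernel

theorem chk_pow14_0 : tab.minOKc [4, 5] 3 0 84510 = true := by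
  refine tab.minOKc_of_chunks [4, 5] 3 0 5634 15 (by norm_num) ?_
  intro i hi
  interval_cases i
  · exact chk_pow14_0_0
  · exact chk_pow14_0_1
  · exact chk_pow14_0_2
  · exact chk_pow14_0_3
  · exact chk_pow14_0_4
  · exact chk_pow14_0_5
  · exact chk_pow14_0_6
  · exact chk_pow14_0_7
  · exact chk_pow14_0_8
  · exact chk_pow14_0_9
  · exact chk_pow14_0_10
  · exact chk_pow14_0_11
  · exact chk_pow14_0_12
  · exact chk_pow14_0_13
  · exact chk_pow14_0_14

end Cfsg.Agent.Lib.Helper6.ONTC
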