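import Cfsg.Agent.Lib.Helper6.ONSCert

/-! # ON: the kernel check of the rows from 97512 on -/

set_option autoImplicit false

namespace Cfsg.Agent.Lib.Helper6.ONTC

open Cfsg.Agent.Lib.Helper6.TC Cfsg.Agent.Lib.Helper6.TCGS

theorem chk_rows7_0 : cert.rowsOK 97512 664 = true := by decide +kernel

theorem chk_rows7_1 : cert.rowsOK 98176 664 = true := by decide +kernel

theorem chk_rows7_2 : cert.rowsOK 98840 664 = true := by decide +kernel

theorem chk_rows7_3 : cert.rowsOK 99504 664 = true := by decide +kernel

theorem chk_rows7_4 : cert.rowsOK 100168 664 = true := by decide +kernel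

theorem chk_rows7_5 : cert.rowsOK 100832 664 = true := by decide +kernel

theorem chk_rows7_6 : cert.rowsOK 101496 664 = true := by decide +kernel

theorem chk_rows7_7 : cert.rowsOK 102160 664 = true := by decide +kernel

theorem chk_rows7_8 : cert.rowsOK 102824 664 = true := by decide +kernel

theorem chk_rows7_9 : cert.rowsOK 103488 664 = true := by decide +kernel

theorem chk_rows7_10 : cert.rowsOK 104152 664 = true := by decide +kernel

theorem chk_rows7_11 : cert.rowsOK 104816 664 = true := by decide +kernel

theorem chk_rows7_12 : cert.rowsOK 105480 664 = true := by decide +kernel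

theorem chk_rows7_13 : cert.rowsOK 106144 664 = true := by decide +kernel

theorem chk_rows7_14 : cert.rowsOK 106808 664 = true := by decide +kernel

theorem chk_rows7_15 : cert.rowsOK 107472 664 = true := by decide +kernel

theorem chk_rows7_16 : cert.rowsOK 108136 664 = true := by decide +kernel

theorem chk_rows7_17 : cert.rowsOK 108800 664 = true := by decide +kernel

theorem chk_rows7_18 : cert.rowsOK 109464 664 = true := by decide +kernel

theorem chk_rows7_19 : cert.rowsOK 110128 664 = true := by decide +kernel

theorem chk_rows7_20 : cert.rowsOK 110792 664 = true := by decide +kernel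

theorem chk_rows7_21 : cert.rowsOK 111456 664 = true := by decide +kernel

theorem chk_rows7_22 : cert.rowsOK 112120 664 = true := by decide +kernel

theorem chk_rows7_23 : cert.rowsOK 112784 664 = true := by decide +kernel

theorem chk_range7 : ∀ a, 97512 ≤ a → a < 113448 → ∀ x < cert.c.g, cert.slotOK a x = true := by
  refine cert.range_of_chunks 97512 664 24 (by norm_num) ?_
  intro k hk
  interval_cases k
  · exact chk_rows7_0
  · exact chk_rows7_1
  · exact chk_rows7_2
  · exact chk_rows7_3
  · exact chk_rows7_4
  · exact chk_rows7_5
  · exact chk_rows7_6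
  · exact chk_rows7_7
  · exact chk_rows7_8
  · exact chk_rows7_9
  · exact chk_rows7_10
  · exact chk_rows7_11
  · exact chk_rows7_12
  · exact chk_rows7_13
  · exact chk_rows7_14
  · exact chk_rows7_15
  · exact chk_rows7_16
  · exact chk_rows7_17
  · exact chk_rows7_18
  · exact chk_rows7_19
  · exact chk_rows7_20
  · exact chk_rows7_21
  · exact chk_rows7_22
  · exact chk_rows7_23

end Cfsg.Agent.Lib.Helper6.ONTC
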