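import Cfsg.Agent.Lib.Helper6.ONTCData
import Cfsg.Agent.Lib.Helper6.TCRel3
import Cfsg.Agent.Lib.Helper6.ONSMRows24

/-! # ON: the kernel check of a part of the relators on the coset table -/

set_option autoImplicit false

namespace Cfsg.Agent.Lib.Helper6.ONTC

open Cfsg.Agent.Lib.Helper6.TC

theorem chk_pow3_0_0 : tab.minOKc [0, 3] 2 0 6689 = true := by decide +kernel

theorem chk_pow3_0_1 : tab.minOKc [0, 3] 2 6689 6689 = true := by decide +kernel

theorem chk_pow3_0_2 : tab.minOKc [0, 3] 2 13378 6689 = true := by decide +kernel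

theorem chk_pow3_0_3 : tab.minOKc [0, 3] 2 20067 6689 = true := by decide +kernel

theorem chk_pow3_0_4 : tab.minOKc [0, 3] 2 26756 6689 = true := by decide +kernel

theorem chk_pow3_0_5 : tab.minOKc [0, 3] 2 33445 6689 = true := by decide +kernel

theorem chk_pow3_0_6 : tab.minOKc [0, 3] 2 40134 6689 = true := by decide +kernel

theorem chk_pow3_0_7 : tab.minOKc [0, 3] 2 46823 6689 = true := by decide +kernel

theorem chk_pow3_0_8 : tab.minOKc [0, 3] 2 53512 6689 = true := by decide +kernel

theorem chk_pow3_0_9 : tab.minOKc [0, 3] 2 60201 6689 = true := by decide +kernel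

theorem chk_pow3_0_10 : tab.minOKc [0, 3] 2 66890 6689 = true := by decide +kernel

theorem chk_pow3_0_11 : tab.minOKc [0, 3] 2 73579 6689 = true := by decide +kernel

theorem chk_pow3_0_12 : tab.minOKc [0, 3] 2 80268 6689 = true := by decide +kernel

theorem chk_pow3_0_13 : tab.minOKc [0, 3] 2 86957 6689 = true := by decide +kernel

theorem chk_pow3_0_14 : tab.minOKc [0, 3] 2 93646 6689 = true := by decide +kernel

theorem chk_pow3_0 : tab.minOKc [0, 3] 2 0 100335 = true := by
  refine tab.minOKc_of_chunks [0, 3] 2 0 6689 15 (by norm_num) ?_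
  intro i hi
  interval_cases i
  · exact chk_pow3_0_0
  · exact chk_pow3_0_1
  · exact chk_pow3_0_2
  · exact chk_pow3_0_3
  · exact chk_pow3_0_4
  · exact chk_pow3_0_5
  · exact chk_pow3_0_6
  · exact chk_pow3_0_7
  · exact chk_pow3_0_8
  · exact chk_pow3_0_9
  · exact chk_pow3_0_10
  · exact chk_pow3_0_11
  · exact chk_pow3_0_12
  · exact chk_pow3_0_13
  · exact chk_pow3_0_14

theorem chk_pow3_1_0 : tab.minOKc [0, 3] 2 100335 6689 = true := by decide +kernel

theorem chk_pow3_1_1 : tab.minOKc [0, 3] 2 107024 6689 = true := by decide +kernel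

theorem chk_pow3_1_2 : tab.minOKc [0, 3] 2 113713 6689 = true := by decide +kernel

theorem chk_pow3_1_3 : tab.minOKc [0, 3] 2 120402 6689 = true := by decide +kernel

theorem chk_pow3_1_4 : tab.minOKc [0, 3] 2 127091 6689 = true := by decide +kernel

theorem chk_pow3_1_5 : tab.minOKc [0, 3] 2 133780 6689 = true := by decide +kernel

theorem chk_pow3_1_6 : tab.minOKc [0, 3] 2 140469 6689 = true := by decide +kernel

theorem chk_pow3_1_7 : tab.minOKc [0, 3] 2 147158 6689 = true := by decide +kernel

theorem chk_pow3_1_8 : tab.minOKc [0, 3] 2 153847 6689 = true := by decide +kernel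

theorem chk_pow3_1_9 : tab.minOKc [0, 3] 2 160536 6689 = true := by decide +kernel

theorem chk_pow3_1_10 : tab.minOKc [0, 3] 2 167225 6689 = true := by decide +kernel

theorem chk_pow3_1_11 : tab.minOKc [0, 3] 2 173914 6689 = true := by decide +kernel

theorem chk_pow3_1_12 : tab.minOKc [0, 3] 2 180603 6689 = true := by decide +kernel

theorem chk_pow3_1_13 : tab.minOKc [0, 3] 2 187292 6689 = true := by decide +kernel

theorem chk_pow3_1_14 : tab.minOKc [0, 3] 2 193981 6689 = true := by decide +kernel

theorem chk_pow3_1 : tab.minOKc [0, 3] 2 100335 100335 = true := by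
  refine tab.minOKc_of_chunks [0, 3] 2 100335 6689 15 (by norm_num) ?_
  intro i hi
  interval_cases i
  · exact chk_pow3_1_0
  · exact chk_pow3_1_1
  · exact chk_pow3_1_2
  · exact chk_pow3_1_3
  · exact chk_pow3_1_4
  · exact chk_pow3_1_5
  · exact chk_pow3_1_6
  · exact chk_pow3_1_7
  · exact chk_pow3_1_8
  · exact chk_pow3_1_9
  · exact chk_pow3_1_10
  · exact chk_pow3_1_11
  · exact chk_pow3_1_12
  · exact chk_pow3_1_13
  · exact chk_pow3_1_14

end Cfsg.Agent.Lib.Helper6.ONTC
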