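import Cfsg.Agent.Lib.Helper6.ONTCData
import Cfsg.Agent.Lib.Helper6.TCRel3
import Cfsg.Agent.Lib.Helper6.ONTCRel3

/-! # ON: the kernel check of a part of the relators on the coset table -/

set_option autoImplicit false

namespace Cfsg.Agent.Lib.Helper6.ONTC

open Cfsg.Agent.Lib.Helper6.TC

theorem chk_pow14_1_0 : tab.minOKc [4, 5] 3 84510 5634 = true := by decide +kernel

theorem chk_pow14_1_1 : tab.minOKc [4, 5] 3 90144 5634 = true := by decide +kernel

theorem chk_pow14_1_2 : tab.minOKc [4, 5] 3 95778 5634 = true := by decide +kernel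

theorem chk_pow14_1_3 : tab.minOKc [4, 5] 3 101412 5634 = true := by decide +kernel

theorem chk_pow14_1_4 : tab.minOKc [4, 5] 3 107046 5634 = true := by decide +kernel

theorem chk_pow14_1_5 : tab.minOKc [4, 5] 3 112680 5634 = true := by decide +kernel

theorem chk_pow14_1_6 : tab.minOKc [4, 5] 3 118314 5634 = true := by decide +kernel

theorem chk_pow14_1_7 : tab.minOKc [4, 5] 3 123948 5634 = true := by decide +kernel

theorem chk_pow14_1_8 : tab.minOKc [4, 5] 3 129582 5634 = true := by decide +kernel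

theorem chk_pow14_1_9 : tab.minOKc [4, 5] 3 135216 5634 = true := by decide +kernel

theorem chk_pow14_1_10 : tab.minOKc [4, 5] 3 140850 5634 = true := by decide +kernel

theorem chk_pow14_1_11 : tab.minOKc [4, 5] 3 146484 5634 = true := by decide +kernel

theorem chk_pow14_1_12 : tab.minOKc [4, 5] 3 152118 5634 = true := by decide +kernel

theorem chk_pow14_1_13 : tab.minOKc [4, 5] 3 157752 5634 = true := by decide +kernel

theorem chk_pow14_1_14 : tab.minOKc [4, 5] 3 163386 5634 = true := by decide +kernel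

theorem chk_pow14_1 : tab.minOKc [4, 5] 3 84510 84510 = true := by
  refine tab.minOKc_of_chunks [4, 5] 3 84510 5634 15 (by norm_num) ?_
  intro i hi
  interval_cases i
  · exact chk_pow14_1_0
  · exact chk_pow14_1_1
  · exact chk_pow14_1_2
  · exact chk_pow14_1_3
  · exact chk_pow14_1_4
  · exact chk_pow14_1_5
  · exact chk_pow14_1_6
  · exact chk_pow14_1_7
  · exact chk_pow14_1_8
  · exact chk_pow14_1_9
  · exact chk_pow14_1_10
  · exact chk_pow14_1_11
  · exact chk_pow14_1_12
  · exact chk_pow14_1_13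
  · exact chk_pow14_1_14

theorem chk_pow15_0_0 : tab.minOKc [0, 5, 7, 7] 1 0 5000 = true := by decide +kernel

theorem chk_pow15_0_1 : tab.minOKc [0, 5, 7, 7] 1 5000 5000 = true := by decide +kernel

theorem chk_pow15_0_2 : tab.minOKc [0, 5, 7, 7] 1 10000 5000 = true := by decide +kernel

theorem chk_pow15_0_3 : tab.minOKc [0, 5, 7, 7] 1 15000 5000 = true := by decide +kernel

theorem chk_pow15_0_4 : tab.minOKc [0, 5, 7, 7] 1 20000 5000 = true := by decide +kernel

theorem chk_pow15_0_5 : tab.minOKc [0, 5, 7, 7] 1 25000 5000 = true := by decide +kernel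

theorem chk_pow15_0_6 : tab.minOKc [0, 5, 7, 7] 1 30000 5000 = true := by decide +kernel

theorem chk_pow15_0_7 : tab.minOKc [0, 5, 7, 7] 1 35000 5000 = true := by decide +kernel

theorem chk_pow15_0_8 : tab.minOKc [0, 5, 7, 7] 1 40000 5000 = true := by decide +kernel

theorem chk_pow15_0_9 : tab.minOKc [0, 5, 7, 7] 1 45000 5000 = true := by decide +kernel

theorem chk_pow15_0_10 : tab.minOKc [0, 5, 7, 7] 1 50000 5000 = true := by decide +kernel

theorem chk_pow15_0_11 : tab.minOKc [0, 5, 7, 7] 1 55000 5000 = true := by decide +kernel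

theorem chk_pow15_0_12 : tab.minOKc [0, 5, 7, 7] 1 60000 5000 = true := by decide +kernel

theorem chk_pow15_0_13 : tab.minOKc [0, 5, 7, 7] 1 65000 5000 = true := by decide +kernel

theorem chk_pow15_0_14 : tab.minOKc [0, 5, 7, 7] 1 70000 5000 = true := by decide +kernel

theorem chk_pow15_0 : tab.minOKc [0, 5, 7, 7] 1 0 75000 = true := by
  refine tab.minOKc_of_chunks [0, 5, 7, 7] 1 0 5000 15 (by norm_num) ?_
  intro i hi
  interval_cases i
  · exact chk_pow15_0_0
  · exact chk_pow15_0_1
  · exact chk_pow15_0_2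
  · exact chk_pow15_0_3
  · exact chk_pow15_0_4
  · exact chk_pow15_0_5
  · exact chk_pow15_0_6
  · exact chk_pow15_0_7
  · exact chk_pow15_0_8
  · exact chk_pow15_0_9
  · exact chk_pow15_0_10
  · exact chk_pow15_0_11
  · exact chk_pow15_0_12
  · exact chk_pow15_0_13
  · exact chk_pow15_0_14

end Cfsg.Agent.Lib.Helper6.ONTC
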