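import Cfsg.Agent.Lib.Helper6.ONSCert

/-! # ON: the kernel check of the rows from 113448 on -/

set_option autoImplicit false

namespace Cfsg.Agent.Lib.Helper6.ONTC

open Cfsg.Agent.Lib.Helper6.TC Cfsg.Agent.Lib.Helper6.TCGS

theorem chk_rows8_0 : cert.rowsOK 113448 664 = true := by decide +kernel

theorem chk_rows8_1 : cert.rowsOK 114112 664 = true := by decide +kernel

theorem chk_rows8_2 : cert.rowsOK 114776 664 = true := by decide +kernel

theorem chk_rows8_3 : cert.rowsOK 115440 664 = true := by decide +kernel

theorem chk_rows8_4 : cert.rowsOK 116104 664 = true := by decide +kernel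

theorem chk_rows8_5 : cert.rowsOK 116768 664 = true := by decide +kernel

theorem chk_rows8_6 : cert.rowsOK 117432 664 = true := by decide +kernel

theorem chk_rows8_7 : cert.rowsOK 118096 664 = true := by decide +kernel

theorem chk_rows8_8 : cert.rowsOK 118760 664 = true := by decide +kernel

theorem chk_rows8_9 : cert.rowsOK 119424 664 = true := by decide +kernel

theorem chk_rows8_10 : cert.rowsOK 120088 664 = true := by decide +kernel

theorem chk_rows8_11 : cert.rowsOK 120752 664 = true := by decide +kernel

theorem chk_rows8_12 : cert.rowsOK 121416 664 = true := by decide +kernel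

theorem chk_rows8_13 : cert.rowsOK 122080 664 = true := by decide +kernel

theorem chk_rows8_14 : cert.rowsOK 122744 664 = true := by decide +kernel

theorem chk_rows8_15 : cert.rowsOK 123408 664 = true := by decide +kernel

theorem chk_rows8_16 : cert.rowsOK 124072 664 = true := by decide +kernel

theorem chk_rows8_17 : cert.rowsOK 124736 664 = true := by decide +kernel

theorem chk_rows8_18 : cert.rowsOK 125400 664 = true := by decide +kernel

theorem chk_rows8_19 : cert.rowsOK 126064 664 = true := by decide +kernel

theorem chk_rows8_20 : cert.rowsOK 126728 664 = true := by decide +kernel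

theorem chk_rows8_21 : cert.rowsOK 127392 664 = true := by decide +kernel

theorem chk_rows8_22 : cert.rowsOK 128056 664 = true := by decide +kernel

theorem chk_rows8_23 : cert.rowsOK 128720 664 = true := by decide +kernel

theorem chk_range8 : ∀ a, 113448 ≤ a → a < 129384 → ∀ x < cert.c.g, cert.slotOK a x = true := by
  refine cert.range_of_chunks 113448 664 24 (by norm_num) ?_
  intro k hk
  interval_cases k
  · exact chk_rows8_0
  · exact chk_rows8_1
  · exact chk_rows8_2
  · exact chk_rows8_3
  · exact chk_rows8_4
  · exact chk_rows8_5
  · exact chk_rows8_6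
  · exact chk_rows8_7
  · exact chk_rows8_8
  · exact chk_rows8_9
  · exact chk_rows8_10
  · exact chk_rows8_11
  · exact chk_rows8_12
  · exact chk_rows8_13
  · exact chk_rows8_14
  · exact chk_rows8_15
  · exact chk_rows8_16
  · exact chk_rows8_17
  · exact chk_rows8_18
  · exact chk_rows8_19
  · exact chk_rows8_20
  · exact chk_rows8_21
  · exact chk_rows8_22
  · exact chk_rows8_23

end Cfsg.Agent.Lib.Helper6.ONTC
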