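import Cfsg.Agent.Lib.Helper6.ONSCert
import Cfsg.Agent.Lib.Helper6.ONSMRows1

/-! # ON: the kernel check of the merge map from row 208000 on -/

set_option autoImplicit false

namespace Cfsg.Agent.Lib.Helper6.ONTC

open Cfsg.Agent.Lib.Helper6.TC Cfsg.Agent.Lib.Helper6.TCGS

theorem chk_mrows13_0 : cert.mrowsOK 208000 4000 = true := by decide +kernel

theorem chk_mrows13_1 : cert.mrowsOK 212000 4000 = true := by decide +kernel

theorem chk_mrows13_2 : cert.mrowsOK 216000 4000 = true := by decide +kernel

theorem chk_mrows13_3 : cert.mrowsOK 220000 4000 = true := by decide +kernel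

theorem chk_mrange13 : ∀ a, 208000 ≤ a → a < 208000 + 16000 → cert.mslotOK a = true := by
  refine cert.mrange_of_chunks 208000 4000 4 (by norm_num) ?_
  intro k hk
  interval_cases k
  · exact chk_mrows13_0
  · exact chk_mrows13_1
  · exact chk_mrows13_2
  · exact chk_mrows13_3

end Cfsg.Agent.Lib.Helper6.ONTC
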