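import Cfsg.Agent.Lib.Helper6.ONSCert
import Cfsg.Agent.Lib.Helper6.ONSMRows13

/-! # ON: the kernel check of the merge map from row 400000 on -/

set_option autoImplicit false

namespace Cfsg.Agent.Lib.Helper6.ONTC

open Cfsg.Agent.Lib.Helper6.TC Cfsg.Agent.Lib.Helper6.TCGS

theorem chk_mrows25_0 : cert.mrowsOK 400000 4000 = true := by decide +kernel

theorem chk_mrows25_1 : cert.mrowsOK 404000 4000 = true := by decide +kernel

theorem chk_mrows25_2 : cert.mrowsOK 408000 4000 = true := by decide +kernel

theorem chk_mrows25_3 : cert.mrowsOK 412000 4000 = true := by decide +kernel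

theorem chk_mrange25 : ∀ a, 400000 ≤ a → a < 400000 + 16000 → cert.mslotOK a = true := by
  refine cert.mrange_of_chunks 400000 4000 4 (by norm_num) ?_
  intro k hk
  interval_cases k
  · exact chk_mrows25_0
  · exact chk_mrows25_1
  · exact chk_mrows25_2
  · exact chk_mrows25_3

end Cfsg.Agent.Lib.Helper6.ONTC
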