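import Cfsg.Agent.Lib.Helper6.ONTCData
import Cfsg.Agent.Lib.Helper6.TCRel3
import Cfsg.Agent.Lib.Helper6.ONTCRel4

/-! # ON: the kernel check of a part of the relators on the coset table -/

set_option autoImplicit false

namespace Cfsg.Agent.Lib.Helper6.ONTC

open Cfsg.Agent.Lib.Helper6.TC

theorem chk_pow15_1_0 : tab.minOKc [0, 5, 7, 7] 1 75000 5000 = true := by decide +kernel

theorem chk_pow15_1_1 : tab.minOKc [0, 5, 7, 7] 1 80000 5000 = true := by decide +kernel

theorem chk_pow15_1_2 : tab.minOKc [0, 5, 7, 7] 1 85000 5000 = true := by decide +kernel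

theorem chk_pow15_1_3 : tab.minOKc [0, 5, 7, 7] 1 90000 5000 = true := by decide +kernel

theorem chk_pow15_1_4 : tab.minOKc [0, 5, 7, 7] 1 95000 5000 = true := by decide +kernel

theorem chk_pow15_1_5 : tab.minOKc [0, 5, 7, 7] 1 100000 5000 = true := by decide +kernel

theorem chk_pow15_1_6 : tab.minOKc [0, 5, 7, 7] 1 105000 5000 = true := by decide +kernel

theorem chk_pow15_1_7 : tab.minOKc [0, 5, 7, 7] 1 110000 5000 = true := by decide +kernel

theorem chk_pow15_1_8 : tab.minOKc [0, 5, 7, 7] 1 115000 5000 = true := by decide +kernel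

theorem chk_pow15_1_9 : tab.minOKc [0, 5, 7, 7] 1 120000 5000 = true := by decide +kernel

theorem chk_pow15_1_10 : tab.minOKc [0, 5, 7, 7] 1 125000 5000 = true := by decide +kernel

theorem chk_pow15_1_11 : tab.minOKc [0, 5, 7, 7] 1 130000 5000 = true := by decide +kernel

theorem chk_pow15_1_12 : tab.minOKc [0, 5, 7, 7] 1 135000 5000 = true := by decide +kernel

theorem chk_pow15_1_13 : tab.minOKc [0, 5, 7, 7] 1 140000 5000 = true := by decide +kernel

theorem chk_pow15_1_14 : tab.minOKc [0, 5, 7, 7] 1 145000 5000 = true := by decide +kernel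

theorem chk_pow15_1 : tab.minOKc [0, 5, 7, 7] 1 75000 75000 = true := by
  refine tab.minOKc_of_chunks [0, 5, 7, 7] 1 75000 5000 15 (by norm_num) ?_
  intro i hi
  interval_cases i
  · exact chk_pow15_1_0
  · exact chk_pow15_1_1
  · exact chk_pow15_1_2
  · exact chk_pow15_1_3
  · exact chk_pow15_1_4
  · exact chk_pow15_1_5
  · exact chk_pow15_1_6
  · exact chk_pow15_1_7
  · exact chk_pow15_1_8
  · exact chk_pow15_1_9
  · exact chk_pow15_1_10
  · exact chk_pow15_1_11
  · exact chk_pow15_1_12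
  · exact chk_pow15_1_13
  · exact chk_pow15_1_14

theorem chk_pow16_0_0 : tab.minOKc [0, 5, 3, 2, 3, 2, 3, 2, 3, 2] 1 0 2000 = true := by decide +kernel

theorem chk_pow16_0_1 : tab.minOKc [0, 5, 3, 2, 3, 2, 3, 2, 3, 2] 1 2000 2000 = true := by decide +kernel

theorem chk_pow16_0_2 : tab.minOKc [0, 5, 3, 2, 3, 2, 3, 2, 3, 2] 1 4000 2000 = true := by decide +kernel

theorem chk_pow16_0_3 : tab.minOKc [0, 5, 3, 2, 3, 2, 3, 2, 3, 2] 1 6000 2000 = true := by decide +kernel

theorem chk_pow16_0_4 : tab.minOKc [0, 5, 3, 2, 3, 2, 3, 2, 3, 2] 1 8000 2000 = true := by decide +kernel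

theorem chk_pow16_0_5 : tab.minOKc [0, 5, 3, 2, 3, 2, 3, 2, 3, 2] 1 10000 2000 = true := by decide +kernel

theorem chk_pow16_0_6 : tab.minOKc [0, 5, 3, 2, 3, 2, 3, 2, 3, 2] 1 12000 2000 = true := by decide +kernel

theorem chk_pow16_0_7 : tab.minOKc [0, 5, 3, 2, 3, 2, 3, 2, 3, 2] 1 14000 2000 = true := by decide +kernel

theorem chk_pow16_0_8 : tab.minOKc [0, 5, 3, 2, 3, 2, 3, 2, 3, 2] 1 16000 2000 = true := by decide +kernel

theorem chk_pow16_0_9 : tab.minOKc [0, 5, 3, 2, 3, 2, 3, 2, 3, 2] 1 18000 2000 = true := by decide +kernel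

theorem chk_pow16_0_10 : tab.minOKc [0, 5, 3, 2, 3, 2, 3, 2, 3, 2] 1 20000 2000 = true := by decide +kernel

theorem chk_pow16_0_11 : tab.minOKc [0, 5, 3, 2, 3, 2, 3, 2, 3, 2] 1 22000 2000 = true := by decide +kernel

theorem chk_pow16_0_12 : tab.minOKc [0, 5, 3, 2, 3, 2, 3, 2, 3, 2] 1 24000 2000 = true := by decide +kernel

theorem chk_pow16_0_13 : tab.minOKc [0, 5, 3, 2, 3, 2, 3, 2, 3, 2] 1 26000 2000 = true := by decide +kernel

theorem chk_pow16_0_14 : tab.minOKc [0, 5, 3, 2, 3, 2, 3, 2, 3, 2] 1 28000 2000 = true := by decide +kernel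

theorem chk_pow16_0 : tab.minOKc [0, 5, 3, 2, 3, 2, 3, 2, 3, 2] 1 0 30000 = true := by
  refine tab.minOKc_of_chunks [0, 5, 3, 2, 3, 2, 3, 2, 3, 2] 1 0 2000 15 (by norm_num) ?_
  intro i hi
  interval_cases i
  · exact chk_pow16_0_0
  · exact chk_pow16_0_1
  · exact chk_pow16_0_2
  · exact chk_pow16_0_3
  · exact chk_pow16_0_4
  · exact chk_pow16_0_5
  · exact chk_pow16_0_6
  · exact chk_pow16_0_7
  · exact chk_pow16_0_8
  · exact chk_pow16_0_9
  · exact chk_pow16_0_10
  · exact chk_pow16_0_11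
  · exact chk_pow16_0_12
  · exact chk_pow16_0_13
  · exact chk_pow16_0_14

end Cfsg.Agent.Lib.Helper6.ONTC
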