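import Cfsg.Agent.Lib.Helper6.ONSCert

/-! # ON: the kernel check of the rows from 129384 on -/

set_option autoImplicit false

namespace Cfsg.Agent.Lib.Helper6.ONTC

open Cfsg.Agent.Lib.Helper6.TC Cfsg.Agent.Lib.Helper6.TCGS

theorem chk_rows9_0 : cert.rowsOK 129384 920 = true := by decide +kernel

theorem chk_rows9_1 : cert.rowsOK 130304 920 = true := by decide +kernel

theorem chk_rows9_2 : cert.rowsOK 131224 920 = true := by decide +kernel

theorem chk_rows9_3 : cert.rowsOK 132144 920 = true := by decide +kernel

theorem chk_rows9_4 : cert.rowsOK 133064 920 = true := by decide +kernel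

theorem chk_rows9_5 : cert.rowsOK 133984 920 = true := by decide +kernel

theorem chk_rows9_6 : cert.rowsOK 134904 920 = true := by decide +kernel

theorem chk_rows9_7 : cert.rowsOK 135824 920 = true := by decide +kernel

theorem chk_rows9_8 : cert.rowsOK 136744 920 = true := by decide +kernel

theorem chk_rows9_9 : cert.rowsOK 137664 920 = true := by decide +kernel

theorem chk_rows9_10 : cert.rowsOK 138584 920 = true := by decide +kernel

theorem chk_rows9_11 : cert.rowsOK 139504 920 = true := by decide +kernel

theorem chk_rows9_12 : cert.rowsOK 140424 920 = true := by decide +kernel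

theorem chk_rows9_13 : cert.rowsOK 141344 920 = true := by decide +kernel

theorem chk_rows9_14 : cert.rowsOK 142264 920 = true := by decide +kernel

theorem chk_rows9_15 : cert.rowsOK 143184 920 = true := by decide +kernel

theorem chk_rows9_16 : cert.rowsOK 144104 920 = true := by decide +kernel

theorem chk_rows9_17 : cert.rowsOK 145024 920 = true := by decide +kernel

theorem chk_rows9_18 : cert.rowsOK 145944 920 = true := by decide +kernel

theorem chk_rows9_19 : cert.rowsOK 146864 920 = true := by decide +kernel

theorem chk_rows9_20 : cert.rowsOK 147784 920 = true := by decide +kernel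

theorem chk_rows9_21 : cert.rowsOK 148704 920 = true := by decide +kernel

theorem chk_rows9_22 : cert.rowsOK 149624 920 = true := by decide +kernel

theorem chk_rows9_23 : cert.rowsOK 150544 920 = true := by decide +kernel

theorem chk_range9 : ∀ a, 129384 ≤ a → a < 151464 → ∀ x < cert.c.g, cert.slotOK a x = true := by
  refine cert.range_of_chunks 129384 920 24 (by norm_num) ?_
  intro k hk
  interval_cases k
  · exact chk_rows9_0
  · exact chk_rows9_1
  · exact chk_rows9_2
  · exact chk_rows9_3
  · exact chk_rows9_4
  · exact chk_rows9_5
  · exact chk_rows9_6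
  · exact chk_rows9_7
  · exact chk_rows9_8
  · exact chk_rows9_9
  · exact chk_rows9_10
  · exact chk_rows9_11
  · exact chk_rows9_12
  · exact chk_rows9_13
  · exact chk_rows9_14
  · exact chk_rows9_15
  · exact chk_rows9_16
  · exact chk_rows9_17
  · exact chk_rows9_18
  · exact chk_rows9_19
  · exact chk_rows9_20
  · exact chk_rows9_21
  · exact chk_rows9_22
  · exact chk_rows9_23

end Cfsg.Agent.Lib.Helper6.ONTC
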