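import Cfsg.Agent.Lib.Helper6.ONSCert
import Cfsg.Agent.Lib.Helper6.ONSRows9

/-! # ON: the kernel check of the merge map from row 32000 on -/

set_option autoImplicit false

namespace Cfsg.Agent.Lib.Helper6.ONTC

open Cfsg.Agent.Lib.Helper6.TC Cfsg.Agent.Lib.Helper6.TCGS

theorem chk_mrows2_0 : cert.mrowsOK 32000 4000 = true := by decide +kernel

theorem chk_mrows2_1 : cert.mrowsOK 36000 4000 = true := by decide +kernel

theorem chk_mrows2_2 : cert.mrowsOK 40000 4000 = true := by decide +kernel

theorem chk_mrows2_3 : cert.mrowsOK 44000 4000 = true := by decide +kernel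

theorem chk_mrange2 : ∀ a, 32000 ≤ a → a < 32000 + 16000 → cert.mslotOK a = true := by
  refine cert.mrange_of_chunks 32000 4000 4 (by norm_num) ?_
  intro k hk
  interval_cases k
  · exact chk_mrows2_0
  · exact chk_mrows2_1
  · exact chk_mrows2_2
  · exact chk_mrows2_3

end Cfsg.Agent.Lib.Helper6.ONTC
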