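import Cfsg.Agent.Lib.Helper6.ONSCert
import Cfsg.Agent.Lib.Helper6.TCGIndex
import Cfsg.Agent.Lib.Helper6.ONSMRows14

/-! # ON: the kernel check that the first rows are closed, part 0 -/

set_option autoImplicit false

namespace Cfsg.Agent.Lib.Helper6.ONTC

open Cfsg.Agent.Lib.Helper6.TC Cfsg.Agent.Lib.Helper6.TCGS

theorem chk_fin0 : cert.finalOKc 122760 0 2000 = true := by decide +kernel

theorem chk_fin1 : cert.finalOKc 122760 2000 2000 = true := by decide +kernel

theorem chk_fin2 : cert.finalOKc 122760 4000 2000 = true := by decide +kernel

theorem chk_fin3 : cert.finalOKc 122760 6000 2000 = true := by decide +kernel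

theorem chk_fin4 : cert.finalOKc 122760 8000 2000 = true := by decide +kernel

theorem chk_fin5 : cert.finalOKc 122760 10000 2000 = true := by decide +kernel

theorem chk_fin6 : cert.finalOKc 122760 12000 2000 = true := by decide +kernel

theorem chk_fin7 : cert.finalOKc 122760 14000 2000 = true := by decide +kernel

theorem chk_fin8 : cert.finalOKc 122760 16000 2000 = true := by decide +kernel

end Cfsg.Agent.Lib.Helper6.ONTC
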