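import Cfsg.Agent.Lib.Helper6.ONTCData
import Cfsg.Agent.Lib.Helper6.TCRel3
import Cfsg.Agent.Lib.Helper6.ONSFin0

/-! # ON: the kernel check of a part of the relators on the coset table -/

set_option autoImplicit false

namespace Cfsg.Agent.Lib.Helper6.ONTC

open Cfsg.Agent.Lib.Helper6.TC

theorem chk_pow5_0_0 : tab.minOKc [2, 3] 8 0 3652 = true := by decide +kernel

theorem chk_pow5_0_1 : tab.minOKc [2, 3] 8 3652 3652 = true := by decide +kernel

theorem chk_pow5_0_2 : tab.minOKc [2, 3] 8 7304 3652 = true := by decide +kernel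

theorem chk_pow5_0_3 : tab.minOKc [2, 3] 8 10956 3652 = true := by decide +kernel

theorem chk_pow5_0_4 : tab.minOKc [2, 3] 8 14608 3652 = true := by decide +kernel

theorem chk_pow5_0_5 : tab.minOKc [2, 3] 8 18260 3652 = true := by decide +kernel

theorem chk_pow5_0_6 : tab.minOKc [2, 3] 8 21912 3652 = true := by decide +kernel

theorem chk_pow5_0_7 : tab.minOKc [2, 3] 8 25564 3652 = true := by decide +kernel

theorem chk_pow5_0_8 : tab.minOKc [2, 3] 8 29216 3652 = true := by decide +kernel

theorem chk_pow5_0_9 : tab.minOKc [2, 3] 8 32868 3652 = true := by decide +kernel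

theorem chk_pow5_0_10 : tab.minOKc [2, 3] 8 36520 3652 = true := by decide +kernel

theorem chk_pow5_0_11 : tab.minOKc [2, 3] 8 40172 3652 = true := by decide +kernel

theorem chk_pow5_0_12 : tab.minOKc [2, 3] 8 43824 3652 = true := by decide +kernel

theorem chk_pow5_0_13 : tab.minOKc [2, 3] 8 47476 3652 = true := by decide +kernel

theorem chk_pow5_0_14 : tab.minOKc [2, 3] 8 51128 3652 = true := by decide +kernel

theorem chk_pow5_0 : tab.minOKc [2, 3] 8 0 54780 = true := by
  refine tab.minOKc_of_chunks [2, 3] 8 0 3652 15 (by norm_num) ?_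
  intro i hi
  interval_cases i
  · exact chk_pow5_0_0
  · exact chk_pow5_0_1
  · exact chk_pow5_0_2
  · exact chk_pow5_0_3
  · exact chk_pow5_0_4
  · exact chk_pow5_0_5
  · exact chk_pow5_0_6
  · exact chk_pow5_0_7
  · exact chk_pow5_0_8
  · exact chk_pow5_0_9
  · exact chk_pow5_0_10
  · exact chk_pow5_0_11
  · exact chk_pow5_0_12
  · exact chk_pow5_0_13
  · exact chk_pow5_0_14

theorem chk_pow5_1_0 : tab.minOKc [2, 3] 8 54780 3652 = true := by decide +kernel

theorem chk_pow5_1_1 : tab.minOKc [2, 3] 8 58432 3652 = true := by decide +kernel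

theorem chk_pow5_1_2 : tab.minOKc [2, 3] 8 62084 3652 = true := by decide +kernel

theorem chk_pow5_1_3 : tab.minOKc [2, 3] 8 65736 3652 = true := by decide +kernel

theorem chk_pow5_1_4 : tab.minOKc [2, 3] 8 69388 3652 = true := by decide +kernel

theorem chk_pow5_1_5 : tab.minOKc [2, 3] 8 73040 3652 = true := by decide +kernel

theorem chk_pow5_1_6 : tab.minOKc [2, 3] 8 76692 3652 = true := by decide +kernel

theorem chk_pow5_1_7 : tab.minOKc [2, 3] 8 80344 3652 = true := by decide +kernel

theorem chk_pow5_1_8 : tab.minOKc [2, 3] 8 83996 3652 = true := by decide +kernel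

theorem chk_pow5_1_9 : tab.minOKc [2, 3] 8 87648 3652 = true := by decide +kernel

theorem chk_pow5_1_10 : tab.minOKc [2, 3] 8 91300 3652 = true := by decide +kernel

theorem chk_pow5_1_11 : tab.minOKc [2, 3] 8 94952 3652 = true := by decide +kernel

theorem chk_pow5_1_12 : tab.minOKc [2, 3] 8 98604 3652 = true := by decide +kernel

theorem chk_pow5_1_13 : tab.minOKc [2, 3] 8 102256 3652 = true := by decide +kernel

theorem chk_pow5_1_14 : tab.minOKc [2, 3] 8 105908 3652 = true := by decide +kernel

theorem chk_pow5_1 : tab.minOKc [2, 3] 8 54780 54780 = true := by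
  refine tab.minOKc_of_chunks [2, 3] 8 54780 3652 15 (by norm_num) ?_
  intro i hi
  interval_cases i
  · exact chk_pow5_1_0
  · exact chk_pow5_1_1
  · exact chk_pow5_1_2
  · exact chk_pow5_1_3
  · exact chk_pow5_1_4
  · exact chk_pow5_1_5
  · exact chk_pow5_1_6
  · exact chk_pow5_1_7
  · exact chk_pow5_1_8
  · exact chk_pow5_1_9
  · exact chk_pow5_1_10
  · exact chk_pow5_1_11
  · exact chk_pow5_1_12
  · exact chk_pow5_1_13
  · exact chk_pow5_1_14

end Cfsg.Agent.Lib.Helper6.ONTC
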