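import Cfsg.Agent.Lib.Helper6.ONSCert

/-! # ON: the kernel check of the rows from 151464 on -/

set_option autoImplicit false

namespace Cfsg.Agent.Lib.Helper6.ONTC

open Cfsg.Agent.Lib.Helper6.TC Cfsg.Agent.Lib.Helper6.TCGS

theorem chk_rows10_0 : cert.rowsOK 151464 1083 = true := by decide +kernel

theorem chk_rows10_1 : cert.rowsOK 152547 1083 = true := by decide +kernel

theorem chk_rows10_2 : cert.rowsOK 153630 1083 = true := by decide +kernel

theorem chk_rows10_3 : cert.rowsOK 154713 1083 = true := by decide +kernel

theorem chk_rows10_4 : cert.rowsOK 155796 1083 = true := by decide +kernel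

theorem chk_rows10_5 : cert.rowsOK 156879 1083 = true := by decide +kernel

theorem chk_rows10_6 : cert.rowsOK 157962 1083 = true := by decide +kernel

theorem chk_rows10_7 : cert.rowsOK 159045 1083 = true := by decide +kernel

theorem chk_rows10_8 : cert.rowsOK 160128 1083 = true := by decide +kernel

theorem chk_rows10_9 : cert.rowsOK 161211 1083 = true := by decide +kernel

theorem chk_rows10_10 : cert.rowsOK 162294 1083 = true := by decide +kernel

theorem chk_rows10_11 : cert.rowsOK 163377 1083 = true := by decide +kernel

theorem chk_rows10_12 : cert.rowsOK 164460 1083 = true := by decide +kernel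

theorem chk_rows10_13 : cert.rowsOK 165543 1083 = true := by decide +kernel

theorem chk_rows10_14 : cert.rowsOK 166626 1083 = true := by decide +kernel

theorem chk_rows10_15 : cert.rowsOK 167709 1083 = true := by decide +kernel

theorem chk_rows10_16 : cert.rowsOK 168792 1083 = true := by decide +kernel

theorem chk_rows10_17 : cert.rowsOK 169875 1083 = true := by decide +kernel

theorem chk_rows10_18 : cert.rowsOK 170958 1083 = true := by decide +kernel

theorem chk_rows10_19 : cert.rowsOK 172041 1083 = true := by decide +kernel

theorem chk_rows10_20 : cert.rowsOK 173124 1083 = true := by decide +kernel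

theorem chk_rows10_21 : cert.rowsOK 174207 1083 = true := by decide +kernel

theorem chk_rows10_22 : cert.rowsOK 175290 1083 = true := by decide +kernel

theorem chk_rows10_23 : cert.rowsOK 176373 1083 = true := by decide +kernel

theorem chk_range10 : ∀ a, 151464 ≤ a → a < 177456 → ∀ x < cert.c.g, cert.slotOK a x = true := by
  refine cert.range_of_chunks 151464 1083 24 (by norm_num) ?_
  intro k hk
  interval_cases k
  · exact chk_rows10_0
  · exact chk_rows10_1
  · exact chk_rows10_2
  · exact chk_rows10_3
  · exact chk_rows10_4
  · exact chk_rows10_5
  · exact chk_rows10_6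
  · exact chk_rows10_7
  · exact chk_rows10_8
  · exact chk_rows10_9
  · exact chk_rows10_10
  · exact chk_rows10_11
  · exact chk_rows10_12
  · exact chk_rows10_13
  · exact chk_rows10_14
  · exact chk_rows10_15
  · exact chk_rows10_16
  · exact chk_rows10_17
  · exact chk_rows10_18
  · exact chk_rows10_19
  · exact chk_rows10_20
  · exact chk_rows10_21
  · exact chk_rows10_22
  · exact chk_rows10_23

end Cfsg.Agent.Lib.Helper6.ONTC
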