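import Cfsg.Agent.Lib.Helper6.ONSCert
import Cfsg.Agent.Lib.Helper6.ONSMRows3

/-! # ON: the kernel check of the merge map from row 240000 on -/

set_option autoImplicit false

namespace Cfsg.Agent.Lib.Helper6.ONTC

open Cfsg.Agent.Lib.Helper6.TC Cfsg.Agent.Lib.Helper6.TCGS

theorem chk_mrows15_0 : cert.mrowsOK 240000 4000 = true := by decide +kernel

theorem chk_mrows15_1 : cert.mrowsOK 244000 4000 = true := by decide +kernel

theorem chk_mrows15_2 : cert.mrowsOK 248000 4000 = true := by decide +kernel

theorem chk_mrows15_3 : cert.mrowsOK 252000 4000 = true := by decide +kernel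

theorem chk_mrange15 : ∀ a, 240000 ≤ a → a < 240000 + 16000 → cert.mslotOK a = true := by
  refine cert.mrange_of_chunks 240000 4000 4 (by norm_num) ?_
  intro k hk
  interval_cases k
  · exact chk_mrows15_0
  · exact chk_mrows15_1
  · exact chk_mrows15_2
  · exact chk_mrows15_3

end Cfsg.Agent.Lib.Helper6.ONTC
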