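import Cfsg.Agent.Lib.Helper6.ONTCData
import Cfsg.Agent.Lib.Helper6.TCRel3
import Cfsg.Agent.Lib.Helper6.ONSFin1

/-! # ON: the kernel check of a part of the relators on the coset table -/

set_option autoImplicit false

namespace Cfsg.Agent.Lib.Helper6.ONTC

open Cfsg.Agent.Lib.Helper6.TC

theorem chk_pow5_2_0 : tab.minOKc [2, 3] 8 109560 3652 = true := by decide +kernel

theorem chk_pow5_2_1 : tab.minOKc [2, 3] 8 113212 3652 = true := by decide +kernel

theorem chk_pow5_2_2 : tab.minOKc [2, 3] 8 116864 3652 = true := by decide +kernel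

theorem chk_pow5_2_3 : tab.minOKc [2, 3] 8 120516 3652 = true := by decide +kernel

theorem chk_pow5_2_4 : tab.minOKc [2, 3] 8 124168 3652 = true := by decide +kernel

theorem chk_pow5_2_5 : tab.minOKc [2, 3] 8 127820 3652 = true := by decide +kernel

theorem chk_pow5_2_6 : tab.minOKc [2, 3] 8 131472 3652 = true := by decide +kernel

theorem chk_pow5_2_7 : tab.minOKc [2, 3] 8 135124 3652 = true := by decide +kernel

theorem chk_pow5_2_8 : tab.minOKc [2, 3] 8 138776 3652 = true := by decide +kernel

theorem chk_pow5_2_9 : tab.minOKc [2, 3] 8 142428 3652 = true := by decide +kernel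

theorem chk_pow5_2_10 : tab.minOKc [2, 3] 8 146080 3652 = true := by decide +kernel

theorem chk_pow5_2_11 : tab.minOKc [2, 3] 8 149732 3652 = true := by decide +kernel

theorem chk_pow5_2_12 : tab.minOKc [2, 3] 8 153384 3652 = true := by decide +kernel

theorem chk_pow5_2_13 : tab.minOKc [2, 3] 8 157036 3652 = true := by decide +kernel

theorem chk_pow5_2_14 : tab.minOKc [2, 3] 8 160688 3652 = true := by decide +kernel

theorem chk_pow5_2 : tab.minOKc [2, 3] 8 109560 54780 = true := by
  refine tab.minOKc_of_chunks [2, 3] 8 109560 3652 15 (by norm_num) ?_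
  intro i hi
  interval_cases i
  · exact chk_pow5_2_0
  · exact chk_pow5_2_1
  · exact chk_pow5_2_2
  · exact chk_pow5_2_3
  · exact chk_pow5_2_4
  · exact chk_pow5_2_5
  · exact chk_pow5_2_6
  · exact chk_pow5_2_7
  · exact chk_pow5_2_8
  · exact chk_pow5_2_9
  · exact chk_pow5_2_10
  · exact chk_pow5_2_11
  · exact chk_pow5_2_12
  · exact chk_pow5_2_13
  · exact chk_pow5_2_14

theorem chk_pow6_0_0 : tab.minOKc [0, 4] 2 0 6705 = true := by decide +kernel

theorem chk_pow6_0_1 : tab.minOKc [0, 4] 2 6705 6705 = true := by decide +kernel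

theorem chk_pow6_0_2 : tab.minOKc [0, 4] 2 13410 6705 = true := by decide +kernel

theorem chk_pow6_0_3 : tab.minOKc [0, 4] 2 20115 6705 = true := by decide +kernel

theorem chk_pow6_0_4 : tab.minOKc [0, 4] 2 26820 6705 = true := by decide +kernel

theorem chk_pow6_0_5 : tab.minOKc [0, 4] 2 33525 6705 = true := by decide +kernel

theorem chk_pow6_0_6 : tab.minOKc [0, 4] 2 40230 6705 = true := by decide +kernel

theorem chk_pow6_0_7 : tab.minOKc [0, 4] 2 46935 6705 = true := by decide +kernel

theorem chk_pow6_0_8 : tab.minOKc [0, 4] 2 53640 6705 = true := by decide +kernel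

theorem chk_pow6_0_9 : tab.minOKc [0, 4] 2 60345 6705 = true := by decide +kernel

theorem chk_pow6_0_10 : tab.minOKc [0, 4] 2 67050 6705 = true := by decide +kernel

theorem chk_pow6_0_11 : tab.minOKc [0, 4] 2 73755 6705 = true := by decide +kernel

theorem chk_pow6_0_12 : tab.minOKc [0, 4] 2 80460 6705 = true := by decide +kernel

theorem chk_pow6_0_13 : tab.minOKc [0, 4] 2 87165 6705 = true := by decide +kernel

theorem chk_pow6_0_14 : tab.minOKc [0, 4] 2 93870 6705 = true := by decide +kernel

theorem chk_pow6_0 : tab.minOKc [0, 4] 2 0 100575 = true := by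
  refine tab.minOKc_of_chunks [0, 4] 2 0 6705 15 (by norm_num) ?_
  intro i hi
  interval_cases i
  · exact chk_pow6_0_0
  · exact chk_pow6_0_1
  · exact chk_pow6_0_2
  · exact chk_pow6_0_3
  · exact chk_pow6_0_4
  · exact chk_pow6_0_5
  · exact chk_pow6_0_6
  · exact chk_pow6_0_7
  · exact chk_pow6_0_8
  · exact chk_pow6_0_9
  · exact chk_pow6_0_10
  · exact chk_pow6_0_11
  · exact chk_pow6_0_12
  · exact chk_pow6_0_13
  · exact chk_pow6_0_14

end Cfsg.Agent.Lib.Helper6.ONTC
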