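import Cfsg.Agent.Lib.Helper6.ONSCert

/-! # ON: the kernel check of the rows from 177456 on -/

set_option autoImplicit false

namespace Cfsg.Agent.Lib.Helper6.ONTC

open Cfsg.Agent.Lib.Helper6.TC Cfsg.Agent.Lib.Helper6.TCGS

theorem chk_rows11_0 : cert.rowsOK 177456 1083 = true := by decide +kernel

theorem chk_rows11_1 : cert.rowsOK 178539 1083 = true := by decide +kernel

theorem chk_rows11_2 : cert.rowsOK 179622 1083 = true := by decide +kernel

theorem chk_rows11_3 : cert.rowsOK 180705 1083 = true := by decide +kernel

theorem chk_rows11_4 : cert.rowsOK 181788 1083 = true := by decide +kernel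

theorem chk_rows11_5 : cert.rowsOK 182871 1083 = true := by decide +kernel

theorem chk_rows11_6 : cert.rowsOK 183954 1083 = true := by decide +kernel

theorem chk_rows11_7 : cert.rowsOK 185037 1083 = true := by decide +kernel

theorem chk_rows11_8 : cert.rowsOK 186120 1083 = true := by decide +kernel

theorem chk_rows11_9 : cert.rowsOK 187203 1083 = true := by decide +kernel

theorem chk_rows11_10 : cert.rowsOK 188286 1083 = true := by decide +kernel

theorem chk_rows11_11 : cert.rowsOK 189369 1083 = true := by decide +kernel

theorem chk_rows11_12 : cert.rowsOK 190452 1083 = true := by decide +kernel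

theorem chk_rows11_13 : cert.rowsOK 191535 1083 = true := by decide +kernel

theorem chk_rows11_14 : cert.rowsOK 192618 1083 = true := by decide +kernel

theorem chk_rows11_15 : cert.rowsOK 193701 1083 = true := by decide +kernel

theorem chk_rows11_16 : cert.rowsOK 194784 1083 = true := by decide +kernel

theorem chk_rows11_17 : cert.rowsOK 195867 1083 = true := by decide +kernel

theorem chk_rows11_18 : cert.rowsOK 196950 1083 = true := by decide +kernel

theorem chk_rows11_19 : cert.rowsOK 198033 1083 = true := by decide +kernel

theorem chk_rows11_20 : cert.rowsOK 199116 1083 = true := by decide +kernel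

theorem chk_rows11_21 : cert.rowsOK 200199 1083 = true := by decide +kernel

theorem chk_rows11_22 : cert.rowsOK 201282 1083 = true := by decide +kernel

theorem chk_rows11_23 : cert.rowsOK 202365 1083 = true := by decide +kernel

theorem chk_range11 : ∀ a, 177456 ≤ a → a < 203448 → ∀ x < cert.c.g, cert.slotOK a x = true := by
  refine cert.range_of_chunks 177456 1083 24 (by norm_num) ?_
  intro k hk
  interval_cases k
  · exact chk_rows11_0
  · exact chk_rows11_1
  · exact chk_rows11_2
  · exact chk_rows11_3
  · exact chk_rows11_4
  · exact chk_rows11_5
  · exact chk_rows11_6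
  · exact chk_rows11_7
  · exact chk_rows11_8
  · exact chk_rows11_9
  · exact chk_rows11_10
  · exact chk_rows11_11
  · exact chk_rows11_12
  · exact chk_rows11_13
  · exact chk_rows11_14
  · exact chk_rows11_15
  · exact chk_rows11_16
  · exact chk_rows11_17
  · exact chk_rows11_18
  · exact chk_rows11_19
  · exact chk_rows11_20
  · exact chk_rows11_21
  · exact chk_rows11_22
  · exact chk_rows11_23

end Cfsg.Agent.Lib.Helper6.ONTC
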