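import Cfsg.Agent.Lib.Helper6.ONSCert
import Cfsg.Agent.Lib.Helper6.TCGIndex
import Cfsg.Agent.Lib.Helper6.ONSMRows16

/-! # ON: the kernel check that the first rows are closed, part 2 -/

set_option autoImplicit false

namespace Cfsg.Agent.Lib.Helper6.ONTC

open Cfsg.Agent.Lib.Helper6.TC Cfsg.Agent.Lib.Helper6.TCGS

theorem chk_fin18 : cert.finalOKc 122760 36000 2000 = true := by decide +kernel

theorem chk_fin19 : cert.finalOKc 122760 38000 2000 = true := by decide +kernel

theorem chk_fin20 : cert.finalOKc 122760 40000 2000 = true := by decide +kernel

theorem chk_fin21 : cert.finalOKc 122760 42000 2000 = true := by decide +kernel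

theorem chk_fin22 : cert.finalOKc 122760 44000 2000 = true := by decide +kernel

theorem chk_fin23 : cert.finalOKc 122760 46000 2000 = true := by decide +kernel

theorem chk_fin24 : cert.finalOKc 122760 48000 2000 = true := by decide +kernel

theorem chk_fin25 : cert.finalOKc 122760 50000 2000 = true := by decide +kernel

theorem chk_fin26 : cert.finalOKc 122760 52000 2000 = true := by decide +kernel

end Cfsg.Agent.Lib.Helper6.ONTC
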