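import Cfsg.Agent.Lib.Helper6.ONTCData
import Cfsg.Agent.Lib.Helper6.TCRel3
import Cfsg.Agent.Lib.Helper6.ONSFin2

/-! # ON: the kernel check of a part of the relators on the coset table -/

set_option autoImplicit false

namespace Cfsg.Agent.Lib.Helper6.ONTC

open Cfsg.Agent.Lib.Helper6.TC

theorem chk_pow6_1_0 : tab.minOKc [0, 4] 2 100575 6705 = true := by decide +kernel

theorem chk_pow6_1_1 : tab.minOKc [0, 4] 2 107280 6705 = true := by decide +kernel

theorem chk_pow6_1_2 : tab.minOKc [0, 4] 2 113985 6705 = true := by decide +kernel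

theorem chk_pow6_1_3 : tab.minOKc [0, 4] 2 120690 6705 = true := by decide +kernel

theorem chk_pow6_1_4 : tab.minOKc [0, 4] 2 127395 6705 = true := by decide +kernel

theorem chk_pow6_1_5 : tab.minOKc [0, 4] 2 134100 6705 = true := by decide +kernel

theorem chk_pow6_1_6 : tab.minOKc [0, 4] 2 140805 6705 = true := by decide +kernel

theorem chk_pow6_1_7 : tab.minOKc [0, 4] 2 147510 6705 = true := by decide +kernel

theorem chk_pow6_1_8 : tab.minOKc [0, 4] 2 154215 6705 = true := by decide +kernel

theorem chk_pow6_1_9 : tab.minOKc [0, 4] 2 160920 6705 = true := by decide +kernel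

theorem chk_pow6_1_10 : tab.minOKc [0, 4] 2 167625 6705 = true := by decide +kernel

theorem chk_pow6_1_11 : tab.minOKc [0, 4] 2 174330 6705 = true := by decide +kernel

theorem chk_pow6_1_12 : tab.minOKc [0, 4] 2 181035 6705 = true := by decide +kernel

theorem chk_pow6_1_13 : tab.minOKc [0, 4] 2 187740 6705 = true := by decide +kernel

theorem chk_pow6_1_14 : tab.minOKc [0, 4] 2 194445 6705 = true := by decide +kernel

theorem chk_pow6_1 : tab.minOKc [0, 4] 2 100575 100575 = true := by
  refine tab.minOKc_of_chunks [0, 4] 2 100575 6705 15 (by norm_num) ?_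
  intro i hi
  interval_cases i
  · exact chk_pow6_1_0
  · exact chk_pow6_1_1
  · exact chk_pow6_1_2
  · exact chk_pow6_1_3
  · exact chk_pow6_1_4
  · exact chk_pow6_1_5
  · exact chk_pow6_1_6
  · exact chk_pow6_1_7
  · exact chk_pow6_1_8
  · exact chk_pow6_1_9
  · exact chk_pow6_1_10
  · exact chk_pow6_1_11
  · exact chk_pow6_1_12
  · exact chk_pow6_1_13
  · exact chk_pow6_1_14

theorem chk_pow7_0_0 : tab.minOKc [1, 4] 2 0 6717 = true := by decide +kernel

theorem chk_pow7_0_1 : tab.minOKc [1, 4] 2 6717 6717 = true := by decide +kernel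

theorem chk_pow7_0_2 : tab.minOKc [1, 4] 2 13434 6717 = true := by decide +kernel

theorem chk_pow7_0_3 : tab.minOKc [1, 4] 2 20151 6717 = true := by decide +kernel

theorem chk_pow7_0_4 : tab.minOKc [1, 4] 2 26868 6717 = true := by decide +kernel

theorem chk_pow7_0_5 : tab.minOKc [1, 4] 2 33585 6717 = true := by decide +kernel

theorem chk_pow7_0_6 : tab.minOKc [1, 4] 2 40302 6717 = true := by decide +kernel

theorem chk_pow7_0_7 : tab.minOKc [1, 4] 2 47019 6717 = true := by decide +kernel

theorem chk_pow7_0_8 : tab.minOKc [1, 4] 2 53736 6717 = true := by decide +kernel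

theorem chk_pow7_0_9 : tab.minOKc [1, 4] 2 60453 6717 = true := by decide +kernel

theorem chk_pow7_0_10 : tab.minOKc [1, 4] 2 67170 6717 = true := by decide +kernel

theorem chk_pow7_0_11 : tab.minOKc [1, 4] 2 73887 6717 = true := by decide +kernel

theorem chk_pow7_0_12 : tab.minOKc [1, 4] 2 80604 6717 = true := by decide +kernel

theorem chk_pow7_0_13 : tab.minOKc [1, 4] 2 87321 6717 = true := by decide +kernel

theorem chk_pow7_0_14 : tab.minOKc [1, 4] 2 94038 6717 = true := by decide +kernel

theorem chk_pow7_0 : tab.minOKc [1, 4] 2 0 100755 = true := by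
  refine tab.minOKc_of_chunks [1, 4] 2 0 6717 15 (by norm_num) ?_
  intro i hi
  interval_cases i
  · exact chk_pow7_0_0
  · exact chk_pow7_0_1
  · exact chk_pow7_0_2
  · exact chk_pow7_0_3
  · exact chk_pow7_0_4
  · exact chk_pow7_0_5
  · exact chk_pow7_0_6
  · exact chk_pow7_0_7
  · exact chk_pow7_0_8
  · exact chk_pow7_0_9
  · exact chk_pow7_0_10
  · exact chk_pow7_0_11
  · exact chk_pow7_0_12
  · exact chk_pow7_0_13
  · exact chk_pow7_0_14

end Cfsg.Agent.Lib.Helper6.ONTC
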