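import Cfsg.Agent.Lib.Helper6.ONSCert
import Cfsg.Agent.Lib.Helper6.ONSRows0

/-! # ON: the kernel check of the rows from 203448 on -/

set_option autoImplicit false

namespace Cfsg.Agent.Lib.Helper6.ONTC

open Cfsg.Agent.Lib.Helper6.TC Cfsg.Agent.Lib.Helper6.TCGS

theorem chk_rows12_0 : cert.rowsOK 203448 1083 = true := by decide +kernel

theorem chk_rows12_1 : cert.rowsOK 204531 1083 = true := by decide +kernel

theorem chk_rows12_2 : cert.rowsOK 205614 1083 = true := by decide +kernel

theorem chk_rows12_3 : cert.rowsOK 206697 1083 = true := by decide +kernel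

theorem chk_rows12_4 : cert.rowsOK 207780 1083 = true := by decide +kernel

theorem chk_rows12_5 : cert.rowsOK 208863 1083 = true := by decide +kernel

theorem chk_rows12_6 : cert.rowsOK 209946 1083 = true := by decide +kernel

theorem chk_rows12_7 : cert.rowsOK 211029 1083 = true := by decide +kernel

theorem chk_rows12_8 : cert.rowsOK 212112 1083 = true := by decide +kernel

theorem chk_rows12_9 : cert.rowsOK 213195 1083 = true := by decide +kernel

theorem chk_rows12_10 : cert.rowsOK 214278 1083 = true := by decide +kernel

theorem chk_rows12_11 : cert.rowsOK 215361 1083 = true := by decide +kernel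

theorem chk_rows12_12 : cert.rowsOK 216444 1083 = true := by decide +kernel

theorem chk_rows12_13 : cert.rowsOK 217527 1083 = true := by decide +kernel

theorem chk_rows12_14 : cert.rowsOK 218610 1083 = true := by decide +kernel

theorem chk_rows12_15 : cert.rowsOK 219693 1083 = true := by decide +kernel

theorem chk_rows12_16 : cert.rowsOK 220776 1083 = true := by decide +kernel

theorem chk_rows12_17 : cert.rowsOK 221859 1083 = true := by decide +kernel

theorem chk_rows12_18 : cert.rowsOK 222942 1083 = true := by decide +kernel

theorem chk_rows12_19 : cert.rowsOK 224025 1083 = true := by decide +kernel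

theorem chk_rows12_20 : cert.rowsOK 225108 1083 = true := by decide +kernel

theorem chk_rows12_21 : cert.rowsOK 226191 1083 = true := by decide +kernel

theorem chk_rows12_22 : cert.rowsOK 227274 1083 = true := by decide +kernel

theorem chk_rows12_23 : cert.rowsOK 228357 1083 = true := by decide +kernel

theorem chk_range12 : ∀ a, 203448 ≤ a → a < 229440 → ∀ x < cert.c.g, cert.slotOK a x = true := by
  refine cert.range_of_chunks 203448 1083 24 (by norm_num) ?_
  intro k hk
  interval_cases k
  · exact chk_rows12_0
  · exact chk_rows12_1
  · exact chk_rows12_2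
  · exact chk_rows12_3
  · exact chk_rows12_4
  · exact chk_rows12_5
  · exact chk_rows12_6
  · exact chk_rows12_7
  · exact chk_rows12_8
  · exact chk_rows12_9
  · exact chk_rows12_10
  · exact chk_rows12_11
  · exact chk_rows12_12
  · exact chk_rows12_13
  · exact chk_rows12_14
  · exact chk_rows12_15
  · exact chk_rows12_16
  · exact chk_rows12_17
  · exact chk_rows12_18
  · exact chk_rows12_19
  · exact chk_rows12_20
  · exact chk_rows12_21
  · exact chk_rows12_22
  · exact chk_rows12_23

end Cfsg.Agent.Lib.Helper6.ONTC
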