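import Cfsg.Agent.Lib.Helper6.ONSCert
import Cfsg.Agent.Lib.Helper6.TCGIndex
import Cfsg.Agent.Lib.Helper6.ONSMRows17

/-! # ON: the kernel check that the first rows are closed, part 3 -/

set_option autoImplicit false

namespace Cfsg.Agent.Lib.Helper6.ONTC

open Cfsg.Agent.Lib.Helper6.TC Cfsg.Agent.Lib.Helper6.TCGS

theorem chk_fin27 : cert.finalOKc 122760 54000 2000 = true := by decide +kernel

theorem chk_fin28 : cert.finalOKc 122760 56000 2000 = true := by decide +kernel

theorem chk_fin29 : cert.finalOKc 122760 58000 2000 = true := by decide +kernel

theorem chk_fin30 : cert.finalOKc 122760 60000 2000 = true := by decide +kernel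

theorem chk_fin31 : cert.finalOKc 122760 62000 2000 = true := by decide +kernel

theorem chk_fin32 : cert.finalOKc 122760 64000 2000 = true := by decide +kernel

theorem chk_fin33 : cert.finalOKc 122760 66000 2000 = true := by decide +kernel

theorem chk_fin34 : cert.finalOKc 122760 68000 2000 = true := by decide +kernel

theorem chk_fin35 : cert.finalOKc 122760 70000 2000 = true := by decide +kernel

end Cfsg.Agent.Lib.Helper6.ONTC
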