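import Cfsg.Agent.Lib.Helper6.ONSCert

/-! # ON: the kernel check of the rows from 11496 on -/

set_option autoImplicit false

namespace Cfsg.Agent.Lib.Helper6.ONTC

open Cfsg.Agent.Lib.Helper6.TC Cfsg.Agent.Lib.Helper6.TCGS

theorem chk_rows1_0 : cert.rowsOK 11496 564 = true := by decide +kernel

theorem chk_rows1_1 : cert.rowsOK 12060 564 = true := by decide +kernel

theorem chk_rows1_2 : cert.rowsOK 12624 564 = true := by decide +kernel

theorem chk_rows1_3 : cert.rowsOK 13188 564 = true := by decide +kernel

theorem chk_rows1_4 : cert.rowsOK 13752 564 = true := by decide +kernel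

theorem chk_rows1_5 : cert.rowsOK 14316 564 = true := by decide +kernel

theorem chk_rows1_6 : cert.rowsOK 14880 564 = true := by decide +kernel

theorem chk_rows1_7 : cert.rowsOK 15444 564 = true := by decide +kernel

theorem chk_rows1_8 : cert.rowsOK 16008 564 = true := by decide +kernel

theorem chk_rows1_9 : cert.rowsOK 16572 564 = true := by decide +kernel

theorem chk_rows1_10 : cert.rowsOK 17136 564 = true := by decide +kernel

theorem chk_rows1_11 : cert.rowsOK 17700 564 = true := by decide +kernel

theorem chk_rows1_12 : cert.rowsOK 18264 564 = true := by decide +kernel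

theorem chk_rows1_13 : cert.rowsOK 18828 564 = true := by decide +kernel

theorem chk_rows1_14 : cert.rowsOK 19392 564 = true := by decide +kernel

theorem chk_rows1_15 : cert.rowsOK 19956 564 = true := by decide +kernel

theorem chk_rows1_16 : cert.rowsOK 20520 564 = true := by decide +kernel

theorem chk_rows1_17 : cert.rowsOK 21084 564 = true := by decide +kernel

theorem chk_rows1_18 : cert.rowsOK 21648 564 = true := by decide +kernel

theorem chk_rows1_19 : cert.rowsOK 22212 564 = true := by decide +kernel

theorem chk_rows1_20 : cert.rowsOK 22776 564 = true := by decide +kernel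

theorem chk_rows1_21 : cert.rowsOK 23340 564 = true := by decide +kernel

theorem chk_rows1_22 : cert.rowsOK 23904 564 = true := by decide +kernel

theorem chk_rows1_23 : cert.rowsOK 24468 564 = true := by decide +kernel

theorem chk_range1 : ∀ a, 11496 ≤ a → a < 25032 → ∀ x < cert.c.g, cert.slotOK a x = true := by
  refine cert.range_of_chunks 11496 564 24 (by norm_num) ?_
  intro k hk
  interval_cases k
  · exact chk_rows1_0
  · exact chk_rows1_1
  · exact chk_rows1_2
  · exact chk_rows1_3
  · exact chk_rows1_4
  · exact chk_rows1_5
  · exact chk_rows1_6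
  · exact chk_rows1_7
  · exact chk_rows1_8
  · exact chk_rows1_9
  · exact chk_rows1_10
  · exact chk_rows1_11
  · exact chk_rows1_12
  · exact chk_rows1_13
  · exact chk_rows1_14
  · exact chk_rows1_15
  · exact chk_rows1_16
  · exact chk_rows1_17
  · exact chk_rows1_18
  · exact chk_rows1_19
  · exact chk_rows1_20
  · exact chk_rows1_21
  · exact chk_rows1_22
  · exact chk_rows1_23

end Cfsg.Agent.Lib.Helper6.ONTC
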