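import Cfsg.Agent.Lib.Helper6.ONSCert
import Cfsg.Agent.Lib.Helper6.ONSRows1

/-! # ON: the kernel check of the rows from 229440 on -/

set_option autoImplicit false

namespace Cfsg.Agent.Lib.Helper6.ONTC

open Cfsg.Agent.Lib.Helper6.TC Cfsg.Agent.Lib.Helper6.TCGS

theorem chk_rows13_0 : cert.rowsOK 229440 1275 = true := by decide +kernel

theorem chk_rows13_1 : cert.rowsOK 230715 1275 = true := by decide +kernel

theorem chk_rows13_2 : cert.rowsOK 231990 1275 = true := by decide +kernel

theorem chk_rows13_3 : cert.rowsOK 233265 1275 = true := by decide +kernel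

theorem chk_rows13_4 : cert.rowsOK 234540 1275 = true := by decide +kernel

theorem chk_rows13_5 : cert.rowsOK 235815 1275 = true := by decide +kernel

theorem chk_rows13_6 : cert.rowsOK 237090 1275 = true := by decide +kernel

theorem chk_rows13_7 : cert.rowsOK 238365 1275 = true := by decide +kernel

theorem chk_rows13_8 : cert.rowsOK 239640 1275 = true := by decide +kernel

theorem chk_rows13_9 : cert.rowsOK 240915 1275 = true := by decide +kernel

theorem chk_rows13_10 : cert.rowsOK 242190 1275 = true := by decide +kernel

theorem chk_rows13_11 : cert.rowsOK 243465 1275 = true := by decide +kernel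

theorem chk_rows13_12 : cert.rowsOK 244740 1275 = true := by decide +kernel

theorem chk_rows13_13 : cert.rowsOK 246015 1275 = true := by decide +kernel

theorem chk_rows13_14 : cert.rowsOK 247290 1275 = true := by decide +kernel

theorem chk_rows13_15 : cert.rowsOK 248565 1275 = true := by decide +kernel

theorem chk_rows13_16 : cert.rowsOK 249840 1275 = true := by decide +kernel

theorem chk_rows13_17 : cert.rowsOK 251115 1275 = true := by decide +kernel

theorem chk_rows13_18 : cert.rowsOK 252390 1275 = true := by decide +kernel

theorem chk_rows13_19 : cert.rowsOK 253665 1275 = true := by decide +kernel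

theorem chk_rows13_20 : cert.rowsOK 254940 1275 = true := by decide +kernel

theorem chk_rows13_21 : cert.rowsOK 256215 1275 = true := by decide +kernel

theorem chk_rows13_22 : cert.rowsOK 257490 1275 = true := by decide +kernel

theorem chk_rows13_23 : cert.rowsOK 258765 1275 = true := by decide +kernel

theorem chk_range13 : ∀ a, 229440 ≤ a → a < 260040 → ∀ x < cert.c.g, cert.slotOK a x = true := by
  refine cert.range_of_chunks 229440 1275 24 (by norm_num) ?_
  intro k hk
  interval_cases k
  · exact chk_rows13_0
  · exact chk_rows13_1
  · exact chk_rows13_2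
  · exact chk_rows13_3
  · exact chk_rows13_4
  · exact chk_rows13_5
  · exact chk_rows13_6
  · exact chk_rows13_7
  · exact chk_rows13_8
  · exact chk_rows13_9
  · exact chk_rows13_10
  · exact chk_rows13_11
  · exact chk_rows13_12
  · exact chk_rows13_13
  · exact chk_rows13_14
  · exact chk_rows13_15
  · exact chk_rows13_16
  · exact chk_rows13_17
  · exact chk_rows13_18
  · exact chk_rows13_19
  · exact chk_rows13_20
  · exact chk_rows13_21
  · exact chk_rows13_22
  · exact chk_rows13_23

end Cfsg.Agent.Lib.Helper6.ONTC
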