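import Cfsg.Agent.Lib.Helper6.ONTCData
import Cfsg.Agent.Lib.Helper6.TCRel3
import Cfsg.Agent.Lib.Helper6.ONSFin4

/-! # ON: the kernel check of a part of the relators on the coset table -/

set_option autoImplicit false

namespace Cfsg.Agent.Lib.Helper6.ONTC

open Cfsg.Agent.Lib.Helper6.TC

theorem chk_pow8_1_0 : tab.minOKc [2, 4] 2 99960 6664 = true := by decide +kernel

theorem chk_pow8_1_1 : tab.minOKc [2, 4] 2 106624 6664 = true := by decide +kernel

theorem chk_pow8_1_2 : tab.minOKc [2, 4] 2 113288 6664 = true := by decide +kernel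

theorem chk_pow8_1_3 : tab.minOKc [2, 4] 2 119952 6664 = true := by decide +kernel

theorem chk_pow8_1_4 : tab.minOKc [2, 4] 2 126616 6664 = true := by decide +kernel

theorem chk_pow8_1_5 : tab.minOKc [2, 4] 2 133280 6664 = true := by decide +kernel

theorem chk_pow8_1_6 : tab.minOKc [2, 4] 2 139944 6664 = true := by decide +kernel

theorem chk_pow8_1_7 : tab.minOKc [2, 4] 2 146608 6664 = true := by decide +kernel

theorem chk_pow8_1_8 : tab.minOKc [2, 4] 2 153272 6664 = true := by decide +kernel

theorem chk_pow8_1_9 : tab.minOKc [2, 4] 2 159936 6664 = true := by decide +kernel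

theorem chk_pow8_1_10 : tab.minOKc [2, 4] 2 166600 6664 = true := by decide +kernel

theorem chk_pow8_1_11 : tab.minOKc [2, 4] 2 173264 6664 = true := by decide +kernel

theorem chk_pow8_1_12 : tab.minOKc [2, 4] 2 179928 6664 = true := by decide +kernel

theorem chk_pow8_1_13 : tab.minOKc [2, 4] 2 186592 6664 = true := by decide +kernel

theorem chk_pow8_1_14 : tab.minOKc [2, 4] 2 193256 6664 = true := by decide +kernel

theorem chk_pow8_1 : tab.minOKc [2, 4] 2 99960 99960 = true := by
  refine tab.minOKc_of_chunks [2, 4] 2 99960 6664 15 (by norm_num) ?_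
  intro i hi
  interval_cases i
  · exact chk_pow8_1_0
  · exact chk_pow8_1_1
  · exact chk_pow8_1_2
  · exact chk_pow8_1_3
  · exact chk_pow8_1_4
  · exact chk_pow8_1_5
  · exact chk_pow8_1_6
  · exact chk_pow8_1_7
  · exact chk_pow8_1_8
  · exact chk_pow8_1_9
  · exact chk_pow8_1_10
  · exact chk_pow8_1_11
  · exact chk_pow8_1_12
  · exact chk_pow8_1_13
  · exact chk_pow8_1_14

theorem chk_pow9_0_0 : tab.minOKc [3, 4] 3 0 5394 = true := by decide +kernel

theorem chk_pow9_0_1 : tab.minOKc [3, 4] 3 5394 5394 = true := by decide +kernel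

theorem chk_pow9_0_2 : tab.minOKc [3, 4] 3 10788 5394 = true := by decide +kernel

theorem chk_pow9_0_3 : tab.minOKc [3, 4] 3 16182 5394 = true := by decide +kernel

theorem chk_pow9_0_4 : tab.minOKc [3, 4] 3 21576 5394 = true := by decide +kernel

theorem chk_pow9_0_5 : tab.minOKc [3, 4] 3 26970 5394 = true := by decide +kernel

theorem chk_pow9_0_6 : tab.minOKc [3, 4] 3 32364 5394 = true := by decide +kernel

theorem chk_pow9_0_7 : tab.minOKc [3, 4] 3 37758 5394 = true := by decide +kernel

theorem chk_pow9_0_8 : tab.minOKc [3, 4] 3 43152 5394 = true := by decide +kernel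

theorem chk_pow9_0_9 : tab.minOKc [3, 4] 3 48546 5394 = true := by decide +kernel

theorem chk_pow9_0_10 : tab.minOKc [3, 4] 3 53940 5394 = true := by decide +kernel

theorem chk_pow9_0_11 : tab.minOKc [3, 4] 3 59334 5394 = true := by decide +kernel

theorem chk_pow9_0_12 : tab.minOKc [3, 4] 3 64728 5394 = true := by decide +kernel

theorem chk_pow9_0_13 : tab.minOKc [3, 4] 3 70122 5394 = true := by decide +kernel

theorem chk_pow9_0_14 : tab.minOKc [3, 4] 3 75516 5394 = true := by decide +kernel

theorem chk_pow9_0 : tab.minOKc [3, 4] 3 0 80910 = true := by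
  refine tab.minOKc_of_chunks [3, 4] 3 0 5394 15 (by norm_num) ?_
  intro i hi
  interval_cases i
  · exact chk_pow9_0_0
  · exact chk_pow9_0_1
  · exact chk_pow9_0_2
  · exact chk_pow9_0_3
  · exact chk_pow9_0_4
  · exact chk_pow9_0_5
  · exact chk_pow9_0_6
  · exact chk_pow9_0_7
  · exact chk_pow9_0_8
  · exact chk_pow9_0_9
  · exact chk_pow9_0_10
  · exact chk_pow9_0_11
  · exact chk_pow9_0_12
  · exact chk_pow9_0_13
  · exact chk_pow9_0_14

end Cfsg.Agent.Lib.Helper6.ONTC
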