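import Cfsg.Agent.Lib.Helper6.ONTCData
import Cfsg.Agent.Lib.Helper6.TCRel3
import Cfsg.Agent.Lib.Helper6.ONTCRel9

/-! # ON: the kernel check of a part of the relators on the coset table -/

set_option autoImplicit false

namespace Cfsg.Agent.Lib.Helper6.ONTC

open Cfsg.Agent.Lib.Helper6.TC

theorem chk_pow17_4_0 : tab.minOKc [2, 7, 3, 7, 3, 2, 3, 6, 3, 6] 1 120000 2000 = true := by decide +kernel

theorem chk_pow17_4_1 : tab.minOKc [2, 7, 3, 7, 3, 2, 3, 6, 3, 6] 1 122000 2000 = true := by decide +kernel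

theorem chk_pow17_4_2 : tab.minOKc [2, 7, 3, 7, 3, 2, 3, 6, 3, 6] 1 124000 2000 = true := by decide +kernel

theorem chk_pow17_4_3 : tab.minOKc [2, 7, 3, 7, 3, 2, 3, 6, 3, 6] 1 126000 2000 = true := by decide +kernel

theorem chk_pow17_4_4 : tab.minOKc [2, 7, 3, 7, 3, 2, 3, 6, 3, 6] 1 128000 2000 = true := by decide +kernel

theorem chk_pow17_4_5 : tab.minOKc [2, 7, 3, 7, 3, 2, 3, 6, 3, 6] 1 130000 2000 = true := by decide +kernel

theorem chk_pow17_4_6 : tab.minOKc [2, 7, 3, 7, 3, 2, 3, 6, 3, 6] 1 132000 2000 = true := by decide +kernel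

theorem chk_pow17_4_7 : tab.minOKc [2, 7, 3, 7, 3, 2, 3, 6, 3, 6] 1 134000 2000 = true := by decide +kernel

theorem chk_pow17_4_8 : tab.minOKc [2, 7, 3, 7, 3, 2, 3, 6, 3, 6] 1 136000 2000 = true := by decide +kernel

theorem chk_pow17_4_9 : tab.minOKc [2, 7, 3, 7, 3, 2, 3, 6, 3, 6] 1 138000 2000 = true := by decide +kernel

theorem chk_pow17_4_10 : tab.minOKc [2, 7, 3, 7, 3, 2, 3, 6, 3, 6] 1 140000 2000 = true := by decide +kernel

theorem chk_pow17_4_11 : tab.minOKc [2, 7, 3, 7, 3, 2, 3, 6, 3, 6] 1 142000 2000 = true := by decide +kernel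

theorem chk_pow17_4_12 : tab.minOKc [2, 7, 3, 7, 3, 2, 3, 6, 3, 6] 1 144000 2000 = true := by decide +kernel

theorem chk_pow17_4_13 : tab.minOKc [2, 7, 3, 7, 3, 2, 3, 6, 3, 6] 1 146000 2000 = true := by decide +kernel

theorem chk_pow17_4_14 : tab.minOKc [2, 7, 3, 7, 3, 2, 3, 6, 3, 6] 1 148000 2000 = true := by decide +kernel

theorem chk_pow17_4 : tab.minOKc [2, 7, 3, 7, 3, 2, 3, 6, 3, 6] 1 120000 30000 = true := by
  refine tab.minOKc_of_chunks [2, 7, 3, 7, 3, 2, 3, 6, 3, 6] 1 120000 2000 15 (by norm_num) ?_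
  intro i hi
  interval_cases i
  · exact chk_pow17_4_0
  · exact chk_pow17_4_1
  · exact chk_pow17_4_2
  · exact chk_pow17_4_3
  · exact chk_pow17_4_4
  · exact chk_pow17_4_5
  · exact chk_pow17_4_6
  · exact chk_pow17_4_7
  · exact chk_pow17_4_8
  · exact chk_pow17_4_9
  · exact chk_pow17_4_10
  · exact chk_pow17_4_11
  · exact chk_pow17_4_12
  · exact chk_pow17_4_13
  · exact chk_pow17_4_14

theorem chk_pow18_0_0 : tab.minOKc [3, 7, 2, 7, 2, 3, 2, 6, 2, 6] 1 0 2000 = true := by decide +kernel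

theorem chk_pow18_0_1 : tab.minOKc [3, 7, 2, 7, 2, 3, 2, 6, 2, 6] 1 2000 2000 = true := by decide +kernel

theorem chk_pow18_0_2 : tab.minOKc [3, 7, 2, 7, 2, 3, 2, 6, 2, 6] 1 4000 2000 = true := by decide +kernel

theorem chk_pow18_0_3 : tab.minOKc [3, 7, 2, 7, 2, 3, 2, 6, 2, 6] 1 6000 2000 = true := by decide +kernel

theorem chk_pow18_0_4 : tab.minOKc [3, 7, 2, 7, 2, 3, 2, 6, 2, 6] 1 8000 2000 = true := by decide +kernel

theorem chk_pow18_0_5 : tab.minOKc [3, 7, 2, 7, 2, 3, 2, 6, 2, 6] 1 10000 2000 = true := by decide +kernel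

theorem chk_pow18_0_6 : tab.minOKc [3, 7, 2, 7, 2, 3, 2, 6, 2, 6] 1 12000 2000 = true := by decide +kernel

theorem chk_pow18_0_7 : tab.minOKc [3, 7, 2, 7, 2, 3, 2, 6, 2, 6] 1 14000 2000 = true := by decide +kernel

theorem chk_pow18_0_8 : tab.minOKc [3, 7, 2, 7, 2, 3, 2, 6, 2, 6] 1 16000 2000 = true := by decide +kernel

theorem chk_pow18_0_9 : tab.minOKc [3, 7, 2, 7, 2, 3, 2, 6, 2, 6] 1 18000 2000 = true := by decide +kernel

theorem chk_pow18_0_10 : tab.minOKc [3, 7, 2, 7, 2, 3, 2, 6, 2, 6] 1 20000 2000 = true := by decide +kernel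

theorem chk_pow18_0_11 : tab.minOKc [3, 7, 2, 7, 2, 3, 2, 6, 2, 6] 1 22000 2000 = true := by decide +kernel

theorem chk_pow18_0_12 : tab.minOKc [3, 7, 2, 7, 2, 3, 2, 6, 2, 6] 1 24000 2000 = true := by decide +kernel

theorem chk_pow18_0_13 : tab.minOKc [3, 7, 2, 7, 2, 3, 2, 6, 2, 6] 1 26000 2000 = true := by decide +kernel

theorem chk_pow18_0_14 : tab.minOKc [3, 7, 2, 7, 2, 3, 2, 6, 2, 6] 1 28000 2000 = true := by decide +kernel

theorem chk_pow18_0 : tab.minOKc [3, 7, 2, 7, 2, 3, 2, 6, 2, 6] 1 0 30000 = true := by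
  refine tab.minOKc_of_chunks [3, 7, 2, 7, 2, 3, 2, 6, 2, 6] 1 0 2000 15 (by norm_num) ?_
  intro i hi
  interval_cases i
  · exact chk_pow18_0_0
  · exact chk_pow18_0_1
  · exact chk_pow18_0_2
  · exact chk_pow18_0_3
  · exact chk_pow18_0_4
  · exact chk_pow18_0_5
  · exact chk_pow18_0_6
  · exact chk_pow18_0_7
  · exact chk_pow18_0_8
  · exact chk_pow18_0_9
  · exact chk_pow18_0_10
  · exact chk_pow18_0_11
  · exact chk_pow18_0_12
  · exact chk_pow18_0_13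
  · exact chk_pow18_0_14

end Cfsg.Agent.Lib.Helper6.ONTC
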