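import Cfsg.Agent.Lib.Helper6.ONSCert

/-! # ON: the kernel check of the rows from 25032 on -/

set_option autoImplicit false

namespace Cfsg.Agent.Lib.Helper6.ONTC

open Cfsg.Agent.Lib.Helper6.TC Cfsg.Agent.Lib.Helper6.TCGS

theorem chk_rows2_0 : cert.rowsOK 25032 564 = true := by decide +kernel

theorem chk_rows2_1 : cert.rowsOK 25596 564 = true := by decide +kernel

theorem chk_rows2_2 : cert.rowsOK 26160 564 = true := by decide +kernel

theorem chk_rows2_3 : cert.rowsOK 26724 564 = true := by decide +kernel

theorem chk_rows2_4 : cert.rowsOK 27288 564 = true := by decide +kernel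

theorem chk_rows2_5 : cert.rowsOK 27852 564 = true := by decide +kernel

theorem chk_rows2_6 : cert.rowsOK 28416 564 = true := by decide +kernel

theorem chk_rows2_7 : cert.rowsOK 28980 564 = true := by decide +kernel

theorem chk_rows2_8 : cert.rowsOK 29544 564 = true := by decide +kernel

theorem chk_rows2_9 : cert.rowsOK 30108 564 = true := by decide +kernel

theorem chk_rows2_10 : cert.rowsOK 30672 564 = true := by decide +kernel

theorem chk_rows2_11 : cert.rowsOK 31236 564 = true := by decide +kernel

theorem chk_rows2_12 : cert.rowsOK 31800 564 = true := by decide +kernel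

theorem chk_rows2_13 : cert.rowsOK 32364 564 = true := by decide +kernel

theorem chk_rows2_14 : cert.rowsOK 32928 564 = true := by decide +kernel

theorem chk_rows2_15 : cert.rowsOK 33492 564 = true := by decide +kernel

theorem chk_rows2_16 : cert.rowsOK 34056 564 = true := by decide +kernel

theorem chk_rows2_17 : cert.rowsOK 34620 564 = true := by decide +kernel

theorem chk_rows2_18 : cert.rowsOK 35184 564 = true := by decide +kernel

theorem chk_rows2_19 : cert.rowsOK 35748 564 = true := by decide +kernel

theorem chk_rows2_20 : cert.rowsOK 36312 564 = true := by decide +kernel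

theorem chk_rows2_21 : cert.rowsOK 36876 564 = true := by decide +kernel

theorem chk_rows2_22 : cert.rowsOK 37440 564 = true := by decide +kernel

theorem chk_rows2_23 : cert.rowsOK 38004 564 = true := by decide +kernel

theorem chk_range2 : ∀ a, 25032 ≤ a → a < 38568 → ∀ x < cert.c.g, cert.slotOK a x = true := by
  refine cert.range_of_chunks 25032 564 24 (by norm_num) ?_
  intro k hk
  interval_cases k
  · exact chk_rows2_0
  · exact chk_rows2_1
  · exact chk_rows2_2
  · exact chk_rows2_3
  · exact chk_rows2_4
  · exact chk_rows2_5
  · exact chk_rows2_6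
  · exact chk_rows2_7
  · exact chk_rows2_8
  · exact chk_rows2_9
  · exact chk_rows2_10
  · exact chk_rows2_11
  · exact chk_rows2_12
  · exact chk_rows2_13
  · exact chk_rows2_14
  · exact chk_rows2_15
  · exact chk_rows2_16
  · exact chk_rows2_17
  · exact chk_rows2_18
  · exact chk_rows2_19
  · exact chk_rows2_20
  · exact chk_rows2_21
  · exact chk_rows2_22
  · exact chk_rows2_23

end Cfsg.Agent.Lib.Helper6.ONTC
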