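import Cfsg.Agent.Lib.Helper6.ONSCert
import Cfsg.Agent.Lib.Helper6.ONSRows2

/-! # ON: the kernel check of the rows from 260040 on -/

set_option autoImplicit false

namespace Cfsg.Agent.Lib.Helper6.ONTC

open Cfsg.Agent.Lib.Helper6.TC Cfsg.Agent.Lib.Helper6.TCGS

theorem chk_rows14_0 : cert.rowsOK 260040 1275 = true := by decide +kernel

theorem chk_rows14_1 : cert.rowsOK 261315 1275 = true := by decide +kernel

theorem chk_rows14_2 : cert.rowsOK 262590 1275 = true := by decide +kernel

theorem chk_rows14_3 : cert.rowsOK 263865 1275 = true := by decide +kernel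

theorem chk_rows14_4 : cert.rowsOK 265140 1275 = true := by decide +kernel

theorem chk_rows14_5 : cert.rowsOK 266415 1275 = true := by decide +kernel

theorem chk_rows14_6 : cert.rowsOK 267690 1275 = true := by decide +kernel

theorem chk_rows14_7 : cert.rowsOK 268965 1275 = true := by decide +kernel

theorem chk_rows14_8 : cert.rowsOK 270240 1275 = true := by decide +kernel

theorem chk_rows14_9 : cert.rowsOK 271515 1275 = true := by decide +kernel

theorem chk_rows14_10 : cert.rowsOK 272790 1275 = true := by decide +kernel

theorem chk_rows14_11 : cert.rowsOK 274065 1275 = true := by decide +kernel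

theorem chk_rows14_12 : cert.rowsOK 275340 1275 = true := by decide +kernel

theorem chk_rows14_13 : cert.rowsOK 276615 1275 = true := by decide +kernel

theorem chk_rows14_14 : cert.rowsOK 277890 1275 = true := by decide +kernel

theorem chk_rows14_15 : cert.rowsOK 279165 1275 = true := by decide +kernel

theorem chk_rows14_16 : cert.rowsOK 280440 1275 = true := by decide +kernel

theorem chk_rows14_17 : cert.rowsOK 281715 1275 = true := by decide +kernel

theorem chk_rows14_18 : cert.rowsOK 282990 1275 = true := by decide +kernel

theorem chk_rows14_19 : cert.rowsOK 284265 1275 = true := by decide +kernel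

theorem chk_rows14_20 : cert.rowsOK 285540 1275 = true := by decide +kernel

theorem chk_rows14_21 : cert.rowsOK 286815 1275 = true := by decide +kernel

theorem chk_rows14_22 : cert.rowsOK 288090 1275 = true := by decide +kernel

theorem chk_rows14_23 : cert.rowsOK 289365 1275 = true := by decide +kernel

theorem chk_range14 : ∀ a, 260040 ≤ a → a < 290640 → ∀ x < cert.c.g, cert.slotOK a x = true := by
  refine cert.range_of_chunks 260040 1275 24 (by norm_num) ?_
  intro k hk
  interval_cases k
  · exact chk_rows14_0
  · exact chk_rows14_1
  · exact chk_rows14_2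
  · exact chk_rows14_3
  · exact chk_rows14_4
  · exact chk_rows14_5
  · exact chk_rows14_6
  · exact chk_rows14_7
  · exact chk_rows14_8
  · exact chk_rows14_9
  · exact chk_rows14_10
  · exact chk_rows14_11
  · exact chk_rows14_12
  · exact chk_rows14_13
  · exact chk_rows14_14
  · exact chk_rows14_15
  · exact chk_rows14_16
  · exact chk_rows14_17
  · exact chk_rows14_18
  · exact chk_rows14_19
  · exact chk_rows14_20
  · exact chk_rows14_21
  · exact chk_rows14_22
  · exact chk_rows14_23

end Cfsg.Agent.Lib.Helper6.ONTC
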