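import Cfsg.Agent.Lib.Helper6.ONTCData
import Cfsg.Agent.Lib.Helper6.TCRel3
import Cfsg.Agent.Lib.Helper6.ONSFin5

/-! # ON: the kernel check of a part of the relators on the coset table -/

set_option autoImplicit false

namespace Cfsg.Agent.Lib.Helper6.ONTC

open Cfsg.Agent.Lib.Helper6.TC

theorem chk_pow9_1_0 : tab.minOKc [3, 4] 3 80910 5394 = true := by decide +kernel

theorem chk_pow9_1_1 : tab.minOKc [3, 4] 3 86304 5394 = true := by decide +kernel

theorem chk_pow9_1_2 : tab.minOKc [3, 4] 3 91698 5394 = true := by decide +kernel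

theorem chk_pow9_1_3 : tab.minOKc [3, 4] 3 97092 5394 = true := by decide +kernel

theorem chk_pow9_1_4 : tab.minOKc [3, 4] 3 102486 5394 = true := by decide +kernel

theorem chk_pow9_1_5 : tab.minOKc [3, 4] 3 107880 5394 = true := by decide +kernel

theorem chk_pow9_1_6 : tab.minOKc [3, 4] 3 113274 5394 = true := by decide +kernel

theorem chk_pow9_1_7 : tab.minOKc [3, 4] 3 118668 5394 = true := by decide +kernel

theorem chk_pow9_1_8 : tab.minOKc [3, 4] 3 124062 5394 = true := by decide +kernel

theorem chk_pow9_1_9 : tab.minOKc [3, 4] 3 129456 5394 = true := by decide +kernel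

theorem chk_pow9_1_10 : tab.minOKc [3, 4] 3 134850 5394 = true := by decide +kernel

theorem chk_pow9_1_11 : tab.minOKc [3, 4] 3 140244 5394 = true := by decide +kernel

theorem chk_pow9_1_12 : tab.minOKc [3, 4] 3 145638 5394 = true := by decide +kernel

theorem chk_pow9_1_13 : tab.minOKc [3, 4] 3 151032 5394 = true := by decide +kernel

theorem chk_pow9_1_14 : tab.minOKc [3, 4] 3 156426 5394 = true := by decide +kernel

theorem chk_pow9_1 : tab.minOKc [3, 4] 3 80910 80910 = true := by
  refine tab.minOKc_of_chunks [3, 4] 3 80910 5394 15 (by norm_num) ?_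
  intro i hi
  interval_cases i
  · exact chk_pow9_1_0
  · exact chk_pow9_1_1
  · exact chk_pow9_1_2
  · exact chk_pow9_1_3
  · exact chk_pow9_1_4
  · exact chk_pow9_1_5
  · exact chk_pow9_1_6
  · exact chk_pow9_1_7
  · exact chk_pow9_1_8
  · exact chk_pow9_1_9
  · exact chk_pow9_1_10
  · exact chk_pow9_1_11
  · exact chk_pow9_1_12
  · exact chk_pow9_1_13
  · exact chk_pow9_1_14

theorem chk_pow10_0_0 : tab.minOKc [0, 5] 2 0 6693 = true := by decide +kernel

theorem chk_pow10_0_1 : tab.minOKc [0, 5] 2 6693 6693 = true := by decide +kernel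

theorem chk_pow10_0_2 : tab.minOKc [0, 5] 2 13386 6693 = true := by decide +kernel

theorem chk_pow10_0_3 : tab.minOKc [0, 5] 2 20079 6693 = true := by decide +kernel

theorem chk_pow10_0_4 : tab.minOKc [0, 5] 2 26772 6693 = true := by decide +kernel

theorem chk_pow10_0_5 : tab.minOKc [0, 5] 2 33465 6693 = true := by decide +kernel

theorem chk_pow10_0_6 : tab.minOKc [0, 5] 2 40158 6693 = true := by decide +kernel

theorem chk_pow10_0_7 : tab.minOKc [0, 5] 2 46851 6693 = true := by decide +kernel

theorem chk_pow10_0_8 : tab.minOKc [0, 5] 2 53544 6693 = true := by decide +kernel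

theorem chk_pow10_0_9 : tab.minOKc [0, 5] 2 60237 6693 = true := by decide +kernel

theorem chk_pow10_0_10 : tab.minOKc [0, 5] 2 66930 6693 = true := by decide +kernel

theorem chk_pow10_0_11 : tab.minOKc [0, 5] 2 73623 6693 = true := by decide +kernel

theorem chk_pow10_0_12 : tab.minOKc [0, 5] 2 80316 6693 = true := by decide +kernel

theorem chk_pow10_0_13 : tab.minOKc [0, 5] 2 87009 6693 = true := by decide +kernel

theorem chk_pow10_0_14 : tab.minOKc [0, 5] 2 93702 6693 = true := by decide +kernel

theorem chk_pow10_0 : tab.minOKc [0, 5] 2 0 100395 = true := by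
  refine tab.minOKc_of_chunks [0, 5] 2 0 6693 15 (by norm_num) ?_
  intro i hi
  interval_cases i
  · exact chk_pow10_0_0
  · exact chk_pow10_0_1
  · exact chk_pow10_0_2
  · exact chk_pow10_0_3
  · exact chk_pow10_0_4
  · exact chk_pow10_0_5
  · exact chk_pow10_0_6
  · exact chk_pow10_0_7
  · exact chk_pow10_0_8
  · exact chk_pow10_0_9
  · exact chk_pow10_0_10
  · exact chk_pow10_0_11
  · exact chk_pow10_0_12
  · exact chk_pow10_0_13
  · exact chk_pow10_0_14

end Cfsg.Agent.Lib.Helper6.ONTC
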