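import Cfsg.Agent.Lib.Helper6.ONTCData
import Cfsg.Agent.Lib.Helper6.TCRel3
import Cfsg.Agent.Lib.Helper6.ONTCRel10

/-! # ON: the kernel check of a part of the relators on the coset table -/

set_option autoImplicit false

namespace Cfsg.Agent.Lib.Helper6.ONTC

open Cfsg.Agent.Lib.Helper6.TC

theorem chk_pow18_1_0 : tab.minOKc [3, 7, 2, 7, 2, 3, 2, 6, 2, 6] 1 30000 2000 = true := by decide +kernel

theorem chk_pow18_1_1 : tab.minOKc [3, 7, 2, 7, 2, 3, 2, 6, 2, 6] 1 32000 2000 = true := by decide +kernel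

theorem chk_pow18_1_2 : tab.minOKc [3, 7, 2, 7, 2, 3, 2, 6, 2, 6] 1 34000 2000 = true := by decide +kernel

theorem chk_pow18_1_3 : tab.minOKc [3, 7, 2, 7, 2, 3, 2, 6, 2, 6] 1 36000 2000 = true := by decide +kernel

theorem chk_pow18_1_4 : tab.minOKc [3, 7, 2, 7, 2, 3, 2, 6, 2, 6] 1 38000 2000 = true := by decide +kernel

theorem chk_pow18_1_5 : tab.minOKc [3, 7, 2, 7, 2, 3, 2, 6, 2, 6] 1 40000 2000 = true := by decide +kernel

theorem chk_pow18_1_6 : tab.minOKc [3, 7, 2, 7, 2, 3, 2, 6, 2, 6] 1 42000 2000 = true := by decide +kernel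

theorem chk_pow18_1_7 : tab.minOKc [3, 7, 2, 7, 2, 3, 2, 6, 2, 6] 1 44000 2000 = true := by decide +kernel

theorem chk_pow18_1_8 : tab.minOKc [3, 7, 2, 7, 2, 3, 2, 6, 2, 6] 1 46000 2000 = true := by decide +kernel

theorem chk_pow18_1_9 : tab.minOKc [3, 7, 2, 7, 2, 3, 2, 6, 2, 6] 1 48000 2000 = true := by decide +kernel

theorem chk_pow18_1_10 : tab.minOKc [3, 7, 2, 7, 2, 3, 2, 6, 2, 6] 1 50000 2000 = true := by decide +kernel

theorem chk_pow18_1_11 : tab.minOKc [3, 7, 2, 7, 2, 3, 2, 6, 2, 6] 1 52000 2000 = true := by decide +kernel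

theorem chk_pow18_1_12 : tab.minOKc [3, 7, 2, 7, 2, 3, 2, 6, 2, 6] 1 54000 2000 = true := by decide +kernel

theorem chk_pow18_1_13 : tab.minOKc [3, 7, 2, 7, 2, 3, 2, 6, 2, 6] 1 56000 2000 = true := by decide +kernel

theorem chk_pow18_1_14 : tab.minOKc [3, 7, 2, 7, 2, 3, 2, 6, 2, 6] 1 58000 2000 = true := by decide +kernel

theorem chk_pow18_1 : tab.minOKc [3, 7, 2, 7, 2, 3, 2, 6, 2, 6] 1 30000 30000 = true := by
  refine tab.minOKc_of_chunks [3, 7, 2, 7, 2, 3, 2, 6, 2, 6] 1 30000 2000 15 (by norm_num) ?_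
  intro i hi
  interval_cases i
  · exact chk_pow18_1_0
  · exact chk_pow18_1_1
  · exact chk_pow18_1_2
  · exact chk_pow18_1_3
  · exact chk_pow18_1_4
  · exact chk_pow18_1_5
  · exact chk_pow18_1_6
  · exact chk_pow18_1_7
  · exact chk_pow18_1_8
  · exact chk_pow18_1_9
  · exact chk_pow18_1_10
  · exact chk_pow18_1_11
  · exact chk_pow18_1_12
  · exact chk_pow18_1_13
  · exact chk_pow18_1_14

theorem chk_pow18_2_0 : tab.minOKc [3, 7, 2, 7, 2, 3, 2, 6, 2, 6] 1 60000 2000 = true := by decide +kernel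

theorem chk_pow18_2_1 : tab.minOKc [3, 7, 2, 7, 2, 3, 2, 6, 2, 6] 1 62000 2000 = true := by decide +kernel

theorem chk_pow18_2_2 : tab.minOKc [3, 7, 2, 7, 2, 3, 2, 6, 2, 6] 1 64000 2000 = true := by decide +kernel

theorem chk_pow18_2_3 : tab.minOKc [3, 7, 2, 7, 2, 3, 2, 6, 2, 6] 1 66000 2000 = true := by decide +kernel

theorem chk_pow18_2_4 : tab.minOKc [3, 7, 2, 7, 2, 3, 2, 6, 2, 6] 1 68000 2000 = true := by decide +kernel

theorem chk_pow18_2_5 : tab.minOKc [3, 7, 2, 7, 2, 3, 2, 6, 2, 6] 1 70000 2000 = true := by decide +kernel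

theorem chk_pow18_2_6 : tab.minOKc [3, 7, 2, 7, 2, 3, 2, 6, 2, 6] 1 72000 2000 = true := by decide +kernel

theorem chk_pow18_2_7 : tab.minOKc [3, 7, 2, 7, 2, 3, 2, 6, 2, 6] 1 74000 2000 = true := by decide +kernel

theorem chk_pow18_2_8 : tab.minOKc [3, 7, 2, 7, 2, 3, 2, 6, 2, 6] 1 76000 2000 = true := by decide +kernel

theorem chk_pow18_2_9 : tab.minOKc [3, 7, 2, 7, 2, 3, 2, 6, 2, 6] 1 78000 2000 = true := by decide +kernel

theorem chk_pow18_2_10 : tab.minOKc [3, 7, 2, 7, 2, 3, 2, 6, 2, 6] 1 80000 2000 = true := by decide +kernel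

theorem chk_pow18_2_11 : tab.minOKc [3, 7, 2, 7, 2, 3, 2, 6, 2, 6] 1 82000 2000 = true := by decide +kernel

theorem chk_pow18_2_12 : tab.minOKc [3, 7, 2, 7, 2, 3, 2, 6, 2, 6] 1 84000 2000 = true := by decide +kernel

theorem chk_pow18_2_13 : tab.minOKc [3, 7, 2, 7, 2, 3, 2, 6, 2, 6] 1 86000 2000 = true := by decide +kernel

theorem chk_pow18_2_14 : tab.minOKc [3, 7, 2, 7, 2, 3, 2, 6, 2, 6] 1 88000 2000 = true := by decide +kernel

theorem chk_pow18_2 : tab.minOKc [3, 7, 2, 7, 2, 3, 2, 6, 2, 6] 1 60000 30000 = true := by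
  refine tab.minOKc_of_chunks [3, 7, 2, 7, 2, 3, 2, 6, 2, 6] 1 60000 2000 15 (by norm_num) ?_
  intro i hi
  interval_cases i
  · exact chk_pow18_2_0
  · exact chk_pow18_2_1
  · exact chk_pow18_2_2
  · exact chk_pow18_2_3
  · exact chk_pow18_2_4
  · exact chk_pow18_2_5
  · exact chk_pow18_2_6
  · exact chk_pow18_2_7
  · exact chk_pow18_2_8
  · exact chk_pow18_2_9
  · exact chk_pow18_2_10
  · exact chk_pow18_2_11
  · exact chk_pow18_2_12
  · exact chk_pow18_2_13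
  · exact chk_pow18_2_14

end Cfsg.Agent.Lib.Helper6.ONTC
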