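import Cfsg.Agent.Lib.Helper6.ONTCData
import Cfsg.Agent.Lib.Helper6.TCRel3
import Cfsg.Agent.Lib.Helper6.ONTCRel12

/-! # ON: the kernel check of a part of the relators on the coset table -/

set_option autoImplicit false

namespace Cfsg.Agent.Lib.Helper6.ONTC

open Cfsg.Agent.Lib.Helper6.TC

theorem chk_pow19_0_0 : tab.minOKc [1, 2, 3, 6] 5 0 2197 = true := by decide +kernel

theorem chk_pow19_0_1 : tab.minOKc [1, 2, 3, 6] 5 2197 2197 = true := by decide +kernel

theorem chk_pow19_0_2 : tab.minOKc [1, 2, 3, 6] 5 4394 2197 = true := by decide +kernel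

theorem chk_pow19_0_3 : tab.minOKc [1, 2, 3, 6] 5 6591 2197 = true := by decide +kernel

theorem chk_pow19_0_4 : tab.minOKc [1, 2, 3, 6] 5 8788 2197 = true := by decide +kernel

theorem chk_pow19_0_5 : tab.minOKc [1, 2, 3, 6] 5 10985 2197 = true := by decide +kernel

theorem chk_pow19_0_6 : tab.minOKc [1, 2, 3, 6] 5 13182 2197 = true := by decide +kernel

theorem chk_pow19_0_7 : tab.minOKc [1, 2, 3, 6] 5 15379 2197 = true := by decide +kernel

theorem chk_pow19_0_8 : tab.minOKc [1, 2, 3, 6] 5 17576 2197 = true := by decide +kernel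

theorem chk_pow19_0_9 : tab.minOKc [1, 2, 3, 6] 5 19773 2197 = true := by decide +kernel

theorem chk_pow19_0_10 : tab.minOKc [1, 2, 3, 6] 5 21970 2197 = true := by decide +kernel

theorem chk_pow19_0_11 : tab.minOKc [1, 2, 3, 6] 5 24167 2197 = true := by decide +kernel

theorem chk_pow19_0_12 : tab.minOKc [1, 2, 3, 6] 5 26364 2197 = true := by decide +kernel

theorem chk_pow19_0_13 : tab.minOKc [1, 2, 3, 6] 5 28561 2197 = true := by decide +kernel

theorem chk_pow19_0_14 : tab.minOKc [1, 2, 3, 6] 5 30758 2197 = true := by decide +kernel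

theorem chk_pow19_0 : tab.minOKc [1, 2, 3, 6] 5 0 32955 = true := by
  refine tab.minOKc_of_chunks [1, 2, 3, 6] 5 0 2197 15 (by norm_num) ?_
  intro i hi
  interval_cases i
  · exact chk_pow19_0_0
  · exact chk_pow19_0_1
  · exact chk_pow19_0_2
  · exact chk_pow19_0_3
  · exact chk_pow19_0_4
  · exact chk_pow19_0_5
  · exact chk_pow19_0_6
  · exact chk_pow19_0_7
  · exact chk_pow19_0_8
  · exact chk_pow19_0_9
  · exact chk_pow19_0_10
  · exact chk_pow19_0_11
  · exact chk_pow19_0_12
  · exact chk_pow19_0_13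
  · exact chk_pow19_0_14

theorem chk_pow19_1_0 : tab.minOKc [1, 2, 3, 6] 5 32955 2197 = true := by decide +kernel

theorem chk_pow19_1_1 : tab.minOKc [1, 2, 3, 6] 5 35152 2197 = true := by decide +kernel

theorem chk_pow19_1_2 : tab.minOKc [1, 2, 3, 6] 5 37349 2197 = true := by decide +kernel

theorem chk_pow19_1_3 : tab.minOKc [1, 2, 3, 6] 5 39546 2197 = true := by decide +kernel

theorem chk_pow19_1_4 : tab.minOKc [1, 2, 3, 6] 5 41743 2197 = true := by decide +kernel

theorem chk_pow19_1_5 : tab.minOKc [1, 2, 3, 6] 5 43940 2197 = true := by decide +kernel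

theorem chk_pow19_1_6 : tab.minOKc [1, 2, 3, 6] 5 46137 2197 = true := by decide +kernel

theorem chk_pow19_1_7 : tab.minOKc [1, 2, 3, 6] 5 48334 2197 = true := by decide +kernel

theorem chk_pow19_1_8 : tab.minOKc [1, 2, 3, 6] 5 50531 2197 = true := by decide +kernel

theorem chk_pow19_1_9 : tab.minOKc [1, 2, 3, 6] 5 52728 2197 = true := by decide +kernel

theorem chk_pow19_1_10 : tab.minOKc [1, 2, 3, 6] 5 54925 2197 = true := by decide +kernel

theorem chk_pow19_1_11 : tab.minOKc [1, 2, 3, 6] 5 57122 2197 = true := by decide +kernel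

theorem chk_pow19_1_12 : tab.minOKc [1, 2, 3, 6] 5 59319 2197 = true := by decide +kernel

theorem chk_pow19_1_13 : tab.minOKc [1, 2, 3, 6] 5 61516 2197 = true := by decide +kernel

theorem chk_pow19_1_14 : tab.minOKc [1, 2, 3, 6] 5 63713 2197 = true := by decide +kernel

theorem chk_pow19_1 : tab.minOKc [1, 2, 3, 6] 5 32955 32955 = true := by
  refine tab.minOKc_of_chunks [1, 2, 3, 6] 5 32955 2197 15 (by norm_num) ?_
  intro i hi
  interval_cases i
  · exact chk_pow19_1_0
  · exact chk_pow19_1_1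
  · exact chk_pow19_1_2
  · exact chk_pow19_1_3
  · exact chk_pow19_1_4
  · exact chk_pow19_1_5
  · exact chk_pow19_1_6
  · exact chk_pow19_1_7
  · exact chk_pow19_1_8
  · exact chk_pow19_1_9
  · exact chk_pow19_1_10
  · exact chk_pow19_1_11
  · exact chk_pow19_1_12
  · exact chk_pow19_1_13
  · exact chk_pow19_1_14

end Cfsg.Agent.Lib.Helper6.ONTC
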