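import Cfsg.Agent.Lib.Helper6.ONTCData
import Cfsg.Agent.Lib.Helper6.TCRel3
import Cfsg.Agent.Lib.Helper6.ONTCRel13

/-! # ON: the kernel check of a part of the relators on the coset table -/

set_option autoImplicit false

namespace Cfsg.Agent.Lib.Helper6.ONTC

open Cfsg.Agent.Lib.Helper6.TC

theorem chk_pow19_2_0 : tab.minOKc [1, 2, 3, 6] 5 65910 2197 = true := by decide +kernel

theorem chk_pow19_2_1 : tab.minOKc [1, 2, 3, 6] 5 68107 2197 = true := by decide +kernel

theorem chk_pow19_2_2 : tab.minOKc [1, 2, 3, 6] 5 70304 2197 = true := by decide +kernel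

theorem chk_pow19_2_3 : tab.minOKc [1, 2, 3, 6] 5 72501 2197 = true := by decide +kernel

theorem chk_pow19_2_4 : tab.minOKc [1, 2, 3, 6] 5 74698 2197 = true := by decide +kernel

theorem chk_pow19_2_5 : tab.minOKc [1, 2, 3, 6] 5 76895 2197 = true := by decide +kernel

theorem chk_pow19_2_6 : tab.minOKc [1, 2, 3, 6] 5 79092 2197 = true := by decide +kernel

theorem chk_pow19_2_7 : tab.minOKc [1, 2, 3, 6] 5 81289 2197 = true := by decide +kernel

theorem chk_pow19_2_8 : tab.minOKc [1, 2, 3, 6] 5 83486 2197 = true := by decide +kernel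

theorem chk_pow19_2_9 : tab.minOKc [1, 2, 3, 6] 5 85683 2197 = true := by decide +kernel

theorem chk_pow19_2_10 : tab.minOKc [1, 2, 3, 6] 5 87880 2197 = true := by decide +kernel

theorem chk_pow19_2_11 : tab.minOKc [1, 2, 3, 6] 5 90077 2197 = true := by decide +kernel

theorem chk_pow19_2_12 : tab.minOKc [1, 2, 3, 6] 5 92274 2197 = true := by decide +kernel

theorem chk_pow19_2_13 : tab.minOKc [1, 2, 3, 6] 5 94471 2197 = true := by decide +kernel

theorem chk_pow19_2_14 : tab.minOKc [1, 2, 3, 6] 5 96668 2197 = true := by decide +kernel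

theorem chk_pow19_2 : tab.minOKc [1, 2, 3, 6] 5 65910 32955 = true := by
  refine tab.minOKc_of_chunks [1, 2, 3, 6] 5 65910 2197 15 (by norm_num) ?_
  intro i hi
  interval_cases i
  · exact chk_pow19_2_0
  · exact chk_pow19_2_1
  · exact chk_pow19_2_2
  · exact chk_pow19_2_3
  · exact chk_pow19_2_4
  · exact chk_pow19_2_5
  · exact chk_pow19_2_6
  · exact chk_pow19_2_7
  · exact chk_pow19_2_8
  · exact chk_pow19_2_9
  · exact chk_pow19_2_10
  · exact chk_pow19_2_11
  · exact chk_pow19_2_12
  · exact chk_pow19_2_13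
  · exact chk_pow19_2_14

theorem chk_pow19_3_0 : tab.minOKc [1, 2, 3, 6] 5 98865 2197 = true := by decide +kernel

theorem chk_pow19_3_1 : tab.minOKc [1, 2, 3, 6] 5 101062 2197 = true := by decide +kernel

theorem chk_pow19_3_2 : tab.minOKc [1, 2, 3, 6] 5 103259 2197 = true := by decide +kernel

theorem chk_pow19_3_3 : tab.minOKc [1, 2, 3, 6] 5 105456 2197 = true := by decide +kernel

theorem chk_pow19_3_4 : tab.minOKc [1, 2, 3, 6] 5 107653 2197 = true := by decide +kernel

theorem chk_pow19_3_5 : tab.minOKc [1, 2, 3, 6] 5 109850 2197 = true := by decide +kernel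

theorem chk_pow19_3_6 : tab.minOKc [1, 2, 3, 6] 5 112047 2197 = true := by decide +kernel

theorem chk_pow19_3_7 : tab.minOKc [1, 2, 3, 6] 5 114244 2197 = true := by decide +kernel

theorem chk_pow19_3_8 : tab.minOKc [1, 2, 3, 6] 5 116441 2197 = true := by decide +kernel

theorem chk_pow19_3_9 : tab.minOKc [1, 2, 3, 6] 5 118638 2197 = true := by decide +kernel

theorem chk_pow19_3_10 : tab.minOKc [1, 2, 3, 6] 5 120835 2197 = true := by decide +kernel

theorem chk_pow19_3_11 : tab.minOKc [1, 2, 3, 6] 5 123032 2197 = true := by decide +kernel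

theorem chk_pow19_3_12 : tab.minOKc [1, 2, 3, 6] 5 125229 2197 = true := by decide +kernel

theorem chk_pow19_3_13 : tab.minOKc [1, 2, 3, 6] 5 127426 2197 = true := by decide +kernel

theorem chk_pow19_3_14 : tab.minOKc [1, 2, 3, 6] 5 129623 2197 = true := by decide +kernel

theorem chk_pow19_3 : tab.minOKc [1, 2, 3, 6] 5 98865 32955 = true := by
  refine tab.minOKc_of_chunks [1, 2, 3, 6] 5 98865 2197 15 (by norm_num) ?_
  intro i hi
  interval_cases i
  · exact chk_pow19_3_0
  · exact chk_pow19_3_1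
  · exact chk_pow19_3_2
  · exact chk_pow19_3_3
  · exact chk_pow19_3_4
  · exact chk_pow19_3_5
  · exact chk_pow19_3_6
  · exact chk_pow19_3_7
  · exact chk_pow19_3_8
  · exact chk_pow19_3_9
  · exact chk_pow19_3_10
  · exact chk_pow19_3_11
  · exact chk_pow19_3_12
  · exact chk_pow19_3_13
  · exact chk_pow19_3_14

end Cfsg.Agent.Lib.Helper6.ONTC
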