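import Cfsg.Agent.Lib.Helper6.ONTCData
import Cfsg.Agent.Lib.Helper6.TCRel3
import Cfsg.Agent.Lib.Helper6.ONTCRel15

/-! # ON: the kernel check of a part of the relators on the coset table -/

set_option autoImplicit false

namespace Cfsg.Agent.Lib.Helper6.ONTC

open Cfsg.Agent.Lib.Helper6.TC

theorem chk_pow20_2_0 : tab.minOKc [6, 1, 2, 6, 2, 1, 6, 1, 2, 6, 2] 1 54540 1818 = true := by decide +kernel

theorem chk_pow20_2_1 : tab.minOKc [6, 1, 2, 6, 2, 1, 6, 1, 2, 6, 2] 1 56358 1818 = true := by decide +kernel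

theorem chk_pow20_2_2 : tab.minOKc [6, 1, 2, 6, 2, 1, 6, 1, 2, 6, 2] 1 58176 1818 = true := by decide +kernel

theorem chk_pow20_2_3 : tab.minOKc [6, 1, 2, 6, 2, 1, 6, 1, 2, 6, 2] 1 59994 1818 = true := by decide +kernel

theorem chk_pow20_2_4 : tab.minOKc [6, 1, 2, 6, 2, 1, 6, 1, 2, 6, 2] 1 61812 1818 = true := by decide +kernel

theorem chk_pow20_2_5 : tab.minOKc [6, 1, 2, 6, 2, 1, 6, 1, 2, 6, 2] 1 63630 1818 = true := by decide +kernel

theorem chk_pow20_2_6 : tab.minOKc [6, 1, 2, 6, 2, 1, 6, 1, 2, 6, 2] 1 65448 1818 = true := by decide +kernel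

theorem chk_pow20_2_7 : tab.minOKc [6, 1, 2, 6, 2, 1, 6, 1, 2, 6, 2] 1 67266 1818 = true := by decide +kernel

theorem chk_pow20_2_8 : tab.minOKc [6, 1, 2, 6, 2, 1, 6, 1, 2, 6, 2] 1 69084 1818 = true := by decide +kernel

theorem chk_pow20_2_9 : tab.minOKc [6, 1, 2, 6, 2, 1, 6, 1, 2, 6, 2] 1 70902 1818 = true := by decide +kernel

theorem chk_pow20_2_10 : tab.minOKc [6, 1, 2, 6, 2, 1, 6, 1, 2, 6, 2] 1 72720 1818 = true := by decide +kernel

theorem chk_pow20_2_11 : tab.minOKc [6, 1, 2, 6, 2, 1, 6, 1, 2, 6, 2] 1 74538 1818 = true := by decide +kernel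

theorem chk_pow20_2_12 : tab.minOKc [6, 1, 2, 6, 2, 1, 6, 1, 2, 6, 2] 1 76356 1818 = true := by decide +kernel

theorem chk_pow20_2_13 : tab.minOKc [6, 1, 2, 6, 2, 1, 6, 1, 2, 6, 2] 1 78174 1818 = true := by decide +kernel

theorem chk_pow20_2_14 : tab.minOKc [6, 1, 2, 6, 2, 1, 6, 1, 2, 6, 2] 1 79992 1818 = true := by decide +kernel

theorem chk_pow20_2 : tab.minOKc [6, 1, 2, 6, 2, 1, 6, 1, 2, 6, 2] 1 54540 27270 = true := by
  refine tab.minOKc_of_chunks [6, 1, 2, 6, 2, 1, 6, 1, 2, 6, 2] 1 54540 1818 15 (by norm_num) ?_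
  intro i hi
  interval_cases i
  · exact chk_pow20_2_0
  · exact chk_pow20_2_1
  · exact chk_pow20_2_2
  · exact chk_pow20_2_3
  · exact chk_pow20_2_4
  · exact chk_pow20_2_5
  · exact chk_pow20_2_6
  · exact chk_pow20_2_7
  · exact chk_pow20_2_8
  · exact chk_pow20_2_9
  · exact chk_pow20_2_10
  · exact chk_pow20_2_11
  · exact chk_pow20_2_12
  · exact chk_pow20_2_13
  · exact chk_pow20_2_14

theorem chk_pow20_3_0 : tab.minOKc [6, 1, 2, 6, 2, 1, 6, 1, 2, 6, 2] 1 81810 1818 = true := by decide +kernel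

theorem chk_pow20_3_1 : tab.minOKc [6, 1, 2, 6, 2, 1, 6, 1, 2, 6, 2] 1 83628 1818 = true := by decide +kernel

theorem chk_pow20_3_2 : tab.minOKc [6, 1, 2, 6, 2, 1, 6, 1, 2, 6, 2] 1 85446 1818 = true := by decide +kernel

theorem chk_pow20_3_3 : tab.minOKc [6, 1, 2, 6, 2, 1, 6, 1, 2, 6, 2] 1 87264 1818 = true := by decide +kernel

theorem chk_pow20_3_4 : tab.minOKc [6, 1, 2, 6, 2, 1, 6, 1, 2, 6, 2] 1 89082 1818 = true := by decide +kernel

theorem chk_pow20_3_5 : tab.minOKc [6, 1, 2, 6, 2, 1, 6, 1, 2, 6, 2] 1 90900 1818 = true := by decide +kernel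

theorem chk_pow20_3_6 : tab.minOKc [6, 1, 2, 6, 2, 1, 6, 1, 2, 6, 2] 1 92718 1818 = true := by decide +kernel

theorem chk_pow20_3_7 : tab.minOKc [6, 1, 2, 6, 2, 1, 6, 1, 2, 6, 2] 1 94536 1818 = true := by decide +kernel

theorem chk_pow20_3_8 : tab.minOKc [6, 1, 2, 6, 2, 1, 6, 1, 2, 6, 2] 1 96354 1818 = true := by decide +kernel

theorem chk_pow20_3_9 : tab.minOKc [6, 1, 2, 6, 2, 1, 6, 1, 2, 6, 2] 1 98172 1818 = true := by decide +kernel

theorem chk_pow20_3_10 : tab.minOKc [6, 1, 2, 6, 2, 1, 6, 1, 2, 6, 2] 1 99990 1818 = true := by decide +kernel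

theorem chk_pow20_3_11 : tab.minOKc [6, 1, 2, 6, 2, 1, 6, 1, 2, 6, 2] 1 101808 1818 = true := by decide +kernel

theorem chk_pow20_3_12 : tab.minOKc [6, 1, 2, 6, 2, 1, 6, 1, 2, 6, 2] 1 103626 1818 = true := by decide +kernel

theorem chk_pow20_3_13 : tab.minOKc [6, 1, 2, 6, 2, 1, 6, 1, 2, 6, 2] 1 105444 1818 = true := by decide +kernel

theorem chk_pow20_3_14 : tab.minOKc [6, 1, 2, 6, 2, 1, 6, 1, 2, 6, 2] 1 107262 1818 = true := by decide +kernel

theorem chk_pow20_3 : tab.minOKc [6, 1, 2, 6, 2, 1, 6, 1, 2, 6, 2] 1 81810 27270 = true := by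
  refine tab.minOKc_of_chunks [6, 1, 2, 6, 2, 1, 6, 1, 2, 6, 2] 1 81810 1818 15 (by norm_num) ?_
  intro i hi
  interval_cases i
  · exact chk_pow20_3_0
  · exact chk_pow20_3_1
  · exact chk_pow20_3_2
  · exact chk_pow20_3_3
  · exact chk_pow20_3_4
  · exact chk_pow20_3_5
  · exact chk_pow20_3_6
  · exact chk_pow20_3_7
  · exact chk_pow20_3_8
  · exact chk_pow20_3_9
  · exact chk_pow20_3_10
  · exact chk_pow20_3_11
  · exact chk_pow20_3_12
  · exact chk_pow20_3_13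
  · exact chk_pow20_3_14

end Cfsg.Agent.Lib.Helper6.ONTC
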