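import Cfsg.Agent.Lib.Helper6.ONTCData
import Cfsg.Agent.Lib.Helper6.TCRel3
import Cfsg.Agent.Lib.Helper6.ONTCRel16

/-! # ON: the kernel check of a part of the relators on the coset table -/

set_option autoImplicit false

namespace Cfsg.Agent.Lib.Helper6.ONTC

open Cfsg.Agent.Lib.Helper6.TC

theorem chk_pow20_4_0 : tab.minOKc [6, 1, 2, 6, 2, 1, 6, 1, 2, 6, 2] 1 109080 1818 = true := by decide +kernel

theorem chk_pow20_4_1 : tab.minOKc [6, 1, 2, 6, 2, 1, 6, 1, 2, 6, 2] 1 110898 1818 = true := by decide +kernel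

theorem chk_pow20_4_2 : tab.minOKc [6, 1, 2, 6, 2, 1, 6, 1, 2, 6, 2] 1 112716 1818 = true := by decide +kernel

theorem chk_pow20_4_3 : tab.minOKc [6, 1, 2, 6, 2, 1, 6, 1, 2, 6, 2] 1 114534 1818 = true := by decide +kernel

theorem chk_pow20_4_4 : tab.minOKc [6, 1, 2, 6, 2, 1, 6, 1, 2, 6, 2] 1 116352 1818 = true := by decide +kernel

theorem chk_pow20_4_5 : tab.minOKc [6, 1, 2, 6, 2, 1, 6, 1, 2, 6, 2] 1 118170 1818 = true := by decide +kernel

theorem chk_pow20_4_6 : tab.minOKc [6, 1, 2, 6, 2, 1, 6, 1, 2, 6, 2] 1 119988 1818 = true := by decide +kernel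

theorem chk_pow20_4_7 : tab.minOKc [6, 1, 2, 6, 2, 1, 6, 1, 2, 6, 2] 1 121806 1818 = true := by decide +kernel

theorem chk_pow20_4_8 : tab.minOKc [6, 1, 2, 6, 2, 1, 6, 1, 2, 6, 2] 1 123624 1818 = true := by decide +kernel

theorem chk_pow20_4_9 : tab.minOKc [6, 1, 2, 6, 2, 1, 6, 1, 2, 6, 2] 1 125442 1818 = true := by decide +kernel

theorem chk_pow20_4_10 : tab.minOKc [6, 1, 2, 6, 2, 1, 6, 1, 2, 6, 2] 1 127260 1818 = true := by decide +kernel

theorem chk_pow20_4_11 : tab.minOKc [6, 1, 2, 6, 2, 1, 6, 1, 2, 6, 2] 1 129078 1818 = true := by decide +kernel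

theorem chk_pow20_4_12 : tab.minOKc [6, 1, 2, 6, 2, 1, 6, 1, 2, 6, 2] 1 130896 1818 = true := by decide +kernel

theorem chk_pow20_4_13 : tab.minOKc [6, 1, 2, 6, 2, 1, 6, 1, 2, 6, 2] 1 132714 1818 = true := by decide +kernel

theorem chk_pow20_4_14 : tab.minOKc [6, 1, 2, 6, 2, 1, 6, 1, 2, 6, 2] 1 134532 1818 = true := by decide +kernel

theorem chk_pow20_4 : tab.minOKc [6, 1, 2, 6, 2, 1, 6, 1, 2, 6, 2] 1 109080 27270 = true := by
  refine tab.minOKc_of_chunks [6, 1, 2, 6, 2, 1, 6, 1, 2, 6, 2] 1 109080 1818 15 (by norm_num) ?_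
  intro i hi
  interval_cases i
  · exact chk_pow20_4_0
  · exact chk_pow20_4_1
  · exact chk_pow20_4_2
  · exact chk_pow20_4_3
  · exact chk_pow20_4_4
  · exact chk_pow20_4_5
  · exact chk_pow20_4_6
  · exact chk_pow20_4_7
  · exact chk_pow20_4_8
  · exact chk_pow20_4_9
  · exact chk_pow20_4_10
  · exact chk_pow20_4_11
  · exact chk_pow20_4_12
  · exact chk_pow20_4_13
  · exact chk_pow20_4_14

theorem chk_pow21_0_0 : tab.minOKc [6, 4, 3, 6, 3, 4, 6, 4, 3, 6, 3] 1 0 1818 = true := by decide +kernel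

theorem chk_pow21_0_1 : tab.minOKc [6, 4, 3, 6, 3, 4, 6, 4, 3, 6, 3] 1 1818 1818 = true := by decide +kernel

theorem chk_pow21_0_2 : tab.minOKc [6, 4, 3, 6, 3, 4, 6, 4, 3, 6, 3] 1 3636 1818 = true := by decide +kernel

theorem chk_pow21_0_3 : tab.minOKc [6, 4, 3, 6, 3, 4, 6, 4, 3, 6, 3] 1 5454 1818 = true := by decide +kernel

theorem chk_pow21_0_4 : tab.minOKc [6, 4, 3, 6, 3, 4, 6, 4, 3, 6, 3] 1 7272 1818 = true := by decide +kernel

theorem chk_pow21_0_5 : tab.minOKc [6, 4, 3, 6, 3, 4, 6, 4, 3, 6, 3] 1 9090 1818 = true := by decide +kernel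

theorem chk_pow21_0_6 : tab.minOKc [6, 4, 3, 6, 3, 4, 6, 4, 3, 6, 3] 1 10908 1818 = true := by decide +kernel

theorem chk_pow21_0_7 : tab.minOKc [6, 4, 3, 6, 3, 4, 6, 4, 3, 6, 3] 1 12726 1818 = true := by decide +kernel

theorem chk_pow21_0_8 : tab.minOKc [6, 4, 3, 6, 3, 4, 6, 4, 3, 6, 3] 1 14544 1818 = true := by decide +kernel

theorem chk_pow21_0_9 : tab.minOKc [6, 4, 3, 6, 3, 4, 6, 4, 3, 6, 3] 1 16362 1818 = true := by decide +kernel

theorem chk_pow21_0_10 : tab.minOKc [6, 4, 3, 6, 3, 4, 6, 4, 3, 6, 3] 1 18180 1818 = true := by decide +kernel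

theorem chk_pow21_0_11 : tab.minOKc [6, 4, 3, 6, 3, 4, 6, 4, 3, 6, 3] 1 19998 1818 = true := by decide +kernel

theorem chk_pow21_0_12 : tab.minOKc [6, 4, 3, 6, 3, 4, 6, 4, 3, 6, 3] 1 21816 1818 = true := by decide +kernel

theorem chk_pow21_0_13 : tab.minOKc [6, 4, 3, 6, 3, 4, 6, 4, 3, 6, 3] 1 23634 1818 = true := by decide +kernel

theorem chk_pow21_0_14 : tab.minOKc [6, 4, 3, 6, 3, 4, 6, 4, 3, 6, 3] 1 25452 1818 = true := by decide +kernel

theorem chk_pow21_0 : tab.minOKc [6, 4, 3, 6, 3, 4, 6, 4, 3, 6, 3] 1 0 27270 = true := by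
  refine tab.minOKc_of_chunks [6, 4, 3, 6, 3, 4, 6, 4, 3, 6, 3] 1 0 1818 15 (by norm_num) ?_
  intro i hi
  interval_cases i
  · exact chk_pow21_0_0
  · exact chk_pow21_0_1
  · exact chk_pow21_0_2
  · exact chk_pow21_0_3
  · exact chk_pow21_0_4
  · exact chk_pow21_0_5
  · exact chk_pow21_0_6
  · exact chk_pow21_0_7
  · exact chk_pow21_0_8
  · exact chk_pow21_0_9
  · exact chk_pow21_0_10
  · exact chk_pow21_0_11
  · exact chk_pow21_0_12
  · exact chk_pow21_0_13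
  · exact chk_pow21_0_14

end Cfsg.Agent.Lib.Helper6.ONTC
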