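import Cfsg.Agent.Lib.Helper6.ONTCData
import Cfsg.Agent.Lib.Helper6.TCRel3
import Cfsg.Agent.Lib.Helper6.ONTCRel17

/-! # ON: the kernel check of a part of the relators on the coset table -/

set_option autoImplicit false

namespace Cfsg.Agent.Lib.Helper6.ONTC

open Cfsg.Agent.Lib.Helper6.TC

theorem chk_pow21_1_0 : tab.minOKc [6, 4, 3, 6, 3, 4, 6, 4, 3, 6, 3] 1 27270 1818 = true := by decide +kernel

theorem chk_pow21_1_1 : tab.minOKc [6, 4, 3, 6, 3, 4, 6, 4, 3, 6, 3] 1 29088 1818 = true := by decide +kernel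

theorem chk_pow21_1_2 : tab.minOKc [6, 4, 3, 6, 3, 4, 6, 4, 3, 6, 3] 1 30906 1818 = true := by decide +kernel

theorem chk_pow21_1_3 : tab.minOKc [6, 4, 3, 6, 3, 4, 6, 4, 3, 6, 3] 1 32724 1818 = true := by decide +kernel

theorem chk_pow21_1_4 : tab.minOKc [6, 4, 3, 6, 3, 4, 6, 4, 3, 6, 3] 1 34542 1818 = true := by decide +kernel

theorem chk_pow21_1_5 : tab.minOKc [6, 4, 3, 6, 3, 4, 6, 4, 3, 6, 3] 1 36360 1818 = true := by decide +kernel

theorem chk_pow21_1_6 : tab.minOKc [6, 4, 3, 6, 3, 4, 6, 4, 3, 6, 3] 1 38178 1818 = true := by decide +kernel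

theorem chk_pow21_1_7 : tab.minOKc [6, 4, 3, 6, 3, 4, 6, 4, 3, 6, 3] 1 39996 1818 = true := by decide +kernel

theorem chk_pow21_1_8 : tab.minOKc [6, 4, 3, 6, 3, 4, 6, 4, 3, 6, 3] 1 41814 1818 = true := by decide +kernel

theorem chk_pow21_1_9 : tab.minOKc [6, 4, 3, 6, 3, 4, 6, 4, 3, 6, 3] 1 43632 1818 = true := by decide +kernel

theorem chk_pow21_1_10 : tab.minOKc [6, 4, 3, 6, 3, 4, 6, 4, 3, 6, 3] 1 45450 1818 = true := by decide +kernel

theorem chk_pow21_1_11 : tab.minOKc [6, 4, 3, 6, 3, 4, 6, 4, 3, 6, 3] 1 47268 1818 = true := by decide +kernel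

theorem chk_pow21_1_12 : tab.minOKc [6, 4, 3, 6, 3, 4, 6, 4, 3, 6, 3] 1 49086 1818 = true := by decide +kernel

theorem chk_pow21_1_13 : tab.minOKc [6, 4, 3, 6, 3, 4, 6, 4, 3, 6, 3] 1 50904 1818 = true := by decide +kernel

theorem chk_pow21_1_14 : tab.minOKc [6, 4, 3, 6, 3, 4, 6, 4, 3, 6, 3] 1 52722 1818 = true := by decide +kernel

theorem chk_pow21_1 : tab.minOKc [6, 4, 3, 6, 3, 4, 6, 4, 3, 6, 3] 1 27270 27270 = true := by
  refine tab.minOKc_of_chunks [6, 4, 3, 6, 3, 4, 6, 4, 3, 6, 3] 1 27270 1818 15 (by norm_num) ?_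
  intro i hi
  interval_cases i
  · exact chk_pow21_1_0
  · exact chk_pow21_1_1
  · exact chk_pow21_1_2
  · exact chk_pow21_1_3
  · exact chk_pow21_1_4
  · exact chk_pow21_1_5
  · exact chk_pow21_1_6
  · exact chk_pow21_1_7
  · exact chk_pow21_1_8
  · exact chk_pow21_1_9
  · exact chk_pow21_1_10
  · exact chk_pow21_1_11
  · exact chk_pow21_1_12
  · exact chk_pow21_1_13
  · exact chk_pow21_1_14

theorem chk_pow21_2_0 : tab.minOKc [6, 4, 3, 6, 3, 4, 6, 4, 3, 6, 3] 1 54540 1818 = true := by decide +kernel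

theorem chk_pow21_2_1 : tab.minOKc [6, 4, 3, 6, 3, 4, 6, 4, 3, 6, 3] 1 56358 1818 = true := by decide +kernel

theorem chk_pow21_2_2 : tab.minOKc [6, 4, 3, 6, 3, 4, 6, 4, 3, 6, 3] 1 58176 1818 = true := by decide +kernel

theorem chk_pow21_2_3 : tab.minOKc [6, 4, 3, 6, 3, 4, 6, 4, 3, 6, 3] 1 59994 1818 = true := by decide +kernel

theorem chk_pow21_2_4 : tab.minOKc [6, 4, 3, 6, 3, 4, 6, 4, 3, 6, 3] 1 61812 1818 = true := by decide +kernel

theorem chk_pow21_2_5 : tab.minOKc [6, 4, 3, 6, 3, 4, 6, 4, 3, 6, 3] 1 63630 1818 = true := by decide +kernel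

theorem chk_pow21_2_6 : tab.minOKc [6, 4, 3, 6, 3, 4, 6, 4, 3, 6, 3] 1 65448 1818 = true := by decide +kernel

theorem chk_pow21_2_7 : tab.minOKc [6, 4, 3, 6, 3, 4, 6, 4, 3, 6, 3] 1 67266 1818 = true := by decide +kernel

theorem chk_pow21_2_8 : tab.minOKc [6, 4, 3, 6, 3, 4, 6, 4, 3, 6, 3] 1 69084 1818 = true := by decide +kernel

theorem chk_pow21_2_9 : tab.minOKc [6, 4, 3, 6, 3, 4, 6, 4, 3, 6, 3] 1 70902 1818 = true := by decide +kernel

theorem chk_pow21_2_10 : tab.minOKc [6, 4, 3, 6, 3, 4, 6, 4, 3, 6, 3] 1 72720 1818 = true := by decide +kernel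

theorem chk_pow21_2_11 : tab.minOKc [6, 4, 3, 6, 3, 4, 6, 4, 3, 6, 3] 1 74538 1818 = true := by decide +kernel

theorem chk_pow21_2_12 : tab.minOKc [6, 4, 3, 6, 3, 4, 6, 4, 3, 6, 3] 1 76356 1818 = true := by decide +kernel

theorem chk_pow21_2_13 : tab.minOKc [6, 4, 3, 6, 3, 4, 6, 4, 3, 6, 3] 1 78174 1818 = true := by decide +kernel

theorem chk_pow21_2_14 : tab.minOKc [6, 4, 3, 6, 3, 4, 6, 4, 3, 6, 3] 1 79992 1818 = true := by decide +kernel

theorem chk_pow21_2 : tab.minOKc [6, 4, 3, 6, 3, 4, 6, 4, 3, 6, 3] 1 54540 27270 = true := by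
  refine tab.minOKc_of_chunks [6, 4, 3, 6, 3, 4, 6, 4, 3, 6, 3] 1 54540 1818 15 (by norm_num) ?_
  intro i hi
  interval_cases i
  · exact chk_pow21_2_0
  · exact chk_pow21_2_1
  · exact chk_pow21_2_2
  · exact chk_pow21_2_3
  · exact chk_pow21_2_4
  · exact chk_pow21_2_5
  · exact chk_pow21_2_6
  · exact chk_pow21_2_7
  · exact chk_pow21_2_8
  · exact chk_pow21_2_9
  · exact chk_pow21_2_10
  · exact chk_pow21_2_11
  · exact chk_pow21_2_12
  · exact chk_pow21_2_13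
  · exact chk_pow21_2_14

end Cfsg.Agent.Lib.Helper6.ONTC
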