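import Cfsg.Agent.Lib.Helper6.ONTCData
import Cfsg.Agent.Lib.Helper6.TCRel3
import Cfsg.Agent.Lib.Helper6.ONTCRel0
import Cfsg.Agent.Lib.Helper6.ONTCRel1
import Cfsg.Agent.Lib.Helper6.ONTCRel2
import Cfsg.Agent.Lib.Helper6.ONTCRel3
import Cfsg.Agent.Lib.Helper6.ONTCRel4
import Cfsg.Agent.Lib.Helper6.ONTCRel5
import Cfsg.Agent.Lib.Helper6.ONTCRel6
import Cfsg.Agent.Lib.Helper6.ONTCRel7
import Cfsg.Agent.Lib.Helper6.ONTCRel8
import Cfsg.Agent.Lib.Helper6.ONTCRel9
import Cfsg.Agent.Lib.Helper6.ONTCRel10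
import Cfsg.Agent.Lib.Helper6.ONTCRel11
import Cfsg.Agent.Lib.Helper6.ONTCRel12
import Cfsg.Agent.Lib.Helper6.ONTCRel13
import Cfsg.Agent.Lib.Helper6.ONTCRel14
import Cfsg.Agent.Lib.Helper6.ONTCRel15
import Cfsg.Agent.Lib.Helper6.ONTCRel16
import Cfsg.Agent.Lib.Helper6.ONTCRel17
import Cfsg.Agent.Lib.Helper6.ONTCRel18
import Cfsg.Agent.Lib.Helper6.ONTCRel19
import Cfsg.Agent.Lib.Helper6.ONTCRel20
import Cfsg.Agent.Lib.Helper6.ONTCRel21
import Cfsg.Agent.Lib.Helper6.ONTCRel22
import Cfsg.Agent.Lib.Helper6.ONTCRel23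
import Cfsg.Agent.Lib.Helper6.ONTCRel24
import Cfsg.Agent.Lib.Helper6.ONTCRel25
import Cfsg.Agent.Lib.Helper6.ONTCRel26
import Cfsg.Agent.Lib.Helper6.ONTCRel27
import Cfsg.Agent.Lib.Helper6.ONTCRel28
import Cfsg.Agent.Lib.Helper6.ONTCRel29
import Cfsg.Agent.Lib.Helper6.ONTCRel30

/-! # ON: the relators hold on the coset table -/

set_option autoImplicit false

namespace Cfsg.Agent.Lib.Helper6.ONTC

open Cfsg.Agent.Lib.Helper6.TC

theorem chk_pow0 : tab.minOK [0, 1] 3 = true := by
  refine tab.minOK_of_chunks [0, 1] 3 80145 2 (by decide +kernel) (by norm_num) (by show 122760 ≤ 2 * 80145; norm_num) ?_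
  intro i hi
  interval_cases i
  · exact chk_pow0_0
  · exact chk_pow0_1

theorem chk_pow1 : tab.minOK [0, 2] 2 = true := by
  refine tab.minOK_of_chunks [0, 2] 2 99465 2 (by decide +kernel) (by norm_num) (by show 122760 ≤ 2 * 99465; norm_num) ?_
  intro i hi
  interval_cases i
  · exact chk_pow1_0
  · exact chk_pow1_1

theorem chk_pow2 : tab.minOK [1, 2] 3 = true := by
  refine tab.minOK_of_chunks [1, 2] 3 80025 2 (by decide +kernel) (by norm_num) (by show 122760 ≤ 2 * 80025; norm_num) ?_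
  intro i hi
  interval_cases i
  · exact chk_pow2_0
  · exact chk_pow2_1

theorem chk_pow3 : tab.minOK [0, 3] 2 = true := by
  refine tab.minOK_of_chunks [0, 3] 2 100335 2 (by decide +kernel) (by norm_num) (by show 122760 ≤ 2 * 100335; norm_num) ?_
  intro i hi
  interval_cases i
  · exact chk_pow3_0
  · exact chk_pow3_1

theorem chk_pow4 : tab.minOK [1, 3] 2 = true := by
  refine tab.minOK_of_chunks [1, 3] 2 100395 2 (by decide +kernel) (by norm_num) (by show 122760 ≤ 2 * 100395; norm_num) ?_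
  intro i hi
  interval_cases i
  · exact chk_pow4_0
  · exact chk_pow4_1

theorem chk_pow5 : tab.minOK [2, 3] 8 = true := by
  refine tab.minOK_of_chunks [2, 3] 8 54780 3 (by decide +kernel) (by norm_num) (by show 122760 ≤ 3 * 54780; norm_num) ?_
  intro i hi
  interval_cases i
  · exact chk_pow5_0
  · exact chk_pow5_1
  · exact chk_pow5_2

theorem chk_pow6 : tab.minOK [0, 4] 2 = true := by
  refine tab.minOK_of_chunks [0, 4] 2 100575 2 (by decide +kernel) (by norm_num) (by show 122760 ≤ 2 * 100575; norm_num) ?_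
  intro i hi
  interval_cases i
  · exact chk_pow6_0
  · exact chk_pow6_1

theorem chk_pow7 : tab.minOK [1, 4] 2 = true := by
  refine tab.minOK_of_chunks [1, 4] 2 100755 2 (by decide +kernel) (by norm_num) (by show 122760 ≤ 2 * 100755; norm_num) ?_
  intro i hi
  interval_cases i
  · exact chk_pow7_0
  · exact chk_pow7_1

theorem chk_pow8 : tab.minOK [2, 4] 2 = true := by
  refine tab.minOK_of_chunks [2, 4] 2 99960 2 (by decide +kernel) (by norm_num) (by show 122760 ≤ 2 * 99960; norm_num) ?_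
  intro i hi
  interval_cases i
  · exact chk_pow8_0
  · exact chk_pow8_1

theorem chk_pow9 : tab.minOK [3, 4] 3 = true := by
  refine tab.minOK_of_chunks [3, 4] 3 80910 2 (by decide +kernel) (by norm_num) (by show 122760 ≤ 2 * 80910; norm_num) ?_
  intro i hi
  interval_cases i
  · exact chk_pow9_0
  · exact chk_pow9_1

theorem chk_pow10 : tab.minOK [0, 5] 2 = true := by
  refine tab.minOK_of_chunks [0, 5] 2 100395 2 (by decide +kernel) (by norm_num) (by show 122760 ≤ 2 * 100395; norm_num) ?_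
  intro i hi
  interval_cases i
  · exact chk_pow10_0
  · exact chk_pow10_1

theorem chk_pow11 : tab.minOK [1, 5] 2 = true := by
  refine tab.minOK_of_chunks [1, 5] 2 100905 2 (by decide +kernel) (by norm_num) (by show 122760 ≤ 2 * 100905; norm_num) ?_
  intro i hi
  interval_cases i
  · exact chk_pow11_0
  · exact chk_pow11_1

theorem chk_pow12 : tab.minOK [2, 5] 2 = true := by
  refine tab.minOK_of_chunks [2, 5] 2 100905 2 (by decide +kernel) (by norm_num) (by show 122760 ≤ 2 * 100905; norm_num) ?_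
  intro i hi
  interval_cases i
  · exact chk_pow12_0
  · exact chk_pow12_1

theorem chk_pow13 : tab.minOK [3, 5] 2 = true := by
  refine tab.minOK_of_chunks [3, 5] 2 100575 2 (by decide +kernel) (by norm_num) (by show 122760 ≤ 2 * 100575; norm_num) ?_
  intro i hi
  interval_cases i
  · exact chk_pow13_0
  · exact chk_pow13_1

theorem chk_pow14 : tab.minOK [4, 5] 3 = true := by
  refine tab.minOK_of_chunks [4, 5] 3 84510 2 (by decide +kernel) (by norm_num) (by show 122760 ≤ 2 * 84510; norm_num) ?_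
  intro i hi
  interval_cases i
  · exact chk_pow14_0
  · exact chk_pow14_1

theorem chk_pow15 : tab.minOK [0, 5, 7, 7] 1 = true := by
  refine tab.minOK_of_chunks [0, 5, 7, 7] 1 75000 2 (by decide +kernel) (by norm_num) (by show 122760 ≤ 2 * 75000; norm_num) ?_
  intro i hi
  interval_cases i
  · exact chk_pow15_0
  · exact chk_pow15_1

theorem chk_pow16 : tab.minOK [0, 5, 3, 2, 3, 2, 3, 2, 3, 2] 1 = true := by
  refine tab.minOK_of_chunks [0, 5, 3, 2, 3, 2, 3, 2, 3, 2] 1 30000 5 (by decide +kernel) (by norm_num) (by show 122760 ≤ 5 * 30000; norm_num) ?_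
  intro i hi
  interval_cases i
  · exact chk_pow16_0
  · exact chk_pow16_1
  · exact chk_pow16_2
  · exact chk_pow16_3
  · exact chk_pow16_4

theorem chk_pow17 : tab.minOK [2, 7, 3, 7, 3, 2, 3, 6, 3, 6] 1 = true := by
  refine tab.minOK_of_chunks [2, 7, 3, 7, 3, 2, 3, 6, 3, 6] 1 30000 5 (by decide +kernel) (by norm_num) (by show 122760 ≤ 5 * 30000; norm_num) ?_
  intro i hi
  interval_cases i
  · exact chk_pow17_0
  · exact chk_pow17_1
  · exact chk_pow17_2
  · exact chk_pow17_3
  · exact chk_pow17_4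

theorem chk_pow18 : tab.minOK [3, 7, 2, 7, 2, 3, 2, 6, 2, 6] 1 = true := by
  refine tab.minOK_of_chunks [3, 7, 2, 7, 2, 3, 2, 6, 2, 6] 1 30000 5 (by decide +kernel) (by norm_num) (by show 122760 ≤ 5 * 30000; norm_num) ?_
  intro i hi
  interval_cases i
  · exact chk_pow18_0
  · exact chk_pow18_1
  · exact chk_pow18_2
  · exact chk_pow18_3
  · exact chk_pow18_4

theorem chk_pow19 : tab.minOK [1, 2, 3, 6] 5 = true := by
  refine tab.minOK_of_chunks [1, 2, 3, 6] 5 32955 4 (by decide +kernel) (by norm_num) (by show 122760 ≤ 4 * 32955; norm_num) ?_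
  intro i hi
  interval_cases i
  · exact chk_pow19_0
  · exact chk_pow19_1
  · exact chk_pow19_2
  · exact chk_pow19_3

theorem chk_pow20 : tab.minOK [6, 1, 2, 6, 2, 1, 6, 1, 2, 6, 2] 1 = true := by
  refine tab.minOK_of_chunks [6, 1, 2, 6, 2, 1, 6, 1, 2, 6, 2] 1 27270 5 (by decide +kernel) (by norm_num) (by show 122760 ≤ 5 * 27270; norm_num) ?_
  intro i hi
  interval_cases i
  · exact chk_pow20_0
  · exact chk_pow20_1
  · exact chk_pow20_2
  · exact chk_pow20_3
  · exact chk_pow20_4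

theorem chk_pow21 : tab.minOK [6, 4, 3, 6, 3, 4, 6, 4, 3, 6, 3] 1 = true := by
  refine tab.minOK_of_chunks [6, 4, 3, 6, 3, 4, 6, 4, 3, 6, 3] 1 27270 5 (by decide +kernel) (by norm_num) (by show 122760 ≤ 5 * 27270; norm_num) ?_
  intro i hi
  interval_cases i
  · exact chk_pow21_0
  · exact chk_pow21_1
  · exact chk_pow21_2
  · exact chk_pow21_3
  · exact chk_pow21_4

end Cfsg.Agent.Lib.Helper6.ONTC
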