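import Cfsg.Agent.Lib.Helper6.ONTCData
import Cfsg.Agent.Lib.Helper6.TCGIndex
import Cfsg.Agent.Lib.Helper6.ONTCRel21

/-! # ON: the kernel check of the coset table, part 2 -/

set_option autoImplicit false

namespace Cfsg.Agent.Lib.Helper6.ONTC

open Cfsg.Agent.Lib.Helper6.TC Cfsg.Agent.Lib.Helper6.TCGS

theorem chk_tab18 : Cfsg.Agent.Lib.Helper6.TCG.tabOKc tab ivs 36000 2000 = true := by decide +kernel

theorem chk_tab19 : Cfsg.Agent.Lib.Helper6.TCG.tabOKc tab ivs 38000 2000 = true := by decide +kernel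

theorem chk_tab20 : Cfsg.Agent.Lib.Helper6.TCG.tabOKc tab ivs 40000 2000 = true := by decide +kernel

theorem chk_tab21 : Cfsg.Agent.Lib.Helper6.TCG.tabOKc tab ivs 42000 2000 = true := by decide +kernel

theorem chk_tab22 : Cfsg.Agent.Lib.Helper6.TCG.tabOKc tab ivs 44000 2000 = true := by decide +kernel

theorem chk_tab23 : Cfsg.Agent.Lib.Helper6.TCG.tabOKc tab ivs 46000 2000 = true := by decide +kernel

theorem chk_tab24 : Cfsg.Agent.Lib.Helper6.TCG.tabOKc tab ivs 48000 2000 = true := by decide +kernel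

theorem chk_tab25 : Cfsg.Agent.Lib.Helper6.TCG.tabOKc tab ivs 50000 2000 = true := by decide +kernel

theorem chk_tab26 : Cfsg.Agent.Lib.Helper6.TCG.tabOKc tab ivs 52000 2000 = true := by decide +kernel

end Cfsg.Agent.Lib.Helper6.ONTC
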