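import Cfsg.Agent.Lib.Helper6.ONTCData
import Cfsg.Agent.Lib.Helper6.TCRel3
import Cfsg.Agent.Lib.Helper6.ONTCRel11

/-! # ON: the kernel check of a part of the relators on the coset table -/

set_option autoImplicit false

namespace Cfsg.Agent.Lib.Helper6.ONTC

open Cfsg.Agent.Lib.Helper6.TC

theorem chk_pow18_3_0 : tab.minOKc [3, 7, 2, 7, 2, 3, 2, 6, 2, 6] 1 90000 2000 = true := by decide +kernel

theorem chk_pow18_3_1 : tab.minOKc [3, 7, 2, 7, 2, 3, 2, 6, 2, 6] 1 92000 2000 = true := by decide +kernel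

theorem chk_pow18_3_2 : tab.minOKc [3, 7, 2, 7, 2, 3, 2, 6, 2, 6] 1 94000 2000 = true := by decide +kernel

theorem chk_pow18_3_3 : tab.minOKc [3, 7, 2, 7, 2, 3, 2, 6, 2, 6] 1 96000 2000 = true := by decide +kernel

theorem chk_pow18_3_4 : tab.minOKc [3, 7, 2, 7, 2, 3, 2, 6, 2, 6] 1 98000 2000 = true := by decide +kernel

theorem chk_pow18_3_5 : tab.minOKc [3, 7, 2, 7, 2, 3, 2, 6, 2, 6] 1 100000 2000 = true := by decide +kernel

theorem chk_pow18_3_6 : tab.minOKc [3, 7, 2, 7, 2, 3, 2, 6, 2, 6] 1 102000 2000 = true := by decide +kernel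

theorem chk_pow18_3_7 : tab.minOKc [3, 7, 2, 7, 2, 3, 2, 6, 2, 6] 1 104000 2000 = true := by decide +kernel

theorem chk_pow18_3_8 : tab.minOKc [3, 7, 2, 7, 2, 3, 2, 6, 2, 6] 1 106000 2000 = true := by decide +kernel

theorem chk_pow18_3_9 : tab.minOKc [3, 7, 2, 7, 2, 3, 2, 6, 2, 6] 1 108000 2000 = true := by decide +kernel

theorem chk_pow18_3_10 : tab.minOKc [3, 7, 2, 7, 2, 3, 2, 6, 2, 6] 1 110000 2000 = true := by decide +kernel

theorem chk_pow18_3_11 : tab.minOKc [3, 7, 2, 7, 2, 3, 2, 6, 2, 6] 1 112000 2000 = true := by decide +kernel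

theorem chk_pow18_3_12 : tab.minOKc [3, 7, 2, 7, 2, 3, 2, 6, 2, 6] 1 114000 2000 = true := by decide +kernel

theorem chk_pow18_3_13 : tab.minOKc [3, 7, 2, 7, 2, 3, 2, 6, 2, 6] 1 116000 2000 = true := by decide +kernel

theorem chk_pow18_3_14 : tab.minOKc [3, 7, 2, 7, 2, 3, 2, 6, 2, 6] 1 118000 2000 = true := by decide +kernel

theorem chk_pow18_3 : tab.minOKc [3, 7, 2, 7, 2, 3, 2, 6, 2, 6] 1 90000 30000 = true := by
  refine tab.minOKc_of_chunks [3, 7, 2, 7, 2, 3, 2, 6, 2, 6] 1 90000 2000 15 (by norm_num) ?_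
  intro i hi
  interval_cases i
  · exact chk_pow18_3_0
  · exact chk_pow18_3_1
  · exact chk_pow18_3_2
  · exact chk_pow18_3_3
  · exact chk_pow18_3_4
  · exact chk_pow18_3_5
  · exact chk_pow18_3_6
  · exact chk_pow18_3_7
  · exact chk_pow18_3_8
  · exact chk_pow18_3_9
  · exact chk_pow18_3_10
  · exact chk_pow18_3_11
  · exact chk_pow18_3_12
  · exact chk_pow18_3_13
  · exact chk_pow18_3_14

theorem chk_pow18_4_0 : tab.minOKc [3, 7, 2, 7, 2, 3, 2, 6, 2, 6] 1 120000 2000 = true := by decide +kernel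

theorem chk_pow18_4_1 : tab.minOKc [3, 7, 2, 7, 2, 3, 2, 6, 2, 6] 1 122000 2000 = true := by decide +kernel

theorem chk_pow18_4_2 : tab.minOKc [3, 7, 2, 7, 2, 3, 2, 6, 2, 6] 1 124000 2000 = true := by decide +kernel

theorem chk_pow18_4_3 : tab.minOKc [3, 7, 2, 7, 2, 3, 2, 6, 2, 6] 1 126000 2000 = true := by decide +kernel

theorem chk_pow18_4_4 : tab.minOKc [3, 7, 2, 7, 2, 3, 2, 6, 2, 6] 1 128000 2000 = true := by decide +kernel

theorem chk_pow18_4_5 : tab.minOKc [3, 7, 2, 7, 2, 3, 2, 6, 2, 6] 1 130000 2000 = true := by decide +kernel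

theorem chk_pow18_4_6 : tab.minOKc [3, 7, 2, 7, 2, 3, 2, 6, 2, 6] 1 132000 2000 = true := by decide +kernel

theorem chk_pow18_4_7 : tab.minOKc [3, 7, 2, 7, 2, 3, 2, 6, 2, 6] 1 134000 2000 = true := by decide +kernel

theorem chk_pow18_4_8 : tab.minOKc [3, 7, 2, 7, 2, 3, 2, 6, 2, 6] 1 136000 2000 = true := by decide +kernel

theorem chk_pow18_4_9 : tab.minOKc [3, 7, 2, 7, 2, 3, 2, 6, 2, 6] 1 138000 2000 = true := by decide +kernel

theorem chk_pow18_4_10 : tab.minOKc [3, 7, 2, 7, 2, 3, 2, 6, 2, 6] 1 140000 2000 = true := by decide +kernel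

theorem chk_pow18_4_11 : tab.minOKc [3, 7, 2, 7, 2, 3, 2, 6, 2, 6] 1 142000 2000 = true := by decide +kernel

theorem chk_pow18_4_12 : tab.minOKc [3, 7, 2, 7, 2, 3, 2, 6, 2, 6] 1 144000 2000 = true := by decide +kernel

theorem chk_pow18_4_13 : tab.minOKc [3, 7, 2, 7, 2, 3, 2, 6, 2, 6] 1 146000 2000 = true := by decide +kernel

theorem chk_pow18_4_14 : tab.minOKc [3, 7, 2, 7, 2, 3, 2, 6, 2, 6] 1 148000 2000 = true := by decide +kernel

theorem chk_pow18_4 : tab.minOKc [3, 7, 2, 7, 2, 3, 2, 6, 2, 6] 1 120000 30000 = true := by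
  refine tab.minOKc_of_chunks [3, 7, 2, 7, 2, 3, 2, 6, 2, 6] 1 120000 2000 15 (by norm_num) ?_
  intro i hi
  interval_cases i
  · exact chk_pow18_4_0
  · exact chk_pow18_4_1
  · exact chk_pow18_4_2
  · exact chk_pow18_4_3
  · exact chk_pow18_4_4
  · exact chk_pow18_4_5
  · exact chk_pow18_4_6
  · exact chk_pow18_4_7
  · exact chk_pow18_4_8
  · exact chk_pow18_4_9
  · exact chk_pow18_4_10
  · exact chk_pow18_4_11
  · exact chk_pow18_4_12
  · exact chk_pow18_4_13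
  · exact chk_pow18_4_14

end Cfsg.Agent.Lib.Helper6.ONTC
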