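import Cfsg.Agent.Lib.Helper6.ONTCData
import Cfsg.Agent.Lib.Helper6.TCGIndex
import Cfsg.Agent.Lib.Helper6.ONTCRel25

/-! # ON: the kernel check of the coset table, part 6 -/

set_option autoImplicit false

namespace Cfsg.Agent.Lib.Helper6.ONTC

open Cfsg.Agent.Lib.Helper6.TC Cfsg.Agent.Lib.Helper6.TCGS

theorem chk_tab54 : Cfsg.Agent.Lib.Helper6.TCG.tabOKc tab ivs 108000 2000 = true := by decide +kernel

theorem chk_tab55 : Cfsg.Agent.Lib.Helper6.TCG.tabOKc tab ivs 110000 2000 = true := by decide +kernel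

theorem chk_tab56 : Cfsg.Agent.Lib.Helper6.TCG.tabOKc tab ivs 112000 2000 = true := by decide +kernel

theorem chk_tab57 : Cfsg.Agent.Lib.Helper6.TCG.tabOKc tab ivs 114000 2000 = true := by decide +kernel

theorem chk_tab58 : Cfsg.Agent.Lib.Helper6.TCG.tabOKc tab ivs 116000 2000 = true := by decide +kernel

theorem chk_tab59 : Cfsg.Agent.Lib.Helper6.TCG.tabOKc tab ivs 118000 2000 = true := by decide +kernel

theorem chk_tab60 : Cfsg.Agent.Lib.Helper6.TCG.tabOKc tab ivs 120000 2000 = true := by decide +kernel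

theorem chk_tab61 : Cfsg.Agent.Lib.Helper6.TCG.tabOKc tab ivs 122000 2000 = true := by decide +kernel

end Cfsg.Agent.Lib.Helper6.ONTC
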