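import Cfsg.Agent.Lib.Helper6.ONTCChk1
import Cfsg.Agent.Lib.Helper6.ONTCChk2

/-! # The presented O'Nan group: the subgroup generated by `a, b, c, d, e, f` has index 122760 -/

set_option autoImplicit false
set_option maxRecDepth 1000000
set_option maxHeartbeats 4000000
set_option linter.constructorNameAsVariable false
set_option linter.unusedSimpArgs false

namespace Cfsg.Agent.Lib.Helper6.ONTC

open Cfsg.Agent.Lib.Helper6.TC Cfsg.Agent.Lib.Helper6.TCG Cfsg.Agent.Lib.Helper6.TCGS Cfsg.Spor

theorem extra_iff {K : Type} [Group K] (f : ON.Gen → K)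
    (hf : ∀ a ∈ coxNodes ON.edges, f a * f a = 1) :
    (∀ r ∈ ON.extra, FreeGroup.lift f r = 1) ↔
      ∀ p ∈ extraPow, (((List.replicate p.2 p.1).flatten).map
        (fun x => FreeGroup.lift f (lt gen sgn x))).prod = 1 := by
  have ha : (f .a)⁻¹ = f .a := inv_eq_of_mul_eq_one_left (hf _ (by decide))
  have hb : (f .b)⁻¹ = f .b := inv_eq_of_mul_eq_one_left (hf _ (by decide))
  have hc : (f .c)⁻¹ = f .c := inv_eq_of_mul_eq_one_left (hf _ (by decide))
  have hd : (f .d)⁻¹ = f .d := inv_eq_of_mul_eq_one_left (hf _ (by decide))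
  have he : (f .e)⁻¹ = f .e := inv_eq_of_mul_eq_one_left (hf _ (by decide))
  have hff : (f .f)⁻¹ = f .f := inv_eq_of_mul_eq_one_left (hf _ (by decide))
  simp only [ON.extra, extraPow, List.forall_mem_cons, List.not_mem_nil, false_imp_iff,
    implies_true, and_true, IsEmpty.forall_iff]
  simp only [ON.g, ON.a, ON.b, ON.c, ON.d, ON.e, ON.f, map_mul, map_inv, map_pow,
    FreeGroup.lift_apply_of, List.map_cons, List.map_nil, List.prod_cons, List.prod_nil, gen, sgn, lt,
    List.replicate, List.flatten_cons, List.flatten_nil, List.cons_append, List.nil_append, List.append_nil,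
    cond_true, cond_false,
    mul_inv_rev, inv_pow, inv_inv, ha, hb, hc, hd, he, hff, pow_succ, pow_zero, one_mul, mul_one, mul_assoc]

/-- the generating set of the subgroup -/
abbrev S : Set (FreeGroup ON.Gen) :=
  {ON.a, ON.b, ON.c, ON.d, ON.e, ON.f}

theorem hS (s : FreeGroup ON.Gen) : s ∈ S ↔ ∃ w ∈ subW, s = fgWord gen sgn w := by
  simp only [S, subW, fgWord, lt, Set.mem_insert_iff, Set.mem_singleton_iff, List.mem_cons,
    List.not_mem_nil, or_false, exists_eq_or_imp, exists_eq_left, List.map_cons, List.map_nil,
    List.prod_cons, List.prod_nil, mul_one, gen, sgn, cond_false]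

/-- the data of the enumeration -/
noncomputable def data : GenData ON.edges ON.extra S where
  gen := gen
  sgn := sgn
  code := code
  c := cfg
  ivs := ivs
  gn := 6
  extraPow := extraPow
  nw := nw
  srcs := srcs
  T := tab
  subW := subW
  hnode := by decide
  hlow := by
    intro x hx
    interval_cases x <;> decide
  hgn := by decide
  hcode := by intro a; cases a <;> decide
  hletter := by
    intro x hx
    have hx' : x < 8 := hx
    interval_cases x <;> decide
  hTg := rfl
  hTn := show 0 < 122760 by norm_num
  chk_words := chk_words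
  hrun := hrun
  chk_tab := chk_tab
  chk_pows := chk_pows
  chk_tree := chk_tree
  hextra := fun f hf => extra_iff f hf
  hS := hS
  chk_sub := chk_sub

theorem main : ((Subgroup.closure S).map (PresentedGroup.mk
      (coxRelators ON.edges ∪ {r | r ∈ ON.extra}))).index = 122760 :=
  data.index_eq

end Cfsg.Agent.Lib.Helper6.ONTC
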