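import Cfsg.Agent.Lib.Helper6.SimpInst

/-! # Simplicity and order of a presented group: generation by elements of order `p` from one
generator and conjugacy along the edges with label three -/

set_option autoImplicit false

noncomputable section

namespace Cfsg.Agent.Lib.Helper6.Simp

open Cfsg.Agent.Lib.Helper6.TC Cfsg.Agent.Lib.Helper6.NatArr Cfsg.Spor

/-- two involutions whose product has order three are conjugate -/
theorem conj_of_braid {G : Type*} [Group G] {x y : G} (hx : x * x = 1) (hy : y * y = 1)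
    (h3 : (x * y) ^ 3 = 1) : y = (x * y) * x * (x * y)⁻¹ := by
  have hxi : x⁻¹ = x := inv_eq_of_mul_eq_one_left hx
  have hyi : y⁻¹ = y := inv_eq_of_mul_eq_one_left hy
  rw [mul_inv_rev, hxi, hyi]
  have h : (x * y * x * (y * x)) * y = 1 := by
    rw [← h3]
    simp only [pow_succ, pow_zero, one_mul, mul_assoc]
  have h' := eq_inv_of_mul_eq_one_left h
  rw [hyi] at h'
  exact h'.symm

/-- the subgroup generated by the elements of order dividing `p` is normal -/
theorem closure_pow_eq_one_normal {G : Type*} [Group G] (p : ℕ) :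
    (Subgroup.closure {g : G | g ^ p = 1}).Normal := by
  refine ⟨fun n hn g => ?_⟩
  induction hn using Subgroup.closure_induction with
  | mem s hs =>
    apply Subgroup.subset_closure
    show (g * s * g⁻¹) ^ p = 1
    rw [conj_pow, (hs : s ^ p = 1), mul_one, mul_inv_cancel]
  | one => simp
  | mul a b _ _ ha hb =>
    have : g * (a * b) * g⁻¹ = (g * a * g⁻¹) * (g * b * g⁻¹) := by group
    rw [this]
    exact Subgroup.mul_mem _ ha hb
  | inv a _ ha =>
    have : g * a⁻¹ * g⁻¹ = (g * a * g⁻¹)⁻¹ := by group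
    rw [this]
    exact Subgroup.inv_mem _ ha

section

variable {α : Type} [DecidableEq α] {edges : List (α × ℕ × α)} {extra : List (FreeGroup α)}
  {S : Set (FreeGroup α)} (D : CoxData edges extra S)

/-- the generators reached from the generator `x0` along edges with label three -/
inductive Reach (x0 : ℕ) : ℕ → Prop
  | root : Reach x0 x0
  | step {x y : ℕ} : Reach x0 x → coxLabel edges (D.gen x) (D.gen y) = 3 → Reach x0 y

omit S in
theorem of_braid (hnode : ∀ a : α, a ∈ coxNodes edges) (a b : α)
    (h3 : coxLabel edges a b = 3) :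
    ((PresentedGroup.of a : CoxPresented α edges extra) * PresentedGroup.of b) ^ 3 = 1 := by
  have hm : (FreeGroup.of a * FreeGroup.of b) ^ coxLabel edges a b ∈
      coxRelators edges ∪ {r | r ∈ extra} :=
    Or.inl ⟨a, hnode _, b, hnode _, rfl⟩
  have h1 := PresentedGroup.one_of_mem hm
  rw [h3, map_pow, map_mul] at h1
  exact h1

/-- **simplicity and order** -/
theorem simple_card_conj_core {N : ℕ}
    (hub : Finite (CoxPresented α edges extra) ∧ Nat.card (CoxPresented α edges extra) ≤ N)
    (Ls : List Level) (hchain : ChainOK D.T [] Ls) (hprod : chainProd Ls = N)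
    {r : ℕ} (orbs : Fin r → D.Orb) (s : Fin r → ℕ) (hs : ∀ i, cnt (orbs i).B D.T.n = s i)
    (hcover : ∀ b, b < D.T.n → b = 0 ∨ ∃ i, (orbs i).B.testBit b = true)
    (hdisj : ∀ i j, i ≠ j → Nat.land (orbs i).B (orbs j).B = 0)
    (ho : ∀ i, (orbs i).B.testBit 0 = false)
    (harith : ∀ I : Finset (Fin r), I.Nonempty → (1 + ∑ i ∈ I, s i) ∣ D.T.n →
      1 + ∑ i ∈ I, s i = D.T.n)
    (p : ℕ) (hcop : (N / D.T.n).Coprime p)
    (x0 : ℕ) (u : List ℕ)
    (hpow1 : (∀ x ∈ u, x < D.T.g) ∧ ((u.map (D.T.perm D.chk_tab)).prod) ^ p = 1)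
    (hpow2 : (∀ x ∈ x0 :: u, x < D.T.g) ∧
      (((x0 :: u).map (D.T.perm D.chk_tab)).prod) ^ p = 1)
    (hreach : ∀ y, y < D.c.g → Reach D x0 y) (hn : 1 < D.T.n) :
    IsSimpleGroup (CoxPresented α edges extra) ∧ Nat.card (CoxPresented α edges extra) = N := by
  obtain ⟨hfin, hle⟩ := hub
  set ρ := D.cert.ρ with hρ
  have hΓ : ∀ x, x < D.T.g → D.T.perm D.chk_tab x ∈ ρ.range := by
    intro x hx
    rw [D.hTg] at hx
    exact ⟨PresentedGroup.of (D.gen x), ρ_of_gen D hx⟩
  have hlow : N ≤ Nat.card ρ.range := by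
    rw [← hprod]
    exact chainProd_le_card D.chk_tab hΓ hchain
  have hsurj : Function.Surjective ρ.rangeRestrict := ρ.rangeRestrict_surjective
  have hbij : Function.Bijective ρ.rangeRestrict :=
    hsurj.bijective_of_nat_card_le (hle.trans hlow)
  have hinj : Function.Injective ρ := by
    intro x y hxy
    apply hbij.1
    exact Subtype.ext hxy
  have hcard : Nat.card (CoxPresented α edges extra) = N :=
    le_antisymm hle (hlow.trans (Nat.card_le_card_of_surjective _ hsurj))
  refine ⟨?_, hcard⟩
  -- a word whose power is a trivial permutation has trivial power in the group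
  have hword : ∀ w : List ℕ, ((∀ x ∈ w, x < D.T.g) ∧
      ((w.map (D.T.perm D.chk_tab)).prod) ^ p = 1) → (wordG D w) ^ p = 1 := by
    intro w hw
    obtain ⟨hl, hp⟩ := hw
    apply hinj
    rw [map_one, map_pow, hρ, ρ_wordG D (fun x hx => by rw [← D.hTg]; exact hl x hx)]
    exact hp
  have hgen : Subgroup.closure {g : CoxPresented α edges extra | g ^ p = 1} = ⊤ := by
    have hnorm := closure_pow_eq_one_normal (G := CoxPresented α edges extra) p
    -- the generator `x0`
    have h1 := hword _ hpow1
    have h2 := hword _ hpow2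
    unfold wordG at h1 h2
    rw [List.map_cons, List.prod_cons] at h2
    set U := (u.map fun y =>
      (PresentedGroup.of (D.gen y) : CoxPresented α edges extra)).prod with hU
    have hroot : (PresentedGroup.of (D.gen x0) : CoxPresented α edges extra) ∈
        Subgroup.closure {g : CoxPresented α edges extra | g ^ p = 1} := by
      have : (PresentedGroup.of (D.gen x0) : CoxPresented α edges extra) =
          (PresentedGroup.of (D.gen x0) * U) * U⁻¹ := by group
      rw [this]
      apply Subgroup.mul_mem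
      · exact Subgroup.subset_closure h2
      · apply Subgroup.inv_mem
        exact Subgroup.subset_closure h1
    have hall : ∀ y, Reach D x0 y → (PresentedGroup.of (D.gen y) : CoxPresented α edges extra) ∈
        Subgroup.closure {g : CoxPresented α edges extra | g ^ p = 1} := by
      intro y hy
      induction hy with
      | root => exact hroot
      | step _ h3 ih =>
        rw [conj_of_braid (of_mul_self D.hnode _) (of_mul_self D.hnode _) (of_braid D.hnode _ _ h3)]
        exact hnorm.conj_mem _ ih _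
    rw [eq_top_iff, ← PresentedGroup.closure_range_of, Subgroup.closure_le]
    rintro _ ⟨a, rfl⟩
    obtain ⟨hca, hga⟩ := D.hcode a
    have := hall _ (hreach _ hca)
    rwa [hga] at this
  have hNn : (Nat.card (CoxPresented α edges extra) / D.T.n).Coprime p := by
    rw [hcard]
    exact hcop
  refine isSimpleGroup_of_cert ρ hinj D.cert.o D.cert.trans D.cert.H D.cert.fix
    (fun i => {b : Fin D.T.n | (orbs i).B.testBit b.val = true}) ?_ ?_ ?_ ?_ s ?_ harith p hNn
    hgen hn
  · intro i
    exact ⟨⟨(orbs i).a, (orbs i).ha⟩, ((orbs i).cert.img_eq).symm⟩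
  · intro b
    rcases hcover b.val b.isLt with hb | ⟨i, hi⟩
    · left
      exact Fin.ext hb
    · right
      exact ⟨i, hi⟩
  · intro i j hij b hbi hbj
    have h1 : (Nat.land (orbs i).B (orbs j).B).testBit b.val = true := by
      show ((orbs i).B &&& (orbs j).B).testBit b.val = true
      rw [Nat.testBit_and, Bool.and_eq_true]
      exact ⟨hbi, hbj⟩
    rw [hdisj i j hij] at h1
    simp at h1
  · intro i hi
    have h1 : (orbs i).B.testBit 0 = true := hi
    rw [ho i] at h1
    exact Bool.false_ne_true h1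
  · intro i
    rw [← hs i]
    exact ncard_testBit _ _

/-- **simplicity and order**, the powers checked by walks to smaller rows -/
theorem simple_card_conj {N : ℕ}
    (hub : Finite (CoxPresented α edges extra) ∧ Nat.card (CoxPresented α edges extra) ≤ N)
    (Ls : List Level) (hchain : ChainOK D.T [] Ls) (hprod : chainProd Ls = N)
    {r : ℕ} (orbs : Fin r → D.Orb) (s : Fin r → ℕ) (hs : ∀ i, cnt (orbs i).B D.T.n = s i)
    (hcover : ∀ b, b < D.T.n → b = 0 ∨ ∃ i, (orbs i).B.testBit b = true)
    (hdisj : ∀ i j, i ≠ j → Nat.land (orbs i).B (orbs j).B = 0)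
    (ho : ∀ i, (orbs i).B.testBit 0 = false)
    (harith : ∀ I : Finset (Fin r), I.Nonempty → (1 + ∑ i ∈ I, s i) ∣ D.T.n →
      1 + ∑ i ∈ I, s i = D.T.n)
    (p : ℕ) (hcop : (N / D.T.n).Coprime p)
    (x0 : ℕ) (u : List ℕ)
    (hpow : D.T.minOK u p = true ∧ D.T.minOK (x0 :: u) p = true)
    (hreach : ∀ y, y < D.c.g → Reach D x0 y) (hn : 1 < D.T.n) :
    IsSimpleGroup (CoxPresented α edges extra) ∧ Nat.card (CoxPresented α edges extra) = N :=
  simple_card_conj_core D hub Ls hchain hprod orbs s hs hcover hdisj ho harith p hcop x0 u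
    (Tab.pow_eq_one_of_minOK D.chk_tab hpow.1) (Tab.pow_eq_one_of_minOK D.chk_tab hpow.2)
    hreach hn

/-- **simplicity and order**, the powers checked by walks of the cycles with marks -/
theorem simple_card_conj_pow {N : ℕ}
    (hub : Finite (CoxPresented α edges extra) ∧ Nat.card (CoxPresented α edges extra) ≤ N)
    (Ls : List Level) (hchain : ChainOK D.T [] Ls) (hprod : chainProd Ls = N)
    {r : ℕ} (orbs : Fin r → D.Orb) (s : Fin r → ℕ) (hs : ∀ i, cnt (orbs i).B D.T.n = s i)
    (hcover : ∀ b, b < D.T.n → b = 0 ∨ ∃ i, (orbs i).B.testBit b = true)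
    (hdisj : ∀ i j, i ≠ j → Nat.land (orbs i).B (orbs j).B = 0)
    (ho : ∀ i, (orbs i).B.testBit 0 = false)
    (harith : ∀ I : Finset (Fin r), I.Nonempty → (1 + ∑ i ∈ I, s i) ∣ D.T.n →
      1 + ∑ i ∈ I, s i = D.T.n)
    (p : ℕ) (hcop : (N / D.T.n).Coprime p)
    (x0 : ℕ) (u : List ℕ)
    (hpow : D.T.powOK u p = true ∧ D.T.powOK (x0 :: u) p = true)
    (hreach : ∀ y, y < D.c.g → Reach D x0 y) (hn : 1 < D.T.n) :
    IsSimpleGroup (CoxPresented α edges extra) ∧ Nat.card (CoxPresented α edges extra) = N :=
  simple_card_conj_core D hub Ls hchain hprod orbs s hs hcover hdisj ho harith p hcop x0 u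
    (Tab.pow_eq_one_of_powOK D.chk_tab hpow.1) (Tab.pow_eq_one_of_powOK D.chk_tab hpow.2)
    hreach hn

end

end Cfsg.Agent.Lib.Helper6.Simp


end
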