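import Cfsg.Agent.Lib.Helper6.TCGInst
import Cfsg.Agent.Lib.Helper6.SimpInst2

/-! # Order and simplicity of a presented group from a coset enumeration with generators that
need not be involutions -/

set_option autoImplicit false

noncomputable section

namespace Cfsg.Agent.Lib.Helper6.SimpG

open Cfsg.Agent.Lib.Helper6.TC Cfsg.Agent.Lib.Helper6.TCG Cfsg.Agent.Lib.Helper6.NatArr
  Cfsg.Agent.Lib.Helper6.Simp Cfsg.Spor

/-! ### the lower bound for the order of a group of permutations by a chain of stabilizers -/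

section

variable {T : Tab} (P : ℕ → Equiv.Perm (Fin T.n))
  (htr : ∀ (w : List ℕ) (a : Fin T.n), (∀ x ∈ w, x < T.g) →
    T.trace a.val w = (((w.reverse.map P).prod) a).val)

/-- the permutation of a word (the letters act from the left to the right) -/
def eltP (w : List ℕ) : Equiv.Perm (Fin T.n) := (w.reverse.map P).prod

theorem eltP_mem {Γ : Subgroup (Equiv.Perm (Fin T.n))} (hΓ : ∀ x, x < T.g → P x ∈ Γ)
    {w : List ℕ} (hw : ∀ x ∈ w, x < T.g) : eltP P w ∈ Γ := by
  unfold eltP
  apply Subgroup.list_prod_mem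
  intro σ hσ
  rw [List.mem_map] at hσ
  obtain ⟨x, hx, rfl⟩ := hσ
  exact hΓ x (hw x (List.mem_reverse.1 hx))

include htr in
/-- **the step**: the orbit length times the order of the next stabilizer is at most the order
of the stabilizer -/
theorem card_pstab_ge {Γ : Subgroup (Equiv.Perm (Fin T.n))}
    (hΓ : ∀ x, x < T.g → P x ∈ Γ) {fixed : List ℕ} {L : Level} (hL : LevelOK T fixed L) :
    L.m * Nat.card (pstab T Γ (L.b :: fixed)) ≤ Nat.card (pstab T Γ fixed) := by
  classical
  set b' : Fin T.n := ⟨L.b, hL.hb⟩ with hb'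
  have happ : ∀ {w : List ℕ} (_ : ∀ x ∈ w, x < T.g) (a : Fin T.n),
      (eltP P w a).val = T.trace a.val w := fun hw a => (htr _ a hw).symm
  -- the elements of the words lie in the stabilizer
  have hwM : ∀ w ∈ L.ws, eltP P w ∈ pstab T Γ fixed := by
    intro w hw
    refine ⟨eltP_mem P hΓ (hL.hlt w hw), fun c hc hcn => ?_⟩
    apply Fin.ext
    rw [happ (hL.hlt w hw)]
    exact hL.hfix w hw c hc
  -- the rows of the bitmap are reached
  have hreach : ∀ k, L.B.testBit k = true → ∃ σ ∈ pstab T Γ fixed, (σ b').val = k := by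
    refine T.orbRun_sound (Q := fun k => ∃ σ ∈ pstab T Γ fixed, (σ b').val = k) L.ws ?_
      L.instrs [L.b] (bset 0 L.b) L.B hL.horb ?_ ?_
    · rintro top w r hw ⟨σ, hσ, rfl⟩ htr'
      refine ⟨eltP P w * σ, (pstab T Γ fixed).mul_mem (hwM w hw) hσ, ?_⟩
      rw [Equiv.Perm.mul_apply, happ (hL.hlt w hw)]
      exact htr'
    · intro s hs
      rw [List.mem_singleton] at hs
      subst hs
      exact ⟨1, (pstab T Γ fixed).one_mem, rfl⟩
    · intro k hk
      rw [testBit_bset] at hk
      simp only [Nat.zero_testBit, Bool.false_or, decide_eq_true_eq] at hk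
      subst hk
      exact ⟨1, (pstab T Γ fixed).one_mem, rfl⟩
  -- the transversal
  have hch : ∀ k : {k : Fin T.n // L.B.testBit k.val = true},
      ∃ σ ∈ pstab T Γ fixed, σ b' = k.1 := by
    intro k
    obtain ⟨σ, hσ, hv⟩ := hreach k.1.val k.2
    exact ⟨σ, hσ, Fin.ext hv⟩
  choose u hu hub using hch
  have hle : pstab T Γ (L.b :: fixed) ≤ pstab T Γ fixed := by
    intro σ hσ
    exact ⟨hσ.1, fun c hc hcn => hσ.2 c (List.mem_cons_of_mem _ hc) hcn⟩
  have hfixb : ∀ σ ∈ pstab T Γ (L.b :: fixed), σ b' = b' := by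
    intro σ hσ
    exact hσ.2 L.b (List.mem_cons_self ..) hL.hb
  let f : {k : Fin T.n // L.B.testBit k.val = true} × pstab T Γ (L.b :: fixed) →
      pstab T Γ fixed := fun x =>
    ⟨u x.1 * x.2.1, (pstab T Γ fixed).mul_mem (hu x.1) (hle x.2.2)⟩
  have hf : Function.Injective f := by
    rintro ⟨k, s⟩ ⟨k', s'⟩ hkk
    have hval : u k * s.1 = u k' * s'.1 := congrArg Subtype.val hkk
    have hk : k = k' := by
      apply Subtype.ext
      have := congrArg (fun σ : Equiv.Perm (Fin T.n) => σ b') hval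
      simp only [Equiv.Perm.mul_apply] at this
      rw [hfixb s.1 s.2, hfixb s'.1 s'.2, hub, hub] at this
      exact this
    subst hk
    have hs : s.1 = s'.1 := mul_left_cancel hval
    rw [Subtype.ext hs]
  have hcard := Nat.card_le_card_of_injective f hf
  rw [Nat.card_prod] at hcard
  have hcnt : Nat.card {k : Fin T.n // L.B.testBit k.val = true} = L.m := by
    have h1 := ncard_testBit L.B T.n
    rw [hL.hcnt] at h1
    rw [← h1]
    exact (Nat.card_coe_set_eq {b : Fin T.n | L.B.testBit b.val = true})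
  rw [hcnt] at hcard
  exact hcard

include htr in
/-- **the order is at least the product of the orbit lengths** -/
theorem chainProd_le {Γ : Subgroup (Equiv.Perm (Fin T.n))}
    (hΓ : ∀ x, x < T.g → P x ∈ Γ) : ∀ (Ls : List Level) (fixed : List ℕ),
      ChainOK T fixed Ls → chainProd Ls ≤ Nat.card (pstab T Γ fixed)
  | [], fixed, _ => by
    rw [chainProd]
    exact Nat.card_pos
  | L :: Ls, fixed, hc => by
    cases hc with
    | cons hL hLs =>
      rw [chainProd]
      exact (Nat.mul_le_mul_left _ (chainProd_le hΓ Ls (L.b :: fixed) hLs)).trans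
        (card_pstab_ge P htr hΓ hL)

include htr in
theorem chainProd_le_card {Γ : Subgroup (Equiv.Perm (Fin T.n))}
    (hΓ : ∀ x, x < T.g → P x ∈ Γ) {Ls : List Level} (hc : ChainOK T [] Ls) :
    chainProd Ls ≤ Nat.card Γ := by
  have := chainProd_le P htr hΓ Ls [] hc
  rwa [pstab_nil] at this

end

/-! ### the first step of the chain, from transitivity -/

section

variable {T : Tab}

/-- **the first step**: for a transitive group, the number of points times the order of the
stabilizer of the first point is at most the order of the group -/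
theorem card_ge_of_transitive {Γ : Subgroup (Equiv.Perm (Fin T.n))} (h0 : 0 < T.n)
    (htrans : ∀ a : Fin T.n, ∃ σ ∈ Γ, σ ⟨0, h0⟩ = a) :
    T.n * Nat.card (pstab T Γ [0]) ≤ Nat.card Γ := by
  classical
  choose u hu hub using htrans
  have hfixb : ∀ σ ∈ pstab T Γ [0], σ ⟨0, h0⟩ = ⟨0, h0⟩ := by
    intro σ hσ
    exact hσ.2 0 (List.mem_cons_self ..) h0
  let f : Fin T.n × pstab T Γ [0] → Γ := fun x => ⟨u x.1 * x.2.1, Γ.mul_mem (hu x.1) x.2.2.1⟩
  have hf : Function.Injective f := by
    rintro ⟨k, s⟩ ⟨k', s'⟩ hkk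
    have hval : u k * s.1 = u k' * s'.1 := congrArg Subtype.val hkk
    have hk : k = k' := by
      have := congrArg (fun σ : Equiv.Perm (Fin T.n) => σ ⟨0, h0⟩) hval
      simp only [Equiv.Perm.mul_apply] at this
      rw [hfixb s.1 s.2, hfixb s'.1 s'.2, hub, hub] at this
      exact this
    subst hk
    have hs : s.1 = s'.1 := mul_left_cancel hval
    rw [Subtype.ext hs]
  have hcard := Nat.card_le_card_of_injective f hf
  rw [Nat.card_prod, Nat.card_fin] at hcard
  exact hcard

namespace Tab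

/-- the search of a part of an orbit from rows of a bitmap, with marks -/
def segOK2 (T : Tab) (ws : List (List ℕ)) (I : List ℕ) (S : List ℕ) (B1 B2 : ℕ) : Bool :=
  (S.all fun r => btest B1 r) &&
  match T.orbRun2 ws I S (Nat.lor (Nat.shiftLeft B1 32) (Nat.land (S.headD 0) 4294967295)) with
  | none => false
  | some M => Nat.beq (Nat.shiftRight M 32) B2

theorem shiftRight_tag (B r : ℕ) :
    Nat.shiftRight (Nat.lor (Nat.shiftLeft B 32) (Nat.land r 4294967295)) 32 = B := by
  show (B <<< 32 ||| (r &&& 4294967295)) >>> 32 = _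
  rw [Nat.shiftRight_or_distrib, Nat.shiftLeft_shiftRight]
  have : (r &&& 4294967295) >>> 32 = 0 := by
    rw [Nat.shiftRight_eq_div_pow]
    apply Nat.div_eq_of_lt
    exact lt_of_le_of_lt Nat.and_le_right (by norm_num)
  rw [this, Nat.or_zero]

theorem orbRun_of_segOK2 {T : Tab} {ws : List (List ℕ)} {I S : List ℕ} {B1 B2 : ℕ}
    (h : segOK2 T ws I S B1 B2 = true) :
    (∀ r ∈ S, B1.testBit r = true) ∧ T.orbRun ws I S B1 = some B2 := by
  unfold segOK2 at h
  rw [Bool.and_eq_true] at h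
  refine ⟨fun r hr => ?_, ?_⟩
  · have := List.all_eq_true.1 h.1 r hr
    rwa [btest_eq] at this
  have h2 := h.2
  cases hr : T.orbRun2 ws I S (Nat.lor (Nat.shiftLeft B1 32)
      (Nat.land (S.headD 0) 4294967295)) with
  | none => rw [hr] at h2; simp at h2
  | some M =>
    rw [hr] at h2
    simp only at h2
    have h1 := T.orbRun_of_orbRun2 ws I S _ M hr
    rw [shiftRight_tag, Nat.eq_of_beq_eq_true h2] at h1
    exact h1

end Tab

/-- the rows of the second bitmap are reached from rows of the first one by searches -/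
inductive RunsTo (T : Tab) (ws : List (List ℕ)) : ℕ → ℕ → Prop
  | refl (B : ℕ) : RunsTo T ws B B
  | step {B B1 B2 : ℕ} (S : List ℕ) (I : List ℕ) : RunsTo T ws B B1 →
      Tab.segOK2 T ws I S B1 B2 = true → RunsTo T ws B B2

theorem RunsTo.sound {ws : List (List ℕ)} {Q : ℕ → Prop}
    (hstep : ∀ top w r, w ∈ ws → Q top → T.trace top w = r → Q r) {B B' : ℕ}
    (h : RunsTo T ws B B') (hB : ∀ k, B.testBit k = true → Q k) :
    ∀ k, B'.testBit k = true → Q k := by
  induction h with
  | refl => exact hB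
  | step S I _ hseg ih =>
    obtain ⟨hr, hrun⟩ := Tab.orbRun_of_segOK2 hseg
    exact T.orbRun_sound ws hstep I S _ _ hrun (fun s hs => ih _ (hr s hs)) ih

theorem RunsTo.mono {ws : List (List ℕ)} {B B' : ℕ} (h : RunsTo T ws B B') :
    ∀ k, B.testBit k = true → B'.testBit k = true := by
  induction h with
  | refl => exact fun _ hk => hk
  | step S I _ hseg ih =>
    obtain ⟨_, hrun⟩ := Tab.orbRun_of_segOK2 hseg
    intro k hk
    exact T.orbRun_mono ws I S _ _ hrun k (ih k hk)

/-- the number of bits set below a bound, in two parts -/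
theorem cnt_add (B a : ℕ) : ∀ b, cnt B (a + b) = cnt B a + cnt (Nat.shiftRight B a) b
  | 0 => by simp [cnt]
  | b + 1 => by
    have e : a + (b + 1) = (a + b) + 1 := by omega
    rw [e, cnt, cnt, cnt_add B a b, btest_eq, btest_eq]
    have : (Nat.shiftRight B a).testBit b = B.testBit (a + b) := by
      show (B >>> a).testBit b = _
      rw [Nat.testBit_shiftRight]
    rw [this]
    cases B.testBit (a + b)
    · simp
    · simp only [cond_true]
      omega

end

/-- a set in a finite type that is mapped into itself by a permutation is mapped into itself by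
the inverse -/
theorem inv_mem_of_forall_mem {n : ℕ} (σ : Equiv.Perm (Fin n)) (B : Set (Fin n))
    (h : ∀ b ∈ B, σ b ∈ B) : ∀ b ∈ B, σ⁻¹ b ∈ B := by
  have hfin : B.Finite := Set.toFinite B
  have hsub : σ '' B ⊆ B := by
    rintro _ ⟨b, hb, rfl⟩
    exact h b hb
  have hcard : B.ncard ≤ (σ '' B).ncard := by
    rw [Set.ncard_image_of_injective _ σ.injective]
  have heq : σ '' B = B := Set.eq_of_subset_of_ncard_le hsub hcard hfin
  intro b hb
  rw [← heq] at hb
  obtain ⟨c, hc, rfl⟩ := hb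
  simpa using hc

section

variable {α : Type} [DecidableEq α] {edges : List (α × ℕ × α)} {extra : List (FreeGroup α)}
  {S : Set (FreeGroup α)} (D : GenData edges extra S)

theorem ρ_γ {x : ℕ} (hx : x < D.c.g) : D.ρ (D.γ x) = (D.P x)⁻¹ := by
  unfold GenData.γ
  rw [D.ρ_mk, D.lift_lt hx]

/-- the element of the group of a word -/
def wordG (w : List ℕ) : CoxPresented α edges extra := (w.map D.γ).prod

theorem ρ_wordG {w : List ℕ} (hw : ∀ x ∈ w, x < D.c.g) :
    D.ρ (wordG D w) = ((w.reverse.map D.P).prod)⁻¹ := by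
  unfold wordG
  rw [map_list_prod, List.map_map, ← prod_inv_eq]
  congr 1
  apply List.map_congr_left
  intro x hx
  exact ρ_γ D (hw x hx)

/-- a certificate for an orbit of the subgroup on the rows -/
structure OrbG where
  a : ℕ
  ha : a < D.T.n
  instrs : List ℕ
  B : ℕ
  chk_orb : D.T.orbRun D.subW instrs [a] (bset 0 a) = some B
  chk_closed : D.T.closedOK D.subW B = true

namespace OrbG

variable {D} (O : OrbG D)

/-- the element of the subgroup of a word of the list of generators of the subgroup -/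
theorem sub_mem {w : List ℕ} (hw : w ∈ D.subW) :
    (∀ x ∈ w, x < D.T.g) ∧ ∃ h ∈ D.H, D.ρ h = ((w.reverse.map D.P).prod)⁻¹ := by
  obtain ⟨_, _, h3⟩ := D.sub_spec
  obtain ⟨hl, _⟩ := h3 w hw
  refine ⟨fun x hx => by rw [D.hTg]; exact hl x hx, ?_⟩
  refine ⟨PresentedGroup.mk _ (TCG.fgWord D.gen D.sgn w),
    ⟨_, Subgroup.subset_closure ((D.hS _).2 ⟨w, hw, rfl⟩), rfl⟩, ?_⟩
  rw [D.ρ_mk, TCG.hom_fgWord, D.lift_word hl]

theorem reach {k : ℕ} (hk : O.B.testBit k = true) :
    ∃ h ∈ D.H, (D.ρ h ⟨O.a, O.ha⟩).val = k := by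
  refine D.T.orbRun_sound (Q := fun k => ∃ h ∈ D.H, (D.ρ h ⟨O.a, O.ha⟩).val = k) D.subW ?_
    O.instrs [O.a] (bset 0 O.a) O.B O.chk_orb ?_ ?_ k hk
  · rintro top w r hw ⟨h, hh, rfl⟩ htr
    obtain ⟨hl, s, hs, hsw⟩ := sub_mem hw
    rw [trace_eq D.chk_tab w _ hl] at htr
    refine ⟨s⁻¹ * h, D.H.mul_mem (D.H.inv_mem hs) hh, ?_⟩
    rw [map_mul, map_inv, hsw, inv_inv, Equiv.Perm.mul_apply]
    exact htr
  · intro s hs
    rw [List.mem_singleton] at hs
    subst hs
    exact ⟨1, D.H.one_mem, by simp⟩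
  · intro k hk
    rw [testBit_bset] at hk
    simp only [Nat.zero_testBit, Bool.false_or, decide_eq_true_eq] at hk
    subst hk
    exact ⟨1, D.H.one_mem, by simp⟩

theorem closed {h : CoxPresented α edges extra} (hh : h ∈ D.H) :
    ∀ b : Fin D.T.n, O.B.testBit b.val = true → O.B.testBit (D.ρ h b).val = true := by
  obtain ⟨r, hr, rfl⟩ := hh
  have hr' : r ∈ Subgroup.closure S := hr
  clear hr
  -- the bitmap is closed under the permutations of the words
  have hcl : ∀ w ∈ D.subW, ∀ b : Fin D.T.n, b ∈ {b : Fin D.T.n | O.B.testBit b.val = true} →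
      ((w.reverse.map D.P).prod) b ∈ {b : Fin D.T.n | O.B.testBit b.val = true} := by
    intro w hw b hb
    have h1 := allBelow_spec _ _ O.chk_closed b.val b.isLt
    rw [btest_eq, (hb : O.B.testBit b.val = true)] at h1
    simp only [Bool.not_true, Bool.false_or] at h1
    have h2 := List.all_eq_true.1 h1 w hw
    simp only [Bool.and_eq_true, btest_eq] at h2
    obtain ⟨hl, _⟩ := sub_mem (D := D) hw
    have := h2.1
    rw [trace_eq D.chk_tab w b hl] at this
    exact this
  induction hr' using Subgroup.closure_induction'' with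
  | mem s hs =>
    intro b hb
    obtain ⟨w, hw, rfl⟩ := (D.hS s).1 hs
    obtain ⟨_, _, h3⟩ := D.sub_spec
    obtain ⟨hl, _⟩ := h3 w hw
    rw [D.ρ_mk, TCG.hom_fgWord, D.lift_word hl]
    exact inv_mem_of_forall_mem _ _ (hcl w hw) b hb
  | inv_mem s hs =>
    intro b hb
    obtain ⟨w, hw, rfl⟩ := (D.hS s).1 hs
    obtain ⟨_, _, h3⟩ := D.sub_spec
    obtain ⟨hl, _⟩ := h3 w hw
    rw [map_inv, map_inv, D.ρ_mk, TCG.hom_fgWord, D.lift_word hl, inv_inv]
    exact hcl w hw b hb
  | one =>
    intro b hb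
    simpa using hb
  | mul x y _ _ hx hy =>
    intro b hb
    rw [map_mul, map_mul, Equiv.Perm.mul_apply]
    exact hx _ (hy b hb)

theorem root_mem : O.B.testBit O.a = true := by
  refine D.T.orbRun_mono D.subW O.instrs [O.a] (bset 0 O.a) O.B O.chk_orb O.a ?_
  rw [testBit_bset]
  simp

/-- the orbit of the root is given by the bitmap -/
theorem img_eq : imgOrbit D.ρ D.H ⟨O.a, O.ha⟩ = {b : Fin D.T.n | O.B.testBit b.val = true} := by
  ext b
  constructor
  · rintro ⟨h, hh, rfl⟩
    exact O.closed hh ⟨O.a, O.ha⟩ O.root_mem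
  · intro hb
    obtain ⟨h, hh, hv⟩ := O.reach hb
    exact ⟨h, hh, Fin.ext hv⟩

end OrbG

/-- **the order**: with an upper bound and a chain of stabilizers, the order is known and the
action on the rows is faithful -/
theorem card_eq_and_injective {N : ℕ}
    (hub : Finite (CoxPresented α edges extra) ∧ Nat.card (CoxPresented α edges extra) ≤ N)
    (Ls : List Level) (hchain : ChainOK D.T [] Ls) (hprod : chainProd Ls = N) :
    Nat.card (CoxPresented α edges extra) = N ∧ Function.Injective D.ρ := by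
  obtain ⟨hfin, hle⟩ := hub
  set ρ := D.ρ with hρ
  have hΓ : ∀ x, x < D.T.g → D.P x ∈ ρ.range := by
    intro x hx
    rw [D.hTg] at hx
    refine ⟨(D.γ x)⁻¹, ?_⟩
    rw [map_inv, hρ, ρ_γ D hx, inv_inv]
  have hlow : N ≤ Nat.card ρ.range := by
    rw [← hprod]
    exact chainProd_le_card D.P (fun w a hw => trace_eq D.chk_tab w a hw) hΓ hchain
  have hsurj : Function.Surjective ρ.rangeRestrict := ρ.rangeRestrict_surjective
  have hbij : Function.Bijective ρ.rangeRestrict :=
    hsurj.bijective_of_nat_card_le (hle.trans hlow)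
  refine ⟨le_antisymm hle (hlow.trans (Nat.card_le_card_of_surjective _ hsurj)), ?_⟩
  intro x y hxy
  apply hbij.1
  exact Subtype.ext hxy

/-- a word whose power is checked to act trivially has trivial power in the group -/
theorem wordG_pow_eq_one (hinj : Function.Injective D.ρ) {w : List ℕ} {p : ℕ}
    (hw : D.T.minOK w p = true) : (wordG D w) ^ p = 1 := by
  obtain ⟨hl, hp⟩ := pow_eq_one_of_minOK D.chk_tab hw
  have hp' : ((w.reverse.map D.P).prod) ^ p = 1 := hp
  apply hinj
  rw [map_one, map_pow, ρ_wordG D (fun x hx => by rw [← D.hTg]; exact hl x hx), inv_pow, hp',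
    inv_one]

/-- **simplicity** -/
theorem simple_of_cert [Finite (CoxPresented α edges extra)] (hinj : Function.Injective D.ρ)
    {r : ℕ} (orbs : Fin r → OrbG D) (s : Fin r → ℕ) (hs : ∀ i, cnt (orbs i).B D.T.n = s i)
    (hcover : ∀ b, b < D.T.n → b = 0 ∨ ∃ i, (orbs i).B.testBit b = true)
    (hdisj : ∀ i j, i ≠ j → Nat.land (orbs i).B (orbs j).B = 0)
    (ho : ∀ i, (orbs i).B.testBit 0 = false)
    (harith : ∀ I : Finset (Fin r), I.Nonempty → (1 + ∑ i ∈ I, s i) ∣ D.T.n →
      1 + ∑ i ∈ I, s i = D.T.n)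
    (p : ℕ) (hcop : (Nat.card (CoxPresented α edges extra) / D.T.n).Coprime p)
    (hgen : Subgroup.closure {g : CoxPresented α edges extra | g ^ p = 1} = ⊤)
    (hn : 1 < D.T.n) : IsSimpleGroup (CoxPresented α edges extra) := by
  refine isSimpleGroup_of_cert D.ρ hinj D.o D.trans D.H D.fix
    (fun i => {b : Fin D.T.n | (orbs i).B.testBit b.val = true}) ?_ ?_ ?_ ?_ s ?_ harith p hcop
    hgen hn
  · intro i
    exact ⟨⟨(orbs i).a, (orbs i).ha⟩, ((orbs i).img_eq).symm⟩
  · intro b
    rcases hcover b.val b.isLt with hb | ⟨i, hi⟩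
    · left
      exact Fin.ext hb
    · right
      exact ⟨i, hi⟩
  · intro i j hij b hbi hbj
    have h1 : (Nat.land (orbs i).B (orbs j).B).testBit b.val = true := by
      show ((orbs i).B &&& (orbs j).B).testBit b.val = true
      rw [Nat.testBit_and, Bool.and_eq_true]
      exact ⟨hbi, hbj⟩
    rw [hdisj i j hij] at h1
    simp at h1
  · intro i hi
    have h1 : (orbs i).B.testBit 0 = true := hi
    rw [ho i] at h1
    exact Bool.false_ne_true h1
  · intro i
    rw [← hs i]
    exact ncard_testBit _ _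

/-- a certificate that the rows of a bitmap lie in one orbit of the subgroup, found by searches
in parts -/
structure OrbS where
  a : ℕ
  ha : a < D.T.n
  B : ℕ
  chk_run : RunsTo D.T D.subW (bset 0 a) B

namespace OrbS

variable {D} (O : OrbS D)

theorem reach {k : ℕ} (hk : O.B.testBit k = true) :
    ∃ h ∈ D.H, (D.ρ h ⟨O.a, O.ha⟩).val = k := by
  refine RunsTo.sound (Q := fun k => ∃ h ∈ D.H, (D.ρ h ⟨O.a, O.ha⟩).val = k) ?_ O.chk_run ?_ k hk
  · rintro top w r hw ⟨h, hh, rfl⟩ htr
    obtain ⟨hl, s, hs, hsw⟩ := OrbG.sub_mem hw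
    rw [trace_eq D.chk_tab w _ hl] at htr
    refine ⟨s⁻¹ * h, D.H.mul_mem (D.H.inv_mem hs) hh, ?_⟩
    rw [map_mul, map_inv, hsw, inv_inv, Equiv.Perm.mul_apply]
    exact htr
  · intro k hk
    rw [testBit_bset] at hk
    simp only [Nat.zero_testBit, Bool.false_or, decide_eq_true_eq] at hk
    subst hk
    exact ⟨1, D.H.one_mem, by simp⟩

/-- two rows of the bitmap are joined by an element of the subgroup -/
theorem conn {b c : Fin D.T.n} (hb : O.B.testBit b.val = true) (hc : O.B.testBit c.val = true) :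
    ∃ h ∈ D.H, D.ρ h b = c := by
  obtain ⟨h1, hh1, e1⟩ := O.reach hb
  obtain ⟨h2, hh2, e2⟩ := O.reach hc
  refine ⟨h2 * h1⁻¹, D.H.mul_mem hh2 (D.H.inv_mem hh1), ?_⟩
  have e1' : D.ρ h1 ⟨O.a, O.ha⟩ = b := Fin.ext e1
  have e2' : D.ρ h2 ⟨O.a, O.ha⟩ = c := Fin.ext e2
  rw [map_mul, map_inv, Equiv.Perm.mul_apply, ← e1', perm_inv_apply_self, e2']

end OrbS

end

/-- **the criterion**, for sets of points each of which lies in one orbit of the subgroup -/
theorem isSimpleGroup_of_conn {G : Type*} [Group G] {n : ℕ} [Finite G]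
    (ρ : G →* Equiv.Perm (Fin n))
    (hinj : Function.Injective ρ) (o : Fin n) (htrans : ∀ a : Fin n, ∃ z : G, ρ z o = a)
    (H : Subgroup G) (hH : ∀ h ∈ H, ρ h o = o)
    {r : ℕ} (Δ : Fin r → Set (Fin n))
    (hΔ : ∀ i, ∀ b ∈ Δ i, ∀ c ∈ Δ i, ∃ h ∈ H, ρ h b = c)
    (hcover : ∀ b, b = o ∨ ∃ i, b ∈ Δ i)
    (hdisj : ∀ i j, i ≠ j → ∀ b, b ∈ Δ i → b ∉ Δ j) (ho : ∀ i, o ∉ Δ i)
    (s : Fin r → ℕ) (hs : ∀ i, (Δ i).ncard = s i)
    (harith : ∀ I : Finset (Fin r), I.Nonempty → (1 + ∑ i ∈ I, s i) ∣ n → 1 + ∑ i ∈ I, s i = n)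
    (p : ℕ) (hcop : (Nat.card G / n).Coprime p)
    (hgen : Subgroup.closure {g : G | g ^ p = 1} = ⊤) (hn : 1 < n) : IsSimpleGroup G := by
  classical
  let _ : MulAction G (Fin n) := MulAction.compHom (Fin n) ρ
  have hsmul : ∀ (g : G) (b : Fin n), g • b = ρ g b := fun _ _ => rfl
  have : MulAction.IsPretransitive G (Fin n) := ⟨fun a b => by
    obtain ⟨x, hx⟩ := htrans a
    obtain ⟨y, hy⟩ := htrans b
    refine ⟨y * x⁻¹, ?_⟩
    rw [hsmul, map_mul, map_inv, Equiv.Perm.mul_apply, ← hx, perm_inv_apply_self, hy]⟩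
  have hnt : Nontrivial G := by
    by_contra hG
    rw [not_nontrivial_iff_subsingleton] at hG
    have hall : ∀ a : Fin n, a = o := fun a => by
      obtain ⟨z, hz⟩ := htrans a
      rw [← hz, Subsingleton.elim z 1, map_one]
      rfl
    have h01 := (hall ⟨0, by omega⟩).trans (hall ⟨1, hn⟩).symm
    simp [Fin.ext_iff] at h01
  refine { toNontrivial := hnt, eq_bot_or_eq_top_of_normal := ?_ }
  intro N hN
  by_cases hbot : N = ⊥
  · exact Or.inl hbot
  right
  -- the orbit of the base point under `N`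
  set X : Set (Fin n) := MulAction.orbit N o with hXdef
  have hXmem : ∀ b, b ∈ X ↔ ∃ x ∈ N, ρ x o = b := by
    intro b
    constructor
    · rintro ⟨⟨x, hx⟩, rfl⟩
      exact ⟨x, hx, rfl⟩
    · rintro ⟨x, hx, rfl⟩
      exact ⟨⟨x, hx⟩, rfl⟩
  have hoX : o ∈ X := MulAction.mem_orbit_self o
  have hblock : MulAction.IsBlock G X := MulAction.IsBlock.orbit_of_normal o
  have hdvd : X.ncard ∣ n := by
    have := hblock.ncard_dvd_card ⟨o, hoX⟩
    rwa [Nat.card_fin] at this
  -- invariance under the subgroup `H`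
  have hinv : ∀ h ∈ H, ∀ b ∈ X, ρ h b ∈ X := by
    intro h hh b hb
    obtain ⟨x, hx, rfl⟩ := (hXmem b).1 hb
    refine (hXmem _).2 ⟨h * x * h⁻¹, hN.conj_mem x hx h, ?_⟩
    rw [map_mul, map_mul, map_inv, Equiv.Perm.mul_apply, Equiv.Perm.mul_apply]
    congr 2
    rw [Equiv.Perm.inv_eq_iff_eq]
    exact (hH h hh).symm
  have hsub : ∀ i, (∃ b ∈ Δ i, b ∈ X) → Δ i ⊆ X := by
    intro i ⟨b, hbΔ, hbX⟩ c hc
    obtain ⟨h, hh, rfl⟩ := hΔ i b hbΔ c hc
    exact hinv h hh b hbX
  set I : Finset (Fin r) := Finset.univ.filter fun i => Δ i ⊆ X with hIdef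
  have hXeq : X = {o} ∪ ⋃ i ∈ I, Δ i := by
    ext b
    simp only [Set.singleton_union, Set.mem_insert_iff, Set.mem_iUnion, exists_prop]
    constructor
    · intro hb
      rcases hcover b with rfl | ⟨i, hi⟩
      · exact Or.inl rfl
      · refine Or.inr ⟨i, ?_, hi⟩
        rw [hIdef, Finset.mem_filter]
        exact ⟨Finset.mem_univ _, hsub i ⟨b, hi, hb⟩⟩
    · rintro (rfl | ⟨i, hi, hb⟩)
      · exact hoX
      · rw [hIdef, Finset.mem_filter] at hi
        exact hi.2 hb
  have hcard : X.ncard = 1 + ∑ i ∈ I, s i := ncard_eq_of_union o Δ hdisj ho s hs I X hXeq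
  -- `N` moves the base point
  have hmove : ∃ b ∈ X, b ≠ o := by
    by_contra hcon
    push Not at hcon
    apply hbot
    rw [Subgroup.eq_bot_iff_forall]
    intro x hx
    apply hinj
    rw [map_one]
    ext a
    obtain ⟨z, rfl⟩ := htrans a
    have h1 : ρ (z⁻¹ * x * z) o = o :=
      hcon _ ((hXmem _).2 ⟨z⁻¹ * x * z, by
        have := hN.conj_mem x hx z⁻¹
        rwa [inv_inv] at this, rfl⟩)
    rw [map_mul, map_mul, map_inv, Equiv.Perm.mul_apply, Equiv.Perm.mul_apply,
      Equiv.Perm.inv_eq_iff_eq] at h1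
    rw [Equiv.Perm.coe_one, id_eq, h1]
  have hIne : I.Nonempty := by
    obtain ⟨b, hbX, hbo⟩ := hmove
    rcases hcover b with rfl | ⟨i, hi⟩
    · exact absurd rfl hbo
    · refine ⟨i, ?_⟩
      rw [hIdef, Finset.mem_filter]
      exact ⟨Finset.mem_univ _, hsub i ⟨b, hi, hbX⟩⟩
  have hXn : X.ncard = n := by
    rw [hcard]
    apply harith I hIne
    rw [← hcard]
    exact hdvd
  -- so `n` divides the order of `N`
  have hnN : n ∣ Nat.card N := by
    have h1 : (MulAction.stabilizer N o).index = X.ncard := MulAction.index_stabilizer N o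
    rw [← hXn, ← h1]
    exact Subgroup.index_dvd_card _
  have hn0 : 0 < n := by omega
  have hidx : N.index ∣ Nat.card G / n := by
    obtain ⟨t, ht⟩ := hnN
    have h2 := Subgroup.card_mul_index N
    rw [ht] at h2
    have : Nat.card G / n = t * N.index := by
      rw [← h2, mul_assoc, Nat.mul_div_cancel_left _ hn0]
    rw [this]
    exact Dvd.intro_left _ rfl
  have hcopN : N.index.Coprime p := Nat.Coprime.coprime_dvd_left hidx hcop
  rw [eq_top_iff, ← hgen, Subgroup.closure_le]
  intro g hg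
  have hg' : g ^ p = 1 := hg
  have h1 : ((g : G ⧸ N)) ^ p = 1 := by
    rw [← QuotientGroup.mk_pow, hg', QuotientGroup.mk_one]
  have h2 : orderOf (g : G ⧸ N) ∣ p := orderOf_dvd_of_pow_eq_one h1
  have h3 : orderOf (g : G ⧸ N) ∣ N.index := by
    rw [Subgroup.index]
    exact orderOf_dvd_natCard _
  have h4 : orderOf (g : G ⧸ N) = 1 := Nat.eq_one_of_dvd_coprimes hcopN h3 h2
  rw [orderOf_eq_one_iff] at h4
  exact (QuotientGroup.eq_one_iff g).1 h4

section

variable {α : Type} [DecidableEq α] {edges : List (α × ℕ × α)} {extra : List (FreeGroup α)}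
  {S : Set (FreeGroup α)} (D : GenData edges extra S)

/-- **the order**, the first step of the chain by transitivity -/
theorem card_eq_and_injective' {N : ℕ}
    (hub : Finite (CoxPresented α edges extra) ∧ Nat.card (CoxPresented α edges extra) ≤ N)
    (Ls : List Level) (hchain : ChainOK D.T [0] Ls) (hprod : D.T.n * chainProd Ls = N) :
    Nat.card (CoxPresented α edges extra) = N ∧ Function.Injective D.ρ := by
  obtain ⟨hfin, hle⟩ := hub
  set ρ := D.ρ with hρ
  have hΓ : ∀ x, x < D.T.g → D.P x ∈ ρ.range := by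
    intro x hx
    rw [D.hTg] at hx
    refine ⟨(D.γ x)⁻¹, ?_⟩
    rw [map_inv, hρ, ρ_γ D hx, inv_inv]
  have hlow : N ≤ Nat.card ρ.range := by
    rw [← hprod]
    have h1 := chainProd_le D.P (fun w a hw => trace_eq D.chk_tab w a hw) hΓ Ls [0] hchain
    have h2 := card_ge_of_transitive (T := D.T) (Γ := ρ.range) D.hTn (fun a => by
      obtain ⟨z, hz⟩ := D.trans a
      exact ⟨ρ z, ⟨z, rfl⟩, hz⟩)
    exact (Nat.mul_le_mul_left _ h1).trans h2
  have hsurj : Function.Surjective ρ.rangeRestrict := ρ.rangeRestrict_surjective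
  have hbij : Function.Bijective ρ.rangeRestrict :=
    hsurj.bijective_of_nat_card_le (hle.trans hlow)
  refine ⟨le_antisymm hle (hlow.trans (Nat.card_le_card_of_surjective _ hsurj)), ?_⟩
  intro x y hxy
  apply hbij.1
  exact Subtype.ext hxy

/-- **simplicity**, with sets of rows each of which lies in one orbit of the subgroup -/
theorem simple_of_conn [Finite (CoxPresented α edges extra)] (hinj : Function.Injective D.ρ)
    {r : ℕ} (orbs : Fin r → OrbS D) (s : Fin r → ℕ) (hs : ∀ i, cnt (orbs i).B D.T.n = s i)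
    (hcover : ∀ b, b < D.T.n → b = 0 ∨ ∃ i, (orbs i).B.testBit b = true)
    (hdisj : ∀ i j, i ≠ j → Nat.land (orbs i).B (orbs j).B = 0)
    (ho : ∀ i, (orbs i).B.testBit 0 = false)
    (harith : ∀ I : Finset (Fin r), I.Nonempty → (1 + ∑ i ∈ I, s i) ∣ D.T.n →
      1 + ∑ i ∈ I, s i = D.T.n)
    (p : ℕ) (hcop : (Nat.card (CoxPresented α edges extra) / D.T.n).Coprime p)
    (hgen : Subgroup.closure {g : CoxPresented α edges extra | g ^ p = 1} = ⊤)
    (hn : 1 < D.T.n) : IsSimpleGroup (CoxPresented α edges extra) := by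
  refine isSimpleGroup_of_conn D.ρ hinj D.o D.trans D.H D.fix
    (fun i => {b : Fin D.T.n | (orbs i).B.testBit b.val = true}) ?_ ?_ ?_ ?_ s ?_ harith p hcop
    hgen hn
  · intro i b hb c hc
    exact (orbs i).conn hb hc
  · intro b
    rcases hcover b.val b.isLt with hb | ⟨i, hi⟩
    · left
      exact Fin.ext hb
    · right
      exact ⟨i, hi⟩
  · intro i j hij b hbi hbj
    have h1 : (Nat.land (orbs i).B (orbs j).B).testBit b.val = true := by
      show ((orbs i).B &&& (orbs j).B).testBit b.val = true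
      rw [Nat.testBit_and, Bool.and_eq_true]
      exact ⟨hbi, hbj⟩
    rw [hdisj i j hij] at h1
    simp at h1
  · intro i hi
    have h1 : (orbs i).B.testBit 0 = true := hi
    rw [ho i] at h1
    exact Bool.false_ne_true h1
  · intro i
    rw [← hs i]
    exact ncard_testBit _ _

end

end Cfsg.Agent.Lib.Helper6.SimpG

end
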