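import Cfsg.Agent.Lib.Helper6.SimpG
import Cfsg.Prelude.Def_Spor_ON

/-! # The presented O'Nan group is generated by its elements of order five, given two
generators that are products of two such elements -/

set_option autoImplicit false

namespace Cfsg.Agent.Lib.Helper6.ONGen

open Cfsg.Spor Cfsg.Agent.Lib.Helper6.Simp Cfsg.Agent.Lib.Helper6.SimpG

/-- the relator of two nodes of the graph -/
theorem of_rel {α : Type} [DecidableEq α] {edges : List (α × ℕ × α)} {extra : List (FreeGroup α)}
    {a b : α} (ha : a ∈ coxNodes edges) (hb : b ∈ coxNodes edges) :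
    ((PresentedGroup.of a : CoxPresented α edges extra) * PresentedGroup.of b) ^
      coxLabel edges a b = 1 := by
  have hm : (FreeGroup.of a * FreeGroup.of b) ^ coxLabel edges a b ∈
      coxRelators edges ∪ {r | r ∈ extra} := Or.inl ⟨a, ha, b, hb, rfl⟩
  have h1 := PresentedGroup.one_of_mem hm
  rw [map_pow, map_mul] at h1
  exact h1

theorem of_sq {α : Type} [DecidableEq α] {edges : List (α × ℕ × α)} {extra : List (FreeGroup α)}
    {a : α} (ha : a ∈ coxNodes edges) :
    (PresentedGroup.of a : CoxPresented α edges extra) * PresentedGroup.of a = 1 := by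
  have h := of_rel (extra := extra) ha ha
  have e : coxLabel edges a a = 1 := by simp [coxLabel]
  rw [e, pow_one] at h
  exact h

/-- a normal subgroup that contains a node contains the nodes joined to it with label three -/
theorem mem_of_braid {α : Type} [DecidableEq α] {edges : List (α × ℕ × α)}
    {extra : List (FreeGroup α)} {N : Subgroup (CoxPresented α edges extra)} (hN : N.Normal)
    {x y : α} (hx : x ∈ coxNodes edges) (hy : y ∈ coxNodes edges) (h3 : coxLabel edges x y = 3)
    (hxN : (PresentedGroup.of x : CoxPresented α edges extra) ∈ N) :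
    (PresentedGroup.of y : CoxPresented α edges extra) ∈ N := by
  have hb := of_rel (extra := extra) hx hy
  rw [h3] at hb
  rw [conj_of_braid (of_sq hx) (of_sq hy) hb]
  exact hN.conj_mem _ hxN _

/-- **generation by the elements of order five** -/
theorem closure_eq_top (ha : (PresentedGroup.of ON.Gen.a : ON) ∈
      Subgroup.closure {g : ON | g ^ 5 = 1})
    (he : (PresentedGroup.of ON.Gen.e : ON) ∈ Subgroup.closure {g : ON | g ^ 5 = 1}) :
    Subgroup.closure {g : ON | g ^ 5 = 1} = ⊤ := by
  set N := Subgroup.closure {g : ON | g ^ 5 = 1} with hNdef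
  have hN : N.Normal := closure_pow_eq_one_normal 5
  have hb : (PresentedGroup.of ON.Gen.b : ON) ∈ N :=
    mem_of_braid hN (by decide) (by decide) (by decide) ha
  have hc : (PresentedGroup.of ON.Gen.c : ON) ∈ N :=
    mem_of_braid hN (by decide) (by decide) (by decide) hb
  have hd : (PresentedGroup.of ON.Gen.d : ON) ∈ N :=
    mem_of_braid hN (by decide) (by decide) (by decide) he
  have hf : (PresentedGroup.of ON.Gen.f : ON) ∈ N :=
    mem_of_braid hN (by decide) (by decide) (by decide) he
  -- the generator `g`, from two of the relators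
  have r1 : (PresentedGroup.of ON.Gen.a : ON) * PresentedGroup.of ON.Gen.f *
      ((PresentedGroup.of ON.Gen.g : ON) ^ 2)⁻¹ = 1 := by
    have hm : (ON.a * ON.f) * ((ON.g ^ 2)⁻¹) ∈ coxRelators ON.edges ∪ {r | r ∈ ON.extra} :=
      Or.inr (by simp [ON.extra])
    have h1 := PresentedGroup.one_of_mem hm
    simp only [map_mul, map_inv, map_pow] at h1
    exact h1
  have r2 : ((PresentedGroup.of ON.Gen.b : ON) * PresentedGroup.of ON.Gen.c *
      PresentedGroup.of ON.Gen.d * PresentedGroup.of ON.Gen.g) ^ 5 = 1 := by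
    have hm : (ON.b * ON.c * ON.d * ON.g) ^ 5 ∈ coxRelators ON.edges ∪ {r | r ∈ ON.extra} :=
      Or.inr (by simp [ON.extra])
    have h1 := PresentedGroup.one_of_mem hm
    simp only [map_mul, map_pow] at h1
    exact h1
  have hg : (PresentedGroup.of ON.Gen.g : ON) ∈ N := by
    have q1 : ∀ z : ON, z ∈ N → (z : ON ⧸ N) = 1 := fun z hz => (QuotientGroup.eq_one_iff z).2 hz
    have e1 := congrArg (fun z : ON => (z : ON ⧸ N)) r1
    have e2 := congrArg (fun z : ON => (z : ON ⧸ N)) r2
    simp only [QuotientGroup.mk_mul, QuotientGroup.mk_inv, QuotientGroup.mk_pow,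
      QuotientGroup.mk_one, q1 _ ha, q1 _ hb, q1 _ hc, q1 _ hd, q1 _ hf, one_mul] at e1 e2
    rw [← QuotientGroup.eq_one_iff]
    set t : ON ⧸ N := ((PresentedGroup.of ON.Gen.g : ON) : ON ⧸ N) with ht
    have e3 : t ^ 2 = 1 := by
      rw [inv_eq_one] at e1
      exact e1
    calc t = t ^ 5 * (t ^ 2)⁻¹ * (t ^ 2)⁻¹ := by group
      _ = 1 := by rw [e2, e3]; simp
  rw [eq_top_iff, ← PresentedGroup.closure_range_of, Subgroup.closure_le]
  rintro _ ⟨x, rfl⟩
  cases x <;> assumption

end Cfsg.Agent.Lib.Helper6.ONGen
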