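import Cfsg.Agent.Lib.Helper6.SimpUB
import Cfsg.Prelude.Def_Spor_ON

/-! # Sub-presentations of the presented O'Nan group -/

set_option autoImplicit false
set_option linter.unusedSimpArgs false

namespace Cfsg.Agent.Lib.Helper6.ONSub

open Cfsg.Spor Cfsg.Agent.Lib.Helper6.Simp

namespace Q6

/-- the generators a, b, c, d, e, f -/
inductive Gen
  | a
  | b
  | c
  | d
  | e
  | f
  deriving DecidableEq

abbrev a : FreeGroup Gen := FreeGroup.of Gen.a
abbrev b : FreeGroup Gen := FreeGroup.of Gen.b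
abbrev c : FreeGroup Gen := FreeGroup.of Gen.c
abbrev d : FreeGroup Gen := FreeGroup.of Gen.d
abbrev e : FreeGroup Gen := FreeGroup.of Gen.e
abbrev f : FreeGroup Gen := FreeGroup.of Gen.f

/-- the Coxeter graph -/
def edges : List (Gen × ℕ × Gen) :=
  [(.a, 3, .b), (.b, 3, .c), (.c, 8, .d), (.d, 3, .e), (.e, 3, .f)]

/-- the further relators -/
def extra : List (FreeGroup Gen) := [  (a * f) * (((c * d) ^ 4)⁻¹)]

/-- the inclusion of the generators -/
def ι : Gen → ON.Gen
  | .a => .a
  | .b => .b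
  | .c => .c
  | .d => .d
  | .e => .e
  | .f => .f

end Q6

/-- the group of the sub-presentation on a, b, c, d, e, f -/
abbrev Q6 : Type := CoxPresented Q6.Gen Q6.edges Q6.extra

namespace Q5

/-- the generators a, b, c, d, f -/
inductive Gen
  | a
  | b
  | c
  | d
  | f
  deriving DecidableEq

abbrev a : FreeGroup Gen := FreeGroup.of Gen.a
abbrev b : FreeGroup Gen := FreeGroup.of Gen.b
abbrev c : FreeGroup Gen := FreeGroup.of Gen.c
abbrev d : FreeGroup Gen := FreeGroup.of Gen.d
abbrev f : FreeGroup Gen := FreeGroup.of Gen.f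

/-- the Coxeter graph -/
def edges : List (Gen × ℕ × Gen) :=
  [(.a, 3, .b), (.b, 3, .c), (.c, 8, .d), (.a, 2, .f)]

/-- the further relators -/
def extra : List (FreeGroup Gen) := [  (a * f) * (((c * d) ^ 4)⁻¹)]

/-- the inclusion of the generators -/
def ι : Gen → Q6.Gen
  | .a => .a
  | .b => .b
  | .c => .c
  | .d => .d
  | .f => .f

end Q5

/-- the group of the sub-presentation on a, b, c, d, f -/
abbrev Q5 : Type := CoxPresented Q5.Gen Q5.edges Q5.extra

/-- `Q6` maps to `ON` -/
def subQ6 : SubPres ON.edges ON.extra Q6.edges Q6.extra where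
  ι := Q6.ι
  hnode := by decide
  hlabel := by decide
  hextra := by
    intro r hr
    simp only [Q6.extra, List.mem_cons, List.not_mem_nil, or_false] at hr
    rcases hr with rfl
    simp only [map_mul, map_inv, map_pow, FreeGroup.map.of, Q6.ι, ON.extra, List.mem_cons,
      true_or, or_true]

/-- `Q5` maps to `Q6` -/
def subQ5 : SubPres Q6.edges Q6.extra Q5.edges Q5.extra where
  ι := Q5.ι
  hnode := by decide
  hlabel := by decide
  hextra := by
    intro r hr
    simp only [Q5.extra, List.mem_cons, List.not_mem_nil, or_false] at hr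
    rcases hr with rfl
    simp only [map_mul, map_inv, map_pow, FreeGroup.map.of, Q5.ι, Q6.extra, List.mem_cons,
      true_or, or_true]

theorem rangeQ6 : (Set.range fun y => FreeGroup.of (subQ6.ι y)) =
    ({ON.a, ON.b, ON.c, ON.d, ON.e, ON.f} : Set (FreeGroup ON.Gen)) := by
  ext z
  constructor
  · rintro ⟨y, rfl⟩
    cases y <;> simp [subQ6, Q6.ι]
  · intro hz
    simp only [Set.mem_insert_iff, Set.mem_singleton_iff] at hz
    rcases hz with rfl | rfl | rfl | rfl | rfl | rfl
    · exact ⟨.a, rfl⟩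
    · exact ⟨.b, rfl⟩
    · exact ⟨.c, rfl⟩
    · exact ⟨.d, rfl⟩
    · exact ⟨.e, rfl⟩
    · exact ⟨.f, rfl⟩

theorem rangeQ5 : (Set.range fun y => FreeGroup.of (subQ5.ι y)) =
    ({Q6.a, Q6.b, Q6.c, Q6.d, Q6.f} : Set (FreeGroup Q6.Gen)) := by
  ext z
  constructor
  · rintro ⟨y, rfl⟩
    cases y <;> simp [subQ5, Q5.ι]
  · intro hz
    simp only [Set.mem_insert_iff, Set.mem_singleton_iff] at hz
    rcases hz with rfl | rfl | rfl | rfl | rfl
    · exact ⟨.a, rfl⟩
    · exact ⟨.b, rfl⟩
    · exact ⟨.c, rfl⟩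
    · exact ⟨.d, rfl⟩
    · exact ⟨.f, rfl⟩

end Cfsg.Agent.Lib.Helper6.ONSub
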