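import Cfsg.Agent.Lib.Helper6.SimpG
import Cfsg.Agent.Lib.Helper6.ONTCData

/-! # O'Nan group: a word of order 5 (generated) -/

set_option autoImplicit false
set_option maxRecDepth 1000000
set_option maxHeartbeats 4000000

namespace Cfsg.Agent.Lib.Helper6.ONSimp

open Cfsg.Agent.Lib.Helper6.TC Cfsg.Agent.Lib.Helper6.Simp Cfsg.Agent.Lib.Helper6.SimpG Cfsg.Agent.Lib.Helper6.NatArr Cfsg.Agent.Lib.Helper6.ONTC

theorem chk_pow0u_0 : tab.minOKc [1, 6, 2, 7] 5 0 2500 = true := by decide +kernel

theorem chk_pow0u_1 : tab.minOKc [1, 6, 2, 7] 5 2500 2500 = true := by decide +kernel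

theorem chk_pow0u_2 : tab.minOKc [1, 6, 2, 7] 5 5000 2500 = true := by decide +kernel

theorem chk_pow0u_3 : tab.minOKc [1, 6, 2, 7] 5 7500 2500 = true := by decide +kernel

theorem chk_pow0u_4 : tab.minOKc [1, 6, 2, 7] 5 10000 2500 = true := by decide +kernel

theorem chk_pow0u_5 : tab.minOKc [1, 6, 2, 7] 5 12500 2500 = true := by decide +kernel

theorem chk_pow0u_6 : tab.minOKc [1, 6, 2, 7] 5 15000 2500 = true := by decide +kernel

theorem chk_pow0u_7 : tab.minOKc [1, 6, 2, 7] 5 17500 2500 = true := by decide +kernel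

theorem chk_pow0u_8 : tab.minOKc [1, 6, 2, 7] 5 20000 2500 = true := by decide +kernel

theorem chk_pow0u_9 : tab.minOKc [1, 6, 2, 7] 5 22500 2500 = true := by decide +kernel

theorem chk_pow0u_10 : tab.minOKc [1, 6, 2, 7] 5 25000 2500 = true := by decide +kernel

theorem chk_pow0u_11 : tab.minOKc [1, 6, 2, 7] 5 27500 2500 = true := by decide +kernel

theorem chk_pow0u_12 : tab.minOKc [1, 6, 2, 7] 5 30000 2500 = true := by decide +kernel

theorem chk_pow0u_13 : tab.minOKc [1, 6, 2, 7] 5 32500 2500 = true := by decide +kernel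

theorem chk_pow0u_14 : tab.minOKc [1, 6, 2, 7] 5 35000 2500 = true := by decide +kernel

theorem chk_pow0u_15 : tab.minOKc [1, 6, 2, 7] 5 37500 2500 = true := by decide +kernel

theorem chk_pow0u_16 : tab.minOKc [1, 6, 2, 7] 5 40000 2500 = true := by decide +kernel

theorem chk_pow0u_17 : tab.minOKc [1, 6, 2, 7] 5 42500 2500 = true := by decide +kernel

theorem chk_pow0u_18 : tab.minOKc [1, 6, 2, 7] 5 45000 2500 = true := by decide +kernel

theorem chk_pow0u_19 : tab.minOKc [1, 6, 2, 7] 5 47500 2500 = true := by decide +kernel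

theorem chk_pow0u_20 : tab.minOKc [1, 6, 2, 7] 5 50000 2500 = true := by decide +kernel

theorem chk_pow0u_21 : tab.minOKc [1, 6, 2, 7] 5 52500 2500 = true := by decide +kernel

theorem chk_pow0u_22 : tab.minOKc [1, 6, 2, 7] 5 55000 2500 = true := by decide +kernel

theorem chk_pow0u_23 : tab.minOKc [1, 6, 2, 7] 5 57500 2500 = true := by decide +kernel

theorem chk_pow0u_24 : tab.minOKc [1, 6, 2, 7] 5 60000 2500 = true := by decide +kernel

theorem chk_pow0u_25 : tab.minOKc [1, 6, 2, 7] 5 62500 2500 = true := by decide +kernel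

theorem chk_pow0u_26 : tab.minOKc [1, 6, 2, 7] 5 65000 2500 = true := by decide +kernel

theorem chk_pow0u_27 : tab.minOKc [1, 6, 2, 7] 5 67500 2500 = true := by decide +kernel

theorem chk_pow0u_28 : tab.minOKc [1, 6, 2, 7] 5 70000 2500 = true := by decide +kernel

theorem chk_pow0u_29 : tab.minOKc [1, 6, 2, 7] 5 72500 2500 = true := by decide +kernel

theorem chk_pow0u_30 : tab.minOKc [1, 6, 2, 7] 5 75000 2500 = true := by decide +kernel

theorem chk_pow0u_31 : tab.minOKc [1, 6, 2, 7] 5 77500 2500 = true := by decide +kernel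

theorem chk_pow0u_32 : tab.minOKc [1, 6, 2, 7] 5 80000 2500 = true := by decide +kernel

theorem chk_pow0u_33 : tab.minOKc [1, 6, 2, 7] 5 82500 2500 = true := by decide +kernel

theorem chk_pow0u_34 : tab.minOKc [1, 6, 2, 7] 5 85000 2500 = true := by decide +kernel

theorem chk_pow0u_35 : tab.minOKc [1, 6, 2, 7] 5 87500 2500 = true := by decide +kernel

theorem chk_pow0u_36 : tab.minOKc [1, 6, 2, 7] 5 90000 2500 = true := by decide +kernel

theorem chk_pow0u_37 : tab.minOKc [1, 6, 2, 7] 5 92500 2500 = true := by decide +kernel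

theorem chk_pow0u_38 : tab.minOKc [1, 6, 2, 7] 5 95000 2500 = true := by decide +kernel

theorem chk_pow0u_39 : tab.minOKc [1, 6, 2, 7] 5 97500 2500 = true := by decide +kernel

theorem chk_pow0u_40 : tab.minOKc [1, 6, 2, 7] 5 100000 2500 = true := by decide +kernel

theorem chk_pow0u_41 : tab.minOKc [1, 6, 2, 7] 5 102500 2500 = true := by decide +kernel

theorem chk_pow0u_42 : tab.minOKc [1, 6, 2, 7] 5 105000 2500 = true := by decide +kernel

theorem chk_pow0u_43 : tab.minOKc [1, 6, 2, 7] 5 107500 2500 = true := by decide +kernel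

theorem chk_pow0u_44 : tab.minOKc [1, 6, 2, 7] 5 110000 2500 = true := by decide +kernel

theorem chk_pow0u_45 : tab.minOKc [1, 6, 2, 7] 5 112500 2500 = true := by decide +kernel

theorem chk_pow0u_46 : tab.minOKc [1, 6, 2, 7] 5 115000 2500 = true := by decide +kernel

theorem chk_pow0u_47 : tab.minOKc [1, 6, 2, 7] 5 117500 2500 = true := by decide +kernel

theorem chk_pow0u_48 : tab.minOKc [1, 6, 2, 7] 5 120000 2500 = true := by decide +kernel

theorem chk_pow0u_49 : tab.minOKc [1, 6, 2, 7] 5 122500 2500 = true := by decide +kernel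

theorem chk_pow0u : tab.minOK [1, 6, 2, 7] 5 = true := by
  refine Tab.minOK_of_chunks tab [1, 6, 2, 7] 5 2500 50 (by decide +kernel) (by norm_num)
    (by show 122760 ≤ 50 * 2500; norm_num) ?_
  intro i hi
  interval_cases i
  · exact chk_pow0u_0
  · exact chk_pow0u_1
  · exact chk_pow0u_2
  · exact chk_pow0u_3
  · exact chk_pow0u_4
  · exact chk_pow0u_5
  · exact chk_pow0u_6
  · exact chk_pow0u_7
  · exact chk_pow0u_8
  · exact chk_pow0u_9
  · exact chk_pow0u_10
  · exact chk_pow0u_11
  · exact chk_pow0u_12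
  · exact chk_pow0u_13
  · exact chk_pow0u_14
  · exact chk_pow0u_15
  · exact chk_pow0u_16
  · exact chk_pow0u_17
  · exact chk_pow0u_18
  · exact chk_pow0u_19
  · exact chk_pow0u_20
  · exact chk_pow0u_21
  · exact chk_pow0u_22
  · exact chk_pow0u_23
  · exact chk_pow0u_24
  · exact chk_pow0u_25
  · exact chk_pow0u_26
  · exact chk_pow0u_27
  · exact chk_pow0u_28
  · exact chk_pow0u_29
  · exact chk_pow0u_30
  · exact chk_pow0u_31
  · exact chk_pow0u_32
  · exact chk_pow0u_33
  · exact chk_pow0u_34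
  · exact chk_pow0u_35
  · exact chk_pow0u_36
  · exact chk_pow0u_37
  · exact chk_pow0u_38
  · exact chk_pow0u_39
  · exact chk_pow0u_40
  · exact chk_pow0u_41
  · exact chk_pow0u_42
  · exact chk_pow0u_43
  · exact chk_pow0u_44
  · exact chk_pow0u_45
  · exact chk_pow0u_46
  · exact chk_pow0u_47
  · exact chk_pow0u_48
  · exact chk_pow0u_49

end Cfsg.Agent.Lib.Helper6.ONSimp
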