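import Cfsg.Agent.Lib.Helper6.SimpG
import Cfsg.Agent.Lib.Helper6.ONGen
import Cfsg.Agent.Lib.Helper6.ONTC
import Cfsg.Agent.Lib.Helper6.ONSub
import Cfsg.Agent.Lib.Helper6.ONQ6TC
import Cfsg.Agent.Lib.Helper6.ONQ5TC
import Cfsg.Agent.Lib.Helper6.ONSimpL
import Cfsg.Agent.Lib.Helper6.ONSimpO0
import Cfsg.Agent.Lib.Helper6.ONSimpO1
import Cfsg.Agent.Lib.Helper6.ONSimpO2
import Cfsg.Agent.Lib.Helper6.ONSimpO3
import Cfsg.Agent.Lib.Helper6.ONSimpP0u
import Cfsg.Agent.Lib.Helper6.ONSimpP0x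
import Cfsg.Agent.Lib.Helper6.ONSimpP1u
import Cfsg.Agent.Lib.Helper6.ONSimpP1x

/-! # The presented O'Nan group is simple of order 460815505920 -/

set_option autoImplicit false
set_option maxRecDepth 100000

namespace Cfsg.Agent.Lib.Helper6.ONSimple

open Cfsg.Spor Cfsg.Agent.Lib.Helper6.Simp Cfsg.Agent.Lib.Helper6.SimpG Cfsg.Agent.Lib.Helper6.ONSub
  Cfsg.Agent.Lib.Helper6.TC Cfsg.Agent.Lib.Helper6.TCG Cfsg.Agent.Lib.Helper6.NatArr

/-- the upper bound for the order, along the chain of sub-presentations -/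
theorem ub : Finite ON ∧ Nat.card ON ≤ 460815505920 := by
  have h2 := finite_card_of_index_empty ONQ5TC.main (by norm_num)
  have h1 := subQ5.finite_card_le ONQ6TC.S rangeQ5.symm ONQ6TC.main (by norm_num) h2.1
    (le_of_eq h2.2)
  have h0 := subQ6.finite_card_le ONTC.S rangeQ6.symm ONTC.main (by norm_num) h1.1 h1.2
  exact ⟨h0.1, h0.2.trans (by norm_num)⟩

/-- the order, and the action on the cosets is faithful -/
theorem card_inj : Nat.card ON = 460815505920 ∧ Function.Injective ONTC.data.ρ :=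
  card_eq_and_injective' ONTC.data ub ONSimp.levels ONSimp.chain_ok ONSimp.chain_prod

theorem cnt_zero' (B : ℕ) : cnt B 0 = 0 := rfl

attribute [local irreducible] cnt

/-- the rows of orbit 0 lie in one orbit of the subgroup -/
def orb0 : OrbS ONTC.data where
  a := ONSimp.orb0_root
  ha := show 1 < 122760 by norm_num
  B := ONSimp.orb0_B
  chk_run := ONSimp.orb0_run

theorem cnt0 : cnt ONSimp.orb0_B 122760 = 58653 := by
  have h : (122760 : ℕ) = 0 + 20000 + 20000 + 20000 + 20000 + 20000 + 20000 + 2760 := by norm_num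
  rw [h, cnt_add, cnt_add, cnt_add, cnt_add, cnt_add, cnt_add, cnt_add]
  simp only [Nat.zero_add, Nat.reduceAdd]
  rw [cnt_zero', ONSimp.orb0_cnt0, ONSimp.orb0_cnt1, ONSimp.orb0_cnt2, ONSimp.orb0_cnt3,
    ONSimp.orb0_cnt4, ONSimp.orb0_cnt5, ONSimp.orb0_cnt6]

/-- the rows of orbit 1 lie in one orbit of the subgroup -/
def orb1 : OrbS ONTC.data where
  a := ONSimp.orb1_root
  ha := show 10 < 122760 by norm_num
  B := ONSimp.orb1_B
  chk_run := ONSimp.orb1_run

theorem cnt1 : cnt ONSimp.orb1_B 122760 = 52136 := by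
  have h : (122760 : ℕ) = 0 + 20000 + 20000 + 20000 + 20000 + 20000 + 20000 + 2760 := by norm_num
  rw [h, cnt_add, cnt_add, cnt_add, cnt_add, cnt_add, cnt_add, cnt_add]
  simp only [Nat.zero_add, Nat.reduceAdd]
  rw [cnt_zero', ONSimp.orb1_cnt0, ONSimp.orb1_cnt1, ONSimp.orb1_cnt2, ONSimp.orb1_cnt3,
    ONSimp.orb1_cnt4, ONSimp.orb1_cnt5, ONSimp.orb1_cnt6]

/-- the rows of orbit 2 lie in one orbit of the subgroup -/
def orb2 : OrbS ONTC.data where
  a := ONSimp.orb2_root
  ha := show 15 < 122760 by norm_num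
  B := ONSimp.orb2_B
  chk_run := ONSimp.orb2_run

theorem cnt2 : cnt ONSimp.orb2_B 122760 = 5586 := by
  have h : (122760 : ℕ) = 0 + 20000 + 20000 + 20000 + 20000 + 20000 + 20000 + 2760 := by norm_num
  rw [h, cnt_add, cnt_add, cnt_add, cnt_add, cnt_add, cnt_add, cnt_add]
  simp only [Nat.zero_add, Nat.reduceAdd]
  rw [cnt_zero', ONSimp.orb2_cnt0, ONSimp.orb2_cnt1, ONSimp.orb2_cnt2, ONSimp.orb2_cnt3,
    ONSimp.orb2_cnt4, ONSimp.orb2_cnt5, ONSimp.orb2_cnt6]

/-- the rows of orbit 3 lie in one orbit of the subgroup -/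
def orb3 : OrbS ONTC.data where
  a := ONSimp.orb3_root
  ha := show 32 < 122760 by norm_num
  B := ONSimp.orb3_B
  chk_run := ONSimp.orb3_run

theorem cnt3 : cnt ONSimp.orb3_B 122760 = 6384 := by
  have h : (122760 : ℕ) = 0 + 20000 + 20000 + 20000 + 20000 + 20000 + 20000 + 2760 := by norm_num
  rw [h, cnt_add, cnt_add, cnt_add, cnt_add, cnt_add, cnt_add, cnt_add]
  simp only [Nat.zero_add, Nat.reduceAdd]
  rw [cnt_zero', ONSimp.orb3_cnt0, ONSimp.orb3_cnt1, ONSimp.orb3_cnt2, ONSimp.orb3_cnt3,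
    ONSimp.orb3_cnt4, ONSimp.orb3_cnt5, ONSimp.orb3_cnt6]

theorem chk_cover : ((((1 ||| ONSimp.orb0_B) ||| ONSimp.orb1_B) ||| ONSimp.orb2_B) ||| ONSimp.orb3_B) =
    2 ^ 122760 - 1 := by decide +kernel

theorem chk_disj0_1 : Nat.land ONSimp.orb0_B ONSimp.orb1_B = 0 := by decide +kernel

theorem chk_disj0_2 : Nat.land ONSimp.orb0_B ONSimp.orb2_B = 0 := by decide +kernel

theorem chk_disj0_3 : Nat.land ONSimp.orb0_B ONSimp.orb3_B = 0 := by decide +kernel

theorem chk_disj1_0 : Nat.land ONSimp.orb1_B ONSimp.orb0_B = 0 := by decide +kernel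

theorem chk_disj1_2 : Nat.land ONSimp.orb1_B ONSimp.orb2_B = 0 := by decide +kernel

theorem chk_disj1_3 : Nat.land ONSimp.orb1_B ONSimp.orb3_B = 0 := by decide +kernel

theorem chk_disj2_0 : Nat.land ONSimp.orb2_B ONSimp.orb0_B = 0 := by decide +kernel

theorem chk_disj2_1 : Nat.land ONSimp.orb2_B ONSimp.orb1_B = 0 := by decide +kernel

theorem chk_disj2_3 : Nat.land ONSimp.orb2_B ONSimp.orb3_B = 0 := by decide +kernel

theorem chk_disj3_0 : Nat.land ONSimp.orb3_B ONSimp.orb0_B = 0 := by decide +kernel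

theorem chk_disj3_1 : Nat.land ONSimp.orb3_B ONSimp.orb1_B = 0 := by decide +kernel

theorem chk_disj3_2 : Nat.land ONSimp.orb3_B ONSimp.orb2_B = 0 := by decide +kernel

theorem chk_o0 : ONSimp.orb0_B.testBit 0 = false := by decide +kernel

theorem chk_o1 : ONSimp.orb1_B.testBit 0 = false := by decide +kernel

theorem chk_o2 : ONSimp.orb2_B.testBit 0 = false := by decide +kernel

theorem chk_o3 : ONSimp.orb3_B.testBit 0 = false := by decide +kernel

/-- the group is generated by its elements of order five -/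
theorem hgen : Subgroup.closure {g : ON | g ^ 5 = 1} = ⊤ := by
  have hinj := card_inj.2
  have key : ∀ (x0 : ℕ) (u : List ℕ), ONTC.data.T.minOK u 5 = true →
      ONTC.data.T.minOK (x0 :: u) 5 = true →
      ONTC.data.γ x0 ∈ Subgroup.closure {g : ON | g ^ 5 = 1} := by
    intro x0 u h1 h2
    have e1 := wordG_pow_eq_one ONTC.data hinj h1
    have e2 := wordG_pow_eq_one ONTC.data hinj h2
    have : ONTC.data.γ x0 = SimpG.wordG ONTC.data (x0 :: u) * (SimpG.wordG ONTC.data u)⁻¹ := by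
      unfold SimpG.wordG
      rw [List.map_cons, List.prod_cons]
      group
    rw [this]
    exact Subgroup.mul_mem _ (Subgroup.subset_closure e2)
      (Subgroup.inv_mem _ (Subgroup.subset_closure e1))
  have ha : (PresentedGroup.of ON.Gen.a : ON) ∈ Subgroup.closure {g : ON | g ^ 5 = 1} :=
    key 0 [1, 6, 2, 7] ONSimp.chk_pow0u ONSimp.chk_pow0x
  have he : (PresentedGroup.of ON.Gen.e : ON) ∈ Subgroup.closure {g : ON | g ^ 5 = 1} :=
    key 4 [3, 6, 4, 7] ONSimp.chk_pow1u ONSimp.chk_pow1x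
  exact ONGen.closure_eq_top ha he

/-- **The presented O'Nan group is simple of order 460815505920** -/
theorem main : IsSimpleGroup ON ∧ Nat.card ON = 460815505920 := by
  have hfin : Finite ON := ub.1
  refine ⟨?_, card_inj.1⟩
  refine simple_of_conn ONTC.data card_inj.2 (r := 4) ![orb0, orb1, orb2, orb3] ![58653, 52136, 5586, 6384] ?_ ?_ ?_ ?_ ?_ 5 ?_ hgen ?_
  · intro i
    fin_cases i
    · exact cnt0
    · exact cnt1
    · exact cnt2
    · exact cnt3
  · intro b hb
    have hb' : b < 122760 := hb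
    have h1 : (2 ^ 122760 - 1).testBit b = true := by
      rw [Nat.testBit_two_pow_sub_one]
      exact decide_eq_true hb'
    rw [← chk_cover] at h1
    simp only [Nat.testBit_or, Bool.or_eq_true] at h1
    rcases h1 with (((h | h) | h) | h) | h
    · exact Or.inl (Nat.testBit_one_eq_true_iff_self_eq_zero.mp h)
    · exact Or.inr ⟨0, h⟩
    · exact Or.inr ⟨1, h⟩
    · exact Or.inr ⟨2, h⟩
    · exact Or.inr ⟨3, h⟩
  · intro i j hij
    fin_cases i <;> fin_cases j
    · exact absurd rfl hij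
    · exact chk_disj0_1
    · exact chk_disj0_2
    · exact chk_disj0_3
    · exact chk_disj1_0
    · exact absurd rfl hij
    · exact chk_disj1_2
    · exact chk_disj1_3
    · exact chk_disj2_0
    · exact chk_disj2_1
    · exact absurd rfl hij
    · exact chk_disj2_3
    · exact chk_disj3_0
    · exact chk_disj3_1
    · exact chk_disj3_2
    · exact absurd rfl hij
  · intro i
    fin_cases i
    · exact chk_o0
    · exact chk_o1
    · exact chk_o2
    · exact chk_o3
  · show ∀ I : Finset (Fin 4), I.Nonempty → (1 + ∑ i ∈ I, ![58653, 52136, 5586, 6384] i) ∣ 122760 →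
      1 + ∑ i ∈ I, ![58653, 52136, 5586, 6384] i = 122760
    decide
  · rw [card_inj.1]
    show (460815505920 / 122760).Coprime 5
    norm_num
  · show 1 < 122760
    norm_num

end Cfsg.Agent.Lib.Helper6.ONSimple
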