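import Mathlib
import Cfsg.Agent.H2.UniqueOrderP

/-!
# S3304 piece (P-M6A): all involutions central ⇒ Sylow 2-subgroups are `Q₁₆`
-/

set_option autoImplicit false
set_option linter.style.haveILetI false
set_option linter.unusedVariables false

namespace Cfsg.Agent.Lib.Helper5.S3304

variable {X : Type*} [Group X] [Finite X]

theorem sylow_quaternion16 (Q : Subgroup X) [Q.Normal] (e : ↥Q ≃* QuaternionGroup 2)
    (h48 : Nat.card X = 48) (hZ : Nat.card ↥(Subgroup.center X) = 2)
    (hinv : ∀ u : X, u * u = 1 → u ∈ Subgroup.center X) :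
    ∀ P : Sylow 2 X, Nonempty (↥(P : Subgroup X) ≃* QuaternionGroup 4) := by
  classical
  intro P
  haveI : Fact (Nat.Prime 2) := ⟨Nat.prime_two⟩
  have hP16 : Nat.card ↥(P : Subgroup X) = 16 := by
    rw [Sylow.card_eq_multiplicity, h48]
    have : (48 : ℕ).factorization 2 = 4 := by
      rw [show (48 : ℕ) = 2 ^ 4 * 3 by norm_num, Nat.factorization_mul (by norm_num) (by norm_num),
        Nat.Prime.factorization_pow Nat.prime_two]
      simp [Nat.factorization_eq_zero_of_not_dvd (show ¬ 2 ∣ 3 by norm_num)]
    rw [this]; norm_num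
  -- the centre has exactly one nontrivial element
  have hcen : ∀ u v : X, u ∈ Subgroup.center X → v ∈ Subgroup.center X → u ≠ 1 → v ≠ 1 → u = v := by
    intro u v hu hv hu1 hv1
    by_contra huv
    have h3 : 3 ≤ Nat.card ↥(Subgroup.center X) := by
      let f : Fin 3 → ↥(Subgroup.center X) := ![1, ⟨u, hu⟩, ⟨v, hv⟩]
      have hf : Function.Injective f := by
        intro a b hab
        have e01 : (1 : ↥(Subgroup.center X)) ≠ ⟨u, hu⟩ :=
          fun h => hu1 (congrArg Subtype.val h).symm
        have e02 : (1 : ↥(Subgroup.center X)) ≠ ⟨v, hv⟩ :=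
          fun h => hv1 (congrArg Subtype.val h).symm
        have e12 : (⟨u, hu⟩ : ↥(Subgroup.center X)) ≠ ⟨v, hv⟩ :=
          fun h => huv (congrArg Subtype.val h)
        fin_cases a <;> fin_cases b <;> first
          | rfl
          | exact absurd hab e01
          | exact absurd hab e02
          | exact absurd hab e12
          | exact absurd hab.symm e01
          | exact absurd hab.symm e02
          | exact absurd hab.symm e12
      have := Nat.card_le_card_of_injective f hf
      simpa using this
    omega
  -- unique subgroup of order 2 in `P`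
  have huniq : ∀ H K : Subgroup ↥(P : Subgroup X), Nat.card H = 2 → Nat.card K = 2 → H = K := by
    have key : ∀ H : Subgroup ↥(P : Subgroup X), Nat.card H = 2 →
        ∃ u : ↥(P : Subgroup X), u ≠ 1 ∧ ((u : X) ∈ Subgroup.center X) ∧ H = Subgroup.zpowers u := by
      intro H hH
      haveI : Nontrivial ↥H := by
        rw [← Finite.one_lt_card_iff_nontrivial, hH]; norm_num
      obtain ⟨u, hu⟩ := exists_ne (1 : ↥H)
      have ho : orderOf u ∣ 2 := by
        have := orderOf_dvd_natCard u
        rwa [hH] at this
      have ho2 : orderOf u = 2 := by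
        rcases (Nat.dvd_prime Nat.prime_two).1 ho with h | h
        · exact absurd (orderOf_eq_one_iff.1 h) hu
        · exact h
      have huu : ((u : ↥(P : Subgroup X)) : X) * ((u : ↥(P : Subgroup X)) : X) = 1 := by
        have : u ^ 2 = 1 := by
          have := pow_orderOf_eq_one u
          rwa [ho2] at this
        have h2 := congrArg (fun t : ↥H => ((t : ↥(P : Subgroup X)) : X)) this
        simpa [pow_two] using h2
      refine ⟨(u : ↥(P : Subgroup X)), ?_, hinv _ huu, ?_⟩
      · intro h1
        apply hu
        exact Subtype.ext h1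
      · symm
        apply Subgroup.eq_of_le_of_card_ge
        · rw [Subgroup.zpowers_le]; exact u.2
        · rw [hH, Nat.card_zpowers, Subgroup.orderOf_coe, ho2]
    intro H K hH hK
    obtain ⟨u, hu1, huc, rfl⟩ := key H hH
    obtain ⟨v, hv1, hvc, rfl⟩ := key K hK
    have : (u : X) = (v : X) := hcen _ _ huc hvc
      (fun h => hu1 (Subtype.ext h)) (fun h => hv1 (Subtype.ext h))
    rw [Subtype.ext this]
  rcases Cfsg.Agent.H2.UOP.main 2 P.2 huniq with hcyc | ⟨-, n, ⟨f⟩⟩
  · -- cyclic: impossible, `Q ≤ P` is non-abelian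
    exfalso
    have hQp : IsPGroup 2 ↥Q := by
      apply IsPGroup.of_card (n := 3)
      rw [Nat.card_congr e.toEquiv, Nat.card_eq_fintype_card, QuaternionGroup.card]
      norm_num
    have hQP : Q ≤ (P : Subgroup X) := hQp.le_sylow_of_normal P
    haveI := hcyc
    have hcomm : ∀ a b : ↥(P : Subgroup X), a * b = b * a := by
      intro a b
      obtain ⟨g, hg⟩ := IsCyclic.exists_generator (α := ↥(P : Subgroup X))
      obtain ⟨i, rfl⟩ := Subgroup.mem_zpowers_iff.1 (hg a)
      obtain ⟨j, rfl⟩ := Subgroup.mem_zpowers_iff.1 (hg b)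
      rw [← zpow_add, ← zpow_add, add_comm]
    set x := e.symm (QuaternionGroup.a 1) with hx
    set y := e.symm (QuaternionGroup.xa 0) with hy
    have h1 := hcomm ⟨x.1, hQP x.2⟩ ⟨y.1, hQP y.2⟩
    have h2 : x * y = y * x := by
      apply Subtype.ext
      have := congrArg (fun t : ↥(P : Subgroup X) => (t : X)) h1
      simpa using this
    rw [hx, hy, ← map_mul, ← map_mul] at h2
    have h3 := e.symm.injective h2
    revert h3
    decide
  · have hc : Nat.card ↥(P : Subgroup X) = 4 * 2 ^ n := by
      haveI : NeZero (2 ^ n) := ⟨by positivity⟩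
      rw [Nat.card_congr f.toEquiv, Nat.card_eq_fintype_card, QuaternionGroup.card]
    rw [hP16] at hc
    have hn : 2 ^ n = 4 := by omega
    rw [hn] at f
    exact ⟨f⟩

end Cfsg.Agent.Lib.Helper5.S3304
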