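import Mathlib

/-!
# Even lattices of rank 24 without roots: the classes modulo twice the lattice (counting argument)
-/

set_option autoImplicit false

namespace Cfsg.Agent.Lib.Helper6.AbsLat

open Matrix

/-- the quadratic form -/
def Q (B : Matrix (Fin 24) (Fin 24) ℤ) (x : Fin 24 → ℤ) : ℤ := x ⬝ᵥ (B *ᵥ x)

/-- the bilinear form -/
def bil (B : Matrix (Fin 24) (Fin 24) ℤ) (x y : Fin 24 → ℤ) : ℤ := x ⬝ᵥ (B *ᵥ y)

/-- the hypotheses: symmetric, positive definite, even, no vectors of norm 2 -/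
structure Hyp (B : Matrix (Fin 24) (Fin 24) ℤ) : Prop where
  symm : B.IsSymm
  pos : ∀ x : Fin 24 → ℤ, x ≠ 0 → 0 < x ⬝ᵥ (B *ᵥ x)
  even : ∀ x : Fin 24 → ℤ, (2 : ℤ) ∣ x ⬝ᵥ (B *ᵥ x)
  no2 : ∀ x : Fin 24 → ℤ, x ⬝ᵥ (B *ᵥ x) ≠ 2

variable {B : Matrix (Fin 24) (Fin 24) ℤ}

theorem bil_self (x : Fin 24 → ℤ) : bil B x x = Q B x := rfl

theorem bil_comm (h : Hyp B) (u v : Fin 24 → ℤ) : bil B u v = bil B v u := by
  unfold bil
  rw [Matrix.dotProduct_mulVec, ← Matrix.mulVec_transpose, h.symm.eq, dotProduct_comm]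

theorem bil_add_left (u v w : Fin 24 → ℤ) : bil B (u + v) w = bil B u w + bil B v w := by
  unfold bil; rw [add_dotProduct]

theorem bil_smul_left (c : ℤ) (u w : Fin 24 → ℤ) : bil B (c • u) w = c * bil B u w := by
  unfold bil; rw [smul_dotProduct, smul_eq_mul]

theorem bil_sum_left {ι : Type*} (s : Finset ι) (f : ι → Fin 24 → ℤ) (w : Fin 24 → ℤ) :
    bil B (∑ i ∈ s, f i) w = ∑ i ∈ s, bil B (f i) w := by
  unfold bil; rw [sum_dotProduct]

theorem Q_sub (h : Hyp B) (x y : Fin 24 → ℤ) : Q B (x - y) = Q B x + Q B y - 2 * bil B x y := by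
  have := bil_comm h y x
  unfold Q bil at *
  rw [Matrix.mulVec_sub, sub_dotProduct, dotProduct_sub, dotProduct_sub, this]; ring

theorem Q_add (h : Hyp B) (x y : Fin 24 → ℤ) : Q B (x + y) = Q B x + Q B y + 2 * bil B x y := by
  have := bil_comm h y x
  unfold Q bil at *
  rw [Matrix.mulVec_add, add_dotProduct, dotProduct_add, dotProduct_add, this]; ring

theorem Q_two_smul (z : Fin 24 → ℤ) : Q B ((2 : ℤ) • z) = 4 * Q B z := by
  unfold Q
  rw [Matrix.mulVec_smul, smul_dotProduct, dotProduct_smul, smul_eq_mul, smul_eq_mul]; ring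

theorem Q_neg (x : Fin 24 → ℤ) : Q B (-x) = Q B x := by
  unfold Q
  rw [Matrix.mulVec_neg, neg_dotProduct, dotProduct_neg, neg_neg]

theorem Q_zero : Q B 0 = 0 := by
  unfold Q; simp

theorem Q_cases (h : Hyp B) (x : Fin 24 → ℤ) : (x = 0 ∧ Q B x = 0) ∨ (x ≠ 0 ∧ 4 ≤ Q B x) := by
  by_cases hx : x = 0
  · left; exact ⟨hx, by rw [hx, Q_zero]⟩
  · right
    refine ⟨hx, ?_⟩
    have h1 := h.pos x hx
    obtain ⟨k, hk⟩ := h.even x
    have h2 := h.no2 x
    unfold Q
    omega

theorem Q_even (h : Hyp B) (x : Fin 24 → ℤ) : (2 : ℤ) ∣ Q B x := h.even x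

/-- short vectors congruent modulo 2 are equal, opposite, or orthogonal of norm 8 -/
theorem short_congr (h : Hyp B) {x y : Fin 24 → ℤ} (hx : Q B x ≤ 8) (hy : Q B y ≤ 8)
    (hc : ∀ i, (2 : ℤ) ∣ (x - y) i) (h1 : y ≠ x) (h2 : y ≠ -x) :
    Q B x = 8 ∧ Q B y = 8 ∧ bil B x y = 0 := by
  have hz : ∃ z : Fin 24 → ℤ, x - y = (2 : ℤ) • z := by
    choose z hz using hc
    exact ⟨z, funext fun i => by simp [hz i]⟩
  obtain ⟨z, hz⟩ := hz
  have hw : x + y = (2 : ℤ) • (z + y) := by
    have : x + y = (x - y) + (2 : ℤ) • y := by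
      ext i; simp; ring
    rw [this, hz, smul_add]
  have hz0 : z ≠ 0 := by
    rintro rfl
    rw [smul_zero, sub_eq_zero] at hz
    exact h1 hz.symm
  have hw0 : z + y ≠ 0 := by
    intro h0
    rw [h0, smul_zero] at hw
    apply h2
    exact (neg_eq_of_add_eq_zero_right hw).symm ▸ rfl
  have e1 := Q_sub h x y
  have e2 := Q_add h x y
  rw [hz, Q_two_smul] at e1
  rw [hw, Q_two_smul] at e2
  rcases Q_cases h z with ⟨h0, _⟩ | ⟨_, hz4⟩
  · exact absurd h0 hz0
  rcases Q_cases h (z + y) with ⟨h0, _⟩ | ⟨_, hw4⟩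
  · exact absurd h0 hw0
  refine ⟨by omega, by omega, by omega⟩

/-- pairwise orthogonal vectors of nonzero norm: at most 24 -/
theorem card_le_of_orthogonal (h : Hyp B) {ι : Type*} [Fintype ι] (v : ι → Fin 24 → ℤ)
    (h0 : ∀ i, Q B (v i) ≠ 0) (ho : ∀ i j, i ≠ j → bil B (v i) (v j) = 0) :
    Fintype.card ι ≤ 24 := by
  classical
  have hli : LinearIndependent ℤ v := by
    rw [linearIndependent_iff']
    intro s g hsum j hj
    have h1 : bil B (∑ i ∈ s, g i • v i) (v j) = 0 := by
      rw [hsum]; unfold bil; simp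
    rw [bil_sum_left] at h1
    rw [Finset.sum_eq_single j] at h1
    · rw [bil_smul_left, bil_self] at h1
      rcases mul_eq_zero.mp h1 with h2 | h2
      · exact h2
      · exact absurd h2 (h0 j)
    · intro i _ hij
      rw [bil_smul_left, ho i j hij, mul_zero]
    · intro hj'
      exact absurd hj hj'
  have := hli.fintype_card_le_finrank
  rwa [Module.finrank_fin_fun] at this

/-- vectors of norm 8 any two of which are equal, opposite or orthogonal: at most 48 -/
theorem card_le_of_orth (h : Hyp B) (A : Finset (Fin 24 → ℤ)) (hn : ∀ y ∈ A, Q B y = 8)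
    (hA : ∀ y ∈ A, ∀ y' ∈ A, y' = y ∨ y' = -y ∨ bil B y y' = 0) : A.card ≤ 48 := by
  classical
  let pr : (Fin 24 → ℤ) → Finset (Fin 24 → ℤ) := fun y => {y, -y}
  let P := A.image pr
  have hrep : ∀ p : ↥P, ∃ y ∈ A, pr y = p.1 := fun p => Finset.mem_image.mp p.2
  choose rep hrepA hrepP using hrep
  have hP : Fintype.card ↥P ≤ 24 := by
    apply card_le_of_orthogonal h (fun p => rep p)
    · intro p; rw [hn _ (hrepA p)]; norm_num
    · intro p p' hpp
      rcases hA _ (hrepA p) _ (hrepA p') with e | e | e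
      · exfalso; apply hpp; apply Subtype.ext; rw [← hrepP p, ← hrepP p', e]
      · exfalso; apply hpp; apply Subtype.ext; rw [← hrepP p, ← hrepP p', e]
        show ({rep p, -rep p} : Finset _) = {-rep p, - -rep p}
        rw [neg_neg, Finset.pair_comm]
      · exact e
  have hA' : A.card ≤ 2 * P.card := by
    apply Finset.card_le_mul_card_image
    intro p hp
    have hsub : A.filter (fun y => pr y = p) ⊆ {rep ⟨p, hp⟩, -rep ⟨p, hp⟩} := by
      intro y hy
      rw [Finset.mem_filter] at hy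
      have h1 : y ∈ pr y := Finset.mem_insert_self _ _
      rw [hy.2] at h1
      have h2 := hrepP ⟨p, hp⟩
      simp only at h2
      rw [← h2] at h1
      exact h1
    exact (Finset.card_le_card hsub).trans Finset.card_le_two
  rw [Fintype.card_coe] at hP
  omega

/-- reduction modulo 2 -/
def red (x : Fin 24 → ℤ) : Fin 24 → ZMod 2 := fun i => (x i : ZMod 2)

theorem red_eq_iff (x y : Fin 24 → ℤ) : red y = red x ↔ ∀ i, (2 : ℤ) ∣ (x - y) i := by
  rw [funext_iff]
  apply forall_congr'
  intro i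
  exact ZMod.intCast_eq_intCast_iff_dvd_sub (y i) (x i) 2

/-- the weights -/
def wt (B : Matrix (Fin 24) (Fin 24) ℤ) (x : Fin 24 → ℤ) : ℕ :=
  if Q B x = 0 then 48 else if Q B x = 8 then 1 else 24

theorem card_red : Fintype.card (Fin 24 → ZMod 2) = 2 ^ 24 := by
  rw [Fintype.card_fun, ZMod.card, Fintype.card_fin]

section count

variable (h : Hyp B) (S : Finset (Fin 24 → ℤ)) (hS : ∀ x, x ∈ S ↔ Q B x ≤ 8)
include h hS

theorem fib_tri {c : Fin 24 → ZMod 2} {x y : Fin 24 → ℤ}
    (hx : x ∈ S.filter (fun x => red x = c)) (hy : y ∈ S.filter (fun x => red x = c)) :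
    y = x ∨ y = -x ∨ (Q B x = 8 ∧ Q B y = 8 ∧ bil B x y = 0) := by
  rw [Finset.mem_filter, hS] at hx hy
  by_cases h1 : y = x
  · exact Or.inl h1
  · by_cases h2 : y = -x
    · exact Or.inr (Or.inl h2)
    · exact Or.inr (Or.inr (short_congr h hx.1 hy.1
        ((red_eq_iff x y).mp (hy.2.trans hx.2.symm)) h1 h2))

/-- the weight of the short vectors of a class is at most 48 -/
theorem sum_fib_le (c : Fin 24 → ZMod 2) : ∑ x ∈ S.filter (fun x => red x = c), wt B x ≤ 48 := by
  classical
  by_cases hne : (S.filter (fun x => red x = c)).Nonempty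
  · obtain ⟨x0, hx0⟩ := hne
    by_cases h8 : Q B x0 = 8
    · have hall : ∀ y ∈ S.filter (fun x => red x = c), Q B y = 8 := by
        intro y hy
        rcases fib_tri h S hS hx0 hy with h' | h' | h'
        · rw [h']; exact h8
        · rw [h', Q_neg]; exact h8
        · exact h'.2.1
      have hw : ∀ y ∈ S.filter (fun x => red x = c), wt B y = 1 := by
        intro y hy
        simp [wt, hall y hy]
      rw [Finset.sum_congr rfl hw, Finset.sum_const, smul_eq_mul, mul_one]
      apply card_le_of_orth h _ hall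
      intro y hy y' hy'
      rcases fib_tri h S hS hy hy' with h' | h' | h'
      · exact Or.inl h'
      · exact Or.inr (Or.inl h')
      · exact Or.inr (Or.inr h'.2.2)
    · have hsub : S.filter (fun x => red x = c) ⊆ {x0, -x0} := by
        intro y hy
        rcases fib_tri h S hS hx0 hy with h' | h' | h'
        · rw [h']; exact Finset.mem_insert_self _ _
        · rw [h']; exact Finset.mem_insert_of_mem (Finset.mem_singleton_self _)
        · exact absurd h'.1 h8
      by_cases h0 : x0 = 0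
      · have hsub' : S.filter (fun x => red x = c) ⊆ {0} := by
          intro y hy
          have := hsub hy
          rw [h0, neg_zero] at this
          simpa using this
        calc ∑ x ∈ S.filter (fun x => red x = c), wt B x
              ≤ ∑ x ∈ ({0} : Finset (Fin 24 → ℤ)), wt B x := Finset.sum_le_sum_of_subset hsub'
          _ = 48 := by simp [wt, Q_zero]
      · have hpos : 4 ≤ Q B x0 := by
          rcases Q_cases h x0 with ⟨h', _⟩ | ⟨_, h'⟩
          · exact absurd h' h0
          · exact h'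
        have hw : ∀ y ∈ ({x0, -x0} : Finset (Fin 24 → ℤ)), wt B y = 24 := by
          intro y hy
          have hn : Q B y = Q B x0 := by
            rcases Finset.mem_insert.mp hy with h' | h'
            · rw [h']
            · rw [Finset.mem_singleton.mp h', Q_neg]
          simp only [wt, hn]
          rw [if_neg (by omega), if_neg h8]
        calc ∑ x ∈ S.filter (fun x => red x = c), wt B x
              ≤ ∑ x ∈ ({x0, -x0} : Finset (Fin 24 → ℤ)), wt B x := Finset.sum_le_sum_of_subset hsub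
          _ = ∑ x ∈ ({x0, -x0} : Finset (Fin 24 → ℤ)), 24 := Finset.sum_congr rfl hw
          _ ≤ 48 := by
              rw [Finset.sum_const, smul_eq_mul]
              have := Finset.card_le_two (a := x0) (b := -x0)
              omega
  · rw [Finset.not_nonempty_iff_eq_empty.mp hne, Finset.sum_empty]; norm_num

theorem card_filter_norm (n : ℤ) (hn : n ≤ 8) :
    (S.filter (fun x => Q B x = n)).card = {x : Fin 24 → ℤ | Q B x = n}.ncard := by
  classical
  rw [← Set.ncard_coe_finset]
  congr 1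
  ext x
  simp only [Finset.coe_filter, hS, Set.mem_ofPred_eq]
  constructor
  · rintro ⟨_, h3⟩; exact h3
  · intro h3; exact ⟨by omega, h3⟩

theorem ncard_norm0 : {x : Fin 24 → ℤ | Q B x = 0}.ncard = 1 := by
  have : {x : Fin 24 → ℤ | Q B x = 0} = {0} := by
    ext x
    simp only [Set.mem_ofPred_eq, Set.mem_singleton_iff]
    constructor
    · intro h'
      rcases Q_cases h x with ⟨h0, _⟩ | ⟨_, h4⟩
      · exact h0
      · omega
    · rintro rfl
      exact Q_zero
  rw [this, Set.ncard_singleton]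

theorem sum_wt (h4 : {x : Fin 24 → ℤ | Q B x = 4}.ncard = 196560)
    (h6 : {x : Fin 24 → ℤ | Q B x = 6}.ncard = 16773120)
    (h8 : {x : Fin 24 → ℤ | Q B x = 8}.ncard = 398034000) :
    ∑ x ∈ S, wt B x = 48 * 2 ^ 24 := by
  classical
  have hW : ∀ x ∈ S, wt B x = (if Q B x = 0 then 48 else 0) + (if Q B x = 4 then 24 else 0) +
      (if Q B x = 6 then 24 else 0) + (if Q B x = 8 then 1 else 0) := by
    intro x hx
    have hx8 := (hS x).mp hx
    have hcases : Q B x = 0 ∨ Q B x = 4 ∨ Q B x = 6 ∨ Q B x = 8 := by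
      rcases Q_cases h x with ⟨_, h0⟩ | ⟨_, h4'⟩
      · exact Or.inl h0
      · obtain ⟨k, hk⟩ := Q_even h x
        omega
    rcases hcases with h' | h' | h' | h'
    · simp [wt, h']
    · simp [wt, h']
    · simp [wt, h']
    · simp [wt, h']
  rw [Finset.sum_congr rfl hW]
  simp only [Finset.sum_add_distrib, ← Finset.sum_filter, Finset.sum_const, smul_eq_mul]
  rw [card_filter_norm h S hS 0 (by norm_num), card_filter_norm h S hS 4 (by norm_num),
    card_filter_norm h S hS 6 (by norm_num), card_filter_norm h S hS 8 (by norm_num),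
    ncard_norm0 h S hS, h4, h6, h8]
  norm_num

/-- every class has short vectors of total weight exactly 48 -/
theorem sum_fib_eq (h4 : {x : Fin 24 → ℤ | Q B x = 4}.ncard = 196560)
    (h6 : {x : Fin 24 → ℤ | Q B x = 6}.ncard = 16773120)
    (h8 : {x : Fin 24 → ℤ | Q B x = 8}.ncard = 398034000) (c : Fin 24 → ZMod 2) :
    ∑ x ∈ S.filter (fun x => red x = c), wt B x = 48 := by
  classical
  have htot := Finset.sum_fiberwise S red (wt B)
  rw [sum_wt h S hS h4 h6 h8] at htot
  have hconst : ∑ _c : Fin 24 → ZMod 2, 48 = 48 * 2 ^ 24 := by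
    rw [Finset.sum_const, Finset.card_univ, card_red, smul_eq_mul, mul_comm]
  have := (Finset.sum_eq_sum_iff_of_le (s := Finset.univ)
    (f := fun c => ∑ x ∈ S.filter (fun x => red x = c), wt B x)
    (g := fun _ => 48) (fun c _ => sum_fib_le h S hS c)).mp (by rw [htot, hconst])
  exact this c (Finset.mem_univ c)

/-- the class of a vector of norm 8 contains exactly 48 vectors of norm 8 -/
theorem class_count (h4 : {x : Fin 24 → ℤ | Q B x = 4}.ncard = 196560)
    (h6 : {x : Fin 24 → ℤ | Q B x = 6}.ncard = 16773120)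
    (h8 : {x : Fin 24 → ℤ | Q B x = 8}.ncard = 398034000) (x : Fin 24 → ℤ) (hx : Q B x = 8) :
    {y : Fin 24 → ℤ | Q B y = 8 ∧ ∀ i, (2 : ℤ) ∣ (x - y) i}.ncard = 48 := by
  classical
  have hsum := sum_fib_eq h S hS h4 h6 h8 (red x)
  have hx0 : x ∈ S.filter (fun y => red y = red x) :=
    Finset.mem_filter.mpr ⟨(hS x).mpr (by omega), rfl⟩
  have hall : ∀ y ∈ S.filter (fun y => red y = red x), Q B y = 8 := by
    intro y hy
    rcases fib_tri h S hS hx0 hy with h' | h' | h'
    · rw [h']; exact hx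
    · rw [h', Q_neg]; exact hx
    · exact h'.2.1
  have hw : ∀ y ∈ S.filter (fun y => red y = red x), wt B y = 1 := by
    intro y hy
    simp [wt, hall y hy]
  rw [Finset.sum_congr rfl hw, Finset.sum_const, smul_eq_mul, mul_one] at hsum
  rw [← hsum, ← Set.ncard_coe_finset]
  congr 1
  ext y
  simp only [Set.mem_ofPred_eq, Finset.coe_filter, hS]
  constructor
  · rintro ⟨h1, h2⟩
    exact ⟨by omega, (red_eq_iff x y).mpr h2⟩
  · rintro ⟨h1, h2⟩
    have hy : y ∈ S.filter (fun y => red y = red x) := Finset.mem_filter.mpr ⟨(hS y).mpr h1, h2⟩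
    exact ⟨hall y hy, (red_eq_iff x y).mp h2⟩

end count

/-- the short vectors form a finite set -/
theorem finite_short (h : Hyp B) (h4 : {x : Fin 24 → ℤ | Q B x = 4}.ncard = 196560)
    (h6 : {x : Fin 24 → ℤ | Q B x = 6}.ncard = 16773120)
    (h8 : {x : Fin 24 → ℤ | Q B x = 8}.ncard = 398034000) :
    {x : Fin 24 → ℤ | Q B x ≤ 8}.Finite := by
  have f4 : {x : Fin 24 → ℤ | Q B x = 4}.Finite :=
    Set.finite_of_ncard_ne_zero (by rw [h4]; norm_num)
  have f6 : {x : Fin 24 → ℤ | Q B x = 6}.Finite :=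
    Set.finite_of_ncard_ne_zero (by rw [h6]; norm_num)
  have f8 : {x : Fin 24 → ℤ | Q B x = 8}.Finite :=
    Set.finite_of_ncard_ne_zero (by rw [h8]; norm_num)
  have hsub : {x : Fin 24 → ℤ | Q B x ≤ 8} ⊆
      (({0} ∪ {x | Q B x = 4}) ∪ {x | Q B x = 6}) ∪ {x | Q B x = 8} := by
    intro x hx
    have hx' : Q B x ≤ 8 := hx
    rcases Q_cases h x with ⟨h0, _⟩ | ⟨_, h4'⟩
    · left; left; left; exact h0
    · obtain ⟨k, hk⟩ := Q_even h x
      have : Q B x = 4 ∨ Q B x = 6 ∨ Q B x = 8 := by omega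
      rcases this with h' | h' | h'
      · left; left; right; exact h'
      · left; right; exact h'
      · right; exact h'
  exact ((((Set.finite_singleton 0).union f4).union f6).union f8).subset hsub

/-- **The classes of the norm-8 vectors modulo 2 have exactly 48 members.** -/
theorem main (h : Hyp B) (h4 : {x : Fin 24 → ℤ | Q B x = 4}.ncard = 196560)
    (h6 : {x : Fin 24 → ℤ | Q B x = 6}.ncard = 16773120)
    (h8 : {x : Fin 24 → ℤ | Q B x = 8}.ncard = 398034000) (x : Fin 24 → ℤ) (hx : Q B x = 8) :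
    {y : Fin 24 → ℤ | Q B y = 8 ∧ ∀ i, (2 : ℤ) ∣ (x - y) i}.ncard = 48 :=
  class_count h (finite_short h h4 h6 h8).toFinset
    (fun x => by rw [Set.Finite.mem_toFinset]; rfl) h4 h6 h8 x hx

end Cfsg.Agent.Lib.Helper6.AbsLat
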