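import Cfsg.Agent.Lib.Helper6.BitMat

/-! # A lower bound for the order of a group of matrices over the field with two elements

Straight-line programs over coded matrices, and the bound for the order of a subgroup given by a chain
of stabilisers of coded vectors: at each level, members of the current stabiliser with pairwise
distinct images of the next base vector. -/

set_option autoImplicit false
set_option linter.unusedSectionVars false

namespace Cfsg.Agent.Lib.Helper6.BitMat

open Matrix

/-- verification of a straight-line program on the list of all its nodes: node `k` is the product of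
two earlier nodes -/
def progOK (all : List (List ℕ)) : ℕ → List (ℕ × ℕ) → Bool
  | _, [] => true
  | k, (a, b) :: ps =>
    decide (a < k) && decide (b < k) &&
      (all.getD k [] == mulB (all.getD a []) (all.getD b [])) && progOK all (k + 1) ps

/-- a list of numbers has no repetition -/
def nodupB : List ℕ → Bool
  | [] => true
  | a :: l => !(l.contains a) && nodupB l

theorem nodup_of_nodupB : ∀ l : List ℕ, nodupB l = true → l.Nodup
  | [], _ => List.nodup_nil
  | a :: l, h => by
    rw [nodupB, Bool.and_eq_true, Bool.not_eq_true', ← Bool.not_eq_true, List.contains_iff_mem] at h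
    exact List.nodup_cons.mpr ⟨h.1, nodup_of_nodupB l h.2⟩

/-- a coded matrix fixes all the coded vectors of a list -/
def fixesAll (M : List ℕ) (bs : List ℕ) : Bool := bs.all fun b => app M b == b

/-- one level of the chain: the listed nodes fix the earlier base vectors and have distinct images of
the new one -/
def levelOK (n : ℕ) (nodes : List (List ℕ)) (bs : List ℕ) (b : ℕ) (idx : List ℕ) : Bool :=
  (idx.all fun k => fixesAll (nodes.getD k (idB n)) bs &&
      decide (app (nodes.getD k (idB n)) b < 2 ^ n)) &&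
    nodupB (idx.map fun k => app (nodes.getD k (idB n)) b)

/-- the whole chain -/
def chainOK (n : ℕ) (nodes : List (List ℕ)) : List ℕ → List (ℕ × List ℕ) → Bool
  | _, [] => true
  | bs, (b, idx) :: ls => levelOK n nodes bs b idx && chainOK n nodes (b :: bs) ls

section Chain

variable {ι : Type} [Fintype ι] [DecidableEq ι] {n : ℕ} (e : ι ≃ Fin n)

/-- all nodes are short lists coding members of `K` -/
def Good (K : Subgroup (GL ι (ZMod 2))) (nodes : List (List ℕ)) : Prop :=
  ∀ M ∈ nodes, M.length ≤ n ∧
    ∃ g ∈ K, ((g : GL ι (ZMod 2)) : Matrix ι ι (ZMod 2)) = toM e M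

theorem good_getD (K : Subgroup (GL ι (ZMod 2))) (nodes : List (List ℕ)) (h : Good e K nodes)
    (a : ℕ) : (nodes.getD a (idB n)).length ≤ n ∧
      ∃ g ∈ K, ((g : GL ι (ZMod 2)) : Matrix ι ι (ZMod 2)) = toM e (nodes.getD a (idB n)) := by
  by_cases ha : a < nodes.length
  · rw [List.getD_eq_getElem _ _ ha]
    exact h _ (List.getElem_mem ha)
  · rw [List.getD_eq_default _ _ (not_lt.mp ha)]
    exact ⟨le_of_eq (length_idB n), 1, K.one_mem, by rw [toM_idB]; rfl⟩

theorem prog_sound (K : Subgroup (GL ι (ZMod 2))) (all : List (List ℕ)) (ps : List (ℕ × ℕ)) :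
    ∀ k : ℕ, progOK all k ps = true →
      (∀ j < k, (all.getD j []).length ≤ n ∧
        ∃ g ∈ K, ((g : GL ι (ZMod 2)) : Matrix ι ι (ZMod 2)) = toM e (all.getD j [])) →
      ∀ j < k + ps.length, (all.getD j []).length ≤ n ∧
        ∃ g ∈ K, ((g : GL ι (ZMod 2)) : Matrix ι ι (ZMod 2)) = toM e (all.getD j []) := by
  induction ps with
  | nil => intro k _ h j hj; exact h j (by simpa using hj)
  | cons p ps ih =>
    intro k hk h j hj
    obtain ⟨a, b⟩ := p
    rw [progOK, Bool.and_eq_true, Bool.and_eq_true, Bool.and_eq_true, decide_eq_true_eq,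
      decide_eq_true_eq, beq_iff_eq] at hk
    obtain ⟨⟨⟨ha, hb⟩, hab⟩, hrest⟩ := hk
    apply ih (k + 1) hrest
    · intro j' hj'
      by_cases hjk : j' < k
      · exact h j' hjk
      · have : j' = k := by omega
        subst this
        obtain ⟨hla, ga, hga, hga'⟩ := h a ha
        obtain ⟨hlb, gb, hgb, hgb'⟩ := h b hb
        rw [hab]
        refine ⟨by rw [length_mulB]; exact hlb, ga * gb, K.mul_mem hga hgb, ?_⟩
        rw [Units.val_mul, hga', hgb', toM_mulB e _ _ hla]
    · rw [List.length_cons] at hj
      omega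

theorem good_of_progOK (K : Subgroup (GL ι (ZMod 2))) (all : List (List ℕ)) (ps : List (ℕ × ℕ))
    (k : ℕ) (hlen : all.length = k + ps.length) (hk : progOK all k ps = true)
    (h : ∀ j < k, (all.getD j []).length ≤ n ∧
      ∃ g ∈ K, ((g : GL ι (ZMod 2)) : Matrix ι ι (ZMod 2)) = toM e (all.getD j [])) :
    Good e K all := by
  intro M hM
  obtain ⟨j, hj, rfl⟩ := List.getElem_of_mem hM
  have := prog_sound e K all ps k hk h j (by omega)
  rwa [List.getD_eq_getElem _ _ hj] at this

/-- the subgroup of the matrices fixing a vector -/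
def fixer (x : ι → ZMod 2) : Subgroup (GL ι (ZMod 2)) where
  carrier := {g | (g : Matrix ι ι (ZMod 2)) *ᵥ x = x}
  one_mem' := by simp
  mul_mem' := by
    intro a b ha hb
    simp only [Set.mem_ofPred_eq] at *
    rw [Units.val_mul, ← Matrix.mulVec_mulVec, hb, ha]
  inv_mem' := by
    intro a ha
    simp only [Set.mem_ofPred_eq] at *
    calc ((a⁻¹ : GL ι (ZMod 2)) : Matrix ι ι (ZMod 2)) *ᵥ x
        = ((a⁻¹ : GL ι (ZMod 2)) : Matrix ι ι (ZMod 2)) *ᵥ
            ((a : Matrix ι ι (ZMod 2)) *ᵥ x) := by rw [ha]
      _ = x := by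
        rw [Matrix.mulVec_mulVec, ← Units.val_mul, inv_mul_cancel, Units.val_one,
          Matrix.one_mulVec]

theorem mem_fixer (x : ι → ZMod 2) (g : GL ι (ZMod 2)) :
    g ∈ fixer x ↔ (g : Matrix ι ι (ZMod 2)) *ᵥ x = x := Iff.rfl

/-- the members of `K` fixing the coded vectors of a list -/
def stabB (K : Subgroup (GL ι (ZMod 2))) : List ℕ → Subgroup (GL ι (ZMod 2))
  | [] => K
  | b :: bs => stabB K bs ⊓ fixer (vec e b)

theorem stabB_cons (K : Subgroup (GL ι (ZMod 2))) (b : ℕ) (bs : List ℕ) :
    stabB e K (b :: bs) = stabB e K bs ⊓ fixer (vec e b) := rfl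

theorem mem_stabB (K : Subgroup (GL ι (ZMod 2))) (bs : List ℕ) (g : GL ι (ZMod 2)) :
    g ∈ stabB e K bs ↔
      g ∈ K ∧ ∀ b ∈ bs, (g : Matrix ι ι (ZMod 2)) *ᵥ vec e b = vec e b := by
  induction bs with
  | nil => simp [stabB]
  | cons b bs ih =>
    rw [stabB, Subgroup.mem_inf, ih, mem_fixer]
    constructor
    · rintro ⟨⟨h1, h2⟩, h3⟩
      refine ⟨h1, ?_⟩
      intro b' hb'
      rw [List.mem_cons] at hb'
      rcases hb' with rfl | hb'
      · exact h3
      · exact h2 b' hb'
    · rintro ⟨h1, h2⟩
      exact ⟨⟨h1, fun b' hb' => h2 b' (List.mem_cons_of_mem _ hb')⟩, h2 b (List.mem_cons_self ..)⟩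

theorem fixes_of_fixesAll (M : List ℕ) (hM : M.length ≤ n) (bs : List ℕ)
    (h : fixesAll M bs = true) : ∀ b ∈ bs, toM e M *ᵥ vec e b = vec e b := by
  intro b hb
  rw [fixesAll, List.all_eq_true] at h
  have := h b hb
  rw [beq_iff_eq] at this
  rw [toM_mulVec e M hM, this]

theorem card_stabB_ge (K : Subgroup (GL ι (ZMod 2))) (nodes : List (List ℕ))
    (hg : Good e K nodes) (levels : List (ℕ × List ℕ)) :
    ∀ bs : List ℕ, chainOK n nodes bs levels = true →
      (levels.map fun l => l.2.length).prod ≤ Nat.card (stabB e K bs) := by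
  induction levels with
  | nil =>
    intro bs _
    simp only [List.map_nil, List.prod_nil]
    exact Nat.card_pos
  | cons l ls ih =>
    intro bs h
    obtain ⟨b, idx⟩ := l
    rw [chainOK, Bool.and_eq_true] at h
    obtain ⟨h1, h2⟩ := h
    have ih' := ih (b :: bs) h2
    rw [levelOK, Bool.and_eq_true, List.all_eq_true] at h1
    obtain ⟨h1a, h1b⟩ := h1
    -- the members
    have key : ∀ i : Fin idx.length, ∃ g : GL ι (ZMod 2), g ∈ stabB e K bs ∧
        (g : Matrix ι ι (ZMod 2)) *ᵥ vec e b = vec e (app (nodes.getD idx[i] (idB n)) b) := by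
      intro i
      obtain ⟨hlen, g, hgK, hgM⟩ := good_getD e K nodes hg idx[i]
      have hi := h1a idx[i] (List.getElem_mem i.2)
      rw [Bool.and_eq_true] at hi
      refine ⟨g, ?_, ?_⟩
      · rw [mem_stabB]
        refine ⟨hgK, ?_⟩
        rw [hgM]
        exact fixes_of_fixesAll e _ hlen bs hi.1
      · rw [hgM, toM_mulVec e _ hlen]
    choose G hG1 hG2 using key
    have hlt : ∀ i : Fin idx.length, app (nodes.getD idx[i] (idB n)) b < 2 ^ n := by
      intro i
      have hi := h1a idx[i] (List.getElem_mem i.2)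
      rw [Bool.and_eq_true, decide_eq_true_eq] at hi
      exact hi.2
    have hle : stabB e K (b :: bs) ≤ stabB e K bs := by
      rw [stabB]
      exact inf_le_left
    let φ : Fin idx.length × ↥(stabB e K (b :: bs)) → ↥(stabB e K bs) := fun x =>
      ⟨G x.1 * x.2.1, (stabB e K bs).mul_mem (hG1 x.1) (hle x.2.2)⟩
    have hφ : Function.Injective φ := by
      rintro ⟨i, p⟩ ⟨j, q⟩ hpq
      have hpq' : G i * p.1 = G j * q.1 := congrArg Subtype.val hpq
      have hp : ((p.1 : GL ι (ZMod 2)) : Matrix ι ι (ZMod 2)) *ᵥ vec e b = vec e b := by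
        have := ((mem_stabB e K (b :: bs) p.1).mp p.2).2 b (List.mem_cons_self ..)
        exact this
      have hq : ((q.1 : GL ι (ZMod 2)) : Matrix ι ι (ZMod 2)) *ᵥ vec e b = vec e b := by
        have := ((mem_stabB e K (b :: bs) q.1).mp q.2).2 b (List.mem_cons_self ..)
        exact this
      have h3 : ((G i * p.1 : GL ι (ZMod 2)) : Matrix ι ι (ZMod 2)) *ᵥ vec e b =
          ((G j * q.1 : GL ι (ZMod 2)) : Matrix ι ι (ZMod 2)) *ᵥ vec e b := by rw [hpq']
      rw [Units.val_mul, Units.val_mul, ← Matrix.mulVec_mulVec, ← Matrix.mulVec_mulVec, hp, hq,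
        hG2, hG2] at h3
      have h4 := vec_inj e (hlt i) (hlt j) h3
      have hij : i = j := by
        have hnd := nodup_of_nodupB _ h1b
        rw [List.nodup_iff_injective_get] at hnd
        have hi' : (i : ℕ) < (idx.map fun k => app (nodes.getD k (idB n)) b).length := by
          rw [List.length_map]; exact i.2
        have hj' : (j : ℕ) < (idx.map fun k => app (nodes.getD k (idB n)) b).length := by
          rw [List.length_map]; exact j.2
        have := @hnd ⟨i, hi'⟩ ⟨j, hj'⟩ (by
          simp only [List.get_eq_getElem, List.getElem_map]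
          exact h4)
        exact Fin.ext (by simpa using congrArg Fin.val this)
      subst hij
      have : p.1 = q.1 := mul_left_cancel hpq'
      exact Prod.ext rfl (Subtype.ext this)
    have hcard := Nat.card_le_card_of_injective φ hφ
    rw [Nat.card_prod, Nat.card_eq_fintype_card, Fintype.card_fin] at hcard
    simp only [List.map_cons, List.prod_cons]
    calc idx.length * (ls.map fun l => l.2.length).prod
        ≤ idx.length * Nat.card ↥(stabB e K (b :: bs)) := Nat.mul_le_mul_left _ ih'
      _ ≤ Nat.card ↥(stabB e K bs) := hcard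

end Chain

end Cfsg.Agent.Lib.Helper6.BitMat
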