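import Cfsg.Agent.Lib.Helper6.BitMat

/-! # Faster forms of the operations on coded matrices over the field with two elements

The same functions as in `BitMat`, written with the recursors and the primitive operations on natural
numbers only, which the kernel evaluates with less overhead. -/

set_option autoImplicit false

namespace Cfsg.Agent.Lib.Helper6.BitMat

/-- `app`, by the recursor -/
def appR (cs : List ℕ) : ℕ → ℕ :=
  @List.rec ℕ (fun _ => ℕ → ℕ) (fun _ => 0)
    (fun c _ ih v => Nat.xor (Nat.mul (Nat.land v 1) c) (ih (Nat.shiftRight v 1))) cs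

theorem appR_nil (v : ℕ) : appR [] v = 0 := rfl

theorem appR_cons (c : ℕ) (cs : List ℕ) (v : ℕ) :
    appR (c :: cs) v = Nat.xor (Nat.mul (Nat.land v 1) c) (appR cs (Nat.shiftRight v 1)) := rfl

theorem land_one_mul (v c : ℕ) : Nat.mul (Nat.land v 1) c = if v.testBit 0 then c else 0 := by
  have h1 : Nat.land v 1 = v % 2 := Nat.and_one_is_mod v
  show Nat.land v 1 * c = _
  rw [h1, Nat.testBit_zero]
  rcases Nat.mod_two_eq_zero_or_one v with h | h <;> simp [h]

theorem appR_eq : ∀ (cs : List ℕ) (v : ℕ), appR cs v = app cs v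
  | [], _ => rfl
  | c :: cs, v => by
    rw [appR_cons, app, land_one_mul, appR_eq cs]
    show _ ^^^ app cs (v >>> 1) = _
    rw [Nat.shiftRight_one]

/-- `List.map`, by the recursor -/
def mapR (f : ℕ → ℕ) (l : List ℕ) : List ℕ :=
  @List.rec ℕ (fun _ => List ℕ) [] (fun a _ ih => f a :: ih) l

theorem mapR_eq (f : ℕ → ℕ) : ∀ l : List ℕ, mapR f l = l.map f
  | [] => rfl
  | a :: l => by
    show f a :: mapR f l = _
    rw [mapR_eq f l, List.map_cons]

/-- `mulB`, by the recursors -/
def mulR (A B : List ℕ) : List ℕ := mapR (appR A) B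

theorem mulR_eq (A B : List ℕ) : mulR A B = mulB A B := by
  unfold mulR mulB
  rw [mapR_eq]
  apply List.map_congr_left
  intro v _
  exact appR_eq A v

/-- the product of a list of coded matrices, by the recursor -/
def prodR (n : ℕ) (l : List (List ℕ)) : List ℕ :=
  @List.rec (List ℕ) (fun _ => List ℕ) (idB n) (fun A _ ih => mulR A ih) l

theorem prodR_nil (n : ℕ) : prodR n [] = idB n := rfl

theorem prodR_cons (n : ℕ) (A : List ℕ) (l : List (List ℕ)) :
    prodR n (A :: l) = mulB A (prodR n l) := by
  show mulR A (prodR n l) = _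
  rw [mulR_eq]

/-- the image of a coded vector under a list of coded matrices (the last one first) -/
def appsR (l : List (List ℕ)) (v : ℕ) : ℕ :=
  @List.rec (List ℕ) (fun _ => ℕ) v (fun A _ ih => appR A ih) l

theorem appsR_nil (v : ℕ) : appsR [] v = v := rfl

theorem appsR_cons (A : List ℕ) (l : List (List ℕ)) (v : ℕ) :
    appsR (A :: l) v = app A (appsR l v) := by
  show appR A (appsR l v) = _
  rw [appR_eq]

end Cfsg.Agent.Lib.Helper6.BitMat
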