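import Cfsg.Agent.Lib.Helper6.BitChain
import Cfsg.Agent.Lib.Helper6.BitFast

/-! # An exact stabiliser chain lists the elements of the group

If the product of the lengths of the levels of a verified chain is at least the order of the group,
then every element of the group is the product of one node of each level. -/

set_option autoImplicit false

namespace Cfsg.Agent.Lib.Helper6.BitMat

open Matrix

/-- the lists of node numbers, one from each level -/
def tuples : List (ℕ × List ℕ) → List (List ℕ)
  | [] => [[]]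
  | l :: ls => l.2.flatMap fun k => (tuples ls).map fun t => k :: t

/-- the product of the nodes with the given numbers -/
def prodN (n : ℕ) (nodes : List (List ℕ)) (t : List ℕ) : List ℕ :=
  prodR n (t.map fun k => nodes.getD k (idB n))

section

variable {ι : Type} [Fintype ι] [DecidableEq ι] {n : ℕ} (e : ι ≃ Fin n)

theorem level_data (K : Subgroup (GL ι (ZMod 2))) (nodes : List (List ℕ))
    (hg : Good e K nodes) (bs : List ℕ) (b : ℕ) (idx : List ℕ)
    (h1 : levelOK n nodes bs b idx = true) :
    ∃ Gs : Fin idx.length → GL ι (ZMod 2), (∀ i, Gs i ∈ stabB e K bs) ∧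
      (∀ i, ((Gs i : GL ι (ZMod 2)) : Matrix ι ι (ZMod 2)) =
        toM e (nodes.getD idx[i] (idB n))) ∧
      ∀ (i j : Fin idx.length) (p q : GL ι (ZMod 2)), p ∈ stabB e K (b :: bs) →
        q ∈ stabB e K (b :: bs) → Gs i * p = Gs j * q → i = j ∧ p = q := by
  rw [levelOK, Bool.and_eq_true, List.all_eq_true] at h1
  obtain ⟨h1a, h1b⟩ := h1
  have key : ∀ i : Fin idx.length, ∃ g : GL ι (ZMod 2), g ∈ stabB e K bs ∧
      ((g : GL ι (ZMod 2)) : Matrix ι ι (ZMod 2)) = toM e (nodes.getD idx[i] (idB n)) := by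
    intro i
    obtain ⟨hlen, g, hgK, hgM⟩ := good_getD e K nodes hg idx[i]
    have hi := h1a idx[i] (List.getElem_mem i.2)
    rw [Bool.and_eq_true] at hi
    refine ⟨g, ?_, hgM⟩
    rw [mem_stabB]
    refine ⟨hgK, ?_⟩
    rw [hgM]
    exact fixes_of_fixesAll e _ hlen bs hi.1
  choose G hG1 hG2 using key
  refine ⟨G, hG1, hG2, ?_⟩
  have hlen : ∀ i : Fin idx.length, (nodes.getD idx[i] (idB n)).length ≤ n :=
    fun i => (good_getD e K nodes hg idx[i]).1
  have hlt : ∀ i : Fin idx.length, app (nodes.getD idx[i] (idB n)) b < 2 ^ n := by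
    intro i
    have hi := h1a idx[i] (List.getElem_mem i.2)
    rw [Bool.and_eq_true, decide_eq_true_eq] at hi
    exact hi.2
  intro i j p q hp hq hpq
  have hp' : ((p : GL ι (ZMod 2)) : Matrix ι ι (ZMod 2)) *ᵥ vec e b = vec e b :=
    ((mem_stabB e K (b :: bs) p).mp hp).2 b (List.mem_cons_self ..)
  have hq' : ((q : GL ι (ZMod 2)) : Matrix ι ι (ZMod 2)) *ᵥ vec e b = vec e b :=
    ((mem_stabB e K (b :: bs) q).mp hq).2 b (List.mem_cons_self ..)
  have h3 : ((G i * p : GL ι (ZMod 2)) : Matrix ι ι (ZMod 2)) *ᵥ vec e b =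
      ((G j * q : GL ι (ZMod 2)) : Matrix ι ι (ZMod 2)) *ᵥ vec e b := by rw [hpq]
  rw [Units.val_mul, Units.val_mul, ← Matrix.mulVec_mulVec, ← Matrix.mulVec_mulVec, hp', hq',
    hG2, hG2, toM_mulVec e _ (hlen i), toM_mulVec e _ (hlen j)] at h3
  have h4 := vec_inj e (hlt i) (hlt j) h3
  have hij : i = j := by
    have hnd := nodup_of_nodupB _ h1b
    rw [List.nodup_iff_injective_get] at hnd
    have hi' : (i : ℕ) < (idx.map fun k => app (nodes.getD k (idB n)) b).length := by
      rw [List.length_map]; exact i.2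
    have hj' : (j : ℕ) < (idx.map fun k => app (nodes.getD k (idB n)) b).length := by
      rw [List.length_map]; exact j.2
    have := @hnd ⟨i, hi'⟩ ⟨j, hj'⟩ (by
      simp only [List.get_eq_getElem, List.getElem_map]
      exact h4)
    exact Fin.ext (by simpa using congrArg Fin.val this)
  subst hij
  exact ⟨rfl, mul_left_cancel hpq⟩

theorem mem_tuples_cons {k : ℕ} {t : List ℕ} {b : ℕ} {idx : List ℕ} {ls : List (ℕ × List ℕ)}
    (hk : k ∈ idx) (ht : t ∈ tuples ls) : k :: t ∈ tuples ((b, idx) :: ls) := by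
  rw [tuples, List.mem_flatMap]
  exact ⟨k, hk, List.mem_map.2 ⟨t, ht, rfl⟩⟩

theorem length_prodN (nodes : List (List ℕ)) (hlen : ∀ a, (nodes.getD a (idB n)).length ≤ n) :
    ∀ t : List ℕ, (prodN n nodes t).length ≤ n
  | [] => le_of_eq (length_idB n)
  | k :: t => by
    unfold prodN
    rw [List.map_cons, prodR_cons, length_mulB]
    exact length_prodN nodes hlen t

/-- **every element is the product of one node of each level** -/
theorem exists_tuple (K : Subgroup (GL ι (ZMod 2))) (nodes : List (List ℕ))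
    (hg : Good e K nodes) (levels : List (ℕ × List ℕ)) :
    ∀ bs : List ℕ, chainOK n nodes bs levels = true →
      Nat.card (stabB e K bs) ≤ (levels.map fun l => l.2.length).prod →
      ∀ g ∈ stabB e K bs, ∃ t ∈ tuples levels,
        ((g : GL ι (ZMod 2)) : Matrix ι ι (ZMod 2)) = toM e (prodN n nodes t) := by
  induction levels with
  | nil =>
    intro bs _ hcard g hg'
    simp only [List.map_nil, List.prod_nil] at hcard
    refine ⟨[], by simp [tuples], ?_⟩
    have h1 : Nat.card ↥(stabB e K bs) = 1 := le_antisymm hcard Nat.card_pos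
    have h2 : (⟨g, hg'⟩ : ↥(stabB e K bs)) = 1 := by
      have := (Nat.card_eq_one_iff_unique.1 h1).1
      exact Subsingleton.elim _ _
    have h3 : g = 1 := congrArg Subtype.val h2
    rw [h3]
    show (1 : Matrix ι ι (ZMod 2)) = toM e (idB n)
    rw [toM_idB]
  | cons l ls ih =>
    intro bs h hcard g hg'
    obtain ⟨b, idx⟩ := l
    rw [chainOK, Bool.and_eq_true] at h
    obtain ⟨h1, h2⟩ := h
    obtain ⟨G, hG1, hG2, hG3⟩ := level_data e K nodes hg bs b idx h1
    have hle : stabB e K (b :: bs) ≤ stabB e K bs := by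
      rw [stabB]
      exact inf_le_left
    let φ : Fin idx.length × ↥(stabB e K (b :: bs)) → ↥(stabB e K bs) := fun x =>
      ⟨G x.1 * x.2.1, (stabB e K bs).mul_mem (hG1 x.1) (hle x.2.2)⟩
    have hφ : Function.Injective φ := by
      rintro ⟨i, p⟩ ⟨j, q⟩ hpq
      have hpq' : G i * p.1 = G j * q.1 := congrArg Subtype.val hpq
      obtain ⟨hij, hpq''⟩ := hG3 i j p.1 q.1 p.2 q.2 hpq'
      subst hij
      exact Prod.ext rfl (Subtype.ext hpq'')
    have hge := card_stabB_ge e K nodes hg ls (b :: bs) h2
    simp only [List.map_cons, List.prod_cons] at hcard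
    have hinj := Nat.card_le_card_of_injective φ hφ
    rw [Nat.card_prod, Nat.card_fin] at hinj
    have hpos : 0 < idx.length := by
      by_contra h0
      have h0' : idx.length = 0 := by omega
      rw [h0', zero_mul] at hcard
      have := Nat.card_pos (α := ↥(stabB e K bs))
      omega
    have hcard' : Nat.card ↥(stabB e K (b :: bs)) ≤ (ls.map fun l => l.2.length).prod := by
      have := le_trans hinj hcard
      exact Nat.le_of_mul_le_mul_left this hpos
    have hbij : Function.Bijective φ := by
      apply Function.Injective.bijective_of_nat_card_le hφ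
      rw [Nat.card_prod, Nat.card_fin]
      exact le_trans hcard (Nat.mul_le_mul_left _ hge)
    obtain ⟨⟨i, p⟩, hip⟩ := hbij.2 ⟨g, hg'⟩
    have hip' : G i * p.1 = g := congrArg Subtype.val hip
    obtain ⟨t, ht, hpt⟩ := ih (b :: bs) h2 hcard' p.1 p.2
    refine ⟨idx[i] :: t, mem_tuples_cons (List.getElem_mem i.2) ht, ?_⟩
    have hlen : ∀ a, (nodes.getD a (idB n)).length ≤ n := fun a => (good_getD e K nodes hg a).1
    rw [← hip', Units.val_mul, hG2, hpt]
    unfold prodN
    rw [List.map_cons, prodR_cons, toM_mulB e _ _ (hlen _)]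

end

end Cfsg.Agent.Lib.Helper6.BitMat
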