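import Cfsg.Agent.Lib.Helper6.BitChain
import Cfsg.Prelude.Def_Classical

/-! # Crossed homomorphisms of the commutator subgroup of an isometry group over the field with two
elements, through coded matrices

Membership in the isometry group and in its commutator subgroup, generation through the order, and
the proof that every crossed homomorphism is principal from a finite check on two generators. -/

set_option autoImplicit false
set_option linter.unusedSectionVars false

namespace Cfsg.Agent.Lib.Helper6.BitMat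

open Matrix
open scoped commutatorElement

/-- a subgroup of at least half the order contains the commutator subgroup -/
theorem commutator_le_of_card {G : Type*} [Group G] [Finite G] (H : Subgroup G)
    (h : Nat.card G ≤ 2 * Nat.card H) : commutator G ≤ H := by
  have hidx : H.index * Nat.card H = Nat.card G := H.index_mul_card
  have hpos : 0 < Nat.card H := Nat.card_pos
  have hi0 : H.index ≠ 0 := Subgroup.index_ne_zero_of_finite
  have hi2 : H.index ≤ 2 := by
    by_contra hcon
    rw [not_le] at hcon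
    have : 3 * Nat.card H ≤ H.index * Nat.card H := Nat.mul_le_mul_right _ hcon
    omega
  have hcase : H.index = 1 ∨ H.index = 2 := by omega
  rcases hcase with h1 | h2
  · rw [Subgroup.index_eq_one] at h1
    rw [h1]
    exact le_top
  · have : H.Normal := Subgroup.normal_of_index_eq_two h2
    have hc : Nat.card (G ⧸ H) = 2 := by rw [← Subgroup.index_eq_card]; exact h2
    have : Fact (Nat.Prime 2) := ⟨Nat.prime_two⟩
    have : IsCyclic (G ⧸ H) := isCyclic_of_prime_card hc
    letI : CommGroup (G ⧸ H) := IsCyclic.commGroup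
    have := Abelianization.commutator_subset_ker (QuotientGroup.mk' H)
    rwa [QuotientGroup.ker_mk'] at this

section Coc

variable {ι : Type} [Fintype ι] [DecidableEq ι] {n : ℕ} (e : ι ≃ Fin n)
variable (Q : (ι → ZMod 2) → ZMod 2)

theorem mem_isometryGroup_iff (g : GL ι (ZMod 2)) :
    g ∈ Cfsg.isometryGroup (ZMod 2) Q ↔
      ∀ u : ι → ZMod 2, Q ((g : Matrix ι ι (ZMod 2)) *ᵥ u) = Q u := by
  constructor
  · intro h u
    exact h u u
  · intro h u _
    exact h u

/-- membership in the isometry group from a check on all coded vectors -/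
theorem mem_isometry_of_check (Qb : ℕ → Bool) (hQ : ∀ v, Q (vec e v) = bz (Qb v))
    (g : GL ι (ZMod 2)) (M : List ℕ) (hM : M.length ≤ n)
    (hg : (g : Matrix ι ι (ZMod 2)) = toM e M)
    (hchk : ∀ v < 2 ^ n, Qb (app M v) = Qb v) : g ∈ Cfsg.isometryGroup (ZMod 2) Q := by
  rw [mem_isometryGroup_iff]
  intro u
  obtain ⟨v, hv, rfl⟩ := vec_surj e u
  rw [hg, toM_mulVec e M hM, hQ, hQ, hchk v hv]

/-- an element of odd order inverted by a member of the group lies in the commutator subgroup -/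
theorem mem_commutator_of_inverted {G : Type*} [Group G] (s x : G) (m : ℕ) (hm : Odd m)
    (hs : s ^ m = 1) (hx : x * s * x⁻¹ = s⁻¹) : s ∈ commutator G := by
  have h1 : ⁅x, s⁆ ∈ commutator G := by
    rw [commutator_def]
    exact Subgroup.commutator_mem_commutator (Subgroup.mem_top x) (Subgroup.mem_top s)
  have h2 : ⁅x, s⁆ = (s ^ 2)⁻¹ := by
    rw [commutatorElement_def, hx, pow_two, _root_.mul_inv_rev]
  rw [h2] at h1
  have h3 : s ^ 2 ∈ commutator G := by
    have := (commutator G).inv_mem h1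
    rwa [inv_inv] at this
  obtain ⟨k, hk⟩ := hm
  have h4 : s = (s ^ 2) ^ (k + 1) := by
    rw [← pow_mul, show 2 * (k + 1) = m + 1 by omega, pow_succ, hs, one_mul]
  rw [h4]
  exact (commutator G).pow_mem h3 _

/-- a crossed homomorphism that is principal on generators is principal -/
theorem coc_principal_of_gens (S : Set ↥(Cfsg.isometryGroup (ZMod 2) Q))
    (hS : ∀ s ∈ S, s ∈ Cfsg.Omega (ZMod 2) Q)
    (hgen : Cfsg.Omega (ZMod 2) Q ≤ Subgroup.closure S)
    (f : ↥(Cfsg.Omega (ZMod 2) Q) → (ι → ZMod 2))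
    (hf : ∀ g h : ↥(Cfsg.Omega (ZMod 2) Q), f (g * h) =
      f g + Matrix.mulVec (((g : ↥(Cfsg.isometryGroup (ZMod 2) Q)) : GL ι (ZMod 2)) :
        Matrix ι ι (ZMod 2)) (f h))
    (v : ι → ZMod 2)
    (hv : ∀ s (hs : s ∈ S), f ⟨s, hS s hs⟩ =
      Matrix.mulVec ((s : GL ι (ZMod 2)) : Matrix ι ι (ZMod 2)) v - v) :
    ∀ g : ↥(Cfsg.Omega (ZMod 2) Q), f g =
      Matrix.mulVec (((g : ↥(Cfsg.isometryGroup (ZMod 2) Q)) : GL ι (ZMod 2)) :
        Matrix ι ι (ZMod 2)) v - v := by
  have hle : Subgroup.closure S ≤ Cfsg.Omega (ZMod 2) Q := (Subgroup.closure_le _).mpr hS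
  have hf1 : f 1 = 0 := by
    have := hf 1 1
    rw [mul_one] at this
    have h1 : Matrix.mulVec (((1 : ↥(Cfsg.Omega (ZMod 2) Q)) :
        ↥(Cfsg.isometryGroup (ZMod 2) Q)) : GL ι (ZMod 2)).1 (f 1) = f 1 := by
      simp
    rw [h1] at this
    exact left_eq_add.mp this
  have key : ∀ x : ↥(Cfsg.isometryGroup (ZMod 2) Q), x ∈ Subgroup.closure S →
      ∀ hΩ : x ∈ Cfsg.Omega (ZMod 2) Q, f ⟨x, hΩ⟩ =
        Matrix.mulVec ((x : GL ι (ZMod 2)) : Matrix ι ι (ZMod 2)) v - v := by
    intro x hx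
    induction hx using Subgroup.closure_induction with
    | mem s hs => intro hΩ; exact hv s hs
    | one =>
      intro hΩ
      have : (⟨1, hΩ⟩ : ↥(Cfsg.Omega (ZMod 2) Q)) = 1 := rfl
      rw [this, hf1]
      simp
    | mul x y hx hy ihx ihy =>
      intro hΩ
      have hxΩ := hle hx
      have hyΩ := hle hy
      have : (⟨x * y, hΩ⟩ : ↥(Cfsg.Omega (ZMod 2) Q)) = ⟨x, hxΩ⟩ * ⟨y, hyΩ⟩ := rfl
      rw [this, hf, ihx hxΩ, ihy hyΩ]
      simp only [Subgroup.coe_mul, Units.val_mul]
      rw [Matrix.mulVec_sub, Matrix.mulVec_mulVec]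
      abel
    | inv x hx ihx =>
      intro hΩ
      have hxΩ := hle hx
      have h0 := hf ⟨x, hxΩ⟩ ⟨x⁻¹, hΩ⟩
      have : (⟨x, hxΩ⟩ : ↥(Cfsg.Omega (ZMod 2) Q)) * ⟨x⁻¹, hΩ⟩ = 1 := by
        apply Subtype.ext
        simp
      rw [this, hf1, ihx hxΩ] at h0
      -- h0 : 0 = (X v - v) + X (f x⁻¹)
      have h1 : Matrix.mulVec ((x : GL ι (ZMod 2)) : Matrix ι ι (ZMod 2)) (f ⟨x⁻¹, hΩ⟩) =
          v - Matrix.mulVec ((x : GL ι (ZMod 2)) : Matrix ι ι (ZMod 2)) v := by
        have := h0
        simp only at this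
        have h2 := eq_neg_of_add_eq_zero_right this.symm
        rw [h2]
        abel
      have h2 := congrArg (Matrix.mulVec ((x⁻¹ : ↥(Cfsg.isometryGroup (ZMod 2) Q)) :
        GL ι (ZMod 2)).1) h1
      rw [Matrix.mulVec_mulVec, Matrix.mulVec_sub, Matrix.mulVec_mulVec] at h2
      have h3 : ((x⁻¹ : ↥(Cfsg.isometryGroup (ZMod 2) Q)) : GL ι (ZMod 2)).1 *
          ((x : GL ι (ZMod 2)) : Matrix ι ι (ZMod 2)) = 1 := by
        rw [← Units.val_mul, ← Subgroup.coe_mul, inv_mul_cancel]
        rfl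
      rw [h3, Matrix.one_mulVec, Matrix.one_mulVec] at h2
      exact h2
  intro g
  exact key g.1 (hgen g.2) g.2

end Coc

end Cfsg.Agent.Lib.Helper6.BitMat
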