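import Cfsg.Agent.Lib.Helper6.BitCoc

/-! # Vanishing of the first cohomology of the commutator subgroup of an isometry group over the field
with two elements on its natural module, from a finite certificate on two generators -/

set_option autoImplicit false
set_option linter.unusedSectionVars false

namespace Cfsg.Agent.Lib.Helper6.BitMat

open Matrix

/-- the value of a crossed homomorphism on a word in two generators, from its values on them -/
def cocB (M1 M2 : List ℕ) (a1 a2 : ℕ) : List Bool → ℕ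
  | [] => 0
  | false :: w => a1 ^^^ app M1 (cocB M1 M2 a1 a2 w)
  | true :: w => a2 ^^^ app M2 (cocB M1 M2 a1 a2 w)

/-- the coded matrix of a word in two generators -/
def wordB (n : ℕ) (M1 M2 : List ℕ) : List Bool → List ℕ
  | [] => idB n
  | false :: w => mulB M1 (wordB n M1 M2 w)
  | true :: w => mulB M2 (wordB n M1 M2 w)

/-- the coded power of a matrix -/
def powB (n : ℕ) (M : List ℕ) : ℕ → List ℕ
  | 0 => idB n
  | k + 1 => mulB M (powB n M k)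

/-- a word in two elements of a group -/
def wordG {G : Type*} [Group G] (σ1 σ2 : G) : List Bool → G
  | [] => 1
  | false :: w => σ1 * wordG σ1 σ2 w
  | true :: w => σ2 * wordG σ1 σ2 w

/-- the finite check: every pair of values satisfying the relator conditions is the pair of values of
a principal crossed homomorphism -/
def cocCheck (n : ℕ) (M1 M2 : List ℕ) (rels : List (List Bool)) : Bool :=
  (List.range (2 ^ n)).all fun a1 => (List.range (2 ^ n)).all fun a2 =>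
    !(rels.all fun w => cocB M1 M2 a1 a2 w == 0) ||
      (List.range (2 ^ n)).any fun v => (app M1 v ^^^ v == a1) && (app M2 v ^^^ v == a2)

theorem of_cocCheck {n : ℕ} {M1 M2 : List ℕ} {rels : List (List Bool)}
    (h : cocCheck n M1 M2 rels = true) :
    ∀ a1 < 2 ^ n, ∀ a2 < 2 ^ n, (∀ w ∈ rels, cocB M1 M2 a1 a2 w = 0) →
      ∃ v < 2 ^ n, app M1 v ^^^ v = a1 ∧ app M2 v ^^^ v = a2 := by
  intro a1 ha1 a2 ha2 hw
  rw [cocCheck, List.all_eq_true] at h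
  have h1 := h a1 (List.mem_range.mpr ha1)
  rw [List.all_eq_true] at h1
  have h2 := h1 a2 (List.mem_range.mpr ha2)
  rw [Bool.or_eq_true] at h2
  rcases h2 with h2 | h2
  · exfalso
    rw [Bool.not_eq_true', ← Bool.not_eq_true, List.all_eq_true] at h2
    apply h2
    intro w hw'
    rw [beq_iff_eq]
    exact hw w hw'
  · rw [List.any_eq_true] at h2
    obtain ⟨v, hv, hv'⟩ := h2
    rw [Bool.and_eq_true, beq_iff_eq, beq_iff_eq] at hv'
    exact ⟨v, List.mem_range.mp hv, hv'.1, hv'.2⟩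

/-- a loop over the numbers below a bound -/
def loopAll : ℕ → (ℕ → Bool) → Bool
  | 0, _ => true
  | k + 1, p => p k && loopAll k p

theorem of_loopAll {p : ℕ → Bool} : ∀ {n : ℕ}, loopAll n p = true → ∀ k < n, p k = true
  | 0, _, k, hk => absurd hk (Nat.not_lt_zero k)
  | n + 1, h, k, hk => by
    rw [loopAll, Bool.and_eq_true] at h
    by_cases hkn : k = n
    · subst hkn; exact h.1
    · exact of_loopAll h.2 k (by omega)

theorem cocB_xor (M1 M2 : List ℕ) (a1 a2 b1 b2 : ℕ) (w : List Bool) :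
    cocB M1 M2 (a1 ^^^ b1) (a2 ^^^ b2) w = cocB M1 M2 a1 a2 w ^^^ cocB M1 M2 b1 b2 w := by
  induction w with
  | nil => simp [cocB]
  | cons b w ih =>
    cases b
    · rw [cocB, cocB, cocB, ih, app_xor]; ac_rfl
    · rw [cocB, cocB, cocB, ih, app_xor]; ac_rfl

theorem cocB_cob (n : ℕ) (M1 M2 : List ℕ) (v : ℕ) (hv : v < 2 ^ n) (w : List Bool) :
    cocB M1 M2 (app M1 v ^^^ v) (app M2 v ^^^ v) w = app (wordB n M1 M2 w) v ^^^ v := by
  induction w with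
  | nil => rw [cocB, wordB, app_idB n v hv, Nat.xor_self]
  | cons b w ih =>
    cases b
    · rw [cocB, wordB, ih, app_mulB, app_xor]
      have : app M1 v ^^^ v ^^^ (app M1 (app (wordB n M1 M2 w) v) ^^^ app M1 v) =
          app M1 (app (wordB n M1 M2 w) v) ^^^ v ^^^ (app M1 v ^^^ app M1 v) := by ac_rfl
      rw [this, Nat.xor_self, Nat.xor_zero]
    · rw [cocB, wordB, ih, app_mulB, app_xor]
      have : app M2 v ^^^ v ^^^ (app M2 (app (wordB n M1 M2 w) v) ^^^ app M2 v) =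
          app M2 (app (wordB n M1 M2 w) v) ^^^ v ^^^ (app M2 v ^^^ app M2 v) := by ac_rfl
      rw [this, Nat.xor_self, Nat.xor_zero]

/-- the finite check that `W` inverts `v ↦ M1 v + v` -/
def invCheck (n : ℕ) (M1 W : List ℕ) : Bool :=
  loopAll (2 ^ n) fun a => app M1 (app W a) ^^^ app W a == a

/-- the finite check that a crossed homomorphism vanishing on the first generator vanishes on the
second -/
def zeroCheck (n : ℕ) (M1 M2 : List ℕ) (rels : List (List Bool)) : Bool :=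
  loopAll (2 ^ n) fun a2 => !(rels.all fun w => cocB M1 M2 0 a2 w == 0) || a2 == 0

theorem hcoc_of_checks {n : ℕ} {M1 M2 W : List ℕ} {rels : List (List Bool)}
    (hc2 : ∀ c ∈ M2, c < 2 ^ n) (hW : ∀ c ∈ W, c < 2 ^ n)
    (hrel : ∀ w ∈ rels, wordB n M1 M2 w = idB n)
    (hinvc : invCheck n M1 W = true) (hzero : zeroCheck n M1 M2 rels = true) :
    ∀ a1 < 2 ^ n, ∀ a2 < 2 ^ n, (∀ w ∈ rels, cocB M1 M2 a1 a2 w = 0) →
      ∃ v < 2 ^ n, app M1 v ^^^ v = a1 ∧ app M2 v ^^^ v = a2 := by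
  intro a1 ha1 a2 ha2 hw
  have hv : app W a1 < 2 ^ n := app_lt W hW a1
  have h1 : app M1 (app W a1) ^^^ app W a1 = a1 := by
    have := of_loopAll hinvc a1 ha1
    rwa [beq_iff_eq] at this
  refine ⟨app W a1, hv, h1, ?_⟩
  have hlt : a2 ^^^ (app M2 (app W a1) ^^^ app W a1) < 2 ^ n :=
    Nat.xor_lt_two_pow ha2 (Nat.xor_lt_two_pow (app_lt M2 hc2 _) hv)
  have hz := of_loopAll hzero _ hlt
  rw [Bool.or_eq_true, beq_iff_eq] at hz
  have key : ∀ w ∈ rels,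
      cocB M1 M2 0 (a2 ^^^ (app M2 (app W a1) ^^^ app W a1)) w = 0 := by
    intro w hw'
    have e1 : cocB M1 M2 (a1 ^^^ (app M1 (app W a1) ^^^ app W a1))
        (a2 ^^^ (app M2 (app W a1) ^^^ app W a1)) w = 0 := by
      rw [cocB_xor, hw w hw', cocB_cob n M1 M2 _ hv, hrel w hw', app_idB n _ hv, Nat.xor_self,
        Nat.xor_self]
    rw [h1, Nat.xor_self] at e1
    exact e1
  rcases hz with hz | hz
  · exfalso
    rw [Bool.not_eq_true', ← Bool.not_eq_true, List.all_eq_true] at hz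
    apply hz
    intro w hw'
    rw [beq_iff_eq]
    exact key w hw'
  · have : a2 ^^^ (a2 ^^^ (app M2 (app W a1) ^^^ app W a1)) = a2 ^^^ 0 := by rw [hz]
    rw [← Nat.xor_assoc, Nat.xor_self, Nat.zero_xor, Nat.xor_zero] at this
    exact this

/-- the finite check of the isometry condition -/
def isoCheck (n : ℕ) (Qb : ℕ → Bool) (M : List ℕ) : Bool :=
  loopAll (2 ^ n) fun v => Qb (app M v) == Qb v

theorem of_isoCheck {n : ℕ} {Qb : ℕ → Bool} {M : List ℕ} (h : isoCheck n Qb M = true) :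
    ∀ v < 2 ^ n, Qb (app M v) = Qb v := by
  intro v hv
  have := of_loopAll h v hv
  rwa [beq_iff_eq] at this

theorem cocB_lt {n : ℕ} (M1 M2 : List ℕ) (h1 : ∀ c ∈ M1, c < 2 ^ n) (h2 : ∀ c ∈ M2, c < 2 ^ n)
    (a1 a2 : ℕ) (ha1 : a1 < 2 ^ n) (ha2 : a2 < 2 ^ n) (w : List Bool) :
    cocB M1 M2 a1 a2 w < 2 ^ n := by
  induction w with
  | nil => exact Nat.two_pow_pos n
  | cons b w ih =>
    cases b
    · exact Nat.xor_lt_two_pow ha1 (app_lt M1 h1 _)
    · exact Nat.xor_lt_two_pow ha2 (app_lt M2 h2 _)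

theorem length_wordB (n : ℕ) (M1 M2 : List ℕ) (w : List Bool) :
    (wordB n M1 M2 w).length = n := by
  induction w with
  | nil => exact length_idB n
  | cons b w ih => cases b <;> simp [wordB, length_mulB, ih]

theorem length_powB (n : ℕ) (M : List ℕ) (k : ℕ) : (powB n M k).length = n := by
  induction k with
  | zero => exact length_idB n
  | succ k ih => simp [powB, length_mulB, ih]

section H1

variable {ι : Type} [Fintype ι] [DecidableEq ι] {n : ℕ} (e : ι ≃ Fin n)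

theorem toM_wordB (M1 M2 : List ℕ) (h1 : M1.length ≤ n) (h2 : M2.length ≤ n)
    (G1 G2 : GL ι (ZMod 2)) (hG1 : (G1 : Matrix ι ι (ZMod 2)) = toM e M1)
    (hG2 : (G2 : Matrix ι ι (ZMod 2)) = toM e M2) (w : List Bool) :
    ((wordG G1 G2 w : GL ι (ZMod 2)) : Matrix ι ι (ZMod 2)) = toM e (wordB n M1 M2 w) := by
  induction w with
  | nil => rw [wordG, wordB, toM_idB]; rfl
  | cons b w ih =>
    cases b
    · rw [wordG, wordB, Units.val_mul, ih, hG1, toM_mulB e _ _ h1]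
    · rw [wordG, wordB, Units.val_mul, ih, hG2, toM_mulB e _ _ h2]

theorem toM_powB (M : List ℕ) (h : M.length ≤ n) (G : GL ι (ZMod 2))
    (hG : (G : Matrix ι ι (ZMod 2)) = toM e M) (k : ℕ) :
    ((G ^ k : GL ι (ZMod 2)) : Matrix ι ι (ZMod 2)) = toM e (powB n M k) := by
  induction k with
  | zero => rw [pow_zero, powB, toM_idB]; rfl
  | succ k ih => rw [pow_succ', powB, Units.val_mul, ih, hG, toM_mulB e _ _ h]

theorem gl_eq_one_of_toM (G : GL ι (ZMod 2)) (M : List ℕ)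
    (hG : (G : Matrix ι ι (ZMod 2)) = toM e M) (hM : M = idB n) : G = 1 := by
  apply Units.ext
  rw [hG, hM, toM_idB]
  rfl

variable (Q : (ι → ZMod 2) → ZMod 2)

/-- the main criterion -/
theorem h1_vanishes (Qb : ℕ → Bool) (hQ : ∀ v, Q (vec e v) = bz (Qb v))
    (M1 M1i M2 M2i X1 X1i X2 X2i : List ℕ) (m1 m2 : ℕ)
    (rels : List (List Bool)) (prog : List (ℕ × ℕ)) (levels : List (ℕ × List ℕ))
    (hlen : M1.length = n ∧ M1i.length = n ∧ M2.length = n ∧ M2i.length = n ∧ X1.length = n ∧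
      X1i.length = n ∧ X2.length = n ∧ X2i.length = n)
    (hcol : (∀ c ∈ M1, c < 2 ^ n) ∧ (∀ c ∈ M2, c < 2 ^ n))
    (hinv : mulB M1 M1i = idB n ∧ mulB M1i M1 = idB n ∧ mulB M2 M2i = idB n ∧
      mulB M2i M2 = idB n ∧ mulB X1 X1i = idB n ∧ mulB X1i X1 = idB n ∧ mulB X2 X2i = idB n ∧
      mulB X2i X2 = idB n)
    (hiso : isoCheck n Qb M1 = true ∧ isoCheck n Qb M2 = true ∧ isoCheck n Qb X1 = true ∧
      isoCheck n Qb X2 = true)
    (hconj : mulB (mulB X1 M1) X1i = M1i ∧ mulB (mulB X2 M2) X2i = M2i)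
    (hpow : Odd m1 ∧ Odd m2 ∧ powB n M1 m1 = idB n ∧ powB n M2 m2 = idB n)
    (hrel : ∀ w ∈ rels, wordB n M1 M2 w = idB n)
    (all : List (List ℕ))
    (hbase : all.getD 0 [] = M1 ∧ all.getD 1 [] = M2 ∧ all.getD 2 [] = M1i ∧ all.getD 3 [] = M2i ∧
      all.getD 4 [] = idB n)
    (hall : all.length = 5 + prog.length) (hprog : progOK all 5 prog = true)
    (hchain : chainOK n all [] levels = true)
    (hN : Nat.card ↥(Cfsg.isometryGroup (ZMod 2) Q) ≤ 2 * (levels.map fun l => l.2.length).prod)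
    (hcoc : ∀ a1 < 2 ^ n, ∀ a2 < 2 ^ n, (∀ w ∈ rels, cocB M1 M2 a1 a2 w = 0) →
      ∃ v < 2 ^ n, app M1 v ^^^ v = a1 ∧ app M2 v ^^^ v = a2)
    (f : ↥(Cfsg.Omega (ZMod 2) Q) → (ι → ZMod 2))
    (hf : ∀ g h : ↥(Cfsg.Omega (ZMod 2) Q), f (g * h) =
      f g + Matrix.mulVec (((g : ↥(Cfsg.isometryGroup (ZMod 2) Q)) : GL ι (ZMod 2)) :
        Matrix ι ι (ZMod 2)) (f h)) :
    ∃ v : ι → ZMod 2, ∀ g : ↥(Cfsg.Omega (ZMod 2) Q), f g =
      Matrix.mulVec (((g : ↥(Cfsg.isometryGroup (ZMod 2) Q)) : GL ι (ZMod 2)) :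
        Matrix ι ι (ZMod 2)) v - v := by
  obtain ⟨l1, l1i, l2, l2i, lx1, lx1i, lx2, lx2i⟩ := hlen
  obtain ⟨hc1, hc2⟩ := hcol
  obtain ⟨i1, i1', i2, i2', j1, j1', j2, j2'⟩ := hinv
  obtain ⟨q1', q2', q3', q4'⟩ := hiso
  have q1 := of_isoCheck q1'
  have q2 := of_isoCheck q2'
  have q3 := of_isoCheck q3'
  have q4 := of_isoCheck q4'
  obtain ⟨k1, k2⟩ := hconj
  obtain ⟨o1, o2, p1, p2⟩ := hpow
  -- the elements
  let G1 : GL ι (ZMod 2) := glB e M1 M1i (le_of_eq l1) (le_of_eq l1i) i1 i1'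
  let G2 : GL ι (ZMod 2) := glB e M2 M2i (le_of_eq l2) (le_of_eq l2i) i2 i2'
  let Y1 : GL ι (ZMod 2) := glB e X1 X1i (le_of_eq lx1) (le_of_eq lx1i) j1 j1'
  let Y2 : GL ι (ZMod 2) := glB e X2 X2i (le_of_eq lx2) (le_of_eq lx2i) j2 j2'
  have hG1 : (G1 : Matrix ι ι (ZMod 2)) = toM e M1 := rfl
  have hG2 : (G2 : Matrix ι ι (ZMod 2)) = toM e M2 := rfl
  have hG1i : ((G1⁻¹ : GL ι (ZMod 2)) : Matrix ι ι (ZMod 2)) = toM e M1i := rfl
  have hG2i : ((G2⁻¹ : GL ι (ZMod 2)) : Matrix ι ι (ZMod 2)) = toM e M2i := rfl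
  have hY1 : (Y1 : Matrix ι ι (ZMod 2)) = toM e X1 := rfl
  have hY2 : (Y2 : Matrix ι ι (ZMod 2)) = toM e X2 := rfl
  have hY1i : ((Y1⁻¹ : GL ι (ZMod 2)) : Matrix ι ι (ZMod 2)) = toM e X1i := rfl
  have hY2i : ((Y2⁻¹ : GL ι (ZMod 2)) : Matrix ι ι (ZMod 2)) = toM e X2i := rfl
  have mG1 : G1 ∈ Cfsg.isometryGroup (ZMod 2) Q :=
    mem_isometry_of_check e Q Qb hQ G1 M1 (le_of_eq l1) hG1 q1
  have mG2 : G2 ∈ Cfsg.isometryGroup (ZMod 2) Q :=
    mem_isometry_of_check e Q Qb hQ G2 M2 (le_of_eq l2) hG2 q2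
  have mY1 : Y1 ∈ Cfsg.isometryGroup (ZMod 2) Q :=
    mem_isometry_of_check e Q Qb hQ Y1 X1 (le_of_eq lx1) hY1 q3
  have mY2 : Y2 ∈ Cfsg.isometryGroup (ZMod 2) Q :=
    mem_isometry_of_check e Q Qb hQ Y2 X2 (le_of_eq lx2) hY2 q4
  let s1 : ↥(Cfsg.isometryGroup (ZMod 2) Q) := ⟨G1, mG1⟩
  let s2 : ↥(Cfsg.isometryGroup (ZMod 2) Q) := ⟨G2, mG2⟩
  let y1 : ↥(Cfsg.isometryGroup (ZMod 2) Q) := ⟨Y1, mY1⟩
  let y2 : ↥(Cfsg.isometryGroup (ZMod 2) Q) := ⟨Y2, mY2⟩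
  -- conjugation and powers
  have c1 : y1 * s1 * y1⁻¹ = s1⁻¹ := by
    apply Subtype.ext
    apply Units.ext
    show (Y1 : Matrix ι ι (ZMod 2)) * G1 * ((Y1⁻¹ : GL ι (ZMod 2)) : Matrix ι ι (ZMod 2)) =
      ((G1⁻¹ : GL ι (ZMod 2)) : Matrix ι ι (ZMod 2))
    rw [hY1, hG1, hY1i, hG1i, ← toM_mulB e _ _ (le_of_eq lx1), ← toM_mulB e _ _
      (by rw [length_mulB]; exact le_of_eq l1), k1]
  have c2 : y2 * s2 * y2⁻¹ = s2⁻¹ := by
    apply Subtype.ext
    apply Units.ext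
    show (Y2 : Matrix ι ι (ZMod 2)) * G2 * ((Y2⁻¹ : GL ι (ZMod 2)) : Matrix ι ι (ZMod 2)) =
      ((G2⁻¹ : GL ι (ZMod 2)) : Matrix ι ι (ZMod 2))
    rw [hY2, hG2, hY2i, hG2i, ← toM_mulB e _ _ (le_of_eq lx2), ← toM_mulB e _ _
      (by rw [length_mulB]; exact le_of_eq l2), k2]
  have w1 : s1 ^ m1 = 1 := by
    apply Subtype.ext
    show G1 ^ m1 = 1
    exact gl_eq_one_of_toM e _ _ (toM_powB e M1 (le_of_eq l1) G1 hG1 m1) p1
  have w2 : s2 ^ m2 = 1 := by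
    apply Subtype.ext
    show G2 ^ m2 = 1
    exact gl_eq_one_of_toM e _ _ (toM_powB e M2 (le_of_eq l2) G2 hG2 m2) p2
  have hΩ1 : s1 ∈ Cfsg.Omega (ZMod 2) Q := mem_commutator_of_inverted s1 y1 m1 o1 w1 c1
  have hΩ2 : s2 ∈ Cfsg.Omega (ZMod 2) Q := mem_commutator_of_inverted s2 y2 m2 o2 w2 c2
  -- generation
  let S : Set ↥(Cfsg.isometryGroup (ZMod 2) Q) := {s1, s2}
  have hS : ∀ s ∈ S, s ∈ Cfsg.Omega (ZMod 2) Q := by
    intro s hs
    rcases hs with rfl | rfl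
    · exact hΩ1
    · exact hΩ2
  let K' : Subgroup ↥(Cfsg.isometryGroup (ZMod 2) Q) := Subgroup.closure S
  let K : Subgroup (GL ι (ZMod 2)) := K'.map (Cfsg.isometryGroup (ZMod 2) Q).subtype
  have hs1K : s1 ∈ K' := Subgroup.subset_closure (Or.inl rfl)
  have hs2K : s2 ∈ K' := Subgroup.subset_closure (Or.inr rfl)
  obtain ⟨b0, b1, b2, b3, b4⟩ := hbase
  have hgood : Good e K all := by
    apply good_of_progOK e K all prog 5 hall hprog
    intro j hj
    have hj' : j = 0 ∨ j = 1 ∨ j = 2 ∨ j = 3 ∨ j = 4 := by omega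
    rcases hj' with rfl | rfl | rfl | rfl | rfl
    · rw [b0]; exact ⟨le_of_eq l1, G1, ⟨s1, hs1K, rfl⟩, hG1⟩
    · rw [b1]; exact ⟨le_of_eq l2, G2, ⟨s2, hs2K, rfl⟩, hG2⟩
    · rw [b2]; exact ⟨le_of_eq l1i, G1⁻¹, ⟨s1⁻¹, K'.inv_mem hs1K, rfl⟩, hG1i⟩
    · rw [b3]; exact ⟨le_of_eq l2i, G2⁻¹, ⟨s2⁻¹, K'.inv_mem hs2K, rfl⟩, hG2i⟩
    · rw [b4]; exact ⟨le_of_eq (length_idB n), 1, K.one_mem, by rw [toM_idB]; rfl⟩
  have hcard := card_stabB_ge e K all hgood levels [] hchain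
  have hKK : Nat.card ↥(stabB e K []) = Nat.card ↥K' := by
    show Nat.card ↥K = Nat.card ↥K'
    exact Subgroup.card_map_of_injective (Subgroup.subtype_injective _)
  rw [hKK] at hcard
  have hgen : Cfsg.Omega (ZMod 2) Q ≤ K' := by
    apply commutator_le_of_card
    calc Nat.card ↥(Cfsg.isometryGroup (ZMod 2) Q)
        ≤ 2 * (levels.map fun l => l.2.length).prod := hN
      _ ≤ 2 * Nat.card ↥K' := Nat.mul_le_mul_left _ hcard
  -- the values on the generators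
  let σ1 : ↥(Cfsg.Omega (ZMod 2) Q) := ⟨s1, hΩ1⟩
  let σ2 : ↥(Cfsg.Omega (ZMod 2) Q) := ⟨s2, hΩ2⟩
  obtain ⟨a1, ha1, hfa1⟩ := vec_surj e (f σ1)
  obtain ⟨a2, ha2, hfa2⟩ := vec_surj e (f σ2)
  have hf1 : f 1 = 0 := by
    have := hf 1 1
    rw [mul_one] at this
    have h1 : Matrix.mulVec (((1 : ↥(Cfsg.Omega (ZMod 2) Q)) :
        ↥(Cfsg.isometryGroup (ZMod 2) Q)) : GL ι (ZMod 2)).1 (f 1) = f 1 := by
      simp
    rw [h1] at this
    exact left_eq_add.mp this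
  have hword : ∀ w : List Bool, f (wordG σ1 σ2 w) = vec e (cocB M1 M2 a1 a2 w) := by
    intro w
    induction w with
    | nil => rw [wordG, cocB, hf1, vec_zero]
    | cons b w ih =>
      cases b
      · rw [wordG, cocB, hf, ih, vec_xor, hfa1]
        congr 1
        show (G1 : Matrix ι ι (ZMod 2)) *ᵥ _ = _
        rw [hG1, toM_mulVec e M1 (le_of_eq l1)]
      · rw [wordG, cocB, hf, ih, vec_xor, hfa2]
        congr 1
        show (G2 : Matrix ι ι (ZMod 2)) *ᵥ _ = _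
        rw [hG2, toM_mulVec e M2 (le_of_eq l2)]
  have hwordG : ∀ w : List Bool,
      (((wordG σ1 σ2 w : ↥(Cfsg.Omega (ZMod 2) Q)) : ↥(Cfsg.isometryGroup (ZMod 2) Q)) :
        GL ι (ZMod 2)) = wordG G1 G2 w := by
    intro w
    induction w with
    | nil => rfl
    | cons b w ih =>
      cases b
      · rw [wordG, wordG, ← ih]; rfl
      · rw [wordG, wordG, ← ih]; rfl
  have hrels : ∀ w ∈ rels, cocB M1 M2 a1 a2 w = 0 := by
    intro w hw
    have h1 : wordG σ1 σ2 w = 1 := by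
      apply Subtype.ext
      apply Subtype.ext
      rw [hwordG]
      exact gl_eq_one_of_toM e _ _
        (toM_wordB e M1 M2 (le_of_eq l1) (le_of_eq l2) G1 G2 hG1 hG2 w) (hrel w hw)
    have h2 := hword w
    rw [h1, hf1, ← vec_zero e] at h2
    exact (vec_inj e (Nat.two_pow_pos n) (cocB_lt M1 M2 hc1 hc2 a1 a2 ha1 ha2 w) h2).symm
  obtain ⟨v0, _, hv1, hv2⟩ := hcoc a1 ha1 a2 ha2 hrels
  refine ⟨vec e v0, ?_⟩
  have hsub : ∀ x y : ι → ZMod 2, x - y = x + y := by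
    intro x y
    funext i
    exact CharTwo.sub_eq_add _ _
  apply coc_principal_of_gens Q S hS hgen f hf
  intro s hs
  rcases hs with rfl | rfl
  · show f σ1 = (G1 : Matrix ι ι (ZMod 2)) *ᵥ vec e v0 - vec e v0
    rw [← hfa1, ← hv1, vec_xor, hG1, toM_mulVec e M1 (le_of_eq l1), hsub]
  · show f σ2 = (G2 : Matrix ι ι (ZMod 2)) *ᵥ vec e v0 - vec e v0
    rw [← hfa2, ← hv2, vec_xor, hG2, toM_mulVec e M2 (le_of_eq l2), hsub]

end H1

end Cfsg.Agent.Lib.Helper6.BitMat
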