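import Mathlib

/-! # Matrices over the field with two elements as lists of column bit masks

A vector of `ZMod 2 ^ ι` is coded by a natural number (bit `e i` is the coordinate `i`, for an
equivalence `e : ι ≃ Fin n`), a square matrix by the list of the codes of its columns. The operations
on the codes only use the bitwise operations on natural numbers, which the kernel evaluates quickly. -/

set_option autoImplicit false
set_option linter.unusedSectionVars false

namespace Cfsg.Agent.Lib.Helper6.BitMat

open Matrix

/-- a bit as an element of the field with two elements -/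
def bz (b : Bool) : ZMod 2 := if b then 1 else 0

theorem bz_xor (a b : Bool) : bz (a ^^ b) = bz a + bz b := by cases a <;> cases b <;> decide

theorem bz_mul (a b : Bool) : bz (a && b) = bz a * bz b := by cases a <;> cases b <;> decide

@[simp] theorem bz_false : bz false = 0 := rfl

@[simp] theorem bz_true : bz true = 1 := rfl

theorem bz_inj {a b : Bool} (h : bz a = bz b) : a = b := by
  cases a <;> cases b <;> first | rfl | (exfalso; revert h; decide)

theorem bz_decide (x : ZMod 2) : bz (decide (x = 1)) = x := by
  have h : x = 0 ∨ x = 1 := by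
    revert x
    decide
  rcases h with h | h <;> subst h <;> decide

/-- the image of the coded vector `v` under the coded matrix -/
def app : List ℕ → ℕ → ℕ
  | [], _ => 0
  | c :: cs, v => (if v.testBit 0 then c else 0) ^^^ app cs (v / 2)

theorem app_zero (M : List ℕ) : app M 0 = 0 := by
  induction M with
  | nil => rfl
  | cons c cs ih => simp [app, ih]

theorem app_lt {n : ℕ} (M : List ℕ) (hM : ∀ c ∈ M, c < 2 ^ n) (v : ℕ) : app M v < 2 ^ n := by
  induction M generalizing v with
  | nil => simp [app]
  | cons c cs ih =>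
    rw [app]
    apply Nat.xor_lt_two_pow
    · split
      · exact hM c (by simp)
      · exact Nat.two_pow_pos n
    · exact ih (fun c' hc' => hM c' (by simp [hc'])) _

theorem bz_testBit_app (M : List ℕ) (v i : ℕ) :
    bz ((app M v).testBit i) =
      ∑ k ∈ Finset.range M.length, bz ((M.getD k 0).testBit i) * bz (v.testBit k) := by
  induction M generalizing v with
  | nil => simp [app]
  | cons c cs ih =>
    rw [app, Nat.testBit_xor, bz_xor, ih, List.length_cons, Finset.sum_range_succ']
    have h0 : bz ((if v.testBit 0 then c else 0).testBit i) =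
        bz (((c :: cs).getD 0 0).testBit i) * bz (v.testBit 0) := by
      by_cases h : v.testBit 0 <;> simp [h]
    rw [h0, add_comm]
    congr 1
    apply Finset.sum_congr rfl
    intro k _
    rw [Nat.testBit_div_two, List.getD_cons_succ]

theorem app_xor (M : List ℕ) (u v : ℕ) : app M (u ^^^ v) = app M u ^^^ app M v := by
  apply Nat.eq_of_testBit_eq
  intro i
  apply bz_inj
  rw [Nat.testBit_xor, bz_xor, bz_testBit_app, bz_testBit_app, bz_testBit_app,
    ← Finset.sum_add_distrib]
  apply Finset.sum_congr rfl
  intro k _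
  rw [Nat.testBit_xor, bz_xor, mul_add]

section Bridge

variable {ι : Type} [Fintype ι] [DecidableEq ι] {n : ℕ} (e : ι ≃ Fin n)

/-- the vector coded by a number -/
def vec (v : ℕ) : ι → ZMod 2 := fun i => bz (v.testBit (e i))

/-- the matrix coded by the list of its columns -/
def toM (M : List ℕ) : Matrix ι ι (ZMod 2) :=
  Matrix.of fun i j => bz ((M.getD (e j) 0).testBit (e i))

theorem vec_xor (u v : ℕ) : vec e (u ^^^ v) = vec e u + vec e v := by
  funext i
  simp [vec, bz_xor]

theorem vec_zero : vec e 0 = 0 := by
  funext i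
  simp [vec]

theorem toM_mulVec (M : List ℕ) (hM : M.length ≤ n) (v : ℕ) :
    toM e M *ᵥ vec e v = vec e (app M v) := by
  funext i
  rw [Matrix.mulVec, dotProduct]
  simp only [toM, vec, Matrix.of_apply]
  rw [bz_testBit_app, ← Equiv.sum_comp e.symm]
  simp only [Equiv.apply_symm_apply]
  rw [Fin.sum_univ_eq_sum_range (fun k => bz ((M.getD k 0).testBit (e i)) * bz (v.testBit k)) n]
  symm
  apply Finset.sum_subset
  · intro k hk
    rw [Finset.mem_range] at hk ⊢
    omega
  · intro k _ hk
    rw [Finset.mem_range, not_lt] at hk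
    rw [List.getD_eq_default _ _ hk]
    simp

/-- the product of two coded matrices -/
def mulB (A B : List ℕ) : List ℕ := B.map (app A)

theorem length_mulB (A B : List ℕ) : (mulB A B).length = B.length := by simp [mulB]

theorem getD_mulB (A B : List ℕ) (k : ℕ) : (mulB A B).getD k 0 = app A (B.getD k 0) := by
  unfold mulB
  conv_lhs => rw [← app_zero A]
  rw [List.getD_map]

theorem toM_mulB (A B : List ℕ) (hA : A.length ≤ n) :
    toM e (mulB A B) = toM e A * toM e B := by
  ext i j
  have h1 : (toM e A * toM e B) i j = (toM e A *ᵥ vec e (B.getD (e j) 0)) i := by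
    rw [Matrix.mul_apply, Matrix.mulVec, dotProduct]
    rfl
  rw [h1, toM_mulVec e A hA]
  simp only [toM, vec, Matrix.of_apply, getD_mulB]

/-- the coded identity matrix -/
def idB (n : ℕ) : List ℕ := (List.range n).map fun j => 2 ^ j

theorem length_idB (n : ℕ) : (idB n).length = n := by simp [idB]

theorem toM_idB : toM e (idB n) = 1 := by
  ext i j
  have hj : ((e j : Fin n) : ℕ) < n := (e j).2
  have h : (idB n).getD (e j) 0 = 2 ^ ((e j : Fin n) : ℕ) := by
    unfold idB
    rw [List.getD_eq_getElem _ _ (by simpa using hj)]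
    simp
  simp only [toM, Matrix.of_apply, h, Nat.testBit_two_pow, Matrix.one_apply]
  by_cases hij : i = j
  · subst hij
    simp
  · have : ((e j : Fin n) : ℕ) ≠ ((e i : Fin n) : ℕ) := by
      intro h'
      exact hij (e.injective (Fin.ext h'.symm))
    simp [hij, this]

theorem vec_surj (w : ι → ZMod 2) : ∃ v, v < 2 ^ n ∧ vec e v = w := by
  refine ⟨Nat.ofBits fun k : Fin n => decide (w (e.symm k) = 1), Nat.ofBits_lt_two_pow _, ?_⟩
  funext i
  simp only [vec]
  rw [Nat.testBit_ofBits_lt _ _ (e i).2]
  simp only [Fin.eta, Equiv.symm_apply_apply]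
  exact bz_decide _

theorem vec_inj {a b : ℕ} (ha : a < 2 ^ n) (hb : b < 2 ^ n) (h : vec e a = vec e b) : a = b := by
  apply Nat.eq_of_testBit_eq
  intro i
  by_cases hi : i < n
  · have := congrFun h (e.symm ⟨i, hi⟩)
    simp only [vec, Equiv.apply_symm_apply] at this
    exact bz_inj this
  · rw [not_lt] at hi
    rw [Nat.testBit_lt_two_pow (lt_of_lt_of_le ha (Nat.pow_le_pow_right (by norm_num) hi)),
      Nat.testBit_lt_two_pow (lt_of_lt_of_le hb (Nat.pow_le_pow_right (by norm_num) hi))]

/-- the invertible matrix coded by a list, given the code of its inverse -/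
def glB (M Mi : List ℕ) (hM : M.length ≤ n) (hMi : Mi.length ≤ n) (h1 : mulB M Mi = idB n)
    (h2 : mulB Mi M = idB n) : GL ι (ZMod 2) :=
  ⟨toM e M, toM e Mi, by rw [← toM_mulB e _ _ hM, h1, toM_idB], by
    rw [← toM_mulB e _ _ hMi, h2, toM_idB]⟩

theorem coe_glB (M Mi : List ℕ) (hM : M.length ≤ n) (hMi : Mi.length ≤ n)
    (h1 : mulB M Mi = idB n) (h2 : mulB Mi M = idB n) :
    ((glB e M Mi hM hMi h1 h2 : GL ι (ZMod 2)) : Matrix ι ι (ZMod 2)) = toM e M := rfl

end Bridge

theorem app_mulB (A B : List ℕ) (v : ℕ) : app (mulB A B) v = app A (app B v) := by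
  apply Nat.eq_of_testBit_eq
  intro i
  apply bz_inj
  rw [bz_testBit_app, bz_testBit_app, length_mulB]
  simp only [getD_mulB, bz_testBit_app, Finset.sum_mul, Finset.mul_sum]
  rw [Finset.sum_comm]
  apply Finset.sum_congr rfl
  intro j _
  apply Finset.sum_congr rfl
  intro k _
  ring

theorem app_idB (n v : ℕ) (hv : v < 2 ^ n) : app (idB n) v = v := by
  apply Nat.eq_of_testBit_eq
  intro i
  apply bz_inj
  rw [bz_testBit_app, length_idB]
  have hget : ∀ k ∈ Finset.range n, (idB n).getD k 0 = 2 ^ k := by
    intro k hk
    rw [Finset.mem_range] at hk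
    unfold idB
    rw [List.getD_eq_getElem _ _ (by simpa using hk)]
    simp
  rw [Finset.sum_congr rfl (fun k hk => by rw [hget k hk, Nat.testBit_two_pow])]
  by_cases hi : i < n
  · rw [Finset.sum_eq_single i]
    · simp
    · intro k _ hki
      simp [hki]
    · intro h
      exact absurd (Finset.mem_range.mpr hi) h
  · rw [not_lt] at hi
    rw [Nat.testBit_lt_two_pow (lt_of_lt_of_le hv (Nat.pow_le_pow_right (by norm_num) hi))]
    rw [bz_false]
    apply Finset.sum_eq_zero
    intro k hk
    rw [Finset.mem_range] at hk
    have : k ≠ i := by omega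
    simp [this]

end Cfsg.Agent.Lib.Helper6.BitMat
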