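import Mathlib
import Cfsg.Agent.Lib.Helper8.CamDefs

/-!
S4140 piece (D): rank one.  Abstract lemma (D0) on two commuting fixed-point-free
automorphisms of exponent `q` of a finite abelian `q'`-group, and its application to a
Camina pair.
-/

set_option autoImplicit false

namespace Cfsg.Agent.Lib.Helper6.Cam

open Cfsg.Agent.Lib.Helper8.Cam

/-- norm product of a fixed-point-free automorphism of exponent `q` is trivial -/
theorem prod_pow_eq_one {V : Type*} [CommGroup V] (q : ℕ) (γ : MulAut V) (hγ : γ ^ q = 1)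
    (hfix : ∀ v, γ v = v → v = 1) (v : V) : ∏ k ∈ Finset.range q, (γ ^ k) v = 1 := by
  apply hfix
  rw [map_prod]
  have hstep : ∀ k, γ ((γ ^ k) v) = (γ ^ (k + 1)) v := by
    intro k
    rw [pow_succ', MulAut.mul_apply]
  simp_rw [hstep]
  have h1 := Finset.prod_range_succ (fun k => (γ ^ k) v) q
  have h2 := Finset.prod_range_succ' (fun k => (γ ^ k) v) q
  rw [h1] at h2
  simp only [hγ, pow_zero, MulAut.one_apply] at h2
  exact (mul_right_cancel h2).symm

/-- (D0) -/
theorem D0 {V : Type*} [CommGroup V] [Finite V] (q : ℕ) (hq : 1 < q) (α β : MulAut V)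
    (hcomm : Commute α β) (hα : α ^ q = 1) (hβ : β ^ q = 1)
    (hfix : ∀ i j, i < q → j < q → (i ≠ 0 ∨ j ≠ 0) → ∀ v, (α ^ i * β ^ j) v = v → v = 1)
    (hcop : (Nat.card V).Coprime q) (v : V) : v = 1 := by
  have hT1 : ∀ j < q, ∏ k ∈ Finset.range q, ((α * β ^ j) ^ k) v = 1 := by
    intro j hj
    refine prod_pow_eq_one q (α * β ^ j) ?_ ?_ v
    · rw [(hcomm.pow_right j).mul_pow, hα, ← pow_mul, mul_comm, pow_mul, hβ, one_pow, one_mul]
    · intro w hw
      refine hfix 1 j hq hj (Or.inl one_ne_zero) w ?_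
      rw [pow_one]
      exact hw
  have hT2 : ∀ k, k ≠ 0 → k < q → ∏ j ∈ Finset.range q, ((β ^ k) ^ j) v = 1 := by
    intro k hk0 hk
    refine prod_pow_eq_one q (β ^ k) ?_ ?_ v
    · rw [← pow_mul, mul_comm, pow_mul, hβ, one_pow]
    · intro w hw
      refine hfix 0 k (by omega) hk (Or.inr hk0) w ?_
      rw [pow_zero, one_mul]
      exact hw
  have key : ∏ j ∈ Finset.range q, ∏ k ∈ Finset.range q, ((α * β ^ j) ^ k) v = v ^ q := by
    rw [Finset.prod_comm, Finset.prod_eq_single 0]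
    · simp
    · intro k hk hk0
      have hform : ∀ j, ((α * β ^ j) ^ k) v = (α ^ k) (((β ^ k) ^ j) v) := by
        intro j
        rw [(hcomm.pow_right j).mul_pow, ← pow_mul, mul_comm j k, pow_mul, MulAut.mul_apply]
      simp_rw [hform]
      rw [← map_prod, hT2 k hk0 (Finset.mem_range.mp hk), map_one]
    · intro h
      exact absurd (Finset.mem_range.mpr (by omega)) h
  have hvq : v ^ q = 1 := by
    rw [← key]
    exact Finset.prod_eq_one (fun j hj => hT1 j (Finset.mem_range.mp hj))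
  have h1 : orderOf v ∣ q := orderOf_dvd_of_pow_eq_one hvq
  have h2 : orderOf v ∣ Nat.card V := orderOf_dvd_natCard v
  have h3 : orderOf v ∣ Nat.gcd (Nat.card V) q := Nat.dvd_gcd h2 h1
  rw [hcop] at h3
  exact orderOf_eq_one_iff.mp (Nat.dvd_one.mp h3)

/-- local copy of (A1) -/
theorem camD_pow_orderOf_eq_one {G : Type*} [Group G] (N : Subgroup G) (hc : IsCam N) {g n : G} (hg : g ∉ N) (hn : n ∈ N)
    (hgn : Commute g n) : n ^ orderOf g = 1 := by
  obtain ⟨x, hx⟩ := hc g hg n hn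
  have h1 : (g * n) ^ orderOf g = 1 := by
    rw [← hx, conj_pow, pow_orderOf_eq_one, mul_one, mul_inv_cancel]
  rw [hgn.mul_pow, pow_orderOf_eq_one, one_mul] at h1
  exact h1

variable {G : Type*} [Group G] [Finite G] (N : Subgroup G) [N.Normal]

omit [Finite G] [N.Normal] in
/-- local copy of (A4) -/
theorem camD_inf_centralizer_eq_bot (hc : IsCam N) {q : ℕ} [Fact q.Prime] {g : G} (hg : g ∉ N)
    (hgq : ∃ k : ℕ, orderOf g = q ^ k) (V : Subgroup G) (hVN : V ≤ N)
    (hV : (Nat.card V).Coprime q) : V ⊓ Subgroup.centralizer ({g} : Set G) = ⊥ := by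
  rw [eq_bot_iff]
  intro v hv
  obtain ⟨hvV, hvC⟩ := hv
  rw [Subgroup.mem_bot]
  have hcomm : Commute g v := by
    have := Subgroup.mem_centralizer_iff.mp hvC g (Set.mem_singleton g)
    exact this
  have h1 := camD_pow_orderOf_eq_one N hc hg (hVN hvV) hcomm
  obtain ⟨k, hk⟩ := hgq
  rw [hk] at h1
  have h2 : orderOf v ∣ q ^ k := orderOf_dvd_of_pow_eq_one h1
  have h3 : orderOf v ∣ Nat.card V := by
    have := orderOf_dvd_natCard (⟨v, hvV⟩ : V)
    rwa [Subgroup.orderOf_mk] at this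
  have h4 : orderOf v ∣ Nat.gcd (Nat.card V) (q ^ k) := Nat.dvd_gcd h3 h2
  rw [Nat.Coprime.pow_right k hV] at h4
  exact orderOf_eq_one_iff.mp (Nat.dvd_one.mp h4)

/-- (D) -/
theorem exists_pow_mul_pow_mem (hc : IsCam N) (q : ℕ) [Fact q.Prime] (Q : Sylow q G)
    (V : Subgroup G) (hV1 : V ≠ ⊥) (hVN : V ≤ N) (hVab : IsMulCommutative V)
    (hVq : (Nat.card V).Coprime q) (hQV : (Q : Subgroup G) ≤ Subgroup.normalizer (V : Set G))
    (hQ0V : N ⊓ (Q : Subgroup G) ≤ Subgroup.centralizer (V : Set G))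
    (a b : G) (ha : a ∈ (Q : Subgroup G)) (hb : b ∈ (Q : Subgroup G)) (haq : a ^ q ∈ N)
    (hbq : b ^ q ∈ N) (hab : a * b * a⁻¹ * b⁻¹ ∈ N) :
    ∃ i j : ℕ, i < q ∧ j < q ∧ (i ≠ 0 ∨ j ≠ 0) ∧ a ^ i * b ^ j ∈ N := by
  by_contra hcon
  push Not at hcon
  have hq : q.Prime := Fact.out
  apply hV1
  rw [eq_bot_iff]
  intro v hv
  rw [Subgroup.mem_bot]
  let _ : CommGroup V := { (inferInstance : Group V) with mul_comm := hVab.is_comm.comm }
  set a' : Subgroup.normalizer (V : Set G) := ⟨a, hQV ha⟩ with ha'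
  set b' : Subgroup.normalizer (V : Set G) := ⟨b, hQV hb⟩ with hb'
  set φ := V.normalizerMonoidHom with hφ
  have hker : ∀ g : Subgroup.normalizer (V : Set G),
      (g : G) ∈ N ⊓ (Q : Subgroup G) → φ g = 1 := by
    intro g hg
    have : g ∈ φ.ker := by
      rw [hφ, Subgroup.normalizerMonoidHom_ker, Subgroup.mem_subgroupOf]
      exact hQ0V hg
    exact MonoidHom.mem_ker.mp this
  have hcomm : Commute (φ a') (φ b') := by
    have h1 : φ (a' * b' * a'⁻¹ * b'⁻¹) = 1 := by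
      apply hker
      refine ⟨hab, ?_⟩
      exact Subgroup.mul_mem _ (Subgroup.mul_mem _ (Subgroup.mul_mem _ ha hb)
        (Subgroup.inv_mem _ ha)) (Subgroup.inv_mem _ hb)
    have h2 : a' * b' = (a' * b' * a'⁻¹ * b'⁻¹) * (b' * a') := by group
    unfold Commute SemiconjBy
    rw [← map_mul, ← map_mul, h2, map_mul, h1, one_mul]
  have hα : (φ a') ^ q = 1 := by
    rw [← map_pow]
    exact hker _ ⟨haq, Subgroup.pow_mem _ ha q⟩
  have hβ : (φ b') ^ q = 1 := by
    rw [← map_pow]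
    exact hker _ ⟨hbq, Subgroup.pow_mem _ hb q⟩
  have hfix : ∀ i j, i < q → j < q → (i ≠ 0 ∨ j ≠ 0) → ∀ w : V,
      ((φ a') ^ i * (φ b') ^ j) w = w → w = 1 := by
    intro i j hi hj hij w hw
    have hgN : a ^ i * b ^ j ∉ N := hcon i j hi hj hij
    have hgQ : a ^ i * b ^ j ∈ (Q : Subgroup G) :=
      Subgroup.mul_mem _ (Subgroup.pow_mem _ ha i) (Subgroup.pow_mem _ hb j)
    have hgq : ∃ k : ℕ, orderOf (a ^ i * b ^ j) = q ^ k := by
      obtain ⟨k, hk⟩ := Q.isPGroup' ⟨_, hgQ⟩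
      have hk' : (a ^ i * b ^ j) ^ q ^ k = 1 := by
        have := congrArg Subtype.val hk
        simpa using this
      exact (Nat.dvd_prime_pow hq).mp (orderOf_dvd_of_pow_eq_one hk') |>.imp fun m hm => hm.2
    have hbot := camD_inf_centralizer_eq_bot N hc hgN hgq V hVN hVq
    have hw' : (a ^ i * b ^ j) * (w : G) * (a ^ i * b ^ j)⁻¹ = (w : G) := by
      rw [← map_pow, ← map_pow, ← map_mul] at hw
      have := congrArg Subtype.val hw
      simpa [hφ, ha', hb'] using this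
    have hmem : (w : G) ∈ V ⊓ Subgroup.centralizer ({a ^ i * b ^ j} : Set G) := by
      refine ⟨w.2, ?_⟩
      show (w : G) ∈ Subgroup.centralizer ({a ^ i * b ^ j} : Set G)
      rw [Subgroup.mem_centralizer_iff]
      intro h hh
      rw [Set.mem_singleton_iff] at hh
      subst hh
      calc (a ^ i * b ^ j) * (w : G)
          = ((a ^ i * b ^ j) * (w : G) * (a ^ i * b ^ j)⁻¹) * (a ^ i * b ^ j) := by group
        _ = (w : G) * (a ^ i * b ^ j) := by rw [hw']
    rw [hbot, Subgroup.mem_bot] at hmem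
    exact Subtype.ext hmem
  have := D0 q hq.one_lt (φ a') (φ b') hcomm hα hβ hfix hVq ⟨v, hv⟩
  exact congrArg Subtype.val this

end Cfsg.Agent.Lib.Helper6.Cam
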