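import Mathlib
import Cfsg.Agent.Lib.Helper8.CamDefs
import Cfsg.Agent.Lib.Helper8.CamA
import Cfsg.Agent.Lib.Lead.PGroup

/-!
S4140 piece (E): the endgame `false_of_rank_one`.
-/

set_option autoImplicit false

namespace Cfsg.Agent.Lib.Helper6.Cam

open Cfsg.Agent.Lib.Helper8.Cam
open scoped Pointwise

/-- `|W| = |W ⊓ ker f| * |f(W)|` -/
theorem card_eq_ker_mul_map {G G' : Type*} [Group G] [Group G'] (f : G →* G') (W : Subgroup G) :
    Nat.card W = Nat.card (W ⊓ f.ker : Subgroup G) * Nat.card (W.map f) := by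
  have h1 := Subgroup.card_mul_index (f.comp W.subtype).ker
  rw [Subgroup.index_ker] at h1
  have h2 : (f.comp W.subtype).range = W.map f := by
    rw [MonoidHom.range_comp, Subgroup.range_subtype]
  have h3 : (f.comp W.subtype).ker = (W ⊓ f.ker).subgroupOf W := by
    rw [← MonoidHom.comap_ker, Subgroup.inf_subgroupOf_left]
    rfl
  have h4 : Nat.card ((W ⊓ f.ker).subgroupOf W) = Nat.card (W ⊓ f.ker : Subgroup G) :=
    Nat.card_congr (Subgroup.subgroupOfEquivOfLe inf_le_left).toEquiv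
  rw [h2, h3, h4] at h1
  exact h1.symm

/-- a `q`-subgroup of `Y` has order dividing the `q`-part of `|Y|` -/
theorem card_dvd_qpart {G : Type*} [Group G] [Finite G] (q : ℕ) [hq : Fact q.Prime]
    (X Y : Subgroup G) (hX : IsPGroup q X) (hXY : X ≤ Y) :
    Nat.card X ∣ q ^ (Nat.card Y).factorization q := by
  obtain ⟨a, ha⟩ := hX.exists_card_eq
  have hdvd : Nat.card X ∣ Nat.card Y := Subgroup.card_dvd_of_le hXY
  rw [ha] at hdvd ⊢
  have hY0 : Nat.card Y ≠ 0 := Nat.card_pos.ne'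
  exact pow_dvd_pow q ((hq.out.pow_dvd_iff_le_factorization hY0).mp hdvd)


/-- there is a `q`-element outside `N` when `q ∣ |G:N|`; we get it inside a Sylow subgroup -/
theorem exists_mem_sylow_not_mem {G : Type*} [Group G] [Finite G] (N : Subgroup G)
    (q : ℕ) [hq : Fact q.Prime] (hqI : q ∣ N.index) (Q : Sylow q G) :
    ∃ g ∈ (Q : Subgroup G), g ∉ N := by
  by_contra h
  push Not at h
  have hle : (Q : Subgroup G) ≤ N := h
  have h1 : N.index ∣ (Q : Subgroup G).index := Subgroup.index_dvd_of_le hle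
  exact Q.not_dvd_index (hqI.trans h1)

/-- a nontrivial element of `N ⊓ Z(Q)` -/
theorem exists_central_mem {G : Type*} [Group G] [Finite G] (N : Subgroup G) [N.Normal]
    (q : ℕ) [hq : Fact q.Prime] (hqN : q ∣ Nat.card N) (Q : Sylow q G) :
    ∃ z ∈ (Q : Subgroup G), z ∈ N ∧ z ≠ 1 ∧ ∀ g ∈ (Q : Subgroup G), g * z = z * g := by
  -- an element of order `q` in `N`, conjugated into `Q`
  obtain ⟨n, hn⟩ := exists_prime_orderOf_dvd_card' (G := N) q hqN
  have hzp : IsPGroup q (Subgroup.zpowers (n : G)) := by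
    rw [IsPGroup.iff_orderOf]
    rintro ⟨x, hx⟩
    obtain ⟨k, rfl⟩ := Subgroup.mem_zpowers_iff.mp hx
    have h1 : orderOf ((n : G) ^ k) ∣ q := by
      rw [← Subgroup.orderOf_coe n] at *
      rw [← hn]
      exact orderOf_dvd_of_pow_eq_one (by rw [← zpow_natCast, ← zpow_mul, mul_comm, zpow_mul,
        zpow_natCast, _root_.pow_orderOf_eq_one, one_zpow])
    rcases (Nat.dvd_prime hq.out).mp h1 with h | h
    · exact ⟨0, by rw [Subgroup.orderOf_mk, h, pow_zero]⟩
    · exact ⟨1, by rw [Subgroup.orderOf_mk, h, pow_one]⟩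
  obtain ⟨Q', hQ'⟩ := hzp.exists_le_sylow
  obtain ⟨g, hg⟩ := MulAction.exists_smul_eq G Q' Q
  have hn1 : (n : G) ≠ 1 := by
    intro h
    have : orderOf (n : G) = 1 := by rw [h, orderOf_one]
    rw [Subgroup.orderOf_coe, hn] at this
    exact hq.out.one_lt.ne' this
  have hmem : g * (n : G) * g⁻¹ ∈ (Q : Subgroup G) := by
    have h1 : MulAut.conj g • (n : G) ∈ MulAut.conj g • (Q' : Subgroup G) :=
      Subgroup.smul_mem_pointwise_smul _ _ _ (hQ' (Subgroup.mem_zpowers _))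
    rw [← hg, Sylow.smul_def, Sylow.pointwise_smul_def]
    rw [MulAut.smul_def, MulAut.conj_apply] at h1
    exact h1
  have hmemN : g * (n : G) * g⁻¹ ∈ N := ‹N.Normal›.conj_mem _ n.2 g
  have hne : N.subgroupOf (Q : Subgroup G) ≠ ⊥ := by
    intro h
    have : (⟨g * (n : G) * g⁻¹, hmem⟩ : (Q : Subgroup G)) ∈ N.subgroupOf (Q : Subgroup G) := by
      rw [Subgroup.mem_subgroupOf]
      exact hmemN
    rw [h, Subgroup.mem_bot] at this
    have h2 : g * (n : G) * g⁻¹ = 1 := congrArg Subtype.val this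
    apply hn1
    calc (n : G) = g⁻¹ * (g * (n : G) * g⁻¹) * g := by group
      _ = 1 := by rw [h2]; group
  obtain ⟨z, hzN, hzZ, hz1⟩ :=
    Cfsg.Agent.Lib.Lead.PGroup.exists_mem_center_of_normal Q.isPGroup'
      (N.subgroupOf (Q : Subgroup G)) hne
  refine ⟨(z : G), z.2, Subgroup.mem_subgroupOf.mp hzN, fun h => hz1 (Subtype.ext h), ?_⟩
  intro x hx
  have := Subgroup.mem_center_iff.mp hzZ ⟨x, hx⟩
  exact congrArg Subtype.val this


theorem mem_of_pow_mem_of_coprime {G : Type*} [Group G] (H : Subgroup G) (x : G) (j q : ℕ)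
    (hc : Nat.Coprime j q) (h1 : x ^ j ∈ H) (h2 : x ^ q ∈ H) : x ∈ H := by
  have hb := Nat.gcd_eq_gcd_ab j q
  rw [hc.gcd_eq_one] at hb
  have hx : x = (x ^ j) ^ (Nat.gcdA j q) * (x ^ q) ^ (Nat.gcdB j q) := by
    rw [← zpow_natCast, ← zpow_natCast, ← zpow_mul, ← zpow_mul, ← zpow_add, ← hb]
    simp
  rw [hx]
  exact H.mul_mem (H.zpow_mem h1 _) (H.zpow_mem h2 _)

theorem orderOf_eq_pow_of_mem_sylow {G : Type*} [Group G] (q : ℕ) [hq : Fact q.Prime]
    (Q : Sylow q G) (g : G) (hg : g ∈ (Q : Subgroup G)) : ∃ k : ℕ, orderOf g = q ^ k := by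
  obtain ⟨k, hk⟩ := Q.isPGroup' ⟨g, hg⟩
  have hk' : g ^ q ^ k = 1 := by
    have := congrArg Subtype.val hk
    simpa using this
  exact ((Nat.dvd_prime_pow hq.out).mp (orderOf_dvd_of_pow_eq_one hk')).imp fun m hm => hm.2

theorem isPGroup_zpowers_of_orderOf {G : Type*} [Group G] (q : ℕ) [hq : Fact q.Prime]
    (g : G) (k : ℕ) (hk : orderOf g = q ^ k) : IsPGroup q (Subgroup.zpowers g) := by
  apply IsPGroup.of_card (n := k)
  rw [Nat.card_zpowers, hk]


/-- key counting step: a `q`-element `v` commuting with `u` modulo `N`, in a common Sylow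
subgroup with `u`, whose image is not a power of the image of `u`. -/
theorem exists_extra_element {G : Type*} [Group G] [Finite G] (N : Subgroup G) [N.Normal]
    (hA2 : ∀ g : G, g ∉ N → Nat.card (Subgroup.centralizer ({g} : Set G)) =
      Nat.card (Subgroup.centralizer ({(QuotientGroup.mk g : G ⧸ N)} : Set (G ⧸ N))))
    (q : ℕ) [hqf : Fact q.Prime] (hqN : q ∣ Nat.card N)
    (u : G) (huN : u ∉ N) (k m : ℕ) (hk : orderOf u = q ^ k)
    (hm : orderOf (QuotientGroup.mk' N u) = q ^ m) :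
    ∃ (Q' : Sylow q G) (v : G), u ∈ (Q' : Subgroup G) ∧ v ∈ (Q' : Subgroup G) ∧
      Commute (QuotientGroup.mk' N v) (QuotientGroup.mk' N u) ∧
      QuotientGroup.mk' N v ∉ Subgroup.zpowers (QuotientGroup.mk' N u) := by
  have hq : q.Prime := hqf.out
  set π := QuotientGroup.mk' N with hπ
  have hker : π.ker = N := QuotientGroup.ker_mk' N
  -- a Sylow subgroup containing `u` and a central element `z` of it inside `N`
  obtain ⟨Q, hQ⟩ := (isPGroup_zpowers_of_orderOf q u k hk).exists_le_sylow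
  have huQ : u ∈ (Q : Subgroup G) := hQ (Subgroup.mem_zpowers u)
  obtain ⟨z, hzQ, hzN, hz1, hzc⟩ := exists_central_mem N q hqN Q
  -- `W = C_Q(u)`
  set W : Subgroup G := (Q : Subgroup G) ⊓ Subgroup.centralizer ({u} : Set G) with hW
  have huW : u ∈ W := by
    refine ⟨huQ, ?_⟩
    show u ∈ Subgroup.centralizer ({u} : Set G)
    rw [Subgroup.mem_centralizer_iff]
    intro h hh
    rw [Set.mem_singleton_iff] at hh
    rw [hh]
  have hzW : z ∈ W := by
    refine ⟨hzQ, ?_⟩
    show z ∈ Subgroup.centralizer ({u} : Set G)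
    rw [Subgroup.mem_centralizer_iff]
    intro h hh
    rw [Set.mem_singleton_iff] at hh
    rw [hh]
    exact hzc u huQ
  have hWp : IsPGroup q W := Q.isPGroup'.to_le inf_le_left
  have hWcard := card_eq_ker_mul_map π W
  rw [hker] at hWcard
  have hWN : q ≤ Nat.card (W ⊓ N : Subgroup G) := by
    have hp : IsPGroup q (W ⊓ N : Subgroup G) := hWp.to_le inf_le_left
    obtain ⟨a, ha⟩ := hp.exists_card_eq
    rw [ha]
    have ha0 : a ≠ 0 := by
      intro h0
      rw [h0, pow_zero] at ha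
      have hbot : (W ⊓ N : Subgroup G) = ⊥ := Subgroup.card_eq_one.mp ha
      have hzmem : z ∈ (W ⊓ N : Subgroup G) := ⟨hzW, hzN⟩
      rw [hbot, Subgroup.mem_bot] at hzmem
      exact hz1 hzmem
    calc q = q ^ 1 := (pow_one q).symm
      _ ≤ q ^ a := Nat.pow_le_pow_right hq.pos (Nat.one_le_iff_ne_zero.mpr ha0)
  have hWmap : q ^ m ≤ Nat.card (W.map π) := by
    have hle : Subgroup.zpowers (π u) ≤ W.map π := by
      rw [Subgroup.zpowers_le]
      exact ⟨u, huW, rfl⟩
    have := Subgroup.card_le_of_le hle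
    rwa [Nat.card_zpowers, hm] at this
  have hWbig : q ^ (m + 1) ≤ Nat.card W := by
    rw [hWcard, pow_succ, mul_comm]
    exact Nat.mul_le_mul hWN hWmap
  set vC := (Nat.card (Subgroup.centralizer ({u} : Set G))).factorization q with hvC
  set vN := (Nat.card N).factorization q with hvN
  have hWdvd : Nat.card W ∣ q ^ vC :=
    card_dvd_qpart q W (Subgroup.centralizer ({u} : Set G)) hWp inf_le_right
  have hm1 : m + 1 ≤ vC := by
    have h1 : q ^ (m + 1) ≤ q ^ vC := hWbig.trans (Nat.le_of_dvd (pow_pos hq.pos _) hWdvd)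
    exact (Nat.pow_le_pow_iff_right hq.one_lt).mp h1
  -- the preimage `D` of the centraliser of the image of `u`
  set D : Subgroup G := (Subgroup.centralizer ({π u} : Set (G ⧸ N))).comap π with hD
  have hND : N ≤ D := by
    intro n hn
    rw [hD, Subgroup.mem_comap]
    have : π n = 1 := (QuotientGroup.eq_one_iff n).mpr hn
    rw [this]
    exact Subgroup.one_mem _
  have hDcard : Nat.card D = Nat.card N * Nat.card (Subgroup.centralizer ({u} : Set G)) := by
    have h1 := card_eq_ker_mul_map π D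
    rw [hker, inf_eq_right.mpr hND, hD,
      Subgroup.map_comap_eq_self_of_surjective (QuotientGroup.mk'_surjective N)] at h1
    rw [h1, hA2 u huN]
    rfl
  have hvD : (Nat.card D).factorization q = vN + vC := by
    rw [hDcard, Nat.factorization_mul Nat.card_pos.ne' Nat.card_pos.ne', Finsupp.add_apply]
  -- a Sylow subgroup of `D` containing `u`
  have huD : u ∈ D := by
    rw [hD, Subgroup.mem_comap, Subgroup.mem_centralizer_iff]
    intro h hh
    rw [Set.mem_singleton_iff] at hh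
    rw [hh]
  have hzpD : IsPGroup q ((Subgroup.zpowers u).subgroupOf D) :=
    (isPGroup_zpowers_of_orderOf q u k hk).comap_of_injective D.subtype D.subtype_injective
  obtain ⟨T, hT⟩ := hzpD.exists_le_sylow
  set T' : Subgroup G := (T : Subgroup D).map D.subtype with hT'
  have hT'p : IsPGroup q T' := T.isPGroup'.map D.subtype
  have hT'D : T' ≤ D := Subgroup.map_subtype_le _
  have huT' : u ∈ T' := by
    refine ⟨⟨u, huD⟩, hT ?_, rfl⟩
    rw [Subgroup.mem_subgroupOf]
    exact Subgroup.mem_zpowers u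
  have hT'card : Nat.card T' = q ^ (vN + vC) := by
    rw [hT', Subgroup.card_map_of_injective D.subtype_injective, T.card_eq_multiplicity, hvD]
  have hex : ∃ v ∈ T', π v ∉ Subgroup.zpowers (π u) := by
    by_contra hcon
    push Not at hcon
    have hle : T'.map π ≤ Subgroup.zpowers (π u) := by
      rintro _ ⟨t, ht, rfl⟩
      exact hcon t ht
    have h1 : Nat.card (T'.map π) ≤ q ^ m := by
      have := Subgroup.card_le_of_le hle
      rwa [Nat.card_zpowers, hm] at this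
    have h2 : Nat.card (T' ⊓ N : Subgroup G) ≤ q ^ vN :=
      Nat.le_of_dvd (pow_pos hq.pos _)
        (card_dvd_qpart q (T' ⊓ N) N (hT'p.to_le inf_le_left) inf_le_right)
    have h3 := card_eq_ker_mul_map π T'
    rw [hker, hT'card] at h3
    have h4 : q ^ (vN + vC) ≤ q ^ (vN + m) := by
      rw [h3, pow_add]
      exact Nat.mul_le_mul h2 h1
    have h5 := (Nat.pow_le_pow_iff_right hq.one_lt).mp h4
    omega
  obtain ⟨v, hvT', hvH⟩ := hex
  obtain ⟨Q', hQ'⟩ := hT'p.exists_le_sylow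
  refine ⟨Q', v, hQ' huT', hQ' hvT', ?_, hvH⟩
  have hvD : v ∈ D := hT'D hvT'
  rw [hD, Subgroup.mem_comap, Subgroup.mem_centralizer_iff] at hvD
  exact (hvD (π u) (Set.mem_singleton _)).symm


/-- (E) with (A2) as a hypothesis -/
theorem false_of_rank_one_of {G : Type*} [Group G] [Finite G] (N : Subgroup G) [N.Normal]
    (hA2 : ∀ g : G, g ∉ N → Nat.card (Subgroup.centralizer ({g} : Set G)) =
      Nat.card (Subgroup.centralizer ({(QuotientGroup.mk g : G ⧸ N)} : Set (G ⧸ N))))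
    (q : ℕ) [hqf : Fact q.Prime] (hqN : q ∣ Nat.card N) (hqI : q ∣ N.index)
    (hrank : ∀ (Q : Sylow q G) (a b : G), a ∈ (Q : Subgroup G) → b ∈ (Q : Subgroup G) →
      a ^ q ∈ N → b ^ q ∈ N → a * b * a⁻¹ * b⁻¹ ∈ N →
      ∃ i j : ℕ, i < q ∧ j < q ∧ (i ≠ 0 ∨ j ≠ 0) ∧ a ^ i * b ^ j ∈ N) : False := by
  have hq : q.Prime := hqf.out
  set π := QuotientGroup.mk' N with hπ
  have hπ1 : ∀ g : G, π g = 1 ↔ g ∈ N := fun g => QuotientGroup.eq_one_iff g
  -- Step 1: a `q`-element `u` whose image has maximal order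
  have hne : Nonempty {g : G // ∃ k : ℕ, orderOf g = q ^ k} :=
    ⟨⟨1, 0, by rw [orderOf_one, pow_zero]⟩⟩
  obtain ⟨⟨u, hu⟩, humax⟩ :=
    Finite.exists_max (fun g : {g : G // ∃ k : ℕ, orderOf g = q ^ k} => orderOf (π g.1))
  have humax' : ∀ g : G, (∃ k : ℕ, orderOf g = q ^ k) → orderOf (π g) ≤ orderOf (π u) :=
    fun g hg => humax ⟨g, hg⟩
  -- Step 2: `u ∉ N`
  obtain ⟨Q0⟩ : Nonempty (Sylow q G) := inferInstance
  obtain ⟨g0, hg0Q, hg0N⟩ := exists_mem_sylow_not_mem N q hqI Q0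
  have huN : u ∉ N := by
    intro h
    have h1 : π u = 1 := (hπ1 u).mpr h
    have h2 := humax' g0 (orderOf_eq_pow_of_mem_sylow q Q0 g0 hg0Q)
    rw [h1, orderOf_one] at h2
    have h3 : orderOf (π g0) = 1 := le_antisymm h2 (orderOf_pos _)
    rw [orderOf_eq_one_iff, hπ1] at h3
    exact hg0N h3
  obtain ⟨k, hk⟩ := hu
  have hdvd : orderOf (π u) ∣ q ^ k := hk ▸ orderOf_map_dvd π u
  obtain ⟨m, -, hm⟩ := (Nat.dvd_prime_pow hq).mp hdvd
  have hm0 : m ≠ 0 := by
    intro h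
    rw [h, pow_zero, orderOf_eq_one_iff, hπ1] at hm
    exact huN hm
  -- Step 3: the extra element
  obtain ⟨Q', v, huQ', hvQ', hvu, hvH⟩ := exists_extra_element N hA2 q hqN u huN k m hk hm
  set H := Subgroup.zpowers (π u) with hH
  -- Step 4: refine `v`
  have hexk : ∃ j : ℕ, (π v) ^ (q ^ j) ∈ H := by
    obtain ⟨kv, hkv⟩ := orderOf_eq_pow_of_mem_sylow q Q' v hvQ'
    refine ⟨kv, ?_⟩
    rw [← map_pow, ← hkv, _root_.pow_orderOf_eq_one, map_one]
    exact Subgroup.one_mem _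
  classical
  set k0 := Nat.find hexk with hk0
  have hk0spec : (π v) ^ (q ^ k0) ∈ H := Nat.find_spec hexk
  have hk0ne : k0 ≠ 0 := by
    intro h
    rw [h, pow_zero, pow_one] at hk0spec
    exact hvH hk0spec
  set v' := v ^ (q ^ (k0 - 1)) with hv'
  have hv'Q : v' ∈ (Q' : Subgroup G) := Subgroup.pow_mem _ hvQ' _
  have hv'H : π v' ∉ H := by
    rw [hv', map_pow]
    exact Nat.find_min hexk (by omega : k0 - 1 < k0)
  have hv'q : (π v') ^ q ∈ H := by
    rw [hv', map_pow, ← pow_mul, ← pow_succ, show k0 - 1 + 1 = k0 by omega]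
    exact hk0spec
  have hv'u : Commute (π v') (π u) := by
    rw [hv', map_pow]
    exact hvu.pow_left _
  -- Step 5: `(π v')^q = (π u)^s` with `q ∣ s`
  obtain ⟨s, hs⟩ : ∃ s : ℕ, (π u) ^ s = (π v') ^ q := by
    have : (π v') ^ q ∈ Submonoid.powers (π u) := mem_powers_iff_mem_zpowers.mpr hv'q
    exact (Submonoid.mem_powers_iff _ _).mp this
  have hv'ord : (π v') ^ (q ^ m) = 1 := by
    obtain ⟨kv, hkv⟩ := orderOf_eq_pow_of_mem_sylow q Q' v' hv'Q
    have h1 : orderOf (π v') ∣ q ^ kv := hkv ▸ orderOf_map_dvd π v'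
    obtain ⟨j, -, hj⟩ := (Nat.dvd_prime_pow hq).mp h1
    have h2 : orderOf (π v') ≤ orderOf (π u) := humax' v' ⟨kv, hkv⟩
    rw [hj, hm] at h2
    have h3 : j ≤ m := (Nat.pow_le_pow_iff_right hq.one_lt).mp h2
    apply orderOf_dvd_iff_pow_eq_one.mp
    rw [hj]
    exact pow_dvd_pow q h3
  have hqs : q ∣ s := by
    have h1 : (π u) ^ (s * q ^ (m - 1)) = 1 := by
      rw [pow_mul, hs, ← pow_mul, ← pow_succ', show m - 1 + 1 = m by omega]
      exact hv'ord
    have h2 : q ^ m ∣ s * q ^ (m - 1) := hm ▸ orderOf_dvd_of_pow_eq_one h1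
    have h3 : q ^ m = q * q ^ (m - 1) := by
      rw [← pow_succ', show m - 1 + 1 = m by omega]
    rw [h3] at h2
    exact Nat.dvd_of_mul_dvd_mul_right (pow_pos hq.pos _) h2
  obtain ⟨s', hs'⟩ := hqs
  -- Step 6: the two elements
  set a := u ^ (q ^ (m - 1)) with ha
  set b := v' * (u ^ s')⁻¹ with hb
  have haQ : a ∈ (Q' : Subgroup G) := Subgroup.pow_mem _ huQ' _
  have hbQ : b ∈ (Q' : Subgroup G) :=
    Subgroup.mul_mem _ hv'Q (Subgroup.inv_mem _ (Subgroup.pow_mem _ huQ' _))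
  have hπa : π a = (π u) ^ (q ^ (m - 1)) := by rw [ha, map_pow]
  have hπb : π b = π v' * ((π u) ^ s')⁻¹ := by simp only [hb, map_mul, map_inv, map_pow]
  have haq : a ^ q ∈ N := by
    rw [← hπ1, map_pow, hπa, ← pow_mul, ← pow_succ, show m - 1 + 1 = m by omega, ← hm,
      _root_.pow_orderOf_eq_one]
  have hcomm1 : Commute (π v') ((π u) ^ s')⁻¹ := (hv'u.pow_right s').inv_right
  have hbq : b ^ q ∈ N := by
    rw [← hπ1, map_pow, hπb, hcomm1.mul_pow, ← hs, inv_pow, ← pow_mul, hs', mul_comm s' q,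
      mul_inv_cancel]
  have hcomm2 : Commute (π a) (π b) := by
    rw [hπa, hπb]
    have h1 : Commute (π u) (π v' * ((π u) ^ s')⁻¹) :=
      (hv'u.symm).mul_right ((Commute.refl (π u)).pow_right s').inv_right
    exact h1.pow_left _
  have hab : a * b * a⁻¹ * b⁻¹ ∈ N := by
    rw [← hπ1, map_mul, map_mul, map_mul, map_inv, map_inv, hcomm2.eq, mul_assoc (π b),
      mul_inv_cancel, mul_one, mul_inv_cancel]
  obtain ⟨i, j, hi, hj, hij, hmem⟩ := hrank Q' a b haQ hbQ haq hbq hab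
  rw [← hπ1, map_mul, map_pow π a i, map_pow π b j] at hmem
  by_cases hj0 : j = 0
  · -- `(π a)^i = 1` with `0 < i < q`
    have hi0 : i ≠ 0 := by
      rcases hij with h | h
      · exact h
      · exact absurd hj0 h
    rw [hj0, pow_zero, mul_one, hπa, ← pow_mul] at hmem
    have h2 : q ^ m ∣ q ^ (m - 1) * i := hm ▸ orderOf_dvd_of_pow_eq_one hmem
    have h3 : q ^ m = q ^ (m - 1) * q := by
      rw [← pow_succ, show m - 1 + 1 = m by omega]
    rw [h3] at h2
    have h4 : q ∣ i := Nat.dvd_of_mul_dvd_mul_left (pow_pos hq.pos _) h2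
    have h5 : q ≤ i := Nat.le_of_dvd (Nat.pos_of_ne_zero hi0) h4
    omega
  · -- `π b ∈ H`, hence `π v' ∈ H`
    have h1 : (π b) ^ j ∈ H := by
      have : (π b) ^ j = ((π a) ^ i)⁻¹ := eq_inv_of_mul_eq_one_right hmem
      rw [this, hπa]
      exact Subgroup.inv_mem _ (Subgroup.pow_mem _ (Subgroup.pow_mem _
        (Subgroup.mem_zpowers _) _) _)
    have h2 : (π b) ^ q ∈ H := by
      have : (π b) ^ q = 1 := by rw [← map_pow, hπ1]; exact hbq
      rw [this]
      exact Subgroup.one_mem _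
    have hcop : Nat.Coprime j q :=
      ((Nat.Prime.coprime_iff_not_dvd hq).mpr
        (Nat.not_dvd_of_pos_of_lt (Nat.pos_of_ne_zero hj0) hj)).symm
    have h3 : π b ∈ H := mem_of_pow_mem_of_coprime H (π b) j q hcop h1 h2
    apply hv'H
    have h4 : π v' = π b * (π u) ^ s' := by
      rw [hπb, mul_assoc, inv_mul_cancel, mul_one]
    rw [h4]
    exact Subgroup.mul_mem _ h3 (Subgroup.pow_mem _ (Subgroup.mem_zpowers _) _)

/-- (E) -/
theorem false_of_rank_one {G : Type*} [Group G] [Finite G] (N : Subgroup G) [N.Normal]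
    (hc : IsCam N) (q : ℕ) [Fact q.Prime] (hqN : q ∣ Nat.card N)
    (hqI : q ∣ N.index)
    (hrank : ∀ (Q : Sylow q G) (a b : G), a ∈ (Q : Subgroup G) → b ∈ (Q : Subgroup G) →
      a ^ q ∈ N → b ^ q ∈ N → a * b * a⁻¹ * b⁻¹ ∈ N →
      ∃ i j : ℕ, i < q ∧ j < q ∧ (i ≠ 0 ∨ j ≠ 0) ∧ a ^ i * b ^ j ∈ N) : False :=
  false_of_rank_one_of N (fun _ hg => card_centralizer_eq N hc hg) q hqN hqI hrank

end Cfsg.Agent.Lib.Helper6.Cam
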