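import Mathlib

/-! # Centralizers: a bound from conjugates, and recognising `2 × A₅` -/

set_option autoImplicit false

namespace Cfsg.Agent.Lib.Helper6.CentAux

variable {H : Type*} [Group H]

/-- many conjugates bound the centralizer -/
theorem card_mul_card_centralizer_le [Finite H] (t : H) (s : Finset H)
    (hs : ∀ x ∈ s, ∃ g : H, x = g * t * g⁻¹) :
    s.card * Nat.card (Subgroup.centralizer ({t} : Set H)) ≤ Nat.card H := by
  classical
  set C := Subgroup.centralizer ({t} : Set H) with hC
  choose! g hg using hs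
  have hinj : Set.InjOn (fun x => (QuotientGroup.mk (g x) : H ⧸ C)) (s : Set H) := by
    intro x hx y hy hxy
    simp only at hxy
    rw [QuotientGroup.eq] at hxy
    have hc : (g x)⁻¹ * g y * t = t * ((g x)⁻¹ * g y) :=
      (Subgroup.mem_centralizer_singleton_iff.1 hxy)
    rw [hg x hx, hg y hy]
    have e1 : g y * t = g x * t * ((g x)⁻¹ * g y) := by
      have : g y * t = g x * ((g x)⁻¹ * g y * t) := by group
      rw [this, hc]; group
    calc g x * t * (g x)⁻¹ = g x * t * ((g x)⁻¹ * g y) * (g y)⁻¹ := by group
      _ = g y * t * (g y)⁻¹ := by rw [← e1]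
  have : Finite (H ⧸ C) := inferInstance
  let _ := Fintype.ofFinite (H ⧸ C)
  have h1 : s.card ≤ Fintype.card (H ⧸ C) := by
    have := Finset.card_le_card_of_injOn (s := s) (t := Finset.univ)
      (fun x => (QuotientGroup.mk (g x) : H ⧸ C)) (fun _ _ => Finset.mem_univ _) hinj
    simpa using this
  have h2 : Fintype.card (H ⧸ C) = C.index := by
    rw [← Nat.card_eq_fintype_card]; rfl
  have h3 := Subgroup.card_mul_index C
  calc s.card * Nat.card C ≤ C.index * Nat.card C := Nat.mul_le_mul_right _ (h2 ▸ h1)
    _ = Nat.card H := by rw [mul_comm]; exact h3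

/-- a centralizer of an involution of order at most `120` containing a copy of `A₅` is
`2 × A₅` -/
theorem centralizer_iso [Finite H] (t : H) (ht : orderOf t = 2) (A : Subgroup H)
    (hA : A ≤ Subgroup.centralizer ({t} : Set H)) (eA : A ≃* alternatingGroup (Fin 5))
    (hcard : Nat.card (Subgroup.centralizer ({t} : Set H)) ≤ 120) :
    Nonempty (Subgroup.centralizer ({t} : Set H) ≃*
      Multiplicative (ZMod 2) × alternatingGroup (Fin 5)) := by
  classical
  set C := Subgroup.centralizer ({t} : Set H) with hC
  have htC : t ∈ C := Subgroup.mem_centralizer_singleton_iff.2 rfl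
  have hcomm : ∀ a ∈ A, a * t = t * a := fun a ha =>
    Subgroup.mem_centralizer_singleton_iff.1 (hA ha)
  have ht1 : t ≠ 1 := by
    intro h
    rw [h, orderOf_one] at ht
    norm_num at ht
  -- `t ∉ A`
  have htA : t ∉ A := by
    intro h
    have hcen : (⟨t, h⟩ : A) ∈ Subgroup.center A := by
      rw [Subgroup.mem_center_iff]
      intro a
      exact Subtype.ext (hcomm a.1 a.2)
    have hbot : Subgroup.center (alternatingGroup (Fin 5)) = ⊥ :=
      alternatingGroup.center_eq_bot (by simp)
    have : eA ⟨t, h⟩ ∈ Subgroup.center (alternatingGroup (Fin 5)) := by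
      rw [Subgroup.mem_center_iff]
      intro b
      obtain ⟨a, rfl⟩ := eA.surjective b
      rw [← map_mul, ← map_mul]
      congr 1
      exact Subgroup.mem_center_iff.1 hcen a
    rw [hbot, Subgroup.mem_bot] at this
    have h1 : (⟨t, h⟩ : A) = 1 := by
      apply eA.injective
      rw [this, map_one]
    exact ht1 (congrArg Subtype.val h1)
  -- the map from the product
  set Z := Subgroup.zpowers t with hZ
  have hZcard : Nat.card Z = 2 := by rw [Nat.card_zpowers, ht]
  have hZmem : ∀ z ∈ Z, z = 1 ∨ z = t := by
    intro z hz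
    obtain ⟨k, rfl⟩ := Subgroup.mem_zpowers_iff.1 hz
    have h2 : t ^ (2 : ℤ) = 1 := by
      have := pow_orderOf_eq_one t
      rw [ht] at this
      exact_mod_cast this
    rcases Int.emod_two_eq_zero_or_one k with hk | hk
    · left
      have : k = 2 * (k / 2) := by omega
      rw [this, zpow_mul, h2, one_zpow]
    · right
      have : k = 2 * (k / 2) + 1 := by omega
      rw [this, zpow_add, zpow_mul, h2, one_zpow, one_mul, zpow_one]
  have hZcomm : ∀ z ∈ Z, ∀ a ∈ A, z * a = a * z := by
    intro z hz a ha
    rcases hZmem z hz with rfl | rfl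
    · simp
    · exact (hcomm a ha).symm
  let f : Z × A →* H := Z.subtype.noncommCoprod A.subtype
    (fun z a => hZcomm z.1 z.2 a.1 a.2)
  have hf : ∀ p : Z × A, f p = p.1.1 * p.2.1 := fun p => rfl
  have hfinj : Function.Injective f := by
    rw [injective_iff_map_eq_one]
    rintro ⟨z, a⟩ h
    rw [hf] at h
    simp only at h
    have hz : z.1 = a.1⁻¹ := eq_inv_of_mul_eq_one_left h
    rcases hZmem z.1 z.2 with h1 | h1
    · have ha : a.1 = 1 := by
        rw [h1] at hz
        exact inv_eq_one.1 hz.symm
      exact Prod.ext (Subtype.ext h1) (Subtype.ext ha)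
    · exfalso
      apply htA
      rw [← h1, hz]
      exact A.inv_mem a.2
  have hfC : ∀ p : Z × A, f p ∈ C := by
    intro p
    rw [hf]
    refine C.mul_mem ?_ (hA p.2.2)
    rcases hZmem p.1.1 p.1.2 with h1 | h1
    · rw [h1]; exact C.one_mem
    · rw [h1]; exact htC
  let f' : Z × A →* C := f.codRestrict C hfC
  have hf'inj : Function.Injective f' := by
    intro p q h
    apply hfinj
    exact congrArg Subtype.val h
  have hAcard : Nat.card A = 60 := by
    rw [Nat.card_congr eA.toEquiv, nat_card_alternatingGroup]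
    simp [Nat.factorial]
  have hZA : Nat.card (Z × A) = 120 := by
    rw [Nat.card_prod, hZcard, hAcard]
  have : Finite C := inferInstance
  have hf'bij : Function.Bijective f' := by
    rw [Nat.bijective_iff_injective_and_card]
    refine ⟨hf'inj, le_antisymm (Nat.card_le_card_of_injective f' hf'inj) ?_⟩
    rw [hZA]; exact hcard
  have e1 : Z × A ≃* C := MulEquiv.ofBijective f' hf'bij
  have : Fact (Nat.Prime 2) := ⟨Nat.prime_two⟩
  have e2 : Z ≃* Multiplicative (ZMod 2) :=
    mulEquivOfPrimeCardEq hZcard (by simp [Nat.card_eq_fintype_card])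
  exact ⟨e1.symm.trans (MulEquiv.prodCongr e2 eA)⟩

end Cfsg.Agent.Lib.Helper6.CentAux
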