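import Mathlib

/-! # A bound for the order of a centralizer by counting the conjugates that fix a point

If a finite group acts transitively, `z` fixes `f` points, the point stabilizer has `h` elements and
`m` distinct conjugates of `z` lie in the point stabilizer, then the centralizer of `z` has at most
`f * h / m` elements. -/

set_option autoImplicit false

namespace Cfsg.Agent.Lib.Helper6.CentCount

variable {G : Type*} [Group G] {Ω : Type*}

/-- **counting the conjugates in a point stabilizer** -/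
theorem card_centralizer_mul_le [Finite G] [Finite Ω] (ρ : G →* Equiv.Perm Ω) (ω0 : Ω)
    (htrans : ∀ ω, ∃ x : G, ρ x ω0 = ω) (z : G) {m : ℕ} (g : Fin m → G)
    (hg : ∀ i, ρ z (ρ (g i) ω0) = ρ (g i) ω0)
    (hinj : Function.Injective fun i => (g i)⁻¹ * z * g i) :
    Nat.card (Subgroup.centralizer ({z} : Set G)) * m ≤
      Nat.card {ω : Ω // ρ z ω = ω} * Nat.card {x : G // ρ x ω0 = ω0} := by
  classical
  have h1 : Nat.card (Subgroup.centralizer ({z} : Set G) × Fin m) ≤
      Nat.card {x : G // ρ z (ρ x ω0) = ρ x ω0} := by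
    refine Nat.card_le_card_of_injective (fun ci => ⟨ci.1.1 * g ci.2, ?_⟩) ?_
    · have hc : z * ci.1.1 = ci.1.1 * z := (Subgroup.mem_centralizer_singleton_iff.1 ci.1.2).symm
      rw [map_mul, Equiv.Perm.mul_apply, ← Equiv.Perm.mul_apply, ← map_mul, hc, map_mul,
        Equiv.Perm.mul_apply, hg]
    · rintro ⟨c, i⟩ ⟨c', j⟩ h
      have h' : c.1 * g i = c'.1 * g j := congrArg Subtype.val h
      have hc : z * c.1 = c.1 * z := (Subgroup.mem_centralizer_singleton_iff.1 c.2).symm
      have hc' : z * c'.1 = c'.1 * z := (Subgroup.mem_centralizer_singleton_iff.1 c'.2).symm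
      have e1 : (g i)⁻¹ * z * g i = (c.1 * g i)⁻¹ * z * (c.1 * g i) := by
        have hz : c.1⁻¹ * z * c.1 = z := by rw [mul_assoc, hc, ← mul_assoc, inv_mul_cancel, one_mul]
        calc (g i)⁻¹ * z * g i = (g i)⁻¹ * (c.1⁻¹ * z * c.1) * g i := by rw [hz]
          _ = (c.1 * g i)⁻¹ * z * (c.1 * g i) := by simp only [mul_inv_rev, mul_assoc]
      have e2 : (g j)⁻¹ * z * g j = (c'.1 * g j)⁻¹ * z * (c'.1 * g j) := by
        have hz : c'.1⁻¹ * z * c'.1 = z := by
          rw [mul_assoc, hc', ← mul_assoc, inv_mul_cancel, one_mul]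
        calc (g j)⁻¹ * z * g j = (g j)⁻¹ * (c'.1⁻¹ * z * c'.1) * g j := by rw [hz]
          _ = (c'.1 * g j)⁻¹ * z * (c'.1 * g j) := by simp only [mul_inv_rev, mul_assoc]
      have hij : i = j := hinj (by
        show (g i)⁻¹ * z * g i = (g j)⁻¹ * z * g j
        rw [e1, e2, h'])
      subst hij
      have hcc : c.1 = c'.1 := mul_right_cancel h'
      rw [Subtype.ext hcc]
  have h2 : Nat.card {x : G // ρ z (ρ x ω0) = ρ x ω0} ≤
      Nat.card ({ω : Ω // ρ z ω = ω} × {x : G // ρ x ω0 = ω0}) := by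
    choose t ht using htrans
    refine Nat.card_le_card_of_injective
      (fun x => (⟨ρ x.1 ω0, x.2⟩, ⟨(t (ρ x.1 ω0))⁻¹ * x.1, ?_⟩)) ?_
    · rw [map_mul, Equiv.Perm.mul_apply, map_inv, Equiv.Perm.inv_eq_iff_eq, ht]
    · rintro ⟨x, hx⟩ ⟨y, hy⟩ h
      have ha : ρ x ω0 = ρ y ω0 := congrArg (fun p => p.1.1) h
      have hb : (t (ρ x ω0))⁻¹ * x = (t (ρ y ω0))⁻¹ * y := congrArg (fun p => p.2.1) h
      rw [ha] at hb
      exact Subtype.ext (mul_left_cancel hb)
  rw [Nat.card_prod, Nat.card_fin] at h1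
  rw [Nat.card_prod] at h2
  exact h1.trans h2

end Cfsg.Agent.Lib.Helper6.CentCount
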