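import Mathlib

/-!
S3903 piece (helper4's row): the counting lemma `central_of_card_centralizer`.
-/

set_option autoImplicit false
set_option linter.style.haveILetI false

namespace Cfsg.Agent.Lib.Helper6.CentCountB

/-- `|M| * |N| = |N ⊓ M| * |G|` when `M ⊔ N = ⊤`, in the form used below. -/
theorem card_identity {G : Type*} [Group G] [Finite G] (N : Subgroup G) [N.Normal]
    (M : Subgroup G) (hMN : M ⊔ N = ⊤) :
    Nat.card (N.subgroupOf M) * N.index = Nat.card M ∧ Nat.card N * N.index = Nat.card G := by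
  constructor
  · have h1 := Subgroup.card_mul_index (N.subgroupOf M)
    have h2 : (N.subgroupOf M).index = N.index := by
      have h3 : N.relIndex (M ⊔ N) = N.relIndex M := Subgroup.relIndex_sup_right M N
      rw [hMN, Subgroup.relIndex_top_right] at h3
      exact h3.symm
    rw [h2] at h1
    exact h1
  · exact Subgroup.card_mul_index N

theorem central_of_card_centralizer {G : Type*} [Group G] [Finite G] (N : Subgroup G) [N.Normal]
    (M : Subgroup G) (hMN : M ⊔ N = ⊤)
    (hconj : ∀ y : G, y ∉ N → ∃ a : G, a⁻¹ * y * a ∈ M)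
    (hcent : ∀ g ∈ M, g ∉ N →
      Nat.card (Subgroup.centralizer ({g} : Set G)) = Nat.card M) :
    ∀ g ∈ M, g ∉ N → ∀ h ∈ M, h * g * h⁻¹ = g := by
  classical
  intro g hgM hgN h hhM
  by_contra hne
  let X := {m : M // (m : G) ∉ N}
  let Y := {y : G // y ∉ N}
  haveI : Fintype G := Fintype.ofFinite G
  haveI : Fintype X := Fintype.ofFinite X
  haveI : Fintype Y := Fintype.ofFinite Y
  have hnorm : ∀ (a x : G), a * x * a⁻¹ ∈ N → x ∈ N := by
    intro a x hmem
    have := ‹N.Normal›.conj_mem _ hmem a⁻¹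
    have e : a⁻¹ * (a * x * a⁻¹) * a⁻¹⁻¹ = x := by group
    rwa [e] at this
  have hΦ : ∀ (a : G) (m : X), a * (m.1 : G) * a⁻¹ ∉ N := fun a m hmem => m.2 (hnorm a _ hmem)
  let Φ : G × X → Y := fun p => ⟨p.1 * (p.2.1 : G) * p.1⁻¹, hΦ p.1 p.2⟩
  have hsum : Fintype.card (G × X) = ∑ y : Y, Fintype.card {p : G × X // Φ p = y} := by
    rw [← Fintype.card_sigma]
    exact Fintype.card_congr (Equiv.sigmaFiberEquiv Φ).symm
  -- every fibre has at least `|M|` elements
  have hfib : ∀ y : Y, Nat.card M ≤ Fintype.card {p : G × X // Φ p = y} := by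
    intro y
    obtain ⟨a, ha⟩ := hconj y.1 y.2
    have hg0N : a⁻¹ * y.1 * a ∉ N := by
      intro hmem
      apply y.2
      apply hnorm a⁻¹
      rwa [inv_inv]
    let g0 : X := ⟨⟨a⁻¹ * y.1 * a, ha⟩, hg0N⟩
    rw [← hcent _ ha hg0N]
    haveI : Fintype (Subgroup.centralizer ({a⁻¹ * y.1 * a} : Set G)) := Fintype.ofFinite _
    rw [Nat.card_eq_fintype_card]
    have hmem : ∀ c : Subgroup.centralizer ({a⁻¹ * y.1 * a} : Set G),
        Φ (a * c.1, g0) = y := by
      intro c
      apply Subtype.ext
      show a * c.1 * (a⁻¹ * y.1 * a) * (a * c.1)⁻¹ = y.1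
      have hc : (a⁻¹ * y.1 * a) * c.1 = c.1 * (a⁻¹ * y.1 * a) :=
        Subgroup.mem_centralizer_iff.mp c.2 _ (Set.mem_singleton _)
      calc a * c.1 * (a⁻¹ * y.1 * a) * (a * c.1)⁻¹
          = a * (c.1 * (a⁻¹ * y.1 * a)) * (a * c.1)⁻¹ := by group
        _ = a * ((a⁻¹ * y.1 * a) * c.1) * (a * c.1)⁻¹ := by rw [hc]
        _ = y.1 := by group
    apply Fintype.card_le_of_injective
      (fun c : Subgroup.centralizer ({a⁻¹ * y.1 * a} : Set G) =>
        (⟨(a * c.1, g0), hmem c⟩ : {p : G × X // Φ p = y}))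
    intro c c' hcc
    have h1 : a * c.1 = a * c'.1 := congrArg (fun p => p.1.1) hcc
    exact Subtype.ext (mul_left_cancel h1)
  -- the fibre over `g` has at least `|M| + 1` elements
  have hg'M : h * g * h⁻¹ ∈ M := M.mul_mem (M.mul_mem hhM hgM) (M.inv_mem hhM)
  have hg'N : h * g * h⁻¹ ∉ N := fun hmem => hgN (hnorm h g hmem)
  let gX : X := ⟨⟨g, hgM⟩, hgN⟩
  let g'X : X := ⟨⟨h * g * h⁻¹, hg'M⟩, hg'N⟩
  let y0 : Y := ⟨g, hgN⟩
  have hfib0 : Nat.card M + 1 ≤ Fintype.card {p : G × X // Φ p = y0} := by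
    rw [← hcent g hgM hgN]
    haveI : Fintype (Subgroup.centralizer ({g} : Set G)) := Fintype.ofFinite _
    rw [Nat.card_eq_fintype_card, ← Fintype.card_option]
    have hmem : ∀ c : Subgroup.centralizer ({g} : Set G), Φ (c.1, gX) = y0 := by
      intro c
      apply Subtype.ext
      show c.1 * g * c.1⁻¹ = g
      have hc : g * c.1 = c.1 * g :=
        Subgroup.mem_centralizer_iff.mp c.2 _ (Set.mem_singleton _)
      rw [← hc]
      group
    have hmem' : Φ (h⁻¹, g'X) = y0 := by
      apply Subtype.ext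
      show h⁻¹ * (h * g * h⁻¹) * h⁻¹⁻¹ = g
      group
    apply Fintype.card_le_of_injective
      (fun o : Option (Subgroup.centralizer ({g} : Set G)) =>
        (match o with
          | some c => ⟨(c.1, gX), hmem c⟩
          | none => ⟨(h⁻¹, g'X), hmem'⟩ : {p : G × X // Φ p = y0}))
    intro o o' hoo
    match o, o' with
    | some c, some c' =>
      have h1 : c.1 = c'.1 := congrArg (fun p => p.1.1) hoo
      rw [Subtype.ext h1]
    | none, none => rfl
    | some c, none =>
      exfalso
      have h1 : (gX : X) = g'X := congrArg (fun p => p.1.2) hoo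
      have h2 : g = h * g * h⁻¹ := congrArg (fun m : X => ((m.1 : M) : G)) h1
      exact hne h2.symm
    | none, some c =>
      exfalso
      have h1 : (g'X : X) = gX := congrArg (fun p => p.1.2) hoo
      have h2 : h * g * h⁻¹ = g := congrArg (fun m : X => ((m.1 : M) : G)) h1
      exact hne h2
  -- total count
  have htotal : Fintype.card Y * Nat.card M + 1 ≤ Fintype.card (G × X) := by
    rw [hsum]
    have h1 : ∑ y : Y, Fintype.card {p : G × X // Φ p = y}
        = (∑ y ∈ Finset.univ.erase y0, Fintype.card {p : G × X // Φ p = y})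
          + Fintype.card {p : G × X // Φ p = y0} := by
      rw [Finset.sum_erase_add _ _ (Finset.mem_univ y0)]
    have h2 : (Finset.univ.erase y0).card * Nat.card M
        ≤ ∑ y ∈ Finset.univ.erase y0, Fintype.card {p : G × X // Φ p = y} := by
      rw [← smul_eq_mul, ← Finset.sum_const]
      exact Finset.sum_le_sum (fun y _ => hfib y)
    have h3 : (Finset.univ.erase y0).card + 1 = Fintype.card Y := by
      rw [Finset.card_erase_of_mem (Finset.mem_univ y0), Finset.card_univ]
      have : 0 < Fintype.card Y := Fintype.card_pos_iff.mpr ⟨y0⟩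
      omega
    rw [h1, ← h3]
    nlinarith [h2, hfib0]
  -- the cardinal identity
  obtain ⟨hc1, hc2⟩ := card_identity N M hMN
  have hX : Nat.card (N.subgroupOf M) + Fintype.card X = Nat.card M := by
    have e := Nat.card_congr (Equiv.sumCompl (fun m : M => m ∈ N.subgroupOf M))
    rw [Nat.card_sum] at e
    rw [← e, ← Nat.card_eq_fintype_card]
    rfl
  have hY : Nat.card N + Fintype.card Y = Nat.card G := by
    have e := Nat.card_congr (Equiv.sumCompl (fun x : G => x ∈ N))
    rw [Nat.card_sum] at e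
    rw [← e, ← Nat.card_eq_fintype_card]
  have hGX : Fintype.card (G × X) = Nat.card G * Fintype.card X := by
    rw [Fintype.card_prod, Nat.card_eq_fintype_card]
  rw [hGX] at htotal
  -- arithmetic
  set t := Nat.card (N.subgroupOf M)
  set i := N.index
  set n := Nat.card N
  set x := Fintype.card X
  set y := Fintype.card Y
  have hM : Nat.card M = t * i := hc1.symm
  have hG : Nat.card G = n * i := hc2.symm
  rw [hM] at hX htotal
  rw [hG] at hY htotal
  -- x = t*i - t, y = n*i - n
  have hxz : (x : ℤ) = t * i - t := by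
    have := congrArg (fun k : ℕ => (k : ℤ)) hX
    push_cast at this
    linarith
  have hyz : (y : ℤ) = n * i - n := by
    have := congrArg (fun k : ℕ => (k : ℤ)) hY
    push_cast at this
    linarith
  have htz : (y : ℤ) * (t * i) + 1 ≤ (n * i) * x := by exact_mod_cast htotal
  rw [hxz, hyz] at htz
  nlinarith [htz]

end Cfsg.Agent.Lib.Helper6.CentCountB
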