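import Mathlib

/-! # Matrices given by lists of rows or of columns, indexed by a sum of two finite types

Products are computed on the lists, in a way that suits the evaluation by the kernel: the left
factor is given by its rows and is used once, the right factor is given by its columns. -/

set_option autoImplicit false

namespace Cfsg.Agent.Lib.Helper6.ChevMatL

section

variable {F : Type*} [Field F]

/-- an entry of a matrix given by its rows -/
def entry (X : List (List F)) (i j : ℕ) : F := (X.getD i []).getD j 0

/-- the product of a row and a column -/
def dot : List F → List F → F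
  | a :: as, b :: bs => a * b + dot as bs
  | _, _ => 0

/-- the product of a matrix given by its rows and a matrix given by its columns, by its rows -/
def mulT (X Yt : List (List F)) : List (List F) := X.map fun row => Yt.map fun col => dot row col

/-- the transposed matrix, of size `n` -/
def transp (n : ℕ) (Y : List (List F)) : List (List F) :=
  (List.range n).map fun j => Y.map fun row => row.getD j 0

/-- the identity matrix of size `n` -/
def idL (n : ℕ) : List (List F) :=
  (List.range n).map fun i => (List.range n).map fun j => if i = j then 1 else 0

/-- the product of a list of matrices of size `n` given by their columns, by its rows -/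
def prodT (n : ℕ) (Ms : List (List (List F))) : List (List F) := Ms.foldl mulT (idL n)

/-- all columns have length at most `n` -/
def colsOK (n : ℕ) (Yt : List (List F)) : Prop := ∀ c ∈ Yt, c.length ≤ n

instance (n : ℕ) (Yt : List (List F)) : Decidable (colsOK n Yt) := by
  unfold colsOK
  infer_instance

theorem dot_eq : ∀ (r c : List F) (n : ℕ), c.length ≤ n →
    dot r c = ∑ k ∈ Finset.range n, r.getD k 0 * c.getD k 0
  | [], c, n, _ => by
    simp [dot]
  | a :: as, [], n, _ => by
    simp [dot]
  | a :: as, b :: bs, 0, h => by
    simp at h
  | a :: as, b :: bs, n + 1, h => by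
    rw [dot, Finset.sum_range_succ', dot_eq as bs n (by simpa using h)]
    simp [add_comm]

theorem entry_table (n : ℕ) (f : ℕ → ℕ → F) {i j : ℕ} (hi : i < n) (hj : j < n) :
    entry ((List.range n).map fun i => (List.range n).map fun j => f i j) i j = f i j := by
  unfold entry
  have h1 : ((List.range n).map fun i => (List.range n).map fun j => f i j).getD i [] =
      (List.range n).map fun j => f i j := by
    rw [List.getD_eq_getElem _ _ (by rw [List.length_map, List.length_range]; exact hi),
      List.getElem_map, List.getElem_range]
  rw [h1, List.getD_eq_getElem _ _ (by rw [List.length_map, List.length_range]; exact hj),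
    List.getElem_map, List.getElem_range]

theorem entry_mulT {n : ℕ} (X Yt : List (List F)) (h : colsOK n Yt) (i j : ℕ) :
    entry (mulT X Yt) i j = ∑ k ∈ Finset.range n, entry X i k * entry Yt j k := by
  unfold entry mulT
  by_cases hi : i < X.length
  · have h1 : (X.map fun row => Yt.map fun col => dot row col).getD i [] =
        Yt.map fun col => dot (X.getD i []) col := by
      rw [List.getD_eq_getElem _ _ (by rw [List.length_map]; exact hi), List.getElem_map,
        List.getD_eq_getElem X _ hi]
    rw [h1]
    by_cases hj : j < Yt.length
    · have h2 : (Yt.map fun col => dot (X.getD i []) col).getD j 0 =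
          dot (X.getD i []) (Yt.getD j []) := by
        rw [List.getD_eq_getElem _ _ (by rw [List.length_map]; exact hj), List.getElem_map,
          List.getD_eq_getElem Yt _ hj]
      rw [h2]
      refine dot_eq _ _ n (h _ ?_)
      rw [List.getD_eq_getElem Yt _ hj]
      exact List.getElem_mem hj
    · have h2 : (Yt.map fun col => dot (X.getD i []) col).getD j 0 = 0 :=
        List.getD_eq_default _ _ (by rw [List.length_map]; exact Nat.le_of_not_lt hj)
      rw [h2, List.getD_eq_default Yt _ (Nat.le_of_not_lt hj)]
      simp
  · have h1 : (X.map fun row => Yt.map fun col => dot row col).getD i [] = [] :=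
      List.getD_eq_default _ _ (by rw [List.length_map]; exact Nat.le_of_not_lt hi)
    rw [h1, List.getD_eq_default X _ (Nat.le_of_not_lt hi)]
    simp

theorem entry_transp {n : ℕ} (Y : List (List F)) {j : ℕ} (hj : j < n) (k : ℕ) :
    entry (transp n Y) j k = entry Y k j := by
  unfold entry transp
  have h1 : ((List.range n).map fun j => Y.map fun row => row.getD j 0).getD j [] =
      Y.map fun row => row.getD j 0 := by
    rw [List.getD_eq_getElem _ _ (by rw [List.length_map, List.length_range]; exact hj),
      List.getElem_map, List.getElem_range]
  rw [h1]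
  by_cases hk : k < Y.length
  · rw [List.getD_eq_getElem _ _ (by rw [List.length_map]; exact hk), List.getElem_map,
      List.getD_eq_getElem Y _ hk]
  · rw [List.getD_eq_default _ _ (by rw [List.length_map]; exact Nat.le_of_not_lt hk),
      List.getD_eq_default Y _ (Nat.le_of_not_lt hk)]
    simp

theorem entry_idL {n : ℕ} {i j : ℕ} (hi : i < n) (hj : j < n) :
    entry (idL n : List (List F)) i j = if i = j then 1 else 0 := by
  unfold idL
  rw [entry_table n _ hi hj]

variable (r m : ℕ)

/-- the number of an index -/
def code : Fin r ⊕ Fin m → ℕ
  | Sum.inl i => i.val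
  | Sum.inr j => r + j.val

theorem code_lt (i : Fin r ⊕ Fin m) : code r m i < r + m := by
  cases i with
  | inl i => exact Nat.lt_add_right m i.isLt
  | inr j => exact Nat.add_lt_add_left j.isLt r

theorem code_injective : Function.Injective (code r m) := by
  intro i j h
  cases i with
  | inl i =>
    cases j with
    | inl j => exact congrArg Sum.inl (Fin.ext h)
    | inr j =>
      exfalso
      have h1 : i.val = r + j.val := h
      have := i.isLt
      omega
  | inr i =>
    cases j with
    | inl j =>
      exfalso
      have h1 : r + i.val = j.val := h
      have := j.isLt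
      omega
    | inr j =>
      have h1 : r + i.val = r + j.val := h
      exact congrArg Sum.inr (Fin.ext (Nat.add_left_cancel h1))

theorem sum_code (f : ℕ → F) :
    ∑ k : Fin r ⊕ Fin m, f (code r m k) = ∑ k ∈ Finset.range (r + m), f k := by
  rw [Fintype.sum_sum_type, Finset.sum_range_add]
  congr 1
  · exact Fin.sum_univ_eq_sum_range f r
  · exact Fin.sum_univ_eq_sum_range (fun x => f (r + x)) m

/-- the matrix with the given rows -/
def toM (X : List (List F)) : Matrix (Fin r ⊕ Fin m) (Fin r ⊕ Fin m) F :=
  Matrix.of fun i j => entry X (code r m i) (code r m j)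

/-- the matrix with the given columns -/
def toMt (Yt : List (List F)) : Matrix (Fin r ⊕ Fin m) (Fin r ⊕ Fin m) F :=
  Matrix.of fun i j => entry Yt (code r m j) (code r m i)

theorem toM_apply (X : List (List F)) (i j : Fin r ⊕ Fin m) :
    toM r m X i j = entry X (code r m i) (code r m j) := rfl

theorem toMt_apply (Yt : List (List F)) (i j : Fin r ⊕ Fin m) :
    toMt r m Yt i j = entry Yt (code r m j) (code r m i) := rfl

theorem toM_mulT (X Yt : List (List F)) (h : colsOK (r + m) Yt) :
    toM r m X * toMt r m Yt = toM r m (mulT X Yt) := by
  ext i j
  rw [Matrix.mul_apply, toM_apply, entry_mulT X Yt h,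
    ← sum_code r m fun k => entry X (code r m i) k * entry Yt (code r m j) k]
  rfl

theorem toM_one : (1 : Matrix (Fin r ⊕ Fin m) (Fin r ⊕ Fin m) F) = toM r m (idL (r + m)) := by
  ext i j
  rw [toM_apply, entry_idL (code_lt r m i) (code_lt r m j), Matrix.one_apply]
  by_cases h : i = j
  · rw [if_pos h, if_pos (congrArg _ h)]
  · rw [if_neg h, if_neg (fun h' => h (code_injective r m h'))]

theorem toMt_transp (X : List (List F)) : toMt r m (transp (r + m) X) = toM r m X := by
  ext i j
  rw [toMt_apply, toM_apply, entry_transp X (code_lt r m j)]

theorem toM_foldl (Ms : List (List (List F))) (h : ∀ Yt ∈ Ms, colsOK (r + m) Yt) :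
    ∀ A : List (List F), toM r m (Ms.foldl mulT A) = toM r m A * (Ms.map (toMt r m)).prod := by
  induction Ms with
  | nil =>
    intro A
    simp
  | cons Y Ms ih =>
    intro A
    rw [List.foldl_cons, ih (fun Yt hY => h Yt (List.mem_cons_of_mem _ hY)), List.map_cons,
      List.prod_cons, ← mul_assoc, toM_mulT r m A Y (h Y List.mem_cons_self)]

theorem toM_prodT (Ms : List (List (List F))) (h : ∀ Yt ∈ Ms, colsOK (r + m) Yt) :
    toM r m (prodT (r + m) Ms) = (Ms.map (toMt r m)).prod := by
  unfold prodT
  rw [toM_foldl r m Ms h, ← toM_one, one_mul]

end

end Cfsg.Agent.Lib.Helper6.ChevMatL
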