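import Mathlib

/-!
A concrete field with twenty-five elements, `F25 = 𝔽₅[s]` with `s² = 2`, with decidable equality and a
kernel-friendly `Fintype` instance (after helper8's `F9`).
-/

set_option autoImplicit false

namespace Cfsg.Agent.Lib.Helper6

/-- the field with twenty-five elements, `a + b s` with `s² = 2` over `ZMod 5` -/
structure F25 : Type where
  re : ZMod 5
  im : ZMod 5
  deriving DecidableEq

namespace F25

/-- the equivalence with pairs -/
def equivProd : F25 ≃ ZMod 5 × ZMod 5 where
  toFun x := (x.re, x.im)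
  invFun p := ⟨p.1, p.2⟩
  left_inv := fun ⟨_, _⟩ => rfl
  right_inv := fun ⟨_, _⟩ => rfl

instance instFintype : Fintype F25 := Fintype.ofEquiv _ equivProd.symm

instance instZero : Zero F25 := ⟨⟨0, 0⟩⟩
instance instOne : One F25 := ⟨⟨1, 0⟩⟩
instance instAdd : Add F25 := ⟨fun x y => ⟨x.re + y.re, x.im + y.im⟩⟩
instance instMul : Mul F25 :=
  ⟨fun x y => ⟨x.re * y.re + 2 * (x.im * y.im), x.re * y.im + x.im * y.re⟩⟩
instance instNeg : Neg F25 := ⟨fun x => ⟨-x.re, -x.im⟩⟩

/-- the cube of the norm, the inverse of the norm -/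
def ninv (x : F25) : ZMod 5 :=
  (x.re * x.re - 2 * (x.im * x.im)) * ((x.re * x.re - 2 * (x.im * x.im)) *
    (x.re * x.re - 2 * (x.im * x.im)))

instance instInv : Inv F25 := ⟨fun x => ⟨x.re * ninv x, -x.im * ninv x⟩⟩

set_option maxRecDepth 100000
set_option maxHeartbeats 4000000

theorem add_assoc' : ∀ a b c : F25, a + b + c = a + (b + c) := by decide +kernel
theorem zero_add' : ∀ a : F25, 0 + a = a := by decide +kernel
theorem add_zero' : ∀ a : F25, a + 0 = a := by decide +kernel
theorem add_comm' : ∀ a b : F25, a + b = b + a := by decide +kernel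
theorem neg_add_cancel' : ∀ a : F25, -a + a = 0 := by decide +kernel
theorem left_distrib' : ∀ a b c : F25, a * (b + c) = a * b + a * c := by decide +kernel
theorem right_distrib' : ∀ a b c : F25, (a + b) * c = a * c + b * c := by decide +kernel
theorem zero_mul' : ∀ a : F25, 0 * a = 0 := by decide +kernel
theorem mul_zero' : ∀ a : F25, a * 0 = 0 := by decide +kernel
theorem mul_assoc' : ∀ a b c : F25, a * b * c = a * (b * c) := by decide +kernel
theorem one_mul' : ∀ a : F25, 1 * a = a := by decide +kernel
theorem mul_one' : ∀ a : F25, a * 1 = a := by decide +kernel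
theorem mul_comm' : ∀ a b : F25, a * b = b * a := by decide +kernel
theorem mul_inv_cancel' : ∀ a : F25, a ≠ 0 → a * a⁻¹ = 1 := by decide +kernel

instance instCommRing : CommRing F25 where
  add_assoc := add_assoc'
  zero_add := zero_add'
  add_zero := add_zero'
  add_comm := add_comm'
  neg_add_cancel := neg_add_cancel'
  left_distrib := left_distrib'
  right_distrib := right_distrib'
  zero_mul := zero_mul'
  mul_zero := mul_zero'
  mul_assoc := mul_assoc'
  one_mul := one_mul'
  mul_one := mul_one'
  mul_comm := mul_comm'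
  nsmul := nsmulRec
  zsmul := zsmulRec

instance instField : Field F25 where
  exists_pair_ne := ⟨0, 1, by decide⟩
  mul_inv_cancel := mul_inv_cancel'
  inv_zero := rfl
  nnqsmul := _
  qsmul := _

theorem card : Fintype.card F25 = 25 := rfl

end F25

end Cfsg.Agent.Lib.Helper6
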