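import Cfsg.Agent.Lib.Helper6.ChevMatL
import Cfsg.Agent.Lib.Helper6.F25

/-! # List matrices over the computable field with twenty-five elements, with the operations named
directly (for the evaluation by the kernel) -/

set_option autoImplicit false

namespace Cfsg.Agent.Lib.Helper6.ChevMatL25

open Cfsg.Agent.Lib.Helper6.ChevMatL

/-- the sum -/
def add25 (x y : F25) : F25 := ⟨x.re + y.re, x.im + y.im⟩

/-- the product -/
def mul25 (x y : F25) : F25 := ⟨x.re * y.re + 2 * (x.im * y.im), x.re * y.im + x.im * y.re⟩

/-- the product of a row and a column -/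
def dot25 : List F25 → List F25 → F25
  | a :: as, b :: bs => add25 (mul25 a b) (dot25 as bs)
  | _, _ => ⟨0, 0⟩

theorem dot25_eq : ∀ r c : List F25, dot25 r c = dot r c
  | [], c => by
    simp [dot25, dot]
    rfl
  | a :: as, [] => by
    simp [dot25, dot]
    rfl
  | a :: as, b :: bs => by
    rw [dot25, dot, dot25_eq as bs]
    rfl

/-- the product of a matrix given by its rows and a matrix given by its columns, by its rows -/
def mulT25 (X Yt : List (List F25)) : List (List F25) :=
  X.map fun row => Yt.map fun col => dot25 row col

theorem mulT25_eq (X Yt : List (List F25)) : mulT25 X Yt = mulT X Yt := by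
  unfold mulT25 mulT
  simp only [dot25_eq]

/-- the identity matrix of size `n` -/
def idL25 (n : ℕ) : List (List F25) :=
  (List.range n).map fun i => (List.range n).map fun j => if i = j then ⟨1, 0⟩ else ⟨0, 0⟩

theorem idL25_eq (n : ℕ) : idL25 n = idL n := rfl

/-- the product of a list of matrices of size `n` given by their columns, by its rows -/
def prodT25 (n : ℕ) (Ms : List (List (List F25))) : List (List F25) := Ms.foldl mulT25 (idL25 n)

theorem prodT25_eq (n : ℕ) (Ms : List (List (List F25))) : prodT25 n Ms = prodT n Ms := by
  unfold prodT25 prodT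
  have : mulT25 = mulT := by
    funext X Yt
    exact mulT25_eq X Yt
  rw [this, idL25_eq]

end Cfsg.Agent.Lib.Helper6.ChevMatL25
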