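import Mathlib

/-!
# A computable model of the field with four elements
-/

set_option autoImplicit false

namespace Cfsg.Agent.Lib.Helper6.M21

/-- the field with four elements: `0, 1, ω, ω²` -/
inductive F4c : Type
  | o | e | w | v
  deriving DecidableEq

namespace F4c

instance : Fintype F4c where
  elems := {o, e, w, v}
  complete := by intro x; cases x <;> decide

def add : F4c → F4c → F4c
  | o, x => x
  | x, o => x
  | e, e => o
  | e, w => v
  | e, v => w
  | w, e => v
  | w, w => o
  | w, v => e
  | v, e => w
  | v, w => e
  | v, v => o

def mul : F4c → F4c → F4c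
  | o, _ => o
  | _, o => o
  | e, x => x
  | x, e => x
  | w, w => v
  | w, v => e
  | v, w => e
  | v, v => w

def inv : F4c → F4c
  | o => o
  | e => e
  | w => v
  | v => w

instance : Add F4c := ⟨add⟩
instance : Mul F4c := ⟨mul⟩
instance : Zero F4c := ⟨o⟩
instance : One F4c := ⟨e⟩
instance : Neg F4c := ⟨id⟩
instance : Inv F4c := ⟨inv⟩

instance : Field F4c where
  add_assoc := by decide
  zero_add := by decide
  add_zero := by decide
  nsmul := nsmulRec
  zsmul := zsmulRec
  neg_add_cancel := by decide
  add_comm := by decide
  left_distrib := by decide
  right_distrib := by decide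
  zero_mul := by decide
  mul_zero := by decide
  mul_assoc := by decide
  one_mul := by decide
  mul_one := by decide
  mul_comm := by decide
  exists_pair_ne := ⟨o, e, by decide⟩
  mul_inv_cancel := by decide
  inv_zero := rfl
  nnqsmul := _
  qsmul := _

theorem card : Fintype.card F4c = 4 := rfl

end F4c

end Cfsg.Agent.Lib.Helper6.M21
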