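import Cfsg.Agent.Lib.Helper6.ChevMatL
import Cfsg.Agent.Lib.Helper6.M21F4

/-! # List matrices over the computable field with four elements, with the operations named
directly (for the evaluation by the kernel) -/

set_option autoImplicit false

namespace Cfsg.Agent.Lib.Helper6.ChevMatL4

open Cfsg.Agent.Lib.Helper6.ChevMatL Cfsg.Agent.Lib.Helper6.M21 Cfsg.Agent.Lib.Helper6.M21.F4c

/-- the product of a row and a column -/
def dot4 : List F4c → List F4c → F4c
  | a :: as, b :: bs => F4c.add (F4c.mul a b) (dot4 as bs)
  | _, _ => o

theorem dot4_eq : ∀ r c : List F4c, dot4 r c = dot r c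
  | [], c => by
    simp [dot4, dot]
    rfl
  | a :: as, [] => by
    simp [dot4, dot]
    rfl
  | a :: as, b :: bs => by
    rw [dot4, dot, dot4_eq as bs]
    rfl

/-- the product of a matrix given by its rows and a matrix given by its columns, by its rows -/
def mulT4 (X Yt : List (List F4c)) : List (List F4c) :=
  X.map fun row => Yt.map fun col => dot4 row col

theorem mulT4_eq (X Yt : List (List F4c)) : mulT4 X Yt = mulT X Yt := by
  unfold mulT4 mulT
  simp only [dot4_eq]

/-- the transposed matrix, of size `n` -/
def transp4 (n : ℕ) (Y : List (List F4c)) : List (List F4c) :=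
  (List.range n).map fun j => Y.map fun row => row.getD j o

theorem transp4_eq (n : ℕ) (Y : List (List F4c)) : transp4 n Y = transp n Y := rfl

/-- the identity matrix of size `n` -/
def idL4 (n : ℕ) : List (List F4c) :=
  (List.range n).map fun i => (List.range n).map fun j => if i = j then e else o

theorem idL4_eq (n : ℕ) : idL4 n = idL n := rfl

/-- the product of a list of matrices of size `n` given by their columns, by its rows -/
def prodT4 (n : ℕ) (Ms : List (List (List F4c))) : List (List F4c) := Ms.foldl mulT4 (idL4 n)

theorem prodT4_eq (n : ℕ) (Ms : List (List (List F4c))) : prodT4 n Ms = prodT n Ms := by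
  unfold prodT4 prodT
  have : mulT4 = mulT := by
    funext X Yt
    exact mulT4_eq X Yt
  rw [this, idL4_eq]

end Cfsg.Agent.Lib.Helper6.ChevMatL4
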