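import Cfsg.Agent.Lib.Helper6.ChevMatL
import Cfsg.Agent.Lib.Helper8.F9

/-! # List matrices over the computable field with nine elements, with the operations named
directly (for the evaluation by the kernel) -/

set_option autoImplicit false

namespace Cfsg.Agent.Lib.Helper6.ChevMatL9

open Cfsg.Agent.Lib.Helper6.ChevMatL Cfsg.Agent.Lib.Helper8

/-- the sum -/
def add9 (x y : F9) : F9 := ⟨x.re + y.re, x.im + y.im⟩

/-- the product -/
def mul9 (x y : F9) : F9 := ⟨x.re * y.re - x.im * y.im, x.re * y.im + x.im * y.re⟩

/-- the product of a row and a column -/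
def dot9 : List F9 → List F9 → F9
  | a :: as, b :: bs => add9 (mul9 a b) (dot9 as bs)
  | _, _ => ⟨0, 0⟩

theorem dot9_eq : ∀ r c : List F9, dot9 r c = dot r c
  | [], c => by
    simp [dot9, dot]
    rfl
  | a :: as, [] => by
    simp [dot9, dot]
    rfl
  | a :: as, b :: bs => by
    rw [dot9, dot, dot9_eq as bs]
    rfl

/-- the product of a matrix given by its rows and a matrix given by its columns, by its rows -/
def mulT9 (X Yt : List (List F9)) : List (List F9) :=
  X.map fun row => Yt.map fun col => dot9 row col

theorem mulT9_eq (X Yt : List (List F9)) : mulT9 X Yt = mulT X Yt := by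
  unfold mulT9 mulT
  simp only [dot9_eq]

/-- the identity matrix of size `n` -/
def idL9 (n : ℕ) : List (List F9) :=
  (List.range n).map fun i => (List.range n).map fun j => if i = j then ⟨1, 0⟩ else ⟨0, 0⟩

theorem idL9_eq (n : ℕ) : idL9 n = idL n := rfl

/-- the product of a list of matrices of size `n` given by their columns, by its rows -/
def prodT9 (n : ℕ) (Ms : List (List (List F9))) : List (List F9) := Ms.foldl mulT9 (idL9 n)

theorem prodT9_eq (n : ℕ) (Ms : List (List (List F9))) : prodT9 n Ms = prodT n Ms := by
  unfold prodT9 prodT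
  have : mulT9 = mulT := by
    funext X Yt
    exact mulT9_eq X Yt
  rw [this, idL9_eq]

end Cfsg.Agent.Lib.Helper6.ChevMatL9
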