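import Mathlib
import Cfsg.Prelude.Def_Chevalley

/-! # The Chevalley groups of a datum over isomorphic fields are isomorphic, and so are their
derived subgroups -/

set_option autoImplicit false

namespace Cfsg.Agent.Lib.Helper6.ChevRing

open Cfsg.Lie

section

variable {K L : Type*} [Field K] [Field L] (D : ChevalleyDatum)

/-- the root elements have entries polynomial in the parameter with integer coefficients -/
theorem xMat_map_hom (φ : K →+* L) (r : Fin D.nroots) (t : K) :
    (D.xMat K r t).map φ = D.xMat L r (φ t) := by
  ext row col
  simp only [Matrix.map_apply, ChevalleyDatum.xMat, Matrix.of_apply]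
  rcases col with i | s
  · rcases row with i' | u
    · simp only
      split_ifs <;> simp
    · simp only
      split_ifs <;> simp
  · simp only
    split_ifs
    · rcases row with i' | u
      · simp
      · simp only
        split_ifs <;> simp
    · rcases row with i' | u
      · simp
      · simp only
        split_ifs <;> simp
    · rcases row with i' | u
      · simp
      · simp only [map_add, map_list_sum, List.map_map]
        congr 1
        · split_ifs <;> simp
        · congr 1
          apply List.map_congr_left
          intro km _
          simp

variable (e : K ≃+* L)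

/-- the isomorphism of the general linear groups -/
noncomputable def glEquiv : GL D.Idx K ≃* GL D.Idx L :=
  Units.mapEquiv (RingEquiv.mapMatrix e).toMulEquiv

theorem coe_glEquiv (g : GL D.Idx K) :
    ((glEquiv D e g : GL D.Idx L) : Matrix D.Idx D.Idx L) =
      (g : Matrix D.Idx D.Idx K).map e := rfl

theorem map_group : (D.group K).map (glEquiv D e).toMonoidHom = D.group L := by
  unfold ChevalleyDatum.group
  rw [MonoidHom.map_closure]
  congr 1
  ext g
  constructor
  · rintro ⟨g', ⟨r, t, hg'⟩, rfl⟩
    refine ⟨r, e t, ?_⟩
    show ((glEquiv D e g' : GL D.Idx L) : Matrix D.Idx D.Idx L) = _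
    rw [coe_glEquiv, hg']
    exact xMat_map_hom D e.toRingHom r t
  · rintro ⟨r, t, hg⟩
    refine ⟨(glEquiv D e).symm g, ⟨r, e.symm t, ?_⟩, ?_⟩
    · have h1 : ((glEquiv D e ((glEquiv D e).symm g) : GL D.Idx L) : Matrix D.Idx D.Idx L) =
          (D.xMat K r (e.symm t)).map e := by
        rw [MulEquiv.apply_symm_apply, hg]
        have := xMat_map_hom D e.toRingHom r (e.symm t)
        rw [RingEquiv.toRingHom_eq_coe, RingHom.coe_coe, RingEquiv.apply_symm_apply] at this
        exact this.symm
      rw [coe_glEquiv] at h1
      ext i j
      have h2 := congrFun (congrFun h1 i) j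
      rw [Matrix.map_apply, Matrix.map_apply] at h2
      exact e.injective h2
    · exact (glEquiv D e).apply_symm_apply g

/-- **the Chevalley groups over isomorphic fields are isomorphic** -/
noncomputable def groupEquiv : ↥(D.group K) ≃* ↥(D.group L) :=
  ((glEquiv D e).subgroupMap (D.group K)).trans (MulEquiv.subgroupCongr (map_group D e))

end

/-- the derived subgroups of isomorphic groups are isomorphic -/
noncomputable def commutatorEquiv {G H : Type*} [Group G] [Group H] (f : G ≃* H) :
    ↥(commutator G) ≃* ↥(commutator H) :=
  (f.subgroupMap (commutator G)).trans (MulEquiv.subgroupCongr (by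
    rw [commutator_def, Subgroup.map_commutator]
    congr 1 <;>
    · rw [← MonoidHom.range_eq_map]
      exact MonoidHom.range_eq_top.2 f.surjective))

end Cfsg.Agent.Lib.Helper6.ChevRing
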