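import Mathlib

/-! # Monoids coded by natural numbers: words, generated submonoids, subgroup chains

A `Coding` of a monoid `M` consists of computable operations on natural numbers ("codes")
together with a denotation into `M` respecting them.  Finite checks on codes are evaluated by the
kernel; the soundness theorems transfer them to `M`. -/

set_option autoImplicit false

namespace Cfsg.Agent.Lib.Helper6.Cod

/-- a coding of a monoid by natural numbers -/
structure Coding (M : Type*) [Monoid M] where
  /-- product of codes -/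
  mul : ℕ → ℕ → ℕ
  /-- code of the identity -/
  one : ℕ
  /-- the denoted element -/
  den : ℕ → M
  /-- canonical codes -/
  Canon : ℕ → Prop
  den_mul : ∀ a b, den (mul a b) = den a * den b
  den_one : den one = 1
  canon_mul : ∀ a b, Canon (mul a b)
  canon_one : Canon one
  den_inj : ∀ a b, Canon a → Canon b → den a = den b → a = b

section words

variable (mul : ℕ → ℕ → ℕ) (one : ℕ)

/-- the value of a word in the generators `S` (out-of-range letters denote the identity) -/
def evalW (S : List ℕ) (w : List ℕ) : ℕ := w.foldr (fun i acc => mul (S.getD i one) acc) one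

theorem evalW_nil (S : List ℕ) : evalW mul one S [] = one := rfl

theorem evalW_cons (S : List ℕ) (i : ℕ) (w : List ℕ) :
    evalW mul one S (i :: w) = mul (S.getD i one) (evalW mul one S w) := rfl

/-- powers of a code -/
def powC (e : ℕ) : ℕ → ℕ
  | 0 => one
  | n + 1 => mul e (powC e n)

end words

variable {M : Type*} [Monoid M] (K : Coding M)

theorem canon_evalW (S : List ℕ) (w : List ℕ) : K.Canon (evalW K.mul K.one S w) := by
  cases w with
  | nil => exact K.canon_one
  | cons i w => exact K.canon_mul _ _

/-- the submonoid generated by a list of codes -/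
def Nmon (S : List ℕ) : Submonoid M := Submonoid.closure {m | ∃ s ∈ S, K.den s = m}

theorem den_mem_Nmon {S : List ℕ} {s : ℕ} (hs : s ∈ S) : K.den s ∈ Nmon K S :=
  Submonoid.subset_closure ⟨s, hs, rfl⟩

theorem den_evalW_mem (S : List ℕ) (w : List ℕ) : K.den (evalW K.mul K.one S w) ∈ Nmon K S := by
  induction w with
  | nil => rw [evalW_nil, K.den_one]; exact (Nmon K S).one_mem
  | cons i w ih =>
    rw [evalW_cons, K.den_mul]
    refine (Nmon K S).mul_mem ?_ ih
    by_cases hi : i < S.length
    · rw [List.getD_eq_getElem _ _ hi]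
      exact den_mem_Nmon K (List.getElem_mem hi)
    · rw [List.getD_eq_default _ _ (not_lt.1 hi), K.den_one]
      exact (Nmon K S).one_mem

theorem Nmon_nil : Nmon K [] = ⊥ := by
  unfold Nmon
  rw [eq_bot_iff]
  apply Submonoid.closure_le.2
  rintro m ⟨s, hs, -⟩
  exact absurd hs (List.not_mem_nil)

theorem Nmon_mono {S T : List ℕ} (h : ∀ s ∈ S, s ∈ T) : Nmon K S ≤ Nmon K T := by
  apply Submonoid.closure_mono
  rintro m ⟨s, hs, rfl⟩
  exact ⟨s, h s hs, rfl⟩

/-! ### chains -/

/-- one level of a chain -/
structure Level where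
  /-- the transversal -/
  U : List ℕ
  /-- for every `u` (in order), for every generator (in order): index into `U`, word in `S'` -/
  cert : List (List (ℕ × List ℕ))
  /-- the generators of the next level -/
  S' : List ℕ

section check

variable (mul : ℕ → ℕ → ℕ) (one : ℕ)

/-- the test of one certificate -/
def pairOK (U S' : List ℕ) (u : ℕ) (sc : ℕ × (ℕ × List ℕ)) : Bool :=
  match U[sc.2.1]? with
  | some u' => Nat.beq (mul sc.1 u) (mul u' (evalW mul one S' sc.2.2))
  | none => false

/-- the test of a level with generators `S` -/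
def levelOK (S : List ℕ) (L : Level) : Bool :=
  L.U.contains one && (L.cert.length == L.U.length) &&
    (L.U.zip L.cert).all fun uc =>
      (uc.2.length == S.length) && (S.zip uc.2).all (pairOK mul one L.U L.S' uc.1)

/-- the test of a chain -/
def chainOK : List ℕ → List Level → Bool
  | S, [] => S.isEmpty
  | S, L :: Ls => levelOK mul one S L && chainOK L.S' Ls

end check

theorem exists_zip_of_mem {α β : Type*} {l₁ : List α} {l₂ : List β} {a : α} (ha : a ∈ l₁)
    (hlen : l₁.length ≤ l₂.length) : ∃ b, (a, b) ∈ l₁.zip l₂ := by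
  obtain ⟨i, hi, rfl⟩ := List.mem_iff_getElem.1 ha
  have hi2 : i < l₂.length := lt_of_lt_of_le hi hlen
  refine ⟨l₂[i], ?_⟩
  have hz : i < (l₁.zip l₂).length := by
    rw [List.length_zip]; exact lt_min hi hi2
  have := List.getElem_mem hz
  rwa [List.getElem_zip] at this

theorem level_sound {S : List ℕ} {L : Level} (h : levelOK K.mul K.one S L = true) :
    K.one ∈ L.U ∧ ∀ s ∈ S, ∀ u ∈ L.U, ∃ u' ∈ L.U, ∃ w,
      K.mul s u = K.mul u' (evalW K.mul K.one L.S' w) := by
  unfold levelOK at h
  rw [Bool.and_eq_true, Bool.and_eq_true, List.all_eq_true] at h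
  obtain ⟨⟨h1, h2⟩, h3⟩ := h
  refine ⟨by simpa using h1, ?_⟩
  intro s hs u hu
  have hlen : L.U.length ≤ L.cert.length := by
    have := beq_iff_eq.1 h2
    omega
  obtain ⟨c, hc⟩ := exists_zip_of_mem hu hlen
  have h4 := h3 _ hc
  rw [Bool.and_eq_true, List.all_eq_true] at h4
  obtain ⟨h5, h6⟩ := h4
  have hlen2 : S.length ≤ c.length := by
    have := beq_iff_eq.1 h5
    simp only at this
    omega
  obtain ⟨jw, hjw⟩ := exists_zip_of_mem hs hlen2
  have h7 := h6 _ hjw
  unfold pairOK at h7
  simp only at h7
  split at h7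
  · rename_i u' hu'
    exact ⟨u', List.mem_of_getElem? hu', jw.2, Nat.eq_of_beq_eq_true h7⟩
  · exact absurd h7 (by simp)

/-- the finite set of products along a chain -/
noncomputable def Tfin [DecidableEq M] : List Level → Finset M
  | [] => {1}
  | L :: Ls => Finset.image₂ (fun u t => K.den u * t) L.U.toFinset (Tfin Ls)

theorem Tfin_card_le [DecidableEq M] :
    ∀ Ls : List Level, (Tfin K Ls).card ≤ (Ls.map fun L => L.U.length).prod
  | [] => by simp [Tfin]
  | L :: Ls => by
    rw [Tfin, List.map_cons, List.prod_cons]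
    refine (Finset.card_image₂_le _ _ _).trans ?_
    exact Nat.mul_le_mul (List.toFinset_card_le _) (Tfin_card_le Ls)

theorem chain_sound [DecidableEq M] : ∀ (Ls : List Level) (S : List ℕ),
    chainOK K.mul K.one S Ls = true → ∀ g ∈ Nmon K S, g ∈ Tfin K Ls
  | [], S, h, g, hg => by
    unfold chainOK at h
    have hS : S = [] := by simpa using h
    rw [hS, Nmon_nil, Submonoid.mem_bot] at hg
    rw [hg, Tfin]; exact Finset.mem_singleton_self _
  | L :: Ls, S, h, g, hg => by
    unfold chainOK at h
    rw [Bool.and_eq_true] at h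
    obtain ⟨hL, hrest⟩ := h
    have ih := chain_sound Ls L.S' hrest
    obtain ⟨hone, hstep⟩ := level_sound K hL
    have key : ∀ g ∈ Nmon K S, ∃ u ∈ L.U, ∃ n ∈ Nmon K L.S', g = K.den u * n := by
      intro g hg
      unfold Nmon at hg
      induction hg using Submonoid.closure_induction_left with
      | one => exact ⟨K.one, hone, 1, Submonoid.one_mem _, by rw [K.den_one, mul_one]⟩
      | mul_left x hx y _ ihy =>
        obtain ⟨s, hs, rfl⟩ := hx
        obtain ⟨u, hu, n, hn, rfl⟩ := ihy
        obtain ⟨u', hu', w, hw⟩ := hstep s hs u hu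
        refine ⟨u', hu', K.den (evalW K.mul K.one L.S' w) * n,
          Submonoid.mul_mem _ (den_evalW_mem K _ _) hn, ?_⟩
        rw [← mul_assoc, ← K.den_mul, hw, K.den_mul, mul_assoc]
    obtain ⟨u, hu, n, hn, rfl⟩ := key g hg
    rw [Tfin, Finset.mem_image₂]
    exact ⟨u, List.mem_toFinset.2 hu, n, ih n hn, rfl⟩

/-- the bound for the order of a subgroup whose elements denote into `Nmon K S` -/
theorem card_le_of_chain [DecidableEq M] {Γ : Type*} [Group Γ] (ι : Γ →* M)
    (hι : Function.Injective ι) (H : Subgroup Γ) {S : List ℕ} {Ls : List Level}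
    (hchain : chainOK K.mul K.one S Ls = true) (hH : ∀ g ∈ H, ι g ∈ Nmon K S) :
    Nat.card H ≤ (Ls.map fun L => L.U.length).prod := by
  have hinj : Function.Injective
      (fun g : H => (⟨ι g.1, chain_sound K Ls S hchain _ (hH g.1 g.2)⟩ : ↥(Tfin K Ls))) := by
    intro a b h
    have := congrArg Subtype.val h
    exact Subtype.ext (hι this)
  have h1 := Nat.card_le_card_of_injective _ hinj
  rw [Nat.card_eq_finsetCard] at h1
  exact h1.trans (Tfin_card_le K Ls)

/-- elements of a finitely generated subgroup of a finite group denote into the generated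
submonoid -/
theorem mem_Nmon_of_mem_closure {Γ : Type*} [Group Γ] [Finite Γ] (ι : Γ →* M) {T : Set Γ}
    {S : List ℕ} (hT : ∀ t ∈ T, ι t ∈ Nmon K S) {g : Γ} (hg : g ∈ Subgroup.closure T) :
    ι g ∈ Nmon K S := by
  have hg' : g ∈ (Subgroup.closure T).toSubmonoid := hg
  rw [Subgroup.closure_toSubmonoid_of_finite] at hg'
  clear hg
  induction hg' using Submonoid.closure_induction with
  | mem x hx => exact hT x hx
  | one => rw [map_one]; exact Submonoid.one_mem _
  | mul x y _ _ hx hy => rw [map_mul]; exact Submonoid.mul_mem _ hx hy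

end Cfsg.Agent.Lib.Helper6.Cod
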