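import Cfsg.Agent.Lib.Helper6.CodBase

/-! # Chains whose top level is a long transversal stored in blocks (fast look-up) -/

set_option autoImplicit false

namespace Cfsg.Agent.Lib.Helper6.Cod

/-- two-level look-up in a list of blocks of size `n` -/
def get2 (B : List (List ℕ)) (n j : ℕ) : Option ℕ :=
  match B[j / n]? with
  | some bl => bl[j % n]?
  | none => none

theorem get2_mem {B : List (List ℕ)} {n j u : ℕ} (h : get2 B n j = some u) : u ∈ B.flatten := by
  unfold get2 at h
  split at h
  · rename_i bl hbl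
    rw [List.mem_flatten]
    exact ⟨bl, List.mem_of_getElem? hbl, List.mem_of_getElem? h⟩
  · exact absurd h (by simp)

section check

variable (mul : ℕ → ℕ → ℕ) (one : ℕ)

/-- the test of one certificate, with look-up in blocks -/
def pairOK2 (B : List (List ℕ)) (n : ℕ) (S' : List ℕ) (u : ℕ) (sc : ℕ × (ℕ × List ℕ)) : Bool :=
  match get2 B n sc.2.1 with
  | some u' => Nat.beq (mul sc.1 u) (mul u' (evalW mul one S' sc.2.2))
  | none => false

/-- the test of one row: an element of the transversal with its certificates -/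
def rowOK2 (B : List (List ℕ)) (n : ℕ) (S' S : List ℕ) (uc : ℕ × List (ℕ × List ℕ)) : Bool :=
  (uc.2.length == S.length) && (S.zip uc.2).all (pairOK2 mul one B n S' uc.1)

end check

variable {M : Type*} [Monoid M] (K : Coding M)

/-- what the test of a level gives -/
def LevelProp (S : List ℕ) (L : Level) : Prop :=
  K.one ∈ L.U ∧ ∀ s ∈ S, ∀ u ∈ L.U, ∃ u' ∈ L.U, ∃ w,
    K.mul s u = K.mul u' (evalW K.mul K.one L.S' w)

theorem levelProp_of_rows (B : List (List ℕ)) (n : ℕ) (S' S : List ℕ)
    (C : List (List (ℕ × List ℕ))) (h1 : K.one ∈ B.flatten)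
    (hlen : B.flatten.length ≤ C.length)
    (hrows : ∀ uc ∈ B.flatten.zip C, rowOK2 K.mul K.one B n S' S uc = true) :
    LevelProp K S ⟨B.flatten, C, S'⟩ := by
  refine ⟨h1, ?_⟩
  intro s hs u hu
  obtain ⟨c, hc⟩ := exists_zip_of_mem hu hlen
  have h4 := hrows _ hc
  unfold rowOK2 at h4
  rw [Bool.and_eq_true, List.all_eq_true] at h4
  obtain ⟨h5, h6⟩ := h4
  have hlen2 : S.length ≤ c.length := by
    have := beq_iff_eq.1 h5
    simp only at this
    omega
  obtain ⟨jw, hjw⟩ := exists_zip_of_mem hs hlen2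
  have h7 := h6 _ hjw
  unfold pairOK2 at h7
  simp only at h7
  split at h7
  · rename_i u' hu'
    exact ⟨u', get2_mem hu', jw.2, Nat.eq_of_beq_eq_true h7⟩
  · exact absurd h7 (by simp)

/-- the inductive step of the soundness of chains, from the property of the top level -/
theorem chain_sound_cons [DecidableEq M] (L : Level) (Ls : List Level) (S : List ℕ)
    (hL : LevelProp K S L) (hrest : chainOK K.mul K.one L.S' Ls = true) :
    ∀ g ∈ Nmon K S, g ∈ Tfin K (L :: Ls) := by
  intro g hg
  have ih := chain_sound K Ls L.S' hrest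
  obtain ⟨hone, hstep⟩ := hL
  have key : ∀ g ∈ Nmon K S, ∃ u ∈ L.U, ∃ n ∈ Nmon K L.S', g = K.den u * n := by
    intro g hg
    unfold Nmon at hg
    induction hg using Submonoid.closure_induction_left with
    | one => exact ⟨K.one, hone, 1, Submonoid.one_mem _, by rw [K.den_one, mul_one]⟩
    | mul_left x hx y _ ihy =>
      obtain ⟨s, hs, rfl⟩ := hx
      obtain ⟨u, hu, n, hn, rfl⟩ := ihy
      obtain ⟨u', hu', w, hw⟩ := hstep s hs u hu
      refine ⟨u', hu', K.den (evalW K.mul K.one L.S' w) * n,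
        Submonoid.mul_mem _ (den_evalW_mem K _ _) hn, ?_⟩
      rw [← mul_assoc, ← K.den_mul, hw, K.den_mul, mul_assoc]
  obtain ⟨u, hu, n, hn, rfl⟩ := key g hg
  rw [Tfin, Finset.mem_image₂]
  exact ⟨u, List.mem_toFinset.2 hu, n, ih n hn, rfl⟩

/-- the bound for the order of a subgroup whose elements denote into the products of a chain -/
theorem card_le_of_mem_Tfin [DecidableEq M] {Γ : Type*} [Group Γ] (ι : Γ →* M)
    (hι : Function.Injective ι) (H : Subgroup Γ) {Ls : List Level}
    (hH : ∀ g ∈ H, ι g ∈ Tfin K Ls) :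
    Nat.card H ≤ (Ls.map fun L => L.U.length).prod := by
  have hinj : Function.Injective
      (fun g : H => (⟨ι g.1, hH g.1 g.2⟩ : ↥(Tfin K Ls))) := by
    intro a b h
    have := congrArg Subtype.val h
    exact Subtype.ext (hι this)
  have h1 := Nat.card_le_card_of_injective _ hinj
  rw [Nat.card_eq_finsetCard] at h1
  exact h1.trans (Tfin_card_le K Ls)

/-- splitting the rows of a level into two parts -/
theorem rows_append {B₁ B₂ : List (List ℕ)} {C₁ C₂ : List (List (ℕ × List ℕ))}
    (hlen : B₁.flatten.length = C₁.length) {P : ℕ × List (ℕ × List ℕ) → Prop}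
    (h₁ : ∀ uc ∈ B₁.flatten.zip C₁, P uc) (h₂ : ∀ uc ∈ B₂.flatten.zip C₂, P uc) :
    ∀ uc ∈ (B₁ ++ B₂).flatten.zip (C₁ ++ C₂), P uc := by
  intro uc huc
  rw [List.flatten_append, List.zip_append hlen, List.mem_append] at huc
  rcases huc with h | h
  · exact h₁ uc h
  · exact h₂ uc h

end Cfsg.Agent.Lib.Helper6.Cod
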