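import Mathlib

/-! # Simplicity from Sylow subgroups all of whose nontrivial elements normally generate

Generic group theory used for explicitly given finite groups: a finite group is simple as soon
as for every prime divisor `p` of its order some Sylow `p`-subgroup consists of elements whose
normal closure is everything.  Also: finite subsets closed under multiplication as subgroups,
and membership in normal closures phrased for elements of an ambient group. -/

set_option autoImplicit false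

namespace Cfsg.Agent.Lib.Helper6.SylowSimple

section abstract

variable {G : Type*} [Group G]

/-- a normal subgroup of order divisible by `p` is everything, if the nontrivial elements of a
Sylow `p`-subgroup normally generate the group -/
theorem eq_top_of_dvd [Finite G] (p : ℕ) [hp : Fact p.Prime] (P : Sylow p G)
    (hP : ∀ e ∈ (P : Subgroup G), e ≠ 1 → Subgroup.normalClosure {e} = ⊤)
    (N : Subgroup G) (hNn : N.Normal) (hdvd : p ∣ Nat.card N) : N = ⊤ := by
  obtain ⟨τ, hτ⟩ := exists_prime_orderOf_dvd_card' p hdvd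
  have hτ' : orderOf (τ : G) = p := by rw [Subgroup.orderOf_coe]; exact hτ
  have hpg : IsPGroup p (Subgroup.zpowers (τ : G)) := by
    apply IsPGroup.of_card (n := 1)
    rw [Nat.card_zpowers, hτ', pow_one]
  obtain ⟨Q, hQ⟩ := hpg.exists_le_sylow
  obtain ⟨g, hg⟩ := MulAction.exists_smul_eq G Q P
  have hτQ : (τ : G) ∈ (Q : Subgroup G) := hQ (Subgroup.mem_zpowers _)
  have hmem : g * τ * g⁻¹ ∈ (P : Subgroup G) := by
    rw [← hg, Sylow.coe_subgroup_smul, Subgroup.mem_pointwise_smul_iff_inv_smul_mem,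
      MulAut.smul_def, ← map_inv, MulAut.conj_apply, inv_inv]
    have : g⁻¹ * (g * τ * g⁻¹) * g = τ := by group
    rw [this]; exact hτQ
  have hne : g * τ * g⁻¹ ≠ 1 := by
    intro h
    have : (τ : G) = 1 := by
      have := congrArg (fun x => g⁻¹ * x * g) h
      simp only [mul_one, inv_mul_cancel] at this
      rw [← this]; group
    rw [this, orderOf_one] at hτ'
    exact hp.out.one_lt.ne hτ'
  have hcl := hP _ hmem hne
  rw [eq_top_iff, ← hcl]
  apply Subgroup.normalClosure_le_normal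
  rw [Set.singleton_subset_iff]
  exact hNn.conj_mem _ τ.2 g

/-- **simplicity from Sylow subgroups for all primes** -/
theorem isSimpleGroup_of_sylows [Finite G] [Nontrivial G]
    (h : ∀ p : ℕ, p.Prime → p ∣ Nat.card G → ∃ (_ : Fact p.Prime) (P : Sylow p G),
      ∀ e ∈ (P : Subgroup G), e ≠ 1 → Subgroup.normalClosure {e} = ⊤) : IsSimpleGroup G := by
  refine ⟨fun N hNn => ?_⟩
  by_cases hbot : N = ⊥
  · exact Or.inl hbot
  right
  have hcard : Nat.card N ≠ 1 := by
    intro h1
    exact hbot (Subgroup.card_eq_one.1 h1)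
  obtain ⟨p, hp, hpd⟩ := Nat.exists_prime_and_dvd hcard
  obtain ⟨hf, P, hP⟩ := h p hp (hpd.trans (Subgroup.card_subgroup_dvd_card N))
  exact eq_top_of_dvd p P hP N hNn hpd

end abstract

section ambient

variable {Γ : Type*} [Group Γ]

/-- a finite set closed under multiplication and containing `1`, as a subgroup -/
noncomputable def finsetSubgroup [Finite Γ] (F : Finset Γ) (h1 : 1 ∈ F)
    (hmul : ∀ a ∈ F, ∀ b ∈ F, a * b ∈ F) : Subgroup Γ :=
  subgroupOfIdempotent (F : Set Γ) ⟨1, h1⟩ (by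
    ext x
    constructor
    · rintro ⟨a, ha, b, hb, rfl⟩
      exact hmul a ha b hb
    · intro hx
      exact ⟨x, hx, 1, h1, mul_one x⟩)

theorem mem_finsetSubgroup [Finite Γ] {F : Finset Γ} {h1 : 1 ∈ F}
    {hmul : ∀ a ∈ F, ∀ b ∈ F, a * b ∈ F} {x : Γ} : x ∈ finsetSubgroup F h1 hmul ↔ x ∈ F :=
  Iff.rfl

theorem card_finsetSubgroup [Finite Γ] (F : Finset Γ) (h1 : 1 ∈ F)
    (hmul : ∀ a ∈ F, ∀ b ∈ F, a * b ∈ F) : Nat.card (finsetSubgroup F h1 hmul) = F.card := by
  rw [← Nat.card_eq_finsetCard]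
  exact Nat.card_congr (Equiv.subtypeEquivRight fun x => mem_finsetSubgroup)

/-- the order of such a subgroup divides the order of any subgroup containing it -/
theorem card_dvd_of_finset [Finite Γ] (H : Subgroup Γ) (F : Finset Γ) (h1 : 1 ∈ F)
    (hmul : ∀ a ∈ F, ∀ b ∈ F, a * b ∈ F) (hH : ∀ a ∈ F, a ∈ H) : F.card ∣ Nat.card H := by
  have hle : finsetSubgroup F h1 hmul ≤ H := fun x hx => hH x (mem_finsetSubgroup.1 hx)
  rw [← card_finsetSubgroup F h1 hmul]
  exact Subgroup.card_dvd_of_le hle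

/-- such a subgroup of the right order is a Sylow subgroup -/
theorem exists_sylow_of_finset [Finite Γ] (H : Subgroup Γ) (p k : ℕ) [hp : Fact p.Prime]
    (F : Finset Γ) (h1 : 1 ∈ F) (hmul : ∀ a ∈ F, ∀ b ∈ F, a * b ∈ F) (hH : ∀ a ∈ F, a ∈ H)
    (hcard : F.card = p ^ k) (hidx : ¬ p ∣ Nat.card H / p ^ k) :
    ∃ P : Sylow p H, ∀ e : H, e ∈ (P : Subgroup H) ↔ e.1 ∈ F := by
  have hle : finsetSubgroup F h1 hmul ≤ H := fun x hx => hH x (mem_finsetSubgroup.1 hx)
  have hc : Nat.card ((finsetSubgroup F h1 hmul).subgroupOf H) = p ^ k := by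
    rw [← hcard, ← card_finsetSubgroup F h1 hmul]
    exact Nat.card_congr (Subgroup.subgroupOfEquivOfLe hle).toEquiv
  have hpg : IsPGroup p ((finsetSubgroup F h1 hmul).subgroupOf H) := IsPGroup.of_card hc
  have hindex : ((finsetSubgroup F h1 hmul).subgroupOf H).index = Nat.card H / p ^ k := by
    have h2 := Subgroup.card_mul_index ((finsetSubgroup F h1 hmul).subgroupOf H)
    rw [hc] at h2
    rw [← h2, Nat.mul_div_cancel_left _ (pow_pos hp.out.pos k)]
  refine ⟨hpg.toSylow (by rw [hindex]; exact hidx), fun e => ?_⟩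
  show e ∈ (finsetSubgroup F h1 hmul).subgroupOf H ↔ _
  rw [Subgroup.mem_subgroupOf, mem_finsetSubgroup]

/-! ### membership in normal closures, for elements of the ambient group -/

variable (J : Subgroup Γ) (e : ↥J)

/-- membership in the normal closure of `e` in `J` -/
def InNC (y : Γ) : Prop :=
  ∃ h : y ∈ J, (⟨y, h⟩ : ↥J) ∈ Subgroup.normalClosure ({e} : Set ↥J)

theorem InNC.self : InNC J e e.1 := ⟨e.2, Subgroup.subset_normalClosure rfl⟩

theorem InNC.one : InNC J e 1 := ⟨J.one_mem, Subgroup.one_mem _⟩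

variable {J e}

theorem InNC.mul {y z : Γ} (hy : InNC J e y) (hz : InNC J e z) : InNC J e (y * z) := by
  obtain ⟨h1, h1'⟩ := hy
  obtain ⟨h2, h2'⟩ := hz
  exact ⟨J.mul_mem h1 h2, Subgroup.mul_mem _ h1' h2'⟩

theorem InNC.pow {y : Γ} (hy : InNC J e y) (k : ℕ) : InNC J e (y ^ k) := by
  induction k with
  | zero => rw [pow_zero]; exact InNC.one J e
  | succ k ih => rw [pow_succ]; exact ih.mul hy

theorem InNC.conj {y : Γ} (hy : InNC J e y) {x : Γ} (hx : x ∈ J) : InNC J e (x * y * x⁻¹) := by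
  obtain ⟨h1, h1'⟩ := hy
  refine ⟨J.mul_mem (J.mul_mem hx h1) (J.inv_mem hx), ?_⟩
  have := (Subgroup.normalClosure_normal (s := ({e} : Set ↥J))).conj_mem _ h1' ⟨x, hx⟩
  exact this

/-- if two generators of `J` lie in the normal closure of `e`, it is everything -/
theorem normalClosure_eq_top_of_gens {a b : Γ} (hJ : J = Subgroup.closure {a, b})
    (ha : InNC J e a) (hb : InNC J e b) : Subgroup.normalClosure ({e} : Set ↥J) = ⊤ := by
  subst hJ
  obtain ⟨hA, hA'⟩ := ha
  obtain ⟨hB, hB'⟩ := hb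
  rw [eq_top_iff]
  have htop : Subgroup.closure (((↑) : ↥(Subgroup.closure ({a, b} : Set Γ)) → Γ) ⁻¹' {a, b}) = ⊤ :=
    Subgroup.closure_closure_coe_preimage
  rw [← htop, Subgroup.closure_le]
  rintro z (hz | hz)
  · have : z = ⟨a, hA⟩ := Subtype.ext hz
    rw [this]; exact hA'
  · have : z = ⟨b, hB⟩ := Subtype.ext hz
    rw [this]; exact hB'

end ambient

end Cfsg.Agent.Lib.Helper6.SylowSimple
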