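import Cfsg.Agent.Lib.Helper6.CodBase
import Cfsg.Agent.Lib.Helper6.SylowSimple

/-! # Words in coded generators as elements of a group; Sylow lists and normal-closure certificates

Letters come in pairs: letter `2 i + 1` denotes the inverse of letter `2 i`. -/

set_option autoImplicit false

namespace Cfsg.Agent.Lib.Helper6.Cod

open Cfsg.Agent.Lib.Helper6.SylowSimple

/-- the inverse letter -/
def invL (n : ℕ) : ℕ := if n % 2 = 0 then n + 1 else n - 1

/-- the inverse word -/
def invW (w : List ℕ) : List ℕ := (w.map invL).reverse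

section check

variable (mul : ℕ → ℕ → ℕ) (one : ℕ)

/-- the value of a certificate: the product of the conjugates `v * e ^ n * v⁻¹` -/
def certVal (S : List ℕ) (e : ℕ) (cert : List (List ℕ × ℕ)) : ℕ :=
  cert.foldr (fun vn acc =>
    mul (mul (mul (evalW mul one S vn.1) (powC mul one e vn.2)) (evalW mul one S (invW vn.1)))
      acc) one

/-- a root: code, word, and for each target a certificate that the target lies in the normal
closure of the root -/
abbrev Root := ℕ × List ℕ × List (List (List ℕ × ℕ))

/-- the test of a root against the targets `T` -/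
def rootOK (S T : List ℕ) (r : Root) : Bool :=
  Nat.beq r.1 (evalW mul one S r.2.1) && (r.2.2.length == T.length) &&
    (T.zip r.2.2).all fun tc => Nat.beq (certVal mul one S r.1 tc.2) tc.1

/-- an entry of a Sylow list: code `e`, word, exponent `k`, conjugator word `g`, index `j` of a
root; meaning `e ^ k = g * root j * g⁻¹` (nothing is asked of the identity) -/
abbrev SylEntry := ℕ × List ℕ × ℕ × List ℕ × ℕ

/-- the test of one entry -/
def entryOK (S : List ℕ) (R : List Root) (d : SylEntry) : Bool :=
  Nat.beq d.1 (evalW mul one S d.2.1) &&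
    (Nat.beq d.1 one ||
      match R[d.2.2.2.2]? with
      | some r => Nat.beq (powC mul one d.1 d.2.2.1)
          (mul (mul (evalW mul one S d.2.2.2.1) r.1) (evalW mul one S (invW d.2.2.2.1)))
      | none => false)

/-- membership in a list of codes -/
def memB (a : ℕ) : List ℕ → Bool
  | [] => false
  | b :: l => Nat.beq a b || memB a l

/-- no repetitions, as a Boolean test -/
def nodupB : List ℕ → Bool
  | [] => true
  | a :: l => !(memB a l) && nodupB l

/-- the test of the data of a Sylow subgroup -/
def sylOK (S T : List ℕ) (R : List Root) (D : List SylEntry) : Bool :=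
  R.all (rootOK mul one S T) && D.all (entryOK mul one S R) &&
  memB one (D.map fun d => d.1) &&
  (D.map fun d => d.1).all (fun a => (D.map fun d => d.1).all fun b =>
    memB (mul a b) (D.map fun d => d.1)) &&
  nodupB (D.map fun d => d.1)

end check

theorem memB_iff {a : ℕ} : ∀ {l : List ℕ}, memB a l = true ↔ a ∈ l
  | [] => by simp [memB]
  | b :: l => by
    rw [memB, Bool.or_eq_true, memB_iff (l := l), List.mem_cons]
    constructor
    · rintro (h | h)
      · exact Or.inl (Nat.eq_of_beq_eq_true h)
      · exact Or.inr h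
    · rintro (h | h)
      · left; rw [h]; exact Nat.beq_refl b
      · exact Or.inr h

theorem nodupB_nodup : ∀ {l : List ℕ}, nodupB l = true → l.Nodup
  | [], _ => List.nodup_nil
  | a :: l, h => by
    rw [nodupB, Bool.and_eq_true] at h
    rw [List.nodup_cons]
    refine ⟨?_, nodupB_nodup h.2⟩
    intro hmem
    have := memB_iff.2 hmem
    rw [this] at h
    exact absurd h.1 (by simp)

section gl

variable {M : Type*} [Monoid M] (K : Coding M) {Γ : Type*} [Group Γ] (ι : Γ →* M)

/-- the value of a word in the group -/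
def evalGL (gen : ℕ → Γ) (w : List ℕ) : Γ := (w.map gen).prod

variable {K ι} {S : List ℕ} {gen : ℕ → Γ}

theorem val_evalGL (hgen : ∀ i, ι (gen i) = K.den (S.getD i K.one)) (w : List ℕ) :
    ι (evalGL gen w) = K.den (evalW K.mul K.one S w) := by
  induction w with
  | nil => rw [evalW_nil, K.den_one]; exact map_one ι
  | cons i w ih =>
    rw [evalW_cons, K.den_mul, ← ih, ← hgen i]
    show ι (gen i * evalGL gen w) = _
    rw [map_mul]

theorem evalGL_mem (H : Subgroup Γ) (hH : ∀ i, gen i ∈ H) (w : List ℕ) : evalGL gen w ∈ H := by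
  unfold evalGL
  apply Subgroup.list_prod_mem
  intro x hx
  obtain ⟨i, -, rfl⟩ := List.mem_map.1 hx
  exact hH i

theorem evalGL_invW (hinv : ∀ i, gen (invL i) = (gen i)⁻¹) (w : List ℕ) :
    evalGL gen (invW w) = (evalGL gen w)⁻¹ := by
  unfold evalGL invW
  rw [List.prod_inv_reverse, List.map_reverse, List.map_map, List.map_map]
  have : gen ∘ invL = (fun x => x⁻¹) ∘ gen := by
    funext i
    exact hinv i
  rw [this]

theorem val_pow {e : Γ} {c : ℕ} (he : ι e = K.den c) (n : ℕ) :
    ι (e ^ n) = K.den (powC K.mul K.one c n) := by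
  induction n with
  | zero => rw [pow_zero, powC, K.den_one]; exact map_one ι
  | succ n ih => rw [pow_succ', map_mul, powC, K.den_mul, he, ih]

/-- the group element of a certificate -/
def certGL (gen : ℕ → Γ) (e : Γ) (cert : List (List ℕ × ℕ)) : Γ :=
  (cert.map fun vn => evalGL gen vn.1 * e ^ vn.2 * (evalGL gen vn.1)⁻¹).prod

theorem val_certGL (hgen : ∀ i, ι (gen i) = K.den (S.getD i K.one))
    (hinv : ∀ i, gen (invL i) = (gen i)⁻¹) {e : Γ} {c : ℕ} (he : ι e = K.den c)
    (cert : List (List ℕ × ℕ)) :
    ι (certGL gen e cert) = K.den (certVal K.mul K.one S c cert) := by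
  induction cert with
  | nil =>
    show ι 1 = K.den K.one
    rw [K.den_one]; exact map_one ι
  | cons vn cert ih =>
    show ι (evalGL gen vn.1 * e ^ vn.2 * (evalGL gen vn.1)⁻¹ * certGL gen e cert) =
      K.den (K.mul (K.mul (K.mul (evalW K.mul K.one S vn.1) (powC K.mul K.one c vn.2))
        (evalW K.mul K.one S (invW vn.1))) (certVal K.mul K.one S c cert))
    rw [K.den_mul, K.den_mul, K.den_mul, ← ih, ← val_evalGL hgen, ← val_evalGL hgen,
      ← val_pow he, evalGL_invW hinv]
    simp only [map_mul]

theorem inNC_certGL (H : Subgroup Γ) (hH : ∀ i, gen i ∈ H) (e : ↥H)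
    (cert : List (List ℕ × ℕ)) : InNC H e (certGL gen e.1 cert) := by
  induction cert with
  | nil => exact InNC.one H e
  | cons vn cert ih =>
    show InNC H e (evalGL gen vn.1 * e.1 ^ vn.2 * (evalGL gen vn.1)⁻¹ * certGL gen e.1 cert)
    exact (((InNC.self H e).pow _).conj (evalGL_mem H hH _)).mul ih

/-- what the test of Sylow data gives: a subgroup, as a finite set, every nontrivial element of
which has all targets in its normal closure -/
theorem sylOK_sound (hι : Function.Injective ι)
    (hgen : ∀ i, ι (gen i) = K.den (S.getD i K.one))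
    (hinv : ∀ i, gen (invL i) = (gen i)⁻¹)
    (H : Subgroup Γ) (hH : ∀ i, gen i ∈ H) [DecidableEq Γ]
    {T : List ℕ} {R : List Root} {D : List SylEntry}
    (hD : sylOK K.mul K.one S T R D = true) :
    ∃ F : Finset Γ, 1 ∈ F ∧ (∀ a ∈ F, ∀ b ∈ F, a * b ∈ F) ∧
      (∀ a ∈ F, a ∈ H) ∧ F.card = D.length ∧
      ∀ (a : Γ) (ha : a ∈ H), a ∈ F → a ≠ 1 →
        ∀ t ∈ T, ∀ x : Γ, ι x = K.den t → InNC H ⟨a, ha⟩ x := by
  unfold sylOK at hD
  simp only [Bool.and_eq_true, List.all_eq_true] at hD
  obtain ⟨⟨⟨⟨h0, h1⟩, h2⟩, h3⟩, h4⟩ := hD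
  have h4' := nodupB_nodup h4
  have hcode : ∀ d ∈ D, d.1 = evalW K.mul K.one S d.2.1 := by
    intro d hd
    have := h1 d hd
    unfold entryOK at this
    rw [Bool.and_eq_true] at this
    exact Nat.eq_of_beq_eq_true this.1
  have hval : ∀ d ∈ D, ι (evalGL gen d.2.1) = K.den d.1 := by
    intro d hd
    rw [val_evalGL hgen, ← hcode d hd]
  have hcanon : ∀ d ∈ D, K.Canon d.1 := by
    intro d hd
    rw [hcode d hd]; exact canon_evalW K _ _
  have hinj : ∀ d ∈ D, ∀ d' ∈ D, evalGL gen d.2.1 = evalGL gen d'.2.1 → d = d' := by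
    intro d hd d' hd' h
    have hc : d.1 = d'.1 := by
      apply K.den_inj _ _ (hcanon d hd) (hcanon d' hd')
      rw [← hval d hd, ← hval d' hd', h]
    exact List.inj_on_of_nodup_map h4' hd hd' hc
  refine ⟨(D.map fun d => evalGL gen d.2.1).toFinset, ?_, ?_, ?_, ?_, ?_⟩
  · rw [memB_iff, List.mem_map] at h2
    obtain ⟨d, hd, hd1⟩ := h2
    rw [List.mem_toFinset, List.mem_map]
    refine ⟨d, hd, hι ?_⟩
    rw [hval d hd, hd1, K.den_one, map_one]
  · intro a ha b hb
    rw [List.mem_toFinset, List.mem_map] at ha hb ⊢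
    obtain ⟨d, hd, rfl⟩ := ha
    obtain ⟨d', hd', rfl⟩ := hb
    have := h3 d.1 (List.mem_map.2 ⟨d, hd, rfl⟩) d'.1 (List.mem_map.2 ⟨d', hd', rfl⟩)
    rw [memB_iff, List.mem_map] at this
    obtain ⟨d'', hd'', hc⟩ := this
    refine ⟨d'', hd'', hι ?_⟩
    rw [hval d'' hd'', hc, K.den_mul, map_mul, hval d hd, hval d' hd']
  · intro a ha
    rw [List.mem_toFinset, List.mem_map] at ha
    obtain ⟨d, -, rfl⟩ := ha
    exact evalGL_mem H hH _
  · rw [List.toFinset_card_of_nodup, List.length_map]
    exact List.Nodup.map_on hinj (List.Nodup.of_map _ h4')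
  · intro a ha haF hne t ht x hx
    rw [List.mem_toFinset, List.mem_map] at haF
    obtain ⟨d, hd, rfl⟩ := haF
    have h5 := h1 d hd
    unfold entryOK at h5
    rw [Bool.and_eq_true, Bool.or_eq_true] at h5
    rcases h5.2 with h6 | h6
    · exfalso
      apply hne
      apply hι
      rw [hval d hd, Nat.eq_of_beq_eq_true h6, K.den_one, map_one]
    · split at h6
      · rename_i r hr
        have hrR : r ∈ R := List.mem_of_getElem? hr
        have h7 := Nat.eq_of_beq_eq_true h6
        have h8 := h0 r hrR
        unfold rootOK at h8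
        rw [Bool.and_eq_true, Bool.and_eq_true, List.all_eq_true] at h8
        obtain ⟨⟨h9, h10⟩, h11⟩ := h8
        have hrcode : r.1 = evalW K.mul K.one S r.2.1 := Nat.eq_of_beq_eq_true h9
        have hlen : T.length ≤ r.2.2.length := by
          have := beq_iff_eq.1 h10
          omega
        obtain ⟨cert, hcert⟩ := exists_zip_of_mem ht hlen
        have h12 := Nat.eq_of_beq_eq_true (h11 _ hcert)
        simp only at h12
        -- the root as a group element, inside the normal closure of `a`
        set e : ↥H := ⟨evalGL gen d.2.1, ha⟩ with he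
        set g := evalGL gen d.2.2.2.1 with hg
        have hgH : g ∈ H := evalGL_mem H hH _
        set ρ := evalGL gen r.2.1 with hρ
        have hρH : ρ ∈ H := evalGL_mem H hH _
        have hρval : ι ρ = K.den r.1 := by rw [hρ, val_evalGL hgen, ← hrcode]
        have hrel : (evalGL gen d.2.1) ^ d.2.2.1 = g * ρ * g⁻¹ := by
          apply hι
          rw [val_pow (hval d hd), h7, K.den_mul, K.den_mul, map_mul, map_mul,
            ← val_evalGL hgen, ← val_evalGL hgen, evalGL_invW hinv, hρval]
        have hρNC : InNC H e ρ := by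
          have h13 : ρ = g⁻¹ * (evalGL gen d.2.1) ^ d.2.2.1 * g⁻¹⁻¹ := by
            rw [hrel]; group
          rw [h13]
          exact ((InNC.self H e).pow _).conj (H.inv_mem hgH)
        -- the target is a product of conjugates of the root
        have hx' : x = certGL gen ρ cert := by
          apply hι
          rw [hx, val_certGL hgen hinv hρval, h12]
        rw [hx']
        obtain ⟨hρ1, hρ2⟩ := hρNC
        have h14 := inNC_certGL H hH ⟨ρ, hρ1⟩ cert
        obtain ⟨h15, h16⟩ := h14
        refine ⟨h15, ?_⟩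
        have hle : Subgroup.normalClosure ({(⟨ρ, hρ1⟩ : ↥H)} : Set ↥H) ≤
            Subgroup.normalClosure ({e} : Set ↥H) := by
          apply Subgroup.normalClosure_le_normal
          rw [Set.singleton_subset_iff]
          exact hρ2
        exact hle h16
      · exact absurd h6 (by simp)

/-- if all generators of `J` lie in the normal closure of `e`, it is everything -/
theorem normalClosure_eq_top_of_set {J : Subgroup Γ} {e : ↥J} {A : Set Γ}
    (hJ : J = Subgroup.closure A) (hA : ∀ a ∈ A, InNC J e a) :
    Subgroup.normalClosure ({e} : Set ↥J) = ⊤ := by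
  subst hJ
  rw [eq_top_iff]
  have htop : Subgroup.closure (((↑) : ↥(Subgroup.closure A) → Γ) ⁻¹' A) = ⊤ :=
    Subgroup.closure_closure_coe_preimage
  rw [← htop, Subgroup.closure_le]
  intro z hz
  obtain ⟨h1, h2⟩ := hA z.1 hz
  exact h2

end gl

end Cfsg.Agent.Lib.Helper6.Cod
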