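import Cfsg.Agent.Lib.Helper6.CodGroup

/-! # Lists of words closed under multiplication: subgroups of a generated subgroup -/

set_option autoImplicit false

namespace Cfsg.Agent.Lib.Helper6.Cod

open Cfsg.Agent.Lib.Helper6.SylowSimple

/-- the test of a list of elements, given by words in the letters `LQ`, closed under
multiplication -/
def subOK (mul : ℕ → ℕ → ℕ) (one : ℕ) (S LQ : List ℕ) (D : List (ℕ × List ℕ)) : Bool :=
  wordsOK mul one S LQ D && memB one (D.map fun d => d.1) &&
    (D.map fun d => d.1).all fun a => (D.map fun d => d.1).all fun b =>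
      memB (mul a b) (D.map fun d => d.1)

variable {M : Type*} [Monoid M] {K : Coding M} {Γ : Type*} [Group Γ] {ι : Γ →* M}
  {H : Subgroup Γ}

/-- the order of the listed subgroup divides the order of the subgroup generated by the
letters -/
theorem subOK_dvd [Finite Γ] (hι : Function.Injective ι) (s : Sys K ι H) (LQ : List ℕ)
    (D : List (ℕ × List ℕ)) (hD : subOK K.mul K.one s.codes LQ D = true) :
    D.length ∣ Nat.card (lettersClosure s LQ) := by
  classical
  unfold subOK at hD
  rw [Bool.and_eq_true, Bool.and_eq_true] at hD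
  obtain ⟨⟨hW, h1⟩, hcl⟩ := hD
  have hcode := wordsOK_code hW
  unfold wordsOK at hW
  rw [Bool.and_eq_true, List.all_eq_true] at hW
  obtain ⟨hD1, hD2⟩ := hW
  have hnd := nodupB_nodup hD2
  have hmemQ : ∀ d ∈ D, evalGL s.gen d.2 ∈ lettersClosure s LQ := by
    intro d hd
    have := hD1 d hd
    rw [Bool.and_eq_true] at this
    exact evalGL_mem_lettersClosure s LQ _ this.2
  have hval : ∀ d ∈ D, ι (evalGL s.gen d.2) = K.den d.1 := by
    intro d hd
    rw [val_evalGL s.hgen, ← hcode d hd]
  have hinj : ∀ d ∈ D, ∀ d' ∈ D, evalGL s.gen d.2 = evalGL s.gen d'.2 → d = d' := by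
    intro d hd d' hd' h
    have hc : d.1 = d'.1 := by
      apply K.den_inj
      · rw [hcode d hd]; exact canon_evalW K _ _
      · rw [hcode d' hd']; exact canon_evalW K _ _
      · rw [← hval d hd, ← hval d' hd', h]
    exact List.inj_on_of_nodup_map hnd hd hd' hc
  set Fs : Finset Γ := (D.map fun d => evalGL s.gen d.2).toFinset with hF
  have hFcard : Fs.card = D.length := by
    rw [hF, List.toFinset_card_of_nodup, List.length_map]
    exact List.Nodup.map_on hinj (List.Nodup.of_map _ hnd)
  have hone : (1 : Γ) ∈ Fs := by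
    rw [memB_iff, List.mem_map] at h1
    obtain ⟨d, hd, hd1⟩ := h1
    rw [hF, List.mem_toFinset, List.mem_map]
    refine ⟨d, hd, hι ?_⟩
    rw [hval d hd, hd1, K.den_one, map_one]
  have hmul : ∀ a ∈ Fs, ∀ b ∈ Fs, a * b ∈ Fs := by
    intro a ha b hb
    rw [hF, List.mem_toFinset, List.mem_map] at ha hb ⊢
    obtain ⟨d, hd, rfl⟩ := ha
    obtain ⟨d', hd', rfl⟩ := hb
    rw [List.all_eq_true] at hcl
    have h3 := hcl d.1 (List.mem_map.2 ⟨d, hd, rfl⟩)
    rw [List.all_eq_true] at h3
    have := h3 d'.1 (List.mem_map.2 ⟨d', hd', rfl⟩)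
    rw [memB_iff, List.mem_map] at this
    obtain ⟨d'', hd'', hc⟩ := this
    refine ⟨d'', hd'', hι ?_⟩
    rw [hval d'' hd'', hc, K.den_mul, map_mul, hval d hd, hval d' hd']
  have hsub : ∀ a ∈ Fs, a ∈ lettersClosure s LQ := by
    intro a ha
    rw [hF, List.mem_toFinset, List.mem_map] at ha
    obtain ⟨d, hd, rfl⟩ := ha
    exact hmemQ d hd
  rw [← hFcard]
  exact card_dvd_of_finset (lettersClosure s LQ) Fs hone hmul hsub

/-- the bound for the order of a subgroup generated by letters -/
theorem card_lettersClosure_le [Finite Γ] (hι : Function.Injective ι) (s : Sys K ι H)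
    (LQ : List ℕ) (Ls : List Level)
    (hchain : chainOK K.mul K.one (LQ.map fun i => s.codes.getD i K.one) Ls = true) :
    Nat.card (lettersClosure s LQ) ≤ (Ls.map fun L => L.U.length).prod := by
  classical
  apply card_le_of_chain K ι hι _ hchain
  intro g hg
  refine mem_Nmon_of_mem_closure K ι ?_ hg
  rintro t ⟨i, hi, rfl⟩
  rw [s.hgen]
  exact den_mem_Nmon K (List.mem_map.2 ⟨i, hi, rfl⟩)

end Cfsg.Agent.Lib.Helper6.Cod
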