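import Cfsg.Agent.Lib.Helper6.CodCert

/-! # Systems of letters: defined letters, exact orders of generated subgroups, cores -/

set_option autoImplicit false

namespace Cfsg.Agent.Lib.Helper6.Cod

open Cfsg.Agent.Lib.Helper6.SylowSimple

/-- extension of a list of codes by defined letters (each followed by its inverse) -/
def extCodes (mul : ℕ → ℕ → ℕ) (one : ℕ) : List ℕ → List (List ℕ) → List ℕ
  | cs, [] => cs
  | cs, w :: ws => extCodes mul one (cs ++ [evalW mul one cs w, evalW mul one cs (invW w)]) ws

theorem invL_invL (n : ℕ) : invL (invL n) = n := by
  unfold invL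
  split_ifs <;> omega

section sys

variable {M : Type*} [Monoid M] (K : Coding M) {Γ : Type*} [Group Γ] (ι : Γ →* M)
  (H : Subgroup Γ)

/-- a system of letters: codes, group elements, compatible -/
structure Sys where
  /-- the codes of the letters -/
  codes : List ℕ
  /-- the group elements of the letters -/
  gen : ℕ → Γ
  hgen : ∀ i, ι (gen i) = K.den (codes.getD i K.one)
  hinv : ∀ i, gen (invL i) = (gen i)⁻¹
  hH : ∀ i, gen i ∈ H
  heven : codes.length % 2 = 0

variable {K ι H}

/-- adjoin a letter defined by a word, and its inverse -/
def Sys.extend (s : Sys K ι H) (w : List ℕ) : Sys K ι H where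
  codes := s.codes ++ [evalW K.mul K.one s.codes w, evalW K.mul K.one s.codes (invW w)]
  gen i := if i = s.codes.length then evalGL s.gen w
    else if i = s.codes.length + 1 then (evalGL s.gen w)⁻¹ else s.gen i
  hgen := by
    intro i
    by_cases h1 : i = s.codes.length
    · subst h1
      rw [if_pos rfl, List.getD_append_right _ _ _ _ (le_refl _), Nat.sub_self]
      exact val_evalGL s.hgen w
    · rw [if_neg h1]
      by_cases h2 : i = s.codes.length + 1
      · subst h2
        rw [if_pos rfl, List.getD_append_right _ _ _ _ (by omega)]
        have : s.codes.length + 1 - s.codes.length = 1 := by omega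
        rw [this, ← evalGL_invW s.hinv]
        exact val_evalGL s.hgen _
      · rw [if_neg h2]
        by_cases h3 : i < s.codes.length
        · rw [List.getD_append _ _ _ _ h3]
          exact s.hgen i
        · have h4 := s.hgen i
          rw [List.getD_eq_default _ _ (by omega)] at h4
          rw [h4, List.getD_eq_default]
          rw [List.length_append]
          simp only [List.length_cons, List.length_nil]
          omega
  hinv := by
    intro i
    have he := s.heven
    by_cases h1 : i = s.codes.length
    · subst h1
      have : invL s.codes.length = s.codes.length + 1 := by unfold invL; rw [if_pos he]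
      rw [this, if_neg (by omega), if_pos rfl, if_pos rfl]
    · by_cases h2 : i = s.codes.length + 1
      · subst h2
        have : invL (s.codes.length + 1) = s.codes.length := by
          unfold invL; rw [if_neg (by omega)]; omega
        rw [this, if_pos rfl, if_neg (by omega), if_pos rfl, inv_inv]
      · have h3 : invL i ≠ s.codes.length := by unfold invL; split_ifs <;> omega
        have h4 : invL i ≠ s.codes.length + 1 := by unfold invL; split_ifs <;> omega
        rw [if_neg h3, if_neg h4, if_neg h1, if_neg h2]
        exact s.hinv i
  hH := by
    intro i
    split_ifs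
    · exact evalGL_mem H s.hH w
    · exact H.inv_mem (evalGL_mem H s.hH w)
    · exact s.hH i
  heven := by
    rw [List.length_append]
    simp only [List.length_cons, List.length_nil]
    have := s.heven
    omega

/-- adjoin several defined letters -/
def Sys.extendAll (s : Sys K ι H) : List (List ℕ) → Sys K ι H
  | [] => s
  | w :: ws => (s.extend w).extendAll ws

theorem Sys.codes_extendAll (s : Sys K ι H) (ws : List (List ℕ)) :
    (s.extendAll ws).codes = extCodes K.mul K.one s.codes ws := by
  induction ws generalizing s with
  | nil => rfl
  | cons w ws ih =>
    show ((s.extend w).extendAll ws).codes = _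
    rw [ih]
    rfl

/-- the system of two generators and their inverses -/
def Sys.base2 (a b : Γ) (ca cai cb cbi : ℕ) (ha : ι a = K.den ca) (hai : ι a⁻¹ = K.den cai)
    (hb : ι b = K.den cb) (hbi : ι b⁻¹ = K.den cbi) :
    Sys K ι (Subgroup.closure ({a, b} : Set Γ)) where
  codes := [ca, cai, cb, cbi]
  gen := fun i => match i with
    | 0 => a
    | 1 => a⁻¹
    | 2 => b
    | 3 => b⁻¹
    | _ => 1
  hgen := by
    intro i
    match i with
    | 0 => exact ha
    | 1 => exact hai
    | 2 => exact hb
    | 3 => exact hbi
    | n + 4 =>
      show ι 1 = _
      rw [List.getD_eq_default _ _ (by simp), K.den_one, map_one]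
  hinv := by
    intro i
    match i with
    | 0 => rfl
    | 1 => exact (inv_inv _).symm
    | 2 => rfl
    | 3 => exact (inv_inv _).symm
    | n + 4 =>
      have : invL (n + 4) = (invL n) + 4 := by unfold invL; split_ifs <;> omega
      rw [this]
      exact inv_one.symm
  hH := by
    intro i
    have hA : a ∈ Subgroup.closure ({a, b} : Set Γ) := Subgroup.subset_closure (by simp)
    have hB : b ∈ Subgroup.closure ({a, b} : Set Γ) := Subgroup.subset_closure (by simp)
    match i with
    | 0 => exact hA
    | 1 => exact Subgroup.inv_mem _ hA
    | 2 => exact hB
    | 3 => exact Subgroup.inv_mem _ hB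
    | n + 4 => exact Subgroup.one_mem _
  heven := by simp

end sys

end Cfsg.Agent.Lib.Helper6.Cod
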