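import Mathlib

/-! # The commutator subgroup lies in a subgroup that is normalized by an element `g0`, if the
group is generated by elements of the subgroup times powers of `g0` -/

set_option autoImplicit false

namespace Cfsg.Agent.Lib.Helper6.CommCyc

open scoped commutatorElement

variable {Γ : Type*} [Group Γ]

theorem conj_mem_of_closure (T : Set Γ) (N : Subgroup Γ) (hN : N = Subgroup.closure T) (g : Γ)
    (h : ∀ s ∈ T, g * s * g⁻¹ ∈ N) : ∀ n ∈ N, g * n * g⁻¹ ∈ N := by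
  intro n hn
  rw [hN] at hn
  induction hn using Subgroup.closure_induction with
  | mem s hs => exact h s hs
  | one =>
    have : g * 1 * g⁻¹ = 1 := by group
    rw [this]
    exact Subgroup.one_mem _
  | mul a b _ _ ha hb =>
    have : g * (a * b) * g⁻¹ = (g * a * g⁻¹) * (g * b * g⁻¹) := by group
    rw [this]
    exact Subgroup.mul_mem _ ha hb
  | inv a _ ha =>
    have : g * a⁻¹ * g⁻¹ = (g * a * g⁻¹)⁻¹ := by group
    rw [this]
    exact Subgroup.inv_mem _ ha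

theorem zpow_conj_mem (N : Subgroup Γ) (g0 : Γ) (hconj : ∀ n ∈ N, g0 * n * g0⁻¹ ∈ N)
    (hconj' : ∀ n ∈ N, g0⁻¹ * n * g0 ∈ N) :
    ∀ k : ℤ, ∀ n ∈ N, g0 ^ k * n * g0 ^ (-k) ∈ N := by
  intro k
  induction k using Int.induction_on with
  | zero =>
    intro n hn
    simpa using hn
  | succ i ih =>
    intro n hn
    have h1 := hconj _ (ih n hn)
    have : g0 ^ ((i : ℤ) + 1) * n * g0 ^ (-((i : ℤ) + 1)) =
        g0 * (g0 ^ (i : ℤ) * n * g0 ^ (-(i : ℤ))) * g0⁻¹ := by group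
    rw [this]
    exact h1
  | pred i ih =>
    intro n hn
    have h1 := hconj' _ (ih n hn)
    have : g0 ^ (-(i : ℤ) - 1) * n * g0 ^ (-(-(i : ℤ) - 1)) =
        g0⁻¹ * (g0 ^ (-(i : ℤ)) * n * g0 ^ (-(-(i : ℤ)))) * g0 := by group
    rw [this]
    exact h1

/-- the elements `n * g0 ^ k` with `n` in `N` -/
def prodSet (N : Subgroup Γ) (g0 : Γ) : Set Γ := {x | ∃ n ∈ N, ∃ k : ℤ, x = n * g0 ^ k}

theorem closure_le_prodSet (N : Subgroup Γ) (g0 : Γ) (hconj : ∀ n ∈ N, g0 * n * g0⁻¹ ∈ N)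
    (hconj' : ∀ n ∈ N, g0⁻¹ * n * g0 ∈ N) (T : Set Γ) (hT : T ⊆ prodSet N g0) :
    ∀ x ∈ Subgroup.closure T, x ∈ prodSet N g0 := by
  have hz := zpow_conj_mem N g0 hconj hconj'
  intro x hx
  induction hx using Subgroup.closure_induction with
  | mem s hs => exact hT hs
  | one => exact ⟨1, Subgroup.one_mem _, 0, by simp⟩
  | mul a b _ _ ha hb =>
    obtain ⟨n, hn, k, rfl⟩ := ha
    obtain ⟨m, hm, l, rfl⟩ := hb
    refine ⟨n * (g0 ^ k * m * g0 ^ (-k)), Subgroup.mul_mem _ hn (hz k m hm), k + l, ?_⟩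
    group
  | inv a _ ha =>
    obtain ⟨n, hn, k, rfl⟩ := ha
    refine ⟨g0 ^ (-k) * n⁻¹ * g0 ^ (-(-k)), hz (-k) n⁻¹ (Subgroup.inv_mem _ hn), -k, ?_⟩
    group

/-- **the commutator subgroup lies in `N`** -/
theorem commutator_le (N G : Subgroup Γ) (g0 : Γ) (T : Set Γ) (hG : G = Subgroup.closure T)
    (hconj : ∀ n ∈ N, g0 * n * g0⁻¹ ∈ N) (hconj' : ∀ n ∈ N, g0⁻¹ * n * g0 ∈ N)
    (hT : T ⊆ prodSet N g0) : ⁅G, G⁆ ≤ N := by
  have hz := zpow_conj_mem N g0 hconj hconj'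
  have hS := closure_le_prodSet N g0 hconj hconj' T hT
  rw [Subgroup.commutator_le]
  intro x hx y hy
  rw [hG] at hx hy
  obtain ⟨n, hn, k, rfl⟩ := hS x hx
  obtain ⟨m, hm, l, rfl⟩ := hS y hy
  have : ⁅n * g0 ^ k, m * g0 ^ l⁆ =
      n * (g0 ^ k * m * g0 ^ (-k)) * (g0 ^ l * n⁻¹ * g0 ^ (-l)) * m⁻¹ := by
    rw [commutatorElement_def]
    group
  rw [this]
  exact Subgroup.mul_mem _ (Subgroup.mul_mem _ (Subgroup.mul_mem _ hn (hz k m hm))
    (hz l n⁻¹ (Subgroup.inv_mem _ hn))) (Subgroup.inv_mem _ hm)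

end Cfsg.Agent.Lib.Helper6.CommCyc
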