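import Mathlib

/-!
# Coset tables for Coxeter groups over a maximal parabolic subgroup

`M` is a Coxeter matrix on `Fin (n + 1)`, `M'` its restriction to the first `n` generators.
A coset table `T` (next-coset function, labels in the parabolic subgroup, a spanning tree given by
words `tau`) satisfying a list of decidable conditions proves
`Nat.card M.Group = Nat.card M'.Group * card X`, and solves the word problem of `M.Group` in terms
of that of `M'.Group`.
-/

set_option autoImplicit false
set_option linter.unusedSectionVars false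

namespace Cfsg.Agent.Lib.Helper6.CoxTable

open CoxeterSystem

/-- the relator word `(u b)^m` as a list -/
def relW {B : Type} (u b : B) : ℕ → List B
  | 0 => []
  | m + 1 => u :: b :: relW u b m

theorem wordProd_relW {B : Type} {W : Type} [Group W] {M : CoxeterMatrix B}
    (cs : CoxeterSystem M W) (u b : B) (m : ℕ) :
    cs.wordProd (relW u b m) = (cs.simple u * cs.simple b) ^ m := by
  induction m with
  | zero => simp [relW]
  | succ m ih => rw [relW, wordProd_cons, wordProd_cons, ih, pow_succ', mul_assoc]

/-- `a (b a)^k b = (a b)^(k+1)` -/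
theorem mul_pow_mul_eq {G : Type} [Group G] (a b : G) (k : ℕ) :
    a * (b * a) ^ k * b = (a * b) ^ (k + 1) := by
  induction k with
  | zero => simp
  | succ k ih =>
    rw [pow_succ (b * a), pow_succ (a * b) (k + 1), ← ih]
    group

/-- the table data -/
structure Table (n : ℕ) (X : Type) where
  x0 : X
  nxt : X → Fin (n + 1) → X
  lab : X → Fin (n + 1) → Option (Fin n)
  tau : X → List (Fin (n + 1))
  gen : X → Fin (n + 1)

namespace Table

variable {n : ℕ} {X : Type} (T : Table n X)

/-- final coset of a scan -/
def scanX : X → List (Fin (n + 1)) → X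
  | x, [] => x
  | x, b :: ω => scanX (T.nxt x b) ω

/-- labels collected by a scan -/
def scanL : X → List (Fin (n + 1)) → List (Fin n)
  | _, [] => []
  | x, b :: ω => (T.lab x b).toList ++ scanL (T.nxt x b) ω

theorem scanX_append (x : X) (ω ω' : List (Fin (n + 1))) :
    T.scanX x (ω ++ ω') = T.scanX (T.scanX x ω) ω' := by
  induction ω generalizing x with
  | nil => rfl
  | cons b ω ih => exact ih _

theorem scanL_append (x : X) (ω ω' : List (Fin (n + 1))) :
    T.scanL x (ω ++ ω') = T.scanL x ω ++ T.scanL (T.scanX x ω) ω' := by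
  induction ω generalizing x with
  | nil => rfl
  | cons b ω ih =>
    show _ ++ T.scanL _ (ω ++ ω') = (_ ++ T.scanL _ ω) ++ _
    rw [ih, List.append_assoc]; rfl

/-- the level of a coset -/
def lvl (x : X) : ℕ := (T.tau x).length

/-- the table is symmetric -/
def Invol : Prop := ∀ x b, T.nxt (T.nxt x b) b = x ∧ T.lab (T.nxt x b) b = T.lab x b

/-- the base coset -/
def Base : Prop := (∀ j : Fin n, T.nxt T.x0 j.castSucc = T.x0 ∧ T.lab T.x0 j.castSucc = some j) ∧
  T.nxt T.x0 (Fin.last n) ≠ T.x0 ∧ T.tau T.x0 = []

/-- the spanning tree -/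
def Tree : Prop := ∀ x, x ≠ T.x0 →
  T.tau x = T.tau (T.nxt x (T.gen x)) ++ [T.gen x] ∧ T.lab x (T.gen x) = none

/-- label words that are trivially trivial -/
def trivLabel (M' : CoxeterMatrix (Fin n)) : List (Fin n) → Bool
  | [] => true
  | [_] => false
  | j :: k :: l => decide (j :: k :: l = relW j k (M' j k))

/-- all relators close up at all cosets -/
def Closed (M : CoxeterMatrix (Fin (n + 1))) (M' : CoxeterMatrix (Fin n)) : Prop :=
  ∀ x b c, b < c → T.scanX x (relW c b (M b c)) = x ∧
    trivLabel M' (T.scanL x (relW c b (M b c))) = true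

/-- the steps of a scan are below level of `x` or the tree edge of `x` -/
def stepsOK [DecidableEq X] (x : X) : X → List (Fin (n + 1)) → Bool
  | _, [] => true
  | z, c :: ω =>
    ((decide (T.lvl z < T.lvl x) && decide (T.lvl (T.nxt z c) < T.lvl x)) ||
      (decide (c = T.gen x) && (decide (z = x) || decide (T.nxt z c = x)))) &&
    stepsOK x (T.nxt z c) ω

/-- every non-tree entry is deducible from a relator scan through lower entries -/
def Deduce [DecidableEq X] (M : CoxeterMatrix (Fin (n + 1))) : Prop :=
  ∀ x, x ≠ T.x0 → ∀ b, b ≠ T.gen x → T.lvl (T.nxt x b) ≤ T.lvl x →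
    M (T.gen x) b ≠ 0 ∧
    T.scanX x (T.gen x :: relW b (T.gen x) (M (T.gen x) b - 1)) = T.nxt x b ∧
    T.scanL x (T.gen x :: relW b (T.gen x) (M (T.gen x) b - 1)) = (T.lab x b).toList ∧
    T.stepsOK x x (T.gen x :: relW b (T.gen x) (M (T.gen x) b - 1)) = true

instance [Fintype X] [DecidableEq X] : Decidable T.Invol := by unfold Invol; infer_instance
instance [DecidableEq X] : Decidable T.Base := by unfold Base; infer_instance
instance [Fintype X] [DecidableEq X] : Decidable T.Tree := by unfold Tree; infer_instance
instance [Fintype X] [DecidableEq X] (M : CoxeterMatrix (Fin (n + 1))) (M' : CoxeterMatrix (Fin n)) :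
    Decidable (T.Closed M M') := by unfold Closed; infer_instance
instance [Fintype X] [DecidableEq X] (M : CoxeterMatrix (Fin (n + 1))) :
    Decidable (T.Deduce M) := by unfold Deduce; infer_instance

end Table

/-- the Coxeter system of a Coxeter matrix -/
abbrev csM {B : Type} (M : CoxeterMatrix B) : CoxeterSystem M M.Group := M.toCoxeterSystem

section Main

variable {n : ℕ} {X : Type} [Fintype X] [DecidableEq X] (T : Table n X)
  (M : CoxeterMatrix (Fin (n + 1))) (M' : CoxeterMatrix (Fin n))
  (hres : ∀ i j : Fin n, M' i j = M i.castSucc j.castSucc)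

theorem liftable_incl (hres : ∀ i j : Fin n, M' i j = M i.castSucc j.castSucc) :
    M'.IsLiftable (fun j : Fin n => (csM M).simple j.castSucc) := by
  intro i j
  rw [hres]
  exact (csM M).simple_mul_simple_pow _ _

/-- the inclusion of the parabolic subgroup -/
noncomputable def incl (hres : ∀ i j : Fin n, M' i j = M i.castSucc j.castSucc) :
    M'.Group →* M.Group :=
  (csM M').lift ⟨_, liftable_incl M M' hres⟩

theorem incl_simple (j : Fin n) : incl M M' hres ((csM M').simple j) = (csM M).simple j.castSucc :=
  (csM M').lift_apply_simple (liftable_incl M M' hres) j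

theorem wordProd_optionToList_sq (l : Option (Fin n)) :
    (csM M').wordProd l.toList * (csM M').wordProd l.toList = 1 := by
  cases l with
  | none =>
    show (csM M').wordProd [] * (csM M').wordProd [] = 1
    rw [wordProd_nil, one_mul]
  | some j =>
    show (csM M').wordProd [j] * (csM M').wordProd [j] = 1
    rw [wordProd_singleton, simple_mul_simple_self]

theorem incl_wordProd_optionToList (l : Option (Fin n)) :
    incl M M' hres ((csM M').wordProd l.toList) * incl M M' hres ((csM M').wordProd l.toList) = 1 := by
  rw [← map_mul, wordProd_optionToList_sq, map_one]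

/-- the coset representative -/
noncomputable def g (x : X) : M.Group := (csM M).wordProd (T.tau x)

/-- validity of a table entry -/
def Valid (x : X) (b : Fin (n + 1)) : Prop :=
  g T M x * (csM M).simple b =
    incl M M' hres ((csM M').wordProd (T.lab x b).toList) * g T M (T.nxt x b)

theorem Valid.symm (hI : T.Invol) {x : X} {b : Fin (n + 1)} (h : Valid T M M' hres x b) :
    Valid T M M' hres (T.nxt x b) b := by
  unfold Valid at h ⊢
  rw [(hI x b).1, (hI x b).2]
  have h2 := incl_wordProd_optionToList M M' hres (T.lab x b)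
  set a := incl M M' hres ((csM M').wordProd (T.lab x b).toList) with ha
  have h3 : g T M x = a * g T M (T.nxt x b) * (csM M).simple b := by
    rw [← h, simple_mul_simple_cancel_right]
  rw [h3, ← mul_assoc, ← mul_assoc, h2, one_mul]

/-- validity of all the steps of a scan -/
def StepsValid : X → List (Fin (n + 1)) → Prop
  | _, [] => True
  | x, b :: ω => Valid T M M' hres x b ∧ StepsValid (T.nxt x b) ω

theorem scan_valid (x : X) (ω : List (Fin (n + 1))) (h : StepsValid T M M' hres x ω) :
    g T M x * (csM M).wordProd ω =
      incl M M' hres ((csM M').wordProd (T.scanL x ω)) * g T M (T.scanX x ω) := by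
  induction ω generalizing x with
  | nil => simp [Table.scanL, Table.scanX]
  | cons b ω ih =>
    obtain ⟨h1, h2⟩ := h
    rw [wordProd_cons, ← mul_assoc, h1, mul_assoc, ih _ h2]
    show _ = incl M M' hres ((csM M').wordProd (_ ++ _)) * _
    rw [wordProd_append, map_mul, mul_assoc]
    rfl

theorem lvl_eq_zero_iff (hB : T.Base) (hT : T.Tree) (x : X) : T.lvl x = 0 ↔ x = T.x0 := by
  constructor
  · intro h
    by_contra hx
    have := (hT x hx).1
    unfold Table.lvl at h
    rw [this] at h
    simp at h
  · rintro rfl
    unfold Table.lvl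
    rw [hB.2.2]; rfl

theorem valid_tree (hT : T.Tree) (x : X) (hx : x ≠ T.x0) : Valid T M M' hres x (T.gen x) := by
  unfold Valid
  rw [(hT x hx).2]
  unfold g
  rw [(hT x hx).1, wordProd_append, wordProd_singleton, simple_mul_simple_cancel_right]
  show _ = incl M M' hres ((csM M').wordProd []) * _
  rw [wordProd_nil, map_one, one_mul]

theorem stepsValid_of_stepsOK (hI : T.Invol) (x : X) (hx : x ≠ T.x0) (hT : T.Tree)
    (IH : ∀ z c, T.lvl z < T.lvl x → T.lvl (T.nxt z c) < T.lvl x → Valid T M M' hres z c)
    (z : X) (ω : List (Fin (n + 1))) (h : T.stepsOK x z ω = true) :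
    StepsValid T M M' hres z ω := by
  have htree : Valid T M M' hres x (T.gen x) := valid_tree T M M' hres hT x hx
  induction ω generalizing z with
  | nil => trivial
  | cons c ω ih =>
    unfold Table.stepsOK at h
    rw [Bool.and_eq_true] at h
    refine ⟨?_, ih _ h.2⟩
    have h1 := h.1
    rw [Bool.or_eq_true] at h1
    rcases h1 with h1 | h1
    · rw [Bool.and_eq_true, decide_eq_true_eq, decide_eq_true_eq] at h1
      exact IH z c h1.1 h1.2
    · rw [Bool.and_eq_true, decide_eq_true_eq, Bool.or_eq_true, decide_eq_true_eq,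
        decide_eq_true_eq] at h1
      obtain ⟨hc, h2 | h2⟩ := h1
      · rw [h2, hc]; exact htree
      · have := Valid.symm T M M' hres hI htree
        have e : z = T.nxt x (T.gen x) := by
          have := (hI z c).1
          rw [h2, hc] at this
          exact this.symm
        rw [e, hc]; exact this

theorem valid_top (hI : T.Invol) (hB : T.Base) (hT : T.Tree) (hD : T.Deduce M)
    (x : X) (b : Fin (n + 1)) (hle : T.lvl (T.nxt x b) ≤ T.lvl x)
    (IH : ∀ z c, T.lvl z < T.lvl x → T.lvl (T.nxt z c) < T.lvl x → Valid T M M' hres z c) :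
    Valid T M M' hres x b := by
  by_cases hx : x = T.x0
  · subst hx
    have h0 : T.lvl T.x0 = 0 := (lvl_eq_zero_iff T hB hT _).2 rfl
    rw [h0, Nat.le_zero, lvl_eq_zero_iff T hB hT] at hle
    have hb : b ≠ Fin.last n := by
      rintro rfl; exact hB.2.1 hle
    obtain ⟨j, rfl⟩ := Fin.exists_castSucc_eq.2 hb
    unfold Valid g
    rw [(hB.1 j).1, (hB.1 j).2, hB.2.2, wordProd_nil, one_mul, mul_one]
    show _ = incl M M' hres ((csM M').wordProd [j])
    rw [wordProd_singleton, incl_simple]
  · by_cases hb : b = T.gen x
    · subst hb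
      exact valid_tree T M M' hres hT x hx
    · obtain ⟨hm, h1, h2, h3⟩ := hD x hx b hb hle
      have hsv := stepsValid_of_stepsOK T M M' hres hI x hx hT IH x _ h3
      have := scan_valid T M M' hres x _ hsv
      rw [h1, h2] at this
      unfold Valid
      rw [← this]
      congr 1
      -- the word is `s_b`
      rw [wordProd_cons, wordProd_relW]
      have hpow := (csM M).simple_mul_simple_pow (T.gen x) b
      obtain ⟨k, hk⟩ : ∃ k, M (T.gen x) b = k + 1 := Nat.exists_eq_succ_of_ne_zero hm
      rw [hk] at hpow ⊢
      rw [Nat.add_sub_cancel]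
      rw [← mul_pow_mul_eq] at hpow
      have := mul_eq_one_iff_eq_inv.1 hpow
      rw [this, inv_simple]

theorem valid_all (hI : T.Invol) (hB : T.Base) (hT : T.Tree) (hD : T.Deduce M) :
    ∀ (l : ℕ) (x : X) (b : Fin (n + 1)), T.lvl x ≤ l → T.lvl (T.nxt x b) ≤ l →
      Valid T M M' hres x b := by
  intro l
  induction l using Nat.strong_induction_on with
  | _ l ih =>
    have key : ∀ (x : X) (b : Fin (n + 1)), T.lvl x ≤ l → T.lvl (T.nxt x b) ≤ T.lvl x →
        Valid T M M' hres x b := by
      intro x b h1 h2
      apply valid_top T M M' hres hI hB hT hD x b h2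
      intro z c hz hc
      exact ih (T.lvl x - 1) (by omega) z c (by omega) (by omega)
    intro x b h1 h2
    by_cases hle : T.lvl (T.nxt x b) ≤ T.lvl x
    · exact key x b h1 hle
    · have := key (T.nxt x b) b h2 (by rw [(hI x b).1]; omega)
      have := Valid.symm T M M' hres hI this
      rwa [(hI x b).1] at this

theorem valid (hI : T.Invol) (hB : T.Base) (hT : T.Tree) (hD : T.Deduce M)
    (x : X) (b : Fin (n + 1)) : Valid T M M' hres x b :=
  valid_all T M M' hres hI hB hT hD (max (T.lvl x) (T.lvl (T.nxt x b))) x b
    (le_max_left _ _) (le_max_right _ _)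

/-- the map from pairs to the group -/
noncomputable def Phi (p : M'.Group × X) : M.Group := incl M M' hres p.1 * g T M p.2

theorem Phi_surjective (hI : T.Invol) (hB : T.Base) (hT : T.Tree) (hD : T.Deduce M) :
    Function.Surjective (Phi T M M' hres) := by
  intro w
  induction w using (csM M).simple_induction_right with
  | one =>
    refine ⟨(1, T.x0), ?_⟩
    unfold Phi g
    rw [hB.2.2]; simp
  | mul_simple_right w b ih =>
    obtain ⟨⟨h, x⟩, rfl⟩ := ih
    refine ⟨(h * (csM M').wordProd (T.lab x b).toList, T.nxt x b), ?_⟩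
    unfold Phi
    have := valid T M M' hres hI hB hT hD x b
    unfold Valid at this
    rw [map_mul, mul_assoc, mul_assoc, this]

/-! ### The action on pairs -/

/-- the action of a generator on pairs -/
noncomputable def act (b : Fin (n + 1)) (p : M'.Group × X) : M'.Group × X :=
  (p.1 * (csM M').wordProd (T.lab p.2 b).toList, T.nxt p.2 b)

theorem act_invol (hI : T.Invol) (b : Fin (n + 1)) : Function.Involutive (act T M' b) := by
  rintro ⟨h, x⟩
  unfold act
  dsimp only
  rw [(hI x b).1, (hI x b).2, mul_assoc, wordProd_optionToList_sq, mul_one]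

/-- the action of a generator as a permutation -/
noncomputable def actPerm (hI : T.Invol) (b : Fin (n + 1)) : Equiv.Perm (M'.Group × X) :=
  (act_invol T M' hI b).toPerm

theorem actPerm_apply (hI : T.Invol) (b : Fin (n + 1)) (p : M'.Group × X) :
    actPerm T M' hI b p = act T M' b p := rfl

theorem actPerm_mul_self (hI : T.Invol) (b : Fin (n + 1)) :
    actPerm T M' hI b * actPerm T M' hI b = 1 := by
  ext p : 1
  rw [Equiv.Perm.mul_apply, actPerm_apply, actPerm_apply, act_invol T M' hI b p]; rfl

/-- scanning a word from a pair -/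
noncomputable def scanP (p : M'.Group × X) (ω : List (Fin (n + 1))) : M'.Group × X :=
  (p.1 * (csM M').wordProd (T.scanL p.2 ω), T.scanX p.2 ω)

theorem scanP_nil (p : M'.Group × X) : scanP T M' p [] = p := by
  unfold scanP
  show (p.1 * (csM M').wordProd [], p.2) = p
  rw [wordProd_nil, mul_one]

theorem scanP_cons (p : M'.Group × X) (b : Fin (n + 1)) (ω : List (Fin (n + 1))) :
    scanP T M' p (b :: ω) = scanP T M' (act T M' b p) ω := by
  unfold scanP act
  show (p.1 * (csM M').wordProd (_ ++ _), _) = _
  rw [wordProd_append, mul_assoc]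
  rfl

theorem pow_apply_eq_scanP (hI : T.Invol) (b c : Fin (n + 1)) (m : ℕ) (p : M'.Group × X) :
    ((actPerm T M' hI b * actPerm T M' hI c) ^ m) p = scanP T M' p (relW c b m) := by
  induction m generalizing p with
  | zero => rw [pow_zero, relW, scanP_nil]; rfl
  | succ m ih =>
    rw [pow_succ, Equiv.Perm.mul_apply, ih, relW, scanP_cons, scanP_cons]
    rfl

theorem wordProd_of_trivLabel (l : List (Fin n)) (h : Table.trivLabel M' l = true) :
    (csM M').wordProd l = 1 := by
  match l, h with
  | [], _ => exact wordProd_nil _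
  | j :: k :: l, h =>
    unfold Table.trivLabel at h
    rw [decide_eq_true_eq] at h
    rw [h, wordProd_relW, simple_mul_simple_pow]

theorem liftable_act (hI : T.Invol) (hC : T.Closed M M') : M.IsLiftable (actPerm T M' hI) := by
  have key : ∀ b c, b < c → (actPerm T M' hI b * actPerm T M' hI c) ^ M b c = 1 := by
    intro b c hbc
    ext p : 1
    rw [pow_apply_eq_scanP]
    obtain ⟨h1, h2⟩ := hC p.2 b c hbc
    unfold scanP
    rw [h1, wordProd_of_trivLabel M' _ h2, mul_one]
    rfl
  intro b c
  rcases lt_trichotomy b c with h | h | h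
  · exact key b c h
  · subst h
    rw [M.diagonal, pow_one, actPerm_mul_self]
  · have := key c b h
    rw [M.symmetric c b] at this
    have e : actPerm T M' hI b * actPerm T M' hI c =
        (actPerm T M' hI c * actPerm T M' hI b)⁻¹ := by
      rw [mul_inv_rev, inv_eq_of_mul_eq_one_right (actPerm_mul_self T M' hI b),
        inv_eq_of_mul_eq_one_right (actPerm_mul_self T M' hI c)]
    rw [e, inv_pow, this, inv_one]

/-- the permutation representation on pairs -/
noncomputable def rho (hI : T.Invol) (hC : T.Closed M M') : M.Group →* Equiv.Perm (M'.Group × X) :=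
  (csM M).lift ⟨_, liftable_act T M M' hI hC⟩

theorem rho_simple (hI : T.Invol) (hC : T.Closed M M') (b : Fin (n + 1)) :
    rho T M M' hI hC ((csM M).simple b) = actPerm T M' hI b :=
  (csM M).lift_apply_simple (liftable_act T M M' hI hC) b

/-- the orbit map -/
noncomputable def Psi (hI : T.Invol) (hC : T.Closed M M') (w : M.Group) : M'.Group × X :=
  rho T M M' hI hC w (1, T.x0)

theorem act_mem_range_Psi (hI : T.Invol) (hC : T.Closed M M') (b : Fin (n + 1))
    (p : M'.Group × X) (hp : p ∈ Set.range (Psi T M M' hI hC)) :
    act T M' b p ∈ Set.range (Psi T M M' hI hC) := by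
  obtain ⟨w, rfl⟩ := hp
  refine ⟨(csM M).simple b * w, ?_⟩
  unfold Psi
  rw [map_mul, Equiv.Perm.mul_apply, rho_simple, actPerm_apply]

theorem Psi_surjective (hI : T.Invol) (hB : T.Base) (hT : T.Tree) (hC : T.Closed M M') :
    Function.Surjective (Psi T M M' hI hC) := by
  have h0 : ∀ h : M'.Group, (h, T.x0) ∈ Set.range (Psi T M M' hI hC) := by
    intro h
    induction h using (csM M').simple_induction_right with
    | one => exact ⟨1, by unfold Psi; rw [map_one]; rfl⟩
    | mul_simple_right h j ih =>
      have := act_mem_range_Psi T M M' hI hC j.castSucc _ ih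
      unfold act at this
      dsimp only at this
      rw [(hB.1 j).1, (hB.1 j).2] at this
      have e : (csM M').wordProd (some j).toList = (csM M').simple j := wordProd_singleton _ j
      rw [e] at this
      exact this
  have h1 : ∀ (l : ℕ) (x : X), T.lvl x = l → ∀ h : M'.Group,
      (h, x) ∈ Set.range (Psi T M M' hI hC) := by
    intro l
    induction l with
    | zero =>
      intro x hx h
      rw [(lvl_eq_zero_iff T hB hT x).1 hx]
      exact h0 h
    | succ l ih =>
      intro x hx h
      have hx0 : x ≠ T.x0 := by
        intro e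
        rw [(lvl_eq_zero_iff T hB hT x).2 e] at hx
        omega
      obtain ⟨ht1, ht2⟩ := hT x hx0
      have hl : T.lvl (T.nxt x (T.gen x)) = l := by
        unfold Table.lvl at hx ⊢
        rw [ht1, List.length_append] at hx
        simpa using hx
      have := act_mem_range_Psi T M M' hI hC (T.gen x) _ (ih _ hl h)
      unfold act at this
      dsimp only at this
      rw [(hI x _).1, (hI x _).2, ht2] at this
      have e : (csM M').wordProd (none : Option (Fin n)).toList = 1 := wordProd_nil _
      rw [e, mul_one] at this
      exact this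
  rintro ⟨h, x⟩
  exact h1 _ x rfl h

/-- the order formula -/
theorem card_eq (hres : ∀ i j : Fin n, M' i j = M i.castSucc j.castSucc)
    [Finite M'.Group] (hI : T.Invol) (hB : T.Base) (hT : T.Tree)
    (hC : T.Closed M M') (hD : T.Deduce M) :
    Finite M.Group ∧ Nat.card M.Group = Nat.card M'.Group * Fintype.card X := by
  have hfin : Finite M.Group := Finite.of_surjective _ (Phi_surjective T M M' hres hI hB hT hD)
  refine ⟨hfin, ?_⟩
  have h1 := Nat.card_le_card_of_surjective _ (Phi_surjective T M M' hres hI hB hT hD)
  have h2 := Nat.card_le_card_of_surjective _ (Psi_surjective T M M' hI hB hT hC)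
  rw [Nat.card_prod, Nat.card_eq_fintype_card (α := X)] at h1 h2
  omega

/-! ### The word problem -/

theorem scanP_append (p : M'.Group × X) (ω ω' : List (Fin (n + 1))) :
    scanP T M' p (ω ++ ω') = scanP T M' (scanP T M' p ω) ω' := by
  induction ω generalizing p with
  | nil => rw [scanP_nil]; rfl
  | cons b ω ih => rw [List.cons_append, scanP_cons, scanP_cons, ih]

theorem rho_wordProd (hI : T.Invol) (hC : T.Closed M M') (ω : List (Fin (n + 1)))
    (p : M'.Group × X) :
    rho T M M' hI hC ((csM M).wordProd ω) p = scanP T M' p ω.reverse := by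
  induction ω with
  | nil => rw [wordProd_nil, map_one, List.reverse_nil, scanP_nil]; rfl
  | cons b ω ih =>
    rw [wordProd_cons, map_mul, Equiv.Perm.mul_apply, ih, rho_simple, actPerm_apply,
      List.reverse_cons, scanP_append, scanP_cons, scanP_nil]

theorem Psi_injective (hres : ∀ i j : Fin n, M' i j = M i.castSucc j.castSucc)
    [Finite M'.Group] (hI : T.Invol) (hB : T.Base) (hT : T.Tree)
    (hC : T.Closed M M') (hD : T.Deduce M) : Function.Injective (Psi T M M' hI hC) := by
  obtain ⟨hfin, hcard⟩ := card_eq T M M' hres hI hB hT hC hD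
  have hs := Psi_surjective T M M' hI hB hT hC
  refine (hs.bijective_of_nat_card_le ?_).1
  rw [Nat.card_prod, Nat.card_eq_fintype_card (α := X), hcard]

/-- the word problem of `M.Group` reduces to that of `M'.Group` -/
theorem wordProd_eq_one_iff (hres : ∀ i j : Fin n, M' i j = M i.castSucc j.castSucc)
    [Finite M'.Group] (hI : T.Invol) (hB : T.Base) (hT : T.Tree)
    (hC : T.Closed M M') (hD : T.Deduce M) (ω : List (Fin (n + 1))) :
    (csM M).wordProd ω = 1 ↔
      T.scanX T.x0 ω = T.x0 ∧ (csM M').wordProd (T.scanL T.x0 ω) = 1 := by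
  have hinj := Psi_injective T M M' hres hI hB hT hC hD
  have e1 : (csM M).wordProd ω = 1 ↔ (csM M).wordProd ω.reverse = 1 := by
    rw [wordProd_reverse, inv_eq_one]
  have e2 : Psi T M M' hI hC ((csM M).wordProd ω.reverse) = scanP T M' (1, T.x0) ω := by
    unfold Psi
    rw [rho_wordProd, List.reverse_reverse]
  have e3 : Psi T M M' hI hC 1 = (1, T.x0) := by
    unfold Psi; rw [map_one]; rfl
  rw [e1, ← hinj.eq_iff, e2, e3]
  unfold scanP
  rw [Prod.mk.injEq, one_mul, and_comm]

end Main

/-! ### Restriction, solved groups, concrete tables -/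

/-- restriction of a Coxeter matrix to the first `n` generators -/
def restr {n : ℕ} (M : CoxeterMatrix (Fin (n + 1))) : CoxeterMatrix (Fin n) where
  M := Matrix.of fun i j => M i.castSucc j.castSucc
  isSymm := by
    ext i j
    exact M.symmetric _ _
  diagonal i := M.diagonal _
  off_diagonal i j h := M.off_diagonal _ _ (fun e => h (Fin.castSucc_injective _ e))

theorem restr_apply {n : ℕ} (M : CoxeterMatrix (Fin (n + 1))) (i j : Fin n) :
    restr M i j = M i.castSucc j.castSucc := rfl

/-- a Coxeter group with known order and solved word problem -/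
structure Solved {B : Type} (M : CoxeterMatrix B) (N : ℕ) where
  fin : Finite M.Group
  card : Nat.card M.Group = N
  triv : List B → Bool
  spec : ∀ ω, triv ω = true ↔ (csM M).wordProd ω = 1

/-- the trivial Coxeter group -/
def Solved.zero (M : CoxeterMatrix (Fin 0)) : Solved M 1 :=
  have h : ∀ w : M.Group, w = 1 := fun w =>
    (csM M).simple_induction_left (p := fun w => w = 1) w rfl (fun _ i => i.elim0)
  haveI hs : Subsingleton M.Group := ⟨fun a b => (h a).trans (h b).symm⟩
  { fin := Finite.of_subsingleton
    card := by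
      have : Unique M.Group := ⟨⟨1⟩, h⟩
      exact Nat.card_unique
    triv := fun _ => true
    spec := fun ω => by simp [h] }

/-- one step up -/
def Solved.step {n N K : ℕ} {M : CoxeterMatrix (Fin (n + 1))} {M' : CoxeterMatrix (Fin n)}
    (S : Solved M' N) (hres : ∀ i j : Fin n, M' i j = M i.castSucc j.castSucc)
    (T : Table n (Fin K)) (hI : T.Invol) (hB : T.Base) (hT : T.Tree)
    (hC : T.Closed M M') (hD : T.Deduce M) : Solved M (N * K) :=
  haveI := S.fin
  { fin := (card_eq T M M' hres hI hB hT hC hD).1
    card := by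
      rw [(card_eq T M M' hres hI hB hT hC hD).2, S.card, Fintype.card_fin]
    triv := fun ω => decide (T.scanX T.x0 ω = T.x0) && S.triv (T.scanL T.x0 ω)
    spec := fun ω => by
      rw [wordProd_eq_one_iff T M M' hres hI hB hT hC hD, Bool.and_eq_true, decide_eq_true_eq,
        S.spec] }

/-- change the number -/
def Solved.cast {B : Type} {M : CoxeterMatrix B} {N N' : ℕ} (S : Solved M N) (h : N = N') :
    Solved M N' :=
  { fin := S.fin
    card := h ▸ S.card
    triv := S.triv
    spec := S.spec }

/-- lookup in a chunked table -/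
def look2 {α : Type} (d : α) (L : List (List α)) (x : ℕ) : α :=
  (L.getD (x / 16) []).getD (x % 16) d

/-- decoding of labels -/
def optOfNat (n : ℕ) : ℕ → Option (Fin n)
  | 0 => none
  | j + 1 => if h : j < n then some ⟨j, h⟩ else none

/-- a table from lists -/
def mkTable (n K : ℕ) [NeZero K] (nxtL labL : List (List (List ℕ))) (tauL : List (List (List ℕ)))
    (genL : List (List ℕ)) : Table n (Fin K) where
  x0 := 0
  nxt := fun x b => Fin.ofNat K ((look2 [] nxtL x.val).getD b.val 0)
  lab := fun x b => optOfNat n ((look2 [] labL x.val).getD b.val 0)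
  tau := fun x => (look2 [] tauL x.val).map (Fin.ofNat (n + 1))
  gen := fun x => Fin.ofNat (n + 1) (look2 0 genL x.val)

end Cfsg.Agent.Lib.Helper6.CoxTable
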