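import Mathlib
import Cfsg.Agent.Lib.Helper6.CoxTable

/-! Orders of elements of solved Coxeter groups. -/

set_option autoImplicit false

namespace Cfsg.Agent.Lib.Helper6.CoxTable

open CoxeterSystem

/-- the `k`-th power of a word -/
def wpow {B : Type} (ω : List B) : ℕ → List B
  | 0 => []
  | k + 1 => ω ++ wpow ω k

theorem wordProd_wpow {B : Type} (M : CoxeterMatrix B) (ω : List B) (k : ℕ) :
    (csM M).wordProd (wpow ω k) = (csM M).wordProd ω ^ k := by
  induction k with
  | zero => rw [wpow, wordProd_nil, pow_zero]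
  | succ k ih => rw [wpow, wordProd_append, ih, pow_succ']

theorem coxElt_eq {n : ℕ} (M : CoxeterMatrix (Fin n)) :
    ((List.finRange n).map M.simple).prod = (csM M).wordProd (List.finRange n) := by
  rw [wordProd, CoxeterMatrix.toCoxeterSystem_simple]

theorem Solved.ne_one_of_triv {B : Type} {M : CoxeterMatrix B} {N : ℕ} (S : Solved M N)
    (ω : List B) (h : S.triv ω = false) : (csM M).wordProd ω ≠ 1 := by
  intro e
  rw [← S.spec, h] at e
  exact Bool.false_ne_true e

theorem Solved.orderOf_wordProd {B : Type} {M : CoxeterMatrix B} {N : ℕ} (S : Solved M N)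
    (ω : List B) (h : ℕ) (hpos : 0 < h) (h1 : S.triv (wpow ω h) = true)
    (h2 : ∀ m : Fin h, 0 < m.val → S.triv (wpow ω m.val) = false) :
    orderOf ((csM M).wordProd ω) = h := by
  rw [orderOf_eq_iff hpos]
  refine ⟨?_, fun m hm hm0 => ?_⟩
  · rw [← wordProd_wpow, ← S.spec, h1]
  · rw [← wordProd_wpow]
    exact S.ne_one_of_triv _ (h2 ⟨m, hm⟩ hm0)

end Cfsg.Agent.Lib.Helper6.CoxTable
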