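import Mathlib
import Cfsg.Agent.Lib.Helper6.CoxOrder

/-! Centres of solved Coxeter groups, computed along the chain of coset tables. -/

set_option autoImplicit false
set_option linter.unusedSectionVars false

namespace Cfsg.Agent.Lib.Helper6.CoxTable

open CoxeterSystem

/-- `Z` lists words for all the central elements -/
structure CenterList {B : Type} (M : CoxeterMatrix B) (Z : List (List B)) : Prop where
  central : ∀ ζ ∈ Z, (csM M).wordProd ζ ∈ Subgroup.center M.Group
  complete : ∀ w ∈ Subgroup.center M.Group, ∃ ζ ∈ Z, w = (csM M).wordProd ζ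

/-- the commutator word of `ζ` and the generator `i` -/
def commW {B : Type} (ζ : List B) (i : B) : List B := ζ ++ [i] ++ ζ.reverse ++ [i]

theorem wordProd_commW_eq_one_iff {B : Type} (M : CoxeterMatrix B) (ζ : List B) (i : B) :
    (csM M).wordProd (commW ζ i) = 1 ↔
      (csM M).wordProd ζ * (csM M).simple i = (csM M).simple i * (csM M).wordProd ζ := by
  unfold commW
  rw [wordProd_append, wordProd_append, wordProd_append, wordProd_singleton, wordProd_reverse]
  constructor
  · intro h
    have h1 := mul_eq_one_iff_eq_inv.1 h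
    rw [inv_simple] at h1
    have h2 := mul_inv_eq_iff_eq_mul.1 h1
    exact h2
  · intro h
    rw [h, mul_inv_cancel_right, simple_mul_simple_self]

theorem mem_center_iff_comm_simple {B : Type} (M : CoxeterMatrix B) (z : M.Group) :
    z ∈ Subgroup.center M.Group ↔ ∀ i, z * (csM M).simple i = (csM M).simple i * z := by
  rw [Subgroup.mem_center_iff]
  constructor
  · intro h i
    exact (h _).symm
  · intro h w
    induction w using (csM M).simple_induction_left with
    | one => simp
    | mul_simple_left w i ih =>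
      rw [mul_assoc, ih, ← mul_assoc, ← mul_assoc, h i]

theorem Solved.mem_center_iff {B : Type} {M : CoxeterMatrix B} {N : ℕ} (S : Solved M N)
    (ζ : List B) :
    (csM M).wordProd ζ ∈ Subgroup.center M.Group ↔ ∀ i, S.triv (commW ζ i) = true := by
  rw [mem_center_iff_comm_simple]
  refine forall_congr' fun i => ?_
  rw [S.spec, wordProd_commW_eq_one_iff]

section Step

variable {n K : ℕ} (T : Table n (Fin K))
  (M : CoxeterMatrix (Fin (n + 1))) (M' : CoxeterMatrix (Fin n))
  (hres : ∀ i j : Fin n, M' i j = M i.castSucc j.castSucc)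

theorem Phi_act (hI : T.Invol) (hB : T.Base) (hT : T.Tree) (hD : T.Deduce M)
    (b : Fin (n + 1)) (p : M'.Group × Fin K) :
    Phi T M M' hres (act T M' b p) = Phi T M M' hres p * (csM M).simple b := by
  obtain ⟨h, x⟩ := p
  unfold Phi act
  have := valid T M M' hres hI hB hT hD x b
  unfold Valid at this
  dsimp only
  rw [map_mul, mul_assoc, mul_assoc, this]

theorem Phi_scanP (hI : T.Invol) (hB : T.Base) (hT : T.Tree) (hD : T.Deduce M)
    (ω : List (Fin (n + 1))) (p : M'.Group × Fin K) :
    Phi T M M' hres (scanP T M' p ω) = Phi T M M' hres p * (csM M).wordProd ω := by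
  induction ω generalizing p with
  | nil => rw [scanP_nil, wordProd_nil, mul_one]
  | cons b ω ih =>
    rw [scanP_cons, ih, Phi_act T M M' hres hI hB hT hD, wordProd_cons, mul_assoc]

theorem Phi_injective [Finite M'.Group] (hI : T.Invol) (hB : T.Base) (hT : T.Tree)
    (hC : T.Closed M M') (hD : T.Deduce M) : Function.Injective (Phi T M M' hres) := by
  obtain ⟨hfin, hcard⟩ := card_eq T M M' hres hI hB hT hC hD
  have hs := Phi_surjective T M M' hres hI hB hT hD
  refine (hs.bijective_of_nat_card_le ?_).1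
  rw [Nat.card_prod, Nat.card_eq_fintype_card (α := Fin K), hcard]

theorem incl_wordProd (ω : List (Fin n)) :
    incl M M' hres ((csM M').wordProd ω) = (csM M).wordProd (ω.map Fin.castSucc) := by
  induction ω with
  | nil => rw [wordProd_nil, map_one, List.map_nil, wordProd_nil]
  | cons j ω ih => rw [wordProd_cons, map_mul, ih, incl_simple, List.map_cons, wordProd_cons]

include hres in
theorem CenterList.step {N : ℕ} [Finite M'.Group] (hI : T.Invol) (hB : T.Base) (hT : T.Tree)
    (hC : T.Closed M M') (hD : T.Deduce M) (S : Solved M N)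
    (Z' : List (List (Fin n))) (hZ' : CenterList M' Z')
    (F : List (Fin K × List (Fin (n + 1))))
    (hF1 : ∀ x : Fin K, (∀ j : Fin n, T.nxt x j.castSucc = x) → x ∈ F.map Prod.fst)
    (hF2 : ∀ p ∈ F, T.scanX T.x0 p.2 = p.1 ∧ ∀ i, S.triv (commW p.2 i) = true)
    (Z : List (List (Fin (n + 1))))
    (hZ1 : ∀ ζ ∈ Z, ∀ i, S.triv (commW ζ i) = true)
    (hZ2 : ∀ z' ∈ Z', ∀ p ∈ F,
      (∀ i, S.triv (commW (z'.map Fin.castSucc ++ p.2) i) = true) →
        ∃ ζ ∈ Z, S.triv ((z'.map Fin.castSucc ++ p.2) ++ ζ.reverse) = true) :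
    CenterList M Z := by
  refine ⟨fun ζ hζ => (S.mem_center_iff ζ).2 (hZ1 ζ hζ), fun w hw => ?_⟩
  have hinj := Phi_injective T M M' hres hI hB hT hC hD
  obtain ⟨⟨h, x⟩, rfl⟩ := Phi_surjective T M M' hres hI hB hT hD w
  -- the coset is fixed by the parabolic subgroup
  have hx : ∀ j : Fin n, T.nxt x j.castSucc = x := by
    intro j
    have h1 := Phi_act T M M' hres hI hB hT hD j.castSucc (h, x)
    have h2 : Phi T M M' hres (h, x) * (csM M).simple j.castSucc =
        Phi T M M' hres ((csM M').simple j * h, x) := by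
      rw [((mem_center_iff_comm_simple M _).1 hw j.castSucc)]
      unfold Phi
      dsimp only
      rw [map_mul, incl_simple, mul_assoc]
    rw [h2] at h1
    have h3 := hinj h1
    unfold act at h3
    exact (Prod.mk.inj h3).2
  obtain ⟨p, hp, hpx⟩ := List.mem_map.1 (hF1 x hx)
  obtain ⟨hp1, hp2⟩ := hF2 p hp
  have hpc : (csM M).wordProd p.2 ∈ Subgroup.center M.Group := (S.mem_center_iff p.2).2 hp2
  -- the word `p.2` in normal form
  have e1 := Phi_scanP T M M' hres hI hB hT hD p.2 (1, T.x0)
  have e0 : Phi T M M' hres (1, T.x0) = 1 := by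
    unfold Phi g
    dsimp only
    rw [hB.2.2, map_one, wordProd_nil, one_mul]
  rw [e0, one_mul] at e1
  unfold scanP at e1
  dsimp only at e1
  rw [hp1, hpx, one_mul] at e1
  set hx' := (csM M').wordProd (T.scanL T.x0 p.2) with hx'def
  -- `h * hx'⁻¹` is central in the parabolic subgroup
  have e2 : Phi T M M' hres (h, x) =
      incl M M' hres (h * hx'⁻¹) * (csM M).wordProd p.2 := by
    rw [← e1]
    unfold Phi
    dsimp only
    rw [map_mul, map_inv, mul_assoc, inv_mul_cancel_left]
  have hic : incl M M' hres (h * hx'⁻¹) ∈ Subgroup.center M.Group := by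
    have : incl M M' hres (h * hx'⁻¹) =
        Phi T M M' hres (h, x) * ((csM M).wordProd p.2)⁻¹ := by
      rw [e2, mul_inv_cancel_right]
    rw [this]
    exact Subgroup.mul_mem _ hw (Subgroup.inv_mem _ hpc)
  have hiinj : Function.Injective (incl M M' hres) := by
    intro a b hab
    have : Phi T M M' hres (a, T.x0) = Phi T M M' hres (b, T.x0) := by
      unfold Phi; dsimp only; rw [hab]
    exact (Prod.mk.inj (hinj this)).1
  have hc' : h * hx'⁻¹ ∈ Subgroup.center M'.Group := by
    rw [Subgroup.mem_center_iff]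
    intro k
    apply hiinj
    rw [map_mul (incl M M' hres) k, map_mul (incl M M' hres) _ k]
    exact (Subgroup.mem_center_iff.1 hic _)
  obtain ⟨z', hz', hz'e⟩ := hZ'.complete _ hc'
  have e3 : Phi T M M' hres (h, x) =
      (csM M).wordProd (z'.map Fin.castSucc ++ p.2) := by
    rw [e2, hz'e, incl_wordProd, wordProd_append]
  have hcand : ∀ i, S.triv (commW (z'.map Fin.castSucc ++ p.2) i) = true := by
    rw [← S.mem_center_iff, ← e3]
    exact hw
  obtain ⟨ζ, hζ, hζt⟩ := hZ2 z' hz' p hp hcand
  refine ⟨ζ, hζ, ?_⟩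
  rw [e3]
  have := (S.spec _).1 hζt
  rw [wordProd_append, wordProd_reverse] at this
  exact mul_inv_eq_one.1 this

end Step

theorem CenterList.zero (M : CoxeterMatrix (Fin 0)) : CenterList M [[]] := by
  have h : ∀ w : M.Group, w = 1 := fun w =>
    (csM M).simple_induction_left (p := fun w => w = 1) w rfl (fun _ i => i.elim0)
  refine ⟨fun ζ _ => ?_, fun w _ => ⟨[], List.mem_singleton.2 rfl, ?_⟩⟩
  · rw [h ((csM M).wordProd ζ)]; exact Subgroup.one_mem _
  · rw [wordProd_nil]; exact h w

theorem CenterList.card_one {B : Type} {M : CoxeterMatrix B} (h : CenterList M [[]]) :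
    Nat.card (Subgroup.center M.Group) = 1 ∧ Subgroup.center M.Group = ⊥ := by
  have : Subgroup.center M.Group = ⊥ := by
    rw [eq_bot_iff]
    intro w hw
    obtain ⟨ζ, hζ, rfl⟩ := h.complete w hw
    rw [List.mem_singleton] at hζ
    rw [hζ, wordProd_nil]
    exact Subgroup.mem_bot.2 rfl
  rw [this]
  exact ⟨Subgroup.card_bot, rfl⟩

theorem CenterList.card_two {B : Type} {M : CoxeterMatrix B} {N : ℕ} (S : Solved M N)
    (ζ : List B) (h : CenterList M [[], ζ]) (hne : S.triv ζ = false) :
    Nat.card (Subgroup.center M.Group) = 2 := by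
  have hz : (csM M).wordProd ζ ∈ Subgroup.center M.Group :=
    h.central ζ (by simp)
  rw [Nat.card_eq_two_iff]
  refine ⟨⟨1, Subgroup.one_mem _⟩, ⟨_, hz⟩, ?_, ?_⟩
  · intro e
    exact S.ne_one_of_triv ζ hne (congrArg Subtype.val e).symm
  · ext ⟨w, hw⟩
    simp only [Set.mem_insert_iff, Set.mem_singleton_iff, Set.mem_univ, iff_true, Subtype.mk.injEq]
    obtain ⟨ζ', hζ', rfl⟩ := h.complete w hw
    simp only [List.mem_cons, List.not_mem_nil, or_false] at hζ'
    rcases hζ' with rfl | rfl
    · left; exact wordProd_nil _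
    · right; rfl

theorem CenterList.le_zpowers {B : Type} {M : CoxeterMatrix B} {N : ℕ} (S : Solved M N)
    (ζ : List B) (h : CenterList M [[], ζ]) (ω : List B) (k : ℕ)
    (hk : S.triv (ζ ++ (wpow ω k).reverse) = true) :
    Subgroup.center M.Group ≤ Subgroup.zpowers ((csM M).wordProd ω) := by
  intro w hw
  obtain ⟨ζ', hζ', rfl⟩ := h.complete w hw
  simp only [List.mem_cons, List.not_mem_nil, or_false] at hζ'
  rcases hζ' with rfl | rfl
  · rw [wordProd_nil]; exact Subgroup.one_mem _
  · have := (S.spec _).1 hk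
    rw [wordProd_append, wordProd_reverse, wordProd_wpow] at this
    rw [mul_inv_eq_one.1 this]
    exact Subgroup.pow_mem _ (Subgroup.mem_zpowers _) k

end Cfsg.Agent.Lib.Helper6.CoxTable
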