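import Mathlib
import Cfsg.Agent.Lib.Helper6.CoxTable

/-! Generated coset tables (scratch/py/cox/emit_chain.py). -/

set_option autoImplicit false
set_option maxRecDepth 100000

namespace Cfsg.Agent.Lib.Helper6.CoxDataE

open Cfsg.Agent.Lib.Helper6.CoxTable

/-- the Coxeter matrix at level 8 -/
abbrev E8M8 : CoxeterMatrix (Fin 8) := CoxeterMatrix.E₈

/-- the Coxeter matrix at level 7 -/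
abbrev E8M7 : CoxeterMatrix (Fin 7) := CoxeterMatrix.E₇

/-- the Coxeter matrix at level 6 -/
abbrev E8M6 : CoxeterMatrix (Fin 6) := CoxeterMatrix.E₆

/-- the Coxeter matrix at level 5 -/
abbrev E8M5 : CoxeterMatrix (Fin 5) := restr E8M6

/-- the Coxeter matrix at level 4 -/
abbrev E8M4 : CoxeterMatrix (Fin 4) := restr E8M5

/-- the Coxeter matrix at level 3 -/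
abbrev E8M3 : CoxeterMatrix (Fin 3) := restr E8M4

/-- the Coxeter matrix at level 2 -/
abbrev E8M2 : CoxeterMatrix (Fin 2) := restr E8M3

/-- the Coxeter matrix at level 1 -/
abbrev E8M1 : CoxeterMatrix (Fin 1) := restr E8M2

/-- the Coxeter matrix at level 0 -/
abbrev E8M0 : CoxeterMatrix (Fin 0) := restr E8M1

theorem E8_res1 : ∀ i j : Fin 0, E8M0 i j = E8M1 i.castSucc j.castSucc :=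
  fun _ _ => rfl

theorem E8_res2 : ∀ i j : Fin 1, E8M1 i j = E8M2 i.castSucc j.castSucc :=
  fun _ _ => rfl

theorem E8_res3 : ∀ i j : Fin 2, E8M2 i j = E8M3 i.castSucc j.castSucc :=
  fun _ _ => rfl

theorem E8_res4 : ∀ i j : Fin 3, E8M3 i j = E8M4 i.castSucc j.castSucc :=
  fun _ _ => rfl

theorem E8_res5 : ∀ i j : Fin 4, E8M4 i j = E8M5 i.castSucc j.castSucc :=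
  fun _ _ => rfl

theorem E8_res6 : ∀ i j : Fin 5, E8M5 i j = E8M6 i.castSucc j.castSucc :=
  fun _ _ => rfl

theorem E8_res7 : ∀ i j : Fin 6, E8M6 i j = E8M7 i.castSucc j.castSucc := by
  intro i j
  fin_cases i <;> fin_cases j <;> rfl

theorem E8_res8 : ∀ i j : Fin 7, E8M7 i j = E8M8 i.castSucc j.castSucc := by
  intro i j
  fin_cases i <;> fin_cases j <;> rfl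

/-- level 0 -/
def E8S0 : Solved E8M0 1 := Solved.zero _

def E8_1n : List (List (List ℕ)) :=
  [[[1], [0]]]

def E8_1l : List (List (List ℕ)) :=
  [[[0], [0]]]

def E8_1t : List (List (List ℕ)) :=
  [[[], [0]]]

def E8_1g : List (List ℕ) :=
  [[0, 0]]

/-- the coset table -/
def E8_1T : Table 0 (Fin 2) := mkTable 0 2 E8_1n E8_1l E8_1t E8_1g

theorem E8_1_I : E8_1T.Invol := by decide +kernel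

theorem E8_1_B : E8_1T.Base := by decide +kernel

theorem E8_1_T : E8_1T.Tree := by decide +kernel

theorem E8_1_C : E8_1T.Closed E8M1 E8M0 := by decide +kernel

theorem E8_1_D : E8_1T.Deduce E8M1 := by decide +kernel

/-- level 1 -/
def E8S1 : Solved E8M1 2 :=
  (E8S0.step E8_res1 E8_1T E8_1_I E8_1_B E8_1_T E8_1_C E8_1_D).cast (by norm_num)

def E8_2n : List (List (List ℕ)) :=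
  [[[0, 1], [1, 0]]]

def E8_2l : List (List (List ℕ)) :=
  [[[1, 0], [1, 0]]]

def E8_2t : List (List (List ℕ)) :=
  [[[], [1]]]

def E8_2g : List (List ℕ) :=
  [[0, 1]]

/-- the coset table -/
def E8_2T : Table 1 (Fin 2) := mkTable 1 2 E8_2n E8_2l E8_2t E8_2g

theorem E8_2_I : E8_2T.Invol := by decide +kernel

theorem E8_2_B : E8_2T.Base := by decide +kernel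

theorem E8_2_T : E8_2T.Tree := by decide +kernel

theorem E8_2_C : E8_2T.Closed E8M2 E8M1 := by decide +kernel

theorem E8_2_D : E8_2T.Deduce E8M2 := by decide +kernel

/-- level 2 -/
def E8S2 : Solved E8M2 4 :=
  (E8S1.step E8_res2 E8_2T E8_2_I E8_2_B E8_2_T E8_2_C E8_2_D).cast (by norm_num)

def E8_3n : List (List (List ℕ)) :=
  [[[0, 0, 1], [2, 1, 0], [1, 2, 2]]]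

def E8_3l : List (List (List ℕ)) :=
  [[[1, 2, 0], [0, 2, 0], [0, 2, 1]]]

def E8_3t : List (List (List ℕ)) :=
  [[[], [2], [2, 0]]]

def E8_3g : List (List ℕ) :=
  [[0, 2, 0]]

/-- the coset table -/
def E8_3T : Table 2 (Fin 3) := mkTable 2 3 E8_3n E8_3l E8_3t E8_3g

theorem E8_3_I : E8_3T.Invol := by decide +kernel

theorem E8_3_B : E8_3T.Base := by decide +kernel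

theorem E8_3_T : E8_3T.Tree := by decide +kernel

theorem E8_3_C : E8_3T.Closed E8M3 E8M2 := by decide +kernel

theorem E8_3_D : E8_3T.Deduce E8M3 := by decide +kernel

/-- level 3 -/
def E8S3 : Solved E8M3 12 :=
  (E8S2.step E8_res3 E8_3T E8_3_I E8_3_B E8_3_T E8_3_C E8_3_D).cast (by norm_num)

def E8_4n : List (List (List ℕ)) :=
  [[[0, 0, 0, 1], [1, 2, 3, 0], [2, 1, 4, 2], [5, 4, 1, 3], [6, 3, 2, 7], [3, 6, 5, 5], [4, 5, 6, 8], [8, 7, 7, 4], [7, 8, 9, 6], [9, 9, 8, 9]]]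

def E8_4l : List (List (List ℕ)) :=
  [[[1, 2, 3, 0], [1, 0, 0, 0], [1, 0, 0, 2], [0, 0, 0, 3], [0, 0, 0, 0], [0, 0, 1, 3], [0, 0, 1, 0], [0, 3, 2, 0], [0, 3, 0, 0], [2, 3, 0, 1]]]

def E8_4t : List (List (List ℕ)) :=
  [[[], [3], [3, 1], [3, 2], [3, 1, 2], [3, 2, 0], [3, 1, 2, 0], [3, 1, 2, 3], [3, 1, 2, 0, 3], [3, 1, 2, 0, 3, 2]]]

def E8_4g : List (List ℕ) :=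
  [[0, 3, 1, 2, 2, 0, 0, 3, 3, 2]]

/-- the coset table -/
def E8_4T : Table 3 (Fin 10) := mkTable 3 10 E8_4n E8_4l E8_4t E8_4g

theorem E8_4_I : E8_4T.Invol := by decide +kernel

theorem E8_4_B : E8_4T.Base := by decide +kernel

theorem E8_4_T : E8_4T.Tree := by decide +kernel

theorem E8_4_C : E8_4T.Closed E8M4 E8M3 := by decide +kernel

theorem E8_4_D : E8_4T.Deduce E8M4 := by decide +kernel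

/-- level 4 -/
def E8S4 : Solved E8M4 120 :=
  (E8S3.step E8_res4 E8_4T E8_4_I E8_4_B E8_4_T E8_4_C E8_4_D).cast (by norm_num)

def E8_5n : List (List (List ℕ)) :=
  [[[0, 0, 0, 0, 1], [1, 1, 1, 2, 0], [2, 3, 4, 1, 2], [3, 2, 5, 3, 3], [6, 5, 2, 4, 4], [7, 4, 3, 8, 5], [4, 7, 6, 6, 6], [5, 6, 7, 9, 7], [9, 8, 8, 5, 10], [8, 9, 11, 7, 12], [12, 10, 10, 10, 8], [11, 11, 9, 11, 13], [10, 12, 13, 12, 9], [13, 13, 12, 14, 11], [14, 15, 14, 13, 14], [15, 14, 15, 15, 15]]]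

def E8_5l : List (List (List ℕ)) :=
  [[[1, 2, 3, 4, 0], [1, 2, 3, 0, 0], [1, 0, 0, 0, 4], [1, 0, 0, 2, 4], [0, 0, 0, 3, 4], [0, 0, 0, 0, 4], [0, 0, 1, 3, 4], [0, 0, 1, 0, 4], [0, 3, 2, 0, 0], [0, 3, 0, 0, 0], [0, 3, 2, 4, 0], [2, 3, 0, 1, 0], [0, 3, 0, 4, 0], [2, 3, 0, 0, 0], [2, 0, 4, 0, 1], [2, 0, 4, 3, 1]]]

def E8_5t : List (List (List ℕ)) :=
  [[[], [4], [4, 3], [4, 3, 1], [4, 3, 2], [4, 3, 1, 2], [4, 3, 2, 0], [4, 3, 1, 2, 0], [4, 3, 1, 2, 3], [4, 3, 1, 2, 0, 3], [4, 3, 1, 2, 3, 4], [4, 3, 1, 2, 0, 3, 2], [4, 3, 1, 2, 0, 3, 4], [4, 3, 1, 2, 0, 3, 2, 4], [4, 3, 1, 2, 0, 3, 2, 4, 3], [4, 3, 1, 2, 0, 3, 2, 4, 3, 1]]]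

def E8_5g : List (List ℕ) :=
  [[0, 4, 3, 1, 2, 2, 0, 0, 3, 3, 4, 2, 4, 4, 3, 1]]

/-- the coset table -/
def E8_5T : Table 4 (Fin 16) := mkTable 4 16 E8_5n E8_5l E8_5t E8_5g

theorem E8_5_I : E8_5T.Invol := by decide +kernel

theorem E8_5_B : E8_5T.Base := by decide +kernel

theorem E8_5_T : E8_5T.Tree := by decide +kernel

theorem E8_5_C : E8_5T.Closed E8M5 E8M4 := by decide +kernel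

theorem E8_5_D : E8_5T.Deduce E8M5 := by decide +kernel

/-- level 5 -/
def E8S5 : Solved E8M5 1920 :=
  (E8S4.step E8_res5 E8_5T E8_5_I E8_5_B E8_5_T E8_5_C E8_5_D).cast (by norm_num)

def E8_6n : List (List (List ℕ)) :=
  [[[0, 0, 0, 0, 0, 1], [1, 1, 1, 1, 2, 0], [2, 2, 2, 3, 1, 2], [3, 4, 5, 2, 3, 3], [4, 3, 6, 4, 4, 4], [7, 6, 3, 5, 5, 5], [8, 5, 4, 9, 6, 6], [5, 8, 7, 7, 7, 7], [6, 7, 8, 10, 8, 8], [10, 9, 9, 6, 11, 9], [9, 10, 12, 8, 13, 10], [13, 11, 11, 11, 9, 14], [12, 12, 10, 12, 15, 12], [11, 13, 15, 13, 10, 16], [16, 14, 14, 14, 14, 11], [15, 15, 13, 17, 12, 18]], [[14, 16, 18, 16, 16, 13], [17, 19, 17, 15, 17, 20], [18, 18, 16, 20, 18, 15], [19, 17, 19, 19, 19, 21], [20, 21, 20, 18, 22,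 17], [21, 20, 21, 21, 23, 19], [22, 23, 22, 22, 20, 22], [23, 22, 23, 24, 21, 23], [24, 24, 25, 23, 24, 24], [26, 25, 24, 25, 25, 25], [25, 26, 26, 26, 26, 26]]]

def E8_6l : List (List (List ℕ)) :=
  [[[1, 2, 3, 4, 5, 0], [1, 2, 3, 4, 0, 0], [1, 2, 3, 0, 0, 5], [1, 0, 0, 0, 4, 5], [1, 0, 0, 2, 4, 5], [0, 0, 0, 3, 4, 5], [0, 0, 0, 0, 4, 5], [0, 0, 1, 3, 4, 5], [0, 0, 1, 0, 4, 5], [0, 3, 2, 0, 0, 5], [0, 3, 0, 0, 0, 5], [0, 3, 2, 4, 0, 0], [2, 3, 0, 1, 0, 5], [0, 3, 0, 4, 0, 0], [0, 3, 2, 4, 5, 0], [2, 3, 0, 0, 0, 0]], [[0, 3, 0, 4, 5, 0], [2, 0, 4, 0, 1, 0], [2, 3, 0, 0, 5, 0], [2, 0, 4, 3, 1, 0], [2, 0, 4, 0, 0, 0], [2, 0, 4, 3, 0, 0], [2, 0, 4, 5, 0, 1], [2, 0, 4, 0, 0, 1], [2, 5, 0, 0, 3, 1], [0, 5,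 0, 4, 3, 1], [0, 5, 2, 4, 3, 1]]]

def E8_6t : List (List (List ℕ)) :=
  [[[], [5], [5, 4], [5, 4, 3], [5, 4, 3, 1], [5, 4, 3, 2], [5, 4, 3, 1, 2], [5, 4, 3, 2, 0], [5, 4, 3, 1, 2, 0], [5, 4, 3, 1, 2, 3], [5, 4, 3, 1, 2, 0, 3], [5, 4, 3, 1, 2, 3, 4], [5, 4, 3, 1, 2, 0, 3, 2], [5, 4, 3, 1, 2, 0, 3, 4], [5, 4, 3, 1, 2, 3, 4, 5], [5, 4, 3, 1, 2, 0, 3, 2, 4]], [[5, 4, 3, 1, 2, 0, 3, 4, 5], [5, 4, 3, 1, 2, 0, 3, 2, 4, 3], [5, 4, 3, 1, 2, 0, 3, 2, 4, 5], [5, 4, 3, 1, 2, 0, 3, 2, 4, 3, 1], [5, 4, 3, 1, 2, 0, 3, 2, 4, 3, 5], [5, 4, 3, 1, 2, 0, 3, 2, 4, 3, 1, 5], [5, 4, 3, 1, 2, 0, 3, 2, 4, 3, 5, 4], [5, 4, 3, 1, 2, 0, 3, 2, 4, 3, 1, 5, 4], [5, 4, 3, 1, 2, 0, 3, 2, 4, 3, 1, 5, 4, 3], [5, 4, 3, 1, 2, 0, 3, 2, 4,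 3, 1, 5, 4, 3, 2], [5, 4, 3, 1, 2, 0, 3, 2, 4, 3, 1, 5, 4, 3, 2, 0]]]

def E8_6g : List (List ℕ) :=
  [[0, 5, 4, 3, 1, 2, 2, 0, 0, 3, 3, 4, 2, 4, 5, 4], [5, 3, 5, 1, 5, 5, 4, 4, 3, 2, 0]]

/-- the coset table -/
def E8_6T : Table 5 (Fin 27) := mkTable 5 27 E8_6n E8_6l E8_6t E8_6g

theorem E8_6_I : E8_6T.Invol := by decide +kernel

theorem E8_6_B : E8_6T.Base := by decide +kernel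

theorem E8_6_T : E8_6T.Tree := by decide +kernel

theorem E8_6_C : E8_6T.Closed E8M6 E8M5 := by decide +kernel

theorem E8_6_D : E8_6T.Deduce E8M6 := by decide +kernel

/-- level 6 -/
def E8S6 : Solved E8M6 51840 :=
  (E8S5.step E8_res6 E8_6T E8_6_I E8_6_B E8_6_T E8_6_C E8_6_D).cast (by norm_num)

def E8_7n : List (List (List ℕ)) :=
  [[[0, 0, 0, 0, 0, 0, 1], [1, 1, 1, 1, 1, 2, 0], [2, 2, 2, 2, 3, 1, 2], [3, 3, 3, 4, 2, 3, 3], [4, 5, 6, 3, 4, 4, 4], [5, 4, 7, 5, 5, 5, 5], [8, 7, 4, 6, 6, 6, 6], [9, 6, 5, 10, 7, 7, 7], [6, 9, 8, 8, 8, 8, 8], [7, 8, 9, 11, 9, 9, 9], [11, 10, 10, 7, 12, 10, 10], [10, 11, 13, 9, 14, 11, 11], [14, 12, 12, 12, 10, 15, 12], [13, 13, 11, 13, 16, 13, 13], [12, 14, 16, 14, 11,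 17, 14], [17, 15, 15, 15, 15, 12, 18]], [[16, 16, 14, 19, 13, 20, 16], [15, 17, 20, 17, 17, 14, 21], [21, 18, 18, 18, 18, 18, 15], [19, 22, 19, 16, 19, 23, 19], [20, 20, 17, 23, 20, 16, 24], [18, 21, 24, 21, 21, 21, 17], [22, 19, 22, 22, 22, 25, 22], [23, 25, 23, 20, 26, 19, 27], [24, 24, 21, 27, 24, 24, 20], [25, 23, 25, 25, 28, 22, 29], [26, 28, 26, 26, 23, 26, 30], [27, 29, 27, 24, 30, 27, 23], [28, 26, 28, 31, 25, 28, 32], [29, 27, 29, 29, 32, 29, 25], [30, 32, 30, 30, 27, 33, 26], [31, 31, 34, 28, 31, 31, 35]], [[32, 30, 32, 35, 29, 36, 28], [33, 36, 33, 33, 33, 30, 33], [37, 34, 31, 34, 34, 34, 38], [35, 35, 38, 32, 35, 39, 31], [36, 33, 36, 39, 36, 32, 36], [34, 37, 37, 37, 37, 37, 40], [40, 38,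 35, 38, 38, 41, 34], [39, 39, 41, 36, 42, 35, 39], [38, 40, 40, 40, 40, 43, 37], [43, 41, 39, 41, 44, 38, 41], [42, 42, 44, 42, 39, 42, 42], [41, 43, 43, 43, 45, 40, 43], [45, 44, 42, 46, 41, 44, 44], [44, 45, 45, 47, 43, 45, 45], [47, 48, 46, 44, 46, 46, 46], [46, 49, 50, 45, 47, 47, 47]], [[49, 46, 48, 48, 48, 48, 48], [48, 47, 51, 49, 49, 49, 49], [50, 51, 47, 50, 50, 50, 50], [51, 50, 49, 52, 51, 51, 51], [52, 52, 52, 51, 53, 52, 52], [53, 53, 53, 53, 52, 54, 53], [54, 54, 54, 54, 54, 53, 55], [55, 55, 55, 55, 55, 55, 54]]]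

def E8_7l : List (List (List ℕ)) :=
  [[[1, 2, 3, 4, 5, 6, 0], [1, 2, 3, 4, 5, 0, 0], [1, 2, 3, 4, 0, 0, 6], [1, 2, 3, 0, 0, 5, 6], [1, 0, 0, 0, 4, 5, 6], [1, 0, 0, 2, 4, 5, 6], [0, 0, 0, 3, 4, 5, 6], [0, 0, 0, 0, 4, 5, 6], [0, 0, 1, 3, 4, 5, 6], [0, 0, 1, 0, 4, 5, 6], [0, 3, 2, 0, 0, 5, 6], [0, 3, 0, 0, 0, 5, 6], [0, 3, 2, 4, 0, 0, 6], [2, 3, 0, 1, 0, 5, 6], [0, 3, 0, 4, 0, 0, 6], [0, 3, 2, 4, 5, 0, 0]], [[2, 3, 0, 0, 0, 0, 6], [0, 3, 0, 4, 5, 0, 0], [0, 3, 2, 4, 5, 6, 0], [2, 0, 4, 0, 1, 0, 6], [2, 3, 0, 0, 5, 0, 0], [0, 3, 0, 4, 5, 6, 0], [2, 0, 4, 3, 1, 0, 6], [2, 0, 4, 0, 0, 0, 0], [2, 3, 0, 0, 5, 6, 0], [2, 0, 4, 3, 0, 0, 0], [2, 0, 4, 5, 0, 1, 0], [2, 0, 4, 0, 0, 6, 0], [2, 0, 4, 0, 0, 1, 0],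 [2, 0, 4, 3, 0, 6, 0], [2, 0, 4, 5, 0, 0, 0], [2, 5, 0, 0, 3, 1, 0]], [[2, 0, 4, 0, 0, 0, 0], [2, 0, 4, 5, 6, 0, 1], [0, 5, 0, 4, 3, 1, 0], [2, 5, 0, 0, 3, 0, 0], [2, 0, 4, 0, 6, 0, 1], [0, 5, 2, 4, 3, 1, 0], [0, 5, 0, 4, 3, 0, 0], [2, 5, 0, 0, 0, 0, 1], [0, 5, 2, 4, 3, 0, 0], [0, 5, 0, 4, 0, 0, 1], [2, 5, 0, 6, 0, 3, 1], [0, 5, 2, 4, 0, 0, 1], [0, 5, 0, 0, 0, 3, 1], [0, 5, 2, 0, 0, 3, 1], [0, 0, 6, 0, 4, 3, 1], [0, 0, 0, 0, 4, 3, 1]], [[0, 0, 6, 5, 4, 3, 1], [0, 0, 0, 5, 4, 3, 1], [6, 0, 0, 2, 4, 3, 1], [6, 0, 0, 0, 4, 3, 1], [6, 2, 5, 0, 0, 3, 1], [6, 2, 5, 4, 0, 0, 1], [6, 2, 5, 4, 3, 0, 0], [6, 2, 5, 4, 3, 1, 0]]]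

def E8_7t : List (List (List ℕ)) :=
  [[[], [6], [6, 5], [6, 5, 4], [6, 5, 4, 3], [6, 5, 4, 3, 1], [6, 5, 4, 3, 2], [6, 5, 4, 3, 1, 2], [6, 5, 4, 3, 2, 0], [6, 5, 4, 3, 1, 2, 0], [6, 5, 4, 3, 1, 2, 3], [6, 5, 4, 3, 1, 2, 0, 3], [6, 5, 4, 3, 1, 2, 3, 4], [6, 5, 4, 3, 1, 2, 0, 3, 2], [6, 5, 4, 3, 1, 2, 0, 3, 4], [6, 5, 4, 3, 1, 2, 3, 4, 5]], [[6, 5, 4, 3, 1, 2, 0, 3, 2, 4], [6, 5, 4, 3, 1, 2, 0, 3, 4, 5], [6, 5, 4, 3, 1, 2, 3, 4, 5, 6], [6, 5, 4, 3, 1, 2, 0, 3, 2, 4, 3], [6, 5, 4, 3, 1, 2, 0, 3, 2, 4, 5], [6, 5, 4, 3, 1, 2, 0, 3, 4, 5, 6], [6, 5, 4, 3, 1, 2, 0, 3, 2, 4, 3, 1], [6, 5, 4, 3, 1, 2, 0, 3, 2, 4, 3, 5], [6, 5, 4, 3, 1, 2, 0, 3, 2, 4, 5, 6], [6, 5, 4, 3, 1, 2, 0, 3, 2, 4, 3, 1, 5], [6, 5, 4,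 3, 1, 2, 0, 3, 2, 4, 3, 5, 4], [6, 5, 4, 3, 1, 2, 0, 3, 2, 4, 3, 5, 6], [6, 5, 4, 3, 1, 2, 0, 3, 2, 4, 3, 1, 5, 4], [6, 5, 4, 3, 1, 2, 0, 3, 2, 4, 3, 1, 5, 6], [6, 5, 4, 3, 1, 2, 0, 3, 2, 4, 3, 5, 4, 6], [6, 5, 4, 3, 1, 2, 0, 3, 2, 4, 3, 1, 5, 4, 3]], [[6, 5, 4, 3, 1, 2, 0, 3, 2, 4, 3, 1, 5, 4, 6], [6, 5, 4, 3, 1, 2, 0, 3, 2, 4, 3, 5, 4, 6, 5], [6, 5, 4, 3, 1, 2, 0, 3, 2, 4, 3, 1, 5, 4, 3, 2], [6, 5, 4, 3, 1, 2, 0, 3, 2, 4, 3, 1, 5, 4, 3, 6], [6, 5, 4, 3, 1, 2, 0, 3, 2, 4, 3, 1, 5, 4, 6, 5], [6, 5, 4, 3, 1, 2, 0, 3, 2, 4, 3, 1, 5, 4, 3, 2, 0], [6, 5, 4, 3, 1, 2, 0, 3, 2, 4, 3, 1, 5, 4, 3, 2, 6], [6, 5, 4, 3, 1, 2, 0, 3, 2, 4, 3, 1, 5, 4, 3, 6, 5], [6, 5, 4, 3, 1, 2, 0, 3, 2, 4, 3, 1, 5, 4, 3, 2, 0, 6],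 [6, 5, 4, 3, 1, 2, 0, 3, 2, 4, 3, 1, 5, 4, 3, 2, 6, 5], [6, 5, 4, 3, 1, 2, 0, 3, 2, 4, 3, 1, 5, 4, 3, 6, 5, 4], [6, 5, 4, 3, 1, 2, 0, 3, 2, 4, 3, 1, 5, 4, 3, 2, 0, 6, 5], [6, 5, 4, 3, 1, 2, 0, 3, 2, 4, 3, 1, 5, 4, 3, 2, 6, 5, 4], [6, 5, 4, 3, 1, 2, 0, 3, 2, 4, 3, 1, 5, 4, 3, 2, 0, 6, 5, 4], [6, 5, 4, 3, 1, 2, 0, 3, 2, 4, 3, 1, 5, 4, 3, 2, 6, 5, 4, 3], [6, 5, 4, 3, 1, 2, 0, 3, 2, 4, 3, 1, 5, 4, 3, 2, 0, 6, 5, 4, 3]], [[6, 5, 4, 3, 1, 2, 0, 3, 2, 4, 3, 1, 5, 4, 3, 2, 6, 5, 4, 3, 1], [6, 5, 4, 3, 1, 2, 0, 3, 2, 4, 3, 1, 5, 4, 3, 2, 0, 6, 5, 4, 3, 1], [6, 5, 4, 3, 1, 2, 0, 3, 2, 4, 3, 1, 5, 4, 3, 2, 0, 6, 5, 4, 3, 2], [6, 5, 4, 3, 1, 2, 0, 3, 2, 4, 3, 1, 5, 4, 3, 2, 0, 6, 5, 4, 3, 1, 2], [6, 5, 4, 3, 1, 2,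 0, 3, 2, 4, 3, 1, 5, 4, 3, 2, 0, 6, 5, 4, 3, 1, 2, 3], [6, 5, 4, 3, 1, 2, 0, 3, 2, 4, 3, 1, 5, 4, 3, 2, 0, 6, 5, 4, 3, 1, 2, 3, 4], [6, 5, 4, 3, 1, 2, 0, 3, 2, 4, 3, 1, 5, 4, 3, 2, 0, 6, 5, 4, 3, 1, 2, 3, 4, 5], [6, 5, 4, 3, 1, 2, 0, 3, 2, 4, 3, 1, 5, 4, 3, 2, 0, 6, 5, 4, 3, 1, 2, 3, 4, 5, 6]]]

def E8_7g : List (List ℕ) :=
  [[0, 6, 5, 4, 3, 1, 2, 2, 0, 0, 3, 3, 4, 2, 4, 5], [4, 5, 6, 3, 5, 6, 1, 5, 6, 5, 4, 6, 4, 6, 6, 3], [6, 5, 2, 6, 5, 0, 6, 5, 6, 5, 4, 5, 4, 4, 3, 3], [1, 1, 2, 2, 3, 4, 5, 6]]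

/-- the coset table -/
def E8_7T : Table 6 (Fin 56) := mkTable 6 56 E8_7n E8_7l E8_7t E8_7g

theorem E8_7_I : E8_7T.Invol := by decide +kernel

theorem E8_7_B : E8_7T.Base := by decide +kernel

theorem E8_7_T : E8_7T.Tree := by decide +kernel

theorem E8_7_C : E8_7T.Closed E8M7 E8M6 := by decide +kernel

theorem E8_7_D : E8_7T.Deduce E8M7 := by decide +kernel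

/-- level 7 -/
def E8S7 : Solved E8M7 2903040 :=
  (E8S6.step E8_res7 E8_7T E8_7_I E8_7_B E8_7_T E8_7_C E8_7_D).cast (by norm_num)

def E8_8n : List (List (List ℕ)) :=
  [[[0, 0, 0, 0, 0, 0, 0, 1], [1, 1, 1, 1, 1, 1, 2, 0], [2, 2, 2, 2, 2, 3, 1, 2], [3, 3, 3, 3, 4, 2, 3, 3], [4, 4, 4, 5, 3, 4, 4, 4], [5, 6, 7, 4, 5, 5, 5, 5], [6, 5, 8, 6, 6, 6, 6, 6], [9, 8, 5, 7, 7, 7, 7, 7], [10, 7, 6, 11, 8, 8, 8, 8], [7, 10, 9, 9, 9, 9, 9, 9], [8, 9, 10, 12, 10, 10, 10, 10], [12, 11, 11, 8, 13, 11, 11, 11], [11, 12, 14, 10, 15, 12, 12, 12], [15, 13, 13, 13, 11, 16, 13, 13], [14, 14, 12, 14, 17, 14, 14, 14], [13, 15, 17, 15, 12, 18, 15, 15]], [[18, 16, 16, 16, 16, 13, 19, 16], [17, 17, 15, 20, 14, 21, 17, 17], [16,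 18, 21, 18, 18, 15, 22, 18], [22, 19, 19, 19, 19, 19, 16, 23], [20, 24, 20, 17, 20, 25, 20, 20], [21, 21, 18, 25, 21, 17, 26, 21], [19, 22, 26, 22, 22, 22, 18, 27], [27, 23, 23, 23, 23, 23, 23, 19], [24, 20, 24, 24, 24, 28, 24, 24], [25, 28, 25, 21, 29, 20, 30, 25], [26, 26, 22, 30, 26, 26, 21, 31], [23, 27, 31, 27, 27, 27, 27, 22], [28, 25, 28, 28, 32, 24, 33, 28], [29, 32, 29, 29, 25, 29, 34, 29], [30, 33, 30, 26, 34, 30, 25, 35], [31, 31, 27, 35, 31, 31, 31, 26]], [[32, 29, 32, 36, 28, 32, 37, 32], [33, 30, 33, 33, 37, 33, 28, 38], [34, 37, 34, 34, 30, 39, 29, 40], [35, 38, 35, 31, 40, 35, 35, 30], [36, 36, 41, 32, 36, 36, 42, 36], [37, 34, 37, 42, 33, 43, 32, 44], [38, 35, 38, 38, 44, 38, 38, 33],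 [39, 43, 39, 39, 39, 34, 39, 45], [40, 44, 40, 40, 35, 45, 40, 34], [46, 41, 36, 41, 41, 41, 47, 41], [42, 42, 47, 37, 42, 48, 36, 49], [43, 39, 43, 48, 43, 37, 43, 50], [44, 40, 44, 49, 38, 50, 44, 37], [45, 50, 45, 45, 45, 40, 51, 39], [41, 46, 46, 46, 46, 46, 52, 46], [52, 47, 42, 47, 47, 53, 41, 54]], [[48, 48, 53, 43, 55, 42, 48, 56], [49, 49, 54, 44, 49, 56, 49, 42], [50, 45, 50, 56, 50, 44, 57, 43], [51, 57, 51, 51, 51, 51, 45, 51], [47, 52, 52, 52, 52, 58, 46, 59], [58, 53, 48, 53, 60, 47, 53, 61], [59, 54, 49, 54, 54, 61, 54, 47], [55, 55, 60, 55, 48, 55, 55, 62], [56, 56, 61, 50, 62, 49, 63, 48], [57, 51, 57, 63, 57, 57, 50, 57], [53, 58, 58, 58, 64, 52, 58, 65], [54, 59, 59, 59, 59, 65, 59,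 52], [64, 60, 55, 66, 53, 60, 60, 67], [65, 61, 56, 61, 67, 54, 68, 53], [62, 62, 67, 62, 56, 62, 69, 55], [63, 63, 68, 57, 69, 63, 56, 63]], [[60, 64, 64, 70, 58, 64, 64, 71], [61, 65, 65, 65, 71, 59, 72, 58], [70, 73, 66, 60, 66, 66, 66, 74], [71, 67, 62, 74, 61, 67, 75, 60], [72, 68, 63, 68, 75, 68, 61, 68], [69, 69, 75, 69, 63, 76, 62, 69], [66, 77, 78, 64, 70, 70, 70, 79], [67, 71, 71, 79, 65, 71, 80, 64], [68, 72, 72, 72, 80, 72, 65, 72], [77, 66, 73, 73, 73, 73, 73, 81], [79, 81, 74, 67, 74, 74, 82, 66], [80, 75, 69, 82, 68, 83, 67, 75], [76, 76, 83, 76, 76, 69, 76, 76], [73, 70, 84, 77, 77, 77, 77, 85], [78, 84, 70, 78, 78, 78, 78, 86], [74, 85, 86, 71, 79, 79, 87, 70]], [[75, 80, 80, 87, 72,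 88, 71, 80], [85, 74, 81, 81, 81, 81, 89, 73], [87, 89, 82, 75, 82, 90, 74, 82], [88, 83, 76, 90, 83, 75, 83, 83], [84, 78, 77, 91, 84, 84, 84, 92], [81, 79, 92, 85, 85, 85, 93, 77], [86, 92, 79, 86, 86, 86, 94, 78], [82, 93, 94, 80, 87, 95, 79, 87], [83, 88, 88, 95, 88, 80, 88, 88], [93, 82, 89, 89, 89, 96, 81, 89], [95, 96, 90, 83, 97, 82, 90, 90], [91, 91, 91, 84, 98, 91, 91, 99], [92, 86, 85, 99, 92, 92, 100, 84], [89, 87, 100, 93, 93, 101, 85, 93], [94, 100, 87, 94, 94, 102, 86, 94], [90, 101, 102, 88, 103, 87, 95, 95]], [[101, 90, 96, 96, 104, 89, 96, 96], [103, 104, 97, 97, 90, 97, 97, 97], [98, 98, 98, 98, 91, 105, 98, 106], [99, 99, 99, 92, 106, 99, 107, 91], [100, 94, 93, 107, 100, 108, 92,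 100], [96, 95, 108, 101, 109, 93, 101, 101], [102, 108, 95, 102, 110, 94, 102, 102], [97, 109, 110, 103, 95, 103, 103, 103], [109, 97, 104, 111, 96, 104, 104, 104], [105, 105, 105, 105, 105, 98, 112, 113], [106, 106, 106, 106, 99, 113, 114, 98], [107, 107, 107, 100, 114, 115, 99, 107], [108, 102, 101, 115, 116, 100, 108, 108], [104, 103, 116, 117, 101, 109, 109, 109], [110, 116, 103, 118, 102, 110, 110, 110], [117, 111, 119, 104, 111, 111, 111, 111]], [[112, 112, 112, 112, 112, 112, 105, 120], [113, 113, 113, 113, 113, 106, 121, 105], [114, 114, 114, 114, 107, 122, 106, 114], [115, 115, 115, 108, 123, 107, 115, 115], [116, 110, 109, 124, 108, 116, 116, 116], [111, 117, 125, 109, 117, 117, 117, 117], [118,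 126, 118, 110, 118, 118, 118, 118], [127, 119, 111, 119, 119, 119, 119, 119], [120, 120, 120, 120, 120, 120, 128, 112], [121, 121, 121, 121, 121, 129, 113, 128], [122, 122, 122, 122, 130, 114, 129, 122], [123, 123, 123, 131, 115, 130, 123, 123], [124, 132, 133, 116, 131, 124, 124, 124], [134, 125, 117, 133, 125, 125, 125, 125], [126, 118, 126, 132, 126, 126, 126, 126], [119, 127, 134, 127, 127, 127, 127, 127]], [[128, 128, 128, 128, 128, 135, 120, 121], [129, 129, 129, 129, 136, 121, 122, 135], [130, 130, 130, 137, 122, 123, 136, 130], [131, 138, 139, 123, 124, 137, 131, 131], [132, 124, 140, 126, 138, 132, 132, 132], [141, 140, 124, 125, 139, 133, 133, 133], [125, 134, 127, 141, 134, 134, 134, 134],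 [135, 135, 135, 135, 142, 128, 135, 129], [136, 136, 136, 143, 129, 136, 130, 142], [137, 144, 145, 130, 137, 131, 143, 137], [138, 131, 146, 138, 132, 144, 138, 138], [147, 146, 131, 139, 133, 145, 139, 139], [148, 133, 132, 140, 146, 140, 140, 140], [133, 148, 141, 134, 147, 141, 141, 141], [142, 142, 142, 149, 135, 142, 142, 136], [143, 150, 151, 136, 143, 143, 137, 149]], [[144, 137, 152, 144, 144, 138, 150, 144], [153, 152, 137, 145, 145, 139, 151, 145], [154, 139, 138, 155, 140, 152, 146, 146], [139, 154, 147, 147, 141, 153, 147, 147], [140, 141, 148, 148, 154, 148, 148, 148], [149, 156, 157, 142, 149, 149, 149, 143], [150, 143, 158, 150, 150, 150, 144, 156], [159, 158, 143, 151, 151, 151, 145,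 157], [160, 145, 144, 161, 152, 146, 158, 152], [145, 160, 153, 153, 153, 147, 159, 153], [146, 147, 154, 162, 148, 160, 154, 154], [162, 155, 155, 146, 155, 161, 155, 155], [156, 149, 163, 156, 156, 156, 156, 150], [164, 163, 149, 157, 157, 157, 157, 151], [165, 151, 150, 166, 158, 158, 152, 163], [151, 165, 159, 159, 159, 159, 153, 164]], [[152, 153, 160, 167, 160, 154, 165, 160], [167, 161, 161, 152, 168, 155, 166, 161], [155, 162, 169, 154, 162, 167, 162, 162], [170, 157, 156, 171, 163, 163, 163, 158], [157, 170, 164, 164, 164, 164, 164, 159], [158, 159, 165, 172, 165, 165, 160, 170], [172, 166, 166, 158, 173, 166, 161, 171], [161, 167, 174, 160, 175, 162, 172, 167], [175, 168, 168, 168, 161, 168,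 173, 168], [169, 169, 162, 169, 169, 174, 169, 169], [163, 164, 170, 176, 170, 170, 170, 165], [176, 171, 171, 163, 177, 171, 171, 166], [166, 172, 178, 165, 179, 172, 167, 176], [179, 173, 173, 173, 166, 180, 168, 177], [174, 174, 167, 174, 181, 169, 178, 174], [168, 175, 181, 175, 167, 175, 179, 175]], [[171, 176, 182, 170, 183, 176, 176, 172], [183, 177, 177, 177, 171, 184, 177, 173], [178, 178, 172, 178, 185, 178, 174, 182], [173, 179, 185, 179, 172, 186, 175, 183], [186, 180, 180, 180, 180, 173, 180, 184], [181, 181, 175, 187, 174, 181, 185, 181], [182, 182, 176, 182, 188, 182, 182, 178], [177, 183, 188, 183, 176, 189, 183, 179], [189, 184, 184, 184, 184, 177, 190, 180], [185, 185, 179, 191, 178,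 192, 181, 188], [180, 186, 192, 186, 186, 179, 186, 189], [187, 193, 187, 181, 187, 187, 191, 187], [188, 188, 183, 194, 182, 195, 188, 185], [184, 189, 195, 189, 189, 183, 196, 186], [196, 190, 190, 190, 190, 190, 184, 190], [191, 197, 191, 185, 191, 198, 187, 194]], [[192, 192, 186, 198, 192, 185, 192, 195], [193, 187, 193, 193, 193, 193, 197, 193], [194, 199, 194, 188, 194, 200, 194, 191], [195, 195, 189, 200, 195, 188, 201, 192], [190, 196, 201, 196, 196, 196, 189, 196], [197, 191, 197, 197, 197, 202, 193, 199], [198, 202, 198, 192, 203, 191, 198, 200], [199, 194, 199, 199, 199, 204, 199, 197], [200, 204, 200, 195, 205, 194, 206, 198], [201, 201, 196, 206, 201, 201, 195, 201], [202, 198, 202, 202,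 207, 197, 202, 204], [203, 207, 203, 203, 198, 203, 203, 205], [204, 200, 204, 204, 208, 199, 209, 202], [205, 208, 205, 205, 200, 205, 210, 203], [206, 209, 206, 201, 210, 206, 200, 206], [207, 203, 207, 211, 202, 207, 207, 208]], [[208, 205, 208, 212, 204, 208, 213, 207], [209, 206, 209, 209, 213, 209, 204, 209], [210, 213, 210, 210, 206, 214, 205, 210], [211, 211, 215, 207, 211, 211, 211, 212], [212, 212, 216, 208, 212, 212, 217, 211], [213, 210, 213, 217, 209, 218, 208, 213], [214, 218, 214, 214, 214, 210, 214, 214], [219, 215, 211, 215, 215, 215, 215, 216], [220, 216, 212, 216, 216, 216, 221, 215], [217, 217, 221, 213, 217, 222, 212, 217], [218, 214, 218, 222, 218, 213, 218, 218], [215, 219, 219,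 219, 219, 219, 219, 220], [216, 220, 220, 220, 220, 220, 223, 219], [223, 221, 217, 221, 221, 224, 216, 221], [222, 222, 224, 218, 225, 217, 222, 222], [221, 223, 223, 223, 223, 226, 220, 223]], [[226, 224, 222, 224, 227, 221, 224, 224], [225, 225, 227, 225, 222, 225, 225, 225], [224, 226, 226, 226, 228, 223, 226, 226], [228, 227, 225, 229, 224, 227, 227, 227], [227, 228, 228, 230, 226, 228, 228, 228], [230, 231, 229, 227, 229, 229, 229, 229], [229, 232, 233, 228, 230, 230, 230, 230], [232, 229, 231, 231, 231, 231, 231, 231], [231, 230, 234, 232, 232, 232, 232, 232], [233, 234, 230, 233, 233, 233, 233, 233], [234, 233, 232, 235, 234, 234, 234, 234], [235, 235, 235, 234, 236, 235, 235, 235], [236, 236,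 236, 236, 235, 237, 236, 236], [237, 237, 237, 237, 237, 236, 238, 237], [238, 238, 238, 238, 238, 238, 237, 239], [239, 239, 239, 239, 239, 239, 239, 238]]]

def E8_8l : List (List (List ℕ)) :=
  [[[1, 2, 3, 4, 5, 6, 7, 0], [1, 2, 3, 4, 5, 6, 0, 0], [1, 2, 3, 4, 5, 0, 0, 7], [1, 2, 3, 4, 0, 0, 6, 7], [1, 2, 3, 0, 0, 5, 6, 7], [1, 0, 0, 0, 4, 5, 6, 7], [1, 0, 0, 2, 4, 5, 6, 7], [0, 0, 0, 3, 4, 5, 6, 7], [0, 0, 0, 0, 4, 5, 6, 7], [0, 0, 1, 3, 4, 5, 6, 7], [0, 0, 1, 0, 4, 5, 6, 7], [0, 3, 2, 0, 0, 5, 6, 7], [0, 3, 0, 0, 0, 5, 6, 7], [0, 3, 2, 4, 0, 0, 6, 7], [2, 3, 0, 1, 0, 5, 6, 7], [0, 3, 0, 4, 0, 0, 6, 7]], [[0, 3, 2, 4, 5, 0, 0, 7], [2, 3, 0, 0, 0, 0, 6, 7], [0, 3, 0, 4, 5, 0, 0, 7], [0, 3, 2, 4, 5,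 6, 0, 0], [2, 0, 4, 0, 1, 0, 6, 7], [2, 3, 0, 0, 5, 0, 0, 7], [0, 3, 0, 4, 5, 6, 0, 0], [0, 3, 2, 4, 5, 6, 7, 0], [2, 0, 4, 3, 1, 0, 6, 7], [2, 0, 4, 0, 0, 0, 0, 7], [2, 3, 0, 0, 5, 6, 0, 0], [0, 3, 0, 4, 5, 6, 7, 0], [2, 0, 4, 3, 0, 0, 0, 7], [2, 0, 4, 5, 0, 1, 0, 7], [2, 0, 4, 0, 0, 6, 0, 0], [2, 3, 0, 0, 5, 6, 7, 0]], [[2, 0, 4, 0, 0, 1, 0, 7], [2, 0, 4, 3, 0, 6, 0, 0], [2, 0, 4, 5, 0, 0, 0, 0], [2, 0, 4, 0, 0, 6, 7, 0], [2, 5, 0, 0, 3, 1, 0, 7], [2, 0, 4, 0, 0, 0, 0, 0], [2, 0, 4, 3, 0, 6, 7, 0], [2, 0, 4, 5, 6, 0, 1, 0], [2, 0, 4, 5, 0, 0, 7, 0], [0, 5, 0, 4, 3, 1, 0, 7], [2, 5, 0, 0, 3, 0, 0, 0], [2, 0, 4, 0, 6, 0, 1, 0], [2, 0, 4, 0, 0, 0, 7, 0], [2, 0, 4, 5, 6, 0, 0, 0], [0, 5, 2, 4, 3, 1, 0,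 7], [0, 5, 0, 4, 3, 0, 0, 0]], [[2, 5, 0, 0, 0, 0, 1, 0], [2, 5, 0, 0, 3, 0, 7, 0], [2, 0, 4, 0, 6, 0, 0, 0], [2, 0, 4, 5, 6, 7, 0, 1], [0, 5, 2, 4, 3, 0, 0, 0], [0, 5, 0, 4, 0, 0, 1, 0], [0, 5, 0, 4, 3, 0, 7, 0], [2, 5, 0, 6, 0, 3, 1, 0], [2, 5, 0, 0, 0, 0, 0, 0], [2, 0, 4, 0, 6, 7, 0, 1], [0, 5, 2, 4, 0, 0, 1, 0], [0, 5, 2, 4, 3, 0, 7, 0], [0, 5, 0, 0, 0, 3, 1, 0], [0, 5, 0, 4, 0, 0, 0, 0], [2, 5, 0, 6, 0, 3, 0, 0], [2, 5, 0, 0, 0, 7, 0, 1]], [[0, 5, 2, 0, 0, 3, 1, 0], [0, 5, 2, 4, 0, 0, 0, 0], [0, 0, 6, 0, 4, 3, 1, 0], [0, 5, 0, 0, 0, 3, 0, 0], [0, 5, 0, 4, 0, 7, 0, 1], [2, 5, 0, 6, 0, 0, 0, 1], [0, 0, 0, 0, 4, 3, 1, 0], [0, 5, 2, 0, 0, 3, 0, 0], [0, 5, 2, 4, 0, 7, 0, 1], [0, 0, 6, 5, 4, 3, 1, 0],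 [0, 0, 6, 0, 4, 3, 0, 0], [0, 5, 0, 0, 0, 0, 0, 1], [2, 5, 0, 6, 7, 0, 3, 1], [0, 0, 0, 5, 4, 3, 1, 0], [6, 0, 0, 2, 4, 3, 1, 0], [0, 0, 0, 0, 4, 3, 0, 0]], [[0, 5, 2, 0, 0, 0, 0, 1], [0, 0, 6, 5, 4, 3, 0, 0], [0, 0, 6, 0, 4, 0, 0, 1], [0, 5, 0, 0, 7, 0, 3, 1], [6, 0, 0, 0, 4, 3, 1, 0], [0, 0, 0, 5, 4, 3, 0, 0], [6, 0, 0, 2, 4, 3, 0, 0], [0, 0, 0, 0, 4, 0, 0, 1], [0, 5, 2, 0, 7, 0, 3, 1], [0, 0, 6, 5, 4, 0, 0, 1], [0, 0, 6, 0, 0, 0, 3, 1], [6, 2, 5, 0, 0, 3, 1, 0], [6, 0, 0, 0, 4, 3, 0, 0], [0, 0, 0, 5, 4, 0, 0, 1], [6, 0, 0, 2, 4, 0, 0, 1], [0, 0, 0, 0, 0, 0, 3, 1]], [[0, 0, 6, 5, 0, 0, 3, 1], [0, 0, 6, 7, 0, 4, 3, 1], [6, 2, 5, 4, 0, 0, 1, 0], [6, 2, 5, 0, 0, 3, 0, 0], [6, 0, 0, 0, 4, 0, 0, 1], [0,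 0, 0, 5, 0, 0, 3, 1], [6, 0, 0, 2, 0, 0, 3, 1], [0, 0, 0, 7, 0, 4, 3, 1], [0, 0, 6, 0, 0, 4, 3, 1], [6, 2, 5, 4, 3, 0, 0, 0], [6, 2, 5, 4, 0, 0, 0, 0], [6, 2, 5, 0, 0, 0, 0, 1], [6, 0, 0, 0, 0, 0, 3, 1], [0, 0, 0, 0, 0, 4, 3, 1], [6, 0, 0, 0, 0, 4, 3, 1], [0, 7, 0, 0, 5, 4, 3, 1]], [[6, 2, 5, 4, 3, 1, 0, 0], [6, 2, 5, 4, 3, 0, 0, 0], [6, 2, 5, 4, 0, 0, 0, 1], [6, 2, 5, 0, 0, 0, 3, 1], [6, 0, 0, 0, 0, 4, 3, 1], [0, 7, 0, 0, 5, 4, 3, 1], [6, 0, 7, 0, 2, 4, 3, 1], [0, 7, 0, 6, 5, 4, 3, 1], [6, 2, 5, 4, 3, 1, 0, 0], [6, 2, 5, 4, 3, 0, 0, 0], [6, 2, 5, 4, 0, 0, 0, 1], [6, 2, 5, 0, 0, 0, 3, 1], [6, 0, 0, 0, 0, 4, 3, 1], [0, 7, 0, 0, 5, 4, 3, 1], [6, 0, 7, 0, 2, 4, 3, 1], [0, 7, 0, 6, 5, 4, 3, 1]], [[6, 2, 5,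 4, 3, 0, 0, 0], [6, 2, 5, 4, 0, 0, 0, 0], [6, 2, 5, 0, 0, 0, 0, 1], [6, 0, 0, 0, 0, 0, 3, 1], [6, 0, 0, 0, 0, 4, 3, 1], [0, 0, 0, 0, 0, 4, 3, 1], [0, 7, 0, 0, 5, 4, 3, 1], [6, 2, 5, 4, 0, 0, 1, 0], [6, 2, 5, 0, 0, 3, 0, 0], [6, 0, 0, 0, 4, 0, 0, 1], [6, 0, 0, 2, 0, 0, 3, 1], [0, 0, 0, 5, 0, 0, 3, 1], [0, 0, 0, 7, 0, 4, 3, 1], [0, 0, 6, 0, 0, 4, 3, 1], [6, 2, 5, 0, 0, 3, 1, 0], [6, 0, 0, 0, 4, 3, 0, 0]], [[6, 0, 0, 2, 4, 0, 0, 1], [0, 0, 0, 5, 4, 0, 0, 1], [0, 0, 0, 0, 0, 0, 3, 1], [0, 0, 6, 5, 0, 0, 3, 1], [0, 0, 6, 7, 0, 4, 3, 1], [6, 0, 0, 0, 4, 3, 1, 0], [6, 0, 0, 2, 4, 3, 0, 0], [0, 0, 0, 5, 4, 3, 0, 0], [0, 0, 0, 0, 4, 0, 0, 1], [0, 0, 6, 5, 4, 0, 0, 1], [0, 0, 6, 0, 0, 0, 3, 1], [0, 5, 2, 0, 7,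 0, 3, 1], [6, 0, 0, 2, 4, 3, 1, 0], [0, 0, 0, 5, 4, 3, 1, 0], [0, 0, 0, 0, 4, 3, 0, 0], [0, 0, 6, 5, 4, 3, 0, 0]], [[0, 0, 6, 0, 4, 0, 0, 1], [0, 5, 2, 0, 0, 0, 0, 1], [0, 5, 0, 0, 7, 0, 3, 1], [0, 0, 0, 0, 4, 3, 1, 0], [0, 0, 6, 5, 4, 3, 1, 0], [0, 0, 6, 0, 4, 3, 0, 0], [0, 5, 2, 0, 0, 3, 0, 0], [0, 5, 0, 0, 0, 0, 0, 1], [0, 5, 2, 4, 0, 7, 0, 1], [2, 5, 0, 6, 7, 0, 3, 1], [0, 0, 6, 0, 4, 3, 1, 0], [0, 5, 2, 0, 0, 3, 1, 0], [0, 5, 0, 0, 0, 3, 0, 0], [0, 5, 2, 4, 0, 0, 0, 0], [2, 5, 0, 6, 0, 0, 0, 1], [0, 5, 0, 4, 0, 7, 0, 1]], [[0, 5, 0, 0, 0, 3, 1, 0], [0, 5, 2, 4, 0, 0, 1, 0], [2, 5, 0, 6, 0, 3, 0, 0], [0, 5, 0, 4, 0, 0, 0, 0], [0, 5, 2, 4, 3, 0, 7, 0], [2, 5, 0, 0, 0, 7, 0, 1], [2, 5, 0, 6, 0, 3, 1,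 0], [0, 5, 0, 4, 0, 0, 1, 0], [0, 5, 2, 4, 3, 0, 0, 0], [2, 5, 0, 0, 0, 0, 0, 0], [0, 5, 0, 4, 3, 0, 7, 0], [2, 0, 4, 0, 6, 7, 0, 1], [2, 5, 0, 0, 0, 0, 1, 0], [0, 5, 0, 4, 3, 0, 0, 0], [0, 5, 2, 4, 3, 1, 0, 7], [2, 0, 4, 0, 6, 0, 0, 0]], [[2, 5, 0, 0, 3, 0, 7, 0], [2, 0, 4, 5, 6, 7, 0, 1], [2, 0, 4, 0, 6, 0, 1, 0], [2, 5, 0, 0, 3, 0, 0, 0], [0, 5, 0, 4, 3, 1, 0, 7], [2, 0, 4, 5, 6, 0, 0, 0], [2, 0, 4, 0, 0, 0, 7, 0], [2, 0, 4, 5, 6, 0, 1, 0], [2, 0, 4, 0, 0, 0, 0, 0], [2, 5, 0, 0, 3, 1, 0, 7], [2, 0, 4, 5, 0, 0, 7, 0], [2, 0, 4, 3, 0, 6, 7, 0], [2, 0, 4, 5, 0, 0, 0, 0], [2, 0, 4, 3, 0, 6, 0, 0], [2, 0, 4, 0, 0, 1, 0, 7], [2, 0, 4, 0, 0, 6, 7, 0]], [[2, 0, 4, 0, 0, 6, 0, 0], [2, 0, 4, 5, 0, 1, 0, 7],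 [2, 0, 4, 3, 0, 0, 0, 7], [2, 3, 0, 0, 5, 6, 7, 0], [2, 3, 0, 0, 5, 6, 0, 0], [2, 0, 4, 0, 0, 0, 0, 7], [2, 0, 4, 3, 1, 0, 6, 7], [0, 3, 0, 4, 5, 6, 7, 0], [0, 3, 0, 4, 5, 6, 0, 0], [2, 3, 0, 0, 5, 0, 0, 7], [2, 0, 4, 0, 1, 0, 6, 7], [0, 3, 2, 4, 5, 6, 7, 0], [0, 3, 2, 4, 5, 6, 0, 0], [0, 3, 0, 4, 5, 0, 0, 7], [2, 3, 0, 0, 0, 0, 6, 7], [0, 3, 2, 4, 5, 0, 0, 7]], [[0, 3, 0, 4, 0, 0, 6, 7], [2, 3, 0, 1, 0, 5, 6, 7], [0, 3, 2, 4, 0, 0, 6, 7], [0, 3, 0, 0, 0, 5, 6, 7], [0, 3, 2, 0, 0, 5, 6, 7], [0, 0, 1, 0, 4, 5, 6, 7], [0, 0, 0, 0, 4, 5, 6, 7], [0, 0, 1, 3, 4, 5, 6, 7], [0, 0, 0, 3, 4, 5, 6, 7], [1, 0, 0, 2, 4, 5, 6, 7], [1, 0, 0, 0, 4, 5, 6, 7], [1, 2, 3, 0, 0, 5, 6, 7], [1, 2, 3, 4, 0, 0, 6, 7], [1, 2,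 3, 4, 5, 0, 0, 7], [1, 2, 3, 4, 5, 6, 0, 0], [1, 2, 3, 4, 5, 6, 7, 0]]]

def E8_8t : List (List (List ℕ)) :=
  [[[], [7], [7, 6], [7, 6, 5], [7, 6, 5, 4], [7, 6, 5, 4, 3], [7, 6, 5, 4, 3, 1], [7, 6, 5, 4, 3, 2], [7, 6, 5, 4, 3, 1, 2], [7, 6, 5, 4, 3, 2, 0], [7, 6, 5, 4, 3, 1, 2, 0], [7, 6, 5, 4, 3, 1, 2, 3], [7, 6, 5, 4, 3, 1, 2, 0, 3], [7, 6, 5, 4, 3, 1, 2, 3, 4], [7, 6, 5, 4, 3, 1, 2, 0, 3, 2], [7, 6, 5, 4, 3, 1, 2, 0, 3, 4]], [[7, 6, 5, 4, 3, 1, 2, 3, 4, 5], [7, 6, 5, 4, 3, 1, 2, 0, 3, 2, 4], [7, 6, 5, 4, 3, 1, 2, 0, 3, 4, 5], [7, 6, 5, 4, 3, 1, 2, 3, 4, 5, 6], [7, 6, 5, 4, 3, 1, 2, 0, 3, 2, 4, 3], [7, 6, 5, 4, 3, 1, 2, 0, 3, 2, 4, 5], [7, 6, 5, 4, 3, 1, 2, 0, 3, 4, 5, 6], [7, 6, 5, 4, 3, 1, 2, 3,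 4, 5, 6, 7], [7, 6, 5, 4, 3, 1, 2, 0, 3, 2, 4, 3, 1], [7, 6, 5, 4, 3, 1, 2, 0, 3, 2, 4, 3, 5], [7, 6, 5, 4, 3, 1, 2, 0, 3, 2, 4, 5, 6], [7, 6, 5, 4, 3, 1, 2, 0, 3, 4, 5, 6, 7], [7, 6, 5, 4, 3, 1, 2, 0, 3, 2, 4, 3, 1, 5], [7, 6, 5, 4, 3, 1, 2, 0, 3, 2, 4, 3, 5, 4], [7, 6, 5, 4, 3, 1, 2, 0, 3, 2, 4, 3, 5, 6], [7, 6, 5, 4, 3, 1, 2, 0, 3, 2, 4, 5, 6, 7]], [[7, 6, 5, 4, 3, 1, 2, 0, 3, 2, 4, 3, 1, 5, 4], [7, 6, 5, 4, 3, 1, 2, 0, 3, 2, 4, 3, 1, 5, 6], [7, 6, 5, 4, 3, 1, 2, 0, 3, 2, 4, 3, 5, 4, 6], [7, 6, 5, 4, 3, 1, 2, 0, 3, 2, 4, 3, 5, 6, 7], [7, 6, 5, 4, 3, 1, 2, 0, 3, 2, 4, 3, 1, 5, 4, 3], [7, 6, 5, 4, 3, 1, 2, 0, 3, 2, 4, 3, 1, 5, 4, 6], [7, 6, 5, 4, 3, 1, 2, 0, 3, 2, 4, 3, 1, 5, 6, 7], [7, 6, 5, 4, 3, 1,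 2, 0, 3, 2, 4, 3, 5, 4, 6, 5], [7, 6, 5, 4, 3, 1, 2, 0, 3, 2, 4, 3, 5, 4, 6, 7], [7, 6, 5, 4, 3, 1, 2, 0, 3, 2, 4, 3, 1, 5, 4, 3, 2], [7, 6, 5, 4, 3, 1, 2, 0, 3, 2, 4, 3, 1, 5, 4, 3, 6], [7, 6, 5, 4, 3, 1, 2, 0, 3, 2, 4, 3, 1, 5, 4, 6, 5], [7, 6, 5, 4, 3, 1, 2, 0, 3, 2, 4, 3, 1, 5, 4, 6, 7], [7, 6, 5, 4, 3, 1, 2, 0, 3, 2, 4, 3, 5, 4, 6, 5, 7], [7, 6, 5, 4, 3, 1, 2, 0, 3, 2, 4, 3, 1, 5, 4, 3, 2, 0], [7, 6, 5, 4, 3, 1, 2, 0, 3, 2, 4, 3, 1, 5, 4, 3, 2, 6]], [[7, 6, 5, 4, 3, 1, 2, 0, 3, 2, 4, 3, 1, 5, 4, 3, 6, 5], [7, 6, 5, 4, 3, 1, 2, 0, 3, 2, 4, 3, 1, 5, 4, 3, 6, 7], [7, 6, 5, 4, 3, 1, 2, 0, 3, 2, 4, 3, 1, 5, 4, 6, 5, 7], [7, 6, 5, 4, 3, 1, 2, 0, 3, 2, 4, 3, 5, 4, 6, 5, 7, 6], [7, 6, 5, 4, 3, 1, 2, 0, 3,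 2, 4, 3, 1, 5, 4, 3, 2, 0, 6], [7, 6, 5, 4, 3, 1, 2, 0, 3, 2, 4, 3, 1, 5, 4, 3, 2, 6, 5], [7, 6, 5, 4, 3, 1, 2, 0, 3, 2, 4, 3, 1, 5, 4, 3, 2, 6, 7], [7, 6, 5, 4, 3, 1, 2, 0, 3, 2, 4, 3, 1, 5, 4, 3, 6, 5, 4], [7, 6, 5, 4, 3, 1, 2, 0, 3, 2, 4, 3, 1, 5, 4, 3, 6, 5, 7], [7, 6, 5, 4, 3, 1, 2, 0, 3, 2, 4, 3, 1, 5, 4, 6, 5, 7, 6], [7, 6, 5, 4, 3, 1, 2, 0, 3, 2, 4, 3, 1, 5, 4, 3, 2, 0, 6, 5], [7, 6, 5, 4, 3, 1, 2, 0, 3, 2, 4, 3, 1, 5, 4, 3, 2, 0, 6, 7], [7, 6, 5, 4, 3, 1, 2, 0, 3, 2, 4, 3, 1, 5, 4, 3, 2, 6, 5, 4], [7, 6, 5, 4, 3, 1, 2, 0, 3, 2, 4, 3, 1, 5, 4, 3, 2, 6, 5, 7], [7, 6, 5, 4, 3, 1, 2, 0, 3, 2, 4, 3, 1, 5, 4, 3, 6, 5, 4, 7], [7, 6, 5, 4, 3, 1, 2, 0, 3, 2, 4, 3, 1, 5, 4, 3, 6, 5, 7, 6]], [[7, 6, 5,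 4, 3, 1, 2, 0, 3, 2, 4, 3, 1, 5, 4, 3, 2, 0, 6, 5, 4], [7, 6, 5, 4, 3, 1, 2, 0, 3, 2, 4, 3, 1, 5, 4, 3, 2, 0, 6, 5, 7], [7, 6, 5, 4, 3, 1, 2, 0, 3, 2, 4, 3, 1, 5, 4, 3, 2, 6, 5, 4, 3], [7, 6, 5, 4, 3, 1, 2, 0, 3, 2, 4, 3, 1, 5, 4, 3, 2, 6, 5, 4, 7], [7, 6, 5, 4, 3, 1, 2, 0, 3, 2, 4, 3, 1, 5, 4, 3, 2, 6, 5, 7, 6], [7, 6, 5, 4, 3, 1, 2, 0, 3, 2, 4, 3, 1, 5, 4, 3, 6, 5, 4, 7, 6], [7, 6, 5, 4, 3, 1, 2, 0, 3, 2, 4, 3, 1, 5, 4, 3, 2, 0, 6, 5, 4, 3], [7, 6, 5, 4, 3, 1, 2, 0, 3, 2, 4, 3, 1, 5, 4, 3, 2, 0, 6, 5, 4, 7], [7, 6, 5, 4, 3, 1, 2, 0, 3, 2, 4, 3, 1, 5, 4, 3, 2, 0, 6, 5, 7, 6], [7, 6, 5, 4, 3, 1, 2, 0, 3, 2, 4, 3, 1, 5, 4, 3, 2, 6, 5, 4, 3, 1], [7, 6, 5, 4, 3, 1, 2, 0, 3, 2, 4, 3, 1, 5, 4, 3, 2, 6, 5,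 4, 3, 7], [7, 6, 5, 4, 3, 1, 2, 0, 3, 2, 4, 3, 1, 5, 4, 3, 2, 6, 5, 4, 7, 6], [7, 6, 5, 4, 3, 1, 2, 0, 3, 2, 4, 3, 1, 5, 4, 3, 6, 5, 4, 7, 6, 5], [7, 6, 5, 4, 3, 1, 2, 0, 3, 2, 4, 3, 1, 5, 4, 3, 2, 0, 6, 5, 4, 3, 1], [7, 6, 5, 4, 3, 1, 2, 0, 3, 2, 4, 3, 1, 5, 4, 3, 2, 0, 6, 5, 4, 3, 2], [7, 6, 5, 4, 3, 1, 2, 0, 3, 2, 4, 3, 1, 5, 4, 3, 2, 0, 6, 5, 4, 3, 7]], [[7, 6, 5, 4, 3, 1, 2, 0, 3, 2, 4, 3, 1, 5, 4, 3, 2, 0, 6, 5, 4, 7, 6], [7, 6, 5, 4, 3, 1, 2, 0, 3, 2, 4, 3, 1, 5, 4, 3, 2, 6, 5, 4, 3, 1, 7], [7, 6, 5, 4, 3, 1, 2, 0, 3, 2, 4, 3, 1, 5, 4, 3, 2, 6, 5, 4, 3, 7, 6], [7, 6, 5, 4, 3, 1, 2, 0, 3, 2, 4, 3, 1, 5, 4, 3, 2, 6, 5, 4, 7, 6, 5], [7, 6, 5, 4, 3, 1, 2, 0, 3, 2, 4, 3, 1, 5, 4, 3, 2, 0, 6, 5, 4, 3,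 1, 2], [7, 6, 5, 4, 3, 1, 2, 0, 3, 2, 4, 3, 1, 5, 4, 3, 2, 0, 6, 5, 4, 3, 1, 7], [7, 6, 5, 4, 3, 1, 2, 0, 3, 2, 4, 3, 1, 5, 4, 3, 2, 0, 6, 5, 4, 3, 2, 7], [7, 6, 5, 4, 3, 1, 2, 0, 3, 2, 4, 3, 1, 5, 4, 3, 2, 0, 6, 5, 4, 3, 7, 6], [7, 6, 5, 4, 3, 1, 2, 0, 3, 2, 4, 3, 1, 5, 4, 3, 2, 0, 6, 5, 4, 7, 6, 5], [7, 6, 5, 4, 3, 1, 2, 0, 3, 2, 4, 3, 1, 5, 4, 3, 2, 6, 5, 4, 3, 1, 7, 6], [7, 6, 5, 4, 3, 1, 2, 0, 3, 2, 4, 3, 1, 5, 4, 3, 2, 6, 5, 4, 3, 7, 6, 5], [7, 6, 5, 4, 3, 1, 2, 0, 3, 2, 4, 3, 1, 5, 4, 3, 2, 0, 6, 5, 4, 3, 1, 2, 3], [7, 6, 5, 4, 3, 1, 2, 0, 3, 2, 4, 3, 1, 5, 4, 3, 2, 0, 6, 5, 4, 3, 1, 2, 7], [7, 6, 5, 4, 3, 1, 2, 0, 3, 2, 4, 3, 1, 5, 4, 3, 2, 0, 6, 5, 4, 3, 1, 7, 6], [7, 6, 5, 4, 3, 1, 2, 0, 3,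 2, 4, 3, 1, 5, 4, 3, 2, 0, 6, 5, 4, 3, 2, 7, 6], [7, 6, 5, 4, 3, 1, 2, 0, 3, 2, 4, 3, 1, 5, 4, 3, 2, 0, 6, 5, 4, 3, 7, 6, 5]], [[7, 6, 5, 4, 3, 1, 2, 0, 3, 2, 4, 3, 1, 5, 4, 3, 2, 6, 5, 4, 3, 1, 7, 6, 5], [7, 6, 5, 4, 3, 1, 2, 0, 3, 2, 4, 3, 1, 5, 4, 3, 2, 6, 5, 4, 3, 7, 6, 5, 4], [7, 6, 5, 4, 3, 1, 2, 0, 3, 2, 4, 3, 1, 5, 4, 3, 2, 0, 6, 5, 4, 3, 1, 2, 3, 4], [7, 6, 5, 4, 3, 1, 2, 0, 3, 2, 4, 3, 1, 5, 4, 3, 2, 0, 6, 5, 4, 3, 1, 2, 3, 7], [7, 6, 5, 4, 3, 1, 2, 0, 3, 2, 4, 3, 1, 5, 4, 3, 2, 0, 6, 5, 4, 3, 1, 2, 7, 6], [7, 6, 5, 4, 3, 1, 2, 0, 3, 2, 4, 3, 1, 5, 4, 3, 2, 0, 6, 5, 4, 3, 1, 7, 6, 5], [7, 6, 5, 4, 3, 1, 2, 0, 3, 2, 4, 3, 1, 5, 4, 3, 2, 0, 6, 5, 4, 3, 2, 7, 6, 5], [7, 6, 5, 4, 3, 1, 2, 0, 3,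 2, 4, 3, 1, 5, 4, 3, 2, 0, 6, 5, 4, 3, 7, 6, 5, 4], [7, 6, 5, 4, 3, 1, 2, 0, 3, 2, 4, 3, 1, 5, 4, 3, 2, 6, 5, 4, 3, 1, 7, 6, 5, 4], [7, 6, 5, 4, 3, 1, 2, 0, 3, 2, 4, 3, 1, 5, 4, 3, 2, 0, 6, 5, 4, 3, 1, 2, 3, 4, 5], [7, 6, 5, 4, 3, 1, 2, 0, 3, 2, 4, 3, 1, 5, 4, 3, 2, 0, 6, 5, 4, 3, 1, 2, 3, 4, 7], [7, 6, 5, 4, 3, 1, 2, 0, 3, 2, 4, 3, 1, 5, 4, 3, 2, 0, 6, 5, 4, 3, 1, 2, 3, 7, 6], [7, 6, 5, 4, 3, 1, 2, 0, 3, 2, 4, 3, 1, 5, 4, 3, 2, 0, 6, 5, 4, 3, 1, 2, 7, 6, 5], [7, 6, 5, 4, 3, 1, 2, 0, 3, 2, 4, 3, 1, 5, 4, 3, 2, 0, 6, 5, 4, 3, 1, 7, 6, 5, 4], [7, 6, 5, 4, 3, 1, 2, 0, 3, 2, 4, 3, 1, 5, 4, 3, 2, 0, 6, 5, 4, 3, 2, 7, 6, 5, 4], [7, 6, 5, 4, 3, 1, 2, 0, 3, 2, 4, 3, 1, 5, 4, 3, 2, 6, 5, 4, 3, 1, 7, 6, 5, 4, 3]],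 [[7, 6, 5, 4, 3, 1, 2, 0, 3, 2, 4, 3, 1, 5, 4, 3, 2, 0, 6, 5, 4, 3, 1, 2, 3, 4, 5, 6], [7, 6, 5, 4, 3, 1, 2, 0, 3, 2, 4, 3, 1, 5, 4, 3, 2, 0, 6, 5, 4, 3, 1, 2, 3, 4, 5, 7], [7, 6, 5, 4, 3, 1, 2, 0, 3, 2, 4, 3, 1, 5, 4, 3, 2, 0, 6, 5, 4, 3, 1, 2, 3, 4, 7, 6], [7, 6, 5, 4, 3, 1, 2, 0, 3, 2, 4, 3, 1, 5, 4, 3, 2, 0, 6, 5, 4, 3, 1, 2, 3, 7, 6, 5], [7, 6, 5, 4, 3, 1, 2, 0, 3, 2, 4, 3, 1, 5, 4, 3, 2, 0, 6, 5, 4, 3, 1, 2, 7, 6, 5, 4], [7, 6, 5, 4, 3, 1, 2, 0, 3, 2, 4, 3, 1, 5, 4, 3, 2, 0, 6, 5, 4, 3, 1, 7, 6, 5, 4, 3], [7, 6, 5, 4, 3, 1, 2, 0, 3, 2, 4, 3, 1, 5, 4, 3, 2, 0, 6, 5, 4, 3, 2, 7, 6, 5, 4, 3], [7, 6, 5, 4, 3, 1, 2, 0, 3, 2, 4, 3, 1, 5, 4, 3, 2, 6, 5, 4, 3, 1, 7, 6, 5, 4, 3, 2], [7, 6, 5, 4, 3, 1, 2,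 0, 3, 2, 4, 3, 1, 5, 4, 3, 2, 0, 6, 5, 4, 3, 1, 2, 3, 4, 5, 6, 7], [7, 6, 5, 4, 3, 1, 2, 0, 3, 2, 4, 3, 1, 5, 4, 3, 2, 0, 6, 5, 4, 3, 1, 2, 3, 4, 5, 7, 6], [7, 6, 5, 4, 3, 1, 2, 0, 3, 2, 4, 3, 1, 5, 4, 3, 2, 0, 6, 5, 4, 3, 1, 2, 3, 4, 7, 6, 5], [7, 6, 5, 4, 3, 1, 2, 0, 3, 2, 4, 3, 1, 5, 4, 3, 2, 0, 6, 5, 4, 3, 1, 2, 3, 7, 6, 5, 4], [7, 6, 5, 4, 3, 1, 2, 0, 3, 2, 4, 3, 1, 5, 4, 3, 2, 0, 6, 5, 4, 3, 1, 2, 7, 6, 5, 4, 3], [7, 6, 5, 4, 3, 1, 2, 0, 3, 2, 4, 3, 1, 5, 4, 3, 2, 0, 6, 5, 4, 3, 1, 7, 6, 5, 4, 3, 2], [7, 6, 5, 4, 3, 1, 2, 0, 3, 2, 4, 3, 1, 5, 4, 3, 2, 0, 6, 5, 4, 3, 2, 7, 6, 5, 4, 3, 1], [7, 6, 5, 4, 3, 1, 2, 0, 3, 2, 4, 3, 1, 5, 4, 3, 2, 6, 5, 4, 3, 1, 7, 6, 5, 4, 3, 2, 0]], [[7, 6, 5, 4, 3, 1,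 2, 0, 3, 2, 4, 3, 1, 5, 4, 3, 2, 0, 6, 5, 4, 3, 1, 2, 3, 4, 5, 6, 7, 6], [7, 6, 5, 4, 3, 1, 2, 0, 3, 2, 4, 3, 1, 5, 4, 3, 2, 0, 6, 5, 4, 3, 1, 2, 3, 4, 5, 7, 6, 5], [7, 6, 5, 4, 3, 1, 2, 0, 3, 2, 4, 3, 1, 5, 4, 3, 2, 0, 6, 5, 4, 3, 1, 2, 3, 4, 7, 6, 5, 4], [7, 6, 5, 4, 3, 1, 2, 0, 3, 2, 4, 3, 1, 5, 4, 3, 2, 0, 6, 5, 4, 3, 1, 2, 3, 7, 6, 5, 4, 3], [7, 6, 5, 4, 3, 1, 2, 0, 3, 2, 4, 3, 1, 5, 4, 3, 2, 0, 6, 5, 4, 3, 1, 2, 7, 6, 5, 4, 3, 1], [7, 6, 5, 4, 3, 1, 2, 0, 3, 2, 4, 3, 1, 5, 4, 3, 2, 0, 6, 5, 4, 3, 1, 2, 7, 6, 5, 4, 3, 2], [7, 6, 5, 4, 3, 1, 2, 0, 3, 2, 4, 3, 1, 5, 4, 3, 2, 0, 6, 5, 4, 3, 1, 7, 6, 5, 4, 3, 2, 0], [7, 6, 5, 4, 3, 1, 2, 0, 3, 2, 4, 3, 1, 5, 4, 3, 2, 0, 6, 5, 4, 3, 1, 2, 3, 4, 5, 6,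 7, 6, 5], [7, 6, 5, 4, 3, 1, 2, 0, 3, 2, 4, 3, 1, 5, 4, 3, 2, 0, 6, 5, 4, 3, 1, 2, 3, 4, 5, 7, 6, 5, 4], [7, 6, 5, 4, 3, 1, 2, 0, 3, 2, 4, 3, 1, 5, 4, 3, 2, 0, 6, 5, 4, 3, 1, 2, 3, 4, 7, 6, 5, 4, 3], [7, 6, 5, 4, 3, 1, 2, 0, 3, 2, 4, 3, 1, 5, 4, 3, 2, 0, 6, 5, 4, 3, 1, 2, 3, 7, 6, 5, 4, 3, 1], [7, 6, 5, 4, 3, 1, 2, 0, 3, 2, 4, 3, 1, 5, 4, 3, 2, 0, 6, 5, 4, 3, 1, 2, 3, 7, 6, 5, 4, 3, 2], [7, 6, 5, 4, 3, 1, 2, 0, 3, 2, 4, 3, 1, 5, 4, 3, 2, 0, 6, 5, 4, 3, 1, 2, 7, 6, 5, 4, 3, 1, 2], [7, 6, 5, 4, 3, 1, 2, 0, 3, 2, 4, 3, 1, 5, 4, 3, 2, 0, 6, 5, 4, 3, 1, 2, 7, 6, 5, 4, 3, 2, 0], [7, 6, 5, 4, 3, 1, 2, 0, 3, 2, 4, 3, 1, 5, 4, 3, 2, 0, 6, 5, 4, 3, 1, 2, 3, 4, 5, 6, 7, 6, 5, 4], [7, 6, 5, 4, 3, 1, 2, 0, 3, 2, 4,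 3, 1, 5, 4, 3, 2, 0, 6, 5, 4, 3, 1, 2, 3, 4, 5, 7, 6, 5, 4, 3]], [[7, 6, 5, 4, 3, 1, 2, 0, 3, 2, 4, 3, 1, 5, 4, 3, 2, 0, 6, 5, 4, 3, 1, 2, 3, 4, 7, 6, 5, 4, 3, 1], [7, 6, 5, 4, 3, 1, 2, 0, 3, 2, 4, 3, 1, 5, 4, 3, 2, 0, 6, 5, 4, 3, 1, 2, 3, 4, 7, 6, 5, 4, 3, 2], [7, 6, 5, 4, 3, 1, 2, 0, 3, 2, 4, 3, 1, 5, 4, 3, 2, 0, 6, 5, 4, 3, 1, 2, 3, 7, 6, 5, 4, 3, 1, 2], [7, 6, 5, 4, 3, 1, 2, 0, 3, 2, 4, 3, 1, 5, 4, 3, 2, 0, 6, 5, 4, 3, 1, 2, 3, 7, 6, 5, 4, 3, 2, 0], [7, 6, 5, 4, 3, 1, 2, 0, 3, 2, 4, 3, 1, 5, 4, 3, 2, 0, 6, 5, 4, 3, 1, 2, 7, 6, 5, 4, 3, 1, 2, 0], [7, 6, 5, 4, 3, 1, 2, 0, 3, 2, 4, 3, 1, 5, 4, 3, 2, 0, 6, 5, 4, 3, 1, 2, 3, 4, 5, 6, 7, 6, 5, 4, 3], [7, 6, 5, 4, 3, 1, 2, 0, 3, 2, 4, 3, 1, 5, 4, 3, 2, 0,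 6, 5, 4, 3, 1, 2, 3, 4, 5, 7, 6, 5, 4, 3, 1], [7, 6, 5, 4, 3, 1, 2, 0, 3, 2, 4, 3, 1, 5, 4, 3, 2, 0, 6, 5, 4, 3, 1, 2, 3, 4, 5, 7, 6, 5, 4, 3, 2], [7, 6, 5, 4, 3, 1, 2, 0, 3, 2, 4, 3, 1, 5, 4, 3, 2, 0, 6, 5, 4, 3, 1, 2, 3, 4, 7, 6, 5, 4, 3, 1, 2], [7, 6, 5, 4, 3, 1, 2, 0, 3, 2, 4, 3, 1, 5, 4, 3, 2, 0, 6, 5, 4, 3, 1, 2, 3, 4, 7, 6, 5, 4, 3, 2, 0], [7, 6, 5, 4, 3, 1, 2, 0, 3, 2, 4, 3, 1, 5, 4, 3, 2, 0, 6, 5, 4, 3, 1, 2, 3, 7, 6, 5, 4, 3, 1, 2, 0], [7, 6, 5, 4, 3, 1, 2, 0, 3, 2, 4, 3, 1, 5, 4, 3, 2, 0, 6, 5, 4, 3, 1, 2, 3, 7, 6, 5, 4, 3, 1, 2, 3], [7, 6, 5, 4, 3, 1, 2, 0, 3, 2, 4, 3, 1, 5, 4, 3, 2, 0, 6, 5, 4, 3, 1, 2, 3, 4, 5, 6, 7, 6, 5, 4, 3, 1], [7, 6, 5, 4, 3, 1, 2, 0, 3, 2, 4, 3, 1, 5, 4, 3, 2, 0,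 6, 5, 4, 3, 1, 2, 3, 4, 5, 6, 7, 6, 5, 4, 3, 2], [7, 6, 5, 4, 3, 1, 2, 0, 3, 2, 4, 3, 1, 5, 4, 3, 2, 0, 6, 5, 4, 3, 1, 2, 3, 4, 5, 7, 6, 5, 4, 3, 1, 2], [7, 6, 5, 4, 3, 1, 2, 0, 3, 2, 4, 3, 1, 5, 4, 3, 2, 0, 6, 5, 4, 3, 1, 2, 3, 4, 5, 7, 6, 5, 4, 3, 2, 0]], [[7, 6, 5, 4, 3, 1, 2, 0, 3, 2, 4, 3, 1, 5, 4, 3, 2, 0, 6, 5, 4, 3, 1, 2, 3, 4, 7, 6, 5, 4, 3, 1, 2, 0], [7, 6, 5, 4, 3, 1, 2, 0, 3, 2, 4, 3, 1, 5, 4, 3, 2, 0, 6, 5, 4, 3, 1, 2, 3, 4, 7, 6, 5, 4, 3, 1, 2, 3], [7, 6, 5, 4, 3, 1, 2, 0, 3, 2, 4, 3, 1, 5, 4, 3, 2, 0, 6, 5, 4, 3, 1, 2, 3, 7, 6, 5, 4, 3, 1, 2, 0, 3], [7, 6, 5, 4, 3, 1, 2, 0, 3, 2, 4, 3, 1, 5, 4, 3, 2, 0, 6, 5, 4, 3, 1, 2, 3, 4, 5, 6, 7, 6, 5, 4, 3, 1, 2], [7, 6, 5, 4, 3, 1, 2, 0, 3, 2, 4,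 3, 1, 5, 4, 3, 2, 0, 6, 5, 4, 3, 1, 2, 3, 4, 5, 6, 7, 6, 5, 4, 3, 2, 0], [7, 6, 5, 4, 3, 1, 2, 0, 3, 2, 4, 3, 1, 5, 4, 3, 2, 0, 6, 5, 4, 3, 1, 2, 3, 4, 5, 7, 6, 5, 4, 3, 1, 2, 0], [7, 6, 5, 4, 3, 1, 2, 0, 3, 2, 4, 3, 1, 5, 4, 3, 2, 0, 6, 5, 4, 3, 1, 2, 3, 4, 5, 7, 6, 5, 4, 3, 1, 2, 3], [7, 6, 5, 4, 3, 1, 2, 0, 3, 2, 4, 3, 1, 5, 4, 3, 2, 0, 6, 5, 4, 3, 1, 2, 3, 4, 7, 6, 5, 4, 3, 1, 2, 0, 3], [7, 6, 5, 4, 3, 1, 2, 0, 3, 2, 4, 3, 1, 5, 4, 3, 2, 0, 6, 5, 4, 3, 1, 2, 3, 4, 7, 6, 5, 4, 3, 1, 2, 3, 4], [7, 6, 5, 4, 3, 1, 2, 0, 3, 2, 4, 3, 1, 5, 4, 3, 2, 0, 6, 5, 4, 3, 1, 2, 3, 7, 6, 5, 4, 3, 1, 2, 0, 3, 2], [7, 6, 5, 4, 3, 1, 2, 0, 3, 2, 4, 3, 1, 5, 4, 3, 2, 0, 6, 5, 4, 3, 1, 2, 3, 4, 5, 6, 7, 6, 5, 4, 3, 1,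 2, 0], [7, 6, 5, 4, 3, 1, 2, 0, 3, 2, 4, 3, 1, 5, 4, 3, 2, 0, 6, 5, 4, 3, 1, 2, 3, 4, 5, 6, 7, 6, 5, 4, 3, 1, 2, 3], [7, 6, 5, 4, 3, 1, 2, 0, 3, 2, 4, 3, 1, 5, 4, 3, 2, 0, 6, 5, 4, 3, 1, 2, 3, 4, 5, 7, 6, 5, 4, 3, 1, 2, 0, 3], [7, 6, 5, 4, 3, 1, 2, 0, 3, 2, 4, 3, 1, 5, 4, 3, 2, 0, 6, 5, 4, 3, 1, 2, 3, 4, 5, 7, 6, 5, 4, 3, 1, 2, 3, 4], [7, 6, 5, 4, 3, 1, 2, 0, 3, 2, 4, 3, 1, 5, 4, 3, 2, 0, 6, 5, 4, 3, 1, 2, 3, 4, 7, 6, 5, 4, 3, 1, 2, 0, 3, 2], [7, 6, 5, 4, 3, 1, 2, 0, 3, 2, 4, 3, 1, 5, 4, 3, 2, 0, 6, 5, 4, 3, 1, 2, 3, 4, 7, 6, 5, 4, 3, 1, 2, 0, 3, 4]], [[7, 6, 5, 4, 3, 1, 2, 0, 3, 2, 4, 3, 1, 5, 4, 3, 2, 0, 6, 5, 4, 3, 1, 2, 3, 4, 5, 6, 7, 6, 5, 4, 3, 1, 2, 0, 3], [7, 6, 5, 4, 3, 1, 2, 0, 3, 2, 4, 3, 1,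 5, 4, 3, 2, 0, 6, 5, 4, 3, 1, 2, 3, 4, 5, 6, 7, 6, 5, 4, 3, 1, 2, 3, 4], [7, 6, 5, 4, 3, 1, 2, 0, 3, 2, 4, 3, 1, 5, 4, 3, 2, 0, 6, 5, 4, 3, 1, 2, 3, 4, 5, 7, 6, 5, 4, 3, 1, 2, 0, 3, 2], [7, 6, 5, 4, 3, 1, 2, 0, 3, 2, 4, 3, 1, 5, 4, 3, 2, 0, 6, 5, 4, 3, 1, 2, 3, 4, 5, 7, 6, 5, 4, 3, 1, 2, 0, 3, 4], [7, 6, 5, 4, 3, 1, 2, 0, 3, 2, 4, 3, 1, 5, 4, 3, 2, 0, 6, 5, 4, 3, 1, 2, 3, 4, 5, 7, 6, 5, 4, 3, 1, 2, 3, 4, 5], [7, 6, 5, 4, 3, 1, 2, 0, 3, 2, 4, 3, 1, 5, 4, 3, 2, 0, 6, 5, 4, 3, 1, 2, 3, 4, 7, 6, 5, 4, 3, 1, 2, 0, 3, 2, 4], [7, 6, 5, 4, 3, 1, 2, 0, 3, 2, 4, 3, 1, 5, 4, 3, 2, 0, 6, 5, 4, 3, 1, 2, 3, 4, 5, 6, 7, 6, 5, 4, 3, 1, 2, 0, 3, 2], [7, 6, 5, 4, 3, 1, 2, 0, 3, 2, 4, 3, 1, 5, 4, 3, 2, 0, 6, 5, 4, 3, 1,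 2, 3, 4, 5, 6, 7, 6, 5, 4, 3, 1, 2, 0, 3, 4], [7, 6, 5, 4, 3, 1, 2, 0, 3, 2, 4, 3, 1, 5, 4, 3, 2, 0, 6, 5, 4, 3, 1, 2, 3, 4, 5, 6, 7, 6, 5, 4, 3, 1, 2, 3, 4, 5], [7, 6, 5, 4, 3, 1, 2, 0, 3, 2, 4, 3, 1, 5, 4, 3, 2, 0, 6, 5, 4, 3, 1, 2, 3, 4, 5, 7, 6, 5, 4, 3, 1, 2, 0, 3, 2, 4], [7, 6, 5, 4, 3, 1, 2, 0, 3, 2, 4, 3, 1, 5, 4, 3, 2, 0, 6, 5, 4, 3, 1, 2, 3, 4, 5, 7, 6, 5, 4, 3, 1, 2, 0, 3, 4, 5], [7, 6, 5, 4, 3, 1, 2, 0, 3, 2, 4, 3, 1, 5, 4, 3, 2, 0, 6, 5, 4, 3, 1, 2, 3, 4, 7, 6, 5, 4, 3, 1, 2, 0, 3, 2, 4, 3], [7, 6, 5, 4, 3, 1, 2, 0, 3, 2, 4, 3, 1, 5, 4, 3, 2, 0, 6, 5, 4, 3, 1, 2, 3, 4, 5, 6, 7, 6, 5, 4, 3, 1, 2, 0, 3, 2, 4], [7, 6, 5, 4, 3, 1, 2, 0, 3, 2, 4, 3, 1, 5, 4, 3, 2, 0, 6, 5, 4, 3, 1, 2, 3, 4, 5,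 6, 7, 6, 5, 4, 3, 1, 2, 0, 3, 4, 5], [7, 6, 5, 4, 3, 1, 2, 0, 3, 2, 4, 3, 1, 5, 4, 3, 2, 0, 6, 5, 4, 3, 1, 2, 3, 4, 5, 6, 7, 6, 5, 4, 3, 1, 2, 3, 4, 5, 6], [7, 6, 5, 4, 3, 1, 2, 0, 3, 2, 4, 3, 1, 5, 4, 3, 2, 0, 6, 5, 4, 3, 1, 2, 3, 4, 5, 7, 6, 5, 4, 3, 1, 2, 0, 3, 2, 4, 3]], [[7, 6, 5, 4, 3, 1, 2, 0, 3, 2, 4, 3, 1, 5, 4, 3, 2, 0, 6, 5, 4, 3, 1, 2, 3, 4, 5, 7, 6, 5, 4, 3, 1, 2, 0, 3, 2, 4, 5], [7, 6, 5, 4, 3, 1, 2, 0, 3, 2, 4, 3, 1, 5, 4, 3, 2, 0, 6, 5, 4, 3, 1, 2, 3, 4, 7, 6, 5, 4, 3, 1, 2, 0, 3, 2, 4, 3, 1], [7, 6, 5, 4, 3, 1, 2, 0, 3, 2, 4, 3, 1, 5, 4, 3, 2, 0, 6, 5, 4, 3, 1, 2, 3, 4, 5, 6, 7, 6, 5, 4, 3, 1, 2, 0, 3, 2, 4, 3], [7, 6, 5, 4, 3, 1, 2, 0, 3, 2, 4, 3, 1, 5, 4, 3, 2, 0, 6, 5, 4, 3, 1, 2,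 3, 4, 5, 6, 7, 6, 5, 4, 3, 1, 2, 0, 3, 2, 4, 5], [7, 6, 5, 4, 3, 1, 2, 0, 3, 2, 4, 3, 1, 5, 4, 3, 2, 0, 6, 5, 4, 3, 1, 2, 3, 4, 5, 6, 7, 6, 5, 4, 3, 1, 2, 0, 3, 4, 5, 6], [7, 6, 5, 4, 3, 1, 2, 0, 3, 2, 4, 3, 1, 5, 4, 3, 2, 0, 6, 5, 4, 3, 1, 2, 3, 4, 5, 7, 6, 5, 4, 3, 1, 2, 0, 3, 2, 4, 3, 1], [7, 6, 5, 4, 3, 1, 2, 0, 3, 2, 4, 3, 1, 5, 4, 3, 2, 0, 6, 5, 4, 3, 1, 2, 3, 4, 5, 7, 6, 5, 4, 3, 1, 2, 0, 3, 2, 4, 3, 5], [7, 6, 5, 4, 3, 1, 2, 0, 3, 2, 4, 3, 1, 5, 4, 3, 2, 0, 6, 5, 4, 3, 1, 2, 3, 4, 5, 6, 7, 6, 5, 4, 3, 1, 2, 0, 3, 2, 4, 3, 1], [7, 6, 5, 4, 3, 1, 2, 0, 3, 2, 4, 3, 1, 5, 4, 3, 2, 0, 6, 5, 4, 3, 1, 2, 3, 4, 5, 6, 7, 6, 5, 4, 3, 1, 2, 0, 3, 2, 4, 3, 5], [7, 6, 5, 4, 3, 1, 2, 0, 3, 2, 4, 3, 1, 5, 4,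 3, 2, 0, 6, 5, 4, 3, 1, 2, 3, 4, 5, 6, 7, 6, 5, 4, 3, 1, 2, 0, 3, 2, 4, 5, 6], [7, 6, 5, 4, 3, 1, 2, 0, 3, 2, 4, 3, 1, 5, 4, 3, 2, 0, 6, 5, 4, 3, 1, 2, 3, 4, 5, 7, 6, 5, 4, 3, 1, 2, 0, 3, 2, 4, 3, 1, 5], [7, 6, 5, 4, 3, 1, 2, 0, 3, 2, 4, 3, 1, 5, 4, 3, 2, 0, 6, 5, 4, 3, 1, 2, 3, 4, 5, 7, 6, 5, 4, 3, 1, 2, 0, 3, 2, 4, 3, 5, 4], [7, 6, 5, 4, 3, 1, 2, 0, 3, 2, 4, 3, 1, 5, 4, 3, 2, 0, 6, 5, 4, 3, 1, 2, 3, 4, 5, 6, 7, 6, 5, 4, 3, 1, 2, 0, 3, 2, 4, 3, 1, 5], [7, 6, 5, 4, 3, 1, 2, 0, 3, 2, 4, 3, 1, 5, 4, 3, 2, 0, 6, 5, 4, 3, 1, 2, 3, 4, 5, 6, 7, 6, 5, 4, 3, 1, 2, 0, 3, 2, 4, 3, 5, 4], [7, 6, 5, 4, 3, 1, 2, 0, 3, 2, 4, 3, 1, 5, 4, 3, 2, 0, 6, 5, 4, 3, 1, 2, 3, 4, 5, 6, 7, 6, 5, 4, 3, 1, 2, 0, 3, 2, 4, 3, 5, 6],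 [7, 6, 5, 4, 3, 1, 2, 0, 3, 2, 4, 3, 1, 5, 4, 3, 2, 0, 6, 5, 4, 3, 1, 2, 3, 4, 5, 7, 6, 5, 4, 3, 1, 2, 0, 3, 2, 4, 3, 1, 5, 4]], [[7, 6, 5, 4, 3, 1, 2, 0, 3, 2, 4, 3, 1, 5, 4, 3, 2, 0, 6, 5, 4, 3, 1, 2, 3, 4, 5, 6, 7, 6, 5, 4, 3, 1, 2, 0, 3, 2, 4, 3, 1, 5, 4], [7, 6, 5, 4, 3, 1, 2, 0, 3, 2, 4, 3, 1, 5, 4, 3, 2, 0, 6, 5, 4, 3, 1, 2, 3, 4, 5, 6, 7, 6, 5, 4, 3, 1, 2, 0, 3, 2, 4, 3, 1, 5, 6], [7, 6, 5, 4, 3, 1, 2, 0, 3, 2, 4, 3, 1, 5, 4, 3, 2, 0, 6, 5, 4, 3, 1, 2, 3, 4, 5, 6, 7, 6, 5, 4, 3, 1, 2, 0, 3, 2, 4, 3, 5, 4, 6], [7, 6, 5, 4, 3, 1, 2, 0, 3, 2, 4, 3, 1, 5, 4, 3, 2, 0, 6, 5, 4, 3, 1, 2, 3, 4, 5, 7, 6, 5, 4, 3, 1, 2, 0, 3, 2, 4, 3, 1, 5, 4, 3], [7, 6, 5, 4, 3, 1, 2, 0, 3, 2, 4, 3, 1, 5, 4, 3, 2, 0, 6,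 5, 4, 3, 1, 2, 3, 4, 5, 6, 7, 6, 5, 4, 3, 1, 2, 0, 3, 2, 4, 3, 1, 5, 4, 3], [7, 6, 5, 4, 3, 1, 2, 0, 3, 2, 4, 3, 1, 5, 4, 3, 2, 0, 6, 5, 4, 3, 1, 2, 3, 4, 5, 6, 7, 6, 5, 4, 3, 1, 2, 0, 3, 2, 4, 3, 1, 5, 4, 6], [7, 6, 5, 4, 3, 1, 2, 0, 3, 2, 4, 3, 1, 5, 4, 3, 2, 0, 6, 5, 4, 3, 1, 2, 3, 4, 5, 6, 7, 6, 5, 4, 3, 1, 2, 0, 3, 2, 4, 3, 5, 4, 6, 5], [7, 6, 5, 4, 3, 1, 2, 0, 3, 2, 4, 3, 1, 5, 4, 3, 2, 0, 6, 5, 4, 3, 1, 2, 3, 4, 5, 7, 6, 5, 4, 3, 1, 2, 0, 3, 2, 4, 3, 1, 5, 4, 3, 2], [7, 6, 5, 4, 3, 1, 2, 0, 3, 2, 4, 3, 1, 5, 4, 3, 2, 0, 6, 5, 4, 3, 1, 2, 3, 4, 5, 6, 7, 6, 5, 4, 3, 1, 2, 0, 3, 2, 4, 3, 1, 5, 4, 3, 2], [7, 6, 5, 4, 3, 1, 2, 0, 3, 2, 4, 3, 1, 5, 4, 3, 2, 0, 6, 5, 4, 3, 1, 2, 3, 4, 5, 6, 7, 6, 5, 4,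 3, 1, 2, 0, 3, 2, 4, 3, 1, 5, 4, 3, 6], [7, 6, 5, 4, 3, 1, 2, 0, 3, 2, 4, 3, 1, 5, 4, 3, 2, 0, 6, 5, 4, 3, 1, 2, 3, 4, 5, 6, 7, 6, 5, 4, 3, 1, 2, 0, 3, 2, 4, 3, 1, 5, 4, 6, 5], [7, 6, 5, 4, 3, 1, 2, 0, 3, 2, 4, 3, 1, 5, 4, 3, 2, 0, 6, 5, 4, 3, 1, 2, 3, 4, 5, 7, 6, 5, 4, 3, 1, 2, 0, 3, 2, 4, 3, 1, 5, 4, 3, 2, 0], [7, 6, 5, 4, 3, 1, 2, 0, 3, 2, 4, 3, 1, 5, 4, 3, 2, 0, 6, 5, 4, 3, 1, 2, 3, 4, 5, 6, 7, 6, 5, 4, 3, 1, 2, 0, 3, 2, 4, 3, 1, 5, 4, 3, 2, 0], [7, 6, 5, 4, 3, 1, 2, 0, 3, 2, 4, 3, 1, 5, 4, 3, 2, 0, 6, 5, 4, 3, 1, 2, 3, 4, 5, 6, 7, 6, 5, 4, 3, 1, 2, 0, 3, 2, 4, 3, 1, 5, 4, 3, 2, 6], [7, 6, 5, 4, 3, 1, 2, 0, 3, 2, 4, 3, 1, 5, 4, 3, 2, 0, 6, 5, 4, 3, 1, 2, 3, 4, 5, 6, 7, 6, 5, 4, 3, 1, 2, 0, 3, 2, 4,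 3, 1, 5, 4, 3, 6, 5], [7, 6, 5, 4, 3, 1, 2, 0, 3, 2, 4, 3, 1, 5, 4, 3, 2, 0, 6, 5, 4, 3, 1, 2, 3, 4, 5, 6, 7, 6, 5, 4, 3, 1, 2, 0, 3, 2, 4, 3, 1, 5, 4, 3, 2, 0, 6]], [[7, 6, 5, 4, 3, 1, 2, 0, 3, 2, 4, 3, 1, 5, 4, 3, 2, 0, 6, 5, 4, 3, 1, 2, 3, 4, 5, 6, 7, 6, 5, 4, 3, 1, 2, 0, 3, 2, 4, 3, 1, 5, 4, 3, 2, 6, 5], [7, 6, 5, 4, 3, 1, 2, 0, 3, 2, 4, 3, 1, 5, 4, 3, 2, 0, 6, 5, 4, 3, 1, 2, 3, 4, 5, 6, 7, 6, 5, 4, 3, 1, 2, 0, 3, 2, 4, 3, 1, 5, 4, 3, 6, 5, 4], [7, 6, 5, 4, 3, 1, 2, 0, 3, 2, 4, 3, 1, 5, 4, 3, 2, 0, 6, 5, 4, 3, 1, 2, 3, 4, 5, 6, 7, 6, 5, 4, 3, 1, 2, 0, 3, 2, 4, 3, 1, 5, 4, 3, 2, 0, 6, 5], [7, 6, 5, 4, 3, 1, 2, 0, 3, 2, 4, 3, 1, 5, 4, 3, 2, 0, 6, 5, 4, 3, 1, 2, 3, 4, 5, 6, 7, 6, 5, 4, 3, 1, 2, 0, 3,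 2, 4, 3, 1, 5, 4, 3, 2, 6, 5, 4], [7, 6, 5, 4, 3, 1, 2, 0, 3, 2, 4, 3, 1, 5, 4, 3, 2, 0, 6, 5, 4, 3, 1, 2, 3, 4, 5, 6, 7, 6, 5, 4, 3, 1, 2, 0, 3, 2, 4, 3, 1, 5, 4, 3, 2, 0, 6, 5, 4], [7, 6, 5, 4, 3, 1, 2, 0, 3, 2, 4, 3, 1, 5, 4, 3, 2, 0, 6, 5, 4, 3, 1, 2, 3, 4, 5, 6, 7, 6, 5, 4, 3, 1, 2, 0, 3, 2, 4, 3, 1, 5, 4, 3, 2, 6, 5, 4, 3], [7, 6, 5, 4, 3, 1, 2, 0, 3, 2, 4, 3, 1, 5, 4, 3, 2, 0, 6, 5, 4, 3, 1, 2, 3, 4, 5, 6, 7, 6, 5, 4, 3, 1, 2, 0, 3, 2, 4, 3, 1, 5, 4, 3, 2, 0, 6, 5, 4, 3], [7, 6, 5, 4, 3, 1, 2, 0, 3, 2, 4, 3, 1, 5, 4, 3, 2, 0, 6, 5, 4, 3, 1, 2, 3, 4, 5, 6, 7, 6, 5, 4, 3, 1, 2, 0, 3, 2, 4, 3, 1, 5, 4, 3, 2, 6, 5, 4, 3, 1], [7, 6, 5, 4, 3, 1, 2, 0, 3, 2, 4, 3, 1, 5, 4, 3, 2, 0, 6, 5, 4, 3, 1, 2, 3,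 4, 5, 6, 7, 6, 5, 4, 3, 1, 2, 0, 3, 2, 4, 3, 1, 5, 4, 3, 2, 0, 6, 5, 4, 3, 1], [7, 6, 5, 4, 3, 1, 2, 0, 3, 2, 4, 3, 1, 5, 4, 3, 2, 0, 6, 5, 4, 3, 1, 2, 3, 4, 5, 6, 7, 6, 5, 4, 3, 1, 2, 0, 3, 2, 4, 3, 1, 5, 4, 3, 2, 0, 6, 5, 4, 3, 2], [7, 6, 5, 4, 3, 1, 2, 0, 3, 2, 4, 3, 1, 5, 4, 3, 2, 0, 6, 5, 4, 3, 1, 2, 3, 4, 5, 6, 7, 6, 5, 4, 3, 1, 2, 0, 3, 2, 4, 3, 1, 5, 4, 3, 2, 0, 6, 5, 4, 3, 1, 2], [7, 6, 5, 4, 3, 1, 2, 0, 3, 2, 4, 3, 1, 5, 4, 3, 2, 0, 6, 5, 4, 3, 1, 2, 3, 4, 5, 6, 7, 6, 5, 4, 3, 1, 2, 0, 3, 2, 4, 3, 1, 5, 4, 3, 2, 0, 6, 5, 4, 3, 1, 2, 3], [7, 6, 5, 4, 3, 1, 2, 0, 3, 2, 4, 3, 1, 5, 4, 3, 2, 0, 6, 5, 4, 3, 1, 2, 3, 4, 5, 6, 7, 6, 5, 4, 3, 1, 2, 0, 3, 2, 4, 3, 1, 5, 4, 3, 2, 0, 6, 5, 4, 3, 1, 2,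 3, 4], [7, 6, 5, 4, 3, 1, 2, 0, 3, 2, 4, 3, 1, 5, 4, 3, 2, 0, 6, 5, 4, 3, 1, 2, 3, 4, 5, 6, 7, 6, 5, 4, 3, 1, 2, 0, 3, 2, 4, 3, 1, 5, 4, 3, 2, 0, 6, 5, 4, 3, 1, 2, 3, 4, 5], [7, 6, 5, 4, 3, 1, 2, 0, 3, 2, 4, 3, 1, 5, 4, 3, 2, 0, 6, 5, 4, 3, 1, 2, 3, 4, 5, 6, 7, 6, 5, 4, 3, 1, 2, 0, 3, 2, 4, 3, 1, 5, 4, 3, 2, 0, 6, 5, 4, 3, 1, 2, 3, 4, 5, 6], [7, 6, 5, 4, 3, 1, 2, 0, 3, 2, 4, 3, 1, 5, 4, 3, 2, 0, 6, 5, 4, 3, 1, 2, 3, 4, 5, 6, 7, 6, 5, 4, 3, 1, 2, 0, 3, 2, 4, 3, 1, 5, 4, 3, 2, 0, 6, 5, 4, 3, 1, 2, 3, 4, 5, 6, 7]]]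

def E8_8g : List (List ℕ) :=
  [[0, 7, 6, 5, 4, 3, 1, 2, 2, 0, 0, 3, 3, 4, 2, 4], [5, 4, 5, 6, 3, 5, 6, 7, 1, 5, 6, 7, 5, 4, 6, 7], [4, 6, 6, 7, 3, 6, 7, 5, 7, 2, 6, 5, 7, 7, 0, 6], [5, 7, 7, 6, 6, 5, 7, 4, 7, 6, 5, 7, 4, 7, 7, 6], [4, 7, 3, 7, 6, 6, 3, 7, 6, 1, 7, 6, 5, 1, 2, 7], [6, 7, 6, 5, 2, 7, 7, 6, 5, 6, 5, 3, 7, 6, 6, 5], [5, 4, 4, 7, 6, 5, 5, 4, 4, 5, 7, 6, 5, 4, 4, 3], [6, 7, 6, 5, 4, 3, 3, 2, 7, 6, 5, 4, 3, 2, 1, 0], [6, 5, 4, 3, 1, 2, 0, 5, 4, 3, 1, 2, 2, 0, 4, 3], [1, 2, 2, 0, 0, 3, 1, 2, 2, 0, 0, 3, 1, 2, 2, 0], [0, 3, 3, 2, 0, 0, 3, 3, 4, 2, 0, 3, 3, 4, 2, 4], [3, 4, 2, 4, 5, 4, 2, 4, 5, 4, 5, 3, 4, 5, 6, 3], [5, 1, 3, 5, 6, 1, 5, 1, 5, 6, 5, 4, 5, 4, 6, 4], [4, 6, 6, 3, 3, 6, 5, 2, 2,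 6, 5, 0, 0, 6, 5, 6], [5, 4, 5, 4, 4, 3, 3, 1, 1, 2, 2, 3, 4, 5, 6, 7]]

/-- the coset table -/
def E8_8T : Table 7 (Fin 240) := mkTable 7 240 E8_8n E8_8l E8_8t E8_8g

theorem E8_8_I : E8_8T.Invol := by decide +kernel

theorem E8_8_B : E8_8T.Base := by decide +kernel

theorem E8_8_T : E8_8T.Tree := by decide +kernel

theorem E8_8_C : E8_8T.Closed E8M8 E8M7 := by decide +kernel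

theorem E8_8_D : E8_8T.Deduce E8M8 := by decide +kernel

/-- level 8 -/
def E8S8 : Solved E8M8 696729600 :=
  (E8S7.step E8_res8 E8_8T E8_8_I E8_8_B E8_8_T E8_8_C E8_8_D).cast (by norm_num)

end Cfsg.Agent.Lib.Helper6.CoxDataE
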