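import Mathlib
import Cfsg.Prelude.Def_ChevStructure
import Cfsg.Agent.Lib.Helper6.CoxTable

/-! Generated coset tables (scratch/py/cox/emit_chain.py). -/

set_option autoImplicit false
set_option maxRecDepth 100000

namespace Cfsg.Agent.Lib.Helper6.CoxDataS

open Cfsg.Agent.Lib.Helper6.CoxTable

/-- the Coxeter matrix at level 4 -/
abbrev F4M4 : CoxeterMatrix (Fin 4) := CoxeterMatrix.F₄

/-- the Coxeter matrix at level 3 -/
abbrev F4M3 : CoxeterMatrix (Fin 3) := restr F4M4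

/-- the Coxeter matrix at level 2 -/
abbrev F4M2 : CoxeterMatrix (Fin 2) := restr F4M3

/-- the Coxeter matrix at level 1 -/
abbrev F4M1 : CoxeterMatrix (Fin 1) := restr F4M2

/-- the Coxeter matrix at level 0 -/
abbrev F4M0 : CoxeterMatrix (Fin 0) := restr F4M1

theorem F4_res1 : ∀ i j : Fin 0, F4M0 i j = F4M1 i.castSucc j.castSucc :=
  fun _ _ => rfl

theorem F4_res2 : ∀ i j : Fin 1, F4M1 i j = F4M2 i.castSucc j.castSucc :=
  fun _ _ => rfl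

theorem F4_res3 : ∀ i j : Fin 2, F4M2 i j = F4M3 i.castSucc j.castSucc :=
  fun _ _ => rfl

theorem F4_res4 : ∀ i j : Fin 3, F4M3 i j = F4M4 i.castSucc j.castSucc :=
  fun _ _ => rfl

/-- level 0 -/
def F4S0 : Solved F4M0 1 := Solved.zero _

def F4_1n : List (List (List ℕ)) :=
  [[[1], [0]]]

def F4_1l : List (List (List ℕ)) :=
  [[[0], [0]]]

def F4_1t : List (List (List ℕ)) :=
  [[[], [0]]]

def F4_1g : List (List ℕ) :=
  [[0, 0]]

/-- the coset table -/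
def F4_1T : Table 0 (Fin 2) := mkTable 0 2 F4_1n F4_1l F4_1t F4_1g

theorem F4_1_I : F4_1T.Invol := by decide +kernel

theorem F4_1_B : F4_1T.Base := by decide +kernel

theorem F4_1_T : F4_1T.Tree := by decide +kernel

theorem F4_1_C : F4_1T.Closed F4M1 F4M0 := by decide +kernel

theorem F4_1_D : F4_1T.Deduce F4M1 := by decide +kernel

/-- level 1 -/
def F4S1 : Solved F4M1 2 :=
  (F4S0.step F4_res1 F4_1T F4_1_I F4_1_B F4_1_T F4_1_C F4_1_D).cast (by norm_num)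

def F4_2n : List (List (List ℕ)) :=
  [[[0, 1], [2, 0], [1, 2]]]

def F4_2l : List (List (List ℕ)) :=
  [[[1, 0], [0, 0], [0, 1]]]

def F4_2t : List (List (List ℕ)) :=
  [[[], [1], [1, 0]]]

def F4_2g : List (List ℕ) :=
  [[0, 1, 0]]

/-- the coset table -/
def F4_2T : Table 1 (Fin 3) := mkTable 1 3 F4_2n F4_2l F4_2t F4_2g

theorem F4_2_I : F4_2T.Invol := by decide +kernel

theorem F4_2_B : F4_2T.Base := by decide +kernel

theorem F4_2_T : F4_2T.Tree := by decide +kernel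

theorem F4_2_C : F4_2T.Closed F4M2 F4M1 := by decide +kernel

theorem F4_2_D : F4_2T.Deduce F4M2 := by decide +kernel

/-- level 2 -/
def F4S2 : Solved F4M2 6 :=
  (F4S1.step F4_res2 F4_2T F4_2_I F4_2_B F4_2_T F4_2_C F4_2_D).cast (by norm_num)

def F4_3n : List (List (List ℕ)) :=
  [[[0, 0, 1], [1, 2, 0], [3, 1, 4], [2, 3, 5], [5, 4, 2], [4, 6, 3], [6, 5, 7], [7, 7, 6]]]

def F4_3l : List (List (List ℕ)) :=
  [[[1, 2, 0], [1, 0, 0], [0, 0, 0], [0, 1, 0], [0, 2, 0], [0, 0, 0], [2, 0, 0], [2, 1, 0]]]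

def F4_3t : List (List (List ℕ)) :=
  [[[], [2], [2, 1], [2, 1, 0], [2, 1, 2], [2, 1, 0, 2], [2, 1, 0, 2, 1], [2, 1, 0, 2, 1, 2]]]

def F4_3g : List (List ℕ) :=
  [[0, 2, 1, 0, 2, 2, 1, 2]]

/-- the coset table -/
def F4_3T : Table 2 (Fin 8) := mkTable 2 8 F4_3n F4_3l F4_3t F4_3g

theorem F4_3_I : F4_3T.Invol := by decide +kernel

theorem F4_3_B : F4_3T.Base := by decide +kernel

theorem F4_3_T : F4_3T.Tree := by decide +kernel

theorem F4_3_C : F4_3T.Closed F4M3 F4M2 := by decide +kernel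

theorem F4_3_D : F4_3T.Deduce F4M3 := by decide +kernel

/-- level 3 -/
def F4S3 : Solved F4M3 48 :=
  (F4S2.step F4_res3 F4_3T F4_3_I F4_3_B F4_3_T F4_3_C F4_3_D).cast (by norm_num)

def F4_4n : List (List (List ℕ)) :=
  [[[0, 0, 0, 1], [1, 1, 2, 0], [2, 3, 1, 2], [4, 2, 5, 3], [3, 4, 6, 4], [6, 5, 3, 7], [5, 8, 4, 9], [9, 7, 7, 5], [8, 6, 10, 11], [7, 11, 9, 6], [10, 10, 8, 12], [11, 9, 13, 8], [12, 12, 14, 10], [13, 15, 11, 14], [14, 16, 12, 13], [17, 13, 15, 16]], [[18, 14, 19, 15], [15, 17, 17, 18], [16, 18, 20, 17], [20, 19, 16, 19], [19, 21, 18, 20], [21, 20, 22, 21], [22, 22, 21, 23], [23, 23, 23, 22]]]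

def F4_4l : List (List (List ℕ)) :=
  [[[1, 2, 3, 0], [1, 2, 0, 0], [1, 0, 0, 3], [0, 0, 0, 3], [0, 1, 0, 3], [0, 2, 0, 0], [0, 0, 0, 0], [0, 2, 3, 0], [2, 0, 0, 0], [0, 0, 3, 0], [2, 1, 0, 0], [2, 0, 0, 0], [2, 1, 0, 0], [2, 0, 0, 0], [2, 0, 0, 0], [0, 0, 3, 0]], [[0, 0, 0, 0], [0, 2, 3, 0], [0, 2, 0, 0], [0, 1, 0, 3], [0, 0, 0, 3], [1, 0, 0, 3], [1, 2, 0, 0], [1, 2, 3, 0]]]

def F4_4t : List (List (List ℕ)) :=
  [[[], [3], [3, 2], [3, 2, 1], [3, 2, 1, 0], [3, 2, 1, 2], [3, 2, 1, 0, 2], [3, 2, 1, 2, 3], [3, 2, 1, 0, 2, 1], [3, 2, 1, 0, 2, 3], [3, 2, 1, 0, 2, 1, 2], [3, 2, 1, 0, 2, 1, 3], [3, 2, 1, 0, 2, 1, 2, 3], [3, 2, 1, 0, 2, 1, 3, 2], [3, 2, 1, 0, 2, 1, 2, 3, 2], [3, 2, 1, 0, 2, 1, 3, 2, 1]], [[3, 2, 1, 0, 2, 1, 2, 3, 2, 1], [3, 2, 1, 0, 2, 1, 3, 2, 1, 0], [3, 2, 1, 0, 2, 1, 2, 3, 2, 1, 0], [3, 2, 1, 0, 2, 1, 2, 3, 2, 1, 2], [3, 2, 1, 0, 2, 1, 2, 3, 2, 1, 0, 2], [3, 2, 1, 0,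 2, 1, 2, 3, 2, 1, 0, 2, 1], [3, 2, 1, 0, 2, 1, 2, 3, 2, 1, 0, 2, 1, 2], [3, 2, 1, 0, 2, 1, 2, 3, 2, 1, 0, 2, 1, 2, 3]]]

def F4_4g : List (List ℕ) :=
  [[0, 3, 2, 1, 0, 2, 2, 3, 1, 3, 2, 3, 3, 2, 2, 1], [1, 0, 0, 2, 2, 1, 2, 3]]

/-- the coset table -/
def F4_4T : Table 3 (Fin 24) := mkTable 3 24 F4_4n F4_4l F4_4t F4_4g

theorem F4_4_I : F4_4T.Invol := by decide +kernel

theorem F4_4_B : F4_4T.Base := by decide +kernel

theorem F4_4_T : F4_4T.Tree := by decide +kernel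

theorem F4_4_C : F4_4T.Closed F4M4 F4M3 := by decide +kernel

theorem F4_4_D : F4_4T.Deduce F4M4 := by decide +kernel

/-- level 4 -/
def F4S4 : Solved F4M4 1152 :=
  (F4S3.step F4_res4 F4_4T F4_4_I F4_4_B F4_4_T F4_4_C F4_4_D).cast (by norm_num)

/-- the Coxeter matrix at level 4 -/
abbrev D4M4 : CoxeterMatrix (Fin 4) := Cfsg.Lie.coxeterD4

/-- the Coxeter matrix at level 3 -/
abbrev D4M3 : CoxeterMatrix (Fin 3) := restr D4M4

/-- the Coxeter matrix at level 2 -/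
abbrev D4M2 : CoxeterMatrix (Fin 2) := restr D4M3

/-- the Coxeter matrix at level 1 -/
abbrev D4M1 : CoxeterMatrix (Fin 1) := restr D4M2

/-- the Coxeter matrix at level 0 -/
abbrev D4M0 : CoxeterMatrix (Fin 0) := restr D4M1

theorem D4_res1 : ∀ i j : Fin 0, D4M0 i j = D4M1 i.castSucc j.castSucc :=
  fun _ _ => rfl

theorem D4_res2 : ∀ i j : Fin 1, D4M1 i j = D4M2 i.castSucc j.castSucc :=
  fun _ _ => rfl

theorem D4_res3 : ∀ i j : Fin 2, D4M2 i j = D4M3 i.castSucc j.castSucc :=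
  fun _ _ => rfl

theorem D4_res4 : ∀ i j : Fin 3, D4M3 i j = D4M4 i.castSucc j.castSucc :=
  fun _ _ => rfl

/-- level 0 -/
def D4S0 : Solved D4M0 1 := Solved.zero _

def D4_1n : List (List (List ℕ)) :=
  [[[1], [0]]]

def D4_1l : List (List (List ℕ)) :=
  [[[0], [0]]]

def D4_1t : List (List (List ℕ)) :=
  [[[], [0]]]

def D4_1g : List (List ℕ) :=
  [[0, 0]]

/-- the coset table -/
def D4_1T : Table 0 (Fin 2) := mkTable 0 2 D4_1n D4_1l D4_1t D4_1g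

theorem D4_1_I : D4_1T.Invol := by decide +kernel

theorem D4_1_B : D4_1T.Base := by decide +kernel

theorem D4_1_T : D4_1T.Tree := by decide +kernel

theorem D4_1_C : D4_1T.Closed D4M1 D4M0 := by decide +kernel

theorem D4_1_D : D4_1T.Deduce D4M1 := by decide +kernel

/-- level 1 -/
def D4S1 : Solved D4M1 2 :=
  (D4S0.step D4_res1 D4_1T D4_1_I D4_1_B D4_1_T D4_1_C D4_1_D).cast (by norm_num)

def D4_2n : List (List (List ℕ)) :=
  [[[0, 1], [2, 0], [1, 2]]]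

def D4_2l : List (List (List ℕ)) :=
  [[[1, 0], [0, 0], [0, 1]]]

def D4_2t : List (List (List ℕ)) :=
  [[[], [1], [1, 0]]]

def D4_2g : List (List ℕ) :=
  [[0, 1, 0]]

/-- the coset table -/
def D4_2T : Table 1 (Fin 3) := mkTable 1 3 D4_2n D4_2l D4_2t D4_2g

theorem D4_2_I : D4_2T.Invol := by decide +kernel

theorem D4_2_B : D4_2T.Base := by decide +kernel

theorem D4_2_T : D4_2T.Tree := by decide +kernel

theorem D4_2_C : D4_2T.Closed D4M2 D4M1 := by decide +kernel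

theorem D4_2_D : D4_2T.Deduce D4M2 := by decide +kernel

/-- level 2 -/
def D4S2 : Solved D4M2 6 :=
  (D4S1.step D4_res2 D4_2T D4_2_I D4_2_B D4_2_T D4_2_C D4_2_D).cast (by norm_num)

def D4_3n : List (List (List ℕ)) :=
  [[[0, 0, 1], [1, 2, 0], [3, 1, 2], [2, 3, 3]]]

def D4_3l : List (List (List ℕ)) :=
  [[[1, 2, 0], [1, 0, 0], [0, 0, 2], [0, 1, 2]]]

def D4_3t : List (List (List ℕ)) :=
  [[[], [2], [2, 1], [2, 1, 0]]]

def D4_3g : List (List ℕ) :=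
  [[0, 2, 1, 0]]

/-- the coset table -/
def D4_3T : Table 2 (Fin 4) := mkTable 2 4 D4_3n D4_3l D4_3t D4_3g

theorem D4_3_I : D4_3T.Invol := by decide +kernel

theorem D4_3_B : D4_3T.Base := by decide +kernel

theorem D4_3_T : D4_3T.Tree := by decide +kernel

theorem D4_3_C : D4_3T.Closed D4M3 D4M2 := by decide +kernel

theorem D4_3_D : D4_3T.Deduce D4M3 := by decide +kernel

/-- level 3 -/
def D4S3 : Solved D4M3 24 :=
  (D4S2.step D4_res3 D4_3T D4_3_I D4_3_B D4_3_T D4_3_C D4_3_D).cast (by norm_num)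

def D4_4n : List (List (List ℕ)) :=
  [[[0, 0, 0, 1], [1, 2, 1, 0], [3, 1, 4, 2], [2, 3, 5, 3], [5, 4, 2, 4], [4, 6, 3, 5], [6, 5, 6, 7], [7, 7, 7, 6]]]

def D4_4l : List (List (List ℕ)) :=
  [[[1, 2, 3, 0], [1, 0, 3, 0], [0, 0, 0, 2], [0, 1, 0, 2], [0, 3, 0, 2], [0, 0, 0, 2], [3, 0, 1, 0], [3, 2, 1, 0]]]

def D4_4t : List (List (List ℕ)) :=
  [[[], [3], [3, 1], [3, 1, 0], [3, 1, 2], [3, 1, 0, 2], [3, 1, 0, 2, 1], [3, 1, 0, 2, 1, 3]]]

def D4_4g : List (List ℕ) :=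
  [[0, 3, 1, 0, 2, 2, 1, 3]]

/-- the coset table -/
def D4_4T : Table 3 (Fin 8) := mkTable 3 8 D4_4n D4_4l D4_4t D4_4g

theorem D4_4_I : D4_4T.Invol := by decide +kernel

theorem D4_4_B : D4_4T.Base := by decide +kernel

theorem D4_4_T : D4_4T.Tree := by decide +kernel

theorem D4_4_C : D4_4T.Closed D4M4 D4M3 := by decide +kernel

theorem D4_4_D : D4_4T.Deduce D4M4 := by decide +kernel

/-- level 4 -/
def D4S4 : Solved D4M4 192 :=
  (D4S3.step D4_res4 D4_4T D4_4_I D4_4_B D4_4_T D4_4_C D4_4_D).cast (by norm_num)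

/-- the Coxeter matrix at level 2 -/
abbrev B2M2 : CoxeterMatrix (Fin 2) := CoxeterMatrix.B 2

/-- the Coxeter matrix at level 1 -/
abbrev B2M1 : CoxeterMatrix (Fin 1) := restr B2M2

/-- the Coxeter matrix at level 0 -/
abbrev B2M0 : CoxeterMatrix (Fin 0) := restr B2M1

theorem B2_res1 : ∀ i j : Fin 0, B2M0 i j = B2M1 i.castSucc j.castSucc :=
  fun _ _ => rfl

theorem B2_res2 : ∀ i j : Fin 1, B2M1 i j = B2M2 i.castSucc j.castSucc :=
  fun _ _ => rfl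

/-- level 0 -/
def B2S0 : Solved B2M0 1 := Solved.zero _

def B2_1n : List (List (List ℕ)) :=
  [[[1], [0]]]

def B2_1l : List (List (List ℕ)) :=
  [[[0], [0]]]

def B2_1t : List (List (List ℕ)) :=
  [[[], [0]]]

def B2_1g : List (List ℕ) :=
  [[0, 0]]

/-- the coset table -/
def B2_1T : Table 0 (Fin 2) := mkTable 0 2 B2_1n B2_1l B2_1t B2_1g

theorem B2_1_I : B2_1T.Invol := by decide +kernel

theorem B2_1_B : B2_1T.Base := by decide +kernel

theorem B2_1_T : B2_1T.Tree := by decide +kernel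

theorem B2_1_C : B2_1T.Closed B2M1 B2M0 := by decide +kernel

theorem B2_1_D : B2_1T.Deduce B2M1 := by decide +kernel

/-- level 1 -/
def B2S1 : Solved B2M1 2 :=
  (B2S0.step B2_res1 B2_1T B2_1_I B2_1_B B2_1_T B2_1_C B2_1_D).cast (by norm_num)

def B2_2n : List (List (List ℕ)) :=
  [[[0, 1], [2, 0], [1, 3], [3, 2]]]

def B2_2l : List (List (List ℕ)) :=
  [[[1, 0], [0, 0], [0, 0], [1, 0]]]

def B2_2t : List (List (List ℕ)) :=
  [[[], [1], [1, 0], [1, 0, 1]]]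

def B2_2g : List (List ℕ) :=
  [[0, 1, 0, 1]]

/-- the coset table -/
def B2_2T : Table 1 (Fin 4) := mkTable 1 4 B2_2n B2_2l B2_2t B2_2g

theorem B2_2_I : B2_2T.Invol := by decide +kernel

theorem B2_2_B : B2_2T.Base := by decide +kernel

theorem B2_2_T : B2_2T.Tree := by decide +kernel

theorem B2_2_C : B2_2T.Closed B2M2 B2M1 := by decide +kernel

theorem B2_2_D : B2_2T.Deduce B2M2 := by decide +kernel

/-- level 2 -/
def B2S2 : Solved B2M2 8 :=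
  (B2S1.step B2_res2 B2_2T B2_2_I B2_2_B B2_2_T B2_2_C B2_2_D).cast (by norm_num)

/-- the Coxeter matrix at level 2 -/
abbrev G2M2 : CoxeterMatrix (Fin 2) := CoxeterMatrix.G₂

/-- the Coxeter matrix at level 1 -/
abbrev G2M1 : CoxeterMatrix (Fin 1) := restr G2M2

/-- the Coxeter matrix at level 0 -/
abbrev G2M0 : CoxeterMatrix (Fin 0) := restr G2M1

theorem G2_res1 : ∀ i j : Fin 0, G2M0 i j = G2M1 i.castSucc j.castSucc :=
  fun _ _ => rfl

theorem G2_res2 : ∀ i j : Fin 1, G2M1 i j = G2M2 i.castSucc j.castSucc :=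
  fun _ _ => rfl

/-- level 0 -/
def G2S0 : Solved G2M0 1 := Solved.zero _

def G2_1n : List (List (List ℕ)) :=
  [[[1], [0]]]

def G2_1l : List (List (List ℕ)) :=
  [[[0], [0]]]

def G2_1t : List (List (List ℕ)) :=
  [[[], [0]]]

def G2_1g : List (List ℕ) :=
  [[0, 0]]

/-- the coset table -/
def G2_1T : Table 0 (Fin 2) := mkTable 0 2 G2_1n G2_1l G2_1t G2_1g

theorem G2_1_I : G2_1T.Invol := by decide +kernel

theorem G2_1_B : G2_1T.Base := by decide +kernel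

theorem G2_1_T : G2_1T.Tree := by decide +kernel

theorem G2_1_C : G2_1T.Closed G2M1 G2M0 := by decide +kernel

theorem G2_1_D : G2_1T.Deduce G2M1 := by decide +kernel

/-- level 1 -/
def G2S1 : Solved G2M1 2 :=
  (G2S0.step G2_res1 G2_1T G2_1_I G2_1_B G2_1_T G2_1_C G2_1_D).cast (by norm_num)

def G2_2n : List (List (List ℕ)) :=
  [[[0, 1], [2, 0], [1, 3], [4, 2], [3, 5], [5, 4]]]

def G2_2l : List (List (List ℕ)) :=
  [[[1, 0], [0, 0], [0, 0], [0, 0], [0, 0], [1, 0]]]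

def G2_2t : List (List (List ℕ)) :=
  [[[], [1], [1, 0], [1, 0, 1], [1, 0, 1, 0], [1, 0, 1, 0, 1]]]

def G2_2g : List (List ℕ) :=
  [[0, 1, 0, 1, 0, 1]]

/-- the coset table -/
def G2_2T : Table 1 (Fin 6) := mkTable 1 6 G2_2n G2_2l G2_2t G2_2g

theorem G2_2_I : G2_2T.Invol := by decide +kernel

theorem G2_2_B : G2_2T.Base := by decide +kernel

theorem G2_2_T : G2_2T.Tree := by decide +kernel

theorem G2_2_C : G2_2T.Closed G2M2 G2M1 := by decide +kernel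

theorem G2_2_D : G2_2T.Deduce G2M2 := by decide +kernel

/-- level 2 -/
def G2S2 : Solved G2M2 12 :=
  (G2S1.step G2_res2 G2_2T G2_2_I G2_2_B G2_2_T G2_2_C G2_2_D).cast (by norm_num)

end Cfsg.Agent.Lib.Helper6.CoxDataS
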