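import Mathlib
import Cfsg.Agent.Lib.Helper6.CoxDataS
import Cfsg.Agent.Lib.Helper6.CoxDataE
import Cfsg.Agent.Lib.Helper6.CoxCenter

/-! Generated centre computations (scratch/py/cox/gen2418.py). -/

set_option autoImplicit false
set_option maxRecDepth 100000

namespace Cfsg.Agent.Lib.Helper6.CoxCenterData

open Cfsg.Agent.Lib.Helper6.CoxTable Cfsg.Agent.Lib.Helper6.CoxDataS Cfsg.Agent.Lib.Helper6.CoxDataE

theorem E8_cen0 : CenterList E8M0 [[]] := CenterList.zero _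

theorem E8_cen1 : CenterList E8M1 [[], [0]] := by
  have := E8S0.fin
  exact CenterList.step E8_1T E8M1 E8M0 E8_res1 E8_1_I E8_1_B E8_1_T
    E8_1_C E8_1_D E8S1 [[]] E8_cen0
    [(0, []), (1, [0])]
    (by decide +kernel) (by decide +kernel) [[], [0]] (by decide +kernel) (by decide +kernel)

theorem E8_cen2 : CenterList E8M2 [[], [0], [1], [0, 1]] := by
  have := E8S1.fin
  exact CenterList.step E8_2T E8M2 E8M1 E8_res2 E8_2_I E8_2_B E8_2_T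
    E8_2_C E8_2_D E8S2 [[], [0]] E8_cen1
    [(0, []), (1, [1])]
    (by decide +kernel) (by decide +kernel) [[], [0], [1], [0, 1]] (by decide +kernel) (by decide +kernel)

theorem E8_cen3 : CenterList E8M3 [[], [1]] := by
  have := E8S2.fin
  exact CenterList.step E8_3T E8M3 E8M2 E8_res3 E8_3_I E8_3_B E8_3_T
    E8_3_C E8_3_D E8S3 [[], [0], [1], [0, 1]] E8_cen2
    [(0, [])]
    (by decide +kernel) (by decide +kernel) [[], [1]] (by decide +kernel) (by decide +kernel)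

theorem E8_cen4 : CenterList E8M4 [[]] := by
  have := E8S3.fin
  exact CenterList.step E8_4T E8M4 E8M3 E8_res4 E8_4_I E8_4_B E8_4_T
    E8_4_C E8_4_D E8S4 [[], [1]] E8_cen3
    [(0, [])]
    (by decide +kernel) (by decide +kernel) [[]] (by decide +kernel) (by decide +kernel)

theorem E8_cen5 : CenterList E8M5 [[]] := by
  have := E8S4.fin
  exact CenterList.step E8_5T E8M5 E8M4 E8_res5 E8_5_I E8_5_B E8_5_T
    E8_5_C E8_5_D E8S5 [[]] E8_cen4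
    [(0, [])]
    (by decide +kernel) (by decide +kernel) [[]] (by decide +kernel) (by decide +kernel)

theorem E8_cen6 : CenterList E8M6 [[]] := by
  have := E8S5.fin
  exact CenterList.step E8_6T E8M6 E8M5 E8_res6 E8_6_I E8_6_B E8_6_T
    E8_6_C E8_6_D E8S6 [[]] E8_cen5
    [(0, [])]
    (by decide +kernel) (by decide +kernel) [[]] (by decide +kernel) (by decide +kernel)

theorem E8_cen7 : CenterList E8M7 [[], [0, 1, 2, 0, 3, 1, 2, 0, 3, 2, 4, 3, 1, 2, 0, 3, 2, 4, 3, 1, 5, 4, 3, 1, 2, 0, 3, 2, 4, 3, 1, 5, 4, 3, 2, 0, 6, 5, 4, 3, 1, 2, 0, 3, 2, 4, 3, 1, 5, 4, 3, 2, 0, 6, 5, 4, 3, 1, 2, 3, 4, 5, 6]] := by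
  have := E8S6.fin
  exact CenterList.step E8_7T E8M7 E8M6 E8_res7 E8_7_I E8_7_B E8_7_T
    E8_7_C E8_7_D E8S7 [[]] E8_cen6
    [(0, []), (55, [0, 1, 2, 0, 3, 1, 2, 0, 3, 2, 4, 3, 1, 2, 0, 3, 2, 4, 3, 1, 5, 4, 3, 1, 2, 0, 3, 2, 4, 3, 1, 5, 4, 3, 2, 0, 6, 5, 4, 3, 1, 2, 0, 3, 2, 4, 3, 1, 5, 4, 3, 2, 0, 6, 5, 4, 3, 1, 2, 3, 4, 5, 6])]
    (by decide +kernel) (by decide +kernel) [[], [0, 1, 2, 0, 3, 1, 2, 0, 3, 2, 4, 3, 1, 2, 0, 3, 2, 4, 3, 1, 5, 4, 3, 1, 2, 0, 3, 2, 4, 3, 1, 5, 4, 3, 2, 0, 6, 5, 4, 3, 1, 2, 0, 3, 2, 4, 3, 1, 5, 4, 3, 2, 0, 6, 5, 4, 3, 1, 2, 3, 4, 5, 6]] (by decide +kernel) (by decide +kernel)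

theorem E8_cen8 : CenterList E8M8 [[], [0, 1, 2, 0, 3, 1, 2, 0, 3, 2, 4, 3, 1, 2, 0, 3, 2, 4, 3, 1, 5, 4, 3, 1, 2, 0, 3, 2, 4, 3, 1, 5, 4, 3, 2, 0, 6, 5, 4, 3, 1, 2, 0, 3, 2, 4, 3, 1, 5, 4, 3, 2, 0, 6, 5, 4, 3, 1, 2, 3, 4, 5, 6, 7, 6, 5, 4, 3, 1, 2, 0, 3, 2, 4, 3, 1, 5, 4, 3, 2, 0, 6, 5, 4, 3, 1, 2, 3, 4, 5, 6, 7, 6, 5, 4, 3, 1, 2, 0, 3, 2, 4, 3, 1, 5, 4, 3, 2, 0, 6, 5, 4, 3, 1, 2, 3, 4, 5, 6, 7]] := by
  have := E8S7.fin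
  exact CenterList.step E8_8T E8M8 E8M7 E8_res8 E8_8_I E8_8_B E8_8_T
    E8_8_C E8_8_D E8S8 [[], [0, 1, 2, 0, 3, 1, 2, 0, 3, 2, 4, 3, 1, 2, 0, 3, 2, 4, 3, 1, 5, 4, 3, 1, 2, 0, 3, 2, 4, 3, 1, 5, 4, 3, 2, 0, 6, 5, 4, 3, 1, 2, 0, 3, 2, 4, 3, 1, 5, 4, 3, 2, 0, 6, 5, 4, 3, 1, 2, 3, 4, 5, 6]] E8_cen7
    [(0, []), (239, [0, 1, 2, 0, 3, 1, 2, 0, 3, 2, 4, 3, 1, 2, 0, 3, 2, 4, 3, 1, 5, 4, 3, 1, 2, 0, 3, 2, 4, 3, 1, 5, 4, 3, 2, 0, 6, 5, 4, 3, 1, 2, 0, 3, 2, 4, 3, 1, 5, 4, 3, 2, 0, 6, 5, 4, 3, 1, 2, 3, 4, 5, 6, 7, 6, 5, 4, 3, 1, 2, 0, 3, 2, 4, 3, 1, 5, 4, 3, 2, 0, 6, 5, 4, 3, 1, 2, 3, 4, 5, 6, 7, 6, 5, 4, 3, 1, 2, 0, 3, 2, 4, 3, 1, 5, 4, 3, 2, 0, 6, 5, 4, 3, 1, 2, 3, 4, 5, 6, 7])]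
    (by decide +kernel) (by decide +kernel) [[], [0, 1, 2, 0, 3, 1, 2, 0, 3, 2, 4, 3, 1, 2, 0, 3, 2, 4, 3, 1, 5, 4, 3, 1, 2, 0, 3, 2, 4, 3, 1, 5, 4, 3, 2, 0, 6, 5, 4, 3, 1, 2, 0, 3, 2, 4, 3, 1, 5, 4, 3, 2, 0, 6, 5, 4, 3, 1, 2, 3, 4, 5, 6, 7, 6, 5, 4, 3, 1, 2, 0, 3, 2, 4, 3, 1, 5, 4, 3, 2, 0, 6, 5, 4, 3, 1, 2, 3, 4, 5, 6, 7, 6, 5, 4, 3, 1, 2, 0, 3, 2, 4, 3, 1, 5, 4, 3, 2, 0, 6, 5, 4, 3, 1, 2, 3, 4, 5, 6, 7]] (by decide +kernel) (by decide +kernel)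

theorem F4_cen0 : CenterList F4M0 [[]] := CenterList.zero _

theorem F4_cen1 : CenterList F4M1 [[], [0]] := by
  have := F4S0.fin
  exact CenterList.step F4_1T F4M1 F4M0 F4_res1 F4_1_I F4_1_B F4_1_T
    F4_1_C F4_1_D F4S1 [[]] F4_cen0
    [(0, []), (1, [0])]
    (by decide +kernel) (by decide +kernel) [[], [0]] (by decide +kernel) (by decide +kernel)

theorem F4_cen2 : CenterList F4M2 [[]] := by
  have := F4S1.fin
  exact CenterList.step F4_2T F4M2 F4M1 F4_res2 F4_2_I F4_2_B F4_2_T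
    F4_2_C F4_2_D F4S2 [[], [0]] F4_cen1
    [(0, [])]
    (by decide +kernel) (by decide +kernel) [[]] (by decide +kernel) (by decide +kernel)

theorem F4_cen3 : CenterList F4M3 [[], [0, 1, 0, 2, 1, 0, 2, 1, 2]] := by
  have := F4S2.fin
  exact CenterList.step F4_3T F4M3 F4M2 F4_res3 F4_3_I F4_3_B F4_3_T
    F4_3_C F4_3_D F4S3 [[]] F4_cen2
    [(0, []), (7, [0, 1, 0, 2, 1, 0, 2, 1, 2])]
    (by decide +kernel) (by decide +kernel) [[], [0, 1, 0, 2, 1, 0, 2, 1, 2]] (by decide +kernel) (by decide +kernel)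

theorem F4_cen4 : CenterList F4M4 [[], [0, 1, 0, 2, 1, 0, 2, 1, 2, 3, 2, 1, 0, 2, 1, 2, 3, 2, 1, 0, 2, 1, 2, 3]] := by
  have := F4S3.fin
  exact CenterList.step F4_4T F4M4 F4M3 F4_res4 F4_4_I F4_4_B F4_4_T
    F4_4_C F4_4_D F4S4 [[], [0, 1, 0, 2, 1, 0, 2, 1, 2]] F4_cen3
    [(0, []), (23, [0, 1, 0, 2, 1, 0, 2, 1, 2, 3, 2, 1, 0, 2, 1, 2, 3, 2, 1, 0, 2, 1, 2, 3])]
    (by decide +kernel) (by decide +kernel) [[], [0, 1, 0, 2, 1, 0, 2, 1, 2, 3, 2, 1, 0, 2, 1, 2, 3, 2, 1, 0, 2, 1, 2, 3]] (by decide +kernel) (by decide +kernel)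

theorem D4_cen0 : CenterList D4M0 [[]] := CenterList.zero _

theorem D4_cen1 : CenterList D4M1 [[], [0]] := by
  have := D4S0.fin
  exact CenterList.step D4_1T D4M1 D4M0 D4_res1 D4_1_I D4_1_B D4_1_T
    D4_1_C D4_1_D D4S1 [[]] D4_cen0
    [(0, []), (1, [0])]
    (by decide +kernel) (by decide +kernel) [[], [0]] (by decide +kernel) (by decide +kernel)

theorem D4_cen2 : CenterList D4M2 [[]] := by
  have := D4S1.fin
  exact CenterList.step D4_2T D4M2 D4M1 D4_res2 D4_2_I D4_2_B D4_2_T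
    D4_2_C D4_2_D D4S2 [[], [0]] D4_cen1
    [(0, [])]
    (by decide +kernel) (by decide +kernel) [[]] (by decide +kernel) (by decide +kernel)

theorem D4_cen3 : CenterList D4M3 [[]] := by
  have := D4S2.fin
  exact CenterList.step D4_3T D4M3 D4M2 D4_res3 D4_3_I D4_3_B D4_3_T
    D4_3_C D4_3_D D4S3 [[]] D4_cen2
    [(0, [])]
    (by decide +kernel) (by decide +kernel) [[]] (by decide +kernel) (by decide +kernel)

theorem D4_cen4 : CenterList D4M4 [[], [0, 1, 0, 2, 1, 0, 3, 1, 0, 2, 1, 3]] := by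
  have := D4S3.fin
  exact CenterList.step D4_4T D4M4 D4M3 D4_res4 D4_4_I D4_4_B D4_4_T
    D4_4_C D4_4_D D4S4 [[]] D4_cen3
    [(0, []), (7, [0, 1, 0, 2, 1, 0, 3, 1, 0, 2, 1, 3])]
    (by decide +kernel) (by decide +kernel) [[], [0, 1, 0, 2, 1, 0, 3, 1, 0, 2, 1, 3]] (by decide +kernel) (by decide +kernel)

theorem B2_cen0 : CenterList B2M0 [[]] := CenterList.zero _

theorem B2_cen1 : CenterList B2M1 [[], [0]] := by
  have := B2S0.fin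
  exact CenterList.step B2_1T B2M1 B2M0 B2_res1 B2_1_I B2_1_B B2_1_T
    B2_1_C B2_1_D B2S1 [[]] B2_cen0
    [(0, []), (1, [0])]
    (by decide +kernel) (by decide +kernel) [[], [0]] (by decide +kernel) (by decide +kernel)

theorem B2_cen2 : CenterList B2M2 [[], [0, 1, 0, 1]] := by
  have := B2S1.fin
  exact CenterList.step B2_2T B2M2 B2M1 B2_res2 B2_2_I B2_2_B B2_2_T
    B2_2_C B2_2_D B2S2 [[], [0]] B2_cen1
    [(0, []), (3, [0, 1, 0, 1])]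
    (by decide +kernel) (by decide +kernel) [[], [0, 1, 0, 1]] (by decide +kernel) (by decide +kernel)

theorem G2_cen0 : CenterList G2M0 [[]] := CenterList.zero _

theorem G2_cen1 : CenterList G2M1 [[], [0]] := by
  have := G2S0.fin
  exact CenterList.step G2_1T G2M1 G2M0 G2_res1 G2_1_I G2_1_B G2_1_T
    G2_1_C G2_1_D G2S1 [[]] G2_cen0
    [(0, []), (1, [0])]
    (by decide +kernel) (by decide +kernel) [[], [0]] (by decide +kernel) (by decide +kernel)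

theorem G2_cen2 : CenterList G2M2 [[], [0, 1, 0, 1, 0, 1]] := by
  have := G2S1.fin
  exact CenterList.step G2_2T G2M2 G2M1 G2_res2 G2_2_I G2_2_B G2_2_T
    G2_2_C G2_2_D G2S2 [[], [0]] G2_cen1
    [(0, []), (5, [0, 1, 0, 1, 0, 1])]
    (by decide +kernel) (by decide +kernel) [[], [0, 1, 0, 1, 0, 1]] (by decide +kernel) (by decide +kernel)

end Cfsg.Agent.Lib.Helper6.CoxCenterData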