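import Mathlib
import Cfsg.Agent.Lib.Helper6.CoxOrder

/-! Generation of solved Coxeter groups by given elements. -/

set_option autoImplicit false

namespace Cfsg.Agent.Lib.Helper6.CoxTable

open CoxeterSystem

/-- expansion of a word over an alphabet of words -/
def expandW {B : Type} (gs : List (List B)) (w : List ℕ) : List B :=
  (w.map (fun k => gs.getD k [])).flatten

theorem wordProd_expandW_mem {B : Type} (M : CoxeterMatrix B) (H : Subgroup M.Group)
    (gs : List (List B)) (hgs : ∀ g ∈ gs, (csM M).wordProd g ∈ H) (w : List ℕ) :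
    (csM M).wordProd (expandW gs w) ∈ H := by
  induction w with
  | nil => unfold expandW; simp [H.one_mem]
  | cons k w ih =>
    have e : expandW gs (k :: w) = gs.getD k [] ++ expandW gs w := by
      unfold expandW; simp
    rw [e, wordProd_append]
    refine H.mul_mem ?_ ih
    by_cases hk : k < gs.length
    · rw [List.getD_eq_getElem _ _ hk]
      exact hgs _ (List.getElem_mem hk)
    · rw [List.getD_eq_default _ _ (by omega), wordProd_nil]
      exact H.one_mem

theorem Solved.eq_top_of_words {n N : ℕ} {M : CoxeterMatrix (Fin n)} (S : Solved M N)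
    (H : Subgroup M.Group) (gs : List (List (Fin n)))
    (hgs : ∀ g ∈ gs, (csM M).wordProd g ∈ H) (ws : List (List ℕ))
    (h : ∀ i : Fin n, S.triv (expandW gs (ws.getD i.val []) ++ [i]) = true) : H = ⊤ := by
  have hs : ∀ i : Fin n, (csM M).simple i ∈ H := by
    intro i
    have h1 := (S.spec _).1 (h i)
    rw [wordProd_append, wordProd_singleton] at h1
    have h2 : (csM M).simple i = ((csM M).wordProd (expandW gs (ws.getD i.val [])))⁻¹ :=
      (inv_eq_of_mul_eq_one_right h1).symm
    rw [h2]
    exact H.inv_mem (wordProd_expandW_mem M H gs hgs _)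
  rw [eq_top_iff, ← (csM M).subgroup_closure_range_simple, Subgroup.closure_le]
  rintro _ ⟨i, rfl⟩
  exact hs i

theorem Solved.closure_eq_top {n N : ℕ} {M : CoxeterMatrix (Fin n)} (S : Solved M N)
    (ω : List (Fin n)) (T : Set M.Group) (ts : List (Fin n)) (hts : ∀ j ∈ ts, M.simple j ∈ T)
    (ws : List (List ℕ))
    (h : ∀ i : Fin n, S.triv (expandW ([ω, ω.reverse] ++ ts.map (fun j => [j]))
      (ws.getD i.val []) ++ [i]) = true) :
    Subgroup.closure ({(csM M).wordProd ω} ∪ T) = ⊤ := by
  apply S.eq_top_of_words _ _ ?_ ws h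
  intro g hg
  rw [List.mem_append] at hg
  rcases hg with hg | hg
  · simp only [List.mem_cons, List.not_mem_nil, or_false] at hg
    rcases hg with rfl | rfl
    · exact Subgroup.subset_closure (Or.inl rfl)
    · rw [wordProd_reverse]
      exact Subgroup.inv_mem _ (Subgroup.subset_closure (Or.inl rfl))
  · rw [List.mem_map] at hg
    obtain ⟨j, hj, rfl⟩ := hg
    rw [wordProd_singleton, CoxeterMatrix.toCoxeterSystem_simple]
    exact Subgroup.subset_closure (Or.inr (hts j hj))

theorem Solved.simple_ne {n N : ℕ} {M : CoxeterMatrix (Fin n)} (S : Solved M N) (a b : Fin n)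
    (h : S.triv [a, b] = false) : M.simple a ≠ M.simple b := by
  intro e
  apply S.ne_one_of_triv _ h
  rw [wordProd_cons, wordProd_singleton, CoxeterMatrix.toCoxeterSystem_simple, e,
    ← CoxeterMatrix.toCoxeterSystem_simple, simple_mul_simple_self]

end Cfsg.Agent.Lib.Helper6.CoxTable
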