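import Cfsg.Agent.Lib.Helper6.TCIndex

/-! # Homomorphisms from a group presented on involutions: it suffices to check the words of the
relators -/

set_option autoImplicit false

namespace Cfsg.Agent.Lib.Helper6.CoxLift

open Cfsg.Agent.Lib.Helper6.TC Cfsg.Spor

/-- the words of the relators are trivial, so the relators are -/
theorem lift_eq_one_of_words {α : Type} [DecidableEq α] {edges : List (α × ℕ × α)}
    {extra : List (FreeGroup α)} {G : Type*} [Group G] (gen : ℕ → α) (code : α → ℕ) (g : ℕ)
    (extraWords : List (List ℕ)) (hcode : ∀ a, code a < g ∧ gen (code a) = a) (f : α → G)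
    (hextra : (∀ r ∈ extra, FreeGroup.lift f r = 1) ↔
      ∀ w ∈ extraWords, (w.map fun x => f (gen x)).prod = 1)
    (hw : ∀ w ∈ coxWordsL edges gen g ++ extraWords, (w.map fun x => f (gen x)).prod = 1) :
    ∀ r ∈ coxRelators edges ∪ {r | r ∈ extra}, FreeGroup.lift f r = 1 := by
  intro r hr
  rcases hr with ⟨x, _, y, _, rfl⟩ | hr
  · rw [map_pow, map_mul, FreeGroup.lift_apply_of, FreeGroup.lift_apply_of]
    have hx := hcode x
    have hy := hcode y
    have hm := mem_coxWordsL edges gen hx.1 hy.1
    have := hw _ (List.mem_append_left _ hm)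
    rw [prod_rep2 (fun x => f (gen x)), hx.2, hy.2] at this
    exact this
  · exact hextra.2 (fun w hw' => hw w (List.mem_append_right _ hw')) r hr

end Cfsg.Agent.Lib.Helper6.CoxLift
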