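import Cfsg.Agent.Lib.Helper6.ChevMatL

/-! # Matrices given by lists of rows or of columns, indexed by a finite type with a numbering -/

set_option autoImplicit false
set_option linter.unusedSectionVars false

namespace Cfsg.Agent.Lib.Helper6.EquivMatL

open Cfsg.Agent.Lib.Helper6.ChevMatL

section

variable {F : Type*} [Field F] {ι : Type*} [Fintype ι] {n : ℕ} (e : ι ≃ Fin n)

theorem sum_num (f : ℕ → F) : ∑ k : ι, f (e k).val = ∑ k ∈ Finset.range n, f k := by
  rw [← Fin.sum_univ_eq_sum_range f n]
  exact Equiv.sum_comp e fun k : Fin n => f k.val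

/-- the matrix with the given rows -/
def rowM (X : List (List F)) : Matrix ι ι F :=
  Matrix.of fun i j => entry X (e i).val (e j).val

/-- the matrix with the given columns -/
def colM (Yt : List (List F)) : Matrix ι ι F :=
  Matrix.of fun i j => entry Yt (e j).val (e i).val

theorem rowM_apply (X : List (List F)) (i j : ι) :
    rowM e X i j = entry X (e i).val (e j).val := rfl

theorem colM_apply (Yt : List (List F)) (i j : ι) :
    colM e Yt i j = entry Yt (e j).val (e i).val := rfl

theorem rowM_mulT (X Yt : List (List F)) (h : colsOK n Yt) :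
    rowM e X * colM e Yt = rowM e (mulT X Yt) := by
  ext i j
  rw [Matrix.mul_apply, rowM_apply, entry_mulT X Yt h,
    ← sum_num e fun k => entry X (e i).val k * entry Yt (e j).val k]
  rfl

theorem rowM_one [DecidableEq ι] : (1 : Matrix ι ι F) = rowM e (idL n) := by
  ext i j
  rw [rowM_apply, entry_idL (e i).isLt (e j).isLt, Matrix.one_apply]
  by_cases h : i = j
  · subst h
    rw [if_pos rfl, if_pos rfl]
  · rw [if_neg h, if_neg (fun h' => h (e.injective (Fin.ext h')))]

theorem colM_transp (X : List (List F)) : colM e (transp n X) = rowM e X := by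
  ext i j
  rw [colM_apply, rowM_apply, entry_transp X (e j).isLt]

theorem rowM_foldl [DecidableEq ι] (Ms : List (List (List F))) (h : ∀ Yt ∈ Ms, colsOK n Yt) :
    ∀ A : List (List F), rowM e (Ms.foldl mulT A) = rowM e A * (Ms.map (colM e)).prod := by
  induction Ms with
  | nil =>
    intro A
    simp
  | cons Y Ms ih =>
    intro A
    rw [List.foldl_cons, ih (fun Yt hY => h Yt (List.mem_cons_of_mem _ hY)), List.map_cons,
      List.prod_cons, ← mul_assoc, rowM_mulT e A Y (h Y List.mem_cons_self)]

theorem rowM_prodT [DecidableEq ι] (Ms : List (List (List F))) (h : ∀ Yt ∈ Ms, colsOK n Yt) :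
    rowM e (prodT n Ms) = (Ms.map (colM e)).prod := by
  unfold prodT
  rw [rowM_foldl e Ms h, ← rowM_one, one_mul]

end

end Cfsg.Agent.Lib.Helper6.EquivMatL
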