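import Cfsg.Agent.Lib.Helper6.F4Mat

/-! # Words for the generators of `²F₄(2)` in terms of the images of the generators of the presented Tits group and the element `g0 = B10` (generated) -/

set_option autoImplicit false
set_option maxRecDepth 100000
set_option maxHeartbeats 0

namespace Cfsg.Agent.Lib.Helper6.F4Mat

open Cfsg.Lie Cfsg.Agent.Lib.Helper6.BitMat

/-- `g0 * x * g0⁻¹` for the four generators `x`, as words -/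
def conjW : List (List ℕ) :=
  [[3, 1, 3, 1, 3, 1, 2, 0, 1, 3, 0, 1, 3, 2, 0, 1, 0, 1, 2, 0, 1, 0, 1, 0, 1, 0, 1, 2, 0, 1, 0, 1, 2,
    0, 1, 0, 1, 2, 0, 1, 0, 1, 2, 0], [1, 3, 2, 0, 1, 3, 1, 3, 1, 3, 1, 3, 2, 1, 0, 1, 0, 1, 2, 0, 1,
    0, 1, 0, 1, 0, 1, 2, 0, 1, 0, 1, 0, 1, 2, 0, 1, 0, 1, 2], [3, 1, 3, 0, 1, 0, 1, 2, 1, 0, 1, 3, 1,
    2, 0, 1, 0, 1, 0, 1, 0, 1, 0, 1, 0, 1, 2, 1, 0, 1, 0, 1, 0], [0, 1, 0, 1, 2, 0, 1, 0, 1, 0, 1, 3,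
    2, 1, 0, 1, 0, 1, 2, 0, 1, 0, 1, 0, 1, 0, 1, 0, 1, 2, 1, 0, 1, 0, 1, 0, 1, 2]]

/-- `g0⁻¹ * x * g0` for the four generators `x`, as words -/
def conjW' : List (List ℕ) :=
  [[3, 2, 1, 3, 0, 1, 0, 1, 2, 1, 0, 1, 3, 1, 2, 0, 1, 0, 1, 0, 1, 0, 1, 0, 1, 0, 1, 2, 1, 0, 1, 0, 1,
    0, 1, 2, 1], [1, 3, 1, 0, 1, 3, 0, 1, 0, 1, 0, 1, 3, 2, 1, 0, 1, 0, 1, 0, 1, 0, 1, 0, 1, 2, 0, 1,
    0, 1, 0, 1, 0, 1, 0, 1, 0, 1, 0], [0, 1, 3, 2, 1, 3, 1, 3, 0, 1, 3, 2, 0, 1, 0, 1, 0, 1, 0, 1, 2,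
    0, 1, 0, 1, 2, 0, 1, 0, 1, 0, 1, 0, 1, 2, 0, 1, 0, 1], [0, 1, 2, 0, 1, 3, 2, 1, 0, 1, 2, 1, 0, 1,
    0, 1, 0, 1, 0, 1, 2, 0, 1, 0, 1, 0, 1, 0, 1, 0, 1, 2, 0, 1, 0, 1]]

/-- `g0 * g0` as a word -/
def sqW : List ℕ :=
  [3, 2, 0, 1, 3, 1, 0, 1, 0, 1, 0, 1, 3, 1, 0, 1, 0, 1, 2, 0, 1, 0, 1, 0, 1, 0, 1, 2, 1, 0, 1, 0, 1,
    0, 1, 0, 1, 2, 1, 0]

/-- the eight generators of `²F₄(2)` as words times a power of `g0` -/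
def genW : List (List ℕ) :=
  [[0], [0, 1, 0, 1, 2, 1, 0, 1, 3, 2, 0, 1, 3, 2, 1, 0, 1, 0, 1, 2, 0, 1, 0, 1, 0, 1, 2, 0, 1, 0, 1,
    2, 0, 1, 0, 1, 0, 1, 0, 1, 0], [3, 2, 0, 1, 3, 1, 0, 1, 0, 1, 0, 1, 3, 1, 0, 1, 0, 1, 2, 0, 1, 0,
    1, 0, 1, 0, 1, 2, 1, 0, 1, 0, 1, 0, 1, 0, 1, 2, 1, 0], [3], [], [3, 0, 1, 2, 0, 1, 3, 2, 1, 0, 1,
    2, 1, 0, 1, 0, 1, 0, 1, 0, 1, 2, 0, 1, 0, 1, 0, 1, 0, 1, 0, 1, 2, 0, 1, 0, 1], [3, 2, 0, 1, 3, 1,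
    0, 1, 0, 1, 0, 1, 3, 1, 0, 1, 0, 1, 2, 0, 1, 0, 1, 0, 1, 0, 1, 2, 1, 0, 1, 0, 1, 0, 1, 0, 1, 2,
    1, 0], [0, 1, 2, 0, 1, 3, 2, 1, 0, 1, 2, 1, 0, 1, 0, 1, 0, 1, 0, 1, 2, 0, 1, 0, 1, 0, 1, 0, 1, 0,
    1, 2, 0, 1, 0, 1]]

/-- the exponents of `g0` -/
def genK : List ℕ := [0, 0, 0, 0, 1, 1, 1, 1]

/-- the table of the generators for the pairs of roots -/
def tblP (t : F) : List ℕ := if t = 0 then idB 52 else gP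
def tblM (t : F) : List ℕ := if t = 0 then idB 52 else gM

/-- the table of the generators for the classes of type `B₂` -/
def tblB (t u : F) : List ℕ :=
  if t = 0 then (if u = 0 then idB 52 else gB01) else (if u = 0 then gB10 else gB11)
def tblC (t u : F) : List ℕ :=
  if t = 0 then (if u = 0 then idB 52 else gC01) else (if u = 0 then gC10 else gC11)

/-- the roots with a coded matrix -/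
def roots : List ℕ := [33, 24, 14, 23, 27, 25, 28, 30, 20, 22, 19, 17]

end Cfsg.Agent.Lib.Helper6.F4Mat
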