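import Cfsg.Agent.Lib.Helper6.F4Mat
import Cfsg.Agent.Lib.Helper6.F4WData

/-! # Kernel checks: inverses, the generators as words in the root elements, `y` and `z` as words in the generators -/

set_option autoImplicit false
set_option maxRecDepth 100000
set_option maxHeartbeats 0

namespace Cfsg.Agent.Lib.Helper6.F4Mat

open Cfsg.Lie Cfsg.Agent.Lib.Helper6.BitMat

theorem chk_pairs : pairs.all (fun p => decide (p.1.length = 52) && decide (p.2.length = 52) &&
    (mulR p.1 p.2 == idB 52) && (mulR p.2 p.1 == idB 52)) = true := by decide +kernel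

theorem chk_wP : ∀ t : F, wB (f4PairWord 1 f4p1 f4p4 t) = tblP t ∧
    (f4PairWord 1 f4p1 f4p4 t).all (fun p => roots.contains p.1) = true := by decide +kernel

theorem chk_wM : ∀ t : F, wB (f4PairWord 1 f4m1 f4m4 t) = tblM t ∧
    (f4PairWord 1 f4m1 f4m4 t).all (fun p => roots.contains p.1) = true := by decide +kernel

theorem chk_wB : ∀ t u : F, wB (b2ClassWord 1 f4a f4b f4ab f4aab t u) = tblB t u ∧
    (b2ClassWord 1 f4a f4b f4ab f4aab t u).all (fun p => roots.contains p.1) = true := by
  decide +kernel

theorem chk_wC : ∀ t u : F, wB (b2ClassWord 1 f4ma f4mb f4mab f4maab t u) = tblC t u ∧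
    (b2ClassWord 1 f4ma f4mb f4mab f4maab t u).all (fun p => roots.contains p.1) = true := by
  decide +kernel

theorem chk_y : prodB (wordY.map matB) = gY := by decide +kernel

theorem chk_z : prodB (wordZ.map matB) = gZ := by decide +kernel

theorem chk_ne : genB 0 ≠ idB 52 := by decide +kernel

theorem chk_nc : mulR (genB 0) (genB 1) ≠ mulR (genB 1) (genB 0) := by decide +kernel

end Cfsg.Agent.Lib.Helper6.F4Mat
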