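import Cfsg.Agent.Lib.Helper6.F4Mat
import Cfsg.Agent.Lib.Helper6.F4WData

/-! # Kernel checks: conjugation by `g0`, the square of `g0`, the generators as words -/

set_option autoImplicit false
set_option maxRecDepth 100000
set_option maxHeartbeats 0

namespace Cfsg.Agent.Lib.Helper6.F4Mat

open Cfsg.Lie Cfsg.Agent.Lib.Helper6.BitMat

theorem chk_conj : ∀ i, i < 4 → mulR gB10 (mulR (genB i) gB11) = prodB ((conjW.getD i []).map genB) := by
  decide +kernel

theorem chk_conj' : ∀ i, i < 4 → mulR gB11 (mulR (genB i) gB10) = prodB ((conjW'.getD i []).map genB) := by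
  decide +kernel

theorem chk_sq : mulR gB10 gB10 = prodB (sqW.map genB) := by decide +kernel

theorem chk_gen : ∀ k, k < 8 → matB k =
    prodB ((genW.getD k []).map genB ++ List.replicate (genK.getD k 0) gB10) := by decide +kernel

end Cfsg.Agent.Lib.Helper6.F4Mat
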