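import Cfsg.Agent.Lib.Helper6.SimpUB

/-! # A presentation of the Tits group on four involutions, and its sub-presentations of `PSL(3,3):2` and of a dihedral group of order 26 -/

set_option autoImplicit false
set_option linter.unusedSimpArgs false

namespace Cfsg.Agent.Lib.Helper6.TitsSub

open Cfsg.Spor Cfsg.Agent.Lib.Helper6.Simp

namespace P4

/-- the generators x, y, z, t -/
inductive Gen
  | x
  | y
  | z
  | t
  deriving DecidableEq

abbrev x : FreeGroup Gen := FreeGroup.of Gen.x
abbrev y : FreeGroup Gen := FreeGroup.of Gen.y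
abbrev z : FreeGroup Gen := FreeGroup.of Gen.z
abbrev t : FreeGroup Gen := FreeGroup.of Gen.t

/-- the Coxeter graph -/
def edges : List (Gen × ℕ × Gen) :=
  [(.x, 13, .y), (.y, 3, .z), (.y, 10, .t)]

/-- the further relators -/
def extra : List (FreeGroup Gen) := [  (x * y * z) ^ 8,
  (z * (y * x) ^ 5 * y) ^ 4,
  t * y * x * y * t * z * y * x * y * t * z * y * x * y * z,
  t * y * t * y * x * z * t * y * t * y * t * x * y * x * y * z * x * y * x * y * x * y * x * y * x * y * x * y * z * x * y * x * y * x,
  t * y * x * t * y * x * t * y * t * x * y * t * x * y * t * x * y * x,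
  t * y * x * z * y * t * y * z * x * y * t * y * z * x * y * t * x * y * x * y * z * x * y * x * y * z * x * y * x * y * x * y * z * x * y * x * y * z * x * y * x * y * x,
  t * y * x * y * x * y * z * t * y * t * y * x * y * t * x * y * t * z * x * y * x * y * x * y * z * y * x * y * x * y * x * y * x * y * x * y * z * x * y * x * y * z * y]

end P4

/-- the presented group on x, y, z, t -/
abbrev P4 : Type := CoxPresented P4.Gen P4.edges P4.extra

namespace P3

/-- the generators x, y, z -/
inductive Gen
  | x
  | y
  | z
  deriving DecidableEq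

abbrev x : FreeGroup Gen := FreeGroup.of Gen.x
abbrev y : FreeGroup Gen := FreeGroup.of Gen.y
abbrev z : FreeGroup Gen := FreeGroup.of Gen.z

/-- the Coxeter graph -/
def edges : List (Gen × ℕ × Gen) :=
  [(.x, 13, .y), (.y, 3, .z)]

/-- the further relators -/
def extra : List (FreeGroup Gen) := [  (x * y * z) ^ 8,
  (z * (y * x) ^ 5 * y) ^ 4]

/-- the inclusion of the generators -/
def ι : Gen → P4.Gen
  | .x => .x
  | .y => .y
  | .z => .z

end P3

/-- the group of the sub-presentation on x, y, z -/
abbrev P3 : Type := CoxPresented P3.Gen P3.edges P3.extra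

namespace P2

/-- the generators x, y -/
inductive Gen
  | x
  | y
  deriving DecidableEq

abbrev x : FreeGroup Gen := FreeGroup.of Gen.x
abbrev y : FreeGroup Gen := FreeGroup.of Gen.y

/-- the Coxeter graph -/
def edges : List (Gen × ℕ × Gen) :=
  [(.x, 13, .y)]

/-- the further relators -/
def extra : List (FreeGroup Gen) := []

/-- the inclusion of the generators -/
def ι : Gen → P3.Gen
  | .x => .x
  | .y => .y

end P2

/-- the group of the sub-presentation on x, y -/
abbrev P2 : Type := CoxPresented P2.Gen P2.edges P2.extra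

/-- `P3` maps to `P4` -/
def subP3 : SubPres P4.edges P4.extra P3.edges P3.extra where
  ι := P3.ι
  hnode := by decide
  hlabel := by decide
  hextra := by
    intro r hr
    simp only [P3.extra, List.mem_cons, List.not_mem_nil, or_false] at hr
    rcases hr with rfl | rfl <;>
      simp only [map_mul, map_inv, map_pow, FreeGroup.map.of, P3.ι, P4.extra, List.mem_cons,
        true_or, or_true]

/-- `P2` maps to `P3` -/
def subP2 : SubPres P3.edges P3.extra P2.edges P2.extra where
  ι := P2.ι
  hnode := by decide
  hlabel := by decide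
  hextra := by
    intro r hr
    simp [P2.extra] at hr

theorem rangeP3 : (Set.range fun y => FreeGroup.of (subP3.ι y)) =
    ({P4.x, P4.y, P4.z} : Set (FreeGroup P4.Gen)) := by
  ext z
  constructor
  · rintro ⟨y, rfl⟩
    cases y <;> simp [subP3, P3.ι]
  · intro hz
    simp only [Set.mem_insert_iff, Set.mem_singleton_iff] at hz
    rcases hz with rfl | rfl | rfl
    · exact ⟨.x, rfl⟩
    · exact ⟨.y, rfl⟩
    · exact ⟨.z, rfl⟩

theorem rangeP2 : (Set.range fun y => FreeGroup.of (subP2.ι y)) =
    ({P3.x, P3.y} : Set (FreeGroup P3.Gen)) := by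
  ext z
  constructor
  · rintro ⟨y, rfl⟩
    cases y <;> simp [subP2, P2.ι]
  · intro hz
    simp only [Set.mem_insert_iff, Set.mem_singleton_iff] at hz
    rcases hz with rfl | rfl
    · exact ⟨.x, rfl⟩
    · exact ⟨.y, rfl⟩

end Cfsg.Agent.Lib.Helper6.TitsSub
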