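import Cfsg.Agent.Lib.Helper6.TitsP4TCData
import Cfsg.Agent.Lib.Helper6.TCInst
import Cfsg.Agent.Lib.Helper6.TitsSub

/-! # TitsP4: the kernel checks of the words, the coset table and the orbits -/

set_option autoImplicit false

namespace Cfsg.Agent.Lib.Helper6.TitsP4TC

open Cfsg.Agent.Lib.Helper6.TC Cfsg.Spor Cfsg.Agent.Lib.Helper6.TitsSub

/-- the generator with a given code -/
def gen : ℕ → P4.Gen
  | 0 => .x
  | 1 => .y
  | 2 => .z
  | _ => .t

/-- the code of a generator -/
def code : P4.Gen → ℕ
  | .x => 0
  | .y => 1
  | .z => 2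
  | .t => 3

theorem chk_words : wordsSrcOK cfg (coxWordsL P4.edges gen cfg.g ++ extraWords) nw srcs = true := by
  decide +kernel

theorem chk_tab : tab.tabOK = true := by decide +kernel

theorem chk_rels : tab.relsOK (coxWordsL P4.edges gen cfg.g ++ extraWords) = true := by
  decide +kernel

theorem chk_tree : tab.treeOK = true := by decide +kernel

theorem chk_sub : subOK cfg tab subW = true := by decide +kernel

theorem chk_orb1 : tab.orbRun subW orbInstr1 [orbRoot1] (bset 0 orbRoot1) = some orbB1 := by
  decide +kernel

theorem chk_closed1 : tab.closedOK subW orbB1 = true := by decide +kernel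

theorem chk_cnt1 : cnt orbB1 tab.n = 351 := by decide +kernel

theorem chk_orb2 : tab.orbRun subW orbInstr2 [orbRoot2] (bset 0 orbRoot2) = some orbB2 := by
  decide +kernel

theorem chk_closed2 : tab.closedOK subW orbB2 = true := by decide +kernel

theorem chk_cnt2 : cnt orbB2 tab.n = 312 := by decide +kernel

theorem chk_orb3 : tab.orbRun subW orbInstr3 [orbRoot3] (bset 0 orbRoot3) = some orbB3 := by
  decide +kernel

theorem chk_closed3 : tab.closedOK subW orbB3 = true := by decide +kernel

theorem chk_cnt3 : cnt orbB3 tab.n = 936 := by decide +kernel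


end Cfsg.Agent.Lib.Helper6.TitsP4TC
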