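import Cfsg.Agent.Lib.Helper6.F4Mat
import Cfsg.Agent.Lib.Helper6.F4WData
import Cfsg.Agent.Lib.Helper6.TitsP4TC

/-! # Kernel check: the relators of the presented Tits group hold for the matrices -/

set_option autoImplicit false
set_option maxRecDepth 100000
set_option maxHeartbeats 0

namespace Cfsg.Agent.Lib.Helper6.F4Mat

open Cfsg.Lie Cfsg.Agent.Lib.Helper6.BitMat Cfsg.Agent.Lib.Helper6.TC Cfsg.Agent.Lib.Helper6.TitsSub Cfsg.Spor

theorem chk_rels : (coxWordsL P4.edges TitsP4TC.gen 4 ++ TitsP4TC.extraWords).all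
    (fun w => prodB (w.map genB) == idB 52) = true := by decide +kernel

theorem chk_rels_lt : (coxWordsL P4.edges TitsP4TC.gen 4 ++ TitsP4TC.extraWords).all
    (fun w => w.all fun x => decide (x < 4)) = true := by decide +kernel

end Cfsg.Agent.Lib.Helper6.F4Mat
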