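import Cfsg.Agent.Lib.Helper6.F4Mat

/-! # The coded root elements are the root elements of the frozen definition (kernel checks, part 1) -/

set_option autoImplicit false
set_option maxRecDepth 100000
set_option maxHeartbeats 0

namespace Cfsg.Agent.Lib.Helper6.F4Mat

open Cfsg.Lie Cfsg.Agent.Lib.Helper6.BitMat

theorem chk_x27 : ∀ t : F, ∀ a b : Fin 52, chevF4.x F 27 t (e52.symm a) (e52.symm b) =
    bz (((xB 27 t).getD b 0).testBit a) := by decide +kernel

theorem chk_x25 : ∀ t : F, ∀ a b : Fin 52, chevF4.x F 25 t (e52.symm a) (e52.symm b) =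
    bz (((xB 25 t).getD b 0).testBit a) := by decide +kernel

theorem chk_x28 : ∀ t : F, ∀ a b : Fin 52, chevF4.x F 28 t (e52.symm a) (e52.symm b) =
    bz (((xB 28 t).getD b 0).testBit a) := by decide +kernel

theorem chk_x30 : ∀ t : F, ∀ a b : Fin 52, chevF4.x F 30 t (e52.symm a) (e52.symm b) =
    bz (((xB 30 t).getD b 0).testBit a) := by decide +kernel

end Cfsg.Agent.Lib.Helper6.F4Mat
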