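import Cfsg.Agent.Lib.Helper6.F4Core
import Cfsg.Agent.Lib.Helper6.CodBase
import Cfsg.Prelude.Def_Spor_J3

/-! # Coded 9 × 9 matrices over a field with four elements: the denotation -/

set_option autoImplicit false

namespace Cfsg.Agent.Lib.Helper6.F4

open Cfsg.Spor Cfsg.Agent.Lib.Helper6.Cod

/-- the position of an index -/
def idx (z : F9) : ℕ := 3 * z.1.val + z.2.val

theorem idx_lt (z : F9) : idx z < 9 := by
  have h1 := ZMod.val_lt z.1
  have h2 := ZMod.val_lt z.2
  unfold idx; omega

theorem idx_inj {z z' : F9} (h : idx z = idx z') : z = z' := by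
  have h1 := ZMod.val_lt z.1
  have h2 := ZMod.val_lt z.2
  have h3 := ZMod.val_lt z'.1
  have h4 := ZMod.val_lt z'.2
  unfold idx at h
  apply Prod.ext
  · apply ZMod.val_injective; omega
  · apply ZMod.val_injective; omega

theorem exists_idx {i : ℕ} (hi : i < 9) : ∃ z : F9, idx z = i := by
  refine ⟨(((i / 3 : ℕ) : ZMod 3), ((i % 3 : ℕ) : ZMod 3)), ?_⟩
  unfold idx
  simp only
  rw [ZMod.val_natCast, ZMod.val_natCast]
  omega

section

variable (F : Type*) [Field F] (ω : F)

/-- a bit, in `F` -/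
def β (b : Bool) : F := if b then 1 else 0

/-- the denoted matrix -/
def den (c : ℕ) : Matrix F9 F9 F := fun w z =>
  β F (c.testBit (9 * idx w + idx z)) + β F (c.testBit (81 + (9 * idx w + idx z))) * ω

variable {F} {ω}

theorem β_and (x y : Bool) : β F (x && y) = β F x * β F y := by
  cases x <;> cases y <;> simp [β]

theorem β_xor (h2 : (2 : F) = 0) (x y : Bool) : β F (x ^^ y) = β F x + β F y := by
  cases x <;> cases y <;> simp [β]
  rw [one_add_one_eq_two, h2]

theorem sum_F9 (f : F9 → F) : ∑ z, f z =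
    f (0, 0) + f (0, 1) + f (0, 2) + f (1, 0) + f (1, 1) + f (1, 2) + f (2, 0) + f (2, 1) +
      f (2, 2) := by
  rw [Fintype.sum_prod_type]
  have h3 : ∀ g : ZMod 3 → F, ∑ x, g x = g 0 + g 1 + g 2 := fun g => Fin.sum_univ_three g
  simp only [h3]
  ring

theorem den_mul (hω : ω ^ 2 + ω + 1 = 0) (h2 : (2 : F) = 0) (a b : ℕ) :
    den F ω (lmul a b) = den F ω a * den F ω b := by
  ext w z
  rw [Matrix.mul_apply, sum_F9]
  have hi := idx_lt w
  have hj := idx_lt z
  have hlo : 9 * idx w + idx z < 81 := by omega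
  simp only [den]
  rw [testBit_lmul_lo _ _ _ hlo, testBit_lmul_hi]
  simp only [Nat.testBit_xor, testBit_f2 _ _ _ _ hi hj, β_xor h2, β_and]
  have e0 : idx ((0, 0) : F9) = 0 := rfl
  have e1 : idx ((0, 1) : F9) = 1 := rfl
  have e2 : idx ((0, 2) : F9) = 2 := rfl
  have e3 : idx ((1, 0) : F9) = 3 := rfl
  have e4 : idx ((1, 1) : F9) = 4 := rfl
  have e5 : idx ((1, 2) : F9) = 5 := rfl
  have e6 : idx ((2, 0) : F9) = 6 := rfl
  have e7 : idx ((2, 1) : F9) = 7 := rfl
  have e8 : idx ((2, 2) : F9) = 8 := rfl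
  rw [e0, e1, e2, e3, e4, e5, e6, e7, e8]
  have p0 : ∀ k, k < 9 → (pl0 a).testBit (9 * idx w + k) = a.testBit (9 * idx w + k) :=
    fun k hk => testBit_pl0 _ _ (by omega)
  have p1 : ∀ k, (pl1 a).testBit (9 * idx w + k) = a.testBit (81 + (9 * idx w + k)) :=
    fun k => testBit_pl1 _ _
  have q0 : ∀ k, k < 9 → (pl0 b).testBit (9 * k + idx z) = b.testBit (9 * k + idx z) :=
    fun k hk => testBit_pl0 _ _ (by omega)
  have q1 : ∀ k, (pl1 b).testBit (9 * k + idx z) = b.testBit (81 + (9 * k + idx z)) :=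
    fun k => testBit_pl1 _ _
  simp only [p0 _ (by norm_num : 0 < 9), p0 _ (by norm_num : 1 < 9), p0 _ (by norm_num : 2 < 9),
    p0 _ (by norm_num : 3 < 9), p0 _ (by norm_num : 4 < 9), p0 _ (by norm_num : 5 < 9),
    p0 _ (by norm_num : 6 < 9), p0 _ (by norm_num : 7 < 9), p0 _ (by norm_num : 8 < 9), p1,
    q0 _ (by norm_num : 0 < 9), q0 _ (by norm_num : 1 < 9), q0 _ (by norm_num : 2 < 9),
    q0 _ (by norm_num : 3 < 9), q0 _ (by norm_num : 4 < 9), q0 _ (by norm_num : 5 < 9),
    q0 _ (by norm_num : 6 < 9), q0 _ (by norm_num : 7 < 9), q0 _ (by norm_num : 8 < 9), q1]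
  have hω' : ω ^ 2 = ω + 1 := by linear_combination hω - (ω + 1) * h2
  generalize β F (a.testBit (9 * idx w + 0)) = P0
  generalize β F (a.testBit (9 * idx w + 1)) = P1
  generalize β F (a.testBit (9 * idx w + 2)) = P2
  generalize β F (a.testBit (9 * idx w + 3)) = P3
  generalize β F (a.testBit (9 * idx w + 4)) = P4
  generalize β F (a.testBit (9 * idx w + 5)) = P5
  generalize β F (a.testBit (9 * idx w + 6)) = P6
  generalize β F (a.testBit (9 * idx w + 7)) = P7
  generalize β F (a.testBit (9 * idx w + 8)) = P8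
  generalize β F (a.testBit (81 + (9 * idx w + 0))) = Q0
  generalize β F (a.testBit (81 + (9 * idx w + 1))) = Q1
  generalize β F (a.testBit (81 + (9 * idx w + 2))) = Q2
  generalize β F (a.testBit (81 + (9 * idx w + 3))) = Q3
  generalize β F (a.testBit (81 + (9 * idx w + 4))) = Q4
  generalize β F (a.testBit (81 + (9 * idx w + 5))) = Q5
  generalize β F (a.testBit (81 + (9 * idx w + 6))) = Q6
  generalize β F (a.testBit (81 + (9 * idx w + 7))) = Q7
  generalize β F (a.testBit (81 + (9 * idx w + 8))) = Q8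
  generalize β F (b.testBit (9 * 0 + idx z)) = R0
  generalize β F (b.testBit (9 * 1 + idx z)) = R1
  generalize β F (b.testBit (9 * 2 + idx z)) = R2
  generalize β F (b.testBit (9 * 3 + idx z)) = R3
  generalize β F (b.testBit (9 * 4 + idx z)) = R4
  generalize β F (b.testBit (9 * 5 + idx z)) = R5
  generalize β F (b.testBit (9 * 6 + idx z)) = R6
  generalize β F (b.testBit (9 * 7 + idx z)) = R7
  generalize β F (b.testBit (9 * 8 + idx z)) = R8
  generalize β F (b.testBit (81 + (9 * 0 + idx z))) = S0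
  generalize β F (b.testBit (81 + (9 * 1 + idx z))) = S1
  generalize β F (b.testBit (81 + (9 * 2 + idx z))) = S2
  generalize β F (b.testBit (81 + (9 * 3 + idx z))) = S3
  generalize β F (b.testBit (81 + (9 * 4 + idx z))) = S4
  generalize β F (b.testBit (81 + (9 * 5 + idx z))) = S5
  generalize β F (b.testBit (81 + (9 * 6 + idx z))) = S6
  generalize β F (b.testBit (81 + (9 * 7 + idx z))) = S7
  generalize β F (b.testBit (81 + (9 * 8 + idx z))) = S8
  linear_combination (-(Q0 * S0 + Q1 * S1 + Q2 * S2 + Q3 * S3 + Q4 * S4 + Q5 * S5 + Q6 * S6 +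
    Q7 * S7 + Q8 * S8)) * hω'

theorem testBit_lone : ∀ i : Fin 9, ∀ j : Fin 9,
    lone.testBit (9 * i.val + j.val) = decide (i = j) := by decide

theorem lone_lt : lone < 2 ^ 81 := by norm_num [lone]

theorem testBit_of_lt {a n m : ℕ} (ha : a < 2 ^ n) (hm : n ≤ m) : a.testBit m = false :=
  Nat.testBit_lt_two_pow (lt_of_lt_of_le ha (Nat.pow_le_pow_right (by norm_num) hm))

theorem den_one : den F ω lone = 1 := by
  ext w z
  simp only [den]
  rw [testBit_of_lt lone_lt (by omega : 81 ≤ 81 + (9 * idx w + idx z))]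
  have := testBit_lone ⟨idx w, idx_lt w⟩ ⟨idx z, idx_lt z⟩
  simp only at this
  rw [this, Matrix.one_apply]
  by_cases h : w = z
  · subst h; simp [β]
  · have : (⟨idx w, idx_lt w⟩ : Fin 9) ≠ ⟨idx z, idx_lt z⟩ := by
      intro e
      exact h (idx_inj (Fin.mk.inj e))
    simp [β, this, h]

/-- the two bits are determined by the entry -/
theorem bits_inj (hω : ω ^ 2 + ω + 1 = 0) (h2 : (2 : F) = 0) {a0 a1 b0 b1 : Bool}
    (h : β F a0 + β F a1 * ω = β F b0 + β F b1 * ω) : a0 = b0 ∧ a1 = b1 := by
  have h1 : (1 : F) ≠ 0 := one_ne_zero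
  have hω0 : ω ≠ 0 := by
    intro e; rw [e] at hω; simp at hω
  have hω1 : ω ≠ 1 := by
    intro e
    rw [e] at hω
    have : (1 : F) = 0 := by linear_combination hω - h2
    exact h1 this
  have hω2 : 1 + ω ≠ 0 := by
    intro e
    apply hω1
    linear_combination e - h2
  cases a0 <;> cases a1 <;> cases b0 <;> cases b1 <;> simp only [β, if_true, if_false,
    Bool.false_eq_true, zero_mul, one_mul, add_zero, zero_add, and_self, and_true, and_false,
    Bool.true_eq_false] at h ⊢ <;>
  first
    | trivial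
    | exact hω0 (by linear_combination h)
    | exact hω0 (by linear_combination -h)
    | exact h1 (by linear_combination h)
    | exact h1 (by linear_combination -h)
    | exact hω1 (by linear_combination h)
    | exact hω1 (by linear_combination -h)
    | exact hω2 (by linear_combination h)
    | exact hω2 (by linear_combination -h)

/-- canonical codes -/
def Canon (c : ℕ) : Prop := c < 2 ^ 162

theorem den_inj (hω : ω ^ 2 + ω + 1 = 0) (h2 : (2 : F) = 0) (a b : ℕ) (ha : Canon a)
    (hb : Canon b) (h : den F ω a = den F ω b) : a = b := by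
  apply Nat.eq_of_testBit_eq
  intro n
  have key : ∀ i j, i < 9 → j < 9 → a.testBit (9 * i + j) = b.testBit (9 * i + j) ∧
      a.testBit (81 + (9 * i + j)) = b.testBit (81 + (9 * i + j)) := by
    intro i j hi hj
    obtain ⟨w, rfl⟩ := exists_idx hi
    obtain ⟨z, rfl⟩ := exists_idx hj
    have := congrFun (congrFun h w) z
    simp only [den] at this
    exact bits_inj hω h2 this
  by_cases h1 : n < 81
  · have := (key (n / 9) (n % 9) (by omega) (by omega)).1
    rwa [Nat.div_add_mod] at this
  · by_cases h3 : n < 162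
    · have := (key ((n - 81) / 9) ((n - 81) % 9) (by omega) (by omega)).2
      rw [Nat.div_add_mod] at this
      have e : 81 + (n - 81) = n := by omega
      rwa [e] at this
    · rw [testBit_of_lt ha (by omega), testBit_of_lt hb (by omega)]

/-- **the coding of 9 × 9 matrices over a field with four elements** -/
def coding (hω : ω ^ 2 + ω + 1 = 0) (h2 : (2 : F) = 0) : Coding (Matrix F9 F9 F) where
  mul := lmul
  one := lone
  den := den F ω
  Canon := Canon
  den_mul := den_mul hω h2
  den_one := den_one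
  canon_mul := lmul_lt
  canon_one := by
    unfold Canon lone
    norm_num
  den_inj := den_inj hω h2

/-- a field with four elements has characteristic two -/
theorem two_eq_zero_of_card {F : Type*} [Field F] [Fintype F] (hF : Fintype.card F = 4) :
    (2 : F) = 0 := by
  have h4 : ((Fintype.card F : ℕ) : F) = 0 := Nat.cast_card_eq_zero F
  rw [hF] at h4
  have : (2 : F) * 2 = 0 := by
    have e : ((4 : ℕ) : F) = 2 * 2 := by norm_num
    rw [← e]; exact h4
  exact (mul_self_eq_zero.1 this)

end

end Cfsg.Agent.Lib.Helper6.F4
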