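import Cfsg.Agent.Lib.Helper6.F4Syl

/-! # The involutions of `²F₄(2)` lie in the derived subgroup

The subgroup `S` of order `2¹²` is a Sylow 2-subgroup; its elements are listed by the stabiliser
chain, together with their classes modulo the derived subgroup `N`; the elements outside `N` are
checked not to be involutions. -/

set_option autoImplicit false
set_option linter.constructorNameAsVariable false

namespace Cfsg.Agent.Lib.Helper6.F4Iso

open scoped commutatorElement Pointwise

open Matrix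

open Cfsg.Agent.Lib.Helper6.BitMat Cfsg.Agent.Lib.Helper6.F4Mat Cfsg.Lie
  Cfsg.Agent.Lib.Helper6.Unitri

/-! ### the order of the Sylow subgroup -/

theorem card_S : Nat.card ↥S = 4096 := by
  obtain ⟨n, hn⟩ := S_pgroup.exists_card_eq
  have hdvd : Nat.card ↥S ∣ 35942400 := by
    rw [← card_G]
    exact Subgroup.card_dvd_of_le S_le_G
  have hge := card_S_ge
  rw [hn] at hdvd hge ⊢
  have h1 : (35942400 : ℕ) = 2 ^ 12 * 8775 := by norm_num
  rw [h1] at hdvd
  have h2 : (2 ^ n : ℕ) ∣ 2 ^ 12 := by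
    apply Nat.Coprime.dvd_of_dvd_mul_right _ hdvd
    exact Nat.Coprime.pow_left n (by norm_num)
  have h3 : n ≤ 12 := (Nat.pow_dvd_pow_iff_le_right (by norm_num)).1 h2
  have h4 : 12 ≤ n := by
    by_contra h
    have h5 : n ≤ 11 := by omega
    have h6 := Nat.pow_le_pow_right (n := 2) (by norm_num) h5
    omega
  have h7 : n = 12 := le_antisymm h3 h4
  rw [h7]
  norm_num

/-! ### the classes modulo the derived subgroup -/

theorem mul_mem_N_iff {a b : GL I F} (ha : a ∈ G) (hb : b ∈ G) :
    a * b ∈ N ↔ (a ∈ N ↔ b ∈ N) := by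
  have h := Subgroup.mul_mem_iff_of_index_two index_commutator (a := (⟨a, ha⟩ : ↥G))
    (b := (⟨b, hb⟩ : ↥G))
  rw [mem_commutator_iff, mem_commutator_iff, mem_commutator_iff] at h
  exact h

/-- the parity statement for a node -/
def Par (j : ℕ) : Prop := ∃ g ∈ G, ((g : GL I F) : M) = mB (allN.getD j []) ∧
    (g ∈ N ↔ parL.getD j 0 = 0)

theorem parL_lt (j : ℕ) : parL.getD j 0 < 2 := by
  by_cases hj : j < parL.length
  · rw [List.getD_eq_getElem _ _ hj]
    have := List.all_eq_true.1 chk_par.2.2 _ (List.getElem_mem hj)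
    simpa using this
  · rw [List.getD_eq_default _ _ (not_lt.mp hj)]
    norm_num

theorem len_allN (j : ℕ) (hj : j < allN.length) : (allN.getD j []).length = 52 := by
  rw [List.getD_eq_getElem _ _ hj]
  have := List.all_eq_true.1 chk_cols _ (List.getElem_mem hj)
  rw [Bool.and_eq_true, decide_eq_true_eq] at this
  exact this.1

theorem par_prog (ps : List (ℕ × ℕ)) : ∀ k : ℕ, progOK allN k ps = true →
    parProgOK k ps = true → k + ps.length ≤ allN.length →
    (∀ j < k, Par j) → ∀ j < k + ps.length, Par j := by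
  induction ps with
  | nil => intro k _ _ _ h j hj; exact h j (by simpa using hj)
  | cons p ps ih =>
    intro k hk hp hlen h j hj
    obtain ⟨a, b⟩ := p
    rw [progOK, Bool.and_eq_true, Bool.and_eq_true, Bool.and_eq_true, decide_eq_true_eq,
      decide_eq_true_eq, beq_iff_eq] at hk
    obtain ⟨⟨⟨ha, hb⟩, hab⟩, hrest⟩ := hk
    rw [parProgOK, Bool.and_eq_true, beq_iff_eq] at hp
    obtain ⟨hpar, hprest⟩ := hp
    rw [List.length_cons] at hlen hj
    refine ih (k + 1) hrest hprest (by omega) ?_ j (by omega)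
    intro j' hj'
    by_cases hjk : j' < k
    · exact h j' hjk
    · have : j' = k := by omega
      subst this
      obtain ⟨ga, hga, hga', hga''⟩ := h a ha
      obtain ⟨gb, hgb, hgb', hgb''⟩ := h b hb
      refine ⟨ga * gb, G.mul_mem hga hgb, ?_, ?_⟩
      · rw [hab, Units.val_mul, hga', hgb', mB_mulB _ _ (le_of_eq (len_allN a (by omega)))]
      · rw [mul_mem_N_iff hga hgb, hga'', hgb'', hpar]
        have := parL_lt a
        have := parL_lt b
        omega

theorem gl_mem_N {k : ℕ} (hk : k < 4) : gl k ∈ N := by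
  rw [gl_eq_gen (by omega : k < 8)]
  have : genK.getD k 0 = 0 := by interval_cases k <;> rfl
  rw [this, pow_zero, mul_one]
  exact prod_fg_mem _

theorem cGL_not_mem : cGL ∉ N := by
  unfold cGL
  have h0 : gl 0 ∈ G := gl_mem_G (by norm_num)
  have h1 : gl 1 ∈ G := gl_mem_G (by norm_num)
  have h4 : gl 4 ∈ G := gl_mem_G (by norm_num)
  rw [mul_mem_N_iff (G.mul_mem (G.mul_mem (G.mul_mem h1 h0) h4) h0) h1,
    mul_mem_N_iff (G.mul_mem (G.mul_mem h1 h0) h4) h0,
    mul_mem_N_iff (G.mul_mem h1 h0) h4]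
  have n0 : gl 0 ∈ N := gl_mem_N (by norm_num)
  have n1 : gl 1 ∈ N := gl_mem_N (by norm_num)
  have n10 : gl 1 * gl 0 ∈ N := N.mul_mem n1 n0
  have n4 : gl 4 ∉ N := g0_not_mem
  simp [n0, n1, n10, n4]

theorem par_base : ∀ j < 4, Par j := by
  intro j hj
  interval_cases j
  · refine ⟨gl 0, gl_mem_G (by norm_num), by rw [chk_base.1]; rfl, ?_⟩
    exact ⟨fun _ => rfl, fun _ => gl_mem_N (by norm_num)⟩
  · refine ⟨gl 4, gl_mem_G (by norm_num), by rw [chk_base.2.1]; rfl, ?_⟩
    exact ⟨fun h => absurd h g0_not_mem, fun h => absurd h (by decide)⟩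
  · refine ⟨cGL, cGL_mem_G, by rw [chk_base.2.2.1]; exact coe_cGL, ?_⟩
    exact ⟨fun h => absurd h cGL_not_mem, fun h => absurd h (by decide)⟩
  · refine ⟨1, G.one_mem, by rw [chk_base.2.2.2, mB_idB]; rfl, ?_⟩
    exact ⟨fun _ => rfl, fun _ => N.one_mem⟩

theorem par_all (j : ℕ) (hj : j < allN.length) : Par j := by
  have h := par_prog prog 4 chk_prog chk_par.1 (le_of_eq chk_all.symm) par_base j
  exact h (by rw [← chk_all]; exact hj)

theorem par_node (k : ℕ) : ∃ g ∈ G, ((g : GL I F) : M) = mB (allN.getD k (idB 52)) ∧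
    (g ∈ N ↔ parL.getD k 0 = 0) := by
  by_cases hk : k < allN.length
  · obtain ⟨g, hg, h1, h2⟩ := par_all k hk
    refine ⟨g, hg, ?_, h2⟩
    rw [h1, List.getD_eq_getElem _ _ hk, List.getD_eq_getElem _ _ hk]
  · have hk' := not_lt.mp hk
    refine ⟨1, G.one_mem, ?_, ?_⟩
    · rw [List.getD_eq_default _ _ hk', mB_idB]; rfl
    · rw [List.getD_eq_default _ _ (by rw [chk_par.2.1]; exact hk')]
      simp [N.one_mem]

theorem len_node (k : ℕ) : (allN.getD k (idB 52)).length = 52 := by
  by_cases hk : k < allN.length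
  · rw [List.getD_eq_getElem _ _ hk, ← List.getD_eq_getElem _ [] hk]
    exact len_allN k hk
  · rw [List.getD_eq_default _ _ (not_lt.mp hk)]
    exact length_idB 52

theorem parT_cons (k : ℕ) (t : List ℕ) : parT (k :: t) = (parL.getD k 0 + parT t) % 2 := by
  unfold parT
  rw [List.map_cons, List.sum_cons, Nat.add_mod_mod]

theorem par_tuple : ∀ t : List ℕ, ∃ g ∈ G, ((g : GL I F) : M) = mB (prodN 52 allN t) ∧
    (g ∈ N ↔ parT t = 0)
  | [] => ⟨1, G.one_mem, by
      show _ = mB (prodR 52 [])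
      rw [prodR_nil, mB_idB]
      rfl, by simp [parT, N.one_mem]⟩
  | k :: t => by
    obtain ⟨g1, hg1, h1, h1'⟩ := par_node k
    obtain ⟨g2, hg2, h2, h2'⟩ := par_tuple t
    refine ⟨g1 * g2, G.mul_mem hg1 hg2, ?_, ?_⟩
    · unfold prodN at h2 ⊢
      rw [List.map_cons, prodR_cons, mB_mulB _ _ (le_of_eq (len_node k)), Units.val_mul, h1, h2]
    · rw [mul_mem_N_iff hg1 hg2, h1', h2', parT_cons]
      have := parL_lt k
      have : parT t < 2 := Nat.mod_lt _ (by norm_num)
      omega

/-! ### the elements of the Sylow subgroup -/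

theorem exists_tuple_S (s : GL I F) (hs : s ∈ S) :
    ∃ t ∈ tuples levels, ((s : GL I F) : M) = mB (prodN 52 allN t) := by
  have hcard : Nat.card ↥(stabB e52 S []) ≤ (levels.map fun l => l.2.length).prod := by
    rw [chk_prod]
    exact le_of_eq card_S
  exact exists_tuple e52 S allN good_S levels [] chk_chain hcard s hs

theorem appsR_append (l1 l2 : List (List ℕ)) (v : ℕ) :
    appsR (l1 ++ l2) v = appsR l1 (appsR l2 v) := by
  induction l1 with
  | nil => rfl
  | cons A l ih => rw [List.cons_append, appsR_cons, appsR_cons, ih]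

theorem appsR_lt {n : ℕ} (l : List (List ℕ)) (hl : ∀ A ∈ l, ∀ c ∈ A, c < 2 ^ n) {v : ℕ}
    (hv : v < 2 ^ n) : appsR l v < 2 ^ n := by
  cases l with
  | nil => exact hv
  | cons A l =>
    rw [appsR_cons]
    exact app_lt A (hl A (List.mem_cons_self ..)) _

theorem app_prodR {n : ℕ} (l : List (List ℕ)) {v : ℕ} (hv : v < 2 ^ n) :
    app (prodR n l) v = appsR l v := by
  induction l with
  | nil => rw [prodR_nil, appsR_nil, app_idB n v hv]
  | cons A l ih => rw [prodR_cons, app_mulB, ih, appsR_cons]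

theorem cols_node (k : ℕ) : ∀ c ∈ allN.getD k (idB 52), c < 2 ^ 52 := by
  by_cases hk : k < allN.length
  · rw [List.getD_eq_getElem _ _ hk]
    have := List.all_eq_true.1 chk_cols _ (List.getElem_mem hk)
    rw [Bool.and_eq_true, List.all_eq_true] at this
    intro c hc
    simpa using this.2 c hc
  · rw [List.getD_eq_default _ _ (not_lt.mp hk)]
    intro c hc
    unfold idB at hc
    obtain ⟨j, hj, rfl⟩ := List.mem_map.1 hc
    exact Nat.pow_lt_pow_right (by norm_num) (List.mem_range.1 hj)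

/-- **the involutions of the Sylow subgroup lie in the derived subgroup** -/
theorem invol_mem_N {s : GL I F} (hs : s ∈ S) (h2 : s * s = 1) : s ∈ N := by
  obtain ⟨t, ht, hst⟩ := exists_tuple_S s hs
  obtain ⟨g, hg, hg1, hg2⟩ := par_tuple t
  have hgs : g = s := Units.ext (hg1.trans hst.symm)
  rw [hgs] at hg2
  rw [hg2]
  by_contra hpar
  have hchk := List.all_eq_true.1 chk_invol t ht
  rw [Bool.or_eq_true, beq_iff_eq, bne_iff_ne] at hchk
  rcases hchk with hchk | hchk
  · exact hpar hchk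
  · apply hchk
    have hcols : ∀ A ∈ matsT t, ∀ c ∈ A, c < 2 ^ 52 := by
      intro A hA
      obtain ⟨k, _, rfl⟩ := List.mem_map.1 hA
      exact cols_node k
    have h64 : (64 : ℕ) < 2 ^ 52 := by norm_num
    have hP : prodN 52 allN t = prodR 52 (matsT t) := rfl
    have hlen : (prodN 52 allN t).length ≤ 52 :=
      length_prodN allN (fun a => le_of_eq (len_node a)) t
    have h3 : mB (prodN 52 allN t) *ᵥ (mB (prodN 52 allN t) *ᵥ vec e52 64) = vec e52 64 := by
      rw [Matrix.mulVec_mulVec, ← hst, ← Units.val_mul, h2, Units.val_one, Matrix.one_mulVec]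
    unfold mB at h3
    rw [toM_mulVec e52 _ hlen, toM_mulVec e52 _ hlen, hP, app_prodR _ h64,
      app_prodR _ (appsR_lt _ hcols h64), ← appsR_append] at h3
    refine vec_inj e52 (appsR_lt _ ?_ h64) h64 h3
    intro A hA
    rcases List.mem_append.1 hA with h | h <;> exact hcols A h

/-! ### the Sylow argument -/

/-- **every involution of `²F₄(2)` lies in the derived subgroup** -/
theorem invol_mem_commutator (x : ↥G) (hx : orderOf x = 2) : x ∈ commutator ↥G := by
  have : Fact (Nat.Prime 2) := ⟨Nat.prime_two⟩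
  have hSp : IsPGroup 2 ↥(S.subgroupOf G) := S_pgroup.comap_subtype
  have hcardS' : Nat.card ↥(S.subgroupOf G) = 4096 :=
    (Nat.card_congr (Subgroup.subgroupOfEquivOfLe S_le_G).toEquiv).trans card_S
  have hidx : ¬ 2 ∣ (S.subgroupOf G).index := by
    have h := (S.subgroupOf G).card_mul_index
    rw [hcardS', card_G] at h
    have h' : (S.subgroupOf G).index = 8775 := by omega
    rw [h']
    norm_num
  let P0 : Sylow 2 ↥G := hSp.toSylow hidx
  have hz : IsPGroup 2 ↥(Subgroup.zpowers x) := by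
    apply IsPGroup.of_card (n := 1)
    rw [Nat.card_zpowers, hx, pow_one]
  obtain ⟨Q, hQ⟩ := hz.exists_le_sylow
  obtain ⟨g, hgQ⟩ := MulAction.exists_smul_eq ↥G P0 Q
  have hxQ : x ∈ Q := hQ (Subgroup.mem_zpowers x)
  rw [← hgQ] at hxQ
  have h1 : x ∈ (MulAut.conj g • (P0 : Subgroup ↥G)) := by
    rw [← Sylow.coe_subgroup_smul]
    exact hxQ
  rw [Subgroup.mem_pointwise_smul_iff_inv_smul_mem] at h1
  have h2' : g⁻¹ * x * g ∈ (P0 : Subgroup ↥G) := by
    simpa [MulAut.smul_def, MulAut.conj_inv_apply] using h1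
  have h2 : g⁻¹ * x * g ∈ S.subgroupOf G := h2'
  have hxx : x * x = 1 := by
    have := pow_orderOf_eq_one x
    rwa [hx, pow_two] at this
  have h3 : (g⁻¹ * x * g) * (g⁻¹ * x * g) = 1 := by
    calc (g⁻¹ * x * g) * (g⁻¹ * x * g) = g⁻¹ * (x * x) * g := by group
      _ = 1 := by rw [hxx]; group
  have h4 : ((g⁻¹ * x * g : ↥G) : GL I F) ∈ N := by
    apply invol_mem_N (Subgroup.mem_subgroupOf.1 h2)
    have := congrArg Subtype.val h3
    simpa using this
  have h5 : g⁻¹ * x * g ∈ commutator ↥G := (mem_commutator_iff _).2 h4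
  have h6 := (inferInstance : (commutator ↥G).Normal).conj_mem _ h5 g
  have h7 : g * (g⁻¹ * x * g) * g⁻¹ = x := by group
  rwa [h7] at h6

end Cfsg.Agent.Lib.Helper6.F4Iso
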