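import Cfsg.Agent.Lib.Helper6.TitsP4Simp
import Cfsg.Agent.Lib.Helper6.TitsP4TC
import Cfsg.Agent.Lib.Helper6.TitsP3TC
import Cfsg.Agent.Lib.Helper6.TitsP2TC

/-! # The presented group `P4` (that is the Tits group) is simple of order 17971200 -/

set_option autoImplicit false

namespace Cfsg.Agent.Lib.Helper6.TitsSimple

open Cfsg.Spor Cfsg.Agent.Lib.Helper6.Simp Cfsg.Agent.Lib.Helper6.TitsSub
  Cfsg.Agent.Lib.Helper6.TC Cfsg.Agent.Lib.Helper6.NatArr

/-- the order is at most `1600 * 432 * 26` -/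
theorem ub : Finite P4 ∧ Nat.card P4 ≤ 17971200 := by
  have h2 := finite_card_of_index_empty TitsP2TC.main (by norm_num)
  have h3 := subP2.finite_card_le TitsP3TC.S rangeP2.symm TitsP3TC.main (by norm_num) h2.1
    (le_of_eq h2.2)
  have h4 := subP3.finite_card_le TitsP4TC.S rangeP3.symm TitsP4TC.main (by norm_num) h3.1 h3.2
  exact ⟨h4.1, h4.2.trans (by norm_num)⟩

theorem chk_cover : allBelow 1600 (fun b => Nat.beq b 0 ||
    (btest TitsP4TC.orbB1 b || (btest TitsP4TC.orbB2 b || btest TitsP4TC.orbB3 b))) = true := by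
  decide +kernel

theorem chk_disj : ∀ i j : Fin 3, i ≠ j →
    Nat.land (![TitsP4TC.orbB1, TitsP4TC.orbB2, TitsP4TC.orbB3] i)
      (![TitsP4TC.orbB1, TitsP4TC.orbB2, TitsP4TC.orbB3] j) = 0 := by
  decide +kernel

theorem chk_o : ∀ i : Fin 3,
    (![TitsP4TC.orbB1, TitsP4TC.orbB2, TitsP4TC.orbB3] i).testBit 0 = false := by
  decide +kernel

/-- **the presented group is simple of order 17971200** -/
theorem main : IsSimpleGroup P4 ∧ Nat.card P4 = 17971200 := by
  refine simple_card TitsP4TC.data ub TitsP4Simp.levels TitsP4Simp.chain_ok TitsP4Simp.chain_prod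
    (r := 3) ![TitsP4TC.orb1, TitsP4TC.orb2, TitsP4TC.orb3] ![351, 312, 936]
    ?_ ?_ ?_ ?_ ?_ 5 ?_ TitsP4Simp.us TitsP4Simp.chk_pow ?_
  · intro i
    fin_cases i
    · exact TitsP4TC.chk_cnt1
    · exact TitsP4TC.chk_cnt2
    · exact TitsP4TC.chk_cnt3
  · intro b hb
    have h := allBelow_spec _ _ chk_cover b hb
    simp only [Bool.or_eq_true, btest_eq] at h
    rcases h with h | h | h | h
    · exact Or.inl (Nat.eq_of_beq_eq_true h)
    · exact Or.inr ⟨0, h⟩
    · exact Or.inr ⟨1, h⟩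
    · exact Or.inr ⟨2, h⟩
  · intro i j hij
    have := chk_disj i j hij
    fin_cases i <;> fin_cases j <;> first | exact absurd rfl hij | exact this
  · intro i
    have := chk_o i
    fin_cases i <;> exact this
  · show ∀ I : Finset (Fin 3), I.Nonempty → (1 + ∑ i ∈ I, ![351, 312, 936] i) ∣ 1600 →
      1 + ∑ i ∈ I, ![351, 312, 936] i = 1600
    decide
  · show (17971200 / 1600).Coprime 5
    norm_num
  · show 1 < 1600
    norm_num

end Cfsg.Agent.Lib.Helper6.TitsSimple
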