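import Cfsg.Agent.Lib.Helper6.F4ChkX0
import Cfsg.Agent.Lib.Helper6.F4ChkX1
import Cfsg.Agent.Lib.Helper6.F4ChkX2
import Cfsg.Agent.Lib.Helper6.F4Chk1
import Cfsg.Agent.Lib.Helper6.F4Chk2
import Cfsg.Agent.Lib.Helper6.F4Chk3
import Cfsg.Agent.Lib.Helper6.TitsSimple
import Cfsg.Agent.Lib.Helper6.CoxLift
import Cfsg.Agent.Lib.Helper6.CommCyc

/-! # The derived subgroup of `²F₄(2)` is the presented Tits group `P4`, simple of order 17971200

The presented group `P4` maps to the group of matrices; its image `N` lies in `²F₄(2)`, is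
normalized by the generator `g0 = B10` of order four, and every generator of `²F₄(2)` is an element
of `N` times a power of `g0`. So the derived subgroup of `²F₄(2)` lies in `N`; it is all of `N`
since `P4` is perfect. -/

set_option autoImplicit false
set_option linter.constructorNameAsVariable false

namespace Cfsg.Agent.Lib.Helper6.F4Iso

open scoped commutatorElement

open Cfsg.Agent.Lib.Helper6.BitMat Cfsg.Agent.Lib.Helper6.TC Cfsg.Agent.Lib.Helper6.TitsSub
  Cfsg.Agent.Lib.Helper6.F4Mat Cfsg.Lie Cfsg.Spor Cfsg.Agent.Lib.Helper6.Simp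

/-- the matrix with the given code -/
def mB (X : List ℕ) : M := toM e52 X

theorem mB_idB : mB (idB 52) = 1 := toM_idB e52

theorem mB_mulB (A B : List ℕ) (hA : A.length ≤ 52) : mB (mulB A B) = mB A * mB B :=
  toM_mulB e52 A B hA

theorem mB_eq_of_chk {A : M} {X : List ℕ}
    (h : ∀ a b : Fin 52, A (e52.symm a) (e52.symm b) = bz ((X.getD b 0).testBit a)) :
    A = mB X := by
  ext i j
  have := h (e52 i) (e52 j)
  rw [Equiv.symm_apply_apply, Equiv.symm_apply_apply] at this
  rw [this]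
  rfl

/-! ### the root elements -/

theorem x_eq {r : ℕ} (hr : r ∈ roots) (t : F) : chevF4.x F r t = mB (xB r t) := by
  apply mB_eq_of_chk
  simp only [roots, List.mem_cons, List.not_mem_nil, or_false] at hr
  rcases hr with rfl | rfl | rfl | rfl | rfl | rfl | rfl | rfl | rfl | rfl | rfl | rfl
  · exact chk_x33 t
  · exact chk_x24 t
  · exact chk_x14 t
  · exact chk_x23 t
  · exact chk_x27 t
  · exact chk_x25 t
  · exact chk_x28 t
  · exact chk_x30 t
  · exact chk_x20 t
  · exact chk_x22 t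
  · exact chk_x19 t
  · exact chk_x17 t

theorem chk_xlen : xTbl.all (fun p => decide (p.2.length = 52)) = true := by decide +kernel

theorem length_xLook (r : ℕ) : ∀ l : List (ℕ × List ℕ),
    l.all (fun p => decide (p.2.length = 52)) = true → (xLook r l).length = 52
  | [], _ => length_idB 52
  | p :: l, h => by
    rw [List.all_cons, Bool.and_eq_true, decide_eq_true_eq] at h
    rw [xLook]
    split
    · exact h.1
    · exact length_xLook r l h.2

theorem length_xB (r : ℕ) (t : F) : (xB r t).length = 52 := by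
  unfold xB
  split
  · exact length_idB 52
  · exact length_xLook r xTbl chk_xlen

theorem length_prodB : ∀ l : List (List ℕ), (∀ A ∈ l, A.length = 52) → (prodB l).length = 52
  | [], _ => length_idB 52
  | A :: l, h => by
    rw [prodB_cons, length_mulB]
    exact length_prodB l fun B hB => h B (List.mem_cons_of_mem _ hB)

theorem mB_prodB : ∀ l : List (List ℕ), (∀ A ∈ l, A.length = 52) →
    mB (prodB l) = (l.map mB).prod
  | [], _ => by rw [prodB_nil, mB_idB, List.map_nil, List.prod_nil]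
  | A :: l, h => by
    rw [prodB_cons, mB_mulB _ _ (le_of_eq (h A (List.mem_cons_self ..))), List.map_cons,
      List.prod_cons, mB_prodB l fun B hB => h B (List.mem_cons_of_mem _ hB)]

theorem wordMat_eq (w : List (ℕ × F)) (hw : w.all (fun p => roots.contains p.1) = true) :
    chevF4.wordMat F w = mB (wB w) := by
  unfold ChevalleyDatum.wordMat wB
  rw [mB_prodB]
  · rw [List.map_map]
    congr 1
    apply List.map_congr_left
    intro p hp
    have := List.all_eq_true.1 hw p hp
    rw [List.contains_iff_mem] at this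
    exact x_eq this p.2
  · intro A hA
    obtain ⟨p, _, rfl⟩ := List.mem_map.1 hA
    exact length_xB _ _

/-! ### the coded matrices with their inverses -/

/-- the check of a pair -/
def okPair (p : List ℕ × List ℕ) : Bool :=
  decide (p.1.length = 52) && decide (p.2.length = 52) &&
    (mulR p.1 p.2 == idB 52) && (mulR p.2 p.1 == idB 52)

theorem chk_default : okPair (idB 52, idB 52) = true := by decide +kernel

theorem okPair_getD (k : ℕ) : okPair (pairs.getD k (idB 52, idB 52)) = true := by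
  by_cases hk : k < pairs.length
  · rw [List.getD_eq_getElem _ _ hk]
    exact List.all_eq_true.1 chk_pairs _ (List.getElem_mem hk)
  · rw [List.getD_eq_default _ _ (Nat.le_of_not_gt hk)]
    exact chk_default

theorem okPair_spec {p : List ℕ × List ℕ} (h : okPair p = true) :
    p.1.length = 52 ∧ p.2.length = 52 ∧ mulB p.1 p.2 = idB 52 ∧ mulB p.2 p.1 = idB 52 := by
  unfold okPair at h
  simp only [Bool.and_eq_true, decide_eq_true_eq, beq_iff_eq, mulR_eq] at h
  exact ⟨h.1.1.1, h.1.1.2, h.1.2, h.2⟩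

theorem length_matB (k : ℕ) : (matB k).length = 52 := (okPair_spec (okPair_getD k)).1

theorem length_matBi (k : ℕ) : (matBi k).length = 52 := (okPair_spec (okPair_getD k)).2.1

/-- the invertible matrix with a given number -/
def gl (k : ℕ) : GL I F :=
  glB e52 (matB k) (matBi k) (le_of_eq (length_matB k)) (le_of_eq (length_matBi k))
    (okPair_spec (okPair_getD k)).2.2.1 (okPair_spec (okPair_getD k)).2.2.2

theorem coe_gl (k : ℕ) : ((gl k : GL I F) : M) = mB (matB k) := rfl

theorem coe_gl_inv (k : ℕ) : (((gl k)⁻¹ : GL I F) : M) = mB (matBi k) := rfl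

theorem coe_prod_gl (w : List ℕ) : (((w.map gl).prod : GL I F) : M) = mB (prodB (w.map matB)) := by
  rw [mB_prodB]
  · induction w with
    | nil => simp
    | cons k w ih =>
      rw [List.map_cons, List.prod_cons, Units.val_mul, ih, coe_gl]
      simp only [List.map_cons, List.prod_cons]
  · intro A hA
    obtain ⟨k, _, rfl⟩ := List.mem_map.1 hA
    exact length_matB k

theorem gl_eq_of_coe {g : GL I F} {k : ℕ} (h : (g : M) = mB (matB k)) : g = gl k :=
  Units.ext h

theorem eq_one_of_coe {g : GL I F} (h : (g : M) = mB (idB 52)) : g = 1 := by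
  apply Units.ext
  rw [h, mB_idB]
  rfl

/-! ### the group `²F₄(2)` -/

/-- the group -/
abbrev G : Subgroup (GL I F) := twistedF4 F 1

/-- its generating set -/
def T : Set (GL I F) := {g | ∃ w ∈ f4Words F 1, (g : M) = chevF4.wordMat F w}

theorem G_eq : G = Subgroup.closure T := rfl

theorem matB0 : matB 0 = gP := rfl
theorem matB1 : matB 1 = gM := rfl
theorem matB2 : matB 2 = gB01 := rfl
theorem matB3 : matB 3 = gC01 := rfl
theorem matB4 : matB 4 = gB10 := rfl
theorem matB5 : matB 5 = gC10 := rfl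
theorem matB6 : matB 6 = gB11 := rfl
theorem matB7 : matB 7 = gC11 := rfl
theorem matB8 : matB 8 = gY := rfl
theorem matB9 : matB 9 = gZ := rfl

/-- a member of the generating set is the identity or one of the eight generators -/
theorem T_cases {g : GL I F} (hg : g ∈ T) : g = 1 ∨ ∃ k, k < 8 ∧ g = gl k := by
  obtain ⟨w, hw, hg⟩ := hg
  rcases hw with ⟨t, hw | hw⟩ | ⟨t, u, hw | hw⟩
  · subst hw
    rw [wordMat_eq _ (chk_wP t).2, (chk_wP t).1] at hg
    fin_cases t
    · exact Or.inl (eq_one_of_coe hg)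
    · exact Or.inr ⟨0, by norm_num, gl_eq_of_coe hg⟩
  · subst hw
    rw [wordMat_eq _ (chk_wM t).2, (chk_wM t).1] at hg
    fin_cases t
    · exact Or.inl (eq_one_of_coe hg)
    · exact Or.inr ⟨1, by norm_num, gl_eq_of_coe hg⟩
  · subst hw
    rw [wordMat_eq _ (chk_wB t u).2, (chk_wB t u).1] at hg
    fin_cases t <;> fin_cases u
    · exact Or.inl (eq_one_of_coe hg)
    · exact Or.inr ⟨2, by norm_num, gl_eq_of_coe hg⟩
    · exact Or.inr ⟨4, by norm_num, gl_eq_of_coe hg⟩
    · exact Or.inr ⟨6, by norm_num, gl_eq_of_coe hg⟩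
  · subst hw
    rw [wordMat_eq _ (chk_wC t u).2, (chk_wC t u).1] at hg
    fin_cases t <;> fin_cases u
    · exact Or.inl (eq_one_of_coe hg)
    · exact Or.inr ⟨3, by norm_num, gl_eq_of_coe hg⟩
    · exact Or.inr ⟨5, by norm_num, gl_eq_of_coe hg⟩
    · exact Or.inr ⟨7, by norm_num, gl_eq_of_coe hg⟩

/-- the eight generators are members of the generating set -/
theorem gl_mem_T {k : ℕ} (hk : k < 8) : gl k ∈ T := by
  interval_cases k
  · refine ⟨_, Or.inl ⟨1, Or.inl rfl⟩, ?_⟩
    rw [wordMat_eq _ (chk_wP 1).2, (chk_wP 1).1]; rfl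
  · refine ⟨_, Or.inl ⟨1, Or.inr rfl⟩, ?_⟩
    rw [wordMat_eq _ (chk_wM 1).2, (chk_wM 1).1]; rfl
  · refine ⟨_, Or.inr ⟨0, 1, Or.inl rfl⟩, ?_⟩
    rw [wordMat_eq _ (chk_wB 0 1).2, (chk_wB 0 1).1]; rfl
  · refine ⟨_, Or.inr ⟨0, 1, Or.inr rfl⟩, ?_⟩
    rw [wordMat_eq _ (chk_wC 0 1).2, (chk_wC 0 1).1]; rfl
  · refine ⟨_, Or.inr ⟨1, 0, Or.inl rfl⟩, ?_⟩
    rw [wordMat_eq _ (chk_wB 1 0).2, (chk_wB 1 0).1]; rfl
  · refine ⟨_, Or.inr ⟨1, 0, Or.inr rfl⟩, ?_⟩
    rw [wordMat_eq _ (chk_wC 1 0).2, (chk_wC 1 0).1]; rfl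
  · refine ⟨_, Or.inr ⟨1, 1, Or.inl rfl⟩, ?_⟩
    rw [wordMat_eq _ (chk_wB 1 1).2, (chk_wB 1 1).1]; rfl
  · refine ⟨_, Or.inr ⟨1, 1, Or.inr rfl⟩, ?_⟩
    rw [wordMat_eq _ (chk_wC 1 1).2, (chk_wC 1 1).1]; rfl

theorem gl_mem_G {k : ℕ} (hk : k < 8) : gl k ∈ G := Subgroup.subset_closure (gl_mem_T hk)

theorem prod_gl_mem_G (w : List ℕ) (hw : ∀ k ∈ w, k < 8) : (w.map gl).prod ∈ G := by
  apply Subgroup.list_prod_mem
  intro g hg
  obtain ⟨k, hk, rfl⟩ := List.mem_map.1 hg
  exact gl_mem_G (hw k hk)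

theorem gl8_mem_G : gl 8 ∈ G := by
  have h : gl 8 = (wordY.map gl).prod := by
    apply Units.ext
    rw [coe_prod_gl, chk_y]
    rfl
  rw [h]
  exact prod_gl_mem_G _ (by decide)

theorem gl9_mem_G : gl 9 ∈ G := by
  have h : gl 9 = (wordZ.map gl).prod := by
    apply Units.ext
    rw [coe_prod_gl, chk_z]
    rfl
  rw [h]
  exact prod_gl_mem_G _ (by decide)

end Cfsg.Agent.Lib.Helper6.F4Iso
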