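import Cfsg.Agent.Lib.Helper6.F4Vec

/-! # Certified orbits of coded vectors: depth-first search certificates and bitmaps -/

set_option autoImplicit false

namespace Cfsg.Agent.Lib.Helper6.F4

/-- evaluate the number before going on (the kernel shares the evaluated value) -/
def force {α : Type} (n : ℕ) (f : ℕ → α) : α :=
  match n with
  | 0 => f 0
  | k + 1 => f (k + 1)

theorem force_eq {α : Type} (n : ℕ) (f : ℕ → α) : force n f = f n := by
  cases n <;> rfl

/-- test a bit of a (long) number -/
def tb (B n : ℕ) : Bool := Nat.beq (Nat.land (Nat.shiftRight B n) 1) 1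

theorem tb_eq (B n : ℕ) : tb B n = B.testBit n := by
  show Nat.beq ((B >>> n) &&& 1) 1 = _
  rw [Nat.testBit_eq_decide_div_mod_eq, Nat.shiftRight_eq_div_pow, Nat.and_one_is_mod]
  by_cases h : B / 2 ^ n % 2 = 1
  · rw [h]; simp
  · have : B / 2 ^ n % 2 = 0 := by omega
    rw [this]; simp
    rfl

/-- set a bit -/
def sb (B n : ℕ) : ℕ := Nat.lor B (Nat.shiftLeft 1 n)

theorem testBit_sb (B n i : ℕ) : (sb B n).testBit i = (B.testBit i || decide (n = i)) := by
  show (B ||| (1 <<< n)).testBit i = _
  rw [Nat.testBit_or, Nat.one_shiftLeft, Nat.testBit_two_pow]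

/-- the check of one step: `g · v(n) = ω ^ j · v(n')` -/
def stepOK (g n j n' : ℕ) : Bool := Nat.beq (lmul g (expand n)) (expand (sm j n'))

/-- the vector code of an instruction -/
def tgt (x : ℕ) : ℕ := Nat.mod x 262144

/-- validate a piece of a depth-first search: the instruction `0` pops the stack; `x ≠ 0` applies
the generator number `x / 2 ^ 18 / 3` to the vector on top of the stack, claims that the result is
`ω ^ (x / 2 ^ 18 % 3)` times the vector `x % 2 ^ 18`, and pushes the latter. Returns the stack. -/
def runBlk (ga gb : ℕ) : List ℕ → List ℕ → Option (List ℕ)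
  | [], S => some S
  | x :: I, S =>
    match S with
    | [] => none
    | top :: S' =>
      bif Nat.beq x 0 then runBlk ga gb I S'
      else
        bif stepOK (bif Nat.beq (Nat.div (Nat.div x 262144) 3) 0 then ga else gb) top
          (Nat.mod (Nat.div x 262144) 3) (tgt x)
        then runBlk ga gb I (tgt x :: top :: S') else none

/-- validate a depth-first search given in pieces -/
def runAll (ga gb : ℕ) : List (List ℕ) → List ℕ → Bool
  | [], _ => true
  | L :: Ls, S =>
    match runBlk ga gb L S with
    | none => false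
    | some S' => runAll ga gb Ls S'

theorem runBlk_sound {P : ℕ → Prop} {ga gb : ℕ}
    (hstep : ∀ g n j n', (g = ga ∨ g = gb) → P n → stepOK g n j n' = true → P n') :
    ∀ (I S S' : List ℕ), runBlk ga gb I S = some S' → (∀ s ∈ S, P s) →
      (∀ s ∈ S', P s) ∧ ∀ x ∈ I, x ≠ 0 → P (tgt x) := by
  intro I
  induction I with
  | nil =>
    intro S S' h hS
    simp only [runBlk, Option.some.injEq] at h
    subst h
    exact ⟨hS, by simp⟩
  | cons x I ih =>
    intro S S' h hS
    cases S with
    | nil => simp [runBlk] at h
    | cons top T =>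
      simp only [runBlk] at h
      by_cases hx : x = 0
      · subst hx
        simp only [Nat.beq_refl, cond_true] at h
        obtain ⟨h1, h2⟩ := ih T S' h (fun s hs => hS s (List.mem_cons_of_mem _ hs))
        refine ⟨h1, ?_⟩
        intro y hy hy0
        rcases List.mem_cons.1 hy with rfl | hy
        · exact absurd rfl hy0
        · exact h2 y hy hy0
      · have hb : Nat.beq x 0 = false := by
          cases hb : Nat.beq x 0
          · rfl
          · exact absurd (Nat.eq_of_beq_eq_true hb) hx
        rw [hb] at h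
        simp only [cond_false] at h
        cases hs : stepOK (bif Nat.beq (Nat.div (Nat.div x 262144) 3) 0 then ga else gb) top
          (Nat.mod (Nat.div x 262144) 3) (tgt x)
        · rw [hs] at h
          simp at h
        · rw [hs] at h
          simp only [cond_true] at h
          have hP : P (tgt x) := by
            refine hstep _ top _ _ ?_ (hS top (List.mem_cons_self ..)) hs
            cases Nat.beq (Nat.div (Nat.div x 262144) 3) 0 <;> simp
          obtain ⟨h1, h2⟩ := ih (tgt x :: top :: T) S' h (by
            intro s hs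
            rcases List.mem_cons.1 hs with rfl | hs
            · exact hP
            · exact hS s hs)
          refine ⟨h1, ?_⟩
          intro y hy hy0
          rcases List.mem_cons.1 hy with rfl | hy
          · exact hP
          · exact h2 y hy hy0

theorem runAll_sound {P : ℕ → Prop} {ga gb : ℕ}
    (hstep : ∀ g n j n', (g = ga ∨ g = gb) → P n → stepOK g n j n' = true → P n') :
    ∀ (Ls : List (List ℕ)) (S : List ℕ), runAll ga gb Ls S = true → (∀ s ∈ S, P s) →
      ∀ L ∈ Ls, ∀ x ∈ L, x ≠ 0 → P (tgt x) := by
  intro Ls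
  induction Ls with
  | nil => intro S _ _ L hL; simp at hL
  | cons L Ls ih =>
    intro S h hS L' hL'
    simp only [runAll] at h
    cases hr : runBlk ga gb L S with
    | none => rw [hr] at h; simp at h
    | some S' =>
      rw [hr] at h
      simp only at h
      obtain ⟨h1, h2⟩ := runBlk_sound hstep L S S' hr hS
      rcases List.mem_cons.1 hL' with rfl | hL'
      · exact h2
      · exact ih S' h h1 L' hL'

/-! ### bitmaps -/

/-- add the vectors of a piece of a search to a bitmap -/
def bmBlk : List ℕ → ℕ → ℕ
  | [], B => B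
  | x :: I, B => bif Nat.beq x 0 then bmBlk I B else bmBlk I (sb B (tgt x))

/-- the bitmap of the vectors of a search -/
def bmAll : List (List ℕ) → ℕ → ℕ
  | [], B => B
  | L :: Ls, B => force (bmBlk L B) (fun B' => bmAll Ls B')

theorem testBit_bmBlk : ∀ (I : List ℕ) (B n : ℕ), (bmBlk I B).testBit n = true →
    B.testBit n = true ∨ ∃ x ∈ I, x ≠ 0 ∧ n = tgt x := by
  intro I
  induction I with
  | nil => intro B n h; exact Or.inl h
  | cons x I ih =>
    intro B n h
    simp only [bmBlk] at h
    by_cases hx : x = 0
    · subst hx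
      simp only [Nat.beq_refl, cond_true] at h
      rcases ih B n h with h | ⟨y, hy, h1, h2⟩
      · exact Or.inl h
      · exact Or.inr ⟨y, List.mem_cons_of_mem _ hy, h1, h2⟩
    · have hb : Nat.beq x 0 = false := by
        cases hb : Nat.beq x 0
        · rfl
        · exact absurd (Nat.eq_of_beq_eq_true hb) hx
      rw [hb] at h
      simp only [cond_false] at h
      rcases ih _ n h with h | ⟨y, hy, h1, h2⟩
      · rw [testBit_sb] at h
        rcases Bool.or_eq_true_iff.1 h with h | h
        · exact Or.inl h
        · exact Or.inr ⟨x, List.mem_cons_self .., hx, (of_decide_eq_true h).symm⟩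
      · exact Or.inr ⟨y, List.mem_cons_of_mem _ hy, h1, h2⟩

theorem testBit_bmAll : ∀ (Ls : List (List ℕ)) (B n : ℕ), (bmAll Ls B).testBit n = true →
    B.testBit n = true ∨ ∃ L ∈ Ls, ∃ x ∈ L, x ≠ 0 ∧ n = tgt x := by
  intro Ls
  induction Ls with
  | nil => intro B n h; exact Or.inl h
  | cons L Ls ih =>
    intro B n h
    simp only [bmAll, force_eq] at h
    rcases ih _ n h with h | ⟨L', hL', y, hy, h1, h2⟩
    · rcases testBit_bmBlk L B n h with h | ⟨y, hy, h1, h2⟩
      · exact Or.inl h
      · exact Or.inr ⟨L, List.mem_cons_self .., y, hy, h1, h2⟩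
    · exact Or.inr ⟨L', List.mem_cons_of_mem _ hL', y, hy, h1, h2⟩

/-- everything in the bitmap of a valid search has the property -/
theorem search_sound {P : ℕ → Prop} {ga gb : ℕ}
    (hstep : ∀ g n j n', (g = ga ∨ g = gb) → P n → stepOK g n j n' = true → P n')
    (Ls : List (List ℕ)) (S : List ℕ) (h : runAll ga gb Ls S = true) (hS : ∀ s ∈ S, P s)
    (n : ℕ) (hn : (bmAll Ls 0).testBit n = true) : P n := by
  rcases testBit_bmAll Ls 0 n hn with h0 | ⟨L, hL, x, hx, h1, rfl⟩
  · simp at h0
  · exact runAll_sound hstep Ls S h hS L hL x hx h1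

/-! ### closure certificates -/

/-- the vector code of an entry of a closure certificate -/
def nOf (e : ℕ) : ℕ := Nat.div e 618475290624

/-- the check of an entry `(n, n_a, n_b, j_a, j_b)` of a closure certificate against a bitmap: the
images of `v(n)` under the two generators are `ω ^ j_a • v(n_a)` and `ω ^ j_b • v(n_b)`, which
are in the bitmap, like `n`, and unlike `ω • v(n)` and `ω ^ 2 • v(n)` -/
def closOK (ga gb B e : ℕ) : Bool :=
  tb B (nOf e) && (tb B (Nat.mod (Nat.div e 2359296) 262144) &&
  (tb B (Nat.mod (Nat.div e 9) 262144) &&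
  (stepOK ga (nOf e) (Nat.mod (Nat.div e 3) 3) (Nat.mod (Nat.div e 2359296) 262144) &&
  (stepOK gb (nOf e) (Nat.mod e 3) (Nat.mod (Nat.div e 9) 262144) &&
  (!tb B (sm1 (nOf e)) && !tb B (sm1 (sm1 (nOf e))))))))

theorem closOK_spec {ga gb B e : ℕ} (h : closOK ga gb B e = true) :
    B.testBit (nOf e) = true ∧ B.testBit (sm1 (nOf e)) = false ∧
    B.testBit (sm1 (sm1 (nOf e))) = false ∧
    (∃ j n', B.testBit n' = true ∧ stepOK ga (nOf e) j n' = true) ∧
    (∃ j n', B.testBit n' = true ∧ stepOK gb (nOf e) j n' = true) := by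
  simp only [closOK, Bool.and_eq_true, tb_eq, Bool.not_eq_true'] at h
  obtain ⟨h1, h2, h3, h4, h5, h6, h7⟩ := h
  exact ⟨h1, h6, h7, ⟨_, _, h2, h4⟩, ⟨_, _, h3, h5⟩⟩

/-- the codes of a closure certificate increase strictly from above `p`, below `2 ^ 18` -/
def sortedOK : List ℕ → ℕ → Bool
  | [], p => Nat.blt p 262144
  | e :: L, p => Nat.blt p (nOf e) && sortedOK L (nOf e)

theorem sortedOK_spec : ∀ (L : List ℕ) (p : ℕ), sortedOK L p = true →
    (L.map nOf).Pairwise (· < ·) ∧ p < 262144 ∧ ∀ n ∈ L.map nOf, p < n ∧ n < 262144 := by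
  intro L
  induction L with
  | nil =>
    intro p h
    simp only [sortedOK, Nat.blt_eq] at h
    simp [h]
  | cons e L ih =>
    intro p h
    simp only [sortedOK, Bool.and_eq_true, Nat.blt_eq] at h
    obtain ⟨h1, h2, h3⟩ := ih _ h.2
    refine ⟨?_, by omega, ?_⟩
    · rw [List.map_cons, List.pairwise_cons]
      exact ⟨fun n hn => (h3 n hn).1, h1⟩
    · intro n hn
      rw [List.map_cons] at hn
      rcases List.mem_cons.1 hn with rfl | hn
      · exact ⟨h.1, h2⟩
      · have := h3 n hn
        omega

/-- bitmap of a closure certificate -/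
def bmcBlk : List ℕ → ℕ → ℕ
  | [], B => B
  | e :: I, B => bmcBlk I (sb B (nOf e))

/-- the bitmap of a closure certificate given in pieces -/
def bmcAll : List (List ℕ) → ℕ → ℕ
  | [], B => B
  | L :: Ls, B => force (bmcBlk L B) (fun B' => bmcAll Ls B')

theorem testBit_bmcBlk : ∀ (I : List ℕ) (B n : ℕ), (bmcBlk I B).testBit n = true →
    B.testBit n = true ∨ n ∈ I.map nOf := by
  intro I
  induction I with
  | nil => intro B n h; exact Or.inl h
  | cons x I ih =>
    intro B n h
    simp only [bmcBlk] at h
    rcases ih _ n h with h | h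
    · rw [testBit_sb] at h
      rcases Bool.or_eq_true_iff.1 h with h | h
      · exact Or.inl h
      · right
        rw [List.map_cons, ← of_decide_eq_true h]
        exact List.mem_cons_self ..
    · right
      rw [List.map_cons]
      exact List.mem_cons_of_mem _ h

theorem testBit_bmcAll : ∀ (Ls : List (List ℕ)) (B n : ℕ), (bmcAll Ls B).testBit n = true →
    B.testBit n = true ∨ n ∈ Ls.flatten.map nOf := by
  intro Ls
  induction Ls with
  | nil => intro B n h; exact Or.inl h
  | cons L Ls ih =>
    intro B n h
    simp only [bmcAll, force_eq] at h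
    rw [List.flatten_cons, List.map_append, List.mem_append]
    rcases ih _ n h with h | h
    · rcases testBit_bmcBlk L B n h with h | h
      · exact Or.inl h
      · exact Or.inr (Or.inl h)
    · exact Or.inr (Or.inr h)

/-! ### loops -/

/-- a test holds below a bound -/
def allBelow : ℕ → (ℕ → Bool) → Bool
  | 0, _ => true
  | n + 1, f => f n && allBelow n f

theorem allBelow_spec : ∀ (N : ℕ) (f : ℕ → Bool), allBelow N f = true → ∀ k < N, f k = true := by
  intro N
  induction N with
  | zero => intro f _ k hk; omega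
  | succ N ih =>
    intro f h k hk
    simp only [allBelow, Bool.and_eq_true] at h
    rcases Nat.lt_succ_iff_lt_or_eq.1 hk with hk | rfl
    · exact ih f h.2 k hk
    · exact h.1

/-- the test of the isotropic vectors against a bitmap: a nonzero vector with an even number of
nonzero coordinates has a multiple in the bitmap -/
def isoChk (B n : ℕ) : Bool :=
  Nat.beq n 0 || (Nat.beq (wpar n) 1 || (tb B n || (tb B (sm1 n) || tb B (sm1 (sm1 n)))))

/-- the test of all vectors -/
def isoAll (B : ℕ) : Bool :=
  allBelow 512 fun hi => allBelow 512 fun lo => isoChk B (Nat.add lo (Nat.mul 512 hi))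

theorem isoAll_spec {B : ℕ} (h : isoAll B = true) {n : ℕ} (hn : n < 2 ^ 18) (h0 : n ≠ 0)
    (hw : wpar n = 0) :
    B.testBit n = true ∨ B.testBit (sm1 n) = true ∨ B.testBit (sm1 (sm1 n)) = true := by
  have h1 := allBelow_spec _ _ (allBelow_spec _ _ h (n / 512) (by omega)) (n % 512)
    (Nat.mod_lt _ (by norm_num))
  have e : Nat.add (n % 512) (Nat.mul 512 (n / 512)) = n := Nat.mod_add_div n 512
  rw [e] at h1
  simp only [isoChk, Bool.or_eq_true, tb_eq] at h1
  rcases h1 with h1 | h1 | h1
  · exact absurd (Nat.eq_of_beq_eq_true h1) h0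
  · have := Nat.eq_of_beq_eq_true h1
    omega
  · exact h1

end Cfsg.Agent.Lib.Helper6.F4
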