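import Cfsg.Agent.Lib.Helper6.F4WData
import Cfsg.Agent.Lib.Helper6.BitChainX
import Cfsg.Agent.Lib.Helper6.F4SylData

/-! # A Sylow 2-subgroup of `²F₄(2)`: kernel checks -/

set_option autoImplicit false
set_option maxRecDepth 100000
set_option maxHeartbeats 0

namespace Cfsg.Agent.Lib.Helper6.F4Mat

open Cfsg.Lie Cfsg.Agent.Lib.Helper6.BitMat

theorem chk_c : prodB [gM, gP, gB10, gP, gM] = gCc := by decide +kernel

theorem chk_base : allN.getD 0 [] = gP ∧ allN.getD 1 [] = gB10 ∧ allN.getD 2 [] = gCc ∧
    allN.getD 3 [] = idB 52 := by decide +kernel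

theorem chk_all : allN.length = 4 + prog.length := by decide +kernel

theorem chk_prog : progOK allN 4 prog = true := by decide +kernel

theorem chk_chain : chainOK 52 allN [] levels = true := by decide +kernel

theorem chk_prod : (levels.map fun l => l.2.length).prod = 4096 := by decide +kernel

theorem chk_ut : utOK gP ∧ utOK gB10 ∧ utOK gCc := by
  unfold utOK
  decide +kernel

theorem chk_diag : diagOK gP ∧ diagOK gB10 ∧ diagOK gCc := by
  unfold diagOK
  decide +kernel

theorem chk_sig : ∀ a : Fin 52, sigma.getD a 0 < 2 ^ 6 := by decide +kernel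

theorem chk_par : parProgOK 4 prog = true ∧ parL.length = allN.length ∧
    parL.all (fun p => decide (p < 2)) = true := by decide +kernel

theorem chk_cols : allN.all (fun X => decide (X.length = 52) && X.all fun c => decide (c < 2 ^ 52)) = true := by
  decide +kernel

theorem chk_invol : (tuples levels).all (fun t => (parT t == 0) ||
    (appsR (matsT t ++ matsT t) 64 != 64)) = true := by decide +kernel

end Cfsg.Agent.Lib.Helper6.F4Mat
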