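import Mathlib

/-! # Groups of unitriangular matrices in characteristic two are 2-groups

For a map `σ` from the indices to the natural numbers, a matrix `B` is strictly triangular if
`B i j ≠ 0` only for `σ i < σ j`, and `A` is unitriangular if `A - 1` is strictly triangular. A
subgroup of `GL` over a ring of characteristic two generated by unitriangular matrices consists
of elements of order a power of two. -/

set_option autoImplicit false
set_option linter.unusedSectionVars false
set_option linter.unusedVariables false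

namespace Cfsg.Agent.Lib.Helper6.Unitri

open Matrix

variable {ι : Type*} [Fintype ι] [DecidableEq ι] {R : Type*} [CommRing R] (σ : ι → ℕ)

/-- strictly triangular with respect to `σ` -/
def SUT (B : Matrix ι ι R) : Prop := ∀ i j, B i j ≠ 0 → σ i < σ j

variable {σ}

theorem SUT.zero : SUT σ (0 : Matrix ι ι R) := fun i j h => absurd rfl h

theorem SUT.add {B C : Matrix ι ι R} (hB : SUT σ B) (hC : SUT σ C) : SUT σ (B + C) := by
  intro i j h
  by_cases h1 : B i j = 0
  · by_cases h2 : C i j = 0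
    · exact absurd (by rw [Matrix.add_apply, h1, h2, add_zero]) h
    · exact hC i j h2
  · exact hB i j h1

theorem SUT.mul_exists {B C : Matrix ι ι R} {i j : ι} (h : (B * C) i j ≠ 0) :
    ∃ k, B i k ≠ 0 ∧ C k j ≠ 0 := by
  rw [Matrix.mul_apply] at h
  obtain ⟨k, _, hk⟩ := Finset.exists_ne_zero_of_sum_ne_zero h
  exact ⟨k, left_ne_zero_of_mul hk, right_ne_zero_of_mul hk⟩

theorem SUT.mul {B C : Matrix ι ι R} (hB : SUT σ B) (hC : SUT σ C) : SUT σ (B * C) := by
  intro i j h
  obtain ⟨k, h1, h2⟩ := SUT.mul_exists h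
  exact lt_trans (hB i k h1) (hC k j h2)

theorem SUT.pow_apply {B : Matrix ι ι R} (hB : SUT σ B) :
    ∀ m : ℕ, ∀ i j, (B ^ (m + 1)) i j ≠ 0 → σ i + (m + 1) ≤ σ j
  | 0, i, j, h => by
    rw [zero_add, pow_one] at h
    exact hB i j h
  | m + 1, i, j, h => by
    rw [pow_succ] at h
    obtain ⟨k, h1, h2⟩ := SUT.mul_exists h
    have := SUT.pow_apply hB m i k h1
    have := hB k j h2
    omega

theorem SUT.pow_eq_zero {B : Matrix ι ι R} (hB : SUT σ B) {n : ℕ} (hσ : ∀ i, σ i < n) :
    B ^ n = 0 := by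
  obtain _ | m := n
  · ext i j
    exact absurd (hσ i) (Nat.not_lt_zero _)
  · ext i j
    by_contra h
    have := SUT.pow_apply hB m i j h
    have := hσ j
    omega

variable (σ)

/-- unitriangular with respect to `σ` -/
def UT (A : Matrix ι ι R) : Prop := SUT σ (A - 1)

variable {σ}

theorem UT.one : UT σ (1 : Matrix ι ι R) := by
  unfold UT
  rw [sub_self]
  exact SUT.zero

theorem UT.mul {A B : Matrix ι ι R} (hA : UT σ A) (hB : UT σ B) : UT σ (A * B) := by
  unfold UT at *
  have : A * B - 1 = (A - 1) * (B - 1) + (A - 1) + (B - 1) := by noncomm_ring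
  rw [this]
  exact ((hA.mul hB).add hA).add hB

theorem UT.pow {A : Matrix ι ι R} (hA : UT σ A) : ∀ m : ℕ, UT σ (A ^ m)
  | 0 => by rw [pow_zero]; exact UT.one
  | m + 1 => by rw [pow_succ]; exact (UT.pow hA m).mul hA

theorem UT.pow_two_pow [CharP R 2] [Nonempty ι] {A : Matrix ι ι R} (hA : UT σ A) {k : ℕ}
    (hσ : ∀ i, σ i < 2 ^ k) : A ^ 2 ^ k = 1 := by
  have : Fact (Nat.Prime 2) := ⟨Nat.prime_two⟩
  have h1 : A = 1 + (A - 1) := by abel
  have h2 : (1 + (A - 1)) ^ 2 ^ k = 1 ^ 2 ^ k + (A - 1) ^ 2 ^ k :=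
    add_pow_char_pow_of_commute 2 k (Commute.one_left _)
  rw [h1, h2, one_pow, SUT.pow_eq_zero hA hσ, add_zero]

/-- a subgroup generated by unitriangular matrices consists of unitriangular matrices of order
dividing `2 ^ k` -/
theorem ut_of_mem_closure [CharP R 2] [Nonempty ι] (S : Set (GL ι R))
    (hS : ∀ g ∈ S, UT σ (g : Matrix ι ι R)) {k : ℕ} (hσ : ∀ i, σ i < 2 ^ k) :
    ∀ g ∈ Subgroup.closure S, UT σ (g : Matrix ι ι R) := by
  intro g hg
  induction hg using Subgroup.closure_induction with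
  | mem g hg => exact hS g hg
  | one => exact UT.one
  | mul a b _ _ ha hb =>
    rw [Units.val_mul]
    exact ha.mul hb
  | inv a _ ha =>
    have h1 : (a : Matrix ι ι R) ^ 2 ^ k = 1 := ha.pow_two_pow hσ
    have h2 : a ^ 2 ^ k = 1 := Units.ext (by rw [Units.val_pow_eq_pow_val, h1]; rfl)
    have hk : 2 ^ k = (2 ^ k - 1) + 1 := (Nat.sub_add_cancel Nat.one_le_two_pow).symm
    have h3 : a⁻¹ = a ^ (2 ^ k - 1) := by
      rw [inv_eq_iff_mul_eq_one, ← pow_succ', ← hk, h2]
    rw [h3, Units.val_pow_eq_pow_val]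
    exact ha.pow _

theorem isPGroup_closure [CharP R 2] [Nonempty ι] (S : Set (GL ι R))
    (hS : ∀ g ∈ S, UT σ (g : Matrix ι ι R)) {k : ℕ} (hσ : ∀ i, σ i < 2 ^ k) :
    IsPGroup 2 ↥(Subgroup.closure S) := by
  intro g
  refine ⟨k, ?_⟩
  have h1 := (ut_of_mem_closure S hS hσ g.1 g.2).pow_two_pow hσ
  apply Subtype.ext
  apply Units.ext
  rw [Subgroup.coe_pow, Units.val_pow_eq_pow_val, h1]
  rfl

end Cfsg.Agent.Lib.Helper6.Unitri
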