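import Cfsg.Agent.Lib.Helper6.F4Tits
import Cfsg.Agent.Lib.Helper6.F4SylChk
import Cfsg.Agent.Lib.Helper6.Unitri

/-! # A Sylow 2-subgroup of `²F₄(2)`, the index of the derived subgroup, the order of `²F₄(2)` -/

set_option autoImplicit false
set_option linter.constructorNameAsVariable false

namespace Cfsg.Agent.Lib.Helper6.F4Iso

open scoped commutatorElement

open Cfsg.Agent.Lib.Helper6.BitMat Cfsg.Agent.Lib.Helper6.F4Mat Cfsg.Lie
  Cfsg.Agent.Lib.Helper6.Unitri

/-- the third generator of the Sylow subgroup -/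
def cGL : GL I F := gl 1 * gl 0 * gl 4 * gl 0 * gl 1

theorem coe_cGL : ((cGL : GL I F) : M) = mB gCc := by
  have h := coe_prod_gl [1, 0, 4, 0, 1]
  simp only [List.map_cons, List.map_nil, List.prod_cons, List.prod_nil, mul_one] at h
  rw [← chk_c]
  unfold cGL
  simp only [mul_assoc]
  exact h

theorem cGL_mem_G : cGL ∈ G := by
  unfold cGL
  exact G.mul_mem (G.mul_mem (G.mul_mem (G.mul_mem (gl_mem_G (by norm_num)) (gl_mem_G (by norm_num)))
    (gl_mem_G (by norm_num))) (gl_mem_G (by norm_num))) (gl_mem_G (by norm_num))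

/-- the generators of the Sylow subgroup -/
def SS : Set (GL I F) := {gl 0, gl 4, cGL}

/-- the Sylow subgroup -/
def S : Subgroup (GL I F) := Subgroup.closure SS

theorem S_le_G : S ≤ G := by
  unfold S
  rw [Subgroup.closure_le]
  intro g hg
  simp only [SS, Set.mem_insert_iff, Set.mem_singleton_iff] at hg
  rcases hg with rfl | rfl | rfl
  · exact gl_mem_G (by norm_num)
  · exact gl_mem_G (by norm_num)
  · exact cGL_mem_G

/-! ### the Sylow subgroup is a 2-group -/

/-- the position of an index -/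
def sg (i : I) : ℕ := sigma.getD (e52 i) 0

theorem ut_mB {X : List ℕ} (h1 : utOK X) (h2 : diagOK X) : UT sg (mB X) := by
  intro i j h
  by_cases hij : i = j
  · subst hij
    exfalso
    apply h
    rw [Matrix.sub_apply, Matrix.one_apply_eq]
    have := h2 (e52 i)
    show bz ((X.getD (e52 i) 0).testBit (e52 i)) - 1 = 0
    rw [this]
    simp
  · rw [Matrix.sub_apply, Matrix.one_apply_ne hij, sub_zero] at h
    have h3 : (X.getD (e52 j) 0).testBit (e52 i) = true := by
      by_contra hb
      apply h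
      show bz ((X.getD (e52 j) 0).testBit (e52 i)) = 0
      rw [Bool.not_eq_true] at hb
      rw [hb]
      rfl
    rcases h1 (e52 i) (e52 j) h3 with h4 | h4
    · exact absurd (e52.injective h4) hij
    · exact h4

theorem sg_lt (i : I) : sg i < 2 ^ 6 := chk_sig (e52 i)

instance : Nonempty I := ⟨Sum.inl (⟨0, by decide⟩ : Fin chevF4.rank)⟩

theorem S_pgroup : IsPGroup 2 ↥S := by
  apply isPGroup_closure (σ := sg) SS _ sg_lt
  intro g hg
  simp only [SS, Set.mem_insert_iff, Set.mem_singleton_iff] at hg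
  rcases hg with rfl | rfl | rfl
  · exact ut_mB chk_ut.1 chk_diag.1
  · exact ut_mB chk_ut.2.1 chk_diag.2.1
  · rw [coe_cGL]
    exact ut_mB chk_ut.2.2 chk_diag.2.2

/-! ### the stabiliser chain -/

theorem good_S : Good e52 S allN := by
  apply good_of_progOK e52 S allN prog 4 chk_all chk_prog
  intro j hj
  have hS : ∀ g ∈ SS, g ∈ S := fun g hg => Subgroup.subset_closure hg
  interval_cases j
  · rw [chk_base.1]
    exact ⟨le_of_eq (length_matB 0), gl 0, hS _ (by simp [SS]), rfl⟩
  · rw [chk_base.2.1]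
    exact ⟨le_of_eq (length_matB 4), gl 4, hS _ (by simp [SS]), rfl⟩
  · rw [chk_base.2.2.1]
    refine ⟨?_, cGL, hS _ (by simp [SS]), coe_cGL⟩
    rw [← chk_base.2.2.1]
    have := List.all_eq_true.1 chk_cols (allN.getD 2 []) (by decide)
    rw [Bool.and_eq_true, decide_eq_true_eq] at this
    exact le_of_eq this.1
  · rw [chk_base.2.2.2]
    exact ⟨le_of_eq (length_idB 52), 1, S.one_mem, by rw [toM_idB]; rfl⟩

theorem card_S_ge : 4096 ≤ Nat.card ↥S := by
  have := card_stabB_ge e52 S allN good_S levels [] chk_chain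
  rw [chk_prod] at this
  exact this

/-! ### the element `g0` is not in the derived subgroup -/

theorem g0_zpow_even (m : ℤ) : g0 ^ (2 * m) ∈ N := by
  rw [zpow_mul, zpow_ofNat, pow_two]
  exact N.zpow_mem g0_sq_mem m

theorem g0_not_mem : g0 ∉ N := by
  intro h
  have hGN : G ≤ N := by
    intro x hx
    obtain ⟨n, hn, k, rfl⟩ := G_sub x hx
    exact N.mul_mem hn (N.zpow_mem h k)
  have hSN : S ≤ N := le_trans S_le_G hGN
  have h1 : Nat.card ↥S ∣ Nat.card ↥N := Subgroup.card_dvd_of_le hSN
  obtain ⟨k, hk⟩ := S_pgroup.exists_card_eq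
  rw [card_N, hk] at h1
  have h2 := card_S_ge
  rw [hk] at h2
  have h3 : 12 ≤ k := by
    by_contra hlt
    have : k ≤ 11 := by omega
    have := Nat.pow_le_pow_right (show 0 < 2 by norm_num) this
    omega
  have h4 : 2 ^ 12 ∣ 17971200 := dvd_trans (pow_dvd_pow 2 h3) h1
  revert h4
  norm_num

/-- the derived subgroup, as a subgroup of `²F₄(2)` -/
theorem commutator_eq : commutator ↥G = N.subgroupOf G := by
  have h : (commutator ↥G).map G.subtype = N := by
    rw [Subgroup.map_subtype_commutator, comm_eq]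
  rw [← h, Subgroup.subgroupOf, Subgroup.comap_map_eq_self_of_injective G.subtype_injective]

theorem mem_commutator_iff (x : ↥G) : x ∈ commutator ↥G ↔ (x : GL I F) ∈ N := by
  rw [commutator_eq, Subgroup.mem_subgroupOf]

theorem index_commutator : (commutator ↥G).index = 2 := by
  rw [Subgroup.index_eq_two_iff]
  refine ⟨⟨g0, g0_mem_G⟩, ?_⟩
  rintro ⟨x, hx⟩
  rw [mem_commutator_iff, mem_commutator_iff]
  show Xor (x * g0 ∈ N) (x ∈ N)
  obtain ⟨n, hn, k, rfl⟩ := G_sub x hx
  rcases Int.even_or_odd' k with ⟨m, rfl | rfl⟩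
  · right
    have h1 : n * g0 ^ (2 * m) ∈ N := N.mul_mem hn (g0_zpow_even m)
    refine ⟨h1, ?_⟩
    intro h2
    apply g0_not_mem
    have := N.mul_mem (N.inv_mem h1) h2
    rwa [inv_mul_cancel_left] at this
  · left
    have h1 : n * g0 ^ (2 * m + 1) * g0 ∈ N := by
      have : n * g0 ^ (2 * m + 1) * g0 = n * g0 ^ (2 * (m + 1)) := by
        rw [mul_assoc, ← zpow_add_one]
        congr 2
        ring
      rw [this]
      exact N.mul_mem hn (g0_zpow_even _)
    refine ⟨h1, ?_⟩
    intro h2
    apply g0_not_mem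
    have := N.mul_mem (N.inv_mem h2) h1
    rwa [inv_mul_cancel_left] at this

theorem card_G : Nat.card ↥G = 35942400 := by
  have h := Subgroup.index_mul_card (commutator ↥G)
  rw [index_commutator, card_D] at h
  rw [← h]

end Cfsg.Agent.Lib.Helper6.F4Iso
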