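import Cfsg.Agent.Lib.Helper6.F4Iso

/-! # The derived subgroup of `²F₄(2)` is the presented Tits group (continued): the homomorphism -/

set_option autoImplicit false
set_option linter.constructorNameAsVariable false

namespace Cfsg.Agent.Lib.Helper6.F4Iso

open scoped commutatorElement

open Cfsg.Agent.Lib.Helper6.BitMat Cfsg.Agent.Lib.Helper6.TC Cfsg.Agent.Lib.Helper6.TitsSub
  Cfsg.Agent.Lib.Helper6.F4Mat Cfsg.Lie Cfsg.Spor Cfsg.Agent.Lib.Helper6.Simp

/-- the image of the generator with a given code -/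
def fg (x : ℕ) : GL I F := gl (genIdx.getD x 3)

theorem coe_prod_fg (w : List ℕ) : (((w.map fg).prod : GL I F) : M) = mB (prodB (w.map genB)) := by
  have h1 : w.map fg = (w.map fun x => genIdx.getD x 3).map gl := by rw [List.map_map]; rfl
  have h2 : w.map genB = (w.map fun x => genIdx.getD x 3).map matB := by rw [List.map_map]; rfl
  rw [h1, h2, coe_prod_gl]

theorem coe_fg (x : ℕ) : ((fg x : GL I F) : M) = mB (genB x) := rfl

theorem length_genB (x : ℕ) : (genB x).length = 52 := length_matB _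

theorem chk_inv : ∀ x, x < 4 → mulR (genB x) (genB x) = idB 52 := by decide +kernel

theorem fg_ge {x : ℕ} (hx : 4 ≤ x) : fg x = fg 3 := by
  unfold fg
  rw [List.getD_eq_default _ _ (by simpa [genIdx] using hx)]
  rfl

theorem fg_mul_self (x : ℕ) : fg x * fg x = 1 := by
  have key : ∀ y, y < 4 → fg y * fg y = 1 := by
    intro y hy
    apply Units.ext
    rw [Units.val_mul, coe_fg, ← mB_mulB _ _ (le_of_eq (length_genB y)), ← mulR_eq, chk_inv y hy,
      mB_idB]
    rfl
  by_cases hx : x < 4
  · exact key x hx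
  · rw [fg_ge (Nat.le_of_not_gt hx)]
    exact key 3 (by norm_num)

/-- the images of the generators -/
def fgen (a : P4.Gen) : GL I F := fg (TitsP4TC.code a)

theorem code_lt4 (a : P4.Gen) : TitsP4TC.code a < 4 := by
  cases a <;> decide

theorem fgen_gen {x : ℕ} (hx : x < 4) : fgen (TitsP4TC.gen x) = fg x := by
  interval_cases x <;> rfl

theorem word_eq_one {w : List ℕ}
    (hw : w ∈ coxWordsL P4.edges TitsP4TC.gen 4 ++ TitsP4TC.extraWords) :
    (w.map fun x => fgen (TitsP4TC.gen x)).prod = 1 := by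
  have h1 := List.all_eq_true.1 chk_rels w hw
  have h2 := List.all_eq_true.1 chk_rels_lt w hw
  have h3 : w.map (fun x => fgen (TitsP4TC.gen x)) = w.map fg :=
    List.map_congr_left fun x hx => fgen_gen (of_decide_eq_true (List.all_eq_true.1 h2 x hx))
  rw [h3]
  apply Units.ext
  rw [coe_prod_fg, beq_iff_eq.1 h1, mB_idB]
  rfl

set_option maxRecDepth 100000 in
theorem lift_rel : ∀ r ∈ coxRelators P4.edges ∪ {r | r ∈ P4.extra}, FreeGroup.lift fgen r = 1 :=
  CoxLift.lift_eq_one_of_words TitsP4TC.gen TitsP4TC.code 4 TitsP4TC.extraWords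
    (by intro a; cases a <;> exact ⟨by decide, rfl⟩) fgen
    (TitsP4TC.extra_iff fgen fun a => fg_mul_self _) fun _ hw => word_eq_one hw

/-- the homomorphism from the presented group to the group of matrices -/
noncomputable def ψ : P4 →* GL I F := PresentedGroup.toGroup lift_rel

theorem ψ_of (a : P4.Gen) : ψ (PresentedGroup.of a) = fgen a := PresentedGroup.toGroup.of _

/-- the image of the presented group -/
noncomputable abbrev N : Subgroup (GL I F) := ψ.range

theorem N_eq : N = Subgroup.closure (Set.range fgen) := by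
  have h : (⇑ψ ∘ (PresentedGroup.of : P4.Gen → P4)) = fgen := funext ψ_of
  unfold N
  rw [MonoidHom.range_eq_map, ← PresentedGroup.closure_range_of, MonoidHom.map_closure,
    ← Set.range_comp, h]

theorem fgen_mem (a : P4.Gen) : fgen a ∈ N := ⟨PresentedGroup.of a, ψ_of a⟩

theorem fg_mem (x : ℕ) : fg x ∈ N := by
  by_cases hx : x < 4
  · rw [← fgen_gen hx]
    exact fgen_mem _
  · rw [fg_ge (Nat.le_of_not_gt hx), ← fgen_gen (show 3 < 4 by norm_num)]
    exact fgen_mem _

theorem prod_fg_mem (w : List ℕ) : (w.map fg).prod ∈ N := by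
  apply Subgroup.list_prod_mem
  intro g hg
  obtain ⟨x, _, rfl⟩ := List.mem_map.1 hg
  exact fg_mem x

/-! ### the image lies in `²F₄(2)` -/

theorem fgen_mem_G (a : P4.Gen) : fgen a ∈ G := by
  cases a
  · exact gl_mem_G (k := 0) (by norm_num)
  · exact gl8_mem_G
  · exact gl9_mem_G
  · exact gl_mem_G (k := 3) (by norm_num)

theorem N_le_G : N ≤ G := by
  rw [N_eq, Subgroup.closure_le]
  rintro _ ⟨a, rfl⟩
  exact fgen_mem_G a

/-! ### the element `g0` normalizes the image -/

/-- the element `g0` -/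
def g0 : GL I F := gl 4

theorem g0_mem_G : g0 ∈ G := gl_mem_G (k := 4) (by norm_num)

theorem g0_inv : g0⁻¹ = gl 6 := by
  apply Units.ext
  rw [coe_gl]
  rfl

theorem conj_eq {i : ℕ} (hi : i < 4) :
    g0 * fg i * g0⁻¹ = ((conjW.getD i []).map fg).prod := by
  rw [g0_inv]
  apply Units.ext
  have hl : gB10.length = 52 := length_matB 4
  rw [coe_prod_fg, ← chk_conj i hi, mulR_eq, mulR_eq,
    mB_mulB gB10 _ (le_of_eq hl), mB_mulB _ _ (le_of_eq (length_genB i)), Units.val_mul,
    Units.val_mul, mul_assoc]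
  rfl

theorem conj_eq' {i : ℕ} (hi : i < 4) :
    g0⁻¹ * fg i * g0 = ((conjW'.getD i []).map fg).prod := by
  rw [g0_inv]
  apply Units.ext
  have hl : gB11.length = 52 := length_matB 6
  rw [coe_prod_fg, ← chk_conj' i hi, mulR_eq, mulR_eq,
    mB_mulB gB11 _ (le_of_eq hl), mB_mulB _ _ (le_of_eq (length_genB i)), Units.val_mul,
    Units.val_mul, mul_assoc]
  rfl

theorem hconj : ∀ n ∈ N, g0 * n * g0⁻¹ ∈ N := by
  apply CommCyc.conj_mem_of_closure _ _ N_eq
  rintro _ ⟨a, rfl⟩
  show g0 * fg (TitsP4TC.code a) * g0⁻¹ ∈ N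
  rw [conj_eq (code_lt4 a)]
  exact prod_fg_mem _

theorem hconj' : ∀ n ∈ N, g0⁻¹ * n * g0 ∈ N := by
  have h := CommCyc.conj_mem_of_closure _ _ N_eq g0⁻¹ (by
    rintro _ ⟨a, rfl⟩
    show g0⁻¹ * fg (TitsP4TC.code a) * g0⁻¹⁻¹ ∈ N
    rw [inv_inv, conj_eq' (code_lt4 a)]
    exact prod_fg_mem _)
  intro n hn
  have := h n hn
  rwa [inv_inv] at this

theorem g0_sq_mem : g0 * g0 ∈ N := by
  have h : g0 * g0 = (sqW.map fg).prod := by
    apply Units.ext
    have hl : gB10.length = 52 := length_matB 4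
    rw [coe_prod_fg, ← chk_sq, mulR_eq, mB_mulB gB10 _ (le_of_eq hl), Units.val_mul]
    rfl
  rw [h]
  exact prod_fg_mem _

/-! ### the generators of `²F₄(2)` -/

theorem gl_eq_gen {k : ℕ} (hk : k < 8) :
    gl k = ((genW.getD k []).map fg).prod * g0 ^ (genK.getD k 0) := by
  apply Units.ext
  rw [coe_gl, chk_gen k hk, Units.val_mul, Units.val_pow_eq_pow_val, coe_prod_fg, mB_prodB]
  · rw [List.map_append, List.prod_append, List.map_map, List.map_replicate, List.prod_replicate,
      mB_prodB]
    · rw [List.map_map]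
      rfl
    · intro A hA
      obtain ⟨x, _, rfl⟩ := List.mem_map.1 hA
      exact length_genB x
  · intro A hA
    rcases List.mem_append.1 hA with hA | hA
    · obtain ⟨x, _, rfl⟩ := List.mem_map.1 hA
      exact length_genB x
    · rw [List.eq_of_mem_replicate hA]
      exact length_matB 4

theorem T_sub : T ⊆ CommCyc.prodSet N g0 := by
  intro g hg
  rcases T_cases hg with rfl | ⟨k, hk, rfl⟩
  · exact ⟨1, Subgroup.one_mem _, 0, by simp⟩
  · exact ⟨_, prod_fg_mem _, _, by rw [zpow_natCast]; exact gl_eq_gen hk⟩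

theorem comm_le : ⁅G, G⁆ ≤ N :=
  CommCyc.commutator_le N G g0 T G_eq hconj hconj' T_sub

theorem G_sub : ∀ x ∈ G, x ∈ CommCyc.prodSet N g0 := by
  intro x hx
  rw [G_eq] at hx
  exact CommCyc.closure_le_prodSet N g0 hconj hconj' T T_sub x hx

/-! ### the presented group is perfect and the homomorphism is injective -/

theorem mB_apply (X : List ℕ) (a b : Fin 52) :
    mB X (e52.symm a) (e52.symm b) = bz ((X.getD b 0).testBit a) := by
  simp [mB, toM]

theorem mB_ne {X Y : List ℕ} (a b : Fin 52)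
    (h : (X.getD b 0).testBit a ≠ (Y.getD b 0).testBit a) : mB X ≠ mB Y := by
  intro h1
  apply h
  apply bz_inj
  rw [← mB_apply, ← mB_apply, h1]

theorem chk_ne' : ((genB 0).getD (1 : Fin 52) 0).testBit (37 : Fin 52) ≠
    ((idB 52).getD (1 : Fin 52) 0).testBit (37 : Fin 52) := by decide +kernel

theorem chk_nc' : ((mulR (genB 0) (genB 1)).getD (0 : Fin 52) 0).testBit (0 : Fin 52) ≠
    ((mulR (genB 1) (genB 0)).getD (0 : Fin 52) 0).testBit (0 : Fin 52) := by decide +kernel

theorem fg0_ne : fg 0 ≠ 1 := by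
  intro h
  apply mB_ne _ _ chk_ne'
  rw [mB_idB, ← coe_fg, h]
  rfl

theorem ψ_injective : Function.Injective ψ := by
  have hs := TitsSimple.main.1
  rcases (MonoidHom.normal_ker ψ).eq_bot_or_eq_top with h | h
  · exact (MonoidHom.ker_eq_bot_iff ψ).1 h
  · exfalso
    have h1 : ψ (PresentedGroup.of P4.Gen.x) = 1 := by
      have : PresentedGroup.of P4.Gen.x ∈ ψ.ker := by
        rw [h]
        trivial
      exact this
    rw [ψ_of] at h1
    exact fg0_ne h1

theorem not_comm : fg 0 * fg 1 ≠ fg 1 * fg 0 := by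
  intro h
  have h1 := congrArg Units.val h
  rw [Units.val_mul, Units.val_mul, coe_fg, coe_fg, ← mB_mulB _ _ (le_of_eq (length_genB 0)),
    ← mB_mulB _ _ (le_of_eq (length_genB 1)), ← mulR_eq, ← mulR_eq] at h1
  exact mB_ne _ _ chk_nc' h1

theorem comm_top : commutator P4 = ⊤ := by
  have hs := TitsSimple.main.1
  rcases (inferInstance : (commutator P4).Normal).eq_bot_or_eq_top with h | h
  · exfalso
    apply not_comm
    have hc : ∀ x y : P4, x * y = y * x := by
      intro x y
      have : ⁅x, y⁆ ∈ commutator P4 :=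
        Subgroup.commutator_mem_commutator (Subgroup.mem_top x) (Subgroup.mem_top y)
      rw [h, Subgroup.mem_bot, commutatorElement_eq_one_iff_mul_comm] at this
      exact this
    have := congrArg ψ (hc (PresentedGroup.of P4.Gen.x) (PresentedGroup.of P4.Gen.y))
    rw [map_mul, map_mul, ψ_of, ψ_of] at this
    exact this
  · exact h

theorem N_le_comm : N ≤ ⁅G, G⁆ := by
  have h1 : N = (commutator P4).map ψ := by
    rw [comm_top, ← MonoidHom.range_eq_map]
  rw [h1, commutator_def, Subgroup.map_commutator, ← MonoidHom.range_eq_map]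
  exact Subgroup.commutator_mono N_le_G N_le_G

theorem comm_eq : ⁅G, G⁆ = N := le_antisymm comm_le N_le_comm

/-- the derived subgroup of `²F₄(2)` is the presented group -/
noncomputable def isoD : commutator ↥G ≃* P4 :=
  ((commutator ↥G).equivMapOfInjective G.subtype G.subtype_injective).trans
    ((MulEquiv.subgroupCongr (by rw [Subgroup.map_subtype_commutator, comm_eq])).trans
      (MonoidHom.ofInjective ψ_injective).symm)

theorem card_D : Nat.card (commutator ↥G) = 17971200 :=
  (Nat.card_congr isoD.toEquiv).trans TitsSimple.main.2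

set_option maxRecDepth 100000 in
theorem simple_D : IsSimpleGroup (commutator ↥G) :=
  @MulEquiv.isSimpleGroup _ _ _ _ TitsSimple.main.1 isoD

theorem card_N : Nat.card N = 17971200 :=
  (Nat.card_congr (MonoidHom.ofInjective ψ_injective).toEquiv).symm.trans TitsSimple.main.2

end Cfsg.Agent.Lib.Helper6.F4Iso
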