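import Cfsg.Agent.Lib.Helper6.F4Den

/-! # Coded vectors of length 9 over a field with four elements

A vector is coded by an 18-bit number (bit `i` the coefficient of `1`, bit `9 + i` the coefficient
of `ω` at place `i`); `expand` turns it into the code of the 9 × 9 matrix with that first column,
so that the coded matrix product computes the action on vectors. -/

set_option autoImplicit false

namespace Cfsg.Agent.Lib.Helper6.F4

open Cfsg.Spor Cfsg.Agent.Lib.Helper6.Cod

/-- the low nine bits, spread with stride 9 -/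
def sp9 (m : ℕ) : ℕ :=
  Nat.add (bt m 0) (Nat.mul 512 (Nat.add (bt m 1) (Nat.mul 512
  (Nat.add (bt m 2) (Nat.mul 512 (Nat.add (bt m 3) (Nat.mul 512
  (Nat.add (bt m 4) (Nat.mul 512 (Nat.add (bt m 5) (Nat.mul 512
  (Nat.add (bt m 6) (Nat.mul 512 (Nat.add (bt m 7) (Nat.mul 512
  (bt m 8))))))))))))))))

theorem sp9_eq (m : ℕ) : sp9 m = ofD ((List.range 9).map fun i => bt m i) := by
  simp only [sp9, ofD, List.range, List.range.loop, List.map, Nat.add_eq, Nat.mul_eq]
  norm_num

theorem sp9_lt (m : ℕ) : sp9 m < 2 ^ 81 := by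
  rw [sp9_eq]
  have := ofD_lt ((List.range 9).map fun i => bt m i) (by
    intro d hd
    simp only [List.mem_map, List.mem_range] at hd
    obtain ⟨t, _, rfl⟩ := hd
    have := bt_le_one m t
    omega)
  simpa using this

theorem testBit_sp9 (m i j : ℕ) (hi : i < 9) (hj : j < 9) :
    (sp9 m).testBit (9 * i + j) = (decide (j = 0) && m.testBit i) := by
  rw [sp9_eq, testBit_ofD _ _ i j hj]
  · rw [List.getD_eq_getElem _ _ (by simpa using hi)]
    simp only [List.getElem_map, List.getElem_range]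
    rw [bt_eq]
    cases m.testBit i
    · simp
    · interval_cases j <;> simp <;> decide
  · intro d hd
    simp only [List.mem_map, List.mem_range] at hd
    obtain ⟨t, _, rfl⟩ := hd
    have := bt_le_one m t
    omega

/-- the code of the matrix whose first column is the coded vector -/
def expand (n : ℕ) : ℕ :=
  Nat.add (sp9 (Nat.mod n 512)) (Nat.mul P81 (sp9 (Nat.mod (Nat.div n 512) 512)))

theorem expand_eq (n : ℕ) : expand n = 2 ^ 81 * sp9 (n / 512 % 512) + sp9 (n % 512) := by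
  show sp9 (n % 512) + P81 * sp9 (n / 512 % 512) = _
  rw [P81_eq]; ring

theorem expand_lt (n : ℕ) : expand n < 2 ^ 162 := by
  rw [expand_eq]
  have h1 := sp9_lt (n / 512 % 512)
  have h2 := sp9_lt (n % 512)
  have e : (2 : ℕ) ^ 162 = 2 ^ 81 * 2 ^ 81 := by norm_num
  rw [e]
  nlinarith

theorem testBit_low (n i : ℕ) (hi : i < 9) : (n % 512).testBit i = n.testBit i := by
  have : (512 : ℕ) = 2 ^ 9 := by norm_num
  rw [this, Nat.testBit_mod_two_pow]
  simp [hi]

theorem testBit_high (n i : ℕ) (hi : i < 9) : (n / 512 % 512).testBit i = n.testBit (9 + i) := by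
  have : (512 : ℕ) = 2 ^ 9 := by norm_num
  rw [this, Nat.testBit_mod_two_pow, Nat.testBit_div_two_pow]
  simp [hi, add_comm]

theorem testBit_expand_lo (n i j : ℕ) (hi : i < 9) (hj : j < 9) :
    (expand n).testBit (9 * i + j) = (decide (j = 0) && n.testBit i) := by
  rw [expand_eq, Nat.testBit_two_pow_mul_add _ (sp9_lt _), if_pos (by omega),
    testBit_sp9 _ _ _ hi hj, testBit_low _ _ hi]

theorem testBit_expand_hi (n i j : ℕ) (hi : i < 9) (hj : j < 9) :
    (expand n).testBit (81 + (9 * i + j)) = (decide (j = 0) && n.testBit (9 + i)) := by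
  rw [expand_eq, Nat.testBit_two_pow_mul_add _ (sp9_lt _), if_neg (by omega)]
  have e : 81 + (9 * i + j) - 81 = 9 * i + j := by omega
  rw [e, testBit_sp9 _ _ _ hi hj, testBit_high _ _ hi]

/-- multiplication of a coded vector by `ω` -/
def sm1 (n : ℕ) : ℕ :=
  Nat.add (Nat.mod (Nat.div n 512) 512)
    (Nat.mul 512 (Nat.xor (Nat.mod n 512) (Nat.mod (Nat.div n 512) 512)))

/-- multiplication of a coded vector by `ω ^ j` (`j ≤ 2`) -/
def sm (j n : ℕ) : ℕ := bif Nat.beq j 0 then n else bif Nat.beq j 1 then sm1 n else sm1 (sm1 n)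

theorem sm1_eq (n : ℕ) : sm1 n = 2 ^ 9 * ((n % 512) ^^^ (n / 512 % 512)) + n / 512 % 512 := by
  show n / 512 % 512 + 512 * ((n % 512) ^^^ (n / 512 % 512)) = _
  ring

theorem sm1_lt (n : ℕ) : sm1 n < 2 ^ 18 := by
  rw [sm1_eq]
  have h1 : n / 512 % 512 < 2 ^ 9 := Nat.mod_lt _ (by norm_num)
  have h0 : n % 512 < 2 ^ 9 := Nat.mod_lt _ (by norm_num)
  have h2 : (n % 512) ^^^ (n / 512 % 512) < 2 ^ 9 := Nat.xor_lt_two_pow h0 h1
  omega

theorem testBit_sm1_lo (n i : ℕ) (hi : i < 9) : (sm1 n).testBit i = n.testBit (9 + i) := by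
  have h1 : n / 512 % 512 < 2 ^ 9 := Nat.mod_lt _ (by norm_num)
  rw [sm1_eq, Nat.testBit_two_pow_mul_add _ h1, if_pos hi, testBit_high _ _ hi]

theorem testBit_sm1_hi (n i : ℕ) (hi : i < 9) :
    (sm1 n).testBit (9 + i) = (n.testBit i ^^ n.testBit (9 + i)) := by
  have h1 : n / 512 % 512 < 2 ^ 9 := Nat.mod_lt _ (by norm_num)
  rw [sm1_eq, Nat.testBit_two_pow_mul_add _ h1, if_neg (by omega)]
  have e : 9 + i - 9 = i := by omega
  rw [e, Nat.testBit_xor, testBit_low _ _ hi, testBit_high _ _ hi]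

/-- the number of ones among the low nine bits -/
def wsumM (m : ℕ) : ℕ :=
  Nat.add (bt m 0) (Nat.add (bt m 1) (Nat.add (bt m 2) (Nat.add (bt m 3) (Nat.add (bt m 4)
    (Nat.add (bt m 5) (Nat.add (bt m 6) (Nat.add (bt m 7) (bt m 8))))))))

/-- the mask of the nonzero coordinates of a coded vector -/
def supp (n : ℕ) : ℕ := Nat.lor (Nat.mod n 512) (Nat.mod (Nat.div n 512) 512)

/-- the parity of the number of nonzero coordinates -/
def wpar (n : ℕ) : ℕ := Nat.mod (wsumM (supp n)) 2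

theorem testBit_supp (n i : ℕ) (hi : i < 9) :
    (supp n).testBit i = (n.testBit i || n.testBit (9 + i)) := by
  show ((n % 512) ||| (n / 512 % 512)).testBit i = _
  rw [Nat.testBit_or, testBit_low _ _ hi, testBit_high _ _ hi]

section

variable (F : Type*) [Field F] (ω : F)

/-- the vector denoted by an 18-bit code -/
def vecd (n : ℕ) : F9 → F := fun z =>
  β F (n.testBit (idx z)) + β F (n.testBit (9 + idx z)) * ω

/-- the matrix with a given first column and zeros elsewhere -/
def colMat (v : F9 → F) : Matrix F9 F9 F := fun w z => if z = 0 then v w else 0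

variable {F} {ω}

theorem colMat_inj {v v' : F9 → F} (h : colMat F v = colMat F v') : v = v' := by
  funext w
  have := congrFun (congrFun h w) 0
  simpa [colMat] using this

theorem mul_colMat (A : Matrix F9 F9 F) (v : F9 → F) :
    A * colMat F v = colMat F (A.mulVec v) := by
  ext w z
  simp only [Matrix.mul_apply, colMat, Matrix.mulVec, dotProduct]
  by_cases hz : z = 0
  · simp [hz]
  · simp [hz]

theorem idx_eq_zero {z : F9} : idx z = 0 ↔ z = 0 := by
  constructor
  · intro h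
    exact idx_inj (h.trans (by rfl : (0 : ℕ) = idx (0 : F9)))
  · rintro rfl; rfl

theorem den_expand (n : ℕ) : den F ω (expand n) = colMat F (vecd F ω n) := by
  ext w z
  simp only [den, colMat, vecd]
  rw [testBit_expand_lo _ _ _ (idx_lt w) (idx_lt z), testBit_expand_hi _ _ _ (idx_lt w) (idx_lt z)]
  by_cases hz : z = 0
  · subst hz
    have : idx (0 : F9) = 0 := rfl
    simp [this]
  · have : idx z ≠ 0 := fun h => hz (idx_eq_zero.1 h)
    simp [hz, this, β]

theorem vecd_sm1 (hω : ω ^ 2 + ω + 1 = 0) (h2 : (2 : F) = 0) (n : ℕ) :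
    vecd F ω (sm1 n) = ω • vecd F ω n := by
  funext z
  simp only [vecd, Pi.smul_apply, smul_eq_mul]
  rw [testBit_sm1_lo _ _ (idx_lt z), testBit_sm1_hi _ _ (idx_lt z), β_xor h2]
  have hω' : ω ^ 2 = ω + 1 := by linear_combination hω - (ω + 1) * h2
  linear_combination (-(β F (n.testBit (9 + idx z)))) * hω'

theorem vecd_sm (hω : ω ^ 2 + ω + 1 = 0) (h2 : (2 : F) = 0) (j n : ℕ) :
    ∃ k : ℕ, vecd F ω (sm j n) = ω ^ k • vecd F ω n := by
  match j with
  | 0 => exact ⟨0, by rw [pow_zero, one_smul]; rfl⟩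
  | 1 => exact ⟨1, by rw [pow_one]; exact vecd_sm1 hω h2 n⟩
  | j + 2 =>
    refine ⟨2, ?_⟩
    show vecd F ω (sm1 (sm1 n)) = _
    rw [vecd_sm1 hω h2, vecd_sm1 hω h2, smul_smul, pow_two]

theorem vecd_inj (hω : ω ^ 2 + ω + 1 = 0) (h2 : (2 : F) = 0) {n n' : ℕ} (hn : n < 2 ^ 18)
    (hn' : n' < 2 ^ 18) (h : vecd F ω n = vecd F ω n') : n = n' := by
  apply Nat.eq_of_testBit_eq
  intro i
  have key : ∀ i, i < 9 → n.testBit i = n'.testBit i ∧ n.testBit (9 + i) = n'.testBit (9 + i) := by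
    intro i hi
    obtain ⟨z, rfl⟩ := exists_idx hi
    have := congrFun h z
    simp only [vecd] at this
    exact bits_inj hω h2 this
  by_cases h1 : i < 9
  · exact (key i h1).1
  · by_cases h3 : i < 18
    · have := (key (i - 9) (by omega)).2
      have e : 9 + (i - 9) = i := by omega
      rwa [e] at this
    · rw [testBit_of_lt hn (by omega), testBit_of_lt hn' (by omega)]

theorem sm_lt {j n : ℕ} (hn : n < 2 ^ 18) : sm j n < 2 ^ 18 := by
  match j with
  | 0 => exact hn
  | 1 => exact sm1_lt n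
  | j + 2 => exact sm1_lt _

/-- the elements of a field with four elements -/
theorem exists_bits [Fintype F] (hF : Fintype.card F = 4) (hω : ω ^ 2 + ω + 1 = 0) (x : F) :
    ∃ a b : Bool, x = β F a + β F b * ω := by
  have h2 := two_eq_zero_of_card hF
  let f : Bool × Bool → F := fun p => β F p.1 + β F p.2 * ω
  have hinj : Function.Injective f := by
    rintro ⟨a, b⟩ ⟨a', b'⟩ h
    obtain ⟨h1, h3⟩ := bits_inj hω h2 h
    exact Prod.ext h1 h3
  have hbij : Function.Bijective f := by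
    rw [Fintype.bijective_iff_injective_and_card]
    exact ⟨hinj, by rw [hF]; rfl⟩
  obtain ⟨⟨a, b⟩, hab⟩ := hbij.2 x
  exact ⟨a, b, hab.symm⟩

theorem eq_pow_of_ne_zero [Fintype F] (hF : Fintype.card F = 4) (hω : ω ^ 2 + ω + 1 = 0) {x : F}
    (hx : x ≠ 0) : x = ω ^ 0 ∨ x = ω ^ 1 ∨ x = ω ^ 2 := by
  have h2 := two_eq_zero_of_card hF
  obtain ⟨a, b, rfl⟩ := exists_bits hF hω x
  have hω' : ω ^ 2 = ω + 1 := by linear_combination hω - (ω + 1) * h2
  cases a <;> cases b
  · exact absurd (by simp [β]) hx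
  · right; left; simp [β]
  · left; simp [β]
  · right; right; rw [hω']; simp [β, add_comm]

theorem vecd_surj [Fintype F] (hF : Fintype.card F = 4) (hω : ω ^ 2 + ω + 1 = 0) (v : F9 → F) :
    ∃ n, n < 2 ^ 18 ∧ vecd F ω n = v := by
  classical
  have h2 := two_eq_zero_of_card hF
  let f : Fin (2 ^ 18) → (F9 → F) := fun n => vecd F ω n.val
  have hinj : Function.Injective f := by
    intro n n' h
    exact Fin.ext (vecd_inj hω h2 n.isLt n'.isLt h)
  have hbij : Function.Bijective f := by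
    rw [Fintype.bijective_iff_injective_and_card]
    refine ⟨hinj, ?_⟩
    rw [Fintype.card_fun, hF, Fintype.card_fin]
    have : Fintype.card F9 = 9 := by
      show Fintype.card (ZMod 3 × ZMod 3) = 9
      rw [Fintype.card_prod, ZMod.card]
    rw [this]
    norm_num
  obtain ⟨n, hn⟩ := hbij.2 v
  exact ⟨n.val, n.isLt, hn⟩

theorem β_toNat (b : Bool) : β F b = ((b.toNat : ℕ) : F) := by
  cases b <;> simp [β]

theorem cube_eq (hω : ω ^ 2 + ω + 1 = 0) (h2 : (2 : F) = 0) (a b : Bool) :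
    (β F a + β F b * ω) ^ 3 = β F (a || b) := by
  cases a <;> cases b <;> simp [β]
  · linear_combination (ω - 1) * hω
  · linear_combination ω * hω + (ω ^ 2 + ω) * h2

theorem sum_cube (hω : ω ^ 2 + ω + 1 = 0) (h2 : (2 : F) = 0) (n : ℕ) :
    ∑ z, (vecd F ω n z) ^ 3 = ((wsumM (supp n) : ℕ) : F) := by
  rw [sum_F9]
  simp only [vecd, cube_eq hω h2]
  have e0 : idx ((0, 0) : F9) = 0 := rfl
  have e1 : idx ((0, 1) : F9) = 1 := rfl
  have e2 : idx ((0, 2) : F9) = 2 := rfl
  have e3 : idx ((1, 0) : F9) = 3 := rfl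
  have e4 : idx ((1, 1) : F9) = 4 := rfl
  have e5 : idx ((1, 2) : F9) = 5 := rfl
  have e6 : idx ((2, 0) : F9) = 6 := rfl
  have e7 : idx ((2, 1) : F9) = 7 := rfl
  have e8 : idx ((2, 2) : F9) = 8 := rfl
  rw [e0, e1, e2, e3, e4, e5, e6, e7, e8]
  rw [← testBit_supp n 0 (by norm_num), ← testBit_supp n 1 (by norm_num),
    ← testBit_supp n 2 (by norm_num), ← testBit_supp n 3 (by norm_num),
    ← testBit_supp n 4 (by norm_num), ← testBit_supp n 5 (by norm_num),
    ← testBit_supp n 6 (by norm_num), ← testBit_supp n 7 (by norm_num),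
    ← testBit_supp n 8 (by norm_num)]
  simp only [β_toNat, ← bt_eq]
  show _ = (((bt (supp n) 0 + (bt (supp n) 1 + (bt (supp n) 2 + (bt (supp n) 3 + (bt (supp n) 4 +
    (bt (supp n) 5 + (bt (supp n) 6 + (bt (supp n) 7 + bt (supp n) 8)))))))) : ℕ) : F)
  push_cast
  ring

theorem natCast_eq_zero_iff (h2 : (2 : F) = 0) (k : ℕ) : (k : F) = 0 ↔ k % 2 = 0 := by
  have e : (k : F) = ((k % 2 : ℕ) : F) := by
    conv_lhs => rw [← Nat.div_add_mod k 2]
    push_cast
    rw [h2]; ring
  rw [e]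
  rcases Nat.mod_two_eq_zero_or_one k with h | h <;> rw [h] <;> simp

/-- a coded vector is isotropic if and only if it has an even number of nonzero coordinates -/
theorem iso_iff (hω : ω ^ 2 + ω + 1 = 0) (h2 : (2 : F) = 0) (n : ℕ) :
    ∑ z, (vecd F ω n z) ^ 3 = 0 ↔ wpar n = 0 := by
  rw [sum_cube hω h2, natCast_eq_zero_iff h2]
  rfl

theorem vecd_zero : vecd F ω 0 = 0 := by
  funext z
  simp [vecd, β]

end

end Cfsg.Agent.Lib.Helper6.F4
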