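import Cfsg.Agent.Lib.Helper6.Fi22BTCData
import Cfsg.Agent.Lib.Helper6.Fi22BSE
import Cfsg.Agent.Lib.Helper6.Fi22BSJ
import Cfsg.Agent.Lib.Helper6.Fi22BSM

/-! # Fi22B: the table with a proof for every entry -/

set_option autoImplicit false

namespace Cfsg.Agent.Lib.Helper6.Fi22BTC

open Cfsg.Agent.Lib.Helper6.TC Cfsg.Agent.Lib.Helper6.TCS

/-- the table with a proof for every entry -/
def cert : SCert := ⟨cfg, 18, 19838, arrE, arrM, arrJ, arrJM, arrP⟩

end Cfsg.Agent.Lib.Helper6.Fi22BTC
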