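import Cfsg.Agent.Lib.Helper6.Fi22BSCert

/-! # Fi22B: the kernel check that the first rows are closed -/

set_option autoImplicit false

namespace Cfsg.Agent.Lib.Helper6.Fi22BTC

open Cfsg.Agent.Lib.Helper6.TC Cfsg.Agent.Lib.Helper6.TCS

theorem chk_fin : cert.finalOK 14080 = true := by decide +kernel

end Cfsg.Agent.Lib.Helper6.Fi22BTC
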