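import Cfsg.Agent.Lib.Helper6.Fi22BSCert

/-! # Fi22B: the kernel check of the rows from 0 on -/

set_option autoImplicit false

namespace Cfsg.Agent.Lib.Helper6.Fi22BTC

open Cfsg.Agent.Lib.Helper6.TC Cfsg.Agent.Lib.Helper6.TCS

theorem chk_rows0_0 : cert.rowsOK 0 500 = true := by decide +kernel

theorem chk_rows0_1 : cert.rowsOK 500 500 = true := by decide +kernel

theorem chk_rows0_2 : cert.rowsOK 1000 500 = true := by decide +kernel

theorem chk_rows0_3 : cert.rowsOK 1500 500 = true := by decide +kernel

theorem chk_rows0_4 : cert.rowsOK 2000 500 = true := by decide +kernel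

theorem chk_rows0_5 : cert.rowsOK 2500 500 = true := by decide +kernel

theorem chk_rows0_6 : cert.rowsOK 3000 500 = true := by decide +kernel

theorem chk_rows0_7 : cert.rowsOK 3500 500 = true := by decide +kernel

theorem chk_rows0_8 : cert.rowsOK 4000 500 = true := by decide +kernel

theorem chk_rows0_9 : cert.rowsOK 4500 500 = true := by decide +kernel

theorem chk_range0 : ∀ a, 0 ≤ a → a < 0 + 5000 → ∀ x < cert.c.g, cert.slotOK a x = true := by
  refine cert.range_of_chunks 0 500 10 (by norm_num) ?_
  intro k hk
  interval_cases k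
  · exact chk_rows0_0
  · exact chk_rows0_1
  · exact chk_rows0_2
  · exact chk_rows0_3
  · exact chk_rows0_4
  · exact chk_rows0_5
  · exact chk_rows0_6
  · exact chk_rows0_7
  · exact chk_rows0_8
  · exact chk_rows0_9

end Cfsg.Agent.Lib.Helper6.Fi22BTC
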