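import Cfsg.Agent.Lib.Helper6.Fi22BSCert

/-! # Fi22B: the kernel check of the rows from 10000 on -/

set_option autoImplicit false

namespace Cfsg.Agent.Lib.Helper6.Fi22BTC

open Cfsg.Agent.Lib.Helper6.TC Cfsg.Agent.Lib.Helper6.TCS

theorem chk_rows2_0 : cert.rowsOK 10000 500 = true := by decide +kernel

theorem chk_rows2_1 : cert.rowsOK 10500 500 = true := by decide +kernel

theorem chk_rows2_2 : cert.rowsOK 11000 500 = true := by decide +kernel

theorem chk_rows2_3 : cert.rowsOK 11500 500 = true := by decide +kernel

theorem chk_rows2_4 : cert.rowsOK 12000 500 = true := by decide +kernel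

theorem chk_rows2_5 : cert.rowsOK 12500 500 = true := by decide +kernel

theorem chk_rows2_6 : cert.rowsOK 13000 500 = true := by decide +kernel

theorem chk_rows2_7 : cert.rowsOK 13500 500 = true := by decide +kernel

theorem chk_rows2_8 : cert.rowsOK 14000 500 = true := by decide +kernel

theorem chk_rows2_9 : cert.rowsOK 14500 500 = true := by decide +kernel

theorem chk_range2 : ∀ a, 10000 ≤ a → a < 10000 + 5000 → ∀ x < cert.c.g, cert.slotOK a x = true := by
  refine cert.range_of_chunks 10000 500 10 (by norm_num) ?_
  intro k hk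
  interval_cases k
  · exact chk_rows2_0
  · exact chk_rows2_1
  · exact chk_rows2_2
  · exact chk_rows2_3
  · exact chk_rows2_4
  · exact chk_rows2_5
  · exact chk_rows2_6
  · exact chk_rows2_7
  · exact chk_rows2_8
  · exact chk_rows2_9

end Cfsg.Agent.Lib.Helper6.Fi22BTC
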