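import Cfsg.Agent.Lib.Helper6.Fi22BSRows0
import Cfsg.Agent.Lib.Helper6.Fi22BSRows1
import Cfsg.Agent.Lib.Helper6.Fi22BSRows2
import Cfsg.Agent.Lib.Helper6.Fi22BSRows3
import Cfsg.Agent.Lib.Helper6.Fi22BSMRows0
import Cfsg.Agent.Lib.Helper6.Fi22BSFin

/-! # Fi22B: the coset enumeration is checked -/

set_option autoImplicit false

namespace Cfsg.Agent.Lib.Helper6.Fi22BTC

open Cfsg.Agent.Lib.Helper6.TC Cfsg.Agent.Lib.Helper6.TCS

theorem chk_rows : ∀ a < cert.N, ∀ x < cert.c.g, cert.slotOK a x = true := by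
  refine cert.rows_of_ranges 5000 4 (by norm_num) (by show 19838 ≤ 4 * 5000; norm_num) ?_
  intro f hf
  interval_cases f
  · exact chk_range0
  · exact chk_range1
  · exact chk_range2
  · exact chk_range3

theorem chk_mrows : ∀ b < cert.N, cert.mslotOK b = true := by
  refine cert.mrows_of_ranges 20000 1 (by norm_num) (by show 19838 ≤ 1 * 20000; norm_num) ?_
  intro f hf
  interval_cases f
  · exact chk_mrange0

theorem hrun : RunCert cfg tab.n :=
  RunCert.of_static cert 14080 (by norm_num) chk_rows chk_mrows chk_fin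

end Cfsg.Agent.Lib.Helper6.Fi22BTC
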