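import Cfsg.Agent.Lib.Helper6.TCCheck

/-! # Coset enumeration data for Fi22Q4: the trace (generated) -/

set_option autoImplicit false
set_option maxRecDepth 1000000
set_option maxHeartbeats 4000000

namespace Cfsg.Agent.Lib.Helper6.Fi22Q4TC

open Cfsg.Agent.Lib.Helper6.TC

/-- the operations of the enumeration -/
def trace : List (List ℕ) := [[0, 67108864, 134217728, 201326592, 67108868, 134217732, 201326596, 8, 134217736, 201326600, 67108876, 201326604, 134217744, 20, 134217748, 201326612, 67108888, 201326616, 134217756, 134217760, 201326624, 67108900, 201326628, 134217768, 44, 201326636, 134217776, 67108916, 134217784, 201326648, 67108924, 201326652, 134217792, 68, 201326660, 134217800, 67108940, 67108944, 201326672, 134217812, 88, 201326680, 134217820, 67108960, 201326692, 134217832, 67108972, 112, 67108980, 201326708, 134217848, 124, 201326716, 134217856, 67108996, 201326728, 134217868, 67109008, 148, 152, 201326744, 134217884, 67109024, 201326756, 134217896, 67109036, 176, 134217908, 67109048, 188, 196, 201326788, 134217928, 67109068, 201326800, 134217940, 67109080, 220, 134217952, 67109092, 232, 201326832, 134217972, 67109112, 252, 134217984, 67109124, 264, 67109136, 276, 201326876, 134218016, 67109156, 296, 134218028, 67109168, 308, 67109180, 320, 134218056,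 67109196, 336, 67109208, 348, 356, 134218092, 67109232, 372, 67109244, 384, 392, 67109264, 404, 412, 67109288, 428, 436, 448, 460, 824700829697, 549957140481, 550091358209, 825170591745, 550426902529, 825506136065, 825170591749, 550426902533, 825506136069, 549957140489, 550091358217, 825506136073, 549890031629, 550426902541, 275280560141, 275146342417, 550359793681, 549957140501, 550091358229, 825506136085, 550426902553, 550359793693, 550359793697, 825506136097, 275616104481, 549890031653, 550426902565, 275280560165, 275146342441, 275079233581, 550091358253, 550695338029, 275146342449, 550359793713, 549890031669, 275548995637, 825506136121, 549890031677, 550426902589, 275280560189, 275146342465, 275079233605, 550091358277, 550695338053, 550359793737, 275548995661, 550426902609, 550359793749, 550091358297, 275146342493, 550359793757, 549890031713, 275548995681, 275616104549, 550695338085, 275146342505, 549890031725, 275079233649, 275213451377, 550426902645, 550091358333, 275146342529, 550359793793, 549890031749, 275548995717, 550695338121, 275146342541, 275079233685, 275213451413, 275079233689, 550091358361, 550695338137, 550359793821, 275548995745, 275616104613, 275146342569, 549890031789, 275213451441, 550359793845, 549890031801, 275548995769, 275079233725, 550091358405,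 550359793865, 275548995789, 275616104657, 275146342613, 549890031833, 275213451485, 549890031845, 275548995813, 275079233769, 550695338225, 275146342645, 275079233789, 275213451517, 550359793921, 549890031877, 275079233801, 275548995857, 275213451541, 275146342689, 275213451561, 550359793965, 549890031921, 275079233845, 275548995901, 275213451585, 549890031949, 275548995917, 275079233873, 275079233893, 275213451621, 549890031985, 275079233909, 275213451657, 275548995985, 275213451669, 275079233949, 275079233973, 275213451713]]

end Cfsg.Agent.Lib.Helper6.Fi22Q4TC
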