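import Cfsg.Agent.Lib.Helper6.TCCheck

/-! # Coset enumeration data for Fi22Q5: the trace (generated) -/

set_option autoImplicit false
set_option maxRecDepth 1000000
set_option maxHeartbeats 4000000

namespace Cfsg.Agent.Lib.Helper6.Fi22Q5TC

open Cfsg.Agent.Lib.Helper6.TC

/-- the operations of the enumeration -/
def trace : List (List ℕ) := [[268435456, 134217732, 67108872, 201326600, 12, 201326604, 201326612, 134217752, 134217756, 268435488, 67108900, 268435492, 268435500, 134217780, 201326648, 550829555721, 550359793677, 275414777881, 275683213345, 550963773477, 0, 274877906946, 550494011393, 550225575941, 824969265161, 550359793673, 550829555733, 825573244957, 826177224749, 551567753273, 67108864, 274945015810, 550963773441, 825573244933, 550292684813, 826043006989, 826043006997, 551500644385, 550896664613, 551500644389, 551500644397, 826110115893, 134217728, 275012124674, 826177224705, 551030882313, 551567753225, 550561120269, 551567753229, 551567753237, 826244333593, 826244333597, 825640353841, 550829555769, 201326592, 275079233538, 551500644353, 826110115845, 825640353809, 825036374049, 550963773473, 550494011437, 550225575989, 550359793721]]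

end Cfsg.Agent.Lib.Helper6.Fi22Q5TC
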