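import Cfsg.Agent.Lib.Helper6.Fi22Q8Simp
import Cfsg.Agent.Lib.Helper6.Fi22Q8oTC
import Cfsg.Agent.Lib.Helper6.Fi22Q8TC
import Cfsg.Agent.Lib.Helper6.Fi22Q7TC
import Cfsg.Agent.Lib.Helper6.Fi22Q6TC
import Cfsg.Agent.Lib.Helper6.Fi22Q5TC
import Cfsg.Agent.Lib.Helper6.Fi22Q4TC

/-! # The sub-presentation Q8 of Fi22 on b, ..., i is simple of order 4585351680 -/

set_option autoImplicit false

namespace Cfsg.Agent.Lib.Helper6.Fi22Q8Simple

open Cfsg.Spor Cfsg.Agent.Lib.Helper6.Simp Cfsg.Agent.Lib.Helper6.Fi22Sub Cfsg.Agent.Lib.Helper6.TC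
  Cfsg.Agent.Lib.Helper6.NatArr 

/-- the upper bound for the order, along the chain of sub-presentations -/
theorem ub : Finite Q8 ∧ Nat.card Q8 ≤ 4585351680 := by
  have h4 := finite_card_of_index_empty Fi22Q4TC.main (by norm_num)
  have h3 := subQ4.finite_card_le Fi22Q5TC.S rangeQ4.symm Fi22Q5TC.main (by norm_num) h4.1
    (le_of_eq h4.2)
  have h2 := subQ5.finite_card_le Fi22Q6TC.S rangeQ5.symm Fi22Q6TC.main (by norm_num) h3.1
    h3.2
  have h1 := subQ6.finite_card_le Fi22Q7TC.S rangeQ6.symm Fi22Q7TC.main (by norm_num) h2.1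
    h2.2
  have h0 := subQ7.finite_card_le Fi22Q8TC.S rangeQ7.symm Fi22Q8TC.main (by norm_num) h1.1
    h1.2
  exact ⟨h0.1, h0.2.trans (by norm_num)⟩

theorem chk_cover : allBelow 364 (fun b => Nat.beq b 0 ||
    (btest Fi22Q8oTC.orbB1 b || btest Fi22Q8oTC.orbB2 b)) = true := by decide +kernel

theorem chk_disj0_1 : Nat.land Fi22Q8oTC.orbB1 Fi22Q8oTC.orbB2 = 0 := by decide +kernel

theorem chk_disj1_0 : Nat.land Fi22Q8oTC.orbB2 Fi22Q8oTC.orbB1 = 0 := by decide +kernel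

theorem chk_o0 : Fi22Q8oTC.orbB1.testBit 0 = false := by decide +kernel

theorem chk_o1 : Fi22Q8oTC.orbB2.testBit 0 = false := by decide +kernel

/-- **The sub-presentation Q8 of Fi22 on b, ..., i is simple of order 4585351680** -/
theorem main : IsSimpleGroup Q8 ∧ Nat.card Q8 = 4585351680 := by
  refine simple_card Fi22Q8oTC.data ub Fi22Q8Simp.levels Fi22Q8Simp.chain_ok Fi22Q8Simp.chain_prod
    (r := 2) ![Fi22Q8oTC.orb1, Fi22Q8oTC.orb2] ![243, 120] ?_ ?_ ?_ ?_ ?_ 13 ?_ Fi22Q8Simp.us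
    Fi22Q8Simp.chk_pow ?_
  · intro i
    fin_cases i
    · exact Fi22Q8oTC.chk_cnt1
    · exact Fi22Q8oTC.chk_cnt2
  · intro b hb
    have h := allBelow_spec _ _ chk_cover b hb
    simp only [Bool.or_eq_true, btest_eq] at h
    rcases h with h | h | h
    · exact Or.inl (Nat.eq_of_beq_eq_true h)
    · exact Or.inr ⟨0, h⟩
    · exact Or.inr ⟨1, h⟩
  · intro i j hij
    fin_cases i <;> fin_cases j
    · exact absurd rfl hij
    · exact chk_disj0_1
    · exact chk_disj1_0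
    · exact absurd rfl hij
  · intro i
    fin_cases i
    · exact chk_o0
    · exact chk_o1
  · show ∀ I : Finset (Fin 2), I.Nonempty → (1 + ∑ i ∈ I, ![243, 120] i) ∣ 364 →
      1 + ∑ i ∈ I, ![243, 120] i = 364
    decide
  · show (4585351680 / 364).Coprime 13
    norm_num
  · show 1 < 364
    norm_num

end Cfsg.Agent.Lib.Helper6.Fi22Q8Simple
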