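import Cfsg.Agent.Lib.Helper6.Fi22Rep78Chk
import Cfsg.Agent.Lib.Helper6.Fi22Simple

/-! # The presented Fischer group Fi22 embeds in the general linear group of degree 78 over the
field with 13 elements

Nine matrices satisfy the relations of the presentation (checked by the kernel on coded rows),
which gives a homomorphism; it is not trivial, and the group is simple, so it is injective. -/

set_option autoImplicit false
set_option linter.constructorNameAsVariable false
set_option linter.unusedSimpArgs false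

namespace Cfsg.Agent.Lib.Helper6.Fi22Rep78

open Cfsg.Agent.Lib.Helper6.PackMat Cfsg.Agent.Lib.Helper6.Fi22Rep78Data
  Cfsg.Agent.Lib.Helper6.Fi22Rep78Chk Cfsg.Spor

/-- words in involutions that commute or satisfy the braid relation are Coxeter relators -/
theorem lift_eq_one_of_cox {α : Type} [DecidableEq α] {edges : List (α × ℕ × α)}
    {extra : List (FreeGroup α)} {K : Type*} [Group K] (f : α → K)
    (hsq : ∀ x, f x * f x = 1)
    (h2 : ∀ x y, coxLabel edges x y = 2 → f x * f y = f y * f x)
    (h3 : ∀ x y, coxLabel edges x y = 3 → f x * f y * f x = f y * f x * f y)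
    (hlab : ∀ x y, x ≠ y → coxLabel edges x y = 2 ∨ coxLabel edges x y = 3)
    (hextra : ∀ r ∈ extra, FreeGroup.lift f r = 1) :
    ∀ r ∈ coxRelators edges ∪ {r | r ∈ extra}, FreeGroup.lift f r = 1 := by
  intro r hr
  rcases hr with ⟨x, _, y, _, rfl⟩ | hr
  · rw [map_pow, map_mul, FreeGroup.lift_apply_of, FreeGroup.lift_apply_of]
    by_cases hxy : x = y
    · subst hxy
      have h1 : coxLabel edges x x = 1 := by
        unfold coxLabel
        rw [if_pos rfl]
      rw [h1, pow_one, hsq]
    · rcases hlab x y hxy with h | h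
      · rw [h, pow_two]
        calc f x * f y * (f x * f y) = f x * f y * (f y * f x) := by rw [h2 x y h]
          _ = f x * (f y * f y) * f x := by simp only [mul_assoc]
          _ = 1 := by rw [hsq, mul_one, hsq]
      · rw [h]
        calc (f x * f y) ^ 3 = f x * f y * f x * (f y * f x * f y) := by
              simp only [pow_succ, pow_zero, one_mul, mul_assoc]
          _ = f x * f y * f x * (f x * f y * f x) := by rw [h3 x y h]
          _ = f x * (f y * (f x * f x) * f y) * f x := by simp only [mul_assoc]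
          _ = 1 := by rw [hsq, mul_one, hsq, mul_one, hsq]
  · exact hextra r hr

instance fact13 : Fact (Nat.Prime 13) := ⟨by norm_num⟩

/-- the matrices -/
abbrev Mat78 : Type := Matrix (Fin 78) (Fin 78) (ZMod 13)

/-- the matrix coded by a list of numbers -/
def toM (X : List ℕ) : Mat78 := natM 65536 13 (Equiv.refl (Fin 78)) X

/-- the codes are reduced -/
abbrev Gd (X : List ℕ) : Prop := Good 65536 13 78 X

theorem toM_mul {X Y : List ℕ} (hX : Gd X) (hY : Gd Y) : toM (mul X Y) = toM X * toM Y :=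
  natM_mulC (Equiv.refl (Fin 78)) (by norm_num) hX hY

theorem toM_one : toM (idC 65536 78) = 1 := natM_idC (Equiv.refl (Fin 78)) (by norm_num)

theorem gd_mul (X Y : List ℕ) : Gd (mul X Y) := good_mulC (by norm_num) (by norm_num) X Y

theorem toM_prod (Ms : List (List ℕ)) (hMs : ∀ M ∈ Ms, Gd M) :
    toM (prodC 65536 13 78 Ms) = (Ms.map toM).prod :=
  natM_prodC (Equiv.refl (Fin 78)) (by norm_num) (by norm_num) (by norm_num) Ms hMs

theorem gd_prod (Ms : List (List ℕ)) : Gd (prodC 65536 13 78 Ms) :=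
  good_prodC (by norm_num) (by norm_num) (by norm_num) Ms

theorem toM_pow9 {W : List ℕ} (hW : Gd W) : toM (pow9C 65536 13 78 W) = toM W ^ 9 :=
  natM_pow9C (Equiv.refl (Fin 78)) (by norm_num) (by norm_num) hW

theorem toM_pow10 {W : List ℕ} (hW : Gd W) : toM (pow10C 65536 13 78 W) = toM W ^ 10 :=
  natM_pow10C (Equiv.refl (Fin 78)) (by norm_num) (by norm_num) hW

theorem gd_tbl : ∀ Y ∈ gTbl, Gd Y := fun Y hY =>
  good_of_goodB 65536 13 (List.all_eq_true.1 chk_good Y hY)

theorem gN_mem (x : ℕ) : gN x ∈ gTbl := by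
  unfold gN
  by_cases h : x < gTbl.length
  · rw [List.getD_eq_getElem _ _ h]
    exact List.getElem_mem h
  · rw [List.getD_eq_default _ _ (Nat.le_of_not_gt h)]
    simp [gTbl]

theorem gd_gN (x : ℕ) : Gd (gN x) := gd_tbl _ (gN_mem x)

theorem toM_sq (x : ℕ) : toM (gN x) * toM (gN x) = 1 := by
  rw [← toM_mul (gd_gN x) (gd_gN x),
    of_decide_eq_true (List.all_eq_true.1 chk_inv _ (gN_mem x)), toM_one]

/-- the image of the generator with a given number -/
def gGL (x : ℕ) : GL (Fin 78) (ZMod 13) := ⟨toM (gN x), toM (gN x), toM_sq x, toM_sq x⟩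

/-- the images of the generators -/
def fgen (a : Fi22.Gen) : GL (Fin 78) (ZMod 13) := gGL (code a)

theorem gen_code (a : Fi22.Gen) : code a < 9 ∧ gen (code a) = a := by
  cases a <;> exact ⟨by decide, rfl⟩

theorem fgen_sq (a : Fi22.Gen) : fgen a * fgen a = 1 := Units.ext (toM_sq _)

theorem fgen_comm (x y : Fi22.Gen) (h : coxLabel Fi22.edges x y = 2) :
    fgen x * fgen y = fgen y * fgen x := by
  apply Units.ext
  show toM (gN (code x)) * toM (gN (code y)) = toM (gN (code y)) * toM (gN (code x))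
  have hx := gen_code x
  have hy := gen_code y
  have h1 := chk_comm (code x) hx.1 (code y) hy.1 (by rw [hx.2, hy.2]; exact h)
  rw [← toM_mul (gd_gN _) (gd_gN _), ← toM_mul (gd_gN _) (gd_gN _), h1]

theorem fgen_braid (x y : Fi22.Gen) (h : coxLabel Fi22.edges x y = 3) :
    fgen x * fgen y * fgen x = fgen y * fgen x * fgen y := by
  apply Units.ext
  show toM (gN (code x)) * toM (gN (code y)) * toM (gN (code x)) =
    toM (gN (code y)) * toM (gN (code x)) * toM (gN (code y))
  have hx := gen_code x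
  have hy := gen_code y
  have h1 := chk_braid (code x) hx.1 (code y) hy.1 (by rw [hx.2, hy.2]; exact h)
  rw [← toM_mul (gd_gN _) (gd_gN _), ← toM_mul (gd_mul _ _) (gd_gN _),
    ← toM_mul (gd_gN _) (gd_gN _), ← toM_mul (gd_mul _ _) (gd_gN _), h1]

theorem label_cases (x y : Fi22.Gen) (h : x ≠ y) :
    coxLabel Fi22.edges x y = 2 ∨ coxLabel Fi22.edges x y = 3 := by
  cases x <;> cases y <;>
    first
    | exact absurd rfl h
    | exact Or.inl (by decide)
    | exact Or.inr (by decide)

theorem gd_of_mem {Ms : List (List ℕ)} (h : ∀ M ∈ Ms, M ∈ gTbl) : ∀ M ∈ Ms, Gd M :=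
  fun M hM => gd_tbl M (h M hM)

theorem spider_eq : (toM gD * toM gC * toM gB * toM gD * toM gE * toM gF * toM gD * toM gH *
    toM gI) ^ 10 = 1 := by
  have hW := toM_prod [gD, gC, gB, gD, gE, gF, gD, gH, gI]
    (gd_of_mem (by simp [gTbl]))
  simp only [List.map_cons, List.map_nil, List.prod_cons, List.prod_nil, mul_one] at hW
  simp only [mul_assoc]
  rw [← hW, ← toM_pow10 (gd_prod _), chk_spider, toM_one]

theorem e7a_eq : (toM gA * toM gB * toM gC * toM gD * toM gE * toM gF * toM gH) ^ 9 = 1 := by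
  have hW := toM_prod [gA, gB, gC, gD, gE, gF, gH] (gd_of_mem (by simp [gTbl]))
  simp only [List.map_cons, List.map_nil, List.prod_cons, List.prod_nil, mul_one] at hW
  simp only [mul_assoc]
  rw [← hW, ← toM_pow9 (gd_prod _), chk_e7a, toM_one]

theorem e7b_eq : (toM gB * toM gC * toM gD * toM gE * toM gF * toM gG * toM gH) ^ 9 = 1 := by
  have hW := toM_prod [gB, gC, gD, gE, gF, gG, gH] (gd_of_mem (by simp [gTbl]))
  simp only [List.map_cons, List.map_nil, List.prod_cons, List.prod_nil, mul_one] at hW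
  simp only [mul_assoc]
  rw [← hW, ← toM_pow9 (gd_prod _), chk_e7b, toM_one]

theorem fgen_extra : ∀ r ∈ Fi22.extra, FreeGroup.lift fgen r = 1 := by
  intro r hr
  simp only [Fi22.extra, List.mem_cons, List.not_mem_nil, or_false] at hr
  rcases hr with rfl | rfl | rfl
  · simp only [Fi22.a, Fi22.b, Fi22.c, Fi22.d, Fi22.e, Fi22.f, Fi22.g, Fi22.h, Fi22.i, map_pow,
      map_mul, FreeGroup.lift_apply_of]
    apply Units.ext
    rw [Units.val_pow_eq_pow_val, Units.val_one]
    simp only [Units.val_mul]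
    exact spider_eq
  · simp only [Fi22.a, Fi22.b, Fi22.c, Fi22.d, Fi22.e, Fi22.f, Fi22.g, Fi22.h, Fi22.i, map_pow,
      map_mul, FreeGroup.lift_apply_of]
    apply Units.ext
    rw [Units.val_pow_eq_pow_val, Units.val_one]
    simp only [Units.val_mul]
    exact e7a_eq
  · simp only [Fi22.a, Fi22.b, Fi22.c, Fi22.d, Fi22.e, Fi22.f, Fi22.g, Fi22.h, Fi22.i, map_pow,
      map_mul, FreeGroup.lift_apply_of]
    apply Units.ext
    rw [Units.val_pow_eq_pow_val, Units.val_one]
    simp only [Units.val_mul]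
    exact e7b_eq

theorem rels_ok : ∀ r ∈ coxRelators Fi22.edges ∪ {r | r ∈ Fi22.extra},
    FreeGroup.lift fgen r = 1 :=
  lift_eq_one_of_cox fgen fgen_sq fgen_comm fgen_braid label_cases fgen_extra

/-- the representation of degree 78 -/
def rep : Fi22 →* GL (Fin 78) (ZMod 13) := PresentedGroup.toGroup rels_ok

theorem rep_of (a : Fi22.Gen) : rep (PresentedGroup.of a) = fgen a :=
  PresentedGroup.toGroup.of rels_ok

theorem fgen_a_ne : fgen Fi22.Gen.a ≠ 1 := by
  intro h
  have h1 : ((fgen Fi22.Gen.a : GL (Fin 78) (ZMod 13)) : Mat78) 0 1 = (1 : Mat78) 0 1 := by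
    rw [h]
    rfl
  have h2 : ((fgen Fi22.Gen.a : GL (Fin 78) (ZMod 13)) : Mat78) 0 1 =
      ((dig 65536 (gA.getD 0 0) 1 : ℕ) : ZMod 13) := rfl
  rw [h2, chk_ne] at h1
  revert h1
  decide

/-- **The presented Fischer group Fi22 embeds in `GL (Fin 78) (ZMod 13)`** -/
theorem main : ∃ f : Fi22 →* GL (Fin 78) (ZMod 13), Function.Injective f := by
  refine ⟨rep, ?_⟩
  have hs : IsSimpleGroup Fi22 := Fi22Simple.main.1
  rw [← MonoidHom.ker_eq_bot_iff]
  rcases hs.eq_bot_or_eq_top_of_normal rep.ker inferInstance with h | h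
  · exact h
  · exfalso
    apply fgen_a_ne
    rw [← rep_of]
    have : PresentedGroup.of Fi22.Gen.a ∈ rep.ker := by
      rw [h]
      exact Subgroup.mem_top _
    exact MonoidHom.mem_ker.1 this

end Cfsg.Agent.Lib.Helper6.Fi22Rep78
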