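import Cfsg.Agent.Lib.Helper6.Fi22Rep78Data
import Cfsg.Prelude.Def_Spor_Fi22

/-! # The nine matrices of size 78 over the field with 13 elements satisfy the relations of Fi22

The checks, by the kernel. -/

set_option autoImplicit false
set_option maxRecDepth 100000

namespace Cfsg.Agent.Lib.Helper6.Fi22Rep78Chk

open Cfsg.Agent.Lib.Helper6.PackMat Cfsg.Agent.Lib.Helper6.Fi22Rep78Data Cfsg.Spor

/-- the generator with a given number -/
def gen : ℕ → Fi22.Gen
  | 0 => .a
  | 1 => .b
  | 2 => .c
  | 3 => .d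
  | 4 => .e
  | 5 => .f
  | 6 => .g
  | 7 => .h
  | _ => .i

/-- the number of a generator -/
def code : Fi22.Gen → ℕ
  | .a => 0
  | .b => 1
  | .c => 2
  | .d => 3
  | .e => 4
  | .f => 5
  | .g => 6
  | .h => 7
  | .i => 8

/-- the matrix of the generator with a given number -/
def gN (x : ℕ) : List ℕ := gTbl.getD x gI

/-- the product of two matrices -/
abbrev mul (X Y : List ℕ) : List ℕ := mulC 65536 13 78 X Y

theorem chk_good : gTbl.all (goodB 65536 13 78) = true := by decide +kernel

theorem chk_inv : gTbl.all (fun Y => decide (mul Y Y = idC 65536 78)) = true := by decide +kernel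

theorem chk_comm : ∀ i, i < 9 → ∀ j, j < 9 → coxLabel Fi22.edges (gen i) (gen j) = 2 →
    mul (gN i) (gN j) = mul (gN j) (gN i) := by decide +kernel

theorem chk_braid : ∀ i, i < 9 → ∀ j, j < 9 → coxLabel Fi22.edges (gen i) (gen j) = 3 →
    mul (mul (gN i) (gN j)) (gN i) = mul (mul (gN j) (gN i)) (gN j) := by decide +kernel

theorem chk_spider : pow10C 65536 13 78 (prodC 65536 13 78 [gD, gC, gB, gD, gE, gF, gD, gH, gI]) =
    idC 65536 78 := by decide +kernel

theorem chk_e7a : pow9C 65536 13 78 (prodC 65536 13 78 [gA, gB, gC, gD, gE, gF, gH]) =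
    idC 65536 78 := by decide +kernel

theorem chk_e7b : pow9C 65536 13 78 (prodC 65536 13 78 [gB, gC, gD, gE, gF, gG, gH]) =
    idC 65536 78 := by decide +kernel

theorem chk_ne : dig 65536 (gA.getD 0 0) 1 = 1 := by decide +kernel

end Cfsg.Agent.Lib.Helper6.Fi22Rep78Chk
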