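import Cfsg.Agent.Lib.Helper6.U62Iso
import Cfsg.Prelude.Def_Sporadic

/-! # The presented Fischer group Fi22 is generated by a class of 3510 3-transpositions, with
centralizers the non-split double covers of `PSU(6, 2)` -/

set_option autoImplicit false

namespace Cfsg.Agent.Lib.Helper6.Fi22T3

open Cfsg.Spor Cfsg.Agent.Lib.Helper6.Simp Cfsg.Agent.Lib.Helper6.U62Sub Cfsg.Agent.Lib.Helper6.TC
  Cfsg.Agent.Lib.Helper6.NatArr Cfsg.Agent.Lib.Helper6.T3Gen Cfsg.Agent.Lib.Helper6.U62Iso

/-- the word `(b c) (a b)` -/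
def w1 : List ℕ := [1, 2, 0, 1]

/-- the word `a b` -/
def w2 : List ℕ := [0, 1]

theorem chk_r1 : Fi22TC.tab.trace 0 w1.reverse = 6 := by decide +kernel

theorem chk_b1 : Fi22TC.orbB2.testBit 6 = true := by decide +kernel

theorem chk_r2 : Fi22TC.tab.trace 0 w2.reverse = 2 := by decide +kernel

theorem chk_b2 : Fi22TC.orbB1.testBit 2 = true := by decide +kernel

theorem chk_z1 : Fi22TC.tab.trace 1 [0] ≠ 1 := by decide +kernel

/-! ## The transposition -/

/-- the generator `a` -/
abbrev z : Fi22 := PresentedGroup.of Fi22.Gen.a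

/-- the generator `b` -/
abbrev b : Fi22 := PresentedGroup.of Fi22.Gen.b

/-- the generator `c` -/
abbrev c : Fi22 := PresentedGroup.of Fi22.Gen.c

theorem z_mul_self : z * z = 1 := of_mul_self Fi22TC.data.hnode _

theorem b_mul_self : b * b = 1 := of_mul_self Fi22TC.data.hnode _

theorem c_mul_self : c * c = 1 := of_mul_self Fi22TC.data.hnode _

theorem zb_pow : (z * b) ^ 3 = 1 :=
  of_braid (extra := Fi22.extra) Fi22TC.data.hnode Fi22.Gen.a Fi22.Gen.b (by decide)

theorem bc_pow : (b * c) ^ 3 = 1 :=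
  of_braid (extra := Fi22.extra) Fi22TC.data.hnode Fi22.Gen.b Fi22.Gen.c (by decide)

/-- the base point -/
abbrev o : Fin Fi22TC.data.T.n := Fi22TC.data.cert.o

theorem z_eq : z = wordG Fi22TC.data [0] := by
  unfold wordG
  simp only [List.map_cons, List.map_nil, List.prod_cons, List.prod_nil, mul_one]
  rfl

theorem z_ne_one : z ≠ 1 := by
  intro h
  have h1 := ρ_wordG_apply (w := [0]) (by decide) ⟨1, by show 1 < 3510; norm_num⟩
  rw [← z_eq, h, map_one] at h1
  exact chk_z1 h1.symm

/-- two involutions whose product is an involution commute -/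
theorem comm_of_sq {G : Type*} [Group G] {x y : G} (hx : x * x = 1) (hy : y * y = 1)
    (hxy : (x * y) ^ 2 = 1) : x * y = y * x := by
  have hxi : x⁻¹ = x := inv_eq_of_mul_eq_one_left hx
  have hyi : y⁻¹ = y := inv_eq_of_mul_eq_one_left hy
  have h1 : (x * y)⁻¹ = x * y := inv_eq_of_mul_eq_one_left (by rw [← pow_two]; exact hxy)
  rw [mul_inv_rev, hxi, hyi] at h1
  exact h1.symm

/-- the generator `a` of `P` is central -/
theorem a_central (q : P) : q * PresentedGroup.of P.Gen.a = PresentedGroup.of P.Gen.a * q := by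
  have hc : Subgroup.centralizer ({PresentedGroup.of P.Gen.a} : Set P) = ⊤ := by
    rw [eq_top_iff, ← PresentedGroup.closure_range_of, Subgroup.closure_le]
    rintro _ ⟨x, rfl⟩
    rw [SetLike.mem_coe, Subgroup.mem_centralizer_iff]
    intro y hy
    rw [Set.mem_singleton_iff.1 hy]
    by_cases hx : x = P.Gen.a
    · rw [hx]
    · have h2 : coxLabel P.edges P.Gen.a x = 2 := by
        cases x
        · exact absurd rfl hx
        all_goals decide
      have hm : (FreeGroup.of P.Gen.a * FreeGroup.of x) ^ coxLabel P.edges P.Gen.a x ∈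
          coxRelators P.edges ∪ {r | r ∈ P.extra} :=
        Or.inl ⟨_, U62PTC.data.hnode _, _, U62PTC.data.hnode _, rfl⟩
      have h1 := PresentedGroup.one_of_mem hm
      rw [h2, map_pow, map_mul] at h1
      exact comm_of_sq (of_mul_self U62PTC.data.hnode _) (of_mul_self U62PTC.data.hnode _) h1
  have hq : q ∈ Subgroup.centralizer ({PresentedGroup.of P.Gen.a} : Set P) := by
    rw [hc]
    exact Subgroup.mem_top q
  rw [Subgroup.mem_centralizer_iff] at hq
  exact (hq _ rfl).symm

theorem z_comm : ∀ h ∈ H, h * z = z * h := by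
  intro h hh
  rw [← range_θ] at hh
  obtain ⟨q, rfl⟩ := hh
  have hz : z = θ (PresentedGroup.of P.Gen.a) := (θ_of P.Gen.a).symm
  rw [hz, ← map_mul, ← map_mul, a_central q]

theorem stab_mem : ∀ g : Fi22, ρ g o = o → g ∈ H := by
  intro g hg
  have h := eq_stab (ρ := ρ) (o := o) (H := H) Fi22TC.data.cert.trans Fi22TC.data.cert.fix
    Fi22TC.data.cert.index_eq Fi22TC.data.cert.hTn
  rw [h]
  exact (mem_stab ρ o).2 hg

theorem wordG_w2 : wordG Fi22TC.data w2 = z * b := by
  unfold wordG w2
  simp only [List.map_cons, List.map_nil, List.prod_cons, List.prod_nil, mul_one]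
  rfl

theorem wordG_w1 : wordG Fi22TC.data w1 = (b * c) * (z * b) := by
  unfold wordG w1
  simp only [List.map_cons, List.map_nil, List.prod_cons, List.prod_nil, mul_one, mul_assoc]
  rfl

theorem c_mem : c ∈ H := by
  refine ⟨Fi22.c, Subgroup.subset_closure ?_, rfl⟩
  show Fi22.c ∈ Fi22TC.S
  simp [Fi22TC.S]

/-! ## The suborbits -/

/-- the two nontrivial orbits of the subgroup on the rows -/
abbrev orbs : Fin 2 → Fi22TC.data.Orb := ![Fi22TC.orb1, Fi22TC.orb2]

/-- the two nontrivial orbits of the subgroup on the rows, as sets -/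
def Δ (i : Fin 2) : Set (Fin Fi22TC.data.T.n) := {b | (orbs i).B.testBit b.val = true}

theorem hΔ : ∀ i, ∃ a, Δ i = imgOrbit ρ H a := fun i =>
  ⟨⟨(orbs i).a, (orbs i).ha⟩, ((orbs i).cert.img_eq).symm⟩

theorem hcover : ∀ b, b = o ∨ ∃ i, b ∈ Δ i := by
  intro b
  have h := allBelow_spec _ _ Fi22Simple.chk_cover b.val b.isLt
  simp only [Bool.or_eq_true, btest_eq] at h
  rcases h with h | h | h
  · exact Or.inl (Fin.ext (Nat.eq_of_beq_eq_true h))
  · exact Or.inr ⟨0, h⟩
  · exact Or.inr ⟨1, h⟩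

theorem hdisj : ∀ i j, i ≠ j → ∀ b, b ∈ Δ i → b ∉ Δ j := by
  have hd : ∀ i j : Fin 2, i ≠ j → Nat.land (orbs i).B (orbs j).B = 0 := by
    intro i j hij
    fin_cases i <;> fin_cases j
    · exact absurd rfl hij
    · exact Fi22Simple.chk_disj0_1
    · exact Fi22Simple.chk_disj1_0
    · exact absurd rfl hij
  intro i j hij b hbi hbj
  have h1 : (Nat.land (orbs i).B (orbs j).B).testBit b.val = true := by
    show ((orbs i).B &&& (orbs j).B).testBit b.val = true
    rw [Nat.testBit_and, Bool.and_eq_true]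
    exact ⟨hbi, hbj⟩
  rw [hd i j hij] at h1
  simp at h1

theorem ho : ∀ i, o ∉ Δ i := by
  intro i hi
  have h1 : (orbs i).B.testBit 0 = true := hi
  have h2 : (orbs i).B.testBit 0 = false := by
    fin_cases i
    · exact Fi22Simple.chk_o0
    · exact Fi22Simple.chk_o1
  rw [h2] at h1
  exact Bool.false_ne_true h1

theorem hs : ∀ i, (Δ i).ncard = ![2816, 693] i := by
  intro i
  have h : cnt (orbs i).B Fi22TC.data.T.n = ![2816, 693] i := by
    fin_cases i
    · exact Fi22TC.chk_cnt1
    · exact Fi22TC.chk_cnt2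
  rw [← h]
  exact ncard_testBit _ _

theorem harith : ∀ I : Finset (Fin 2), I.Nonempty → (1 + ∑ i ∈ I, ![2816, 693] i) ∣ 3510 →
    1 + ∑ i ∈ I, ![2816, 693] i = 3510 := by decide

/-! ## The centralizer -/

theorem H_le : H ≤ Subgroup.centralizer ({z} : Set Fi22) := by
  intro h hh
  rw [Subgroup.mem_centralizer_iff]
  intro w hw
  rw [Set.mem_singleton_iff] at hw
  rw [hw]
  exact (z_comm h hh).symm

theorem centralizer_eq : Subgroup.centralizer ({z} : Set Fi22) = H := by
  have hfin : Finite Fi22 := Fi22Simple.ub.1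
  have hsimp : IsSimpleGroup Fi22 := Fi22Simple.main.1
  rcases eq_or_eq_top_of_cert ρ o H Fi22TC.data.cert.fix stab_mem Fi22TC.data.cert.index_eq
    Δ hΔ hcover hdisj ho ![2816, 693] hs harith _ H_le with h | h
  · exact h
  · exfalso
    have hc : Subgroup.center Fi22 = ⊥ := by
      apply center_eq_bot_of_simple
      rw [Fi22Simple.main.2]
      norm_num
    apply z_ne_one
    have hz : z ∈ Subgroup.center Fi22 := by
      rw [Subgroup.mem_center_iff]
      intro x
      have hx : x ∈ Subgroup.centralizer ({z} : Set Fi22) := by rw [h]; exact Subgroup.mem_top x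
      rw [Subgroup.mem_centralizer_iff] at hx
      exact (hx z rfl).symm
    rw [hc] at hz
    exact Subgroup.mem_bot.1 hz

/-! ## The 3-transpositions -/

/-- representatives of the double cosets -/
def reps : Fin 2 → Fi22 := ![z * b, (b * c) * (z * b)]

theorem row_w2 : (ρ (z * b) o).val = 2 := by
  rw [← wordG_w2, ρ_wordG_apply (w := w2) (by decide) o]
  exact chk_r2

theorem row_w1 : (ρ ((b * c) * (z * b)) o).val = 6 := by
  rw [← wordG_w1, ρ_wordG_apply (w := w1) (by decide) o]
  exact chk_r1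

theorem reps_mem0 : ρ (z * b) o ∈ Δ 0 := by
  have h : Fi22TC.orbB1.testBit (ρ (z * b) o).val = true := by
    rw [row_w2]
    exact chk_b2
  exact h

theorem reps_mem1 : ρ ((b * c) * (z * b)) o ∈ Δ 1 := by
  have h : Fi22TC.orbB2.testBit (ρ ((b * c) * (z * b)) o).val = true := by
    rw [row_w1]
    exact chk_b1
  exact h

theorem reps_zero : reps 0 = z * b := by simp only [reps, Matrix.cons_val_zero]

theorem reps_one : reps 1 = (b * c) * (z * b) := by
  simp only [reps, Matrix.cons_val_one, Matrix.cons_val_zero]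

theorem reps_mem : ∀ i, ρ (reps i) o ∈ Δ i := by
  rw [Fin.forall_fin_two, reps_zero, reps_one]
  exact ⟨reps_mem0, reps_mem1⟩

theorem conj_zb : (z * b) * z * (z * b)⁻¹ = b :=
  (conj_of_braid z_mul_self b_mul_self zb_pow).symm

theorem conj_bc : (b * c) * b * (b * c)⁻¹ = c :=
  (conj_of_braid b_mul_self c_mul_self bc_pow).symm

theorem reps_three0 : (z * ((z * b) * z * (z * b)⁻¹)) ^ 3 = 1 := by
  rw [conj_zb]
  exact zb_pow

theorem reps_three1 :
    (z * (((b * c) * (z * b)) * z * ((b * c) * (z * b))⁻¹)) ^ 2 = 1 := by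
  have h1 : ((b * c) * (z * b)) * z * ((b * c) * (z * b))⁻¹ =
      (b * c) * ((z * b) * z * (z * b)⁻¹) * (b * c)⁻¹ := by group
  rw [h1, conj_zb, conj_bc, pow_two]
  have hc := z_comm c c_mem
  calc z * c * (z * c) = z * (c * z) * c := by group
    _ = z * (z * c) * c := by rw [hc]
    _ = (z * z) * (c * c) := by group
    _ = 1 := by rw [z_mul_self, c_mul_self, mul_one]

theorem reps_three : ∀ i, (z * (reps i * z * (reps i)⁻¹)) ^ 2 = 1 ∨
    (z * (reps i * z * (reps i)⁻¹)) ^ 3 = 1 := by
  rw [Fin.forall_fin_two, reps_zero, reps_one]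
  exact ⟨Or.inr reps_three0, Or.inl reps_three1⟩

theorem three : ∀ w : Fi22, (z * (w * z * w⁻¹)) ^ 2 = 1 ∨ (z * (w * z * w⁻¹)) ^ 3 = 1 :=
  three_of_cert ρ o H stab_mem z z_mul_self z_comm Δ hΔ hcover reps reps_mem reps_three

/-- **the Fischer group Fi22 as a group of 3-transpositions** -/
theorem main : ∃ (G : Type) (_ : Group G) (_ : Finite G), Cfsg.IsFi22 G ∧ ∃ D : Set G,
    Cfsg.IsThreeTranspositionClass D ∧ Nat.card D = 3510 ∧ ∀ d ∈ D,
      ∃ (F : Type) (_ : Field F) (_ : Fintype F), Fintype.card F = 4 ∧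
        Cfsg.IsNonsplitDoubleCover (Subgroup.centralizer ({d} : Set G)) (Cfsg.PSU 6 F 2) := by
  have hfin : Finite Fi22 := Fi22Simple.ub.1
  have hsimp : IsSimpleGroup Fi22 := Fi22Simple.main.1
  refine ⟨Fi22, inferInstance, hfin, Fi22Simple.main, conjugatesOf z,
    ⟨isThreeTranspositionSet_conjugatesOf z z_ne_one z_mul_self three,
      ⟨z, mem_conjugatesOf_self, rfl⟩, closure_conjugatesOf_eq_top z_ne_one⟩, ?_, ?_⟩
  · rw [card_conjugatesOf, centralizer_eq]
    exact Fi22TC.data.cert.index_eq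
  · intro d hd
    obtain ⟨x, rfl⟩ := isConj_iff.1 (show IsConj z d from hd)
    refine ⟨U62Mat.K, inferInstance, inferInstance, Cfsg.Agent.Lib.Helper6.M21.F4c.card, ?_⟩
    have e : Subgroup.centralizer ({x * z * x⁻¹} : Set Fi22) ≃* H :=
      (centralizerConj x z).trans (MulEquiv.subgroupCongr centralizer_eq)
    have hHfin : Finite H := inferInstance
    exact isNonsplitDoubleCover_of_equiv e.symm U62Iso.main

end Cfsg.Agent.Lib.Helper6.Fi22T3
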