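import Cfsg.Agent.Lib.Helper6.Fi23UB
import Cfsg.Agent.Lib.Helper6.Fi22Simple
import Cfsg.Agent.Lib.Helper6.SimpDC

/-! # In the presented Fischer group Fi23, the subgroup generated by `a, …, i` is a non-split
double cover of the presented Fischer group Fi22 (given the order of Fi23) -/

set_option autoImplicit false

namespace Cfsg.Agent.Lib.Helper6.Fi23DC

open Cfsg.Spor Cfsg.Agent.Lib.Helper6.Simp Cfsg.Agent.Lib.Helper6.Fi23Sub

/-- the generators of the sub-presentation as generators of Fi22 -/
def κ : Q9.Gen → Fi22.Gen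
  | .a => .a
  | .b => .b
  | .c => .c
  | .d => .d
  | .e => .e
  | .f => .f
  | .g => .g
  | .h => .h
  | .i => .i

/-- the group of the sub-presentation maps to Fi22 -/
def toFi22 : SubPres Fi22.edges Fi22.extra Q9.edges Q9.extra where
  ι := κ
  hnode := by decide
  hlabel := by decide
  hextra := by
    intro r hr
    simp only [Q9.extra, List.mem_cons, List.not_mem_nil, or_false] at hr
    rcases hr with rfl | rfl <;>
      simp only [map_mul, map_pow, FreeGroup.map.of, κ, Fi22.extra, List.mem_cons,
        true_or, or_true]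

theorem toFi22_surj : Function.Surjective toFi22.hom := by
  rw [← MonoidHom.range_eq_top, eq_top_iff, ← PresentedGroup.closure_range_of, Subgroup.closure_le]
  rintro _ ⟨x, rfl⟩
  cases x
  · exact ⟨PresentedGroup.of .a, toFi22.hom_of _⟩
  · exact ⟨PresentedGroup.of .b, toFi22.hom_of _⟩
  · exact ⟨PresentedGroup.of .c, toFi22.hom_of _⟩
  · exact ⟨PresentedGroup.of .d, toFi22.hom_of _⟩
  · exact ⟨PresentedGroup.of .e, toFi22.hom_of _⟩
  · exact ⟨PresentedGroup.of .f, toFi22.hom_of _⟩
  · exact ⟨PresentedGroup.of .g, toFi22.hom_of _⟩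
  · exact ⟨PresentedGroup.of .h, toFi22.hom_of _⟩
  · exact ⟨PresentedGroup.of .i, toFi22.hom_of _⟩

/-- the centre of Fi22 is trivial -/
theorem center_Fi22 : Subgroup.center Fi22 = ⊥ := by
  have hs := Fi22Simple.main.1
  have hc := Fi22Simple.main.2
  rcases hs.eq_bot_or_eq_top_of_normal (Subgroup.center Fi22) inferInstance with h | h
  · exact h
  · exfalso
    have hp := @IsSimpleGroup.prime_card Fi22 (Group.commGroupOfCenterEqTop h) hs
    rw [hc] at hp
    norm_num at hp

/-- a word of odd length that is trivial in the group of the sub-presentation -/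
def oddWord : List Q9.Gen :=
  (List.replicate 9 [Q9.Gen.a, .b, .c, .d, .e, .f, .h]).flatten

theorem oddWord_one : (oddWord.map fun x => (PresentedGroup.of x : Q9)).prod = 1 := by
  have hm : (Q9.a * Q9.b * Q9.c * Q9.d * Q9.e * Q9.f * Q9.h) ^ 9 ∈
      coxRelators Q9.edges ∪ {r | r ∈ Q9.extra} := Or.inr (by simp [Q9.extra])
  have h1 := PresentedGroup.one_of_mem hm
  rw [map_pow] at h1
  simp only [map_mul] at h1
  rw [← h1]
  simp only [oddWord, List.replicate, List.flatten, pow_succ, pow_zero, one_mul, mul_assoc]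
  rfl

theorem reachQ9 : ∀ x : Q9.Gen, ReachA Q9.edges Q9.Gen.d x := by
  have rd : ReachA Q9.edges Q9.Gen.d .d := ReachA.root
  have rc : ReachA Q9.edges Q9.Gen.d .c := ReachA.step rd (by decide)
  have rb : ReachA Q9.edges Q9.Gen.d .b := ReachA.step rc (by decide)
  have ra : ReachA Q9.edges Q9.Gen.d .a := ReachA.step rb (by decide)
  have re : ReachA Q9.edges Q9.Gen.d .e := ReachA.step rd (by decide)
  have rf : ReachA Q9.edges Q9.Gen.d .f := ReachA.step re (by decide)
  have rg : ReachA Q9.edges Q9.Gen.d .g := ReachA.step rf (by decide)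
  have rh : ReachA Q9.edges Q9.Gen.d .h := ReachA.step rd (by decide)
  have ri : ReachA Q9.edges Q9.Gen.d .i := ReachA.step rh (by decide)
  intro x
  cases x <;> assumption

/-- the group of the sub-presentation has no subgroup of index two -/
theorem index_ne_two (L : Subgroup Q9) : L.index ≠ 2 :=
  index_ne_two_of_odd (by intro z; cases z <;> decide) Q9.Gen.d reachQ9 oddWord (by decide) oddWord_one L

/-- the subgroup of Fi23 generated by `a, …, i` -/
abbrev H : Subgroup Fi23 := (Subgroup.closure Fi23TC.S).map
  (PresentedGroup.mk (coxRelators Fi23.edges ∪ {r | r ∈ Fi23.extra}))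

theorem range_eq : subQ9.hom.range = H := by
  rw [subQ9.range_hom, rangeQ9]

/-- **the double cover**, given the order of Fi23 -/
theorem dc (h23 : Nat.card Fi23 = 4089470473293004800) :
    Cfsg.IsNonsplitDoubleCover H Fi22 := by
  have hF23 : Finite Fi23 := Fi23UB.ub.1
  have hQfin : Finite Q9 := Fi23UB.ubQ9.1
  have hidx : H.index = 31671 := Fi23TC.main.1
  have hcardH : Nat.card H = 129123503308800 := by
    have h1 := Subgroup.card_mul_index H
    rw [hidx, h23] at h1
    have h2 : 129123503308800 * 31671 = 4089470473293004800 := by norm_num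
    exact Nat.eq_of_mul_eq_mul_right (by norm_num : 0 < 31671) (h1.trans h2.symm)
  -- the map from the group of the sub-presentation onto the subgroup
  let f : Q9 →* H := subQ9.hom.codRestrict H (fun x => by rw [← range_eq]; exact ⟨x, rfl⟩)
  have hfsurj : Function.Surjective f := by
    rintro ⟨y, hy⟩
    rw [← range_eq] at hy
    obtain ⟨x, rfl⟩ := hy
    exact ⟨x, rfl⟩
  have hfbij : Function.Bijective f := by
    apply hfsurj.bijective_of_nat_card_le
    rw [hcardH]
    exact Fi23UB.ubQ9.2
  let e : Q9 ≃* H := MulEquiv.ofBijective f hfbij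
  have hHfin : Finite H := Finite.of_surjective f hfsurj
  refine isNonsplitDoubleCover_of_card (toFi22.hom.comp e.symm.toMonoidHom) ?_ ?_ center_Fi22 ?_
  · exact toFi22_surj.comp e.symm.surjective
  · rw [hcardH, Fi22Simple.main.2]
  · intro L hL
    apply index_ne_two (L.comap e.toMonoidHom)
    rw [Subgroup.index_comap_of_surjective L (f := e.toMonoidHom) e.surjective]
    exact hL

end Cfsg.Agent.Lib.Helper6.Fi23DC
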