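import Cfsg.Agent.Lib.Helper6.Fi23Q4TCChk1
import Cfsg.Agent.Lib.Helper6.Fi23Q4TCChk2

/-! # The sub-presentation on b, c, d, e: the subgroup generated by ∅ has index 120 -/

set_option autoImplicit false
set_option linter.constructorNameAsVariable false
set_option linter.unusedSimpArgs false

namespace Cfsg.Agent.Lib.Helper6.Fi23Q4TC

open Cfsg.Agent.Lib.Helper6.TC Cfsg.Spor Cfsg.Agent.Lib.Helper6.Fi23Sub

theorem extra_iff {K : Type} [Group K] (f : Q4.Gen → K) (_hf : ∀ a, f a * f a = 1) :
    (∀ r ∈ Q4.extra, FreeGroup.lift f r = 1) ↔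
      ∀ w ∈ extraWords, (w.map (fun x => f (gen x))).prod = 1 := by
  simp only [Q4.extra, extraWords, List.forall_mem_cons, List.not_mem_nil, false_imp_iff,
    implies_true, and_true, IsEmpty.forall_iff]

/-- the generating set of the subgroup -/
abbrev S : Set (FreeGroup Q4.Gen) :=
  ∅

theorem hS (s : FreeGroup Q4.Gen) : s ∈ S ↔ ∃ w ∈ subW, s = fgWord gen w := by
  simp [S, subW]

/-- the data of the enumeration -/
def data : CoxData Q4.edges Q4.extra S where
  gen := gen
  code := code
  c := cfg
  extraWords := extraWords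
  nw := nw
  srcs := srcs
  T := tab
  subW := subW
  hnode := by intro a; cases a <;> decide
  hcode := by intro a; cases a <;> exact ⟨by decide, rfl⟩
  hgen := by
    intro x hx
    have hx' : x < 4 := hx
    interval_cases x <;> rfl
  hTg := rfl
  hTn := show 0 < 120 by norm_num
  hw := show 1 < 2 ^ 7 by norm_num
  chk_words := chk_words
  hrun := RunCert.of_run (show 1 < 2 ^ 7 by norm_num) (show 0 < 120 by norm_num) chk_run
  chk_tab := chk_tab
  chk_rels := chk_rels
  chk_tree := chk_tree
  hextra := fun f hf => extra_iff f hf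
  hS := hS
  chk_sub := chk_sub

theorem tab_n : tab.n = 120 := rfl


theorem main : ((Subgroup.closure S).map (PresentedGroup.mk
      (coxRelators Q4.edges ∪ {r | r ∈ Q4.extra}))).index = 120 :=
  data.index_eq

end Cfsg.Agent.Lib.Helper6.Fi23Q4TC
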