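import Cfsg.Agent.Lib.Helper6.Fi23Q5TCChk1
import Cfsg.Agent.Lib.Helper6.Fi23Q5TCChk2

/-! # The sub-presentation on b, c, d, e, h: the subgroup generated by {Q5.b, Q5.c, Q5.d, Q5.e} has index 16 -/

set_option autoImplicit false
set_option linter.constructorNameAsVariable false
set_option linter.unusedSimpArgs false

namespace Cfsg.Agent.Lib.Helper6.Fi23Q5TC

open Cfsg.Agent.Lib.Helper6.TC Cfsg.Spor Cfsg.Agent.Lib.Helper6.Fi23Sub

theorem extra_iff {K : Type} [Group K] (f : Q5.Gen → K) (_hf : ∀ a, f a * f a = 1) :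
    (∀ r ∈ Q5.extra, FreeGroup.lift f r = 1) ↔
      ∀ w ∈ extraWords, (w.map (fun x => f (gen x))).prod = 1 := by
  simp only [Q5.extra, extraWords, List.forall_mem_cons, List.not_mem_nil, false_imp_iff,
    implies_true, and_true, IsEmpty.forall_iff]

/-- the generating set of the subgroup -/
abbrev S : Set (FreeGroup Q5.Gen) :=
  {Q5.b, Q5.c, Q5.d, Q5.e}

theorem hS (s : FreeGroup Q5.Gen) : s ∈ S ↔ ∃ w ∈ subW, s = fgWord gen w := by
  simp only [S, subW, fgWord, Set.mem_insert_iff, Set.mem_singleton_iff, List.mem_cons,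
    List.not_mem_nil, or_false, exists_eq_or_imp, exists_eq_left, List.map_cons, List.map_nil,
    List.prod_cons, List.prod_nil, mul_one, gen, pow_succ, pow_zero, one_mul, mul_assoc]

/-- the data of the enumeration -/
def data : CoxData Q5.edges Q5.extra S where
  gen := gen
  code := code
  c := cfg
  extraWords := extraWords
  nw := nw
  srcs := srcs
  T := tab
  subW := subW
  hnode := by intro a; cases a <;> decide
  hcode := by intro a; cases a <;> exact ⟨by decide, rfl⟩
  hgen := by
    intro x hx
    have hx' : x < 5 := hx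
    interval_cases x <;> rfl
  hTg := rfl
  hTn := show 0 < 16 by norm_num
  hw := show 1 < 2 ^ 5 by norm_num
  chk_words := chk_words
  hrun := RunCert.of_run (show 1 < 2 ^ 5 by norm_num) (show 0 < 16 by norm_num) chk_run
  chk_tab := chk_tab
  chk_rels := chk_rels
  chk_tree := chk_tree
  hextra := fun f hf => extra_iff f hf
  hS := hS
  chk_sub := chk_sub

theorem tab_n : tab.n = 16 := rfl


theorem main : ((Subgroup.closure S).map (PresentedGroup.mk
      (coxRelators Q5.edges ∪ {r | r ∈ Q5.extra}))).index = 16 :=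
  data.index_eq

end Cfsg.Agent.Lib.Helper6.Fi23Q5TC
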