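import Cfsg.Agent.Lib.Helper6.TCPerm

/-! # Coset enumeration data for Fi23Q5: configuration, table, words (generated) -/

set_option autoImplicit false
set_option maxRecDepth 1000000
set_option maxHeartbeats 4000000

namespace Cfsg.Agent.Lib.Helper6.Fi23Q5TC

open Cfsg.Agent.Lib.Helper6.TC

/-- the configuration of the enumeration -/
def cfg : Cfg := ⟨5, 5, 1000000, 4, 32, 0x440200343404004343040000330224242406424242062323230632323206000022020014140400414104001313040031310412121206212121060000110200040404004040040003030400303004000202040020200401010106101010060000000200000301000002010000010100000001⟩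

/-- the number of words -/
def nw : ℕ := 29

/-- the words of the further relators -/
def extraWords : List (List ℕ) := []

/-- where the words come from -/
def srcs : List ℕ := [0, 512, 514, 1024, 1026, 1536, 1538, 2048, 2050, 3072, 3584, 3586, 4096, 4098, 4608, 4610, 6144, 6656, 6658, 7168, 7170, 9216, 9728, 9730, 12288]

/-- the coset table -/
def tab : Tab := ⟨5, 5, 16, .leaf 0x107c2107c1cf7b1cf6b94d6b96e6314c4ad6b6b548625693a548329073912541906310a329ca43906619444184431084108420⟩

/-- the words of the generators of the subgroup -/
def subW : List (List ℕ) := [[0], [1], [2], [3]]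


end Cfsg.Agent.Lib.Helper6.Fi23Q5TC
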