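import Cfsg.Agent.Lib.Helper6.Fi23Q6TCData
import Cfsg.Agent.Lib.Helper6.Fi23Q6TCTrace

/-! # Fi23Q6: the kernel check of the coset enumeration -/

set_option autoImplicit false

namespace Cfsg.Agent.Lib.Helper6.Fi23Q6TC

open Cfsg.Agent.Lib.Helper6.TC

theorem chk_run : runOK cfg trace tab.n = true := by decide +kernel

end Cfsg.Agent.Lib.Helper6.Fi23Q6TC
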