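import Cfsg.Agent.Lib.Helper6.TCPerm

/-! # Coset enumeration data for Fi23Q6: configuration, table, words (generated) -/

set_option autoImplicit false
set_option maxRecDepth 1000000
set_option maxHeartbeats 4000000

namespace Cfsg.Agent.Lib.Helper6.Fi23Q6TC

open Cfsg.Agent.Lib.Helper6.TC

/-- the configuration of the enumeration -/
def cfg : Cfg := ⟨6, 6, 1000000, 5, 32, 0x550200454504005454040000440200353504005353043434340643434306000033022525250652525206002424040042420423232306323232060000220200151504005151040014140400414104001313040031310412121206212121060000110200050504005050040004040400404004000303040030300400020204002020040101010610101006000000020000050100000301000002010000010100000001⟩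

/-- the number of words -/
def nw : ℕ := 41

/-- the words of the further relators -/
def extraWords : List (List ℕ) := []

/-- where the words come from -/
def srcs : List ℕ := [0, 512, 514, 1024, 1026, 1536, 1538, 2048, 2050, 2560, 2562, 3584, 4096, 4098, 4608, 4610, 5120, 5122, 5632, 5634, 7168, 7680, 7682, 8192, 8194, 8704, 8706, 10752, 11264, 11266, 11776, 11778, 14336, 14848, 14850, 17920]

/-- the coset table -/
def tab : Tab := ⟨6, 5, 27, .leaf 0x6f7bdef5ad6b59de739c6b36c5f38c52b8bdef8b52d6b4af5ad6b795a74a4e13a4675a4a12945d18cdf09b64e83d8f7be2e8add0635b06adac7a98c72d6e4b54a5310a59d295a505421464a4e739ca4318c8320a5290e62106520c6220c6208c421044108420⟩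

/-- the words of the generators of the subgroup -/
def subW : List (List ℕ) := [[0], [1], [2], [3], [5]]


end Cfsg.Agent.Lib.Helper6.Fi23Q6TC
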