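import Cfsg.Agent.Lib.Helper6.Fi23SCert

/-! # Fi23: the kernel check of the rows from 14400 on -/

set_option autoImplicit false

namespace Cfsg.Agent.Lib.Helper6.Fi23TC

open Cfsg.Agent.Lib.Helper6.TC Cfsg.Agent.Lib.Helper6.TCS

theorem chk_rows3_0 : cert.rowsOK 14400 400 = true := by decide +kernel

theorem chk_rows3_1 : cert.rowsOK 14800 400 = true := by decide +kernel

theorem chk_rows3_2 : cert.rowsOK 15200 400 = true := by decide +kernel

theorem chk_rows3_3 : cert.rowsOK 15600 400 = true := by decide +kernel

theorem chk_rows3_4 : cert.rowsOK 16000 400 = true := by decide +kernel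

theorem chk_rows3_5 : cert.rowsOK 16400 400 = true := by decide +kernel

theorem chk_rows3_6 : cert.rowsOK 16800 400 = true := by decide +kernel

theorem chk_rows3_7 : cert.rowsOK 17200 400 = true := by decide +kernel

theorem chk_rows3_8 : cert.rowsOK 17600 400 = true := by decide +kernel

theorem chk_rows3_9 : cert.rowsOK 18000 400 = true := by decide +kernel

theorem chk_rows3_10 : cert.rowsOK 18400 400 = true := by decide +kernel

theorem chk_rows3_11 : cert.rowsOK 18800 400 = true := by decide +kernel

theorem chk_range3 : ∀ a, 14400 ≤ a → a < 14400 + 4800 → ∀ x < cert.c.g, cert.slotOK a x = true := by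
  refine cert.range_of_chunks 14400 400 12 (by norm_num) ?_
  intro k hk
  interval_cases k
  · exact chk_rows3_0
  · exact chk_rows3_1
  · exact chk_rows3_2
  · exact chk_rows3_3
  · exact chk_rows3_4
  · exact chk_rows3_5
  · exact chk_rows3_6
  · exact chk_rows3_7
  · exact chk_rows3_8
  · exact chk_rows3_9
  · exact chk_rows3_10
  · exact chk_rows3_11

end Cfsg.Agent.Lib.Helper6.Fi23TC
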