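import Cfsg.Agent.Lib.Helper6.Fi23SCert
import Cfsg.Agent.Lib.Helper6.Fi23SRows3

/-! # Fi23: the kernel check of the rows from 33600 on -/

set_option autoImplicit false

namespace Cfsg.Agent.Lib.Helper6.Fi23TC

open Cfsg.Agent.Lib.Helper6.TC Cfsg.Agent.Lib.Helper6.TCS

theorem chk_rows7_0 : cert.rowsOK 33600 400 = true := by decide +kernel

theorem chk_rows7_1 : cert.rowsOK 34000 400 = true := by decide +kernel

theorem chk_rows7_2 : cert.rowsOK 34400 400 = true := by decide +kernel

theorem chk_rows7_3 : cert.rowsOK 34800 400 = true := by decide +kernel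

theorem chk_rows7_4 : cert.rowsOK 35200 400 = true := by decide +kernel

theorem chk_rows7_5 : cert.rowsOK 35600 400 = true := by decide +kernel

theorem chk_rows7_6 : cert.rowsOK 36000 400 = true := by decide +kernel

theorem chk_rows7_7 : cert.rowsOK 36400 400 = true := by decide +kernel

theorem chk_rows7_8 : cert.rowsOK 36800 400 = true := by decide +kernel

theorem chk_rows7_9 : cert.rowsOK 37200 400 = true := by decide +kernel

theorem chk_rows7_10 : cert.rowsOK 37600 400 = true := by decide +kernel

theorem chk_rows7_11 : cert.rowsOK 38000 400 = true := by decide +kernel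

theorem chk_range7 : ∀ a, 33600 ≤ a → a < 33600 + 4800 → ∀ x < cert.c.g, cert.slotOK a x = true := by
  refine cert.range_of_chunks 33600 400 12 (by norm_num) ?_
  intro k hk
  interval_cases k
  · exact chk_rows7_0
  · exact chk_rows7_1
  · exact chk_rows7_2
  · exact chk_rows7_3
  · exact chk_rows7_4
  · exact chk_rows7_5
  · exact chk_rows7_6
  · exact chk_rows7_7
  · exact chk_rows7_8
  · exact chk_rows7_9
  · exact chk_rows7_10
  · exact chk_rows7_11

end Cfsg.Agent.Lib.Helper6.Fi23TC
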