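import Cfsg.Agent.Lib.Helper6.Fi23SCert
import Cfsg.Agent.Lib.Helper6.Fi23SRows0

/-! # Fi23: the kernel check of the rows from 19200 on -/

set_option autoImplicit false

namespace Cfsg.Agent.Lib.Helper6.Fi23TC

open Cfsg.Agent.Lib.Helper6.TC Cfsg.Agent.Lib.Helper6.TCS

theorem chk_rows4_0 : cert.rowsOK 19200 400 = true := by decide +kernel

theorem chk_rows4_1 : cert.rowsOK 19600 400 = true := by decide +kernel

theorem chk_rows4_2 : cert.rowsOK 20000 400 = true := by decide +kernel

theorem chk_rows4_3 : cert.rowsOK 20400 400 = true := by decide +kernel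

theorem chk_rows4_4 : cert.rowsOK 20800 400 = true := by decide +kernel

theorem chk_rows4_5 : cert.rowsOK 21200 400 = true := by decide +kernel

theorem chk_rows4_6 : cert.rowsOK 21600 400 = true := by decide +kernel

theorem chk_rows4_7 : cert.rowsOK 22000 400 = true := by decide +kernel

theorem chk_rows4_8 : cert.rowsOK 22400 400 = true := by decide +kernel

theorem chk_rows4_9 : cert.rowsOK 22800 400 = true := by decide +kernel

theorem chk_rows4_10 : cert.rowsOK 23200 400 = true := by decide +kernel

theorem chk_rows4_11 : cert.rowsOK 23600 400 = true := by decide +kernel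

theorem chk_range4 : ∀ a, 19200 ≤ a → a < 19200 + 4800 → ∀ x < cert.c.g, cert.slotOK a x = true := by
  refine cert.range_of_chunks 19200 400 12 (by norm_num) ?_
  intro k hk
  interval_cases k
  · exact chk_rows4_0
  · exact chk_rows4_1
  · exact chk_rows4_2
  · exact chk_rows4_3
  · exact chk_rows4_4
  · exact chk_rows4_5
  · exact chk_rows4_6
  · exact chk_rows4_7
  · exact chk_rows4_8
  · exact chk_rows4_9
  · exact chk_rows4_10
  · exact chk_rows4_11

end Cfsg.Agent.Lib.Helper6.Fi23TC
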