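import Cfsg.Agent.Lib.Helper6.Fi23SCert
import Cfsg.Agent.Lib.Helper6.Fi23SRows4

/-! # Fi23: the kernel check of the rows from 38400 on -/

set_option autoImplicit false

namespace Cfsg.Agent.Lib.Helper6.Fi23TC

open Cfsg.Agent.Lib.Helper6.TC Cfsg.Agent.Lib.Helper6.TCS

theorem chk_rows8_0 : cert.rowsOK 38400 400 = true := by decide +kernel

theorem chk_rows8_1 : cert.rowsOK 38800 400 = true := by decide +kernel

theorem chk_rows8_2 : cert.rowsOK 39200 400 = true := by decide +kernel

theorem chk_rows8_3 : cert.rowsOK 39600 400 = true := by decide +kernel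

theorem chk_rows8_4 : cert.rowsOK 40000 400 = true := by decide +kernel

theorem chk_rows8_5 : cert.rowsOK 40400 400 = true := by decide +kernel

theorem chk_rows8_6 : cert.rowsOK 40800 400 = true := by decide +kernel

theorem chk_rows8_7 : cert.rowsOK 41200 400 = true := by decide +kernel

theorem chk_rows8_8 : cert.rowsOK 41600 400 = true := by decide +kernel

theorem chk_rows8_9 : cert.rowsOK 42000 400 = true := by decide +kernel

theorem chk_rows8_10 : cert.rowsOK 42400 400 = true := by decide +kernel

theorem chk_rows8_11 : cert.rowsOK 42800 400 = true := by decide +kernel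

theorem chk_range8 : ∀ a, 38400 ≤ a → a < 38400 + 4800 → ∀ x < cert.c.g, cert.slotOK a x = true := by
  refine cert.range_of_chunks 38400 400 12 (by norm_num) ?_
  intro k hk
  interval_cases k
  · exact chk_rows8_0
  · exact chk_rows8_1
  · exact chk_rows8_2
  · exact chk_rows8_3
  · exact chk_rows8_4
  · exact chk_rows8_5
  · exact chk_rows8_6
  · exact chk_rows8_7
  · exact chk_rows8_8
  · exact chk_rows8_9
  · exact chk_rows8_10
  · exact chk_rows8_11

end Cfsg.Agent.Lib.Helper6.Fi23TC
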