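import Cfsg.Agent.Lib.Helper6.Fi23SCert

/-! # Fi23: the kernel check of the rows from 4800 on -/

set_option autoImplicit false

namespace Cfsg.Agent.Lib.Helper6.Fi23TC

open Cfsg.Agent.Lib.Helper6.TC Cfsg.Agent.Lib.Helper6.TCS

theorem chk_rows1_0 : cert.rowsOK 4800 400 = true := by decide +kernel

theorem chk_rows1_1 : cert.rowsOK 5200 400 = true := by decide +kernel

theorem chk_rows1_2 : cert.rowsOK 5600 400 = true := by decide +kernel

theorem chk_rows1_3 : cert.rowsOK 6000 400 = true := by decide +kernel

theorem chk_rows1_4 : cert.rowsOK 6400 400 = true := by decide +kernel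

theorem chk_rows1_5 : cert.rowsOK 6800 400 = true := by decide +kernel

theorem chk_rows1_6 : cert.rowsOK 7200 400 = true := by decide +kernel

theorem chk_rows1_7 : cert.rowsOK 7600 400 = true := by decide +kernel

theorem chk_rows1_8 : cert.rowsOK 8000 400 = true := by decide +kernel

theorem chk_rows1_9 : cert.rowsOK 8400 400 = true := by decide +kernel

theorem chk_rows1_10 : cert.rowsOK 8800 400 = true := by decide +kernel

theorem chk_rows1_11 : cert.rowsOK 9200 400 = true := by decide +kernel

theorem chk_range1 : ∀ a, 4800 ≤ a → a < 4800 + 4800 → ∀ x < cert.c.g, cert.slotOK a x = true := by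
  refine cert.range_of_chunks 4800 400 12 (by norm_num) ?_
  intro k hk
  interval_cases k
  · exact chk_rows1_0
  · exact chk_rows1_1
  · exact chk_rows1_2
  · exact chk_rows1_3
  · exact chk_rows1_4
  · exact chk_rows1_5
  · exact chk_rows1_6
  · exact chk_rows1_7
  · exact chk_rows1_8
  · exact chk_rows1_9
  · exact chk_rows1_10
  · exact chk_rows1_11

end Cfsg.Agent.Lib.Helper6.Fi23TC
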