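import Cfsg.Agent.Lib.Helper6.Fi23SCert
import Cfsg.Agent.Lib.Helper6.Fi23SRows1

/-! # Fi23: the kernel check of the rows from 24000 on -/

set_option autoImplicit false

namespace Cfsg.Agent.Lib.Helper6.Fi23TC

open Cfsg.Agent.Lib.Helper6.TC Cfsg.Agent.Lib.Helper6.TCS

theorem chk_rows5_0 : cert.rowsOK 24000 400 = true := by decide +kernel

theorem chk_rows5_1 : cert.rowsOK 24400 400 = true := by decide +kernel

theorem chk_rows5_2 : cert.rowsOK 24800 400 = true := by decide +kernel

theorem chk_rows5_3 : cert.rowsOK 25200 400 = true := by decide +kernel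

theorem chk_rows5_4 : cert.rowsOK 25600 400 = true := by decide +kernel

theorem chk_rows5_5 : cert.rowsOK 26000 400 = true := by decide +kernel

theorem chk_rows5_6 : cert.rowsOK 26400 400 = true := by decide +kernel

theorem chk_rows5_7 : cert.rowsOK 26800 400 = true := by decide +kernel

theorem chk_rows5_8 : cert.rowsOK 27200 400 = true := by decide +kernel

theorem chk_rows5_9 : cert.rowsOK 27600 400 = true := by decide +kernel

theorem chk_rows5_10 : cert.rowsOK 28000 400 = true := by decide +kernel

theorem chk_rows5_11 : cert.rowsOK 28400 400 = true := by decide +kernel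

theorem chk_range5 : ∀ a, 24000 ≤ a → a < 24000 + 4800 → ∀ x < cert.c.g, cert.slotOK a x = true := by
  refine cert.range_of_chunks 24000 400 12 (by norm_num) ?_
  intro k hk
  interval_cases k
  · exact chk_rows5_0
  · exact chk_rows5_1
  · exact chk_rows5_2
  · exact chk_rows5_3
  · exact chk_rows5_4
  · exact chk_rows5_5
  · exact chk_rows5_6
  · exact chk_rows5_7
  · exact chk_rows5_8
  · exact chk_rows5_9
  · exact chk_rows5_10
  · exact chk_rows5_11

end Cfsg.Agent.Lib.Helper6.Fi23TC
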