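import Cfsg.Agent.Lib.Helper6.Fi23SCert
import Cfsg.Agent.Lib.Helper6.Fi23SRows5

/-! # Fi23: the kernel check of the rows from 43200 on -/

set_option autoImplicit false

namespace Cfsg.Agent.Lib.Helper6.Fi23TC

open Cfsg.Agent.Lib.Helper6.TC Cfsg.Agent.Lib.Helper6.TCS

theorem chk_rows9_0 : cert.rowsOK 43200 400 = true := by decide +kernel

theorem chk_rows9_1 : cert.rowsOK 43600 400 = true := by decide +kernel

theorem chk_rows9_2 : cert.rowsOK 44000 400 = true := by decide +kernel

theorem chk_rows9_3 : cert.rowsOK 44400 400 = true := by decide +kernel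

theorem chk_rows9_4 : cert.rowsOK 44800 400 = true := by decide +kernel

theorem chk_rows9_5 : cert.rowsOK 45200 400 = true := by decide +kernel

theorem chk_rows9_6 : cert.rowsOK 45600 400 = true := by decide +kernel

theorem chk_rows9_7 : cert.rowsOK 46000 400 = true := by decide +kernel

theorem chk_rows9_8 : cert.rowsOK 46400 400 = true := by decide +kernel

theorem chk_rows9_9 : cert.rowsOK 46800 400 = true := by decide +kernel

theorem chk_rows9_10 : cert.rowsOK 47200 400 = true := by decide +kernel

theorem chk_rows9_11 : cert.rowsOK 47600 400 = true := by decide +kernel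

theorem chk_range9 : ∀ a, 43200 ≤ a → a < 43200 + 4800 → ∀ x < cert.c.g, cert.slotOK a x = true := by
  refine cert.range_of_chunks 43200 400 12 (by norm_num) ?_
  intro k hk
  interval_cases k
  · exact chk_rows9_0
  · exact chk_rows9_1
  · exact chk_rows9_2
  · exact chk_rows9_3
  · exact chk_rows9_4
  · exact chk_rows9_5
  · exact chk_rows9_6
  · exact chk_rows9_7
  · exact chk_rows9_8
  · exact chk_rows9_9
  · exact chk_rows9_10
  · exact chk_rows9_11

end Cfsg.Agent.Lib.Helper6.Fi23TC
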