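import Cfsg.Agent.Lib.Helper6.Fi23SCert
import Cfsg.Agent.Lib.Helper6.Fi23SRows2

/-! # Fi23: the kernel check of the rows from 28800 on -/

set_option autoImplicit false

namespace Cfsg.Agent.Lib.Helper6.Fi23TC

open Cfsg.Agent.Lib.Helper6.TC Cfsg.Agent.Lib.Helper6.TCS

theorem chk_rows6_0 : cert.rowsOK 28800 400 = true := by decide +kernel

theorem chk_rows6_1 : cert.rowsOK 29200 400 = true := by decide +kernel

theorem chk_rows6_2 : cert.rowsOK 29600 400 = true := by decide +kernel

theorem chk_rows6_3 : cert.rowsOK 30000 400 = true := by decide +kernel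

theorem chk_rows6_4 : cert.rowsOK 30400 400 = true := by decide +kernel

theorem chk_rows6_5 : cert.rowsOK 30800 400 = true := by decide +kernel

theorem chk_rows6_6 : cert.rowsOK 31200 400 = true := by decide +kernel

theorem chk_rows6_7 : cert.rowsOK 31600 400 = true := by decide +kernel

theorem chk_rows6_8 : cert.rowsOK 32000 400 = true := by decide +kernel

theorem chk_rows6_9 : cert.rowsOK 32400 400 = true := by decide +kernel

theorem chk_rows6_10 : cert.rowsOK 32800 400 = true := by decide +kernel

theorem chk_rows6_11 : cert.rowsOK 33200 400 = true := by decide +kernel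

theorem chk_range6 : ∀ a, 28800 ≤ a → a < 28800 + 4800 → ∀ x < cert.c.g, cert.slotOK a x = true := by
  refine cert.range_of_chunks 28800 400 12 (by norm_num) ?_
  intro k hk
  interval_cases k
  · exact chk_rows6_0
  · exact chk_rows6_1
  · exact chk_rows6_2
  · exact chk_rows6_3
  · exact chk_rows6_4
  · exact chk_rows6_5
  · exact chk_rows6_6
  · exact chk_rows6_7
  · exact chk_rows6_8
  · exact chk_rows6_9
  · exact chk_rows6_10
  · exact chk_rows6_11

end Cfsg.Agent.Lib.Helper6.Fi23TC
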