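import Cfsg.Agent.Lib.Helper6.Fi23SCert
import Cfsg.Agent.Lib.Helper6.Fi23SRows6

/-! # Fi23: the kernel check of the rows from 48000 on -/

set_option autoImplicit false

namespace Cfsg.Agent.Lib.Helper6.Fi23TC

open Cfsg.Agent.Lib.Helper6.TC Cfsg.Agent.Lib.Helper6.TCS

theorem chk_rows10_0 : cert.rowsOK 48000 400 = true := by decide +kernel

theorem chk_rows10_1 : cert.rowsOK 48400 400 = true := by decide +kernel

theorem chk_rows10_2 : cert.rowsOK 48800 400 = true := by decide +kernel

theorem chk_rows10_3 : cert.rowsOK 49200 400 = true := by decide +kernel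

theorem chk_rows10_4 : cert.rowsOK 49600 400 = true := by decide +kernel

theorem chk_rows10_5 : cert.rowsOK 50000 400 = true := by decide +kernel

theorem chk_rows10_6 : cert.rowsOK 50400 400 = true := by decide +kernel

theorem chk_rows10_7 : cert.rowsOK 50800 400 = true := by decide +kernel

theorem chk_rows10_8 : cert.rowsOK 51200 400 = true := by decide +kernel

theorem chk_rows10_9 : cert.rowsOK 51600 400 = true := by decide +kernel

theorem chk_rows10_10 : cert.rowsOK 52000 400 = true := by decide +kernel

theorem chk_rows10_11 : cert.rowsOK 52400 400 = true := by decide +kernel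

theorem chk_range10 : ∀ a, 48000 ≤ a → a < 48000 + 4800 → ∀ x < cert.c.g, cert.slotOK a x = true := by
  refine cert.range_of_chunks 48000 400 12 (by norm_num) ?_
  intro k hk
  interval_cases k
  · exact chk_rows10_0
  · exact chk_rows10_1
  · exact chk_rows10_2
  · exact chk_rows10_3
  · exact chk_rows10_4
  · exact chk_rows10_5
  · exact chk_rows10_6
  · exact chk_rows10_7
  · exact chk_rows10_8
  · exact chk_rows10_9
  · exact chk_rows10_10
  · exact chk_rows10_11

end Cfsg.Agent.Lib.Helper6.Fi23TC
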