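import Cfsg.Agent.Lib.Helper6.Fi23TCData
import Cfsg.Agent.Lib.Helper6.TCChunk
import Cfsg.Agent.Lib.Helper6.Fi23TCRel8

/-! # Fi23: the kernel check of the coset table, part 0 -/

set_option autoImplicit false

namespace Cfsg.Agent.Lib.Helper6.Fi23TC

open Cfsg.Agent.Lib.Helper6.TC Cfsg.Agent.Lib.Helper6.TCS

theorem chk_tab0 : tab.tabOKc 0 3000 = true := by decide +kernel

theorem chk_tab1 : tab.tabOKc 3000 3000 = true := by decide +kernel

theorem chk_tab2 : tab.tabOKc 6000 3000 = true := by decide +kernel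

theorem chk_tab3 : tab.tabOKc 9000 3000 = true := by decide +kernel

theorem chk_tab4 : tab.tabOKc 12000 3000 = true := by decide +kernel

theorem chk_tab5 : tab.tabOKc 15000 3000 = true := by decide +kernel

end Cfsg.Agent.Lib.Helper6.Fi23TC
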