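import Cfsg.Agent.Lib.Helper6.Fi23TCData
import Cfsg.Agent.Lib.Helper6.TCChunk
import Cfsg.Agent.Lib.Helper6.Fi23TCTab0

/-! # Fi23: the kernel check that orbit 1 is closed, part 0 -/

set_option autoImplicit false

namespace Cfsg.Agent.Lib.Helper6.Fi23TC

open Cfsg.Agent.Lib.Helper6.TC Cfsg.Agent.Lib.Helper6.TCS

theorem chk_closed1_0 : tab.closedOKc subW orbB1 0 8000 = true := by decide +kernel

theorem chk_closed1_1 : tab.closedOKc subW orbB1 8000 8000 = true := by decide +kernel

theorem chk_closed1_2 : tab.closedOKc subW orbB1 16000 8000 = true := by decide +kernel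

theorem chk_closed1_3 : tab.closedOKc subW orbB1 24000 8000 = true := by decide +kernel

end Cfsg.Agent.Lib.Helper6.Fi23TC
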