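import Cfsg.Agent.Lib.Helper6.Fi23TCData
import Cfsg.Agent.Lib.Helper6.TCChunk
import Cfsg.Agent.Lib.Helper6.Fi23TCOrb2c0
import Cfsg.Agent.Lib.Helper6.Fi23TCTree1

/-! # Fi23: the checks of orbit 2 of the subgroup on the rows -/

set_option autoImplicit false

namespace Cfsg.Agent.Lib.Helper6.Fi23TC

open Cfsg.Agent.Lib.Helper6.TC

theorem chk_orb2 : tab.orbRun subW orbInstr2 [orbRoot2] (bset 0 orbRoot2) = some orbB2 :=
  Tab.orbRun_of_orbOK2 tab (by decide +kernel)

theorem chk_closed2 : tab.closedOK subW orbB2 = true := by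
  refine tab.closedOK_of_chunks subW orbB2 8000 4 (by norm_num) (by show 31671 ≤ 4 * 8000; norm_num) ?_
  intro k hk
  interval_cases k
  · exact chk_closed2_0
  · exact chk_closed2_1
  · exact chk_closed2_2
  · exact chk_closed2_3

theorem chk_cnt2 : cnt orbB2 tab.n = 3510 := by decide +kernel

end Cfsg.Agent.Lib.Helper6.Fi23TC
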