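import Cfsg.Agent.Lib.Helper6.Fi23Sub
import Cfsg.Agent.Lib.Helper6.Fi23TC
import Cfsg.Agent.Lib.Helper6.Fi23Q9TC
import Cfsg.Agent.Lib.Helper6.Fi23Q8TC
import Cfsg.Agent.Lib.Helper6.Fi23Q7TC
import Cfsg.Agent.Lib.Helper6.Fi23Q6TC
import Cfsg.Agent.Lib.Helper6.Fi23Q5TC
import Cfsg.Agent.Lib.Helper6.Fi23Q4TC

/-! # Upper bounds for the orders of the presented Fischer group Fi23 and of its sub-presentation
on `a, …, i`, along a chain of sub-presentations -/

set_option autoImplicit false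

namespace Cfsg.Agent.Lib.Helper6.Fi23UB

open Cfsg.Spor Cfsg.Agent.Lib.Helper6.Simp Cfsg.Agent.Lib.Helper6.Fi23Sub

/-- the upper bound for the order of the group of the sub-presentation on `a, …, i` -/
theorem ubQ9 : Finite Q9 ∧ Nat.card Q9 ≤ 129123503308800 := by
  have h6 := finite_card_of_index_empty Fi23Q4TC.main (by norm_num)
  have h5 := subQ4.finite_card_le Fi23Q5TC.S rangeQ4.symm Fi23Q5TC.main (by norm_num) h6.1
    (le_of_eq h6.2)
  have h4 := subQ5.finite_card_le Fi23Q6TC.S rangeQ5.symm Fi23Q6TC.main (by norm_num) h5.1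
    h5.2
  have h3 := subQ6.finite_card_le Fi23Q7TC.S rangeQ6.symm Fi23Q7TC.main (by norm_num) h4.1
    h4.2
  have h2 := subQ7.finite_card_le Fi23Q8TC.S rangeQ7.symm Fi23Q8TC.main (by norm_num) h3.1
    h3.2
  have h1 := subQ8.finite_card_le Fi23Q9TC.S rangeQ8.symm Fi23Q9TC.main (by norm_num) h2.1
    h2.2
  exact ⟨h1.1, h1.2.trans (by norm_num)⟩

/-- the upper bound for the order, along the chain of sub-presentations -/
theorem ub : Finite Fi23 ∧ Nat.card Fi23 ≤ 4089470473293004800 := by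
  have h1 := ubQ9
  have h0 := subQ9.finite_card_le Fi23TC.S rangeQ9.symm Fi23TC.main.1 (by norm_num) h1.1
    h1.2
  exact ⟨h0.1, h0.2.trans (by norm_num)⟩

end Cfsg.Agent.Lib.Helper6.Fi23UB
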