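import Cfsg.Agent.Lib.Helper6.Fi23Simp
import Cfsg.Agent.Lib.Helper6.Fi23UB

/-! # The presented Fischer group Fi23 is simple of order 4089470473293004800 -/

set_option autoImplicit false

namespace Cfsg.Agent.Lib.Helper6.Fi23Simple

open Cfsg.Spor Cfsg.Agent.Lib.Helper6.Simp Cfsg.Agent.Lib.Helper6.Fi23Sub Cfsg.Agent.Lib.Helper6.TC
  Cfsg.Agent.Lib.Helper6.NatArr

theorem chk_cover : allBelow 31671 (fun b => Nat.beq b 0 ||
    (btest Fi23TC.orbB1 b || btest Fi23TC.orbB2 b)) = true := by decide +kernel

theorem chk_disj0_1 : Nat.land Fi23TC.orbB1 Fi23TC.orbB2 = 0 := by decide +kernel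

theorem chk_disj1_0 : Nat.land Fi23TC.orbB2 Fi23TC.orbB1 = 0 := by decide +kernel

theorem chk_o0 : Fi23TC.orbB1.testBit 0 = false := by decide +kernel

theorem chk_o1 : Fi23TC.orbB2.testBit 0 = false := by decide +kernel

/-- all generators are reached from the generator `b` along the edges of the graph -/
theorem reach : ∀ y, y < 10 → Reach Fi23TC.data 1 y := by
  have r1 : Reach Fi23TC.data 1 1 := Reach.root
  have r2 : Reach Fi23TC.data 1 2 := Reach.step r1 (by decide)
  have r0 : Reach Fi23TC.data 1 0 := Reach.step r1 (by decide)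
  have r3 : Reach Fi23TC.data 1 3 := Reach.step r2 (by decide)
  have r4 : Reach Fi23TC.data 1 4 := Reach.step r3 (by decide)
  have r8 : Reach Fi23TC.data 1 8 := Reach.step r3 (by decide)
  have r5 : Reach Fi23TC.data 1 5 := Reach.step r4 (by decide)
  have r9 : Reach Fi23TC.data 1 9 := Reach.step r8 (by decide)
  have r6 : Reach Fi23TC.data 1 6 := Reach.step r5 (by decide)
  have r7 : Reach Fi23TC.data 1 7 := Reach.step r6 (by decide)
  intro y hy
  interval_cases y
  · exact r0
  · exact r1
  · exact r2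
  · exact r3
  · exact r4
  · exact r5
  · exact r6
  · exact r7
  · exact r8
  · exact r9

/-- **The presented Fischer group Fi23 is simple of order 4089470473293004800** -/
theorem main : IsSimpleGroup Fi23 ∧ Nat.card Fi23 = 4089470473293004800 := by
  refine simple_card_conj_pow Fi23TC.data Fi23UB.ub Fi23Simp.levels Fi23Simp.chain_ok
    Fi23Simp.chain_prod (r := 2) ![Fi23TC.orb1, Fi23TC.orb2] ![28160, 3510] ?_ ?_ ?_ ?_ ?_ 17 ?_
    1 Fi23Simp.u Fi23Simp.chk_pow reach ?_
  · intro i
    fin_cases i
    · exact Fi23TC.chk_cnt1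
    · exact Fi23TC.chk_cnt2
  · intro b hb
    have h := allBelow_spec _ _ chk_cover b hb
    simp only [Bool.or_eq_true, btest_eq] at h
    rcases h with h | h | h
    · exact Or.inl (Nat.eq_of_beq_eq_true h)
    · exact Or.inr ⟨0, h⟩
    · exact Or.inr ⟨1, h⟩
  · intro i j hij
    fin_cases i <;> fin_cases j
    · exact absurd rfl hij
    · exact chk_disj0_1
    · exact chk_disj1_0
    · exact absurd rfl hij
  · intro i
    fin_cases i
    · exact chk_o0
    · exact chk_o1
  · show ∀ I : Finset (Fin 2), I.Nonempty → (1 + ∑ i ∈ I, ![28160, 3510] i) ∣ 31671 →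
      1 + ∑ i ∈ I, ![28160, 3510] i = 31671
    decide
  · show (4089470473293004800 / 31671).Coprime 17
    norm_num
  · show 1 < 31671
    norm_num

end Cfsg.Agent.Lib.Helper6.Fi23Simple
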