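import Cfsg.Agent.Lib.Helper6.Fi23T3P
import Cfsg.Agent.Lib.Helper6.Fi23DC
import Cfsg.Agent.Lib.Helper6.Fi23Simple
import Cfsg.Agent.Lib.Helper6.T3Gen
import Cfsg.Prelude.Def_Sporadic

/-! # The presented Fischer group Fi23 is generated by a class of 31671 3-transpositions, with
centralizers the non-split double covers of Fi22 -/

set_option autoImplicit false

namespace Cfsg.Agent.Lib.Helper6.Fi23T3

open Cfsg.Spor Cfsg.Agent.Lib.Helper6.Simp Cfsg.Agent.Lib.Helper6.Fi23Sub Cfsg.Agent.Lib.Helper6.TC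
  Cfsg.Agent.Lib.Helper6.NatArr Cfsg.Agent.Lib.Helper6.T3Gen

/-- the word `j g (b c d e f g h)^9 j` -/
def w1 : List ℕ := [7, 6] ++ zj

theorem chk_r1 : Fi23TC.tab.trace 0 w1.reverse = 8005 := by decide +kernel

theorem chk_b1 : Fi23TC.orbB2.testBit 8005 = true := by decide +kernel

theorem chk_r2 : Fi23TC.tab.trace 0 zj.reverse = 8006 := by decide +kernel

theorem chk_b2 : Fi23TC.orbB1.testBit 8006 = true := by decide +kernel

theorem chk_z1 : Fi23TC.tab.trace 1 zw.reverse = 8006 := by decide +kernel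

theorem zw_lt : ∀ x ∈ zw, x < 10 := by decide

theorem zj_lt : ∀ x ∈ zj, x < 10 := by decide

theorem w1_lt : ∀ x ∈ w1, x < 10 := by decide

/-! ## The central involution of the group of the sub-presentation -/

/-- the central involution of the group of the sub-presentation -/
def z9 : Q9 := ((PresentedGroup.of Q9.Gen.b : Q9) * PresentedGroup.of Q9.Gen.c *
  PresentedGroup.of Q9.Gen.d * PresentedGroup.of Q9.Gen.e * PresentedGroup.of Q9.Gen.f *
  PresentedGroup.of Q9.Gen.g * PresentedGroup.of Q9.Gen.h) ^ 9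

theorem toFi22_z9 : Fi23DC.toFi22.hom z9 = 1 := by
  unfold z9
  rw [map_pow]
  simp only [map_mul, SubPres.hom_of]
  have hm : (Fi22.b * Fi22.c * Fi22.d * Fi22.e * Fi22.f * Fi22.g * Fi22.h) ^ 9 ∈
      coxRelators Fi22.edges ∪ {r | r ∈ Fi22.extra} := Or.inr (by simp [Fi22.extra])
  have h1 := PresentedGroup.one_of_mem hm
  rw [map_pow] at h1
  simp only [map_mul] at h1
  exact h1

theorem card_H : Nat.card Fi23DC.H = 129123503308800 := by
  have hF23 : Finite Fi23 := Fi23UB.ub.1
  have hidx : Fi23DC.H.index = 31671 := Fi23TC.main.1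
  have h1 := Subgroup.card_mul_index Fi23DC.H
  rw [hidx, Fi23Simple.main.2] at h1
  have h2 : 129123503308800 * 31671 = 4089470473293004800 := by norm_num
  exact Nat.eq_of_mul_eq_mul_right (by norm_num : 0 < 31671) (h1.trans h2.symm)

theorem card_Q9 : Nat.card Q9 = 129123503308800 := by
  have hQfin : Finite Q9 := Fi23UB.ubQ9.1
  apply le_antisymm Fi23UB.ubQ9.2
  let f : Q9 →* Fi23DC.H := subQ9.hom.codRestrict Fi23DC.H
    (fun x => by rw [← Fi23DC.range_eq]; exact ⟨x, rfl⟩)
  have hfsurj : Function.Surjective f := by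
    rintro ⟨y, hy⟩
    rw [← Fi23DC.range_eq] at hy
    obtain ⟨x, rfl⟩ := hy
    exact ⟨x, rfl⟩
  rw [← card_H]
  exact Nat.card_le_card_of_surjective f hfsurj

theorem card_ker : Nat.card Fi23DC.toFi22.hom.ker = 2 := by
  have hQfin : Finite Q9 := Fi23UB.ubQ9.1
  have h1 := Subgroup.card_mul_index Fi23DC.toFi22.hom.ker
  rw [Subgroup.index_ker, MonoidHom.range_eq_top.2 Fi23DC.toFi22_surj, Subgroup.card_top,
    Fi22Simple.main.2, card_Q9] at h1
  have h2 : 2 * 64561751654400 = 129123503308800 := by norm_num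
  exact Nat.eq_of_mul_eq_mul_right (by norm_num : 0 < 64561751654400) (h1.trans h2.symm)

theorem z9_mem_center : z9 ∈ Subgroup.center Q9 :=
  normal_card_two_le_center _ card_ker (MonoidHom.mem_ker.2 toFi22_z9)

theorem z9_mul_self : z9 * z9 = 1 := by
  have hQfin : Finite Q9 := Fi23UB.ubQ9.1
  have h := pow_card_eq_one' (G := Fi23DC.toFi22.hom.ker) (x := ⟨z9, MonoidHom.mem_ker.2 toFi22_z9⟩)
  rw [card_ker] at h
  have h' := congrArg Subtype.val h
  rw [pow_two] at h'
  exact h'

/-! ## The transposition -/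

/-- the transposition: the central involution of the subgroup generated by `a, …, i` -/
def z : Fi23 := subQ9.hom z9

theorem z_eq : z = wordG Fi23TC.data zw := by
  unfold z z9 wordG zw
  rw [map_pow]
  simp only [map_mul, SubPres.hom_of]
  simp only [List.map_cons, List.map_nil, List.prod_cons, List.prod_nil, mul_one, pow_succ,
    pow_zero, one_mul, mul_assoc]
  rfl

theorem z_mul_self : z * z = 1 := by
  unfold z
  rw [← map_mul, z9_mul_self, map_one]

/-- the subgroup generated by `a, …, i` -/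
abbrev H : Subgroup Fi23 := Fi23TC.data.cert.H

theorem H_eq : H = Fi23DC.H := rfl

theorem z_comm : ∀ h ∈ H, h * z = z * h := by
  intro h hh
  rw [H_eq, ← Fi23DC.range_eq] at hh
  obtain ⟨q, rfl⟩ := hh
  unfold z
  rw [← map_mul, ← map_mul, Subgroup.mem_center_iff.1 z9_mem_center q]

/-- the action on the rows -/
noncomputable abbrev ρ : Fi23 →* Equiv.Perm (Fin Fi23TC.data.T.n) := Fi23TC.data.cert.ρ

/-- the base point -/
abbrev o : Fin Fi23TC.data.T.n := Fi23TC.data.cert.o

theorem ρ_wordG_apply {w : List ℕ} (hw : ∀ x ∈ w, x < 10) (a : Fin Fi23TC.data.T.n) :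
    (ρ (wordG Fi23TC.data w) a).val = Fi23TC.tab.trace a.val w.reverse := by
  have hw' : ∀ x ∈ w, x < Fi23TC.data.c.g := hw
  have hl : ∀ x ∈ w.reverse, x < Fi23TC.data.T.g := by
    intro x hx
    exact hw x (List.mem_reverse.1 hx)
  have h := Fi23TC.data.T.trace_eq Fi23TC.data.chk_tab w.reverse a hl
  rw [List.reverse_reverse] at h
  have h2 : Fi23TC.data.cert.ρ (wordG Fi23TC.data w) =
      (w.map (Fi23TC.data.T.perm Fi23TC.data.chk_tab)).prod := ρ_wordG Fi23TC.data hw'
  show (Fi23TC.data.cert.ρ (wordG Fi23TC.data w) a).val = _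
  rw [h2]
  exact h.symm

theorem z_ne_one : z ≠ 1 := by
  intro h
  have h1 := ρ_wordG_apply zw_lt ⟨1, by show 1 < 31671; norm_num⟩
  rw [← z_eq, h, map_one] at h1
  have h2 : (1 : ℕ) = 8006 := h1.trans chk_z1
  norm_num at h2

theorem ρ_inj : Function.Injective ρ := by
  have hs : IsSimpleGroup Fi23 := Fi23Simple.main.1
  apply injective_of_simple ρ (x := z)
  intro h
  have h1 := ρ_wordG_apply zw_lt ⟨1, by show 1 < 31671; norm_num⟩
  rw [← z_eq, h] at h1
  have h2 : (1 : ℕ) = 8006 := h1.trans chk_z1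
  norm_num at h2

theorem stab_mem : ∀ g : Fi23, ρ g o = o → g ∈ H := by
  intro g hg
  have h := eq_stab (ρ := ρ) (o := o) (H := H) Fi23TC.data.cert.trans Fi23TC.data.cert.fix
    Fi23TC.data.cert.index_eq Fi23TC.data.cert.hTn
  rw [h]
  exact (mem_stab ρ o).2 hg

/-- the generator `j` -/
abbrev j : Fi23 := PresentedGroup.of Fi23.Gen.j

/-- the generator `g` -/
abbrev g : Fi23 := PresentedGroup.of Fi23.Gen.g

theorem wordG_zj : wordG Fi23TC.data zj = z * j := by
  rw [z_eq]
  unfold wordG zj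
  rw [List.map_append, List.prod_append]
  simp only [List.map_cons, List.map_nil, List.prod_cons, List.prod_nil, mul_one]
  rfl

theorem wordG_w1 : wordG Fi23TC.data w1 = (j * g) * (z * j) := by
  rw [← wordG_zj]
  unfold wordG w1
  rw [List.map_append, List.prod_append]
  simp only [List.map_cons, List.map_nil, List.prod_cons, List.prod_nil, mul_one]
  rfl

theorem zj_pow : (z * j) ^ 3 = 1 := by
  have h := Tab.pow_eq_one_of_powOK Fi23TC.data.chk_tab chk_zj
  rw [← wordG_zj]
  apply ρ_inj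
  rw [map_one, map_pow]
  show (Fi23TC.data.cert.ρ (wordG Fi23TC.data zj)) ^ 3 = 1
  rw [ρ_wordG Fi23TC.data (fun x hx => zj_lt x hx)]
  exact h.2

theorem j_mul_self : j * j = 1 := of_mul_self Fi23TC.data.hnode _

theorem g_mul_self : g * g = 1 := of_mul_self Fi23TC.data.hnode _

theorem jg_pow : (j * g) ^ 3 = 1 :=
  of_braid (extra := Fi23.extra) Fi23TC.data.hnode Fi23.Gen.j Fi23.Gen.g (by decide)

theorem g_mem : g ∈ H := by
  refine ⟨Fi23.g, Subgroup.subset_closure ?_, rfl⟩
  show Fi23.g ∈ Fi23TC.S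
  simp [Fi23TC.S]

/-! ## The suborbits -/

/-- the two nontrivial orbits of the subgroup on the rows -/
abbrev orbs : Fin 2 → Fi23TC.data.Orb := ![Fi23TC.orb1, Fi23TC.orb2]

/-- the two nontrivial orbits of the subgroup on the rows, as sets -/
def Δ (i : Fin 2) : Set (Fin Fi23TC.data.T.n) := {b | (orbs i).B.testBit b.val = true}

theorem hΔ : ∀ i, ∃ a, Δ i = imgOrbit ρ H a := fun i =>
  ⟨⟨(orbs i).a, (orbs i).ha⟩, ((orbs i).cert.img_eq).symm⟩

theorem hcover : ∀ b, b = o ∨ ∃ i, b ∈ Δ i := by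
  intro b
  have h := allBelow_spec _ _ Fi23Simple.chk_cover b.val b.isLt
  simp only [Bool.or_eq_true, btest_eq] at h
  rcases h with h | h | h
  · exact Or.inl (Fin.ext (Nat.eq_of_beq_eq_true h))
  · exact Or.inr ⟨0, h⟩
  · exact Or.inr ⟨1, h⟩

theorem hdisj : ∀ i j, i ≠ j → ∀ b, b ∈ Δ i → b ∉ Δ j := by
  have hd : ∀ i j : Fin 2, i ≠ j → Nat.land (orbs i).B (orbs j).B = 0 := by
    intro i j hij
    fin_cases i <;> fin_cases j
    · exact absurd rfl hij
    · exact Fi23Simple.chk_disj0_1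
    · exact Fi23Simple.chk_disj1_0
    · exact absurd rfl hij
  intro i j hij b hbi hbj
  have h1 : (Nat.land (orbs i).B (orbs j).B).testBit b.val = true := by
    show ((orbs i).B &&& (orbs j).B).testBit b.val = true
    rw [Nat.testBit_and, Bool.and_eq_true]
    exact ⟨hbi, hbj⟩
  rw [hd i j hij] at h1
  simp at h1

theorem ho : ∀ i, o ∉ Δ i := by
  intro i hi
  have h1 : (orbs i).B.testBit 0 = true := hi
  have h2 : (orbs i).B.testBit 0 = false := by
    fin_cases i
    · exact Fi23Simple.chk_o0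
    · exact Fi23Simple.chk_o1
  rw [h2] at h1
  exact Bool.false_ne_true h1

theorem hs : ∀ i, (Δ i).ncard = ![28160, 3510] i := by
  intro i
  have h : cnt (orbs i).B Fi23TC.data.T.n = ![28160, 3510] i := by
    fin_cases i
    · exact Fi23TC.chk_cnt1
    · exact Fi23TC.chk_cnt2
  rw [← h]
  exact ncard_testBit _ _

theorem harith : ∀ I : Finset (Fin 2), I.Nonempty → (1 + ∑ i ∈ I, ![28160, 3510] i) ∣ 31671 →
    1 + ∑ i ∈ I, ![28160, 3510] i = 31671 := by decide

/-! ## The centralizer -/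

theorem H_le : H ≤ Subgroup.centralizer ({z} : Set Fi23) := by
  intro h hh
  rw [Subgroup.mem_centralizer_iff]
  intro w hw
  rw [Set.mem_singleton_iff] at hw
  rw [hw]
  exact (z_comm h hh).symm

theorem centralizer_eq : Subgroup.centralizer ({z} : Set Fi23) = H := by
  have hfin : Finite Fi23 := Fi23UB.ub.1
  have hsimp : IsSimpleGroup Fi23 := Fi23Simple.main.1
  rcases eq_or_eq_top_of_cert ρ o H Fi23TC.data.cert.fix stab_mem Fi23TC.data.cert.index_eq
    Δ hΔ hcover hdisj ho ![28160, 3510] hs harith _ H_le with h | h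
  · exact h
  · exfalso
    have hc : Subgroup.center Fi23 = ⊥ := by
      apply center_eq_bot_of_simple
      rw [Fi23Simple.main.2]
      norm_num
    apply z_ne_one
    have hz : z ∈ Subgroup.center Fi23 := by
      rw [Subgroup.mem_center_iff]
      intro x
      have hx : x ∈ Subgroup.centralizer ({z} : Set Fi23) := by rw [h]; exact Subgroup.mem_top x
      rw [Subgroup.mem_centralizer_iff] at hx
      exact (hx z rfl).symm
    rw [hc] at hz
    exact Subgroup.mem_bot.1 hz

/-! ## The 3-transpositions -/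

/-- representatives of the double cosets -/
def reps : Fin 2 → Fi23 := ![z * j, (j * g) * (z * j)]

theorem row_zj : (ρ (z * j) o).val = 8006 := by
  rw [← wordG_zj, ρ_wordG_apply zj_lt o]
  exact chk_r2

theorem row_w1 : (ρ ((j * g) * (z * j)) o).val = 8005 := by
  rw [← wordG_w1, ρ_wordG_apply w1_lt o]
  exact chk_r1

theorem reps_mem0 : ρ (z * j) o ∈ Δ 0 := by
  have h : Fi23TC.orbB1.testBit (ρ (z * j) o).val = true := by
    rw [row_zj]
    exact chk_b2
  exact h

theorem reps_mem1 : ρ ((j * g) * (z * j)) o ∈ Δ 1 := by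
  have h : Fi23TC.orbB2.testBit (ρ ((j * g) * (z * j)) o).val = true := by
    rw [row_w1]
    exact chk_b1
  exact h

theorem reps_zero : reps 0 = z * j := by simp only [reps, Matrix.cons_val_zero]

theorem reps_one : reps 1 = (j * g) * (z * j) := by
  simp only [reps, Matrix.cons_val_one, Matrix.cons_val_zero]

theorem reps_mem : ∀ i, ρ (reps i) o ∈ Δ i := by
  rw [Fin.forall_fin_two, reps_zero, reps_one]
  exact ⟨reps_mem0, reps_mem1⟩

theorem conj_zj : (z * j) * z * (z * j)⁻¹ = j :=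
  (conj_of_braid z_mul_self j_mul_self zj_pow).symm

theorem conj_jg : (j * g) * j * (j * g)⁻¹ = g :=
  (conj_of_braid j_mul_self g_mul_self jg_pow).symm

theorem reps_three0 : (z * ((z * j) * z * (z * j)⁻¹)) ^ 3 = 1 := by
  rw [conj_zj]
  exact zj_pow

theorem reps_three1 :
    (z * (((j * g) * (z * j)) * z * ((j * g) * (z * j))⁻¹)) ^ 2 = 1 := by
  have h1 : ((j * g) * (z * j)) * z * ((j * g) * (z * j))⁻¹ =
      (j * g) * ((z * j) * z * (z * j)⁻¹) * (j * g)⁻¹ := by group
  rw [h1, conj_zj, conj_jg, pow_two]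
  have hc := z_comm g g_mem
  calc z * g * (z * g) = z * (g * z) * g := by group
    _ = z * (z * g) * g := by rw [hc]
    _ = (z * z) * (g * g) := by group
    _ = 1 := by rw [z_mul_self, g_mul_self, mul_one]

theorem reps_three : ∀ i, (z * (reps i * z * (reps i)⁻¹)) ^ 2 = 1 ∨
    (z * (reps i * z * (reps i)⁻¹)) ^ 3 = 1 := by
  rw [Fin.forall_fin_two, reps_zero, reps_one]
  exact ⟨Or.inr reps_three0, Or.inl reps_three1⟩

theorem three : ∀ w : Fi23, (z * (w * z * w⁻¹)) ^ 2 = 1 ∨ (z * (w * z * w⁻¹)) ^ 3 = 1 :=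
  three_of_cert ρ o H stab_mem z z_mul_self z_comm Δ hΔ hcover reps reps_mem reps_three

/-- **the Fischer group Fi23 as a group of 3-transpositions** -/
theorem main : ∃ (G : Type) (_ : Group G) (_ : Finite G), Cfsg.IsFi23 G ∧ ∃ D : Set G,
    Cfsg.IsThreeTranspositionClass D ∧ Nat.card D = 31671 ∧ ∀ d ∈ D, ∃ (K : Type) (_ : Group K),
      Cfsg.IsFi22 K ∧ Cfsg.IsNonsplitDoubleCover (Subgroup.centralizer ({d} : Set G)) K := by
  have hfin : Finite Fi23 := Fi23UB.ub.1
  have hsimp : IsSimpleGroup Fi23 := Fi23Simple.main.1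
  refine ⟨Fi23, inferInstance, hfin, Fi23Simple.main, conjugatesOf z,
    ⟨isThreeTranspositionSet_conjugatesOf z z_ne_one z_mul_self three,
      ⟨z, mem_conjugatesOf_self, rfl⟩, closure_conjugatesOf_eq_top z_ne_one⟩, ?_, ?_⟩
  · rw [card_conjugatesOf, centralizer_eq]
    exact Fi23TC.data.cert.index_eq
  · intro d hd
    obtain ⟨x, rfl⟩ := isConj_iff.1 (show IsConj z d from hd)
    refine ⟨Fi22, inferInstance, Fi22Simple.main, ?_⟩
    have e : Subgroup.centralizer ({x * z * x⁻¹} : Set Fi23) ≃* Fi23DC.H :=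
      (centralizerConj x z).trans (MulEquiv.subgroupCongr centralizer_eq)
    exact isNonsplitDoubleCover_of_equiv e.symm (Fi23DC.dc Fi23Simple.main.2)

end Cfsg.Agent.Lib.Helper6.Fi23T3
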