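import Cfsg.Agent.Lib.Helper6.Fi23SRows0
import Cfsg.Agent.Lib.Helper6.Fi23SRows1
import Cfsg.Agent.Lib.Helper6.Fi23SRows2
import Cfsg.Agent.Lib.Helper6.Fi23SRows3
import Cfsg.Agent.Lib.Helper6.Fi23SRows4
import Cfsg.Agent.Lib.Helper6.Fi23SRows5
import Cfsg.Agent.Lib.Helper6.Fi23SRows6
import Cfsg.Agent.Lib.Helper6.Fi23SRows7
import Cfsg.Agent.Lib.Helper6.Fi23SRows8
import Cfsg.Agent.Lib.Helper6.Fi23SRows9
import Cfsg.Agent.Lib.Helper6.Fi23SRows10
import Cfsg.Agent.Lib.Helper6.Fi23SMRows0
import Cfsg.Agent.Lib.Helper6.Fi23SMRows1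
import Cfsg.Agent.Lib.Helper6.Fi23SMRows2
import Cfsg.Agent.Lib.Helper6.Fi23SMRows3
import Cfsg.Agent.Lib.Helper6.Fi23SFin0
import Cfsg.Agent.Lib.Helper6.Fi23SFin1

/-! # Fi23: the coset enumeration is checked -/

set_option autoImplicit false

namespace Cfsg.Agent.Lib.Helper6.Fi23TC

open Cfsg.Agent.Lib.Helper6.TC Cfsg.Agent.Lib.Helper6.TCS

theorem chk_rows : ∀ a < cert.N, ∀ x < cert.c.g, cert.slotOK a x = true := by
  refine cert.rows_of_ranges 4800 11 (by norm_num) (by show 52750 ≤ 11 * 4800; norm_num) ?_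
  intro f hf
  interval_cases f
  · exact chk_range0
  · exact chk_range1
  · exact chk_range2
  · exact chk_range3
  · exact chk_range4
  · exact chk_range5
  · exact chk_range6
  · exact chk_range7
  · exact chk_range8
  · exact chk_range9
  · exact chk_range10

theorem chk_mrows : ∀ b < cert.N, cert.mslotOK b = true := by
  refine cert.mrows_of_ranges 16000 4 (by norm_num) (by show 52750 ≤ 4 * 16000; norm_num) ?_
  intro f hf
  interval_cases f
  · exact chk_mrange0
  · exact chk_mrange1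
  · exact chk_mrange2
  · exact chk_mrange3

theorem chk_fin : cert.finalOK 31671 = true := by
  refine cert.finalOK_of_chunks 31671 3000 11 (by norm_num) (by show 31671 ≤ 11 * 3000; norm_num) ?_
  intro k hk
  interval_cases k
  · exact chk_fin0
  · exact chk_fin1
  · exact chk_fin2
  · exact chk_fin3
  · exact chk_fin4
  · exact chk_fin5
  · exact chk_fin6
  · exact chk_fin7
  · exact chk_fin8
  · exact chk_fin9
  · exact chk_fin10

theorem hrun : RunCert cfg tab.n :=
  RunCert.of_static cert 31671 (by norm_num) chk_rows chk_mrows chk_fin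

end Cfsg.Agent.Lib.Helper6.Fi23TC
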