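import Cfsg.Agent.Lib.Helper6.Fi24SCert

/-! # Fi24: the kernel check of the rows from 49680 on -/

set_option autoImplicit false

namespace Cfsg.Agent.Lib.Helper6.Fi24TC

open Cfsg.Agent.Lib.Helper6.TC Cfsg.Agent.Lib.Helper6.TCS

theorem chk_rows6_0 : cert.rowsOK 49680 345 = true := by decide +kernel

theorem chk_rows6_1 : cert.rowsOK 50025 345 = true := by decide +kernel

theorem chk_rows6_2 : cert.rowsOK 50370 345 = true := by decide +kernel

theorem chk_rows6_3 : cert.rowsOK 50715 345 = true := by decide +kernel

theorem chk_rows6_4 : cert.rowsOK 51060 345 = true := by decide +kernel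

theorem chk_rows6_5 : cert.rowsOK 51405 345 = true := by decide +kernel

theorem chk_rows6_6 : cert.rowsOK 51750 345 = true := by decide +kernel

theorem chk_rows6_7 : cert.rowsOK 52095 345 = true := by decide +kernel

theorem chk_rows6_8 : cert.rowsOK 52440 345 = true := by decide +kernel

theorem chk_rows6_9 : cert.rowsOK 52785 345 = true := by decide +kernel

theorem chk_rows6_10 : cert.rowsOK 53130 345 = true := by decide +kernel

theorem chk_rows6_11 : cert.rowsOK 53475 345 = true := by decide +kernel

theorem chk_rows6_12 : cert.rowsOK 53820 345 = true := by decide +kernel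

theorem chk_rows6_13 : cert.rowsOK 54165 345 = true := by decide +kernel

theorem chk_rows6_14 : cert.rowsOK 54510 345 = true := by decide +kernel

theorem chk_rows6_15 : cert.rowsOK 54855 345 = true := by decide +kernel

theorem chk_rows6_16 : cert.rowsOK 55200 345 = true := by decide +kernel

theorem chk_rows6_17 : cert.rowsOK 55545 345 = true := by decide +kernel

theorem chk_rows6_18 : cert.rowsOK 55890 345 = true := by decide +kernel

theorem chk_rows6_19 : cert.rowsOK 56235 345 = true := by decide +kernel

theorem chk_rows6_20 : cert.rowsOK 56580 345 = true := by decide +kernel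

theorem chk_rows6_21 : cert.rowsOK 56925 345 = true := by decide +kernel

theorem chk_rows6_22 : cert.rowsOK 57270 345 = true := by decide +kernel

theorem chk_rows6_23 : cert.rowsOK 57615 345 = true := by decide +kernel

theorem chk_range6 : ∀ a, 49680 ≤ a → a < 57960 → ∀ x < cert.c.g, cert.slotOK a x = true := by
  refine cert.range_of_chunks 49680 345 24 (by norm_num) ?_
  intro k hk
  interval_cases k
  · exact chk_rows6_0
  · exact chk_rows6_1
  · exact chk_rows6_2
  · exact chk_rows6_3
  · exact chk_rows6_4
  · exact chk_rows6_5
  · exact chk_rows6_6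
  · exact chk_rows6_7
  · exact chk_rows6_8
  · exact chk_rows6_9
  · exact chk_rows6_10
  · exact chk_rows6_11
  · exact chk_rows6_12
  · exact chk_rows6_13
  · exact chk_rows6_14
  · exact chk_rows6_15
  · exact chk_rows6_16
  · exact chk_rows6_17
  · exact chk_rows6_18
  · exact chk_rows6_19
  · exact chk_rows6_20
  · exact chk_rows6_21
  · exact chk_rows6_22
  · exact chk_rows6_23

end Cfsg.Agent.Lib.Helper6.Fi24TC
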