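import Cfsg.Agent.Lib.Helper6.Fi24SCert
import Cfsg.Agent.Lib.Helper6.Fi24SRows6

/-! # Fi24: the kernel check of the rows from 142224 on -/

set_option autoImplicit false

namespace Cfsg.Agent.Lib.Helper6.Fi24TC

open Cfsg.Agent.Lib.Helper6.TC Cfsg.Agent.Lib.Helper6.TCS

theorem chk_rows18_0 : cert.rowsOK 142224 293 = true := by decide +kernel

theorem chk_rows18_1 : cert.rowsOK 142517 293 = true := by decide +kernel

theorem chk_rows18_2 : cert.rowsOK 142810 293 = true := by decide +kernel

theorem chk_rows18_3 : cert.rowsOK 143103 293 = true := by decide +kernel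

theorem chk_rows18_4 : cert.rowsOK 143396 293 = true := by decide +kernel

theorem chk_rows18_5 : cert.rowsOK 143689 293 = true := by decide +kernel

theorem chk_rows18_6 : cert.rowsOK 143982 293 = true := by decide +kernel

theorem chk_rows18_7 : cert.rowsOK 144275 293 = true := by decide +kernel

theorem chk_rows18_8 : cert.rowsOK 144568 293 = true := by decide +kernel

theorem chk_rows18_9 : cert.rowsOK 144861 293 = true := by decide +kernel

theorem chk_rows18_10 : cert.rowsOK 145154 293 = true := by decide +kernel

theorem chk_rows18_11 : cert.rowsOK 145447 293 = true := by decide +kernel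

theorem chk_rows18_12 : cert.rowsOK 145740 293 = true := by decide +kernel

theorem chk_rows18_13 : cert.rowsOK 146033 293 = true := by decide +kernel

theorem chk_rows18_14 : cert.rowsOK 146326 293 = true := by decide +kernel

theorem chk_rows18_15 : cert.rowsOK 146619 293 = true := by decide +kernel

theorem chk_rows18_16 : cert.rowsOK 146912 293 = true := by decide +kernel

theorem chk_rows18_17 : cert.rowsOK 147205 293 = true := by decide +kernel

theorem chk_rows18_18 : cert.rowsOK 147498 293 = true := by decide +kernel

theorem chk_rows18_19 : cert.rowsOK 147791 293 = true := by decide +kernel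

theorem chk_rows18_20 : cert.rowsOK 148084 293 = true := by decide +kernel

theorem chk_rows18_21 : cert.rowsOK 148377 293 = true := by decide +kernel

theorem chk_rows18_22 : cert.rowsOK 148670 293 = true := by decide +kernel

theorem chk_rows18_23 : cert.rowsOK 148963 293 = true := by decide +kernel

theorem chk_range18 : ∀ a, 142224 ≤ a → a < 149256 → ∀ x < cert.c.g, cert.slotOK a x = true := by
  refine cert.range_of_chunks 142224 293 24 (by norm_num) ?_
  intro k hk
  interval_cases k
  · exact chk_rows18_0
  · exact chk_rows18_1
  · exact chk_rows18_2
  · exact chk_rows18_3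
  · exact chk_rows18_4
  · exact chk_rows18_5
  · exact chk_rows18_6
  · exact chk_rows18_7
  · exact chk_rows18_8
  · exact chk_rows18_9
  · exact chk_rows18_10
  · exact chk_rows18_11
  · exact chk_rows18_12
  · exact chk_rows18_13
  · exact chk_rows18_14
  · exact chk_rows18_15
  · exact chk_rows18_16
  · exact chk_rows18_17
  · exact chk_rows18_18
  · exact chk_rows18_19
  · exact chk_rows18_20
  · exact chk_rows18_21
  · exact chk_rows18_22
  · exact chk_rows18_23

end Cfsg.Agent.Lib.Helper6.Fi24TC
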