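import Cfsg.Agent.Lib.Helper6.Fi24SCert
import Cfsg.Agent.Lib.Helper6.Fi24SRows18

/-! # Fi24: the kernel check of the rows from 225744 on -/

set_option autoImplicit false

namespace Cfsg.Agent.Lib.Helper6.Fi24TC

open Cfsg.Agent.Lib.Helper6.TC Cfsg.Agent.Lib.Helper6.TCS

theorem chk_rows30_0 : cert.rowsOK 225744 249 = true := by decide +kernel

theorem chk_rows30_1 : cert.rowsOK 225993 249 = true := by decide +kernel

theorem chk_rows30_2 : cert.rowsOK 226242 249 = true := by decide +kernel

theorem chk_rows30_3 : cert.rowsOK 226491 249 = true := by decide +kernel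

theorem chk_rows30_4 : cert.rowsOK 226740 249 = true := by decide +kernel

theorem chk_rows30_5 : cert.rowsOK 226989 249 = true := by decide +kernel

theorem chk_rows30_6 : cert.rowsOK 227238 249 = true := by decide +kernel

theorem chk_rows30_7 : cert.rowsOK 227487 249 = true := by decide +kernel

theorem chk_rows30_8 : cert.rowsOK 227736 249 = true := by decide +kernel

theorem chk_rows30_9 : cert.rowsOK 227985 249 = true := by decide +kernel

theorem chk_rows30_10 : cert.rowsOK 228234 249 = true := by decide +kernel

theorem chk_rows30_11 : cert.rowsOK 228483 249 = true := by decide +kernel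

theorem chk_rows30_12 : cert.rowsOK 228732 249 = true := by decide +kernel

theorem chk_rows30_13 : cert.rowsOK 228981 249 = true := by decide +kernel

theorem chk_rows30_14 : cert.rowsOK 229230 249 = true := by decide +kernel

theorem chk_rows30_15 : cert.rowsOK 229479 249 = true := by decide +kernel

theorem chk_rows30_16 : cert.rowsOK 229728 249 = true := by decide +kernel

theorem chk_rows30_17 : cert.rowsOK 229977 249 = true := by decide +kernel

theorem chk_rows30_18 : cert.rowsOK 230226 249 = true := by decide +kernel

theorem chk_rows30_19 : cert.rowsOK 230475 249 = true := by decide +kernel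

theorem chk_rows30_20 : cert.rowsOK 230724 249 = true := by decide +kernel

theorem chk_rows30_21 : cert.rowsOK 230973 249 = true := by decide +kernel

theorem chk_rows30_22 : cert.rowsOK 231222 249 = true := by decide +kernel

theorem chk_rows30_23 : cert.rowsOK 231471 249 = true := by decide +kernel

theorem chk_range30 : ∀ a, 225744 ≤ a → a < 231720 → ∀ x < cert.c.g, cert.slotOK a x = true := by
  refine cert.range_of_chunks 225744 249 24 (by norm_num) ?_
  intro k hk
  interval_cases k
  · exact chk_rows30_0
  · exact chk_rows30_1
  · exact chk_rows30_2
  · exact chk_rows30_3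
  · exact chk_rows30_4
  · exact chk_rows30_5
  · exact chk_rows30_6
  · exact chk_rows30_7
  · exact chk_rows30_8
  · exact chk_rows30_9
  · exact chk_rows30_10
  · exact chk_rows30_11
  · exact chk_rows30_12
  · exact chk_rows30_13
  · exact chk_rows30_14
  · exact chk_rows30_15
  · exact chk_rows30_16
  · exact chk_rows30_17
  · exact chk_rows30_18
  · exact chk_rows30_19
  · exact chk_rows30_20
  · exact chk_rows30_21
  · exact chk_rows30_22
  · exact chk_rows30_23

end Cfsg.Agent.Lib.Helper6.Fi24TC
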