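import Cfsg.Agent.Lib.Helper6.Fi24SCert
import Cfsg.Agent.Lib.Helper6.Fi24SRows30

/-! # Fi24: the kernel check of the rows from 276552 on -/

set_option autoImplicit false

namespace Cfsg.Agent.Lib.Helper6.Fi24TC

open Cfsg.Agent.Lib.Helper6.TC Cfsg.Agent.Lib.Helper6.TCS

theorem chk_rows42_0 : cert.rowsOK 276552 109 = true := by decide +kernel

theorem chk_rows42_1 : cert.rowsOK 276661 109 = true := by decide +kernel

theorem chk_rows42_2 : cert.rowsOK 276770 109 = true := by decide +kernel

theorem chk_rows42_3 : cert.rowsOK 276879 109 = true := by decide +kernel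

theorem chk_rows42_4 : cert.rowsOK 276988 109 = true := by decide +kernel

theorem chk_rows42_5 : cert.rowsOK 277097 109 = true := by decide +kernel

theorem chk_rows42_6 : cert.rowsOK 277206 109 = true := by decide +kernel

theorem chk_rows42_7 : cert.rowsOK 277315 109 = true := by decide +kernel

theorem chk_rows42_8 : cert.rowsOK 277424 109 = true := by decide +kernel

theorem chk_rows42_9 : cert.rowsOK 277533 109 = true := by decide +kernel

theorem chk_rows42_10 : cert.rowsOK 277642 109 = true := by decide +kernel

theorem chk_rows42_11 : cert.rowsOK 277751 109 = true := by decide +kernel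

theorem chk_rows42_12 : cert.rowsOK 277860 109 = true := by decide +kernel

theorem chk_rows42_13 : cert.rowsOK 277969 109 = true := by decide +kernel

theorem chk_rows42_14 : cert.rowsOK 278078 109 = true := by decide +kernel

theorem chk_rows42_15 : cert.rowsOK 278187 109 = true := by decide +kernel

theorem chk_rows42_16 : cert.rowsOK 278296 109 = true := by decide +kernel

theorem chk_rows42_17 : cert.rowsOK 278405 109 = true := by decide +kernel

theorem chk_rows42_18 : cert.rowsOK 278514 109 = true := by decide +kernel

theorem chk_rows42_19 : cert.rowsOK 278623 109 = true := by decide +kernel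

theorem chk_rows42_20 : cert.rowsOK 278732 109 = true := by decide +kernel

theorem chk_rows42_21 : cert.rowsOK 278841 109 = true := by decide +kernel

theorem chk_rows42_22 : cert.rowsOK 278950 109 = true := by decide +kernel

theorem chk_rows42_23 : cert.rowsOK 279059 109 = true := by decide +kernel

theorem chk_range42 : ∀ a, 276552 ≤ a → a < 279168 → ∀ x < cert.c.g, cert.slotOK a x = true := by
  refine cert.range_of_chunks 276552 109 24 (by norm_num) ?_
  intro k hk
  interval_cases k
  · exact chk_rows42_0
  · exact chk_rows42_1
  · exact chk_rows42_2
  · exact chk_rows42_3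
  · exact chk_rows42_4
  · exact chk_rows42_5
  · exact chk_rows42_6
  · exact chk_rows42_7
  · exact chk_rows42_8
  · exact chk_rows42_9
  · exact chk_rows42_10
  · exact chk_rows42_11
  · exact chk_rows42_12
  · exact chk_rows42_13
  · exact chk_rows42_14
  · exact chk_rows42_15
  · exact chk_rows42_16
  · exact chk_rows42_17
  · exact chk_rows42_18
  · exact chk_rows42_19
  · exact chk_rows42_20
  · exact chk_rows42_21
  · exact chk_rows42_22
  · exact chk_rows42_23

end Cfsg.Agent.Lib.Helper6.Fi24TC
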