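import Cfsg.Agent.Lib.Helper6.Fi24SCert
import Cfsg.Agent.Lib.Helper6.Fi24SRows42

/-! # Fi24: the kernel check of the rows from 301704 on -/

set_option autoImplicit false

namespace Cfsg.Agent.Lib.Helper6.Fi24TC

open Cfsg.Agent.Lib.Helper6.TC Cfsg.Agent.Lib.Helper6.TCS

theorem chk_rows54_0 : cert.rowsOK 301704 56 = true := by decide +kernel

theorem chk_rows54_1 : cert.rowsOK 301760 56 = true := by decide +kernel

theorem chk_rows54_2 : cert.rowsOK 301816 56 = true := by decide +kernel

theorem chk_rows54_3 : cert.rowsOK 301872 56 = true := by decide +kernel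

theorem chk_rows54_4 : cert.rowsOK 301928 56 = true := by decide +kernel

theorem chk_rows54_5 : cert.rowsOK 301984 56 = true := by decide +kernel

theorem chk_rows54_6 : cert.rowsOK 302040 56 = true := by decide +kernel

theorem chk_rows54_7 : cert.rowsOK 302096 56 = true := by decide +kernel

theorem chk_rows54_8 : cert.rowsOK 302152 56 = true := by decide +kernel

theorem chk_rows54_9 : cert.rowsOK 302208 56 = true := by decide +kernel

theorem chk_rows54_10 : cert.rowsOK 302264 56 = true := by decide +kernel

theorem chk_rows54_11 : cert.rowsOK 302320 56 = true := by decide +kernel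

theorem chk_rows54_12 : cert.rowsOK 302376 56 = true := by decide +kernel

theorem chk_rows54_13 : cert.rowsOK 302432 56 = true := by decide +kernel

theorem chk_rows54_14 : cert.rowsOK 302488 56 = true := by decide +kernel

theorem chk_rows54_15 : cert.rowsOK 302544 56 = true := by decide +kernel

theorem chk_rows54_16 : cert.rowsOK 302600 56 = true := by decide +kernel

theorem chk_rows54_17 : cert.rowsOK 302656 56 = true := by decide +kernel

theorem chk_rows54_18 : cert.rowsOK 302712 56 = true := by decide +kernel

theorem chk_rows54_19 : cert.rowsOK 302768 56 = true := by decide +kernel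

theorem chk_rows54_20 : cert.rowsOK 302824 56 = true := by decide +kernel

theorem chk_rows54_21 : cert.rowsOK 302880 56 = true := by decide +kernel

theorem chk_rows54_22 : cert.rowsOK 302936 56 = true := by decide +kernel

theorem chk_rows54_23 : cert.rowsOK 302992 56 = true := by decide +kernel

theorem chk_range54 : ∀ a, 301704 ≤ a → a < 303048 → ∀ x < cert.c.g, cert.slotOK a x = true := by
  refine cert.range_of_chunks 301704 56 24 (by norm_num) ?_
  intro k hk
  interval_cases k
  · exact chk_rows54_0
  · exact chk_rows54_1
  · exact chk_rows54_2
  · exact chk_rows54_3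
  · exact chk_rows54_4
  · exact chk_rows54_5
  · exact chk_rows54_6
  · exact chk_rows54_7
  · exact chk_rows54_8
  · exact chk_rows54_9
  · exact chk_rows54_10
  · exact chk_rows54_11
  · exact chk_rows54_12
  · exact chk_rows54_13
  · exact chk_rows54_14
  · exact chk_rows54_15
  · exact chk_rows54_16
  · exact chk_rows54_17
  · exact chk_rows54_18
  · exact chk_rows54_19
  · exact chk_rows54_20
  · exact chk_rows54_21
  · exact chk_rows54_22
  · exact chk_rows54_23

end Cfsg.Agent.Lib.Helper6.Fi24TC
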