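import Cfsg.Agent.Lib.Helper6.Fi24TCData
import Cfsg.Agent.Lib.Helper6.TCRel3
import Cfsg.Agent.Lib.Helper6.Fi24SFin6

/-! # Fi24: the kernel check of a part of the relators on the coset table -/

set_option autoImplicit false

namespace Cfsg.Agent.Lib.Helper6.Fi24TC

open Cfsg.Agent.Lib.Helper6.TC

theorem chk_pow0_0_0 : tab.minOKc [0, 1] 3 0 5417 = true := by decide +kernel

theorem chk_pow0_0_1 : tab.minOKc [0, 1] 3 5417 5417 = true := by decide +kernel

theorem chk_pow0_0_2 : tab.minOKc [0, 1] 3 10834 5417 = true := by decide +kernel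

theorem chk_pow0_0_3 : tab.minOKc [0, 1] 3 16251 5417 = true := by decide +kernel

theorem chk_pow0_0_4 : tab.minOKc [0, 1] 3 21668 5417 = true := by decide +kernel

theorem chk_pow0_0_5 : tab.minOKc [0, 1] 3 27085 5417 = true := by decide +kernel

theorem chk_pow0_0_6 : tab.minOKc [0, 1] 3 32502 5417 = true := by decide +kernel

theorem chk_pow0_0_7 : tab.minOKc [0, 1] 3 37919 5417 = true := by decide +kernel

theorem chk_pow0_0_8 : tab.minOKc [0, 1] 3 43336 5417 = true := by decide +kernel

theorem chk_pow0_0_9 : tab.minOKc [0, 1] 3 48753 5417 = true := by decide +kernel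

theorem chk_pow0_0_10 : tab.minOKc [0, 1] 3 54170 5417 = true := by decide +kernel

theorem chk_pow0_0_11 : tab.minOKc [0, 1] 3 59587 5417 = true := by decide +kernel

theorem chk_pow0_0_12 : tab.minOKc [0, 1] 3 65004 5417 = true := by decide +kernel

theorem chk_pow0_0_13 : tab.minOKc [0, 1] 3 70421 5417 = true := by decide +kernel

theorem chk_pow0_0_14 : tab.minOKc [0, 1] 3 75838 5417 = true := by decide +kernel

theorem chk_pow0_0 : tab.minOKc [0, 1] 3 0 81255 = true := by
  refine tab.minOKc_of_chunks [0, 1] 3 0 5417 15 (by norm_num) ?_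
  intro i hi
  interval_cases i
  · exact chk_pow0_0_0
  · exact chk_pow0_0_1
  · exact chk_pow0_0_2
  · exact chk_pow0_0_3
  · exact chk_pow0_0_4
  · exact chk_pow0_0_5
  · exact chk_pow0_0_6
  · exact chk_pow0_0_7
  · exact chk_pow0_0_8
  · exact chk_pow0_0_9
  · exact chk_pow0_0_10
  · exact chk_pow0_0_11
  · exact chk_pow0_0_12
  · exact chk_pow0_0_13
  · exact chk_pow0_0_14

theorem chk_pow0_1_0 : tab.minOKc [0, 1] 3 81255 5417 = true := by decide +kernel

theorem chk_pow0_1_1 : tab.minOKc [0, 1] 3 86672 5417 = true := by decide +kernel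

theorem chk_pow0_1_2 : tab.minOKc [0, 1] 3 92089 5417 = true := by decide +kernel

theorem chk_pow0_1_3 : tab.minOKc [0, 1] 3 97506 5417 = true := by decide +kernel

theorem chk_pow0_1_4 : tab.minOKc [0, 1] 3 102923 5417 = true := by decide +kernel

theorem chk_pow0_1_5 : tab.minOKc [0, 1] 3 108340 5417 = true := by decide +kernel

theorem chk_pow0_1_6 : tab.minOKc [0, 1] 3 113757 5417 = true := by decide +kernel

theorem chk_pow0_1_7 : tab.minOKc [0, 1] 3 119174 5417 = true := by decide +kernel

theorem chk_pow0_1_8 : tab.minOKc [0, 1] 3 124591 5417 = true := by decide +kernel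

theorem chk_pow0_1_9 : tab.minOKc [0, 1] 3 130008 5417 = true := by decide +kernel

theorem chk_pow0_1_10 : tab.minOKc [0, 1] 3 135425 5417 = true := by decide +kernel

theorem chk_pow0_1_11 : tab.minOKc [0, 1] 3 140842 5417 = true := by decide +kernel

theorem chk_pow0_1_12 : tab.minOKc [0, 1] 3 146259 5417 = true := by decide +kernel

theorem chk_pow0_1_13 : tab.minOKc [0, 1] 3 151676 5417 = true := by decide +kernel

theorem chk_pow0_1_14 : tab.minOKc [0, 1] 3 157093 5417 = true := by decide +kernel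

theorem chk_pow0_1 : tab.minOKc [0, 1] 3 81255 81255 = true := by
  refine tab.minOKc_of_chunks [0, 1] 3 81255 5417 15 (by norm_num) ?_
  intro i hi
  interval_cases i
  · exact chk_pow0_1_0
  · exact chk_pow0_1_1
  · exact chk_pow0_1_2
  · exact chk_pow0_1_3
  · exact chk_pow0_1_4
  · exact chk_pow0_1_5
  · exact chk_pow0_1_6
  · exact chk_pow0_1_7
  · exact chk_pow0_1_8
  · exact chk_pow0_1_9
  · exact chk_pow0_1_10
  · exact chk_pow0_1_11
  · exact chk_pow0_1_12
  · exact chk_pow0_1_13
  · exact chk_pow0_1_14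

end Cfsg.Agent.Lib.Helper6.Fi24TC
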