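import Cfsg.Agent.Lib.Helper6.Fi24SCert
import Cfsg.Agent.Lib.Helper6.Fi24SRows19

/-! # Fi24: the kernel check of the rows from 231720 on -/

set_option autoImplicit false

namespace Cfsg.Agent.Lib.Helper6.Fi24TC

open Cfsg.Agent.Lib.Helper6.TC Cfsg.Agent.Lib.Helper6.TCS

theorem chk_rows31_0 : cert.rowsOK 231720 211 = true := by decide +kernel

theorem chk_rows31_1 : cert.rowsOK 231931 211 = true := by decide +kernel

theorem chk_rows31_2 : cert.rowsOK 232142 211 = true := by decide +kernel

theorem chk_rows31_3 : cert.rowsOK 232353 211 = true := by decide +kernel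

theorem chk_rows31_4 : cert.rowsOK 232564 211 = true := by decide +kernel

theorem chk_rows31_5 : cert.rowsOK 232775 211 = true := by decide +kernel

theorem chk_rows31_6 : cert.rowsOK 232986 211 = true := by decide +kernel

theorem chk_rows31_7 : cert.rowsOK 233197 211 = true := by decide +kernel

theorem chk_rows31_8 : cert.rowsOK 233408 211 = true := by decide +kernel

theorem chk_rows31_9 : cert.rowsOK 233619 211 = true := by decide +kernel

theorem chk_rows31_10 : cert.rowsOK 233830 211 = true := by decide +kernel

theorem chk_rows31_11 : cert.rowsOK 234041 211 = true := by decide +kernel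

theorem chk_rows31_12 : cert.rowsOK 234252 211 = true := by decide +kernel

theorem chk_rows31_13 : cert.rowsOK 234463 211 = true := by decide +kernel

theorem chk_rows31_14 : cert.rowsOK 234674 211 = true := by decide +kernel

theorem chk_rows31_15 : cert.rowsOK 234885 211 = true := by decide +kernel

theorem chk_rows31_16 : cert.rowsOK 235096 211 = true := by decide +kernel

theorem chk_rows31_17 : cert.rowsOK 235307 211 = true := by decide +kernel

theorem chk_rows31_18 : cert.rowsOK 235518 211 = true := by decide +kernel

theorem chk_rows31_19 : cert.rowsOK 235729 211 = true := by decide +kernel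

theorem chk_rows31_20 : cert.rowsOK 235940 211 = true := by decide +kernel

theorem chk_rows31_21 : cert.rowsOK 236151 211 = true := by decide +kernel

theorem chk_rows31_22 : cert.rowsOK 236362 211 = true := by decide +kernel

theorem chk_rows31_23 : cert.rowsOK 236573 211 = true := by decide +kernel

theorem chk_range31 : ∀ a, 231720 ≤ a → a < 236784 → ∀ x < cert.c.g, cert.slotOK a x = true := by
  refine cert.range_of_chunks 231720 211 24 (by norm_num) ?_
  intro k hk
  interval_cases k
  · exact chk_rows31_0
  · exact chk_rows31_1
  · exact chk_rows31_2
  · exact chk_rows31_3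
  · exact chk_rows31_4
  · exact chk_rows31_5
  · exact chk_rows31_6
  · exact chk_rows31_7
  · exact chk_rows31_8
  · exact chk_rows31_9
  · exact chk_rows31_10
  · exact chk_rows31_11
  · exact chk_rows31_12
  · exact chk_rows31_13
  · exact chk_rows31_14
  · exact chk_rows31_15
  · exact chk_rows31_16
  · exact chk_rows31_17
  · exact chk_rows31_18
  · exact chk_rows31_19
  · exact chk_rows31_20
  · exact chk_rows31_21
  · exact chk_rows31_22
  · exact chk_rows31_23

end Cfsg.Agent.Lib.Helper6.Fi24TC
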