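import Cfsg.Agent.Lib.Helper6.Fi24SCert
import Cfsg.Agent.Lib.Helper6.Fi24SRows31

/-! # Fi24: the kernel check of the rows from 279168 on -/

set_option autoImplicit false

namespace Cfsg.Agent.Lib.Helper6.Fi24TC

open Cfsg.Agent.Lib.Helper6.TC Cfsg.Agent.Lib.Helper6.TCS

theorem chk_rows43_0 : cert.rowsOK 279168 129 = true := by decide +kernel

theorem chk_rows43_1 : cert.rowsOK 279297 129 = true := by decide +kernel

theorem chk_rows43_2 : cert.rowsOK 279426 129 = true := by decide +kernel

theorem chk_rows43_3 : cert.rowsOK 279555 129 = true := by decide +kernel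

theorem chk_rows43_4 : cert.rowsOK 279684 129 = true := by decide +kernel

theorem chk_rows43_5 : cert.rowsOK 279813 129 = true := by decide +kernel

theorem chk_rows43_6 : cert.rowsOK 279942 129 = true := by decide +kernel

theorem chk_rows43_7 : cert.rowsOK 280071 129 = true := by decide +kernel

theorem chk_rows43_8 : cert.rowsOK 280200 129 = true := by decide +kernel

theorem chk_rows43_9 : cert.rowsOK 280329 129 = true := by decide +kernel

theorem chk_rows43_10 : cert.rowsOK 280458 129 = true := by decide +kernel

theorem chk_rows43_11 : cert.rowsOK 280587 129 = true := by decide +kernel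

theorem chk_rows43_12 : cert.rowsOK 280716 129 = true := by decide +kernel

theorem chk_rows43_13 : cert.rowsOK 280845 129 = true := by decide +kernel

theorem chk_rows43_14 : cert.rowsOK 280974 129 = true := by decide +kernel

theorem chk_rows43_15 : cert.rowsOK 281103 129 = true := by decide +kernel

theorem chk_rows43_16 : cert.rowsOK 281232 129 = true := by decide +kernel

theorem chk_rows43_17 : cert.rowsOK 281361 129 = true := by decide +kernel

theorem chk_rows43_18 : cert.rowsOK 281490 129 = true := by decide +kernel

theorem chk_rows43_19 : cert.rowsOK 281619 129 = true := by decide +kernel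

theorem chk_rows43_20 : cert.rowsOK 281748 129 = true := by decide +kernel

theorem chk_rows43_21 : cert.rowsOK 281877 129 = true := by decide +kernel

theorem chk_rows43_22 : cert.rowsOK 282006 129 = true := by decide +kernel

theorem chk_rows43_23 : cert.rowsOK 282135 129 = true := by decide +kernel

theorem chk_range43 : ∀ a, 279168 ≤ a → a < 282264 → ∀ x < cert.c.g, cert.slotOK a x = true := by
  refine cert.range_of_chunks 279168 129 24 (by norm_num) ?_
  intro k hk
  interval_cases k
  · exact chk_rows43_0
  · exact chk_rows43_1
  · exact chk_rows43_2
  · exact chk_rows43_3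
  · exact chk_rows43_4
  · exact chk_rows43_5
  · exact chk_rows43_6
  · exact chk_rows43_7
  · exact chk_rows43_8
  · exact chk_rows43_9
  · exact chk_rows43_10
  · exact chk_rows43_11
  · exact chk_rows43_12
  · exact chk_rows43_13
  · exact chk_rows43_14
  · exact chk_rows43_15
  · exact chk_rows43_16
  · exact chk_rows43_17
  · exact chk_rows43_18
  · exact chk_rows43_19
  · exact chk_rows43_20
  · exact chk_rows43_21
  · exact chk_rows43_22
  · exact chk_rows43_23

end Cfsg.Agent.Lib.Helper6.Fi24TC
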