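import Cfsg.Agent.Lib.Helper6.Fi24SCert
import Cfsg.Agent.Lib.Helper6.Fi24SRows43

/-! # Fi24: the kernel check of the rows from 303048 on -/

set_option autoImplicit false

namespace Cfsg.Agent.Lib.Helper6.Fi24TC

open Cfsg.Agent.Lib.Helper6.TC Cfsg.Agent.Lib.Helper6.TCS

theorem chk_rows55_0 : cert.rowsOK 303048 56 = true := by decide +kernel

theorem chk_rows55_1 : cert.rowsOK 303104 56 = true := by decide +kernel

theorem chk_rows55_2 : cert.rowsOK 303160 56 = true := by decide +kernel

theorem chk_rows55_3 : cert.rowsOK 303216 56 = true := by decide +kernel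

theorem chk_rows55_4 : cert.rowsOK 303272 56 = true := by decide +kernel

theorem chk_rows55_5 : cert.rowsOK 303328 56 = true := by decide +kernel

theorem chk_rows55_6 : cert.rowsOK 303384 56 = true := by decide +kernel

theorem chk_rows55_7 : cert.rowsOK 303440 56 = true := by decide +kernel

theorem chk_rows55_8 : cert.rowsOK 303496 56 = true := by decide +kernel

theorem chk_rows55_9 : cert.rowsOK 303552 56 = true := by decide +kernel

theorem chk_rows55_10 : cert.rowsOK 303608 56 = true := by decide +kernel

theorem chk_rows55_11 : cert.rowsOK 303664 56 = true := by decide +kernel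

theorem chk_rows55_12 : cert.rowsOK 303720 56 = true := by decide +kernel

theorem chk_rows55_13 : cert.rowsOK 303776 56 = true := by decide +kernel

theorem chk_rows55_14 : cert.rowsOK 303832 56 = true := by decide +kernel

theorem chk_rows55_15 : cert.rowsOK 303888 56 = true := by decide +kernel

theorem chk_rows55_16 : cert.rowsOK 303944 56 = true := by decide +kernel

theorem chk_rows55_17 : cert.rowsOK 304000 56 = true := by decide +kernel

theorem chk_rows55_18 : cert.rowsOK 304056 56 = true := by decide +kernel

theorem chk_rows55_19 : cert.rowsOK 304112 56 = true := by decide +kernel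

theorem chk_rows55_20 : cert.rowsOK 304168 56 = true := by decide +kernel

theorem chk_rows55_21 : cert.rowsOK 304224 56 = true := by decide +kernel

theorem chk_rows55_22 : cert.rowsOK 304280 56 = true := by decide +kernel

theorem chk_rows55_23 : cert.rowsOK 304336 56 = true := by decide +kernel

theorem chk_range55 : ∀ a, 303048 ≤ a → a < 304392 → ∀ x < cert.c.g, cert.slotOK a x = true := by
  refine cert.range_of_chunks 303048 56 24 (by norm_num) ?_
  intro k hk
  interval_cases k
  · exact chk_rows55_0
  · exact chk_rows55_1
  · exact chk_rows55_2
  · exact chk_rows55_3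
  · exact chk_rows55_4
  · exact chk_rows55_5
  · exact chk_rows55_6
  · exact chk_rows55_7
  · exact chk_rows55_8
  · exact chk_rows55_9
  · exact chk_rows55_10
  · exact chk_rows55_11
  · exact chk_rows55_12
  · exact chk_rows55_13
  · exact chk_rows55_14
  · exact chk_rows55_15
  · exact chk_rows55_16
  · exact chk_rows55_17
  · exact chk_rows55_18
  · exact chk_rows55_19
  · exact chk_rows55_20
  · exact chk_rows55_21
  · exact chk_rows55_22
  · exact chk_rows55_23

end Cfsg.Agent.Lib.Helper6.Fi24TC
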