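import Cfsg.Agent.Lib.Helper6.Fi24TCData
import Cfsg.Agent.Lib.Helper6.TCRel3
import Cfsg.Agent.Lib.Helper6.Fi24SFin7

/-! # Fi24: the kernel check of a part of the relators on the coset table -/

set_option autoImplicit false

namespace Cfsg.Agent.Lib.Helper6.Fi24TC

open Cfsg.Agent.Lib.Helper6.TC

theorem chk_pow0_2_0 : tab.minOKc [0, 1] 3 162510 5417 = true := by decide +kernel

theorem chk_pow0_2_1 : tab.minOKc [0, 1] 3 167927 5417 = true := by decide +kernel

theorem chk_pow0_2_2 : tab.minOKc [0, 1] 3 173344 5417 = true := by decide +kernel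

theorem chk_pow0_2_3 : tab.minOKc [0, 1] 3 178761 5417 = true := by decide +kernel

theorem chk_pow0_2_4 : tab.minOKc [0, 1] 3 184178 5417 = true := by decide +kernel

theorem chk_pow0_2_5 : tab.minOKc [0, 1] 3 189595 5417 = true := by decide +kernel

theorem chk_pow0_2_6 : tab.minOKc [0, 1] 3 195012 5417 = true := by decide +kernel

theorem chk_pow0_2_7 : tab.minOKc [0, 1] 3 200429 5417 = true := by decide +kernel

theorem chk_pow0_2_8 : tab.minOKc [0, 1] 3 205846 5417 = true := by decide +kernel

theorem chk_pow0_2_9 : tab.minOKc [0, 1] 3 211263 5417 = true := by decide +kernel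

theorem chk_pow0_2_10 : tab.minOKc [0, 1] 3 216680 5417 = true := by decide +kernel

theorem chk_pow0_2_11 : tab.minOKc [0, 1] 3 222097 5417 = true := by decide +kernel

theorem chk_pow0_2_12 : tab.minOKc [0, 1] 3 227514 5417 = true := by decide +kernel

theorem chk_pow0_2_13 : tab.minOKc [0, 1] 3 232931 5417 = true := by decide +kernel

theorem chk_pow0_2_14 : tab.minOKc [0, 1] 3 238348 5417 = true := by decide +kernel

theorem chk_pow0_2 : tab.minOKc [0, 1] 3 162510 81255 = true := by
  refine tab.minOKc_of_chunks [0, 1] 3 162510 5417 15 (by norm_num) ?_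
  intro i hi
  interval_cases i
  · exact chk_pow0_2_0
  · exact chk_pow0_2_1
  · exact chk_pow0_2_2
  · exact chk_pow0_2_3
  · exact chk_pow0_2_4
  · exact chk_pow0_2_5
  · exact chk_pow0_2_6
  · exact chk_pow0_2_7
  · exact chk_pow0_2_8
  · exact chk_pow0_2_9
  · exact chk_pow0_2_10
  · exact chk_pow0_2_11
  · exact chk_pow0_2_12
  · exact chk_pow0_2_13
  · exact chk_pow0_2_14

theorem chk_pow0_3_0 : tab.minOKc [0, 1] 3 243765 5417 = true := by decide +kernel

theorem chk_pow0_3_1 : tab.minOKc [0, 1] 3 249182 5417 = true := by decide +kernel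

theorem chk_pow0_3_2 : tab.minOKc [0, 1] 3 254599 5417 = true := by decide +kernel

theorem chk_pow0_3_3 : tab.minOKc [0, 1] 3 260016 5417 = true := by decide +kernel

theorem chk_pow0_3_4 : tab.minOKc [0, 1] 3 265433 5417 = true := by decide +kernel

theorem chk_pow0_3_5 : tab.minOKc [0, 1] 3 270850 5417 = true := by decide +kernel

theorem chk_pow0_3_6 : tab.minOKc [0, 1] 3 276267 5417 = true := by decide +kernel

theorem chk_pow0_3_7 : tab.minOKc [0, 1] 3 281684 5417 = true := by decide +kernel

theorem chk_pow0_3_8 : tab.minOKc [0, 1] 3 287101 5417 = true := by decide +kernel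

theorem chk_pow0_3_9 : tab.minOKc [0, 1] 3 292518 5417 = true := by decide +kernel

theorem chk_pow0_3_10 : tab.minOKc [0, 1] 3 297935 5417 = true := by decide +kernel

theorem chk_pow0_3_11 : tab.minOKc [0, 1] 3 303352 5417 = true := by decide +kernel

theorem chk_pow0_3_12 : tab.minOKc [0, 1] 3 308769 5417 = true := by decide +kernel

theorem chk_pow0_3_13 : tab.minOKc [0, 1] 3 314186 5417 = true := by decide +kernel

theorem chk_pow0_3_14 : tab.minOKc [0, 1] 3 319603 5417 = true := by decide +kernel

theorem chk_pow0_3 : tab.minOKc [0, 1] 3 243765 81255 = true := by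
  refine tab.minOKc_of_chunks [0, 1] 3 243765 5417 15 (by norm_num) ?_
  intro i hi
  interval_cases i
  · exact chk_pow0_3_0
  · exact chk_pow0_3_1
  · exact chk_pow0_3_2
  · exact chk_pow0_3_3
  · exact chk_pow0_3_4
  · exact chk_pow0_3_5
  · exact chk_pow0_3_6
  · exact chk_pow0_3_7
  · exact chk_pow0_3_8
  · exact chk_pow0_3_9
  · exact chk_pow0_3_10
  · exact chk_pow0_3_11
  · exact chk_pow0_3_12
  · exact chk_pow0_3_13
  · exact chk_pow0_3_14

end Cfsg.Agent.Lib.Helper6.Fi24TC
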