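import Cfsg.Agent.Lib.Helper6.Fi24SCert
import Cfsg.Agent.Lib.Helper6.Fi24SRows4

/-! # Fi24: the kernel check of the rows from 128160 on -/

set_option autoImplicit false

namespace Cfsg.Agent.Lib.Helper6.Fi24TC

open Cfsg.Agent.Lib.Helper6.TC Cfsg.Agent.Lib.Helper6.TCS

theorem chk_rows16_0 : cert.rowsOK 128160 293 = true := by decide +kernel

theorem chk_rows16_1 : cert.rowsOK 128453 293 = true := by decide +kernel

theorem chk_rows16_2 : cert.rowsOK 128746 293 = true := by decide +kernel

theorem chk_rows16_3 : cert.rowsOK 129039 293 = true := by decide +kernel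

theorem chk_rows16_4 : cert.rowsOK 129332 293 = true := by decide +kernel

theorem chk_rows16_5 : cert.rowsOK 129625 293 = true := by decide +kernel

theorem chk_rows16_6 : cert.rowsOK 129918 293 = true := by decide +kernel

theorem chk_rows16_7 : cert.rowsOK 130211 293 = true := by decide +kernel

theorem chk_rows16_8 : cert.rowsOK 130504 293 = true := by decide +kernel

theorem chk_rows16_9 : cert.rowsOK 130797 293 = true := by decide +kernel

theorem chk_rows16_10 : cert.rowsOK 131090 293 = true := by decide +kernel

theorem chk_rows16_11 : cert.rowsOK 131383 293 = true := by decide +kernel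

theorem chk_rows16_12 : cert.rowsOK 131676 293 = true := by decide +kernel

theorem chk_rows16_13 : cert.rowsOK 131969 293 = true := by decide +kernel

theorem chk_rows16_14 : cert.rowsOK 132262 293 = true := by decide +kernel

theorem chk_rows16_15 : cert.rowsOK 132555 293 = true := by decide +kernel

theorem chk_rows16_16 : cert.rowsOK 132848 293 = true := by decide +kernel

theorem chk_rows16_17 : cert.rowsOK 133141 293 = true := by decide +kernel

theorem chk_rows16_18 : cert.rowsOK 133434 293 = true := by decide +kernel

theorem chk_rows16_19 : cert.rowsOK 133727 293 = true := by decide +kernel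

theorem chk_rows16_20 : cert.rowsOK 134020 293 = true := by decide +kernel

theorem chk_rows16_21 : cert.rowsOK 134313 293 = true := by decide +kernel

theorem chk_rows16_22 : cert.rowsOK 134606 293 = true := by decide +kernel

theorem chk_rows16_23 : cert.rowsOK 134899 293 = true := by decide +kernel

theorem chk_range16 : ∀ a, 128160 ≤ a → a < 135192 → ∀ x < cert.c.g, cert.slotOK a x = true := by
  refine cert.range_of_chunks 128160 293 24 (by norm_num) ?_
  intro k hk
  interval_cases k
  · exact chk_rows16_0
  · exact chk_rows16_1
  · exact chk_rows16_2
  · exact chk_rows16_3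
  · exact chk_rows16_4
  · exact chk_rows16_5
  · exact chk_rows16_6
  · exact chk_rows16_7
  · exact chk_rows16_8
  · exact chk_rows16_9
  · exact chk_rows16_10
  · exact chk_rows16_11
  · exact chk_rows16_12
  · exact chk_rows16_13
  · exact chk_rows16_14
  · exact chk_rows16_15
  · exact chk_rows16_16
  · exact chk_rows16_17
  · exact chk_rows16_18
  · exact chk_rows16_19
  · exact chk_rows16_20
  · exact chk_rows16_21
  · exact chk_rows16_22
  · exact chk_rows16_23

end Cfsg.Agent.Lib.Helper6.Fi24TC
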