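import Cfsg.Agent.Lib.Helper6.Fi24SCert
import Cfsg.Agent.Lib.Helper6.Fi24SRows16

/-! # Fi24: the kernel check of the rows from 213792 on -/

set_option autoImplicit false

namespace Cfsg.Agent.Lib.Helper6.Fi24TC

open Cfsg.Agent.Lib.Helper6.TC Cfsg.Agent.Lib.Helper6.TCS

theorem chk_rows28_0 : cert.rowsOK 213792 249 = true := by decide +kernel

theorem chk_rows28_1 : cert.rowsOK 214041 249 = true := by decide +kernel

theorem chk_rows28_2 : cert.rowsOK 214290 249 = true := by decide +kernel

theorem chk_rows28_3 : cert.rowsOK 214539 249 = true := by decide +kernel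

theorem chk_rows28_4 : cert.rowsOK 214788 249 = true := by decide +kernel

theorem chk_rows28_5 : cert.rowsOK 215037 249 = true := by decide +kernel

theorem chk_rows28_6 : cert.rowsOK 215286 249 = true := by decide +kernel

theorem chk_rows28_7 : cert.rowsOK 215535 249 = true := by decide +kernel

theorem chk_rows28_8 : cert.rowsOK 215784 249 = true := by decide +kernel

theorem chk_rows28_9 : cert.rowsOK 216033 249 = true := by decide +kernel

theorem chk_rows28_10 : cert.rowsOK 216282 249 = true := by decide +kernel

theorem chk_rows28_11 : cert.rowsOK 216531 249 = true := by decide +kernel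

theorem chk_rows28_12 : cert.rowsOK 216780 249 = true := by decide +kernel

theorem chk_rows28_13 : cert.rowsOK 217029 249 = true := by decide +kernel

theorem chk_rows28_14 : cert.rowsOK 217278 249 = true := by decide +kernel

theorem chk_rows28_15 : cert.rowsOK 217527 249 = true := by decide +kernel

theorem chk_rows28_16 : cert.rowsOK 217776 249 = true := by decide +kernel

theorem chk_rows28_17 : cert.rowsOK 218025 249 = true := by decide +kernel

theorem chk_rows28_18 : cert.rowsOK 218274 249 = true := by decide +kernel

theorem chk_rows28_19 : cert.rowsOK 218523 249 = true := by decide +kernel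

theorem chk_rows28_20 : cert.rowsOK 218772 249 = true := by decide +kernel

theorem chk_rows28_21 : cert.rowsOK 219021 249 = true := by decide +kernel

theorem chk_rows28_22 : cert.rowsOK 219270 249 = true := by decide +kernel

theorem chk_rows28_23 : cert.rowsOK 219519 249 = true := by decide +kernel

theorem chk_range28 : ∀ a, 213792 ≤ a → a < 219768 → ∀ x < cert.c.g, cert.slotOK a x = true := by
  refine cert.range_of_chunks 213792 249 24 (by norm_num) ?_
  intro k hk
  interval_cases k
  · exact chk_rows28_0
  · exact chk_rows28_1
  · exact chk_rows28_2
  · exact chk_rows28_3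
  · exact chk_rows28_4
  · exact chk_rows28_5
  · exact chk_rows28_6
  · exact chk_rows28_7
  · exact chk_rows28_8
  · exact chk_rows28_9
  · exact chk_rows28_10
  · exact chk_rows28_11
  · exact chk_rows28_12
  · exact chk_rows28_13
  · exact chk_rows28_14
  · exact chk_rows28_15
  · exact chk_rows28_16
  · exact chk_rows28_17
  · exact chk_rows28_18
  · exact chk_rows28_19
  · exact chk_rows28_20
  · exact chk_rows28_21
  · exact chk_rows28_22
  · exact chk_rows28_23

end Cfsg.Agent.Lib.Helper6.Fi24TC
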