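import Cfsg.Agent.Lib.Helper6.Fi24SCert
import Cfsg.Agent.Lib.Helper6.Fi24SRows28

/-! # Fi24: the kernel check of the rows from 270288 on -/

set_option autoImplicit false

namespace Cfsg.Agent.Lib.Helper6.Fi24TC

open Cfsg.Agent.Lib.Helper6.TC Cfsg.Agent.Lib.Helper6.TCS

theorem chk_rows40_0 : cert.rowsOK 270288 152 = true := by decide +kernel

theorem chk_rows40_1 : cert.rowsOK 270440 152 = true := by decide +kernel

theorem chk_rows40_2 : cert.rowsOK 270592 152 = true := by decide +kernel

theorem chk_rows40_3 : cert.rowsOK 270744 152 = true := by decide +kernel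

theorem chk_rows40_4 : cert.rowsOK 270896 152 = true := by decide +kernel

theorem chk_rows40_5 : cert.rowsOK 271048 152 = true := by decide +kernel

theorem chk_rows40_6 : cert.rowsOK 271200 152 = true := by decide +kernel

theorem chk_rows40_7 : cert.rowsOK 271352 152 = true := by decide +kernel

theorem chk_rows40_8 : cert.rowsOK 271504 152 = true := by decide +kernel

theorem chk_rows40_9 : cert.rowsOK 271656 152 = true := by decide +kernel

theorem chk_rows40_10 : cert.rowsOK 271808 152 = true := by decide +kernel

theorem chk_rows40_11 : cert.rowsOK 271960 152 = true := by decide +kernel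

theorem chk_rows40_12 : cert.rowsOK 272112 152 = true := by decide +kernel

theorem chk_rows40_13 : cert.rowsOK 272264 152 = true := by decide +kernel

theorem chk_rows40_14 : cert.rowsOK 272416 152 = true := by decide +kernel

theorem chk_rows40_15 : cert.rowsOK 272568 152 = true := by decide +kernel

theorem chk_rows40_16 : cert.rowsOK 272720 152 = true := by decide +kernel

theorem chk_rows40_17 : cert.rowsOK 272872 152 = true := by decide +kernel

theorem chk_rows40_18 : cert.rowsOK 273024 152 = true := by decide +kernel

theorem chk_rows40_19 : cert.rowsOK 273176 152 = true := by decide +kernel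

theorem chk_rows40_20 : cert.rowsOK 273328 152 = true := by decide +kernel

theorem chk_rows40_21 : cert.rowsOK 273480 152 = true := by decide +kernel

theorem chk_rows40_22 : cert.rowsOK 273632 152 = true := by decide +kernel

theorem chk_rows40_23 : cert.rowsOK 273784 152 = true := by decide +kernel

theorem chk_range40 : ∀ a, 270288 ≤ a → a < 273936 → ∀ x < cert.c.g, cert.slotOK a x = true := by
  refine cert.range_of_chunks 270288 152 24 (by norm_num) ?_
  intro k hk
  interval_cases k
  · exact chk_rows40_0
  · exact chk_rows40_1
  · exact chk_rows40_2
  · exact chk_rows40_3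
  · exact chk_rows40_4
  · exact chk_rows40_5
  · exact chk_rows40_6
  · exact chk_rows40_7
  · exact chk_rows40_8
  · exact chk_rows40_9
  · exact chk_rows40_10
  · exact chk_rows40_11
  · exact chk_rows40_12
  · exact chk_rows40_13
  · exact chk_rows40_14
  · exact chk_rows40_15
  · exact chk_rows40_16
  · exact chk_rows40_17
  · exact chk_rows40_18
  · exact chk_rows40_19
  · exact chk_rows40_20
  · exact chk_rows40_21
  · exact chk_rows40_22
  · exact chk_rows40_23

end Cfsg.Agent.Lib.Helper6.Fi24TC
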