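import Cfsg.Agent.Lib.Helper6.Fi24SCert
import Cfsg.Agent.Lib.Helper6.Fi24SRows40

/-! # Fi24: the kernel check of the rows from 298776 on -/

set_option autoImplicit false

namespace Cfsg.Agent.Lib.Helper6.Fi24TC

open Cfsg.Agent.Lib.Helper6.TC Cfsg.Agent.Lib.Helper6.TCS

theorem chk_rows52_0 : cert.rowsOK 298776 66 = true := by decide +kernel

theorem chk_rows52_1 : cert.rowsOK 298842 66 = true := by decide +kernel

theorem chk_rows52_2 : cert.rowsOK 298908 66 = true := by decide +kernel

theorem chk_rows52_3 : cert.rowsOK 298974 66 = true := by decide +kernel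

theorem chk_rows52_4 : cert.rowsOK 299040 66 = true := by decide +kernel

theorem chk_rows52_5 : cert.rowsOK 299106 66 = true := by decide +kernel

theorem chk_rows52_6 : cert.rowsOK 299172 66 = true := by decide +kernel

theorem chk_rows52_7 : cert.rowsOK 299238 66 = true := by decide +kernel

theorem chk_rows52_8 : cert.rowsOK 299304 66 = true := by decide +kernel

theorem chk_rows52_9 : cert.rowsOK 299370 66 = true := by decide +kernel

theorem chk_rows52_10 : cert.rowsOK 299436 66 = true := by decide +kernel

theorem chk_rows52_11 : cert.rowsOK 299502 66 = true := by decide +kernel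

theorem chk_rows52_12 : cert.rowsOK 299568 66 = true := by decide +kernel

theorem chk_rows52_13 : cert.rowsOK 299634 66 = true := by decide +kernel

theorem chk_rows52_14 : cert.rowsOK 299700 66 = true := by decide +kernel

theorem chk_rows52_15 : cert.rowsOK 299766 66 = true := by decide +kernel

theorem chk_rows52_16 : cert.rowsOK 299832 66 = true := by decide +kernel

theorem chk_rows52_17 : cert.rowsOK 299898 66 = true := by decide +kernel

theorem chk_rows52_18 : cert.rowsOK 299964 66 = true := by decide +kernel

theorem chk_rows52_19 : cert.rowsOK 300030 66 = true := by decide +kernel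

theorem chk_rows52_20 : cert.rowsOK 300096 66 = true := by decide +kernel

theorem chk_rows52_21 : cert.rowsOK 300162 66 = true := by decide +kernel

theorem chk_rows52_22 : cert.rowsOK 300228 66 = true := by decide +kernel

theorem chk_rows52_23 : cert.rowsOK 300294 66 = true := by decide +kernel

theorem chk_range52 : ∀ a, 298776 ≤ a → a < 300360 → ∀ x < cert.c.g, cert.slotOK a x = true := by
  refine cert.range_of_chunks 298776 66 24 (by norm_num) ?_
  intro k hk
  interval_cases k
  · exact chk_rows52_0
  · exact chk_rows52_1
  · exact chk_rows52_2
  · exact chk_rows52_3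
  · exact chk_rows52_4
  · exact chk_rows52_5
  · exact chk_rows52_6
  · exact chk_rows52_7
  · exact chk_rows52_8
  · exact chk_rows52_9
  · exact chk_rows52_10
  · exact chk_rows52_11
  · exact chk_rows52_12
  · exact chk_rows52_13
  · exact chk_rows52_14
  · exact chk_rows52_15
  · exact chk_rows52_16
  · exact chk_rows52_17
  · exact chk_rows52_18
  · exact chk_rows52_19
  · exact chk_rows52_20
  · exact chk_rows52_21
  · exact chk_rows52_22
  · exact chk_rows52_23

end Cfsg.Agent.Lib.Helper6.Fi24TC
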