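import Cfsg.Agent.Lib.Helper6.Fi24SCert
import Cfsg.Agent.Lib.Helper6.Fi24SRows52

/-! # Fi24: the kernel check of the merge map from row 48000 on -/

set_option autoImplicit false

namespace Cfsg.Agent.Lib.Helper6.Fi24TC

open Cfsg.Agent.Lib.Helper6.TC Cfsg.Agent.Lib.Helper6.TCS

theorem chk_mrows3_0 : cert.mrowsOK 48000 4000 = true := by decide +kernel

theorem chk_mrows3_1 : cert.mrowsOK 52000 4000 = true := by decide +kernel

theorem chk_mrows3_2 : cert.mrowsOK 56000 4000 = true := by decide +kernel

theorem chk_mrows3_3 : cert.mrowsOK 60000 4000 = true := by decide +kernel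

theorem chk_mrange3 : ∀ a, 48000 ≤ a → a < 48000 + 16000 → cert.mslotOK a = true := by
  refine cert.mrange_of_chunks 48000 4000 4 (by norm_num) ?_
  intro k hk
  interval_cases k
  · exact chk_mrows3_0
  · exact chk_mrows3_1
  · exact chk_mrows3_2
  · exact chk_mrows3_3

end Cfsg.Agent.Lib.Helper6.Fi24TC
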