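import Cfsg.Agent.Lib.Helper6.Fi24SCert
import Cfsg.Agent.Lib.Helper6.TCChunk
import Cfsg.Agent.Lib.Helper6.Fi24SMRows15

/-! # Fi24: the kernel check that the first rows are closed, part 4 -/

set_option autoImplicit false

namespace Cfsg.Agent.Lib.Helper6.Fi24TC

open Cfsg.Agent.Lib.Helper6.TC Cfsg.Agent.Lib.Helper6.TCS

theorem chk_fin36 : cert.finalOKc 306936 72000 2000 = true := by decide +kernel

theorem chk_fin37 : cert.finalOKc 306936 74000 2000 = true := by decide +kernel

theorem chk_fin38 : cert.finalOKc 306936 76000 2000 = true := by decide +kernel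

theorem chk_fin39 : cert.finalOKc 306936 78000 2000 = true := by decide +kernel

theorem chk_fin40 : cert.finalOKc 306936 80000 2000 = true := by decide +kernel

theorem chk_fin41 : cert.finalOKc 306936 82000 2000 = true := by decide +kernel

theorem chk_fin42 : cert.finalOKc 306936 84000 2000 = true := by decide +kernel

theorem chk_fin43 : cert.finalOKc 306936 86000 2000 = true := by decide +kernel

theorem chk_fin44 : cert.finalOKc 306936 88000 2000 = true := by decide +kernel

end Cfsg.Agent.Lib.Helper6.Fi24TC
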