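import Cfsg.Agent.Lib.Helper6.Fi24SCert
import Cfsg.Agent.Lib.Helper6.TCChunk
import Cfsg.Agent.Lib.Helper6.Fi24SFin4

/-! # Fi24: the kernel check that the first rows are closed, part 16 -/

set_option autoImplicit false

namespace Cfsg.Agent.Lib.Helper6.Fi24TC

open Cfsg.Agent.Lib.Helper6.TC Cfsg.Agent.Lib.Helper6.TCS

theorem chk_fin144 : cert.finalOKc 306936 288000 2000 = true := by decide +kernel

theorem chk_fin145 : cert.finalOKc 306936 290000 2000 = true := by decide +kernel

theorem chk_fin146 : cert.finalOKc 306936 292000 2000 = true := by decide +kernel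

theorem chk_fin147 : cert.finalOKc 306936 294000 2000 = true := by decide +kernel

theorem chk_fin148 : cert.finalOKc 306936 296000 2000 = true := by decide +kernel

theorem chk_fin149 : cert.finalOKc 306936 298000 2000 = true := by decide +kernel

theorem chk_fin150 : cert.finalOKc 306936 300000 2000 = true := by decide +kernel

theorem chk_fin151 : cert.finalOKc 306936 302000 2000 = true := by decide +kernel

theorem chk_fin152 : cert.finalOKc 306936 304000 2000 = true := by decide +kernel

end Cfsg.Agent.Lib.Helper6.Fi24TC
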