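import Cfsg.Agent.Lib.Helper6.Fi24TCData
import Cfsg.Agent.Lib.Helper6.TCRel3
import Cfsg.Agent.Lib.Helper6.Fi24SFin16

/-! # Fi24: the kernel check of a part of the relators on the coset table -/

set_option autoImplicit false

namespace Cfsg.Agent.Lib.Helper6.Fi24TC

open Cfsg.Agent.Lib.Helper6.TC

theorem chk_pow5_0_0 : tab.minOKc [2, 3] 3 0 5439 = true := by decide +kernel

theorem chk_pow5_0_1 : tab.minOKc [2, 3] 3 5439 5439 = true := by decide +kernel

theorem chk_pow5_0_2 : tab.minOKc [2, 3] 3 10878 5439 = true := by decide +kernel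

theorem chk_pow5_0_3 : tab.minOKc [2, 3] 3 16317 5439 = true := by decide +kernel

theorem chk_pow5_0_4 : tab.minOKc [2, 3] 3 21756 5439 = true := by decide +kernel

theorem chk_pow5_0_5 : tab.minOKc [2, 3] 3 27195 5439 = true := by decide +kernel

theorem chk_pow5_0_6 : tab.minOKc [2, 3] 3 32634 5439 = true := by decide +kernel

theorem chk_pow5_0_7 : tab.minOKc [2, 3] 3 38073 5439 = true := by decide +kernel

theorem chk_pow5_0_8 : tab.minOKc [2, 3] 3 43512 5439 = true := by decide +kernel

theorem chk_pow5_0_9 : tab.minOKc [2, 3] 3 48951 5439 = true := by decide +kernel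

theorem chk_pow5_0_10 : tab.minOKc [2, 3] 3 54390 5439 = true := by decide +kernel

theorem chk_pow5_0_11 : tab.minOKc [2, 3] 3 59829 5439 = true := by decide +kernel

theorem chk_pow5_0_12 : tab.minOKc [2, 3] 3 65268 5439 = true := by decide +kernel

theorem chk_pow5_0_13 : tab.minOKc [2, 3] 3 70707 5439 = true := by decide +kernel

theorem chk_pow5_0_14 : tab.minOKc [2, 3] 3 76146 5439 = true := by decide +kernel

theorem chk_pow5_0 : tab.minOKc [2, 3] 3 0 81585 = true := by
  refine tab.minOKc_of_chunks [2, 3] 3 0 5439 15 (by norm_num) ?_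
  intro i hi
  interval_cases i
  · exact chk_pow5_0_0
  · exact chk_pow5_0_1
  · exact chk_pow5_0_2
  · exact chk_pow5_0_3
  · exact chk_pow5_0_4
  · exact chk_pow5_0_5
  · exact chk_pow5_0_6
  · exact chk_pow5_0_7
  · exact chk_pow5_0_8
  · exact chk_pow5_0_9
  · exact chk_pow5_0_10
  · exact chk_pow5_0_11
  · exact chk_pow5_0_12
  · exact chk_pow5_0_13
  · exact chk_pow5_0_14

theorem chk_pow5_1_0 : tab.minOKc [2, 3] 3 81585 5439 = true := by decide +kernel

theorem chk_pow5_1_1 : tab.minOKc [2, 3] 3 87024 5439 = true := by decide +kernel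

theorem chk_pow5_1_2 : tab.minOKc [2, 3] 3 92463 5439 = true := by decide +kernel

theorem chk_pow5_1_3 : tab.minOKc [2, 3] 3 97902 5439 = true := by decide +kernel

theorem chk_pow5_1_4 : tab.minOKc [2, 3] 3 103341 5439 = true := by decide +kernel

theorem chk_pow5_1_5 : tab.minOKc [2, 3] 3 108780 5439 = true := by decide +kernel

theorem chk_pow5_1_6 : tab.minOKc [2, 3] 3 114219 5439 = true := by decide +kernel

theorem chk_pow5_1_7 : tab.minOKc [2, 3] 3 119658 5439 = true := by decide +kernel

theorem chk_pow5_1_8 : tab.minOKc [2, 3] 3 125097 5439 = true := by decide +kernel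

theorem chk_pow5_1_9 : tab.minOKc [2, 3] 3 130536 5439 = true := by decide +kernel

theorem chk_pow5_1_10 : tab.minOKc [2, 3] 3 135975 5439 = true := by decide +kernel

theorem chk_pow5_1_11 : tab.minOKc [2, 3] 3 141414 5439 = true := by decide +kernel

theorem chk_pow5_1_12 : tab.minOKc [2, 3] 3 146853 5439 = true := by decide +kernel

theorem chk_pow5_1_13 : tab.minOKc [2, 3] 3 152292 5439 = true := by decide +kernel

theorem chk_pow5_1_14 : tab.minOKc [2, 3] 3 157731 5439 = true := by decide +kernel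

theorem chk_pow5_1 : tab.minOKc [2, 3] 3 81585 81585 = true := by
  refine tab.minOKc_of_chunks [2, 3] 3 81585 5439 15 (by norm_num) ?_
  intro i hi
  interval_cases i
  · exact chk_pow5_1_0
  · exact chk_pow5_1_1
  · exact chk_pow5_1_2
  · exact chk_pow5_1_3
  · exact chk_pow5_1_4
  · exact chk_pow5_1_5
  · exact chk_pow5_1_6
  · exact chk_pow5_1_7
  · exact chk_pow5_1_8
  · exact chk_pow5_1_9
  · exact chk_pow5_1_10
  · exact chk_pow5_1_11
  · exact chk_pow5_1_12
  · exact chk_pow5_1_13
  · exact chk_pow5_1_14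

end Cfsg.Agent.Lib.Helper6.Fi24TC
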