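import Cfsg.Agent.Lib.Helper6.Fi24SCert

/-! # Fi24: the kernel check of the rows from 85776 on -/

set_option autoImplicit false

namespace Cfsg.Agent.Lib.Helper6.Fi24TC

open Cfsg.Agent.Lib.Helper6.TC Cfsg.Agent.Lib.Helper6.TCS

theorem chk_rows10_0 : cert.rowsOK 85776 345 = true := by decide +kernel

theorem chk_rows10_1 : cert.rowsOK 86121 345 = true := by decide +kernel

theorem chk_rows10_2 : cert.rowsOK 86466 345 = true := by decide +kernel

theorem chk_rows10_3 : cert.rowsOK 86811 345 = true := by decide +kernel

theorem chk_rows10_4 : cert.rowsOK 87156 345 = true := by decide +kernel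

theorem chk_rows10_5 : cert.rowsOK 87501 345 = true := by decide +kernel

theorem chk_rows10_6 : cert.rowsOK 87846 345 = true := by decide +kernel

theorem chk_rows10_7 : cert.rowsOK 88191 345 = true := by decide +kernel

theorem chk_rows10_8 : cert.rowsOK 88536 345 = true := by decide +kernel

theorem chk_rows10_9 : cert.rowsOK 88881 345 = true := by decide +kernel

theorem chk_rows10_10 : cert.rowsOK 89226 345 = true := by decide +kernel

theorem chk_rows10_11 : cert.rowsOK 89571 345 = true := by decide +kernel

theorem chk_rows10_12 : cert.rowsOK 89916 345 = true := by decide +kernel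

theorem chk_rows10_13 : cert.rowsOK 90261 345 = true := by decide +kernel

theorem chk_rows10_14 : cert.rowsOK 90606 345 = true := by decide +kernel

theorem chk_rows10_15 : cert.rowsOK 90951 345 = true := by decide +kernel

theorem chk_rows10_16 : cert.rowsOK 91296 345 = true := by decide +kernel

theorem chk_rows10_17 : cert.rowsOK 91641 345 = true := by decide +kernel

theorem chk_rows10_18 : cert.rowsOK 91986 345 = true := by decide +kernel

theorem chk_rows10_19 : cert.rowsOK 92331 345 = true := by decide +kernel

theorem chk_rows10_20 : cert.rowsOK 92676 345 = true := by decide +kernel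

theorem chk_rows10_21 : cert.rowsOK 93021 345 = true := by decide +kernel

theorem chk_rows10_22 : cert.rowsOK 93366 345 = true := by decide +kernel

theorem chk_rows10_23 : cert.rowsOK 93711 345 = true := by decide +kernel

theorem chk_range10 : ∀ a, 85776 ≤ a → a < 94056 → ∀ x < cert.c.g, cert.slotOK a x = true := by
  refine cert.range_of_chunks 85776 345 24 (by norm_num) ?_
  intro k hk
  interval_cases k
  · exact chk_rows10_0
  · exact chk_rows10_1
  · exact chk_rows10_2
  · exact chk_rows10_3
  · exact chk_rows10_4
  · exact chk_rows10_5
  · exact chk_rows10_6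
  · exact chk_rows10_7
  · exact chk_rows10_8
  · exact chk_rows10_9
  · exact chk_rows10_10
  · exact chk_rows10_11
  · exact chk_rows10_12
  · exact chk_rows10_13
  · exact chk_rows10_14
  · exact chk_rows10_15
  · exact chk_rows10_16
  · exact chk_rows10_17
  · exact chk_rows10_18
  · exact chk_rows10_19
  · exact chk_rows10_20
  · exact chk_rows10_21
  · exact chk_rows10_22
  · exact chk_rows10_23

end Cfsg.Agent.Lib.Helper6.Fi24TC
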