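import Cfsg.Agent.Lib.Helper6.Fi24SCert
import Cfsg.Agent.Lib.Helper6.Fi24SRows10

/-! # Fi24: the kernel check of the rows from 171600 on -/

set_option autoImplicit false

namespace Cfsg.Agent.Lib.Helper6.Fi24TC

open Cfsg.Agent.Lib.Helper6.TC Cfsg.Agent.Lib.Helper6.TCS

theorem chk_rows22_0 : cert.rowsOK 171600 293 = true := by decide +kernel

theorem chk_rows22_1 : cert.rowsOK 171893 293 = true := by decide +kernel

theorem chk_rows22_2 : cert.rowsOK 172186 293 = true := by decide +kernel

theorem chk_rows22_3 : cert.rowsOK 172479 293 = true := by decide +kernel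

theorem chk_rows22_4 : cert.rowsOK 172772 293 = true := by decide +kernel

theorem chk_rows22_5 : cert.rowsOK 173065 293 = true := by decide +kernel

theorem chk_rows22_6 : cert.rowsOK 173358 293 = true := by decide +kernel

theorem chk_rows22_7 : cert.rowsOK 173651 293 = true := by decide +kernel

theorem chk_rows22_8 : cert.rowsOK 173944 293 = true := by decide +kernel

theorem chk_rows22_9 : cert.rowsOK 174237 293 = true := by decide +kernel

theorem chk_rows22_10 : cert.rowsOK 174530 293 = true := by decide +kernel

theorem chk_rows22_11 : cert.rowsOK 174823 293 = true := by decide +kernel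

theorem chk_rows22_12 : cert.rowsOK 175116 293 = true := by decide +kernel

theorem chk_rows22_13 : cert.rowsOK 175409 293 = true := by decide +kernel

theorem chk_rows22_14 : cert.rowsOK 175702 293 = true := by decide +kernel

theorem chk_rows22_15 : cert.rowsOK 175995 293 = true := by decide +kernel

theorem chk_rows22_16 : cert.rowsOK 176288 293 = true := by decide +kernel

theorem chk_rows22_17 : cert.rowsOK 176581 293 = true := by decide +kernel

theorem chk_rows22_18 : cert.rowsOK 176874 293 = true := by decide +kernel

theorem chk_rows22_19 : cert.rowsOK 177167 293 = true := by decide +kernel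

theorem chk_rows22_20 : cert.rowsOK 177460 293 = true := by decide +kernel

theorem chk_rows22_21 : cert.rowsOK 177753 293 = true := by decide +kernel

theorem chk_rows22_22 : cert.rowsOK 178046 293 = true := by decide +kernel

theorem chk_rows22_23 : cert.rowsOK 178339 293 = true := by decide +kernel

theorem chk_range22 : ∀ a, 171600 ≤ a → a < 178632 → ∀ x < cert.c.g, cert.slotOK a x = true := by
  refine cert.range_of_chunks 171600 293 24 (by norm_num) ?_
  intro k hk
  interval_cases k
  · exact chk_rows22_0
  · exact chk_rows22_1
  · exact chk_rows22_2
  · exact chk_rows22_3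
  · exact chk_rows22_4
  · exact chk_rows22_5
  · exact chk_rows22_6
  · exact chk_rows22_7
  · exact chk_rows22_8
  · exact chk_rows22_9
  · exact chk_rows22_10
  · exact chk_rows22_11
  · exact chk_rows22_12
  · exact chk_rows22_13
  · exact chk_rows22_14
  · exact chk_rows22_15
  · exact chk_rows22_16
  · exact chk_rows22_17
  · exact chk_rows22_18
  · exact chk_rows22_19
  · exact chk_rows22_20
  · exact chk_rows22_21
  · exact chk_rows22_22
  · exact chk_rows22_23

end Cfsg.Agent.Lib.Helper6.Fi24TC
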