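import Cfsg.Agent.Lib.Helper6.Fi24SCert
import Cfsg.Agent.Lib.Helper6.Fi24SRows22

/-! # Fi24: the kernel check of the rows from 246144 on -/

set_option autoImplicit false

namespace Cfsg.Agent.Lib.Helper6.Fi24TC

open Cfsg.Agent.Lib.Helper6.TC Cfsg.Agent.Lib.Helper6.TCS

theorem chk_rows34_0 : cert.rowsOK 246144 211 = true := by decide +kernel

theorem chk_rows34_1 : cert.rowsOK 246355 211 = true := by decide +kernel

theorem chk_rows34_2 : cert.rowsOK 246566 211 = true := by decide +kernel

theorem chk_rows34_3 : cert.rowsOK 246777 211 = true := by decide +kernel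

theorem chk_rows34_4 : cert.rowsOK 246988 211 = true := by decide +kernel

theorem chk_rows34_5 : cert.rowsOK 247199 211 = true := by decide +kernel

theorem chk_rows34_6 : cert.rowsOK 247410 211 = true := by decide +kernel

theorem chk_rows34_7 : cert.rowsOK 247621 211 = true := by decide +kernel

theorem chk_rows34_8 : cert.rowsOK 247832 211 = true := by decide +kernel

theorem chk_rows34_9 : cert.rowsOK 248043 211 = true := by decide +kernel

theorem chk_rows34_10 : cert.rowsOK 248254 211 = true := by decide +kernel

theorem chk_rows34_11 : cert.rowsOK 248465 211 = true := by decide +kernel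

theorem chk_rows34_12 : cert.rowsOK 248676 211 = true := by decide +kernel

theorem chk_rows34_13 : cert.rowsOK 248887 211 = true := by decide +kernel

theorem chk_rows34_14 : cert.rowsOK 249098 211 = true := by decide +kernel

theorem chk_rows34_15 : cert.rowsOK 249309 211 = true := by decide +kernel

theorem chk_rows34_16 : cert.rowsOK 249520 211 = true := by decide +kernel

theorem chk_rows34_17 : cert.rowsOK 249731 211 = true := by decide +kernel

theorem chk_rows34_18 : cert.rowsOK 249942 211 = true := by decide +kernel

theorem chk_rows34_19 : cert.rowsOK 250153 211 = true := by decide +kernel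

theorem chk_rows34_20 : cert.rowsOK 250364 211 = true := by decide +kernel

theorem chk_rows34_21 : cert.rowsOK 250575 211 = true := by decide +kernel

theorem chk_rows34_22 : cert.rowsOK 250786 211 = true := by decide +kernel

theorem chk_rows34_23 : cert.rowsOK 250997 211 = true := by decide +kernel

theorem chk_range34 : ∀ a, 246144 ≤ a → a < 251208 → ∀ x < cert.c.g, cert.slotOK a x = true := by
  refine cert.range_of_chunks 246144 211 24 (by norm_num) ?_
  intro k hk
  interval_cases k
  · exact chk_rows34_0
  · exact chk_rows34_1
  · exact chk_rows34_2
  · exact chk_rows34_3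
  · exact chk_rows34_4
  · exact chk_rows34_5
  · exact chk_rows34_6
  · exact chk_rows34_7
  · exact chk_rows34_8
  · exact chk_rows34_9
  · exact chk_rows34_10
  · exact chk_rows34_11
  · exact chk_rows34_12
  · exact chk_rows34_13
  · exact chk_rows34_14
  · exact chk_rows34_15
  · exact chk_rows34_16
  · exact chk_rows34_17
  · exact chk_rows34_18
  · exact chk_rows34_19
  · exact chk_rows34_20
  · exact chk_rows34_21
  · exact chk_rows34_22
  · exact chk_rows34_23

end Cfsg.Agent.Lib.Helper6.Fi24TC
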