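import Cfsg.Agent.Lib.Helper6.Fi24SCert
import Cfsg.Agent.Lib.Helper6.Fi24SRows34

/-! # Fi24: the kernel check of the rows from 286752 on -/

set_option autoImplicit false

namespace Cfsg.Agent.Lib.Helper6.Fi24TC

open Cfsg.Agent.Lib.Helper6.TC Cfsg.Agent.Lib.Helper6.TCS

theorem chk_rows46_0 : cert.rowsOK 286752 109 = true := by decide +kernel

theorem chk_rows46_1 : cert.rowsOK 286861 109 = true := by decide +kernel

theorem chk_rows46_2 : cert.rowsOK 286970 109 = true := by decide +kernel

theorem chk_rows46_3 : cert.rowsOK 287079 109 = true := by decide +kernel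

theorem chk_rows46_4 : cert.rowsOK 287188 109 = true := by decide +kernel

theorem chk_rows46_5 : cert.rowsOK 287297 109 = true := by decide +kernel

theorem chk_rows46_6 : cert.rowsOK 287406 109 = true := by decide +kernel

theorem chk_rows46_7 : cert.rowsOK 287515 109 = true := by decide +kernel

theorem chk_rows46_8 : cert.rowsOK 287624 109 = true := by decide +kernel

theorem chk_rows46_9 : cert.rowsOK 287733 109 = true := by decide +kernel

theorem chk_rows46_10 : cert.rowsOK 287842 109 = true := by decide +kernel

theorem chk_rows46_11 : cert.rowsOK 287951 109 = true := by decide +kernel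

theorem chk_rows46_12 : cert.rowsOK 288060 109 = true := by decide +kernel

theorem chk_rows46_13 : cert.rowsOK 288169 109 = true := by decide +kernel

theorem chk_rows46_14 : cert.rowsOK 288278 109 = true := by decide +kernel

theorem chk_rows46_15 : cert.rowsOK 288387 109 = true := by decide +kernel

theorem chk_rows46_16 : cert.rowsOK 288496 109 = true := by decide +kernel

theorem chk_rows46_17 : cert.rowsOK 288605 109 = true := by decide +kernel

theorem chk_rows46_18 : cert.rowsOK 288714 109 = true := by decide +kernel

theorem chk_rows46_19 : cert.rowsOK 288823 109 = true := by decide +kernel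

theorem chk_rows46_20 : cert.rowsOK 288932 109 = true := by decide +kernel

theorem chk_rows46_21 : cert.rowsOK 289041 109 = true := by decide +kernel

theorem chk_rows46_22 : cert.rowsOK 289150 109 = true := by decide +kernel

theorem chk_rows46_23 : cert.rowsOK 289259 109 = true := by decide +kernel

theorem chk_range46 : ∀ a, 286752 ≤ a → a < 289368 → ∀ x < cert.c.g, cert.slotOK a x = true := by
  refine cert.range_of_chunks 286752 109 24 (by norm_num) ?_
  intro k hk
  interval_cases k
  · exact chk_rows46_0
  · exact chk_rows46_1
  · exact chk_rows46_2
  · exact chk_rows46_3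
  · exact chk_rows46_4
  · exact chk_rows46_5
  · exact chk_rows46_6
  · exact chk_rows46_7
  · exact chk_rows46_8
  · exact chk_rows46_9
  · exact chk_rows46_10
  · exact chk_rows46_11
  · exact chk_rows46_12
  · exact chk_rows46_13
  · exact chk_rows46_14
  · exact chk_rows46_15
  · exact chk_rows46_16
  · exact chk_rows46_17
  · exact chk_rows46_18
  · exact chk_rows46_19
  · exact chk_rows46_20
  · exact chk_rows46_21
  · exact chk_rows46_22
  · exact chk_rows46_23

end Cfsg.Agent.Lib.Helper6.Fi24TC
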