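import Cfsg.Agent.Lib.Helper6.Fi24SCert
import Cfsg.Agent.Lib.Helper6.Fi24SRows46

/-! # Fi24: the kernel check of the rows from 306456 on -/

set_option autoImplicit false

namespace Cfsg.Agent.Lib.Helper6.Fi24TC

open Cfsg.Agent.Lib.Helper6.TC Cfsg.Agent.Lib.Helper6.TCS

theorem chk_rows58_0 : cert.rowsOK 306456 47 = true := by decide +kernel

theorem chk_rows58_1 : cert.rowsOK 306503 47 = true := by decide +kernel

theorem chk_rows58_2 : cert.rowsOK 306550 47 = true := by decide +kernel

theorem chk_rows58_3 : cert.rowsOK 306597 47 = true := by decide +kernel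

theorem chk_rows58_4 : cert.rowsOK 306644 47 = true := by decide +kernel

theorem chk_rows58_5 : cert.rowsOK 306691 47 = true := by decide +kernel

theorem chk_rows58_6 : cert.rowsOK 306738 47 = true := by decide +kernel

theorem chk_rows58_7 : cert.rowsOK 306785 47 = true := by decide +kernel

theorem chk_rows58_8 : cert.rowsOK 306832 47 = true := by decide +kernel

theorem chk_rows58_9 : cert.rowsOK 306879 47 = true := by decide +kernel

theorem chk_rows58_10 : cert.rowsOK 306926 47 = true := by decide +kernel

theorem chk_rows58_11 : cert.rowsOK 306973 47 = true := by decide +kernel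

theorem chk_rows58_12 : cert.rowsOK 307020 47 = true := by decide +kernel

theorem chk_rows58_13 : cert.rowsOK 307067 47 = true := by decide +kernel

theorem chk_rows58_14 : cert.rowsOK 307114 47 = true := by decide +kernel

theorem chk_rows58_15 : cert.rowsOK 307161 47 = true := by decide +kernel

theorem chk_rows58_16 : cert.rowsOK 307208 47 = true := by decide +kernel

theorem chk_rows58_17 : cert.rowsOK 307255 47 = true := by decide +kernel

theorem chk_rows58_18 : cert.rowsOK 307302 47 = true := by decide +kernel

theorem chk_rows58_19 : cert.rowsOK 307349 47 = true := by decide +kernel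

theorem chk_rows58_20 : cert.rowsOK 307396 47 = true := by decide +kernel

theorem chk_rows58_21 : cert.rowsOK 307443 47 = true := by decide +kernel

theorem chk_rows58_22 : cert.rowsOK 307490 47 = true := by decide +kernel

theorem chk_rows58_23 : cert.rowsOK 307537 47 = true := by decide +kernel

theorem chk_range58 : ∀ a, 306456 ≤ a → a < 307584 → ∀ x < cert.c.g, cert.slotOK a x = true := by
  refine cert.range_of_chunks 306456 47 24 (by norm_num) ?_
  intro k hk
  interval_cases k
  · exact chk_rows58_0
  · exact chk_rows58_1
  · exact chk_rows58_2
  · exact chk_rows58_3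
  · exact chk_rows58_4
  · exact chk_rows58_5
  · exact chk_rows58_6
  · exact chk_rows58_7
  · exact chk_rows58_8
  · exact chk_rows58_9
  · exact chk_rows58_10
  · exact chk_rows58_11
  · exact chk_rows58_12
  · exact chk_rows58_13
  · exact chk_rows58_14
  · exact chk_rows58_15
  · exact chk_rows58_16
  · exact chk_rows58_17
  · exact chk_rows58_18
  · exact chk_rows58_19
  · exact chk_rows58_20
  · exact chk_rows58_21
  · exact chk_rows58_22
  · exact chk_rows58_23

end Cfsg.Agent.Lib.Helper6.Fi24TC
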