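import Cfsg.Agent.Lib.Helper6.Fi24TCData
import Cfsg.Agent.Lib.Helper6.TCRel3
import Cfsg.Agent.Lib.Helper6.Fi24SFin10

/-! # Fi24: the kernel check of a part of the relators on the coset table -/

set_option autoImplicit false

namespace Cfsg.Agent.Lib.Helper6.Fi24TC

open Cfsg.Agent.Lib.Helper6.TC

theorem chk_pow2_0_0 : tab.minOKc [1, 2] 3 0 5279 = true := by decide +kernel

theorem chk_pow2_0_1 : tab.minOKc [1, 2] 3 5279 5279 = true := by decide +kernel

theorem chk_pow2_0_2 : tab.minOKc [1, 2] 3 10558 5279 = true := by decide +kernel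

theorem chk_pow2_0_3 : tab.minOKc [1, 2] 3 15837 5279 = true := by decide +kernel

theorem chk_pow2_0_4 : tab.minOKc [1, 2] 3 21116 5279 = true := by decide +kernel

theorem chk_pow2_0_5 : tab.minOKc [1, 2] 3 26395 5279 = true := by decide +kernel

theorem chk_pow2_0_6 : tab.minOKc [1, 2] 3 31674 5279 = true := by decide +kernel

theorem chk_pow2_0_7 : tab.minOKc [1, 2] 3 36953 5279 = true := by decide +kernel

theorem chk_pow2_0_8 : tab.minOKc [1, 2] 3 42232 5279 = true := by decide +kernel

theorem chk_pow2_0_9 : tab.minOKc [1, 2] 3 47511 5279 = true := by decide +kernel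

theorem chk_pow2_0_10 : tab.minOKc [1, 2] 3 52790 5279 = true := by decide +kernel

theorem chk_pow2_0_11 : tab.minOKc [1, 2] 3 58069 5279 = true := by decide +kernel

theorem chk_pow2_0_12 : tab.minOKc [1, 2] 3 63348 5279 = true := by decide +kernel

theorem chk_pow2_0_13 : tab.minOKc [1, 2] 3 68627 5279 = true := by decide +kernel

theorem chk_pow2_0_14 : tab.minOKc [1, 2] 3 73906 5279 = true := by decide +kernel

theorem chk_pow2_0 : tab.minOKc [1, 2] 3 0 79185 = true := by
  refine tab.minOKc_of_chunks [1, 2] 3 0 5279 15 (by norm_num) ?_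
  intro i hi
  interval_cases i
  · exact chk_pow2_0_0
  · exact chk_pow2_0_1
  · exact chk_pow2_0_2
  · exact chk_pow2_0_3
  · exact chk_pow2_0_4
  · exact chk_pow2_0_5
  · exact chk_pow2_0_6
  · exact chk_pow2_0_7
  · exact chk_pow2_0_8
  · exact chk_pow2_0_9
  · exact chk_pow2_0_10
  · exact chk_pow2_0_11
  · exact chk_pow2_0_12
  · exact chk_pow2_0_13
  · exact chk_pow2_0_14

theorem chk_pow2_1_0 : tab.minOKc [1, 2] 3 79185 5279 = true := by decide +kernel

theorem chk_pow2_1_1 : tab.minOKc [1, 2] 3 84464 5279 = true := by decide +kernel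

theorem chk_pow2_1_2 : tab.minOKc [1, 2] 3 89743 5279 = true := by decide +kernel

theorem chk_pow2_1_3 : tab.minOKc [1, 2] 3 95022 5279 = true := by decide +kernel

theorem chk_pow2_1_4 : tab.minOKc [1, 2] 3 100301 5279 = true := by decide +kernel

theorem chk_pow2_1_5 : tab.minOKc [1, 2] 3 105580 5279 = true := by decide +kernel

theorem chk_pow2_1_6 : tab.minOKc [1, 2] 3 110859 5279 = true := by decide +kernel

theorem chk_pow2_1_7 : tab.minOKc [1, 2] 3 116138 5279 = true := by decide +kernel

theorem chk_pow2_1_8 : tab.minOKc [1, 2] 3 121417 5279 = true := by decide +kernel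

theorem chk_pow2_1_9 : tab.minOKc [1, 2] 3 126696 5279 = true := by decide +kernel

theorem chk_pow2_1_10 : tab.minOKc [1, 2] 3 131975 5279 = true := by decide +kernel

theorem chk_pow2_1_11 : tab.minOKc [1, 2] 3 137254 5279 = true := by decide +kernel

theorem chk_pow2_1_12 : tab.minOKc [1, 2] 3 142533 5279 = true := by decide +kernel

theorem chk_pow2_1_13 : tab.minOKc [1, 2] 3 147812 5279 = true := by decide +kernel

theorem chk_pow2_1_14 : tab.minOKc [1, 2] 3 153091 5279 = true := by decide +kernel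

theorem chk_pow2_1 : tab.minOKc [1, 2] 3 79185 79185 = true := by
  refine tab.minOKc_of_chunks [1, 2] 3 79185 5279 15 (by norm_num) ?_
  intro i hi
  interval_cases i
  · exact chk_pow2_1_0
  · exact chk_pow2_1_1
  · exact chk_pow2_1_2
  · exact chk_pow2_1_3
  · exact chk_pow2_1_4
  · exact chk_pow2_1_5
  · exact chk_pow2_1_6
  · exact chk_pow2_1_7
  · exact chk_pow2_1_8
  · exact chk_pow2_1_9
  · exact chk_pow2_1_10
  · exact chk_pow2_1_11
  · exact chk_pow2_1_12
  · exact chk_pow2_1_13
  · exact chk_pow2_1_14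

end Cfsg.Agent.Lib.Helper6.Fi24TC
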