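import Cfsg.Agent.Lib.Helper6.Fi24TCData
import Cfsg.Agent.Lib.Helper6.TCRel3
import Cfsg.Agent.Lib.Helper6.Fi24TCRel4

/-! # Fi24: the kernel check of a part of the relators on the coset table -/

set_option autoImplicit false

namespace Cfsg.Agent.Lib.Helper6.Fi24TC

open Cfsg.Agent.Lib.Helper6.TC

theorem chk_pow8_0_0 : tab.minOKc [2, 4] 2 0 6668 = true := by decide +kernel

theorem chk_pow8_0_1 : tab.minOKc [2, 4] 2 6668 6668 = true := by decide +kernel

theorem chk_pow8_0_2 : tab.minOKc [2, 4] 2 13336 6668 = true := by decide +kernel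

theorem chk_pow8_0_3 : tab.minOKc [2, 4] 2 20004 6668 = true := by decide +kernel

theorem chk_pow8_0_4 : tab.minOKc [2, 4] 2 26672 6668 = true := by decide +kernel

theorem chk_pow8_0_5 : tab.minOKc [2, 4] 2 33340 6668 = true := by decide +kernel

theorem chk_pow8_0_6 : tab.minOKc [2, 4] 2 40008 6668 = true := by decide +kernel

theorem chk_pow8_0_7 : tab.minOKc [2, 4] 2 46676 6668 = true := by decide +kernel

theorem chk_pow8_0_8 : tab.minOKc [2, 4] 2 53344 6668 = true := by decide +kernel

theorem chk_pow8_0_9 : tab.minOKc [2, 4] 2 60012 6668 = true := by decide +kernel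

theorem chk_pow8_0_10 : tab.minOKc [2, 4] 2 66680 6668 = true := by decide +kernel

theorem chk_pow8_0_11 : tab.minOKc [2, 4] 2 73348 6668 = true := by decide +kernel

theorem chk_pow8_0_12 : tab.minOKc [2, 4] 2 80016 6668 = true := by decide +kernel

theorem chk_pow8_0_13 : tab.minOKc [2, 4] 2 86684 6668 = true := by decide +kernel

theorem chk_pow8_0_14 : tab.minOKc [2, 4] 2 93352 6668 = true := by decide +kernel

theorem chk_pow8_0 : tab.minOKc [2, 4] 2 0 100020 = true := by
  refine tab.minOKc_of_chunks [2, 4] 2 0 6668 15 (by norm_num) ?_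
  intro i hi
  interval_cases i
  · exact chk_pow8_0_0
  · exact chk_pow8_0_1
  · exact chk_pow8_0_2
  · exact chk_pow8_0_3
  · exact chk_pow8_0_4
  · exact chk_pow8_0_5
  · exact chk_pow8_0_6
  · exact chk_pow8_0_7
  · exact chk_pow8_0_8
  · exact chk_pow8_0_9
  · exact chk_pow8_0_10
  · exact chk_pow8_0_11
  · exact chk_pow8_0_12
  · exact chk_pow8_0_13
  · exact chk_pow8_0_14

theorem chk_pow8_1_0 : tab.minOKc [2, 4] 2 100020 6668 = true := by decide +kernel

theorem chk_pow8_1_1 : tab.minOKc [2, 4] 2 106688 6668 = true := by decide +kernel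

theorem chk_pow8_1_2 : tab.minOKc [2, 4] 2 113356 6668 = true := by decide +kernel

theorem chk_pow8_1_3 : tab.minOKc [2, 4] 2 120024 6668 = true := by decide +kernel

theorem chk_pow8_1_4 : tab.minOKc [2, 4] 2 126692 6668 = true := by decide +kernel

theorem chk_pow8_1_5 : tab.minOKc [2, 4] 2 133360 6668 = true := by decide +kernel

theorem chk_pow8_1_6 : tab.minOKc [2, 4] 2 140028 6668 = true := by decide +kernel

theorem chk_pow8_1_7 : tab.minOKc [2, 4] 2 146696 6668 = true := by decide +kernel

theorem chk_pow8_1_8 : tab.minOKc [2, 4] 2 153364 6668 = true := by decide +kernel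

theorem chk_pow8_1_9 : tab.minOKc [2, 4] 2 160032 6668 = true := by decide +kernel

theorem chk_pow8_1_10 : tab.minOKc [2, 4] 2 166700 6668 = true := by decide +kernel

theorem chk_pow8_1_11 : tab.minOKc [2, 4] 2 173368 6668 = true := by decide +kernel

theorem chk_pow8_1_12 : tab.minOKc [2, 4] 2 180036 6668 = true := by decide +kernel

theorem chk_pow8_1_13 : tab.minOKc [2, 4] 2 186704 6668 = true := by decide +kernel

theorem chk_pow8_1_14 : tab.minOKc [2, 4] 2 193372 6668 = true := by decide +kernel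

theorem chk_pow8_1 : tab.minOKc [2, 4] 2 100020 100020 = true := by
  refine tab.minOKc_of_chunks [2, 4] 2 100020 6668 15 (by norm_num) ?_
  intro i hi
  interval_cases i
  · exact chk_pow8_1_0
  · exact chk_pow8_1_1
  · exact chk_pow8_1_2
  · exact chk_pow8_1_3
  · exact chk_pow8_1_4
  · exact chk_pow8_1_5
  · exact chk_pow8_1_6
  · exact chk_pow8_1_7
  · exact chk_pow8_1_8
  · exact chk_pow8_1_9
  · exact chk_pow8_1_10
  · exact chk_pow8_1_11
  · exact chk_pow8_1_12
  · exact chk_pow8_1_13
  · exact chk_pow8_1_14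

end Cfsg.Agent.Lib.Helper6.Fi24TC
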