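import Cfsg.Agent.Lib.Helper6.Fi24TCData
import Cfsg.Agent.Lib.Helper6.TCRel3
import Cfsg.Agent.Lib.Helper6.Fi24TCRel16

/-! # Fi24: the kernel check of a part of the relators on the coset table -/

set_option autoImplicit false

namespace Cfsg.Agent.Lib.Helper6.Fi24TC

open Cfsg.Agent.Lib.Helper6.TC

theorem chk_pow14_0_0 : tab.minOKc [4, 5] 3 0 5350 = true := by decide +kernel

theorem chk_pow14_0_1 : tab.minOKc [4, 5] 3 5350 5350 = true := by decide +kernel

theorem chk_pow14_0_2 : tab.minOKc [4, 5] 3 10700 5350 = true := by decide +kernel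

theorem chk_pow14_0_3 : tab.minOKc [4, 5] 3 16050 5350 = true := by decide +kernel

theorem chk_pow14_0_4 : tab.minOKc [4, 5] 3 21400 5350 = true := by decide +kernel

theorem chk_pow14_0_5 : tab.minOKc [4, 5] 3 26750 5350 = true := by decide +kernel

theorem chk_pow14_0_6 : tab.minOKc [4, 5] 3 32100 5350 = true := by decide +kernel

theorem chk_pow14_0_7 : tab.minOKc [4, 5] 3 37450 5350 = true := by decide +kernel

theorem chk_pow14_0_8 : tab.minOKc [4, 5] 3 42800 5350 = true := by decide +kernel

theorem chk_pow14_0_9 : tab.minOKc [4, 5] 3 48150 5350 = true := by decide +kernel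

theorem chk_pow14_0_10 : tab.minOKc [4, 5] 3 53500 5350 = true := by decide +kernel

theorem chk_pow14_0_11 : tab.minOKc [4, 5] 3 58850 5350 = true := by decide +kernel

theorem chk_pow14_0_12 : tab.minOKc [4, 5] 3 64200 5350 = true := by decide +kernel

theorem chk_pow14_0_13 : tab.minOKc [4, 5] 3 69550 5350 = true := by decide +kernel

theorem chk_pow14_0_14 : tab.minOKc [4, 5] 3 74900 5350 = true := by decide +kernel

theorem chk_pow14_0 : tab.minOKc [4, 5] 3 0 80250 = true := by
  refine tab.minOKc_of_chunks [4, 5] 3 0 5350 15 (by norm_num) ?_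
  intro i hi
  interval_cases i
  · exact chk_pow14_0_0
  · exact chk_pow14_0_1
  · exact chk_pow14_0_2
  · exact chk_pow14_0_3
  · exact chk_pow14_0_4
  · exact chk_pow14_0_5
  · exact chk_pow14_0_6
  · exact chk_pow14_0_7
  · exact chk_pow14_0_8
  · exact chk_pow14_0_9
  · exact chk_pow14_0_10
  · exact chk_pow14_0_11
  · exact chk_pow14_0_12
  · exact chk_pow14_0_13
  · exact chk_pow14_0_14

theorem chk_pow14_1_0 : tab.minOKc [4, 5] 3 80250 5350 = true := by decide +kernel

theorem chk_pow14_1_1 : tab.minOKc [4, 5] 3 85600 5350 = true := by decide +kernel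

theorem chk_pow14_1_2 : tab.minOKc [4, 5] 3 90950 5350 = true := by decide +kernel

theorem chk_pow14_1_3 : tab.minOKc [4, 5] 3 96300 5350 = true := by decide +kernel

theorem chk_pow14_1_4 : tab.minOKc [4, 5] 3 101650 5350 = true := by decide +kernel

theorem chk_pow14_1_5 : tab.minOKc [4, 5] 3 107000 5350 = true := by decide +kernel

theorem chk_pow14_1_6 : tab.minOKc [4, 5] 3 112350 5350 = true := by decide +kernel

theorem chk_pow14_1_7 : tab.minOKc [4, 5] 3 117700 5350 = true := by decide +kernel

theorem chk_pow14_1_8 : tab.minOKc [4, 5] 3 123050 5350 = true := by decide +kernel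

theorem chk_pow14_1_9 : tab.minOKc [4, 5] 3 128400 5350 = true := by decide +kernel

theorem chk_pow14_1_10 : tab.minOKc [4, 5] 3 133750 5350 = true := by decide +kernel

theorem chk_pow14_1_11 : tab.minOKc [4, 5] 3 139100 5350 = true := by decide +kernel

theorem chk_pow14_1_12 : tab.minOKc [4, 5] 3 144450 5350 = true := by decide +kernel

theorem chk_pow14_1_13 : tab.minOKc [4, 5] 3 149800 5350 = true := by decide +kernel

theorem chk_pow14_1_14 : tab.minOKc [4, 5] 3 155150 5350 = true := by decide +kernel

theorem chk_pow14_1 : tab.minOKc [4, 5] 3 80250 80250 = true := by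
  refine tab.minOKc_of_chunks [4, 5] 3 80250 5350 15 (by norm_num) ?_
  intro i hi
  interval_cases i
  · exact chk_pow14_1_0
  · exact chk_pow14_1_1
  · exact chk_pow14_1_2
  · exact chk_pow14_1_3
  · exact chk_pow14_1_4
  · exact chk_pow14_1_5
  · exact chk_pow14_1_6
  · exact chk_pow14_1_7
  · exact chk_pow14_1_8
  · exact chk_pow14_1_9
  · exact chk_pow14_1_10
  · exact chk_pow14_1_11
  · exact chk_pow14_1_12
  · exact chk_pow14_1_13
  · exact chk_pow14_1_14

end Cfsg.Agent.Lib.Helper6.Fi24TC
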