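import Cfsg.Agent.Lib.Helper6.Fi24TCData
import Cfsg.Agent.Lib.Helper6.TCRel3
import Cfsg.Agent.Lib.Helper6.Fi24TCRel28

/-! # Fi24: the kernel check of a part of the relators on the coset table -/

set_option autoImplicit false

namespace Cfsg.Agent.Lib.Helper6.Fi24TC

open Cfsg.Agent.Lib.Helper6.TC

theorem chk_pow20_0_0 : tab.minOKc [5, 6] 3 0 5456 = true := by decide +kernel

theorem chk_pow20_0_1 : tab.minOKc [5, 6] 3 5456 5456 = true := by decide +kernel

theorem chk_pow20_0_2 : tab.minOKc [5, 6] 3 10912 5456 = true := by decide +kernel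

theorem chk_pow20_0_3 : tab.minOKc [5, 6] 3 16368 5456 = true := by decide +kernel

theorem chk_pow20_0_4 : tab.minOKc [5, 6] 3 21824 5456 = true := by decide +kernel

theorem chk_pow20_0_5 : tab.minOKc [5, 6] 3 27280 5456 = true := by decide +kernel

theorem chk_pow20_0_6 : tab.minOKc [5, 6] 3 32736 5456 = true := by decide +kernel

theorem chk_pow20_0_7 : tab.minOKc [5, 6] 3 38192 5456 = true := by decide +kernel

theorem chk_pow20_0_8 : tab.minOKc [5, 6] 3 43648 5456 = true := by decide +kernel

theorem chk_pow20_0_9 : tab.minOKc [5, 6] 3 49104 5456 = true := by decide +kernel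

theorem chk_pow20_0_10 : tab.minOKc [5, 6] 3 54560 5456 = true := by decide +kernel

theorem chk_pow20_0_11 : tab.minOKc [5, 6] 3 60016 5456 = true := by decide +kernel

theorem chk_pow20_0_12 : tab.minOKc [5, 6] 3 65472 5456 = true := by decide +kernel

theorem chk_pow20_0_13 : tab.minOKc [5, 6] 3 70928 5456 = true := by decide +kernel

theorem chk_pow20_0_14 : tab.minOKc [5, 6] 3 76384 5456 = true := by decide +kernel

theorem chk_pow20_0 : tab.minOKc [5, 6] 3 0 81840 = true := by
  refine tab.minOKc_of_chunks [5, 6] 3 0 5456 15 (by norm_num) ?_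
  intro i hi
  interval_cases i
  · exact chk_pow20_0_0
  · exact chk_pow20_0_1
  · exact chk_pow20_0_2
  · exact chk_pow20_0_3
  · exact chk_pow20_0_4
  · exact chk_pow20_0_5
  · exact chk_pow20_0_6
  · exact chk_pow20_0_7
  · exact chk_pow20_0_8
  · exact chk_pow20_0_9
  · exact chk_pow20_0_10
  · exact chk_pow20_0_11
  · exact chk_pow20_0_12
  · exact chk_pow20_0_13
  · exact chk_pow20_0_14

theorem chk_pow20_1_0 : tab.minOKc [5, 6] 3 81840 5456 = true := by decide +kernel

theorem chk_pow20_1_1 : tab.minOKc [5, 6] 3 87296 5456 = true := by decide +kernel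

theorem chk_pow20_1_2 : tab.minOKc [5, 6] 3 92752 5456 = true := by decide +kernel

theorem chk_pow20_1_3 : tab.minOKc [5, 6] 3 98208 5456 = true := by decide +kernel

theorem chk_pow20_1_4 : tab.minOKc [5, 6] 3 103664 5456 = true := by decide +kernel

theorem chk_pow20_1_5 : tab.minOKc [5, 6] 3 109120 5456 = true := by decide +kernel

theorem chk_pow20_1_6 : tab.minOKc [5, 6] 3 114576 5456 = true := by decide +kernel

theorem chk_pow20_1_7 : tab.minOKc [5, 6] 3 120032 5456 = true := by decide +kernel

theorem chk_pow20_1_8 : tab.minOKc [5, 6] 3 125488 5456 = true := by decide +kernel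

theorem chk_pow20_1_9 : tab.minOKc [5, 6] 3 130944 5456 = true := by decide +kernel

theorem chk_pow20_1_10 : tab.minOKc [5, 6] 3 136400 5456 = true := by decide +kernel

theorem chk_pow20_1_11 : tab.minOKc [5, 6] 3 141856 5456 = true := by decide +kernel

theorem chk_pow20_1_12 : tab.minOKc [5, 6] 3 147312 5456 = true := by decide +kernel

theorem chk_pow20_1_13 : tab.minOKc [5, 6] 3 152768 5456 = true := by decide +kernel

theorem chk_pow20_1_14 : tab.minOKc [5, 6] 3 158224 5456 = true := by decide +kernel

theorem chk_pow20_1 : tab.minOKc [5, 6] 3 81840 81840 = true := by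
  refine tab.minOKc_of_chunks [5, 6] 3 81840 5456 15 (by norm_num) ?_
  intro i hi
  interval_cases i
  · exact chk_pow20_1_0
  · exact chk_pow20_1_1
  · exact chk_pow20_1_2
  · exact chk_pow20_1_3
  · exact chk_pow20_1_4
  · exact chk_pow20_1_5
  · exact chk_pow20_1_6
  · exact chk_pow20_1_7
  · exact chk_pow20_1_8
  · exact chk_pow20_1_9
  · exact chk_pow20_1_10
  · exact chk_pow20_1_11
  · exact chk_pow20_1_12
  · exact chk_pow20_1_13
  · exact chk_pow20_1_14

end Cfsg.Agent.Lib.Helper6.Fi24TC
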