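import Cfsg.Agent.Lib.Helper6.Fi24TCData
import Cfsg.Agent.Lib.Helper6.TCRel3
import Cfsg.Agent.Lib.Helper6.Fi24TCRel40

/-! # Fi24: the kernel check of a part of the relators on the coset table -/

set_option autoImplicit false

namespace Cfsg.Agent.Lib.Helper6.Fi24TC

open Cfsg.Agent.Lib.Helper6.TC

theorem chk_pow26_0_0 : tab.minOKc [5, 7] 2 0 6662 = true := by decide +kernel

theorem chk_pow26_0_1 : tab.minOKc [5, 7] 2 6662 6662 = true := by decide +kernel

theorem chk_pow26_0_2 : tab.minOKc [5, 7] 2 13324 6662 = true := by decide +kernel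

theorem chk_pow26_0_3 : tab.minOKc [5, 7] 2 19986 6662 = true := by decide +kernel

theorem chk_pow26_0_4 : tab.minOKc [5, 7] 2 26648 6662 = true := by decide +kernel

theorem chk_pow26_0_5 : tab.minOKc [5, 7] 2 33310 6662 = true := by decide +kernel

theorem chk_pow26_0_6 : tab.minOKc [5, 7] 2 39972 6662 = true := by decide +kernel

theorem chk_pow26_0_7 : tab.minOKc [5, 7] 2 46634 6662 = true := by decide +kernel

theorem chk_pow26_0_8 : tab.minOKc [5, 7] 2 53296 6662 = true := by decide +kernel

theorem chk_pow26_0_9 : tab.minOKc [5, 7] 2 59958 6662 = true := by decide +kernel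

theorem chk_pow26_0_10 : tab.minOKc [5, 7] 2 66620 6662 = true := by decide +kernel

theorem chk_pow26_0_11 : tab.minOKc [5, 7] 2 73282 6662 = true := by decide +kernel

theorem chk_pow26_0_12 : tab.minOKc [5, 7] 2 79944 6662 = true := by decide +kernel

theorem chk_pow26_0_13 : tab.minOKc [5, 7] 2 86606 6662 = true := by decide +kernel

theorem chk_pow26_0_14 : tab.minOKc [5, 7] 2 93268 6662 = true := by decide +kernel

theorem chk_pow26_0 : tab.minOKc [5, 7] 2 0 99930 = true := by
  refine tab.minOKc_of_chunks [5, 7] 2 0 6662 15 (by norm_num) ?_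
  intro i hi
  interval_cases i
  · exact chk_pow26_0_0
  · exact chk_pow26_0_1
  · exact chk_pow26_0_2
  · exact chk_pow26_0_3
  · exact chk_pow26_0_4
  · exact chk_pow26_0_5
  · exact chk_pow26_0_6
  · exact chk_pow26_0_7
  · exact chk_pow26_0_8
  · exact chk_pow26_0_9
  · exact chk_pow26_0_10
  · exact chk_pow26_0_11
  · exact chk_pow26_0_12
  · exact chk_pow26_0_13
  · exact chk_pow26_0_14

theorem chk_pow26_1_0 : tab.minOKc [5, 7] 2 99930 6662 = true := by decide +kernel

theorem chk_pow26_1_1 : tab.minOKc [5, 7] 2 106592 6662 = true := by decide +kernel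

theorem chk_pow26_1_2 : tab.minOKc [5, 7] 2 113254 6662 = true := by decide +kernel

theorem chk_pow26_1_3 : tab.minOKc [5, 7] 2 119916 6662 = true := by decide +kernel

theorem chk_pow26_1_4 : tab.minOKc [5, 7] 2 126578 6662 = true := by decide +kernel

theorem chk_pow26_1_5 : tab.minOKc [5, 7] 2 133240 6662 = true := by decide +kernel

theorem chk_pow26_1_6 : tab.minOKc [5, 7] 2 139902 6662 = true := by decide +kernel

theorem chk_pow26_1_7 : tab.minOKc [5, 7] 2 146564 6662 = true := by decide +kernel

theorem chk_pow26_1_8 : tab.minOKc [5, 7] 2 153226 6662 = true := by decide +kernel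

theorem chk_pow26_1_9 : tab.minOKc [5, 7] 2 159888 6662 = true := by decide +kernel

theorem chk_pow26_1_10 : tab.minOKc [5, 7] 2 166550 6662 = true := by decide +kernel

theorem chk_pow26_1_11 : tab.minOKc [5, 7] 2 173212 6662 = true := by decide +kernel

theorem chk_pow26_1_12 : tab.minOKc [5, 7] 2 179874 6662 = true := by decide +kernel

theorem chk_pow26_1_13 : tab.minOKc [5, 7] 2 186536 6662 = true := by decide +kernel

theorem chk_pow26_1_14 : tab.minOKc [5, 7] 2 193198 6662 = true := by decide +kernel

theorem chk_pow26_1 : tab.minOKc [5, 7] 2 99930 99930 = true := by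
  refine tab.minOKc_of_chunks [5, 7] 2 99930 6662 15 (by norm_num) ?_
  intro i hi
  interval_cases i
  · exact chk_pow26_1_0
  · exact chk_pow26_1_1
  · exact chk_pow26_1_2
  · exact chk_pow26_1_3
  · exact chk_pow26_1_4
  · exact chk_pow26_1_5
  · exact chk_pow26_1_6
  · exact chk_pow26_1_7
  · exact chk_pow26_1_8
  · exact chk_pow26_1_9
  · exact chk_pow26_1_10
  · exact chk_pow26_1_11
  · exact chk_pow26_1_12
  · exact chk_pow26_1_13
  · exact chk_pow26_1_14

end Cfsg.Agent.Lib.Helper6.Fi24TC
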