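import Cfsg.Agent.Lib.Helper6.Fi24TCData
import Cfsg.Agent.Lib.Helper6.TCRel3
import Cfsg.Agent.Lib.Helper6.Fi24TCRel52

/-! # Fi24: the kernel check of a part of the relators on the coset table -/

set_option autoImplicit false

namespace Cfsg.Agent.Lib.Helper6.Fi24TC

open Cfsg.Agent.Lib.Helper6.TC

theorem chk_pow32_0_0 : tab.minOKc [4, 8] 2 0 6648 = true := by decide +kernel

theorem chk_pow32_0_1 : tab.minOKc [4, 8] 2 6648 6648 = true := by decide +kernel

theorem chk_pow32_0_2 : tab.minOKc [4, 8] 2 13296 6648 = true := by decide +kernel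

theorem chk_pow32_0_3 : tab.minOKc [4, 8] 2 19944 6648 = true := by decide +kernel

theorem chk_pow32_0_4 : tab.minOKc [4, 8] 2 26592 6648 = true := by decide +kernel

theorem chk_pow32_0_5 : tab.minOKc [4, 8] 2 33240 6648 = true := by decide +kernel

theorem chk_pow32_0_6 : tab.minOKc [4, 8] 2 39888 6648 = true := by decide +kernel

theorem chk_pow32_0_7 : tab.minOKc [4, 8] 2 46536 6648 = true := by decide +kernel

theorem chk_pow32_0_8 : tab.minOKc [4, 8] 2 53184 6648 = true := by decide +kernel

theorem chk_pow32_0_9 : tab.minOKc [4, 8] 2 59832 6648 = true := by decide +kernel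

theorem chk_pow32_0_10 : tab.minOKc [4, 8] 2 66480 6648 = true := by decide +kernel

theorem chk_pow32_0_11 : tab.minOKc [4, 8] 2 73128 6648 = true := by decide +kernel

theorem chk_pow32_0_12 : tab.minOKc [4, 8] 2 79776 6648 = true := by decide +kernel

theorem chk_pow32_0_13 : tab.minOKc [4, 8] 2 86424 6648 = true := by decide +kernel

theorem chk_pow32_0_14 : tab.minOKc [4, 8] 2 93072 6648 = true := by decide +kernel

theorem chk_pow32_0 : tab.minOKc [4, 8] 2 0 99720 = true := by
  refine tab.minOKc_of_chunks [4, 8] 2 0 6648 15 (by norm_num) ?_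
  intro i hi
  interval_cases i
  · exact chk_pow32_0_0
  · exact chk_pow32_0_1
  · exact chk_pow32_0_2
  · exact chk_pow32_0_3
  · exact chk_pow32_0_4
  · exact chk_pow32_0_5
  · exact chk_pow32_0_6
  · exact chk_pow32_0_7
  · exact chk_pow32_0_8
  · exact chk_pow32_0_9
  · exact chk_pow32_0_10
  · exact chk_pow32_0_11
  · exact chk_pow32_0_12
  · exact chk_pow32_0_13
  · exact chk_pow32_0_14

theorem chk_pow32_1_0 : tab.minOKc [4, 8] 2 99720 6648 = true := by decide +kernel

theorem chk_pow32_1_1 : tab.minOKc [4, 8] 2 106368 6648 = true := by decide +kernel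

theorem chk_pow32_1_2 : tab.minOKc [4, 8] 2 113016 6648 = true := by decide +kernel

theorem chk_pow32_1_3 : tab.minOKc [4, 8] 2 119664 6648 = true := by decide +kernel

theorem chk_pow32_1_4 : tab.minOKc [4, 8] 2 126312 6648 = true := by decide +kernel

theorem chk_pow32_1_5 : tab.minOKc [4, 8] 2 132960 6648 = true := by decide +kernel

theorem chk_pow32_1_6 : tab.minOKc [4, 8] 2 139608 6648 = true := by decide +kernel

theorem chk_pow32_1_7 : tab.minOKc [4, 8] 2 146256 6648 = true := by decide +kernel

theorem chk_pow32_1_8 : tab.minOKc [4, 8] 2 152904 6648 = true := by decide +kernel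

theorem chk_pow32_1_9 : tab.minOKc [4, 8] 2 159552 6648 = true := by decide +kernel

theorem chk_pow32_1_10 : tab.minOKc [4, 8] 2 166200 6648 = true := by decide +kernel

theorem chk_pow32_1_11 : tab.minOKc [4, 8] 2 172848 6648 = true := by decide +kernel

theorem chk_pow32_1_12 : tab.minOKc [4, 8] 2 179496 6648 = true := by decide +kernel

theorem chk_pow32_1_13 : tab.minOKc [4, 8] 2 186144 6648 = true := by decide +kernel

theorem chk_pow32_1_14 : tab.minOKc [4, 8] 2 192792 6648 = true := by decide +kernel

theorem chk_pow32_1 : tab.minOKc [4, 8] 2 99720 99720 = true := by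
  refine tab.minOKc_of_chunks [4, 8] 2 99720 6648 15 (by norm_num) ?_
  intro i hi
  interval_cases i
  · exact chk_pow32_1_0
  · exact chk_pow32_1_1
  · exact chk_pow32_1_2
  · exact chk_pow32_1_3
  · exact chk_pow32_1_4
  · exact chk_pow32_1_5
  · exact chk_pow32_1_6
  · exact chk_pow32_1_7
  · exact chk_pow32_1_8
  · exact chk_pow32_1_9
  · exact chk_pow32_1_10
  · exact chk_pow32_1_11
  · exact chk_pow32_1_12
  · exact chk_pow32_1_13
  · exact chk_pow32_1_14

end Cfsg.Agent.Lib.Helper6.Fi24TC
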