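import Cfsg.Agent.Lib.Helper6.Fi24TCData
import Cfsg.Agent.Lib.Helper6.TCRel3
import Cfsg.Agent.Lib.Helper6.Fi24TCRel64

/-! # Fi24: the kernel check of a part of the relators on the coset table -/

set_option autoImplicit false

namespace Cfsg.Agent.Lib.Helper6.Fi24TC

open Cfsg.Agent.Lib.Helper6.TC

theorem chk_pow38_0_0 : tab.minOKc [2, 9] 2 0 6651 = true := by decide +kernel

theorem chk_pow38_0_1 : tab.minOKc [2, 9] 2 6651 6651 = true := by decide +kernel

theorem chk_pow38_0_2 : tab.minOKc [2, 9] 2 13302 6651 = true := by decide +kernel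

theorem chk_pow38_0_3 : tab.minOKc [2, 9] 2 19953 6651 = true := by decide +kernel

theorem chk_pow38_0_4 : tab.minOKc [2, 9] 2 26604 6651 = true := by decide +kernel

theorem chk_pow38_0_5 : tab.minOKc [2, 9] 2 33255 6651 = true := by decide +kernel

theorem chk_pow38_0_6 : tab.minOKc [2, 9] 2 39906 6651 = true := by decide +kernel

theorem chk_pow38_0_7 : tab.minOKc [2, 9] 2 46557 6651 = true := by decide +kernel

theorem chk_pow38_0_8 : tab.minOKc [2, 9] 2 53208 6651 = true := by decide +kernel

theorem chk_pow38_0_9 : tab.minOKc [2, 9] 2 59859 6651 = true := by decide +kernel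

theorem chk_pow38_0_10 : tab.minOKc [2, 9] 2 66510 6651 = true := by decide +kernel

theorem chk_pow38_0_11 : tab.minOKc [2, 9] 2 73161 6651 = true := by decide +kernel

theorem chk_pow38_0_12 : tab.minOKc [2, 9] 2 79812 6651 = true := by decide +kernel

theorem chk_pow38_0_13 : tab.minOKc [2, 9] 2 86463 6651 = true := by decide +kernel

theorem chk_pow38_0_14 : tab.minOKc [2, 9] 2 93114 6651 = true := by decide +kernel

theorem chk_pow38_0 : tab.minOKc [2, 9] 2 0 99765 = true := by
  refine tab.minOKc_of_chunks [2, 9] 2 0 6651 15 (by norm_num) ?_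
  intro i hi
  interval_cases i
  · exact chk_pow38_0_0
  · exact chk_pow38_0_1
  · exact chk_pow38_0_2
  · exact chk_pow38_0_3
  · exact chk_pow38_0_4
  · exact chk_pow38_0_5
  · exact chk_pow38_0_6
  · exact chk_pow38_0_7
  · exact chk_pow38_0_8
  · exact chk_pow38_0_9
  · exact chk_pow38_0_10
  · exact chk_pow38_0_11
  · exact chk_pow38_0_12
  · exact chk_pow38_0_13
  · exact chk_pow38_0_14

theorem chk_pow38_1_0 : tab.minOKc [2, 9] 2 99765 6651 = true := by decide +kernel

theorem chk_pow38_1_1 : tab.minOKc [2, 9] 2 106416 6651 = true := by decide +kernel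

theorem chk_pow38_1_2 : tab.minOKc [2, 9] 2 113067 6651 = true := by decide +kernel

theorem chk_pow38_1_3 : tab.minOKc [2, 9] 2 119718 6651 = true := by decide +kernel

theorem chk_pow38_1_4 : tab.minOKc [2, 9] 2 126369 6651 = true := by decide +kernel

theorem chk_pow38_1_5 : tab.minOKc [2, 9] 2 133020 6651 = true := by decide +kernel

theorem chk_pow38_1_6 : tab.minOKc [2, 9] 2 139671 6651 = true := by decide +kernel

theorem chk_pow38_1_7 : tab.minOKc [2, 9] 2 146322 6651 = true := by decide +kernel

theorem chk_pow38_1_8 : tab.minOKc [2, 9] 2 152973 6651 = true := by decide +kernel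

theorem chk_pow38_1_9 : tab.minOKc [2, 9] 2 159624 6651 = true := by decide +kernel

theorem chk_pow38_1_10 : tab.minOKc [2, 9] 2 166275 6651 = true := by decide +kernel

theorem chk_pow38_1_11 : tab.minOKc [2, 9] 2 172926 6651 = true := by decide +kernel

theorem chk_pow38_1_12 : tab.minOKc [2, 9] 2 179577 6651 = true := by decide +kernel

theorem chk_pow38_1_13 : tab.minOKc [2, 9] 2 186228 6651 = true := by decide +kernel

theorem chk_pow38_1_14 : tab.minOKc [2, 9] 2 192879 6651 = true := by decide +kernel

theorem chk_pow38_1 : tab.minOKc [2, 9] 2 99765 99765 = true := by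
  refine tab.minOKc_of_chunks [2, 9] 2 99765 6651 15 (by norm_num) ?_
  intro i hi
  interval_cases i
  · exact chk_pow38_1_0
  · exact chk_pow38_1_1
  · exact chk_pow38_1_2
  · exact chk_pow38_1_3
  · exact chk_pow38_1_4
  · exact chk_pow38_1_5
  · exact chk_pow38_1_6
  · exact chk_pow38_1_7
  · exact chk_pow38_1_8
  · exact chk_pow38_1_9
  · exact chk_pow38_1_10
  · exact chk_pow38_1_11
  · exact chk_pow38_1_12
  · exact chk_pow38_1_13
  · exact chk_pow38_1_14

end Cfsg.Agent.Lib.Helper6.Fi24TC
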