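import Cfsg.Agent.Lib.Helper6.Fi24TCData
import Cfsg.Agent.Lib.Helper6.TCRel3
import Cfsg.Agent.Lib.Helper6.Fi24TCRel76

/-! # Fi24: the kernel check of a part of the relators on the coset table -/

set_option autoImplicit false

namespace Cfsg.Agent.Lib.Helper6.Fi24TC

open Cfsg.Agent.Lib.Helper6.TC

theorem chk_pow44_0_0 : tab.minOKc [8, 9] 3 0 5552 = true := by decide +kernel

theorem chk_pow44_0_1 : tab.minOKc [8, 9] 3 5552 5552 = true := by decide +kernel

theorem chk_pow44_0_2 : tab.minOKc [8, 9] 3 11104 5552 = true := by decide +kernel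

theorem chk_pow44_0_3 : tab.minOKc [8, 9] 3 16656 5552 = true := by decide +kernel

theorem chk_pow44_0_4 : tab.minOKc [8, 9] 3 22208 5552 = true := by decide +kernel

theorem chk_pow44_0_5 : tab.minOKc [8, 9] 3 27760 5552 = true := by decide +kernel

theorem chk_pow44_0_6 : tab.minOKc [8, 9] 3 33312 5552 = true := by decide +kernel

theorem chk_pow44_0_7 : tab.minOKc [8, 9] 3 38864 5552 = true := by decide +kernel

theorem chk_pow44_0_8 : tab.minOKc [8, 9] 3 44416 5552 = true := by decide +kernel

theorem chk_pow44_0_9 : tab.minOKc [8, 9] 3 49968 5552 = true := by decide +kernel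

theorem chk_pow44_0_10 : tab.minOKc [8, 9] 3 55520 5552 = true := by decide +kernel

theorem chk_pow44_0_11 : tab.minOKc [8, 9] 3 61072 5552 = true := by decide +kernel

theorem chk_pow44_0_12 : tab.minOKc [8, 9] 3 66624 5552 = true := by decide +kernel

theorem chk_pow44_0_13 : tab.minOKc [8, 9] 3 72176 5552 = true := by decide +kernel

theorem chk_pow44_0_14 : tab.minOKc [8, 9] 3 77728 5552 = true := by decide +kernel

theorem chk_pow44_0 : tab.minOKc [8, 9] 3 0 83280 = true := by
  refine tab.minOKc_of_chunks [8, 9] 3 0 5552 15 (by norm_num) ?_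
  intro i hi
  interval_cases i
  · exact chk_pow44_0_0
  · exact chk_pow44_0_1
  · exact chk_pow44_0_2
  · exact chk_pow44_0_3
  · exact chk_pow44_0_4
  · exact chk_pow44_0_5
  · exact chk_pow44_0_6
  · exact chk_pow44_0_7
  · exact chk_pow44_0_8
  · exact chk_pow44_0_9
  · exact chk_pow44_0_10
  · exact chk_pow44_0_11
  · exact chk_pow44_0_12
  · exact chk_pow44_0_13
  · exact chk_pow44_0_14

theorem chk_pow44_1_0 : tab.minOKc [8, 9] 3 83280 5552 = true := by decide +kernel

theorem chk_pow44_1_1 : tab.minOKc [8, 9] 3 88832 5552 = true := by decide +kernel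

theorem chk_pow44_1_2 : tab.minOKc [8, 9] 3 94384 5552 = true := by decide +kernel

theorem chk_pow44_1_3 : tab.minOKc [8, 9] 3 99936 5552 = true := by decide +kernel

theorem chk_pow44_1_4 : tab.minOKc [8, 9] 3 105488 5552 = true := by decide +kernel

theorem chk_pow44_1_5 : tab.minOKc [8, 9] 3 111040 5552 = true := by decide +kernel

theorem chk_pow44_1_6 : tab.minOKc [8, 9] 3 116592 5552 = true := by decide +kernel

theorem chk_pow44_1_7 : tab.minOKc [8, 9] 3 122144 5552 = true := by decide +kernel

theorem chk_pow44_1_8 : tab.minOKc [8, 9] 3 127696 5552 = true := by decide +kernel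

theorem chk_pow44_1_9 : tab.minOKc [8, 9] 3 133248 5552 = true := by decide +kernel

theorem chk_pow44_1_10 : tab.minOKc [8, 9] 3 138800 5552 = true := by decide +kernel

theorem chk_pow44_1_11 : tab.minOKc [8, 9] 3 144352 5552 = true := by decide +kernel

theorem chk_pow44_1_12 : tab.minOKc [8, 9] 3 149904 5552 = true := by decide +kernel

theorem chk_pow44_1_13 : tab.minOKc [8, 9] 3 155456 5552 = true := by decide +kernel

theorem chk_pow44_1_14 : tab.minOKc [8, 9] 3 161008 5552 = true := by decide +kernel

theorem chk_pow44_1 : tab.minOKc [8, 9] 3 83280 83280 = true := by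
  refine tab.minOKc_of_chunks [8, 9] 3 83280 5552 15 (by norm_num) ?_
  intro i hi
  interval_cases i
  · exact chk_pow44_1_0
  · exact chk_pow44_1_1
  · exact chk_pow44_1_2
  · exact chk_pow44_1_3
  · exact chk_pow44_1_4
  · exact chk_pow44_1_5
  · exact chk_pow44_1_6
  · exact chk_pow44_1_7
  · exact chk_pow44_1_8
  · exact chk_pow44_1_9
  · exact chk_pow44_1_10
  · exact chk_pow44_1_11
  · exact chk_pow44_1_12
  · exact chk_pow44_1_13
  · exact chk_pow44_1_14

end Cfsg.Agent.Lib.Helper6.Fi24TC
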