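import Cfsg.Agent.Lib.Helper6.Fi24TCData
import Cfsg.Agent.Lib.Helper6.TCRel3
import Cfsg.Agent.Lib.Helper6.Fi24TCRel88

/-! # Fi24: the kernel check of a part of the relators on the coset table -/

set_option autoImplicit false

namespace Cfsg.Agent.Lib.Helper6.Fi24TC

open Cfsg.Agent.Lib.Helper6.TC

theorem chk_pow50_0_0 : tab.minOKc [5, 10] 3 0 5448 = true := by decide +kernel

theorem chk_pow50_0_1 : tab.minOKc [5, 10] 3 5448 5448 = true := by decide +kernel

theorem chk_pow50_0_2 : tab.minOKc [5, 10] 3 10896 5448 = true := by decide +kernel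

theorem chk_pow50_0_3 : tab.minOKc [5, 10] 3 16344 5448 = true := by decide +kernel

theorem chk_pow50_0_4 : tab.minOKc [5, 10] 3 21792 5448 = true := by decide +kernel

theorem chk_pow50_0_5 : tab.minOKc [5, 10] 3 27240 5448 = true := by decide +kernel

theorem chk_pow50_0_6 : tab.minOKc [5, 10] 3 32688 5448 = true := by decide +kernel

theorem chk_pow50_0_7 : tab.minOKc [5, 10] 3 38136 5448 = true := by decide +kernel

theorem chk_pow50_0_8 : tab.minOKc [5, 10] 3 43584 5448 = true := by decide +kernel

theorem chk_pow50_0_9 : tab.minOKc [5, 10] 3 49032 5448 = true := by decide +kernel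

theorem chk_pow50_0_10 : tab.minOKc [5, 10] 3 54480 5448 = true := by decide +kernel

theorem chk_pow50_0_11 : tab.minOKc [5, 10] 3 59928 5448 = true := by decide +kernel

theorem chk_pow50_0_12 : tab.minOKc [5, 10] 3 65376 5448 = true := by decide +kernel

theorem chk_pow50_0_13 : tab.minOKc [5, 10] 3 70824 5448 = true := by decide +kernel

theorem chk_pow50_0_14 : tab.minOKc [5, 10] 3 76272 5448 = true := by decide +kernel

theorem chk_pow50_0 : tab.minOKc [5, 10] 3 0 81720 = true := by
  refine tab.minOKc_of_chunks [5, 10] 3 0 5448 15 (by norm_num) ?_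
  intro i hi
  interval_cases i
  · exact chk_pow50_0_0
  · exact chk_pow50_0_1
  · exact chk_pow50_0_2
  · exact chk_pow50_0_3
  · exact chk_pow50_0_4
  · exact chk_pow50_0_5
  · exact chk_pow50_0_6
  · exact chk_pow50_0_7
  · exact chk_pow50_0_8
  · exact chk_pow50_0_9
  · exact chk_pow50_0_10
  · exact chk_pow50_0_11
  · exact chk_pow50_0_12
  · exact chk_pow50_0_13
  · exact chk_pow50_0_14

theorem chk_pow50_1_0 : tab.minOKc [5, 10] 3 81720 5448 = true := by decide +kernel

theorem chk_pow50_1_1 : tab.minOKc [5, 10] 3 87168 5448 = true := by decide +kernel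

theorem chk_pow50_1_2 : tab.minOKc [5, 10] 3 92616 5448 = true := by decide +kernel

theorem chk_pow50_1_3 : tab.minOKc [5, 10] 3 98064 5448 = true := by decide +kernel

theorem chk_pow50_1_4 : tab.minOKc [5, 10] 3 103512 5448 = true := by decide +kernel

theorem chk_pow50_1_5 : tab.minOKc [5, 10] 3 108960 5448 = true := by decide +kernel

theorem chk_pow50_1_6 : tab.minOKc [5, 10] 3 114408 5448 = true := by decide +kernel

theorem chk_pow50_1_7 : tab.minOKc [5, 10] 3 119856 5448 = true := by decide +kernel

theorem chk_pow50_1_8 : tab.minOKc [5, 10] 3 125304 5448 = true := by decide +kernel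

theorem chk_pow50_1_9 : tab.minOKc [5, 10] 3 130752 5448 = true := by decide +kernel

theorem chk_pow50_1_10 : tab.minOKc [5, 10] 3 136200 5448 = true := by decide +kernel

theorem chk_pow50_1_11 : tab.minOKc [5, 10] 3 141648 5448 = true := by decide +kernel

theorem chk_pow50_1_12 : tab.minOKc [5, 10] 3 147096 5448 = true := by decide +kernel

theorem chk_pow50_1_13 : tab.minOKc [5, 10] 3 152544 5448 = true := by decide +kernel

theorem chk_pow50_1_14 : tab.minOKc [5, 10] 3 157992 5448 = true := by decide +kernel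

theorem chk_pow50_1 : tab.minOKc [5, 10] 3 81720 81720 = true := by
  refine tab.minOKc_of_chunks [5, 10] 3 81720 5448 15 (by norm_num) ?_
  intro i hi
  interval_cases i
  · exact chk_pow50_1_0
  · exact chk_pow50_1_1
  · exact chk_pow50_1_2
  · exact chk_pow50_1_3
  · exact chk_pow50_1_4
  · exact chk_pow50_1_5
  · exact chk_pow50_1_6
  · exact chk_pow50_1_7
  · exact chk_pow50_1_8
  · exact chk_pow50_1_9
  · exact chk_pow50_1_10
  · exact chk_pow50_1_11
  · exact chk_pow50_1_12
  · exact chk_pow50_1_13
  · exact chk_pow50_1_14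

end Cfsg.Agent.Lib.Helper6.Fi24TC
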