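import Cfsg.Agent.Lib.Helper6.Fi24SCert

/-! # Fi24: the kernel check of the rows from 94056 on -/

set_option autoImplicit false

namespace Cfsg.Agent.Lib.Helper6.Fi24TC

open Cfsg.Agent.Lib.Helper6.TC Cfsg.Agent.Lib.Helper6.TCS

theorem chk_rows11_0 : cert.rowsOK 94056 293 = true := by decide +kernel

theorem chk_rows11_1 : cert.rowsOK 94349 293 = true := by decide +kernel

theorem chk_rows11_2 : cert.rowsOK 94642 293 = true := by decide +kernel

theorem chk_rows11_3 : cert.rowsOK 94935 293 = true := by decide +kernel

theorem chk_rows11_4 : cert.rowsOK 95228 293 = true := by decide +kernel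

theorem chk_rows11_5 : cert.rowsOK 95521 293 = true := by decide +kernel

theorem chk_rows11_6 : cert.rowsOK 95814 293 = true := by decide +kernel

theorem chk_rows11_7 : cert.rowsOK 96107 293 = true := by decide +kernel

theorem chk_rows11_8 : cert.rowsOK 96400 293 = true := by decide +kernel

theorem chk_rows11_9 : cert.rowsOK 96693 293 = true := by decide +kernel

theorem chk_rows11_10 : cert.rowsOK 96986 293 = true := by decide +kernel

theorem chk_rows11_11 : cert.rowsOK 97279 293 = true := by decide +kernel

theorem chk_rows11_12 : cert.rowsOK 97572 293 = true := by decide +kernel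

theorem chk_rows11_13 : cert.rowsOK 97865 293 = true := by decide +kernel

theorem chk_rows11_14 : cert.rowsOK 98158 293 = true := by decide +kernel

theorem chk_rows11_15 : cert.rowsOK 98451 293 = true := by decide +kernel

theorem chk_rows11_16 : cert.rowsOK 98744 293 = true := by decide +kernel

theorem chk_rows11_17 : cert.rowsOK 99037 293 = true := by decide +kernel

theorem chk_rows11_18 : cert.rowsOK 99330 293 = true := by decide +kernel

theorem chk_rows11_19 : cert.rowsOK 99623 293 = true := by decide +kernel

theorem chk_rows11_20 : cert.rowsOK 99916 293 = true := by decide +kernel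

theorem chk_rows11_21 : cert.rowsOK 100209 293 = true := by decide +kernel

theorem chk_rows11_22 : cert.rowsOK 100502 293 = true := by decide +kernel

theorem chk_rows11_23 : cert.rowsOK 100795 293 = true := by decide +kernel

theorem chk_range11 : ∀ a, 94056 ≤ a → a < 101088 → ∀ x < cert.c.g, cert.slotOK a x = true := by
  refine cert.range_of_chunks 94056 293 24 (by norm_num) ?_
  intro k hk
  interval_cases k
  · exact chk_rows11_0
  · exact chk_rows11_1
  · exact chk_rows11_2
  · exact chk_rows11_3
  · exact chk_rows11_4
  · exact chk_rows11_5
  · exact chk_rows11_6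
  · exact chk_rows11_7
  · exact chk_rows11_8
  · exact chk_rows11_9
  · exact chk_rows11_10
  · exact chk_rows11_11
  · exact chk_rows11_12
  · exact chk_rows11_13
  · exact chk_rows11_14
  · exact chk_rows11_15
  · exact chk_rows11_16
  · exact chk_rows11_17
  · exact chk_rows11_18
  · exact chk_rows11_19
  · exact chk_rows11_20
  · exact chk_rows11_21
  · exact chk_rows11_22
  · exact chk_rows11_23

end Cfsg.Agent.Lib.Helper6.Fi24TC
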