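import Cfsg.Agent.Lib.Helper6.Fi24SCert
import Cfsg.Agent.Lib.Helper6.Fi24SRows11

/-! # Fi24: the kernel check of the rows from 178632 on -/

set_option autoImplicit false

namespace Cfsg.Agent.Lib.Helper6.Fi24TC

open Cfsg.Agent.Lib.Helper6.TC Cfsg.Agent.Lib.Helper6.TCS

theorem chk_rows23_0 : cert.rowsOK 178632 293 = true := by decide +kernel

theorem chk_rows23_1 : cert.rowsOK 178925 293 = true := by decide +kernel

theorem chk_rows23_2 : cert.rowsOK 179218 293 = true := by decide +kernel

theorem chk_rows23_3 : cert.rowsOK 179511 293 = true := by decide +kernel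

theorem chk_rows23_4 : cert.rowsOK 179804 293 = true := by decide +kernel

theorem chk_rows23_5 : cert.rowsOK 180097 293 = true := by decide +kernel

theorem chk_rows23_6 : cert.rowsOK 180390 293 = true := by decide +kernel

theorem chk_rows23_7 : cert.rowsOK 180683 293 = true := by decide +kernel

theorem chk_rows23_8 : cert.rowsOK 180976 293 = true := by decide +kernel

theorem chk_rows23_9 : cert.rowsOK 181269 293 = true := by decide +kernel

theorem chk_rows23_10 : cert.rowsOK 181562 293 = true := by decide +kernel

theorem chk_rows23_11 : cert.rowsOK 181855 293 = true := by decide +kernel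

theorem chk_rows23_12 : cert.rowsOK 182148 293 = true := by decide +kernel

theorem chk_rows23_13 : cert.rowsOK 182441 293 = true := by decide +kernel

theorem chk_rows23_14 : cert.rowsOK 182734 293 = true := by decide +kernel

theorem chk_rows23_15 : cert.rowsOK 183027 293 = true := by decide +kernel

theorem chk_rows23_16 : cert.rowsOK 183320 293 = true := by decide +kernel

theorem chk_rows23_17 : cert.rowsOK 183613 293 = true := by decide +kernel

theorem chk_rows23_18 : cert.rowsOK 183906 293 = true := by decide +kernel

theorem chk_rows23_19 : cert.rowsOK 184199 293 = true := by decide +kernel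

theorem chk_rows23_20 : cert.rowsOK 184492 293 = true := by decide +kernel

theorem chk_rows23_21 : cert.rowsOK 184785 293 = true := by decide +kernel

theorem chk_rows23_22 : cert.rowsOK 185078 293 = true := by decide +kernel

theorem chk_rows23_23 : cert.rowsOK 185371 293 = true := by decide +kernel

theorem chk_range23 : ∀ a, 178632 ≤ a → a < 185664 → ∀ x < cert.c.g, cert.slotOK a x = true := by
  refine cert.range_of_chunks 178632 293 24 (by norm_num) ?_
  intro k hk
  interval_cases k
  · exact chk_rows23_0
  · exact chk_rows23_1
  · exact chk_rows23_2
  · exact chk_rows23_3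
  · exact chk_rows23_4
  · exact chk_rows23_5
  · exact chk_rows23_6
  · exact chk_rows23_7
  · exact chk_rows23_8
  · exact chk_rows23_9
  · exact chk_rows23_10
  · exact chk_rows23_11
  · exact chk_rows23_12
  · exact chk_rows23_13
  · exact chk_rows23_14
  · exact chk_rows23_15
  · exact chk_rows23_16
  · exact chk_rows23_17
  · exact chk_rows23_18
  · exact chk_rows23_19
  · exact chk_rows23_20
  · exact chk_rows23_21
  · exact chk_rows23_22
  · exact chk_rows23_23

end Cfsg.Agent.Lib.Helper6.Fi24TC
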