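import Cfsg.Agent.Lib.Helper6.Fi24SCert
import Cfsg.Agent.Lib.Helper6.Fi24SRows23

/-! # Fi24: the kernel check of the rows from 251208 on -/

set_option autoImplicit false

namespace Cfsg.Agent.Lib.Helper6.Fi24TC

open Cfsg.Agent.Lib.Helper6.TC Cfsg.Agent.Lib.Helper6.TCS

theorem chk_rows35_0 : cert.rowsOK 251208 179 = true := by decide +kernel

theorem chk_rows35_1 : cert.rowsOK 251387 179 = true := by decide +kernel

theorem chk_rows35_2 : cert.rowsOK 251566 179 = true := by decide +kernel

theorem chk_rows35_3 : cert.rowsOK 251745 179 = true := by decide +kernel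

theorem chk_rows35_4 : cert.rowsOK 251924 179 = true := by decide +kernel

theorem chk_rows35_5 : cert.rowsOK 252103 179 = true := by decide +kernel

theorem chk_rows35_6 : cert.rowsOK 252282 179 = true := by decide +kernel

theorem chk_rows35_7 : cert.rowsOK 252461 179 = true := by decide +kernel

theorem chk_rows35_8 : cert.rowsOK 252640 179 = true := by decide +kernel

theorem chk_rows35_9 : cert.rowsOK 252819 179 = true := by decide +kernel

theorem chk_rows35_10 : cert.rowsOK 252998 179 = true := by decide +kernel

theorem chk_rows35_11 : cert.rowsOK 253177 179 = true := by decide +kernel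

theorem chk_rows35_12 : cert.rowsOK 253356 179 = true := by decide +kernel

theorem chk_rows35_13 : cert.rowsOK 253535 179 = true := by decide +kernel

theorem chk_rows35_14 : cert.rowsOK 253714 179 = true := by decide +kernel

theorem chk_rows35_15 : cert.rowsOK 253893 179 = true := by decide +kernel

theorem chk_rows35_16 : cert.rowsOK 254072 179 = true := by decide +kernel

theorem chk_rows35_17 : cert.rowsOK 254251 179 = true := by decide +kernel

theorem chk_rows35_18 : cert.rowsOK 254430 179 = true := by decide +kernel

theorem chk_rows35_19 : cert.rowsOK 254609 179 = true := by decide +kernel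

theorem chk_rows35_20 : cert.rowsOK 254788 179 = true := by decide +kernel

theorem chk_rows35_21 : cert.rowsOK 254967 179 = true := by decide +kernel

theorem chk_rows35_22 : cert.rowsOK 255146 179 = true := by decide +kernel

theorem chk_rows35_23 : cert.rowsOK 255325 179 = true := by decide +kernel

theorem chk_range35 : ∀ a, 251208 ≤ a → a < 255504 → ∀ x < cert.c.g, cert.slotOK a x = true := by
  refine cert.range_of_chunks 251208 179 24 (by norm_num) ?_
  intro k hk
  interval_cases k
  · exact chk_rows35_0
  · exact chk_rows35_1
  · exact chk_rows35_2
  · exact chk_rows35_3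
  · exact chk_rows35_4
  · exact chk_rows35_5
  · exact chk_rows35_6
  · exact chk_rows35_7
  · exact chk_rows35_8
  · exact chk_rows35_9
  · exact chk_rows35_10
  · exact chk_rows35_11
  · exact chk_rows35_12
  · exact chk_rows35_13
  · exact chk_rows35_14
  · exact chk_rows35_15
  · exact chk_rows35_16
  · exact chk_rows35_17
  · exact chk_rows35_18
  · exact chk_rows35_19
  · exact chk_rows35_20
  · exact chk_rows35_21
  · exact chk_rows35_22
  · exact chk_rows35_23

end Cfsg.Agent.Lib.Helper6.Fi24TC
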