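import Cfsg.Agent.Lib.Helper6.Fi24SCert
import Cfsg.Agent.Lib.Helper6.Fi24SRows35

/-! # Fi24: the kernel check of the rows from 289368 on -/

set_option autoImplicit false

namespace Cfsg.Agent.Lib.Helper6.Fi24TC

open Cfsg.Agent.Lib.Helper6.TC Cfsg.Agent.Lib.Helper6.TCS

theorem chk_rows47_0 : cert.rowsOK 289368 92 = true := by decide +kernel

theorem chk_rows47_1 : cert.rowsOK 289460 92 = true := by decide +kernel

theorem chk_rows47_2 : cert.rowsOK 289552 92 = true := by decide +kernel

theorem chk_rows47_3 : cert.rowsOK 289644 92 = true := by decide +kernel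

theorem chk_rows47_4 : cert.rowsOK 289736 92 = true := by decide +kernel

theorem chk_rows47_5 : cert.rowsOK 289828 92 = true := by decide +kernel

theorem chk_rows47_6 : cert.rowsOK 289920 92 = true := by decide +kernel

theorem chk_rows47_7 : cert.rowsOK 290012 92 = true := by decide +kernel

theorem chk_rows47_8 : cert.rowsOK 290104 92 = true := by decide +kernel

theorem chk_rows47_9 : cert.rowsOK 290196 92 = true := by decide +kernel

theorem chk_rows47_10 : cert.rowsOK 290288 92 = true := by decide +kernel

theorem chk_rows47_11 : cert.rowsOK 290380 92 = true := by decide +kernel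

theorem chk_rows47_12 : cert.rowsOK 290472 92 = true := by decide +kernel

theorem chk_rows47_13 : cert.rowsOK 290564 92 = true := by decide +kernel

theorem chk_rows47_14 : cert.rowsOK 290656 92 = true := by decide +kernel

theorem chk_rows47_15 : cert.rowsOK 290748 92 = true := by decide +kernel

theorem chk_rows47_16 : cert.rowsOK 290840 92 = true := by decide +kernel

theorem chk_rows47_17 : cert.rowsOK 290932 92 = true := by decide +kernel

theorem chk_rows47_18 : cert.rowsOK 291024 92 = true := by decide +kernel

theorem chk_rows47_19 : cert.rowsOK 291116 92 = true := by decide +kernel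

theorem chk_rows47_20 : cert.rowsOK 291208 92 = true := by decide +kernel

theorem chk_rows47_21 : cert.rowsOK 291300 92 = true := by decide +kernel

theorem chk_rows47_22 : cert.rowsOK 291392 92 = true := by decide +kernel

theorem chk_rows47_23 : cert.rowsOK 291484 92 = true := by decide +kernel

theorem chk_range47 : ∀ a, 289368 ≤ a → a < 291576 → ∀ x < cert.c.g, cert.slotOK a x = true := by
  refine cert.range_of_chunks 289368 92 24 (by norm_num) ?_
  intro k hk
  interval_cases k
  · exact chk_rows47_0
  · exact chk_rows47_1
  · exact chk_rows47_2
  · exact chk_rows47_3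
  · exact chk_rows47_4
  · exact chk_rows47_5
  · exact chk_rows47_6
  · exact chk_rows47_7
  · exact chk_rows47_8
  · exact chk_rows47_9
  · exact chk_rows47_10
  · exact chk_rows47_11
  · exact chk_rows47_12
  · exact chk_rows47_13
  · exact chk_rows47_14
  · exact chk_rows47_15
  · exact chk_rows47_16
  · exact chk_rows47_17
  · exact chk_rows47_18
  · exact chk_rows47_19
  · exact chk_rows47_20
  · exact chk_rows47_21
  · exact chk_rows47_22
  · exact chk_rows47_23

end Cfsg.Agent.Lib.Helper6.Fi24TC
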