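import Cfsg.Agent.Lib.Helper6.Fi24SCert
import Cfsg.Agent.Lib.Helper6.Fi24SRows47

/-! # Fi24: the kernel check of the rows from 307584 on -/

set_option autoImplicit false

namespace Cfsg.Agent.Lib.Helper6.Fi24TC

open Cfsg.Agent.Lib.Helper6.TC Cfsg.Agent.Lib.Helper6.TCS

theorem chk_rows59_0 : cert.rowsOK 307584 1083 = true := by decide +kernel

theorem chk_rows59_1 : cert.rowsOK 308667 1083 = true := by decide +kernel

theorem chk_rows59_2 : cert.rowsOK 309750 1083 = true := by decide +kernel

theorem chk_rows59_3 : cert.rowsOK 310833 1083 = true := by decide +kernel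

theorem chk_rows59_4 : cert.rowsOK 311916 1083 = true := by decide +kernel

theorem chk_rows59_5 : cert.rowsOK 312999 1083 = true := by decide +kernel

theorem chk_rows59_6 : cert.rowsOK 314082 1083 = true := by decide +kernel

theorem chk_rows59_7 : cert.rowsOK 315165 1083 = true := by decide +kernel

theorem chk_rows59_8 : cert.rowsOK 316248 1083 = true := by decide +kernel

theorem chk_rows59_9 : cert.rowsOK 317331 1083 = true := by decide +kernel

theorem chk_rows59_10 : cert.rowsOK 318414 1083 = true := by decide +kernel

theorem chk_rows59_11 : cert.rowsOK 319497 1083 = true := by decide +kernel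

theorem chk_rows59_12 : cert.rowsOK 320580 1083 = true := by decide +kernel

theorem chk_rows59_13 : cert.rowsOK 321663 1083 = true := by decide +kernel

theorem chk_rows59_14 : cert.rowsOK 322746 1083 = true := by decide +kernel

theorem chk_rows59_15 : cert.rowsOK 323829 1083 = true := by decide +kernel

theorem chk_rows59_16 : cert.rowsOK 324912 1083 = true := by decide +kernel

theorem chk_rows59_17 : cert.rowsOK 325995 1083 = true := by decide +kernel

theorem chk_rows59_18 : cert.rowsOK 327078 1083 = true := by decide +kernel

theorem chk_rows59_19 : cert.rowsOK 328161 1083 = true := by decide +kernel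

theorem chk_rows59_20 : cert.rowsOK 329244 1083 = true := by decide +kernel

theorem chk_rows59_21 : cert.rowsOK 330327 1083 = true := by decide +kernel

theorem chk_rows59_22 : cert.rowsOK 331410 1083 = true := by decide +kernel

theorem chk_rows59_23 : cert.rowsOK 332493 1083 = true := by decide +kernel

theorem chk_range59 : ∀ a, 307584 ≤ a → a < 333576 → ∀ x < cert.c.g, cert.slotOK a x = true := by
  refine cert.range_of_chunks 307584 1083 24 (by norm_num) ?_
  intro k hk
  interval_cases k
  · exact chk_rows59_0
  · exact chk_rows59_1
  · exact chk_rows59_2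
  · exact chk_rows59_3
  · exact chk_rows59_4
  · exact chk_rows59_5
  · exact chk_rows59_6
  · exact chk_rows59_7
  · exact chk_rows59_8
  · exact chk_rows59_9
  · exact chk_rows59_10
  · exact chk_rows59_11
  · exact chk_rows59_12
  · exact chk_rows59_13
  · exact chk_rows59_14
  · exact chk_rows59_15
  · exact chk_rows59_16
  · exact chk_rows59_17
  · exact chk_rows59_18
  · exact chk_rows59_19
  · exact chk_rows59_20
  · exact chk_rows59_21
  · exact chk_rows59_22
  · exact chk_rows59_23

end Cfsg.Agent.Lib.Helper6.Fi24TC
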