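import Cfsg.Agent.Lib.Helper6.Fi24SCert
import Cfsg.Agent.Lib.Helper6.TCChunk
import Cfsg.Agent.Lib.Helper6.Fi24SMRows22

/-! # Fi24: the kernel check that the first rows are closed, part 11 -/

set_option autoImplicit false

namespace Cfsg.Agent.Lib.Helper6.Fi24TC

open Cfsg.Agent.Lib.Helper6.TC Cfsg.Agent.Lib.Helper6.TCS

theorem chk_fin99 : cert.finalOKc 306936 198000 2000 = true := by decide +kernel

theorem chk_fin100 : cert.finalOKc 306936 200000 2000 = true := by decide +kernel

theorem chk_fin101 : cert.finalOKc 306936 202000 2000 = true := by decide +kernel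

theorem chk_fin102 : cert.finalOKc 306936 204000 2000 = true := by decide +kernel

theorem chk_fin103 : cert.finalOKc 306936 206000 2000 = true := by decide +kernel

theorem chk_fin104 : cert.finalOKc 306936 208000 2000 = true := by decide +kernel

theorem chk_fin105 : cert.finalOKc 306936 210000 2000 = true := by decide +kernel

theorem chk_fin106 : cert.finalOKc 306936 212000 2000 = true := by decide +kernel

theorem chk_fin107 : cert.finalOKc 306936 214000 2000 = true := by decide +kernel

end Cfsg.Agent.Lib.Helper6.Fi24TC
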