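import Cfsg.Agent.Lib.Helper6.Fi24TCData
import Cfsg.Agent.Lib.Helper6.TCRel3
import Cfsg.Agent.Lib.Helper6.Fi24SFin11

/-! # Fi24: the kernel check of a part of the relators on the coset table -/

set_option autoImplicit false

namespace Cfsg.Agent.Lib.Helper6.Fi24TC

open Cfsg.Agent.Lib.Helper6.TC

theorem chk_pow2_2_0 : tab.minOKc [1, 2] 3 158370 5279 = true := by decide +kernel

theorem chk_pow2_2_1 : tab.minOKc [1, 2] 3 163649 5279 = true := by decide +kernel

theorem chk_pow2_2_2 : tab.minOKc [1, 2] 3 168928 5279 = true := by decide +kernel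

theorem chk_pow2_2_3 : tab.minOKc [1, 2] 3 174207 5279 = true := by decide +kernel

theorem chk_pow2_2_4 : tab.minOKc [1, 2] 3 179486 5279 = true := by decide +kernel

theorem chk_pow2_2_5 : tab.minOKc [1, 2] 3 184765 5279 = true := by decide +kernel

theorem chk_pow2_2_6 : tab.minOKc [1, 2] 3 190044 5279 = true := by decide +kernel

theorem chk_pow2_2_7 : tab.minOKc [1, 2] 3 195323 5279 = true := by decide +kernel

theorem chk_pow2_2_8 : tab.minOKc [1, 2] 3 200602 5279 = true := by decide +kernel

theorem chk_pow2_2_9 : tab.minOKc [1, 2] 3 205881 5279 = true := by decide +kernel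

theorem chk_pow2_2_10 : tab.minOKc [1, 2] 3 211160 5279 = true := by decide +kernel

theorem chk_pow2_2_11 : tab.minOKc [1, 2] 3 216439 5279 = true := by decide +kernel

theorem chk_pow2_2_12 : tab.minOKc [1, 2] 3 221718 5279 = true := by decide +kernel

theorem chk_pow2_2_13 : tab.minOKc [1, 2] 3 226997 5279 = true := by decide +kernel

theorem chk_pow2_2_14 : tab.minOKc [1, 2] 3 232276 5279 = true := by decide +kernel

theorem chk_pow2_2 : tab.minOKc [1, 2] 3 158370 79185 = true := by
  refine tab.minOKc_of_chunks [1, 2] 3 158370 5279 15 (by norm_num) ?_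
  intro i hi
  interval_cases i
  · exact chk_pow2_2_0
  · exact chk_pow2_2_1
  · exact chk_pow2_2_2
  · exact chk_pow2_2_3
  · exact chk_pow2_2_4
  · exact chk_pow2_2_5
  · exact chk_pow2_2_6
  · exact chk_pow2_2_7
  · exact chk_pow2_2_8
  · exact chk_pow2_2_9
  · exact chk_pow2_2_10
  · exact chk_pow2_2_11
  · exact chk_pow2_2_12
  · exact chk_pow2_2_13
  · exact chk_pow2_2_14

theorem chk_pow2_3_0 : tab.minOKc [1, 2] 3 237555 5279 = true := by decide +kernel

theorem chk_pow2_3_1 : tab.minOKc [1, 2] 3 242834 5279 = true := by decide +kernel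

theorem chk_pow2_3_2 : tab.minOKc [1, 2] 3 248113 5279 = true := by decide +kernel

theorem chk_pow2_3_3 : tab.minOKc [1, 2] 3 253392 5279 = true := by decide +kernel

theorem chk_pow2_3_4 : tab.minOKc [1, 2] 3 258671 5279 = true := by decide +kernel

theorem chk_pow2_3_5 : tab.minOKc [1, 2] 3 263950 5279 = true := by decide +kernel

theorem chk_pow2_3_6 : tab.minOKc [1, 2] 3 269229 5279 = true := by decide +kernel

theorem chk_pow2_3_7 : tab.minOKc [1, 2] 3 274508 5279 = true := by decide +kernel

theorem chk_pow2_3_8 : tab.minOKc [1, 2] 3 279787 5279 = true := by decide +kernel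

theorem chk_pow2_3_9 : tab.minOKc [1, 2] 3 285066 5279 = true := by decide +kernel

theorem chk_pow2_3_10 : tab.minOKc [1, 2] 3 290345 5279 = true := by decide +kernel

theorem chk_pow2_3_11 : tab.minOKc [1, 2] 3 295624 5279 = true := by decide +kernel

theorem chk_pow2_3_12 : tab.minOKc [1, 2] 3 300903 5279 = true := by decide +kernel

theorem chk_pow2_3_13 : tab.minOKc [1, 2] 3 306182 5279 = true := by decide +kernel

theorem chk_pow2_3_14 : tab.minOKc [1, 2] 3 311461 5279 = true := by decide +kernel

theorem chk_pow2_3 : tab.minOKc [1, 2] 3 237555 79185 = true := by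
  refine tab.minOKc_of_chunks [1, 2] 3 237555 5279 15 (by norm_num) ?_
  intro i hi
  interval_cases i
  · exact chk_pow2_3_0
  · exact chk_pow2_3_1
  · exact chk_pow2_3_2
  · exact chk_pow2_3_3
  · exact chk_pow2_3_4
  · exact chk_pow2_3_5
  · exact chk_pow2_3_6
  · exact chk_pow2_3_7
  · exact chk_pow2_3_8
  · exact chk_pow2_3_9
  · exact chk_pow2_3_10
  · exact chk_pow2_3_11
  · exact chk_pow2_3_12
  · exact chk_pow2_3_13
  · exact chk_pow2_3_14

end Cfsg.Agent.Lib.Helper6.Fi24TC
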