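import Cfsg.Agent.Lib.Helper6.Fi24TCData
import Cfsg.Agent.Lib.Helper6.TCRel3
import Cfsg.Agent.Lib.Helper6.Fi24TCRel5

/-! # Fi24: the kernel check of a part of the relators on the coset table -/

set_option autoImplicit false

namespace Cfsg.Agent.Lib.Helper6.Fi24TC

open Cfsg.Agent.Lib.Helper6.TC

theorem chk_pow8_2_0 : tab.minOKc [2, 4] 2 200040 6668 = true := by decide +kernel

theorem chk_pow8_2_1 : tab.minOKc [2, 4] 2 206708 6668 = true := by decide +kernel

theorem chk_pow8_2_2 : tab.minOKc [2, 4] 2 213376 6668 = true := by decide +kernel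

theorem chk_pow8_2_3 : tab.minOKc [2, 4] 2 220044 6668 = true := by decide +kernel

theorem chk_pow8_2_4 : tab.minOKc [2, 4] 2 226712 6668 = true := by decide +kernel

theorem chk_pow8_2_5 : tab.minOKc [2, 4] 2 233380 6668 = true := by decide +kernel

theorem chk_pow8_2_6 : tab.minOKc [2, 4] 2 240048 6668 = true := by decide +kernel

theorem chk_pow8_2_7 : tab.minOKc [2, 4] 2 246716 6668 = true := by decide +kernel

theorem chk_pow8_2_8 : tab.minOKc [2, 4] 2 253384 6668 = true := by decide +kernel

theorem chk_pow8_2_9 : tab.minOKc [2, 4] 2 260052 6668 = true := by decide +kernel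

theorem chk_pow8_2_10 : tab.minOKc [2, 4] 2 266720 6668 = true := by decide +kernel

theorem chk_pow8_2_11 : tab.minOKc [2, 4] 2 273388 6668 = true := by decide +kernel

theorem chk_pow8_2_12 : tab.minOKc [2, 4] 2 280056 6668 = true := by decide +kernel

theorem chk_pow8_2_13 : tab.minOKc [2, 4] 2 286724 6668 = true := by decide +kernel

theorem chk_pow8_2_14 : tab.minOKc [2, 4] 2 293392 6668 = true := by decide +kernel

theorem chk_pow8_2 : tab.minOKc [2, 4] 2 200040 100020 = true := by
  refine tab.minOKc_of_chunks [2, 4] 2 200040 6668 15 (by norm_num) ?_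
  intro i hi
  interval_cases i
  · exact chk_pow8_2_0
  · exact chk_pow8_2_1
  · exact chk_pow8_2_2
  · exact chk_pow8_2_3
  · exact chk_pow8_2_4
  · exact chk_pow8_2_5
  · exact chk_pow8_2_6
  · exact chk_pow8_2_7
  · exact chk_pow8_2_8
  · exact chk_pow8_2_9
  · exact chk_pow8_2_10
  · exact chk_pow8_2_11
  · exact chk_pow8_2_12
  · exact chk_pow8_2_13
  · exact chk_pow8_2_14

theorem chk_pow8_3_0 : tab.minOKc [2, 4] 2 300060 6668 = true := by decide +kernel

theorem chk_pow8_3_1 : tab.minOKc [2, 4] 2 306728 6668 = true := by decide +kernel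

theorem chk_pow8_3_2 : tab.minOKc [2, 4] 2 313396 6668 = true := by decide +kernel

theorem chk_pow8_3_3 : tab.minOKc [2, 4] 2 320064 6668 = true := by decide +kernel

theorem chk_pow8_3_4 : tab.minOKc [2, 4] 2 326732 6668 = true := by decide +kernel

theorem chk_pow8_3_5 : tab.minOKc [2, 4] 2 333400 6668 = true := by decide +kernel

theorem chk_pow8_3_6 : tab.minOKc [2, 4] 2 340068 6668 = true := by decide +kernel

theorem chk_pow8_3_7 : tab.minOKc [2, 4] 2 346736 6668 = true := by decide +kernel

theorem chk_pow8_3_8 : tab.minOKc [2, 4] 2 353404 6668 = true := by decide +kernel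

theorem chk_pow8_3_9 : tab.minOKc [2, 4] 2 360072 6668 = true := by decide +kernel

theorem chk_pow8_3_10 : tab.minOKc [2, 4] 2 366740 6668 = true := by decide +kernel

theorem chk_pow8_3_11 : tab.minOKc [2, 4] 2 373408 6668 = true := by decide +kernel

theorem chk_pow8_3_12 : tab.minOKc [2, 4] 2 380076 6668 = true := by decide +kernel

theorem chk_pow8_3_13 : tab.minOKc [2, 4] 2 386744 6668 = true := by decide +kernel

theorem chk_pow8_3_14 : tab.minOKc [2, 4] 2 393412 6668 = true := by decide +kernel

theorem chk_pow8_3 : tab.minOKc [2, 4] 2 300060 100020 = true := by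
  refine tab.minOKc_of_chunks [2, 4] 2 300060 6668 15 (by norm_num) ?_
  intro i hi
  interval_cases i
  · exact chk_pow8_3_0
  · exact chk_pow8_3_1
  · exact chk_pow8_3_2
  · exact chk_pow8_3_3
  · exact chk_pow8_3_4
  · exact chk_pow8_3_5
  · exact chk_pow8_3_6
  · exact chk_pow8_3_7
  · exact chk_pow8_3_8
  · exact chk_pow8_3_9
  · exact chk_pow8_3_10
  · exact chk_pow8_3_11
  · exact chk_pow8_3_12
  · exact chk_pow8_3_13
  · exact chk_pow8_3_14

end Cfsg.Agent.Lib.Helper6.Fi24TC
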