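import Cfsg.Agent.Lib.Helper6.Fi24TCData
import Cfsg.Agent.Lib.Helper6.TCRel3
import Cfsg.Agent.Lib.Helper6.Fi24TCRel17

/-! # Fi24: the kernel check of a part of the relators on the coset table -/

set_option autoImplicit false

namespace Cfsg.Agent.Lib.Helper6.Fi24TC

open Cfsg.Agent.Lib.Helper6.TC

theorem chk_pow14_2_0 : tab.minOKc [4, 5] 3 160500 5350 = true := by decide +kernel

theorem chk_pow14_2_1 : tab.minOKc [4, 5] 3 165850 5350 = true := by decide +kernel

theorem chk_pow14_2_2 : tab.minOKc [4, 5] 3 171200 5350 = true := by decide +kernel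

theorem chk_pow14_2_3 : tab.minOKc [4, 5] 3 176550 5350 = true := by decide +kernel

theorem chk_pow14_2_4 : tab.minOKc [4, 5] 3 181900 5350 = true := by decide +kernel

theorem chk_pow14_2_5 : tab.minOKc [4, 5] 3 187250 5350 = true := by decide +kernel

theorem chk_pow14_2_6 : tab.minOKc [4, 5] 3 192600 5350 = true := by decide +kernel

theorem chk_pow14_2_7 : tab.minOKc [4, 5] 3 197950 5350 = true := by decide +kernel

theorem chk_pow14_2_8 : tab.minOKc [4, 5] 3 203300 5350 = true := by decide +kernel

theorem chk_pow14_2_9 : tab.minOKc [4, 5] 3 208650 5350 = true := by decide +kernel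

theorem chk_pow14_2_10 : tab.minOKc [4, 5] 3 214000 5350 = true := by decide +kernel

theorem chk_pow14_2_11 : tab.minOKc [4, 5] 3 219350 5350 = true := by decide +kernel

theorem chk_pow14_2_12 : tab.minOKc [4, 5] 3 224700 5350 = true := by decide +kernel

theorem chk_pow14_2_13 : tab.minOKc [4, 5] 3 230050 5350 = true := by decide +kernel

theorem chk_pow14_2_14 : tab.minOKc [4, 5] 3 235400 5350 = true := by decide +kernel

theorem chk_pow14_2 : tab.minOKc [4, 5] 3 160500 80250 = true := by
  refine tab.minOKc_of_chunks [4, 5] 3 160500 5350 15 (by norm_num) ?_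
  intro i hi
  interval_cases i
  · exact chk_pow14_2_0
  · exact chk_pow14_2_1
  · exact chk_pow14_2_2
  · exact chk_pow14_2_3
  · exact chk_pow14_2_4
  · exact chk_pow14_2_5
  · exact chk_pow14_2_6
  · exact chk_pow14_2_7
  · exact chk_pow14_2_8
  · exact chk_pow14_2_9
  · exact chk_pow14_2_10
  · exact chk_pow14_2_11
  · exact chk_pow14_2_12
  · exact chk_pow14_2_13
  · exact chk_pow14_2_14

theorem chk_pow14_3_0 : tab.minOKc [4, 5] 3 240750 5350 = true := by decide +kernel

theorem chk_pow14_3_1 : tab.minOKc [4, 5] 3 246100 5350 = true := by decide +kernel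

theorem chk_pow14_3_2 : tab.minOKc [4, 5] 3 251450 5350 = true := by decide +kernel

theorem chk_pow14_3_3 : tab.minOKc [4, 5] 3 256800 5350 = true := by decide +kernel

theorem chk_pow14_3_4 : tab.minOKc [4, 5] 3 262150 5350 = true := by decide +kernel

theorem chk_pow14_3_5 : tab.minOKc [4, 5] 3 267500 5350 = true := by decide +kernel

theorem chk_pow14_3_6 : tab.minOKc [4, 5] 3 272850 5350 = true := by decide +kernel

theorem chk_pow14_3_7 : tab.minOKc [4, 5] 3 278200 5350 = true := by decide +kernel

theorem chk_pow14_3_8 : tab.minOKc [4, 5] 3 283550 5350 = true := by decide +kernel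

theorem chk_pow14_3_9 : tab.minOKc [4, 5] 3 288900 5350 = true := by decide +kernel

theorem chk_pow14_3_10 : tab.minOKc [4, 5] 3 294250 5350 = true := by decide +kernel

theorem chk_pow14_3_11 : tab.minOKc [4, 5] 3 299600 5350 = true := by decide +kernel

theorem chk_pow14_3_12 : tab.minOKc [4, 5] 3 304950 5350 = true := by decide +kernel

theorem chk_pow14_3_13 : tab.minOKc [4, 5] 3 310300 5350 = true := by decide +kernel

theorem chk_pow14_3_14 : tab.minOKc [4, 5] 3 315650 5350 = true := by decide +kernel

theorem chk_pow14_3 : tab.minOKc [4, 5] 3 240750 80250 = true := by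
  refine tab.minOKc_of_chunks [4, 5] 3 240750 5350 15 (by norm_num) ?_
  intro i hi
  interval_cases i
  · exact chk_pow14_3_0
  · exact chk_pow14_3_1
  · exact chk_pow14_3_2
  · exact chk_pow14_3_3
  · exact chk_pow14_3_4
  · exact chk_pow14_3_5
  · exact chk_pow14_3_6
  · exact chk_pow14_3_7
  · exact chk_pow14_3_8
  · exact chk_pow14_3_9
  · exact chk_pow14_3_10
  · exact chk_pow14_3_11
  · exact chk_pow14_3_12
  · exact chk_pow14_3_13
  · exact chk_pow14_3_14

end Cfsg.Agent.Lib.Helper6.Fi24TC
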