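import Cfsg.Agent.Lib.Helper6.Fi24TCData
import Cfsg.Agent.Lib.Helper6.TCRel3
import Cfsg.Agent.Lib.Helper6.Fi24TCRel29

/-! # Fi24: the kernel check of a part of the relators on the coset table -/

set_option autoImplicit false

namespace Cfsg.Agent.Lib.Helper6.Fi24TC

open Cfsg.Agent.Lib.Helper6.TC

theorem chk_pow20_2_0 : tab.minOKc [5, 6] 3 163680 5456 = true := by decide +kernel

theorem chk_pow20_2_1 : tab.minOKc [5, 6] 3 169136 5456 = true := by decide +kernel

theorem chk_pow20_2_2 : tab.minOKc [5, 6] 3 174592 5456 = true := by decide +kernel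

theorem chk_pow20_2_3 : tab.minOKc [5, 6] 3 180048 5456 = true := by decide +kernel

theorem chk_pow20_2_4 : tab.minOKc [5, 6] 3 185504 5456 = true := by decide +kernel

theorem chk_pow20_2_5 : tab.minOKc [5, 6] 3 190960 5456 = true := by decide +kernel

theorem chk_pow20_2_6 : tab.minOKc [5, 6] 3 196416 5456 = true := by decide +kernel

theorem chk_pow20_2_7 : tab.minOKc [5, 6] 3 201872 5456 = true := by decide +kernel

theorem chk_pow20_2_8 : tab.minOKc [5, 6] 3 207328 5456 = true := by decide +kernel

theorem chk_pow20_2_9 : tab.minOKc [5, 6] 3 212784 5456 = true := by decide +kernel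

theorem chk_pow20_2_10 : tab.minOKc [5, 6] 3 218240 5456 = true := by decide +kernel

theorem chk_pow20_2_11 : tab.minOKc [5, 6] 3 223696 5456 = true := by decide +kernel

theorem chk_pow20_2_12 : tab.minOKc [5, 6] 3 229152 5456 = true := by decide +kernel

theorem chk_pow20_2_13 : tab.minOKc [5, 6] 3 234608 5456 = true := by decide +kernel

theorem chk_pow20_2_14 : tab.minOKc [5, 6] 3 240064 5456 = true := by decide +kernel

theorem chk_pow20_2 : tab.minOKc [5, 6] 3 163680 81840 = true := by
  refine tab.minOKc_of_chunks [5, 6] 3 163680 5456 15 (by norm_num) ?_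
  intro i hi
  interval_cases i
  · exact chk_pow20_2_0
  · exact chk_pow20_2_1
  · exact chk_pow20_2_2
  · exact chk_pow20_2_3
  · exact chk_pow20_2_4
  · exact chk_pow20_2_5
  · exact chk_pow20_2_6
  · exact chk_pow20_2_7
  · exact chk_pow20_2_8
  · exact chk_pow20_2_9
  · exact chk_pow20_2_10
  · exact chk_pow20_2_11
  · exact chk_pow20_2_12
  · exact chk_pow20_2_13
  · exact chk_pow20_2_14

theorem chk_pow20_3_0 : tab.minOKc [5, 6] 3 245520 5456 = true := by decide +kernel

theorem chk_pow20_3_1 : tab.minOKc [5, 6] 3 250976 5456 = true := by decide +kernel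

theorem chk_pow20_3_2 : tab.minOKc [5, 6] 3 256432 5456 = true := by decide +kernel

theorem chk_pow20_3_3 : tab.minOKc [5, 6] 3 261888 5456 = true := by decide +kernel

theorem chk_pow20_3_4 : tab.minOKc [5, 6] 3 267344 5456 = true := by decide +kernel

theorem chk_pow20_3_5 : tab.minOKc [5, 6] 3 272800 5456 = true := by decide +kernel

theorem chk_pow20_3_6 : tab.minOKc [5, 6] 3 278256 5456 = true := by decide +kernel

theorem chk_pow20_3_7 : tab.minOKc [5, 6] 3 283712 5456 = true := by decide +kernel

theorem chk_pow20_3_8 : tab.minOKc [5, 6] 3 289168 5456 = true := by decide +kernel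

theorem chk_pow20_3_9 : tab.minOKc [5, 6] 3 294624 5456 = true := by decide +kernel

theorem chk_pow20_3_10 : tab.minOKc [5, 6] 3 300080 5456 = true := by decide +kernel

theorem chk_pow20_3_11 : tab.minOKc [5, 6] 3 305536 5456 = true := by decide +kernel

theorem chk_pow20_3_12 : tab.minOKc [5, 6] 3 310992 5456 = true := by decide +kernel

theorem chk_pow20_3_13 : tab.minOKc [5, 6] 3 316448 5456 = true := by decide +kernel

theorem chk_pow20_3_14 : tab.minOKc [5, 6] 3 321904 5456 = true := by decide +kernel

theorem chk_pow20_3 : tab.minOKc [5, 6] 3 245520 81840 = true := by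
  refine tab.minOKc_of_chunks [5, 6] 3 245520 5456 15 (by norm_num) ?_
  intro i hi
  interval_cases i
  · exact chk_pow20_3_0
  · exact chk_pow20_3_1
  · exact chk_pow20_3_2
  · exact chk_pow20_3_3
  · exact chk_pow20_3_4
  · exact chk_pow20_3_5
  · exact chk_pow20_3_6
  · exact chk_pow20_3_7
  · exact chk_pow20_3_8
  · exact chk_pow20_3_9
  · exact chk_pow20_3_10
  · exact chk_pow20_3_11
  · exact chk_pow20_3_12
  · exact chk_pow20_3_13
  · exact chk_pow20_3_14

end Cfsg.Agent.Lib.Helper6.Fi24TC
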