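import Cfsg.Agent.Lib.Helper6.Fi24TCData
import Cfsg.Agent.Lib.Helper6.TCRel3
import Cfsg.Agent.Lib.Helper6.Fi24TCRel41

/-! # Fi24: the kernel check of a part of the relators on the coset table -/

set_option autoImplicit false

namespace Cfsg.Agent.Lib.Helper6.Fi24TC

open Cfsg.Agent.Lib.Helper6.TC

theorem chk_pow26_2_0 : tab.minOKc [5, 7] 2 199860 6662 = true := by decide +kernel

theorem chk_pow26_2_1 : tab.minOKc [5, 7] 2 206522 6662 = true := by decide +kernel

theorem chk_pow26_2_2 : tab.minOKc [5, 7] 2 213184 6662 = true := by decide +kernel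

theorem chk_pow26_2_3 : tab.minOKc [5, 7] 2 219846 6662 = true := by decide +kernel

theorem chk_pow26_2_4 : tab.minOKc [5, 7] 2 226508 6662 = true := by decide +kernel

theorem chk_pow26_2_5 : tab.minOKc [5, 7] 2 233170 6662 = true := by decide +kernel

theorem chk_pow26_2_6 : tab.minOKc [5, 7] 2 239832 6662 = true := by decide +kernel

theorem chk_pow26_2_7 : tab.minOKc [5, 7] 2 246494 6662 = true := by decide +kernel

theorem chk_pow26_2_8 : tab.minOKc [5, 7] 2 253156 6662 = true := by decide +kernel

theorem chk_pow26_2_9 : tab.minOKc [5, 7] 2 259818 6662 = true := by decide +kernel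

theorem chk_pow26_2_10 : tab.minOKc [5, 7] 2 266480 6662 = true := by decide +kernel

theorem chk_pow26_2_11 : tab.minOKc [5, 7] 2 273142 6662 = true := by decide +kernel

theorem chk_pow26_2_12 : tab.minOKc [5, 7] 2 279804 6662 = true := by decide +kernel

theorem chk_pow26_2_13 : tab.minOKc [5, 7] 2 286466 6662 = true := by decide +kernel

theorem chk_pow26_2_14 : tab.minOKc [5, 7] 2 293128 6662 = true := by decide +kernel

theorem chk_pow26_2 : tab.minOKc [5, 7] 2 199860 99930 = true := by
  refine tab.minOKc_of_chunks [5, 7] 2 199860 6662 15 (by norm_num) ?_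
  intro i hi
  interval_cases i
  · exact chk_pow26_2_0
  · exact chk_pow26_2_1
  · exact chk_pow26_2_2
  · exact chk_pow26_2_3
  · exact chk_pow26_2_4
  · exact chk_pow26_2_5
  · exact chk_pow26_2_6
  · exact chk_pow26_2_7
  · exact chk_pow26_2_8
  · exact chk_pow26_2_9
  · exact chk_pow26_2_10
  · exact chk_pow26_2_11
  · exact chk_pow26_2_12
  · exact chk_pow26_2_13
  · exact chk_pow26_2_14

theorem chk_pow26_3_0 : tab.minOKc [5, 7] 2 299790 6662 = true := by decide +kernel

theorem chk_pow26_3_1 : tab.minOKc [5, 7] 2 306452 6662 = true := by decide +kernel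

theorem chk_pow26_3_2 : tab.minOKc [5, 7] 2 313114 6662 = true := by decide +kernel

theorem chk_pow26_3_3 : tab.minOKc [5, 7] 2 319776 6662 = true := by decide +kernel

theorem chk_pow26_3_4 : tab.minOKc [5, 7] 2 326438 6662 = true := by decide +kernel

theorem chk_pow26_3_5 : tab.minOKc [5, 7] 2 333100 6662 = true := by decide +kernel

theorem chk_pow26_3_6 : tab.minOKc [5, 7] 2 339762 6662 = true := by decide +kernel

theorem chk_pow26_3_7 : tab.minOKc [5, 7] 2 346424 6662 = true := by decide +kernel

theorem chk_pow26_3_8 : tab.minOKc [5, 7] 2 353086 6662 = true := by decide +kernel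

theorem chk_pow26_3_9 : tab.minOKc [5, 7] 2 359748 6662 = true := by decide +kernel

theorem chk_pow26_3_10 : tab.minOKc [5, 7] 2 366410 6662 = true := by decide +kernel

theorem chk_pow26_3_11 : tab.minOKc [5, 7] 2 373072 6662 = true := by decide +kernel

theorem chk_pow26_3_12 : tab.minOKc [5, 7] 2 379734 6662 = true := by decide +kernel

theorem chk_pow26_3_13 : tab.minOKc [5, 7] 2 386396 6662 = true := by decide +kernel

theorem chk_pow26_3_14 : tab.minOKc [5, 7] 2 393058 6662 = true := by decide +kernel

theorem chk_pow26_3 : tab.minOKc [5, 7] 2 299790 99930 = true := by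
  refine tab.minOKc_of_chunks [5, 7] 2 299790 6662 15 (by norm_num) ?_
  intro i hi
  interval_cases i
  · exact chk_pow26_3_0
  · exact chk_pow26_3_1
  · exact chk_pow26_3_2
  · exact chk_pow26_3_3
  · exact chk_pow26_3_4
  · exact chk_pow26_3_5
  · exact chk_pow26_3_6
  · exact chk_pow26_3_7
  · exact chk_pow26_3_8
  · exact chk_pow26_3_9
  · exact chk_pow26_3_10
  · exact chk_pow26_3_11
  · exact chk_pow26_3_12
  · exact chk_pow26_3_13
  · exact chk_pow26_3_14

end Cfsg.Agent.Lib.Helper6.Fi24TC
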