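import Cfsg.Agent.Lib.Helper6.Fi24TCData
import Cfsg.Agent.Lib.Helper6.TCRel3
import Cfsg.Agent.Lib.Helper6.Fi24TCRel53

/-! # Fi24: the kernel check of a part of the relators on the coset table -/

set_option autoImplicit false

namespace Cfsg.Agent.Lib.Helper6.Fi24TC

open Cfsg.Agent.Lib.Helper6.TC

theorem chk_pow32_2_0 : tab.minOKc [4, 8] 2 199440 6648 = true := by decide +kernel

theorem chk_pow32_2_1 : tab.minOKc [4, 8] 2 206088 6648 = true := by decide +kernel

theorem chk_pow32_2_2 : tab.minOKc [4, 8] 2 212736 6648 = true := by decide +kernel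

theorem chk_pow32_2_3 : tab.minOKc [4, 8] 2 219384 6648 = true := by decide +kernel

theorem chk_pow32_2_4 : tab.minOKc [4, 8] 2 226032 6648 = true := by decide +kernel

theorem chk_pow32_2_5 : tab.minOKc [4, 8] 2 232680 6648 = true := by decide +kernel

theorem chk_pow32_2_6 : tab.minOKc [4, 8] 2 239328 6648 = true := by decide +kernel

theorem chk_pow32_2_7 : tab.minOKc [4, 8] 2 245976 6648 = true := by decide +kernel

theorem chk_pow32_2_8 : tab.minOKc [4, 8] 2 252624 6648 = true := by decide +kernel

theorem chk_pow32_2_9 : tab.minOKc [4, 8] 2 259272 6648 = true := by decide +kernel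

theorem chk_pow32_2_10 : tab.minOKc [4, 8] 2 265920 6648 = true := by decide +kernel

theorem chk_pow32_2_11 : tab.minOKc [4, 8] 2 272568 6648 = true := by decide +kernel

theorem chk_pow32_2_12 : tab.minOKc [4, 8] 2 279216 6648 = true := by decide +kernel

theorem chk_pow32_2_13 : tab.minOKc [4, 8] 2 285864 6648 = true := by decide +kernel

theorem chk_pow32_2_14 : tab.minOKc [4, 8] 2 292512 6648 = true := by decide +kernel

theorem chk_pow32_2 : tab.minOKc [4, 8] 2 199440 99720 = true := by
  refine tab.minOKc_of_chunks [4, 8] 2 199440 6648 15 (by norm_num) ?_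
  intro i hi
  interval_cases i
  · exact chk_pow32_2_0
  · exact chk_pow32_2_1
  · exact chk_pow32_2_2
  · exact chk_pow32_2_3
  · exact chk_pow32_2_4
  · exact chk_pow32_2_5
  · exact chk_pow32_2_6
  · exact chk_pow32_2_7
  · exact chk_pow32_2_8
  · exact chk_pow32_2_9
  · exact chk_pow32_2_10
  · exact chk_pow32_2_11
  · exact chk_pow32_2_12
  · exact chk_pow32_2_13
  · exact chk_pow32_2_14

theorem chk_pow32_3_0 : tab.minOKc [4, 8] 2 299160 6648 = true := by decide +kernel

theorem chk_pow32_3_1 : tab.minOKc [4, 8] 2 305808 6648 = true := by decide +kernel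

theorem chk_pow32_3_2 : tab.minOKc [4, 8] 2 312456 6648 = true := by decide +kernel

theorem chk_pow32_3_3 : tab.minOKc [4, 8] 2 319104 6648 = true := by decide +kernel

theorem chk_pow32_3_4 : tab.minOKc [4, 8] 2 325752 6648 = true := by decide +kernel

theorem chk_pow32_3_5 : tab.minOKc [4, 8] 2 332400 6648 = true := by decide +kernel

theorem chk_pow32_3_6 : tab.minOKc [4, 8] 2 339048 6648 = true := by decide +kernel

theorem chk_pow32_3_7 : tab.minOKc [4, 8] 2 345696 6648 = true := by decide +kernel

theorem chk_pow32_3_8 : tab.minOKc [4, 8] 2 352344 6648 = true := by decide +kernel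

theorem chk_pow32_3_9 : tab.minOKc [4, 8] 2 358992 6648 = true := by decide +kernel

theorem chk_pow32_3_10 : tab.minOKc [4, 8] 2 365640 6648 = true := by decide +kernel

theorem chk_pow32_3_11 : tab.minOKc [4, 8] 2 372288 6648 = true := by decide +kernel

theorem chk_pow32_3_12 : tab.minOKc [4, 8] 2 378936 6648 = true := by decide +kernel

theorem chk_pow32_3_13 : tab.minOKc [4, 8] 2 385584 6648 = true := by decide +kernel

theorem chk_pow32_3_14 : tab.minOKc [4, 8] 2 392232 6648 = true := by decide +kernel

theorem chk_pow32_3 : tab.minOKc [4, 8] 2 299160 99720 = true := by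
  refine tab.minOKc_of_chunks [4, 8] 2 299160 6648 15 (by norm_num) ?_
  intro i hi
  interval_cases i
  · exact chk_pow32_3_0
  · exact chk_pow32_3_1
  · exact chk_pow32_3_2
  · exact chk_pow32_3_3
  · exact chk_pow32_3_4
  · exact chk_pow32_3_5
  · exact chk_pow32_3_6
  · exact chk_pow32_3_7
  · exact chk_pow32_3_8
  · exact chk_pow32_3_9
  · exact chk_pow32_3_10
  · exact chk_pow32_3_11
  · exact chk_pow32_3_12
  · exact chk_pow32_3_13
  · exact chk_pow32_3_14

end Cfsg.Agent.Lib.Helper6.Fi24TC
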