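import Cfsg.Agent.Lib.Helper6.Fi24TCData
import Cfsg.Agent.Lib.Helper6.TCRel3
import Cfsg.Agent.Lib.Helper6.Fi24TCRel77

/-! # Fi24: the kernel check of a part of the relators on the coset table -/

set_option autoImplicit false

namespace Cfsg.Agent.Lib.Helper6.Fi24TC

open Cfsg.Agent.Lib.Helper6.TC

theorem chk_pow44_2_0 : tab.minOKc [8, 9] 3 166560 5552 = true := by decide +kernel

theorem chk_pow44_2_1 : tab.minOKc [8, 9] 3 172112 5552 = true := by decide +kernel

theorem chk_pow44_2_2 : tab.minOKc [8, 9] 3 177664 5552 = true := by decide +kernel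

theorem chk_pow44_2_3 : tab.minOKc [8, 9] 3 183216 5552 = true := by decide +kernel

theorem chk_pow44_2_4 : tab.minOKc [8, 9] 3 188768 5552 = true := by decide +kernel

theorem chk_pow44_2_5 : tab.minOKc [8, 9] 3 194320 5552 = true := by decide +kernel

theorem chk_pow44_2_6 : tab.minOKc [8, 9] 3 199872 5552 = true := by decide +kernel

theorem chk_pow44_2_7 : tab.minOKc [8, 9] 3 205424 5552 = true := by decide +kernel

theorem chk_pow44_2_8 : tab.minOKc [8, 9] 3 210976 5552 = true := by decide +kernel

theorem chk_pow44_2_9 : tab.minOKc [8, 9] 3 216528 5552 = true := by decide +kernel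

theorem chk_pow44_2_10 : tab.minOKc [8, 9] 3 222080 5552 = true := by decide +kernel

theorem chk_pow44_2_11 : tab.minOKc [8, 9] 3 227632 5552 = true := by decide +kernel

theorem chk_pow44_2_12 : tab.minOKc [8, 9] 3 233184 5552 = true := by decide +kernel

theorem chk_pow44_2_13 : tab.minOKc [8, 9] 3 238736 5552 = true := by decide +kernel

theorem chk_pow44_2_14 : tab.minOKc [8, 9] 3 244288 5552 = true := by decide +kernel

theorem chk_pow44_2 : tab.minOKc [8, 9] 3 166560 83280 = true := by
  refine tab.minOKc_of_chunks [8, 9] 3 166560 5552 15 (by norm_num) ?_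
  intro i hi
  interval_cases i
  · exact chk_pow44_2_0
  · exact chk_pow44_2_1
  · exact chk_pow44_2_2
  · exact chk_pow44_2_3
  · exact chk_pow44_2_4
  · exact chk_pow44_2_5
  · exact chk_pow44_2_6
  · exact chk_pow44_2_7
  · exact chk_pow44_2_8
  · exact chk_pow44_2_9
  · exact chk_pow44_2_10
  · exact chk_pow44_2_11
  · exact chk_pow44_2_12
  · exact chk_pow44_2_13
  · exact chk_pow44_2_14

theorem chk_pow44_3_0 : tab.minOKc [8, 9] 3 249840 5552 = true := by decide +kernel

theorem chk_pow44_3_1 : tab.minOKc [8, 9] 3 255392 5552 = true := by decide +kernel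

theorem chk_pow44_3_2 : tab.minOKc [8, 9] 3 260944 5552 = true := by decide +kernel

theorem chk_pow44_3_3 : tab.minOKc [8, 9] 3 266496 5552 = true := by decide +kernel

theorem chk_pow44_3_4 : tab.minOKc [8, 9] 3 272048 5552 = true := by decide +kernel

theorem chk_pow44_3_5 : tab.minOKc [8, 9] 3 277600 5552 = true := by decide +kernel

theorem chk_pow44_3_6 : tab.minOKc [8, 9] 3 283152 5552 = true := by decide +kernel

theorem chk_pow44_3_7 : tab.minOKc [8, 9] 3 288704 5552 = true := by decide +kernel

theorem chk_pow44_3_8 : tab.minOKc [8, 9] 3 294256 5552 = true := by decide +kernel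

theorem chk_pow44_3_9 : tab.minOKc [8, 9] 3 299808 5552 = true := by decide +kernel

theorem chk_pow44_3_10 : tab.minOKc [8, 9] 3 305360 5552 = true := by decide +kernel

theorem chk_pow44_3_11 : tab.minOKc [8, 9] 3 310912 5552 = true := by decide +kernel

theorem chk_pow44_3_12 : tab.minOKc [8, 9] 3 316464 5552 = true := by decide +kernel

theorem chk_pow44_3_13 : tab.minOKc [8, 9] 3 322016 5552 = true := by decide +kernel

theorem chk_pow44_3_14 : tab.minOKc [8, 9] 3 327568 5552 = true := by decide +kernel

theorem chk_pow44_3 : tab.minOKc [8, 9] 3 249840 83280 = true := by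
  refine tab.minOKc_of_chunks [8, 9] 3 249840 5552 15 (by norm_num) ?_
  intro i hi
  interval_cases i
  · exact chk_pow44_3_0
  · exact chk_pow44_3_1
  · exact chk_pow44_3_2
  · exact chk_pow44_3_3
  · exact chk_pow44_3_4
  · exact chk_pow44_3_5
  · exact chk_pow44_3_6
  · exact chk_pow44_3_7
  · exact chk_pow44_3_8
  · exact chk_pow44_3_9
  · exact chk_pow44_3_10
  · exact chk_pow44_3_11
  · exact chk_pow44_3_12
  · exact chk_pow44_3_13
  · exact chk_pow44_3_14

end Cfsg.Agent.Lib.Helper6.Fi24TC
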