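import Cfsg.Agent.Lib.Helper6.Fi24TCData
import Cfsg.Agent.Lib.Helper6.TCRel3
import Cfsg.Agent.Lib.Helper6.Fi24TCRel89

/-! # Fi24: the kernel check of a part of the relators on the coset table -/

set_option autoImplicit false

namespace Cfsg.Agent.Lib.Helper6.Fi24TC

open Cfsg.Agent.Lib.Helper6.TC

theorem chk_pow50_2_0 : tab.minOKc [5, 10] 3 163440 5448 = true := by decide +kernel

theorem chk_pow50_2_1 : tab.minOKc [5, 10] 3 168888 5448 = true := by decide +kernel

theorem chk_pow50_2_2 : tab.minOKc [5, 10] 3 174336 5448 = true := by decide +kernel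

theorem chk_pow50_2_3 : tab.minOKc [5, 10] 3 179784 5448 = true := by decide +kernel

theorem chk_pow50_2_4 : tab.minOKc [5, 10] 3 185232 5448 = true := by decide +kernel

theorem chk_pow50_2_5 : tab.minOKc [5, 10] 3 190680 5448 = true := by decide +kernel

theorem chk_pow50_2_6 : tab.minOKc [5, 10] 3 196128 5448 = true := by decide +kernel

theorem chk_pow50_2_7 : tab.minOKc [5, 10] 3 201576 5448 = true := by decide +kernel

theorem chk_pow50_2_8 : tab.minOKc [5, 10] 3 207024 5448 = true := by decide +kernel

theorem chk_pow50_2_9 : tab.minOKc [5, 10] 3 212472 5448 = true := by decide +kernel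

theorem chk_pow50_2_10 : tab.minOKc [5, 10] 3 217920 5448 = true := by decide +kernel

theorem chk_pow50_2_11 : tab.minOKc [5, 10] 3 223368 5448 = true := by decide +kernel

theorem chk_pow50_2_12 : tab.minOKc [5, 10] 3 228816 5448 = true := by decide +kernel

theorem chk_pow50_2_13 : tab.minOKc [5, 10] 3 234264 5448 = true := by decide +kernel

theorem chk_pow50_2_14 : tab.minOKc [5, 10] 3 239712 5448 = true := by decide +kernel

theorem chk_pow50_2 : tab.minOKc [5, 10] 3 163440 81720 = true := by
  refine tab.minOKc_of_chunks [5, 10] 3 163440 5448 15 (by norm_num) ?_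
  intro i hi
  interval_cases i
  · exact chk_pow50_2_0
  · exact chk_pow50_2_1
  · exact chk_pow50_2_2
  · exact chk_pow50_2_3
  · exact chk_pow50_2_4
  · exact chk_pow50_2_5
  · exact chk_pow50_2_6
  · exact chk_pow50_2_7
  · exact chk_pow50_2_8
  · exact chk_pow50_2_9
  · exact chk_pow50_2_10
  · exact chk_pow50_2_11
  · exact chk_pow50_2_12
  · exact chk_pow50_2_13
  · exact chk_pow50_2_14

theorem chk_pow50_3_0 : tab.minOKc [5, 10] 3 245160 5448 = true := by decide +kernel

theorem chk_pow50_3_1 : tab.minOKc [5, 10] 3 250608 5448 = true := by decide +kernel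

theorem chk_pow50_3_2 : tab.minOKc [5, 10] 3 256056 5448 = true := by decide +kernel

theorem chk_pow50_3_3 : tab.minOKc [5, 10] 3 261504 5448 = true := by decide +kernel

theorem chk_pow50_3_4 : tab.minOKc [5, 10] 3 266952 5448 = true := by decide +kernel

theorem chk_pow50_3_5 : tab.minOKc [5, 10] 3 272400 5448 = true := by decide +kernel

theorem chk_pow50_3_6 : tab.minOKc [5, 10] 3 277848 5448 = true := by decide +kernel

theorem chk_pow50_3_7 : tab.minOKc [5, 10] 3 283296 5448 = true := by decide +kernel

theorem chk_pow50_3_8 : tab.minOKc [5, 10] 3 288744 5448 = true := by decide +kernel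

theorem chk_pow50_3_9 : tab.minOKc [5, 10] 3 294192 5448 = true := by decide +kernel

theorem chk_pow50_3_10 : tab.minOKc [5, 10] 3 299640 5448 = true := by decide +kernel

theorem chk_pow50_3_11 : tab.minOKc [5, 10] 3 305088 5448 = true := by decide +kernel

theorem chk_pow50_3_12 : tab.minOKc [5, 10] 3 310536 5448 = true := by decide +kernel

theorem chk_pow50_3_13 : tab.minOKc [5, 10] 3 315984 5448 = true := by decide +kernel

theorem chk_pow50_3_14 : tab.minOKc [5, 10] 3 321432 5448 = true := by decide +kernel

theorem chk_pow50_3 : tab.minOKc [5, 10] 3 245160 81720 = true := by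
  refine tab.minOKc_of_chunks [5, 10] 3 245160 5448 15 (by norm_num) ?_
  intro i hi
  interval_cases i
  · exact chk_pow50_3_0
  · exact chk_pow50_3_1
  · exact chk_pow50_3_2
  · exact chk_pow50_3_3
  · exact chk_pow50_3_4
  · exact chk_pow50_3_5
  · exact chk_pow50_3_6
  · exact chk_pow50_3_7
  · exact chk_pow50_3_8
  · exact chk_pow50_3_9
  · exact chk_pow50_3_10
  · exact chk_pow50_3_11
  · exact chk_pow50_3_12
  · exact chk_pow50_3_13
  · exact chk_pow50_3_14

end Cfsg.Agent.Lib.Helper6.Fi24TC
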