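import Cfsg.Agent.Lib.Helper6.Fi24SCert
import Cfsg.Agent.Lib.Helper6.Fi24SRows0

/-! # Fi24: the kernel check of the rows from 101088 on -/

set_option autoImplicit false

namespace Cfsg.Agent.Lib.Helper6.Fi24TC

open Cfsg.Agent.Lib.Helper6.TC Cfsg.Agent.Lib.Helper6.TCS

theorem chk_rows12_0 : cert.rowsOK 101088 249 = true := by decide +kernel

theorem chk_rows12_1 : cert.rowsOK 101337 249 = true := by decide +kernel

theorem chk_rows12_2 : cert.rowsOK 101586 249 = true := by decide +kernel

theorem chk_rows12_3 : cert.rowsOK 101835 249 = true := by decide +kernel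

theorem chk_rows12_4 : cert.rowsOK 102084 249 = true := by decide +kernel

theorem chk_rows12_5 : cert.rowsOK 102333 249 = true := by decide +kernel

theorem chk_rows12_6 : cert.rowsOK 102582 249 = true := by decide +kernel

theorem chk_rows12_7 : cert.rowsOK 102831 249 = true := by decide +kernel

theorem chk_rows12_8 : cert.rowsOK 103080 249 = true := by decide +kernel

theorem chk_rows12_9 : cert.rowsOK 103329 249 = true := by decide +kernel

theorem chk_rows12_10 : cert.rowsOK 103578 249 = true := by decide +kernel

theorem chk_rows12_11 : cert.rowsOK 103827 249 = true := by decide +kernel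

theorem chk_rows12_12 : cert.rowsOK 104076 249 = true := by decide +kernel

theorem chk_rows12_13 : cert.rowsOK 104325 249 = true := by decide +kernel

theorem chk_rows12_14 : cert.rowsOK 104574 249 = true := by decide +kernel

theorem chk_rows12_15 : cert.rowsOK 104823 249 = true := by decide +kernel

theorem chk_rows12_16 : cert.rowsOK 105072 249 = true := by decide +kernel

theorem chk_rows12_17 : cert.rowsOK 105321 249 = true := by decide +kernel

theorem chk_rows12_18 : cert.rowsOK 105570 249 = true := by decide +kernel

theorem chk_rows12_19 : cert.rowsOK 105819 249 = true := by decide +kernel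

theorem chk_rows12_20 : cert.rowsOK 106068 249 = true := by decide +kernel

theorem chk_rows12_21 : cert.rowsOK 106317 249 = true := by decide +kernel

theorem chk_rows12_22 : cert.rowsOK 106566 249 = true := by decide +kernel

theorem chk_rows12_23 : cert.rowsOK 106815 249 = true := by decide +kernel

theorem chk_range12 : ∀ a, 101088 ≤ a → a < 107064 → ∀ x < cert.c.g, cert.slotOK a x = true := by
  refine cert.range_of_chunks 101088 249 24 (by norm_num) ?_
  intro k hk
  interval_cases k
  · exact chk_rows12_0
  · exact chk_rows12_1
  · exact chk_rows12_2
  · exact chk_rows12_3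
  · exact chk_rows12_4
  · exact chk_rows12_5
  · exact chk_rows12_6
  · exact chk_rows12_7
  · exact chk_rows12_8
  · exact chk_rows12_9
  · exact chk_rows12_10
  · exact chk_rows12_11
  · exact chk_rows12_12
  · exact chk_rows12_13
  · exact chk_rows12_14
  · exact chk_rows12_15
  · exact chk_rows12_16
  · exact chk_rows12_17
  · exact chk_rows12_18
  · exact chk_rows12_19
  · exact chk_rows12_20
  · exact chk_rows12_21
  · exact chk_rows12_22
  · exact chk_rows12_23

end Cfsg.Agent.Lib.Helper6.Fi24TC
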