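import Cfsg.Agent.Lib.Helper6.Fi24SCert
import Cfsg.Agent.Lib.Helper6.Fi24SRows12

/-! # Fi24: the kernel check of the rows from 185664 on -/

set_option autoImplicit false

namespace Cfsg.Agent.Lib.Helper6.Fi24TC

open Cfsg.Agent.Lib.Helper6.TC Cfsg.Agent.Lib.Helper6.TCS

theorem chk_rows24_0 : cert.rowsOK 185664 293 = true := by decide +kernel

theorem chk_rows24_1 : cert.rowsOK 185957 293 = true := by decide +kernel

theorem chk_rows24_2 : cert.rowsOK 186250 293 = true := by decide +kernel

theorem chk_rows24_3 : cert.rowsOK 186543 293 = true := by decide +kernel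

theorem chk_rows24_4 : cert.rowsOK 186836 293 = true := by decide +kernel

theorem chk_rows24_5 : cert.rowsOK 187129 293 = true := by decide +kernel

theorem chk_rows24_6 : cert.rowsOK 187422 293 = true := by decide +kernel

theorem chk_rows24_7 : cert.rowsOK 187715 293 = true := by decide +kernel

theorem chk_rows24_8 : cert.rowsOK 188008 293 = true := by decide +kernel

theorem chk_rows24_9 : cert.rowsOK 188301 293 = true := by decide +kernel

theorem chk_rows24_10 : cert.rowsOK 188594 293 = true := by decide +kernel

theorem chk_rows24_11 : cert.rowsOK 188887 293 = true := by decide +kernel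

theorem chk_rows24_12 : cert.rowsOK 189180 293 = true := by decide +kernel

theorem chk_rows24_13 : cert.rowsOK 189473 293 = true := by decide +kernel

theorem chk_rows24_14 : cert.rowsOK 189766 293 = true := by decide +kernel

theorem chk_rows24_15 : cert.rowsOK 190059 293 = true := by decide +kernel

theorem chk_rows24_16 : cert.rowsOK 190352 293 = true := by decide +kernel

theorem chk_rows24_17 : cert.rowsOK 190645 293 = true := by decide +kernel

theorem chk_rows24_18 : cert.rowsOK 190938 293 = true := by decide +kernel

theorem chk_rows24_19 : cert.rowsOK 191231 293 = true := by decide +kernel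

theorem chk_rows24_20 : cert.rowsOK 191524 293 = true := by decide +kernel

theorem chk_rows24_21 : cert.rowsOK 191817 293 = true := by decide +kernel

theorem chk_rows24_22 : cert.rowsOK 192110 293 = true := by decide +kernel

theorem chk_rows24_23 : cert.rowsOK 192403 293 = true := by decide +kernel

theorem chk_range24 : ∀ a, 185664 ≤ a → a < 192696 → ∀ x < cert.c.g, cert.slotOK a x = true := by
  refine cert.range_of_chunks 185664 293 24 (by norm_num) ?_
  intro k hk
  interval_cases k
  · exact chk_rows24_0
  · exact chk_rows24_1
  · exact chk_rows24_2
  · exact chk_rows24_3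
  · exact chk_rows24_4
  · exact chk_rows24_5
  · exact chk_rows24_6
  · exact chk_rows24_7
  · exact chk_rows24_8
  · exact chk_rows24_9
  · exact chk_rows24_10
  · exact chk_rows24_11
  · exact chk_rows24_12
  · exact chk_rows24_13
  · exact chk_rows24_14
  · exact chk_rows24_15
  · exact chk_rows24_16
  · exact chk_rows24_17
  · exact chk_rows24_18
  · exact chk_rows24_19
  · exact chk_rows24_20
  · exact chk_rows24_21
  · exact chk_rows24_22
  · exact chk_rows24_23

end Cfsg.Agent.Lib.Helper6.Fi24TC
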