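import Cfsg.Agent.Lib.Helper6.Fi24SCert
import Cfsg.Agent.Lib.Helper6.Fi24SRows24

/-! # Fi24: the kernel check of the rows from 255504 on -/

set_option autoImplicit false

namespace Cfsg.Agent.Lib.Helper6.Fi24TC

open Cfsg.Agent.Lib.Helper6.TC Cfsg.Agent.Lib.Helper6.TCS

theorem chk_rows36_0 : cert.rowsOK 255504 179 = true := by decide +kernel

theorem chk_rows36_1 : cert.rowsOK 255683 179 = true := by decide +kernel

theorem chk_rows36_2 : cert.rowsOK 255862 179 = true := by decide +kernel

theorem chk_rows36_3 : cert.rowsOK 256041 179 = true := by decide +kernel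

theorem chk_rows36_4 : cert.rowsOK 256220 179 = true := by decide +kernel

theorem chk_rows36_5 : cert.rowsOK 256399 179 = true := by decide +kernel

theorem chk_rows36_6 : cert.rowsOK 256578 179 = true := by decide +kernel

theorem chk_rows36_7 : cert.rowsOK 256757 179 = true := by decide +kernel

theorem chk_rows36_8 : cert.rowsOK 256936 179 = true := by decide +kernel

theorem chk_rows36_9 : cert.rowsOK 257115 179 = true := by decide +kernel

theorem chk_rows36_10 : cert.rowsOK 257294 179 = true := by decide +kernel

theorem chk_rows36_11 : cert.rowsOK 257473 179 = true := by decide +kernel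

theorem chk_rows36_12 : cert.rowsOK 257652 179 = true := by decide +kernel

theorem chk_rows36_13 : cert.rowsOK 257831 179 = true := by decide +kernel

theorem chk_rows36_14 : cert.rowsOK 258010 179 = true := by decide +kernel

theorem chk_rows36_15 : cert.rowsOK 258189 179 = true := by decide +kernel

theorem chk_rows36_16 : cert.rowsOK 258368 179 = true := by decide +kernel

theorem chk_rows36_17 : cert.rowsOK 258547 179 = true := by decide +kernel

theorem chk_rows36_18 : cert.rowsOK 258726 179 = true := by decide +kernel

theorem chk_rows36_19 : cert.rowsOK 258905 179 = true := by decide +kernel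

theorem chk_rows36_20 : cert.rowsOK 259084 179 = true := by decide +kernel

theorem chk_rows36_21 : cert.rowsOK 259263 179 = true := by decide +kernel

theorem chk_rows36_22 : cert.rowsOK 259442 179 = true := by decide +kernel

theorem chk_rows36_23 : cert.rowsOK 259621 179 = true := by decide +kernel

theorem chk_range36 : ∀ a, 255504 ≤ a → a < 259800 → ∀ x < cert.c.g, cert.slotOK a x = true := by
  refine cert.range_of_chunks 255504 179 24 (by norm_num) ?_
  intro k hk
  interval_cases k
  · exact chk_rows36_0
  · exact chk_rows36_1
  · exact chk_rows36_2
  · exact chk_rows36_3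
  · exact chk_rows36_4
  · exact chk_rows36_5
  · exact chk_rows36_6
  · exact chk_rows36_7
  · exact chk_rows36_8
  · exact chk_rows36_9
  · exact chk_rows36_10
  · exact chk_rows36_11
  · exact chk_rows36_12
  · exact chk_rows36_13
  · exact chk_rows36_14
  · exact chk_rows36_15
  · exact chk_rows36_16
  · exact chk_rows36_17
  · exact chk_rows36_18
  · exact chk_rows36_19
  · exact chk_rows36_20
  · exact chk_rows36_21
  · exact chk_rows36_22
  · exact chk_rows36_23

end Cfsg.Agent.Lib.Helper6.Fi24TC
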