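import Cfsg.Agent.Lib.Helper6.Fi24SCert
import Cfsg.Agent.Lib.Helper6.Fi24SRows36

/-! # Fi24: the kernel check of the rows from 291576 on -/

set_option autoImplicit false

namespace Cfsg.Agent.Lib.Helper6.Fi24TC

open Cfsg.Agent.Lib.Helper6.TC Cfsg.Agent.Lib.Helper6.TCS

theorem chk_rows48_0 : cert.rowsOK 291576 78 = true := by decide +kernel

theorem chk_rows48_1 : cert.rowsOK 291654 78 = true := by decide +kernel

theorem chk_rows48_2 : cert.rowsOK 291732 78 = true := by decide +kernel

theorem chk_rows48_3 : cert.rowsOK 291810 78 = true := by decide +kernel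

theorem chk_rows48_4 : cert.rowsOK 291888 78 = true := by decide +kernel

theorem chk_rows48_5 : cert.rowsOK 291966 78 = true := by decide +kernel

theorem chk_rows48_6 : cert.rowsOK 292044 78 = true := by decide +kernel

theorem chk_rows48_7 : cert.rowsOK 292122 78 = true := by decide +kernel

theorem chk_rows48_8 : cert.rowsOK 292200 78 = true := by decide +kernel

theorem chk_rows48_9 : cert.rowsOK 292278 78 = true := by decide +kernel

theorem chk_rows48_10 : cert.rowsOK 292356 78 = true := by decide +kernel

theorem chk_rows48_11 : cert.rowsOK 292434 78 = true := by decide +kernel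

theorem chk_rows48_12 : cert.rowsOK 292512 78 = true := by decide +kernel

theorem chk_rows48_13 : cert.rowsOK 292590 78 = true := by decide +kernel

theorem chk_rows48_14 : cert.rowsOK 292668 78 = true := by decide +kernel

theorem chk_rows48_15 : cert.rowsOK 292746 78 = true := by decide +kernel

theorem chk_rows48_16 : cert.rowsOK 292824 78 = true := by decide +kernel

theorem chk_rows48_17 : cert.rowsOK 292902 78 = true := by decide +kernel

theorem chk_rows48_18 : cert.rowsOK 292980 78 = true := by decide +kernel

theorem chk_rows48_19 : cert.rowsOK 293058 78 = true := by decide +kernel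

theorem chk_rows48_20 : cert.rowsOK 293136 78 = true := by decide +kernel

theorem chk_rows48_21 : cert.rowsOK 293214 78 = true := by decide +kernel

theorem chk_rows48_22 : cert.rowsOK 293292 78 = true := by decide +kernel

theorem chk_rows48_23 : cert.rowsOK 293370 78 = true := by decide +kernel

theorem chk_range48 : ∀ a, 291576 ≤ a → a < 293448 → ∀ x < cert.c.g, cert.slotOK a x = true := by
  refine cert.range_of_chunks 291576 78 24 (by norm_num) ?_
  intro k hk
  interval_cases k
  · exact chk_rows48_0
  · exact chk_rows48_1
  · exact chk_rows48_2
  · exact chk_rows48_3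
  · exact chk_rows48_4
  · exact chk_rows48_5
  · exact chk_rows48_6
  · exact chk_rows48_7
  · exact chk_rows48_8
  · exact chk_rows48_9
  · exact chk_rows48_10
  · exact chk_rows48_11
  · exact chk_rows48_12
  · exact chk_rows48_13
  · exact chk_rows48_14
  · exact chk_rows48_15
  · exact chk_rows48_16
  · exact chk_rows48_17
  · exact chk_rows48_18
  · exact chk_rows48_19
  · exact chk_rows48_20
  · exact chk_rows48_21
  · exact chk_rows48_22
  · exact chk_rows48_23

end Cfsg.Agent.Lib.Helper6.Fi24TC
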