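import Cfsg.Agent.Lib.Helper6.Fi24SCert
import Cfsg.Agent.Lib.Helper6.Fi24SRows48

/-! # Fi24: the kernel check of the rows from 333576 on -/

set_option autoImplicit false

namespace Cfsg.Agent.Lib.Helper6.Fi24TC

open Cfsg.Agent.Lib.Helper6.TC Cfsg.Agent.Lib.Helper6.TCS

theorem chk_rows60_0 : cert.rowsOK 333576 1083 = true := by decide +kernel

theorem chk_rows60_1 : cert.rowsOK 334659 1083 = true := by decide +kernel

theorem chk_rows60_2 : cert.rowsOK 335742 1083 = true := by decide +kernel

theorem chk_rows60_3 : cert.rowsOK 336825 1083 = true := by decide +kernel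

theorem chk_rows60_4 : cert.rowsOK 337908 1083 = true := by decide +kernel

theorem chk_rows60_5 : cert.rowsOK 338991 1083 = true := by decide +kernel

theorem chk_rows60_6 : cert.rowsOK 340074 1083 = true := by decide +kernel

theorem chk_rows60_7 : cert.rowsOK 341157 1083 = true := by decide +kernel

theorem chk_rows60_8 : cert.rowsOK 342240 1083 = true := by decide +kernel

theorem chk_rows60_9 : cert.rowsOK 343323 1083 = true := by decide +kernel

theorem chk_rows60_10 : cert.rowsOK 344406 1083 = true := by decide +kernel

theorem chk_rows60_11 : cert.rowsOK 345489 1083 = true := by decide +kernel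

theorem chk_rows60_12 : cert.rowsOK 346572 1083 = true := by decide +kernel

theorem chk_rows60_13 : cert.rowsOK 347655 1083 = true := by decide +kernel

theorem chk_rows60_14 : cert.rowsOK 348738 1083 = true := by decide +kernel

theorem chk_rows60_15 : cert.rowsOK 349821 1083 = true := by decide +kernel

theorem chk_rows60_16 : cert.rowsOK 350904 1083 = true := by decide +kernel

theorem chk_rows60_17 : cert.rowsOK 351987 1083 = true := by decide +kernel

theorem chk_rows60_18 : cert.rowsOK 353070 1083 = true := by decide +kernel

theorem chk_rows60_19 : cert.rowsOK 354153 1083 = true := by decide +kernel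

theorem chk_rows60_20 : cert.rowsOK 355236 1083 = true := by decide +kernel

theorem chk_rows60_21 : cert.rowsOK 356319 1083 = true := by decide +kernel

theorem chk_rows60_22 : cert.rowsOK 357402 1083 = true := by decide +kernel

theorem chk_rows60_23 : cert.rowsOK 358485 1083 = true := by decide +kernel

theorem chk_range60 : ∀ a, 333576 ≤ a → a < 359568 → ∀ x < cert.c.g, cert.slotOK a x = true := by
  refine cert.range_of_chunks 333576 1083 24 (by norm_num) ?_
  intro k hk
  interval_cases k
  · exact chk_rows60_0
  · exact chk_rows60_1
  · exact chk_rows60_2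
  · exact chk_rows60_3
  · exact chk_rows60_4
  · exact chk_rows60_5
  · exact chk_rows60_6
  · exact chk_rows60_7
  · exact chk_rows60_8
  · exact chk_rows60_9
  · exact chk_rows60_10
  · exact chk_rows60_11
  · exact chk_rows60_12
  · exact chk_rows60_13
  · exact chk_rows60_14
  · exact chk_rows60_15
  · exact chk_rows60_16
  · exact chk_rows60_17
  · exact chk_rows60_18
  · exact chk_rows60_19
  · exact chk_rows60_20
  · exact chk_rows60_21
  · exact chk_rows60_22
  · exact chk_rows60_23

end Cfsg.Agent.Lib.Helper6.Fi24TC
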