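import Cfsg.Agent.Lib.Helper6.Fi24TCData
import Cfsg.Agent.Lib.Helper6.TCRel3
import Cfsg.Agent.Lib.Helper6.Fi24SFin12

/-! # Fi24: the kernel check of a part of the relators on the coset table -/

set_option autoImplicit false

namespace Cfsg.Agent.Lib.Helper6.Fi24TC

open Cfsg.Agent.Lib.Helper6.TC

theorem chk_pow3_0_0 : tab.minOKc [0, 3] 2 0 6736 = true := by decide +kernel

theorem chk_pow3_0_1 : tab.minOKc [0, 3] 2 6736 6736 = true := by decide +kernel

theorem chk_pow3_0_2 : tab.minOKc [0, 3] 2 13472 6736 = true := by decide +kernel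

theorem chk_pow3_0_3 : tab.minOKc [0, 3] 2 20208 6736 = true := by decide +kernel

theorem chk_pow3_0_4 : tab.minOKc [0, 3] 2 26944 6736 = true := by decide +kernel

theorem chk_pow3_0_5 : tab.minOKc [0, 3] 2 33680 6736 = true := by decide +kernel

theorem chk_pow3_0_6 : tab.minOKc [0, 3] 2 40416 6736 = true := by decide +kernel

theorem chk_pow3_0_7 : tab.minOKc [0, 3] 2 47152 6736 = true := by decide +kernel

theorem chk_pow3_0_8 : tab.minOKc [0, 3] 2 53888 6736 = true := by decide +kernel

theorem chk_pow3_0_9 : tab.minOKc [0, 3] 2 60624 6736 = true := by decide +kernel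

theorem chk_pow3_0_10 : tab.minOKc [0, 3] 2 67360 6736 = true := by decide +kernel

theorem chk_pow3_0_11 : tab.minOKc [0, 3] 2 74096 6736 = true := by decide +kernel

theorem chk_pow3_0_12 : tab.minOKc [0, 3] 2 80832 6736 = true := by decide +kernel

theorem chk_pow3_0_13 : tab.minOKc [0, 3] 2 87568 6736 = true := by decide +kernel

theorem chk_pow3_0_14 : tab.minOKc [0, 3] 2 94304 6736 = true := by decide +kernel

theorem chk_pow3_0 : tab.minOKc [0, 3] 2 0 101040 = true := by
  refine tab.minOKc_of_chunks [0, 3] 2 0 6736 15 (by norm_num) ?_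
  intro i hi
  interval_cases i
  · exact chk_pow3_0_0
  · exact chk_pow3_0_1
  · exact chk_pow3_0_2
  · exact chk_pow3_0_3
  · exact chk_pow3_0_4
  · exact chk_pow3_0_5
  · exact chk_pow3_0_6
  · exact chk_pow3_0_7
  · exact chk_pow3_0_8
  · exact chk_pow3_0_9
  · exact chk_pow3_0_10
  · exact chk_pow3_0_11
  · exact chk_pow3_0_12
  · exact chk_pow3_0_13
  · exact chk_pow3_0_14

theorem chk_pow3_1_0 : tab.minOKc [0, 3] 2 101040 6736 = true := by decide +kernel

theorem chk_pow3_1_1 : tab.minOKc [0, 3] 2 107776 6736 = true := by decide +kernel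

theorem chk_pow3_1_2 : tab.minOKc [0, 3] 2 114512 6736 = true := by decide +kernel

theorem chk_pow3_1_3 : tab.minOKc [0, 3] 2 121248 6736 = true := by decide +kernel

theorem chk_pow3_1_4 : tab.minOKc [0, 3] 2 127984 6736 = true := by decide +kernel

theorem chk_pow3_1_5 : tab.minOKc [0, 3] 2 134720 6736 = true := by decide +kernel

theorem chk_pow3_1_6 : tab.minOKc [0, 3] 2 141456 6736 = true := by decide +kernel

theorem chk_pow3_1_7 : tab.minOKc [0, 3] 2 148192 6736 = true := by decide +kernel

theorem chk_pow3_1_8 : tab.minOKc [0, 3] 2 154928 6736 = true := by decide +kernel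

theorem chk_pow3_1_9 : tab.minOKc [0, 3] 2 161664 6736 = true := by decide +kernel

theorem chk_pow3_1_10 : tab.minOKc [0, 3] 2 168400 6736 = true := by decide +kernel

theorem chk_pow3_1_11 : tab.minOKc [0, 3] 2 175136 6736 = true := by decide +kernel

theorem chk_pow3_1_12 : tab.minOKc [0, 3] 2 181872 6736 = true := by decide +kernel

theorem chk_pow3_1_13 : tab.minOKc [0, 3] 2 188608 6736 = true := by decide +kernel

theorem chk_pow3_1_14 : tab.minOKc [0, 3] 2 195344 6736 = true := by decide +kernel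

theorem chk_pow3_1 : tab.minOKc [0, 3] 2 101040 101040 = true := by
  refine tab.minOKc_of_chunks [0, 3] 2 101040 6736 15 (by norm_num) ?_
  intro i hi
  interval_cases i
  · exact chk_pow3_1_0
  · exact chk_pow3_1_1
  · exact chk_pow3_1_2
  · exact chk_pow3_1_3
  · exact chk_pow3_1_4
  · exact chk_pow3_1_5
  · exact chk_pow3_1_6
  · exact chk_pow3_1_7
  · exact chk_pow3_1_8
  · exact chk_pow3_1_9
  · exact chk_pow3_1_10
  · exact chk_pow3_1_11
  · exact chk_pow3_1_12
  · exact chk_pow3_1_13
  · exact chk_pow3_1_14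

end Cfsg.Agent.Lib.Helper6.Fi24TC
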