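import Cfsg.Agent.Lib.Helper6.Fi24TCData
import Cfsg.Agent.Lib.Helper6.TCRel3
import Cfsg.Agent.Lib.Helper6.Fi24TCRel6

/-! # Fi24: the kernel check of a part of the relators on the coset table -/

set_option autoImplicit false

namespace Cfsg.Agent.Lib.Helper6.Fi24TC

open Cfsg.Agent.Lib.Helper6.TC

theorem chk_pow9_0_0 : tab.minOKc [3, 4] 3 0 5411 = true := by decide +kernel

theorem chk_pow9_0_1 : tab.minOKc [3, 4] 3 5411 5411 = true := by decide +kernel

theorem chk_pow9_0_2 : tab.minOKc [3, 4] 3 10822 5411 = true := by decide +kernel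

theorem chk_pow9_0_3 : tab.minOKc [3, 4] 3 16233 5411 = true := by decide +kernel

theorem chk_pow9_0_4 : tab.minOKc [3, 4] 3 21644 5411 = true := by decide +kernel

theorem chk_pow9_0_5 : tab.minOKc [3, 4] 3 27055 5411 = true := by decide +kernel

theorem chk_pow9_0_6 : tab.minOKc [3, 4] 3 32466 5411 = true := by decide +kernel

theorem chk_pow9_0_7 : tab.minOKc [3, 4] 3 37877 5411 = true := by decide +kernel

theorem chk_pow9_0_8 : tab.minOKc [3, 4] 3 43288 5411 = true := by decide +kernel

theorem chk_pow9_0_9 : tab.minOKc [3, 4] 3 48699 5411 = true := by decide +kernel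

theorem chk_pow9_0_10 : tab.minOKc [3, 4] 3 54110 5411 = true := by decide +kernel

theorem chk_pow9_0_11 : tab.minOKc [3, 4] 3 59521 5411 = true := by decide +kernel

theorem chk_pow9_0_12 : tab.minOKc [3, 4] 3 64932 5411 = true := by decide +kernel

theorem chk_pow9_0_13 : tab.minOKc [3, 4] 3 70343 5411 = true := by decide +kernel

theorem chk_pow9_0_14 : tab.minOKc [3, 4] 3 75754 5411 = true := by decide +kernel

theorem chk_pow9_0 : tab.minOKc [3, 4] 3 0 81165 = true := by
  refine tab.minOKc_of_chunks [3, 4] 3 0 5411 15 (by norm_num) ?_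
  intro i hi
  interval_cases i
  · exact chk_pow9_0_0
  · exact chk_pow9_0_1
  · exact chk_pow9_0_2
  · exact chk_pow9_0_3
  · exact chk_pow9_0_4
  · exact chk_pow9_0_5
  · exact chk_pow9_0_6
  · exact chk_pow9_0_7
  · exact chk_pow9_0_8
  · exact chk_pow9_0_9
  · exact chk_pow9_0_10
  · exact chk_pow9_0_11
  · exact chk_pow9_0_12
  · exact chk_pow9_0_13
  · exact chk_pow9_0_14

theorem chk_pow9_1_0 : tab.minOKc [3, 4] 3 81165 5411 = true := by decide +kernel

theorem chk_pow9_1_1 : tab.minOKc [3, 4] 3 86576 5411 = true := by decide +kernel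

theorem chk_pow9_1_2 : tab.minOKc [3, 4] 3 91987 5411 = true := by decide +kernel

theorem chk_pow9_1_3 : tab.minOKc [3, 4] 3 97398 5411 = true := by decide +kernel

theorem chk_pow9_1_4 : tab.minOKc [3, 4] 3 102809 5411 = true := by decide +kernel

theorem chk_pow9_1_5 : tab.minOKc [3, 4] 3 108220 5411 = true := by decide +kernel

theorem chk_pow9_1_6 : tab.minOKc [3, 4] 3 113631 5411 = true := by decide +kernel

theorem chk_pow9_1_7 : tab.minOKc [3, 4] 3 119042 5411 = true := by decide +kernel

theorem chk_pow9_1_8 : tab.minOKc [3, 4] 3 124453 5411 = true := by decide +kernel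

theorem chk_pow9_1_9 : tab.minOKc [3, 4] 3 129864 5411 = true := by decide +kernel

theorem chk_pow9_1_10 : tab.minOKc [3, 4] 3 135275 5411 = true := by decide +kernel

theorem chk_pow9_1_11 : tab.minOKc [3, 4] 3 140686 5411 = true := by decide +kernel

theorem chk_pow9_1_12 : tab.minOKc [3, 4] 3 146097 5411 = true := by decide +kernel

theorem chk_pow9_1_13 : tab.minOKc [3, 4] 3 151508 5411 = true := by decide +kernel

theorem chk_pow9_1_14 : tab.minOKc [3, 4] 3 156919 5411 = true := by decide +kernel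

theorem chk_pow9_1 : tab.minOKc [3, 4] 3 81165 81165 = true := by
  refine tab.minOKc_of_chunks [3, 4] 3 81165 5411 15 (by norm_num) ?_
  intro i hi
  interval_cases i
  · exact chk_pow9_1_0
  · exact chk_pow9_1_1
  · exact chk_pow9_1_2
  · exact chk_pow9_1_3
  · exact chk_pow9_1_4
  · exact chk_pow9_1_5
  · exact chk_pow9_1_6
  · exact chk_pow9_1_7
  · exact chk_pow9_1_8
  · exact chk_pow9_1_9
  · exact chk_pow9_1_10
  · exact chk_pow9_1_11
  · exact chk_pow9_1_12
  · exact chk_pow9_1_13
  · exact chk_pow9_1_14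

end Cfsg.Agent.Lib.Helper6.Fi24TC
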