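import Cfsg.Agent.Lib.Helper6.Fi24TCData
import Cfsg.Agent.Lib.Helper6.TCRel3
import Cfsg.Agent.Lib.Helper6.Fi24TCRel18

/-! # Fi24: the kernel check of a part of the relators on the coset table -/

set_option autoImplicit false

namespace Cfsg.Agent.Lib.Helper6.Fi24TC

open Cfsg.Agent.Lib.Helper6.TC

theorem chk_pow15_0_0 : tab.minOKc [0, 6] 2 0 6703 = true := by decide +kernel

theorem chk_pow15_0_1 : tab.minOKc [0, 6] 2 6703 6703 = true := by decide +kernel

theorem chk_pow15_0_2 : tab.minOKc [0, 6] 2 13406 6703 = true := by decide +kernel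

theorem chk_pow15_0_3 : tab.minOKc [0, 6] 2 20109 6703 = true := by decide +kernel

theorem chk_pow15_0_4 : tab.minOKc [0, 6] 2 26812 6703 = true := by decide +kernel

theorem chk_pow15_0_5 : tab.minOKc [0, 6] 2 33515 6703 = true := by decide +kernel

theorem chk_pow15_0_6 : tab.minOKc [0, 6] 2 40218 6703 = true := by decide +kernel

theorem chk_pow15_0_7 : tab.minOKc [0, 6] 2 46921 6703 = true := by decide +kernel

theorem chk_pow15_0_8 : tab.minOKc [0, 6] 2 53624 6703 = true := by decide +kernel

theorem chk_pow15_0_9 : tab.minOKc [0, 6] 2 60327 6703 = true := by decide +kernel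

theorem chk_pow15_0_10 : tab.minOKc [0, 6] 2 67030 6703 = true := by decide +kernel

theorem chk_pow15_0_11 : tab.minOKc [0, 6] 2 73733 6703 = true := by decide +kernel

theorem chk_pow15_0_12 : tab.minOKc [0, 6] 2 80436 6703 = true := by decide +kernel

theorem chk_pow15_0_13 : tab.minOKc [0, 6] 2 87139 6703 = true := by decide +kernel

theorem chk_pow15_0_14 : tab.minOKc [0, 6] 2 93842 6703 = true := by decide +kernel

theorem chk_pow15_0 : tab.minOKc [0, 6] 2 0 100545 = true := by
  refine tab.minOKc_of_chunks [0, 6] 2 0 6703 15 (by norm_num) ?_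
  intro i hi
  interval_cases i
  · exact chk_pow15_0_0
  · exact chk_pow15_0_1
  · exact chk_pow15_0_2
  · exact chk_pow15_0_3
  · exact chk_pow15_0_4
  · exact chk_pow15_0_5
  · exact chk_pow15_0_6
  · exact chk_pow15_0_7
  · exact chk_pow15_0_8
  · exact chk_pow15_0_9
  · exact chk_pow15_0_10
  · exact chk_pow15_0_11
  · exact chk_pow15_0_12
  · exact chk_pow15_0_13
  · exact chk_pow15_0_14

theorem chk_pow15_1_0 : tab.minOKc [0, 6] 2 100545 6703 = true := by decide +kernel

theorem chk_pow15_1_1 : tab.minOKc [0, 6] 2 107248 6703 = true := by decide +kernel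

theorem chk_pow15_1_2 : tab.minOKc [0, 6] 2 113951 6703 = true := by decide +kernel

theorem chk_pow15_1_3 : tab.minOKc [0, 6] 2 120654 6703 = true := by decide +kernel

theorem chk_pow15_1_4 : tab.minOKc [0, 6] 2 127357 6703 = true := by decide +kernel

theorem chk_pow15_1_5 : tab.minOKc [0, 6] 2 134060 6703 = true := by decide +kernel

theorem chk_pow15_1_6 : tab.minOKc [0, 6] 2 140763 6703 = true := by decide +kernel

theorem chk_pow15_1_7 : tab.minOKc [0, 6] 2 147466 6703 = true := by decide +kernel

theorem chk_pow15_1_8 : tab.minOKc [0, 6] 2 154169 6703 = true := by decide +kernel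

theorem chk_pow15_1_9 : tab.minOKc [0, 6] 2 160872 6703 = true := by decide +kernel

theorem chk_pow15_1_10 : tab.minOKc [0, 6] 2 167575 6703 = true := by decide +kernel

theorem chk_pow15_1_11 : tab.minOKc [0, 6] 2 174278 6703 = true := by decide +kernel

theorem chk_pow15_1_12 : tab.minOKc [0, 6] 2 180981 6703 = true := by decide +kernel

theorem chk_pow15_1_13 : tab.minOKc [0, 6] 2 187684 6703 = true := by decide +kernel

theorem chk_pow15_1_14 : tab.minOKc [0, 6] 2 194387 6703 = true := by decide +kernel

theorem chk_pow15_1 : tab.minOKc [0, 6] 2 100545 100545 = true := by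
  refine tab.minOKc_of_chunks [0, 6] 2 100545 6703 15 (by norm_num) ?_
  intro i hi
  interval_cases i
  · exact chk_pow15_1_0
  · exact chk_pow15_1_1
  · exact chk_pow15_1_2
  · exact chk_pow15_1_3
  · exact chk_pow15_1_4
  · exact chk_pow15_1_5
  · exact chk_pow15_1_6
  · exact chk_pow15_1_7
  · exact chk_pow15_1_8
  · exact chk_pow15_1_9
  · exact chk_pow15_1_10
  · exact chk_pow15_1_11
  · exact chk_pow15_1_12
  · exact chk_pow15_1_13
  · exact chk_pow15_1_14

end Cfsg.Agent.Lib.Helper6.Fi24TC
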