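import Cfsg.Agent.Lib.Helper6.Fi24TCData
import Cfsg.Agent.Lib.Helper6.TCRel3
import Cfsg.Agent.Lib.Helper6.Fi24TCRel30

/-! # Fi24: the kernel check of a part of the relators on the coset table -/

set_option autoImplicit false

namespace Cfsg.Agent.Lib.Helper6.Fi24TC

open Cfsg.Agent.Lib.Helper6.TC

theorem chk_pow21_0_0 : tab.minOKc [0, 7] 2 0 6730 = true := by decide +kernel

theorem chk_pow21_0_1 : tab.minOKc [0, 7] 2 6730 6730 = true := by decide +kernel

theorem chk_pow21_0_2 : tab.minOKc [0, 7] 2 13460 6730 = true := by decide +kernel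

theorem chk_pow21_0_3 : tab.minOKc [0, 7] 2 20190 6730 = true := by decide +kernel

theorem chk_pow21_0_4 : tab.minOKc [0, 7] 2 26920 6730 = true := by decide +kernel

theorem chk_pow21_0_5 : tab.minOKc [0, 7] 2 33650 6730 = true := by decide +kernel

theorem chk_pow21_0_6 : tab.minOKc [0, 7] 2 40380 6730 = true := by decide +kernel

theorem chk_pow21_0_7 : tab.minOKc [0, 7] 2 47110 6730 = true := by decide +kernel

theorem chk_pow21_0_8 : tab.minOKc [0, 7] 2 53840 6730 = true := by decide +kernel

theorem chk_pow21_0_9 : tab.minOKc [0, 7] 2 60570 6730 = true := by decide +kernel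

theorem chk_pow21_0_10 : tab.minOKc [0, 7] 2 67300 6730 = true := by decide +kernel

theorem chk_pow21_0_11 : tab.minOKc [0, 7] 2 74030 6730 = true := by decide +kernel

theorem chk_pow21_0_12 : tab.minOKc [0, 7] 2 80760 6730 = true := by decide +kernel

theorem chk_pow21_0_13 : tab.minOKc [0, 7] 2 87490 6730 = true := by decide +kernel

theorem chk_pow21_0_14 : tab.minOKc [0, 7] 2 94220 6730 = true := by decide +kernel

theorem chk_pow21_0 : tab.minOKc [0, 7] 2 0 100950 = true := by
  refine tab.minOKc_of_chunks [0, 7] 2 0 6730 15 (by norm_num) ?_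
  intro i hi
  interval_cases i
  · exact chk_pow21_0_0
  · exact chk_pow21_0_1
  · exact chk_pow21_0_2
  · exact chk_pow21_0_3
  · exact chk_pow21_0_4
  · exact chk_pow21_0_5
  · exact chk_pow21_0_6
  · exact chk_pow21_0_7
  · exact chk_pow21_0_8
  · exact chk_pow21_0_9
  · exact chk_pow21_0_10
  · exact chk_pow21_0_11
  · exact chk_pow21_0_12
  · exact chk_pow21_0_13
  · exact chk_pow21_0_14

theorem chk_pow21_1_0 : tab.minOKc [0, 7] 2 100950 6730 = true := by decide +kernel

theorem chk_pow21_1_1 : tab.minOKc [0, 7] 2 107680 6730 = true := by decide +kernel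

theorem chk_pow21_1_2 : tab.minOKc [0, 7] 2 114410 6730 = true := by decide +kernel

theorem chk_pow21_1_3 : tab.minOKc [0, 7] 2 121140 6730 = true := by decide +kernel

theorem chk_pow21_1_4 : tab.minOKc [0, 7] 2 127870 6730 = true := by decide +kernel

theorem chk_pow21_1_5 : tab.minOKc [0, 7] 2 134600 6730 = true := by decide +kernel

theorem chk_pow21_1_6 : tab.minOKc [0, 7] 2 141330 6730 = true := by decide +kernel

theorem chk_pow21_1_7 : tab.minOKc [0, 7] 2 148060 6730 = true := by decide +kernel

theorem chk_pow21_1_8 : tab.minOKc [0, 7] 2 154790 6730 = true := by decide +kernel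

theorem chk_pow21_1_9 : tab.minOKc [0, 7] 2 161520 6730 = true := by decide +kernel

theorem chk_pow21_1_10 : tab.minOKc [0, 7] 2 168250 6730 = true := by decide +kernel

theorem chk_pow21_1_11 : tab.minOKc [0, 7] 2 174980 6730 = true := by decide +kernel

theorem chk_pow21_1_12 : tab.minOKc [0, 7] 2 181710 6730 = true := by decide +kernel

theorem chk_pow21_1_13 : tab.minOKc [0, 7] 2 188440 6730 = true := by decide +kernel

theorem chk_pow21_1_14 : tab.minOKc [0, 7] 2 195170 6730 = true := by decide +kernel

theorem chk_pow21_1 : tab.minOKc [0, 7] 2 100950 100950 = true := by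
  refine tab.minOKc_of_chunks [0, 7] 2 100950 6730 15 (by norm_num) ?_
  intro i hi
  interval_cases i
  · exact chk_pow21_1_0
  · exact chk_pow21_1_1
  · exact chk_pow21_1_2
  · exact chk_pow21_1_3
  · exact chk_pow21_1_4
  · exact chk_pow21_1_5
  · exact chk_pow21_1_6
  · exact chk_pow21_1_7
  · exact chk_pow21_1_8
  · exact chk_pow21_1_9
  · exact chk_pow21_1_10
  · exact chk_pow21_1_11
  · exact chk_pow21_1_12
  · exact chk_pow21_1_13
  · exact chk_pow21_1_14

end Cfsg.Agent.Lib.Helper6.Fi24TC
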