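import Cfsg.Agent.Lib.Helper6.Fi24TCData
import Cfsg.Agent.Lib.Helper6.TCRel3
import Cfsg.Agent.Lib.Helper6.Fi24TCRel42

/-! # Fi24: the kernel check of a part of the relators on the coset table -/

set_option autoImplicit false

namespace Cfsg.Agent.Lib.Helper6.Fi24TC

open Cfsg.Agent.Lib.Helper6.TC

theorem chk_pow27_0_0 : tab.minOKc [6, 7] 3 0 5604 = true := by decide +kernel

theorem chk_pow27_0_1 : tab.minOKc [6, 7] 3 5604 5604 = true := by decide +kernel

theorem chk_pow27_0_2 : tab.minOKc [6, 7] 3 11208 5604 = true := by decide +kernel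

theorem chk_pow27_0_3 : tab.minOKc [6, 7] 3 16812 5604 = true := by decide +kernel

theorem chk_pow27_0_4 : tab.minOKc [6, 7] 3 22416 5604 = true := by decide +kernel

theorem chk_pow27_0_5 : tab.minOKc [6, 7] 3 28020 5604 = true := by decide +kernel

theorem chk_pow27_0_6 : tab.minOKc [6, 7] 3 33624 5604 = true := by decide +kernel

theorem chk_pow27_0_7 : tab.minOKc [6, 7] 3 39228 5604 = true := by decide +kernel

theorem chk_pow27_0_8 : tab.minOKc [6, 7] 3 44832 5604 = true := by decide +kernel

theorem chk_pow27_0_9 : tab.minOKc [6, 7] 3 50436 5604 = true := by decide +kernel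

theorem chk_pow27_0_10 : tab.minOKc [6, 7] 3 56040 5604 = true := by decide +kernel

theorem chk_pow27_0_11 : tab.minOKc [6, 7] 3 61644 5604 = true := by decide +kernel

theorem chk_pow27_0_12 : tab.minOKc [6, 7] 3 67248 5604 = true := by decide +kernel

theorem chk_pow27_0_13 : tab.minOKc [6, 7] 3 72852 5604 = true := by decide +kernel

theorem chk_pow27_0_14 : tab.minOKc [6, 7] 3 78456 5604 = true := by decide +kernel

theorem chk_pow27_0 : tab.minOKc [6, 7] 3 0 84060 = true := by
  refine tab.minOKc_of_chunks [6, 7] 3 0 5604 15 (by norm_num) ?_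
  intro i hi
  interval_cases i
  · exact chk_pow27_0_0
  · exact chk_pow27_0_1
  · exact chk_pow27_0_2
  · exact chk_pow27_0_3
  · exact chk_pow27_0_4
  · exact chk_pow27_0_5
  · exact chk_pow27_0_6
  · exact chk_pow27_0_7
  · exact chk_pow27_0_8
  · exact chk_pow27_0_9
  · exact chk_pow27_0_10
  · exact chk_pow27_0_11
  · exact chk_pow27_0_12
  · exact chk_pow27_0_13
  · exact chk_pow27_0_14

theorem chk_pow27_1_0 : tab.minOKc [6, 7] 3 84060 5604 = true := by decide +kernel

theorem chk_pow27_1_1 : tab.minOKc [6, 7] 3 89664 5604 = true := by decide +kernel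

theorem chk_pow27_1_2 : tab.minOKc [6, 7] 3 95268 5604 = true := by decide +kernel

theorem chk_pow27_1_3 : tab.minOKc [6, 7] 3 100872 5604 = true := by decide +kernel

theorem chk_pow27_1_4 : tab.minOKc [6, 7] 3 106476 5604 = true := by decide +kernel

theorem chk_pow27_1_5 : tab.minOKc [6, 7] 3 112080 5604 = true := by decide +kernel

theorem chk_pow27_1_6 : tab.minOKc [6, 7] 3 117684 5604 = true := by decide +kernel

theorem chk_pow27_1_7 : tab.minOKc [6, 7] 3 123288 5604 = true := by decide +kernel

theorem chk_pow27_1_8 : tab.minOKc [6, 7] 3 128892 5604 = true := by decide +kernel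

theorem chk_pow27_1_9 : tab.minOKc [6, 7] 3 134496 5604 = true := by decide +kernel

theorem chk_pow27_1_10 : tab.minOKc [6, 7] 3 140100 5604 = true := by decide +kernel

theorem chk_pow27_1_11 : tab.minOKc [6, 7] 3 145704 5604 = true := by decide +kernel

theorem chk_pow27_1_12 : tab.minOKc [6, 7] 3 151308 5604 = true := by decide +kernel

theorem chk_pow27_1_13 : tab.minOKc [6, 7] 3 156912 5604 = true := by decide +kernel

theorem chk_pow27_1_14 : tab.minOKc [6, 7] 3 162516 5604 = true := by decide +kernel

theorem chk_pow27_1 : tab.minOKc [6, 7] 3 84060 84060 = true := by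
  refine tab.minOKc_of_chunks [6, 7] 3 84060 5604 15 (by norm_num) ?_
  intro i hi
  interval_cases i
  · exact chk_pow27_1_0
  · exact chk_pow27_1_1
  · exact chk_pow27_1_2
  · exact chk_pow27_1_3
  · exact chk_pow27_1_4
  · exact chk_pow27_1_5
  · exact chk_pow27_1_6
  · exact chk_pow27_1_7
  · exact chk_pow27_1_8
  · exact chk_pow27_1_9
  · exact chk_pow27_1_10
  · exact chk_pow27_1_11
  · exact chk_pow27_1_12
  · exact chk_pow27_1_13
  · exact chk_pow27_1_14

end Cfsg.Agent.Lib.Helper6.Fi24TC
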