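import Cfsg.Agent.Lib.Helper6.Fi24TCData
import Cfsg.Agent.Lib.Helper6.TCRel3
import Cfsg.Agent.Lib.Helper6.Fi24TCRel54

/-! # Fi24: the kernel check of a part of the relators on the coset table -/

set_option autoImplicit false

namespace Cfsg.Agent.Lib.Helper6.Fi24TC

open Cfsg.Agent.Lib.Helper6.TC

theorem chk_pow33_0_0 : tab.minOKc [5, 8] 2 0 6671 = true := by decide +kernel

theorem chk_pow33_0_1 : tab.minOKc [5, 8] 2 6671 6671 = true := by decide +kernel

theorem chk_pow33_0_2 : tab.minOKc [5, 8] 2 13342 6671 = true := by decide +kernel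

theorem chk_pow33_0_3 : tab.minOKc [5, 8] 2 20013 6671 = true := by decide +kernel

theorem chk_pow33_0_4 : tab.minOKc [5, 8] 2 26684 6671 = true := by decide +kernel

theorem chk_pow33_0_5 : tab.minOKc [5, 8] 2 33355 6671 = true := by decide +kernel

theorem chk_pow33_0_6 : tab.minOKc [5, 8] 2 40026 6671 = true := by decide +kernel

theorem chk_pow33_0_7 : tab.minOKc [5, 8] 2 46697 6671 = true := by decide +kernel

theorem chk_pow33_0_8 : tab.minOKc [5, 8] 2 53368 6671 = true := by decide +kernel

theorem chk_pow33_0_9 : tab.minOKc [5, 8] 2 60039 6671 = true := by decide +kernel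

theorem chk_pow33_0_10 : tab.minOKc [5, 8] 2 66710 6671 = true := by decide +kernel

theorem chk_pow33_0_11 : tab.minOKc [5, 8] 2 73381 6671 = true := by decide +kernel

theorem chk_pow33_0_12 : tab.minOKc [5, 8] 2 80052 6671 = true := by decide +kernel

theorem chk_pow33_0_13 : tab.minOKc [5, 8] 2 86723 6671 = true := by decide +kernel

theorem chk_pow33_0_14 : tab.minOKc [5, 8] 2 93394 6671 = true := by decide +kernel

theorem chk_pow33_0 : tab.minOKc [5, 8] 2 0 100065 = true := by
  refine tab.minOKc_of_chunks [5, 8] 2 0 6671 15 (by norm_num) ?_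
  intro i hi
  interval_cases i
  · exact chk_pow33_0_0
  · exact chk_pow33_0_1
  · exact chk_pow33_0_2
  · exact chk_pow33_0_3
  · exact chk_pow33_0_4
  · exact chk_pow33_0_5
  · exact chk_pow33_0_6
  · exact chk_pow33_0_7
  · exact chk_pow33_0_8
  · exact chk_pow33_0_9
  · exact chk_pow33_0_10
  · exact chk_pow33_0_11
  · exact chk_pow33_0_12
  · exact chk_pow33_0_13
  · exact chk_pow33_0_14

theorem chk_pow33_1_0 : tab.minOKc [5, 8] 2 100065 6671 = true := by decide +kernel

theorem chk_pow33_1_1 : tab.minOKc [5, 8] 2 106736 6671 = true := by decide +kernel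

theorem chk_pow33_1_2 : tab.minOKc [5, 8] 2 113407 6671 = true := by decide +kernel

theorem chk_pow33_1_3 : tab.minOKc [5, 8] 2 120078 6671 = true := by decide +kernel

theorem chk_pow33_1_4 : tab.minOKc [5, 8] 2 126749 6671 = true := by decide +kernel

theorem chk_pow33_1_5 : tab.minOKc [5, 8] 2 133420 6671 = true := by decide +kernel

theorem chk_pow33_1_6 : tab.minOKc [5, 8] 2 140091 6671 = true := by decide +kernel

theorem chk_pow33_1_7 : tab.minOKc [5, 8] 2 146762 6671 = true := by decide +kernel

theorem chk_pow33_1_8 : tab.minOKc [5, 8] 2 153433 6671 = true := by decide +kernel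

theorem chk_pow33_1_9 : tab.minOKc [5, 8] 2 160104 6671 = true := by decide +kernel

theorem chk_pow33_1_10 : tab.minOKc [5, 8] 2 166775 6671 = true := by decide +kernel

theorem chk_pow33_1_11 : tab.minOKc [5, 8] 2 173446 6671 = true := by decide +kernel

theorem chk_pow33_1_12 : tab.minOKc [5, 8] 2 180117 6671 = true := by decide +kernel

theorem chk_pow33_1_13 : tab.minOKc [5, 8] 2 186788 6671 = true := by decide +kernel

theorem chk_pow33_1_14 : tab.minOKc [5, 8] 2 193459 6671 = true := by decide +kernel

theorem chk_pow33_1 : tab.minOKc [5, 8] 2 100065 100065 = true := by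
  refine tab.minOKc_of_chunks [5, 8] 2 100065 6671 15 (by norm_num) ?_
  intro i hi
  interval_cases i
  · exact chk_pow33_1_0
  · exact chk_pow33_1_1
  · exact chk_pow33_1_2
  · exact chk_pow33_1_3
  · exact chk_pow33_1_4
  · exact chk_pow33_1_5
  · exact chk_pow33_1_6
  · exact chk_pow33_1_7
  · exact chk_pow33_1_8
  · exact chk_pow33_1_9
  · exact chk_pow33_1_10
  · exact chk_pow33_1_11
  · exact chk_pow33_1_12
  · exact chk_pow33_1_13
  · exact chk_pow33_1_14

end Cfsg.Agent.Lib.Helper6.Fi24TC
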