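import Cfsg.Agent.Lib.Helper6.Fi24TCData
import Cfsg.Agent.Lib.Helper6.TCRel3
import Cfsg.Agent.Lib.Helper6.Fi24TCRel66

/-! # Fi24: the kernel check of a part of the relators on the coset table -/

set_option autoImplicit false

namespace Cfsg.Agent.Lib.Helper6.Fi24TC

open Cfsg.Agent.Lib.Helper6.TC

theorem chk_pow39_0_0 : tab.minOKc [3, 9] 2 0 6750 = true := by decide +kernel

theorem chk_pow39_0_1 : tab.minOKc [3, 9] 2 6750 6750 = true := by decide +kernel

theorem chk_pow39_0_2 : tab.minOKc [3, 9] 2 13500 6750 = true := by decide +kernel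

theorem chk_pow39_0_3 : tab.minOKc [3, 9] 2 20250 6750 = true := by decide +kernel

theorem chk_pow39_0_4 : tab.minOKc [3, 9] 2 27000 6750 = true := by decide +kernel

theorem chk_pow39_0_5 : tab.minOKc [3, 9] 2 33750 6750 = true := by decide +kernel

theorem chk_pow39_0_6 : tab.minOKc [3, 9] 2 40500 6750 = true := by decide +kernel

theorem chk_pow39_0_7 : tab.minOKc [3, 9] 2 47250 6750 = true := by decide +kernel

theorem chk_pow39_0_8 : tab.minOKc [3, 9] 2 54000 6750 = true := by decide +kernel

theorem chk_pow39_0_9 : tab.minOKc [3, 9] 2 60750 6750 = true := by decide +kernel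

theorem chk_pow39_0_10 : tab.minOKc [3, 9] 2 67500 6750 = true := by decide +kernel

theorem chk_pow39_0_11 : tab.minOKc [3, 9] 2 74250 6750 = true := by decide +kernel

theorem chk_pow39_0_12 : tab.minOKc [3, 9] 2 81000 6750 = true := by decide +kernel

theorem chk_pow39_0_13 : tab.minOKc [3, 9] 2 87750 6750 = true := by decide +kernel

theorem chk_pow39_0_14 : tab.minOKc [3, 9] 2 94500 6750 = true := by decide +kernel

theorem chk_pow39_0 : tab.minOKc [3, 9] 2 0 101250 = true := by
  refine tab.minOKc_of_chunks [3, 9] 2 0 6750 15 (by norm_num) ?_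
  intro i hi
  interval_cases i
  · exact chk_pow39_0_0
  · exact chk_pow39_0_1
  · exact chk_pow39_0_2
  · exact chk_pow39_0_3
  · exact chk_pow39_0_4
  · exact chk_pow39_0_5
  · exact chk_pow39_0_6
  · exact chk_pow39_0_7
  · exact chk_pow39_0_8
  · exact chk_pow39_0_9
  · exact chk_pow39_0_10
  · exact chk_pow39_0_11
  · exact chk_pow39_0_12
  · exact chk_pow39_0_13
  · exact chk_pow39_0_14

theorem chk_pow39_1_0 : tab.minOKc [3, 9] 2 101250 6750 = true := by decide +kernel

theorem chk_pow39_1_1 : tab.minOKc [3, 9] 2 108000 6750 = true := by decide +kernel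

theorem chk_pow39_1_2 : tab.minOKc [3, 9] 2 114750 6750 = true := by decide +kernel

theorem chk_pow39_1_3 : tab.minOKc [3, 9] 2 121500 6750 = true := by decide +kernel

theorem chk_pow39_1_4 : tab.minOKc [3, 9] 2 128250 6750 = true := by decide +kernel

theorem chk_pow39_1_5 : tab.minOKc [3, 9] 2 135000 6750 = true := by decide +kernel

theorem chk_pow39_1_6 : tab.minOKc [3, 9] 2 141750 6750 = true := by decide +kernel

theorem chk_pow39_1_7 : tab.minOKc [3, 9] 2 148500 6750 = true := by decide +kernel

theorem chk_pow39_1_8 : tab.minOKc [3, 9] 2 155250 6750 = true := by decide +kernel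

theorem chk_pow39_1_9 : tab.minOKc [3, 9] 2 162000 6750 = true := by decide +kernel

theorem chk_pow39_1_10 : tab.minOKc [3, 9] 2 168750 6750 = true := by decide +kernel

theorem chk_pow39_1_11 : tab.minOKc [3, 9] 2 175500 6750 = true := by decide +kernel

theorem chk_pow39_1_12 : tab.minOKc [3, 9] 2 182250 6750 = true := by decide +kernel

theorem chk_pow39_1_13 : tab.minOKc [3, 9] 2 189000 6750 = true := by decide +kernel

theorem chk_pow39_1_14 : tab.minOKc [3, 9] 2 195750 6750 = true := by decide +kernel

theorem chk_pow39_1 : tab.minOKc [3, 9] 2 101250 101250 = true := by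
  refine tab.minOKc_of_chunks [3, 9] 2 101250 6750 15 (by norm_num) ?_
  intro i hi
  interval_cases i
  · exact chk_pow39_1_0
  · exact chk_pow39_1_1
  · exact chk_pow39_1_2
  · exact chk_pow39_1_3
  · exact chk_pow39_1_4
  · exact chk_pow39_1_5
  · exact chk_pow39_1_6
  · exact chk_pow39_1_7
  · exact chk_pow39_1_8
  · exact chk_pow39_1_9
  · exact chk_pow39_1_10
  · exact chk_pow39_1_11
  · exact chk_pow39_1_12
  · exact chk_pow39_1_13
  · exact chk_pow39_1_14

end Cfsg.Agent.Lib.Helper6.Fi24TC
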