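import Cfsg.Agent.Lib.Helper6.Fi24TCData
import Cfsg.Agent.Lib.Helper6.TCRel3
import Cfsg.Agent.Lib.Helper6.Fi24TCRel78

/-! # Fi24: the kernel check of a part of the relators on the coset table -/

set_option autoImplicit false

namespace Cfsg.Agent.Lib.Helper6.Fi24TC

open Cfsg.Agent.Lib.Helper6.TC

theorem chk_pow45_0_0 : tab.minOKc [0, 10] 2 0 6799 = true := by decide +kernel

theorem chk_pow45_0_1 : tab.minOKc [0, 10] 2 6799 6799 = true := by decide +kernel

theorem chk_pow45_0_2 : tab.minOKc [0, 10] 2 13598 6799 = true := by decide +kernel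

theorem chk_pow45_0_3 : tab.minOKc [0, 10] 2 20397 6799 = true := by decide +kernel

theorem chk_pow45_0_4 : tab.minOKc [0, 10] 2 27196 6799 = true := by decide +kernel

theorem chk_pow45_0_5 : tab.minOKc [0, 10] 2 33995 6799 = true := by decide +kernel

theorem chk_pow45_0_6 : tab.minOKc [0, 10] 2 40794 6799 = true := by decide +kernel

theorem chk_pow45_0_7 : tab.minOKc [0, 10] 2 47593 6799 = true := by decide +kernel

theorem chk_pow45_0_8 : tab.minOKc [0, 10] 2 54392 6799 = true := by decide +kernel

theorem chk_pow45_0_9 : tab.minOKc [0, 10] 2 61191 6799 = true := by decide +kernel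

theorem chk_pow45_0_10 : tab.minOKc [0, 10] 2 67990 6799 = true := by decide +kernel

theorem chk_pow45_0_11 : tab.minOKc [0, 10] 2 74789 6799 = true := by decide +kernel

theorem chk_pow45_0_12 : tab.minOKc [0, 10] 2 81588 6799 = true := by decide +kernel

theorem chk_pow45_0_13 : tab.minOKc [0, 10] 2 88387 6799 = true := by decide +kernel

theorem chk_pow45_0_14 : tab.minOKc [0, 10] 2 95186 6799 = true := by decide +kernel

theorem chk_pow45_0 : tab.minOKc [0, 10] 2 0 101985 = true := by
  refine tab.minOKc_of_chunks [0, 10] 2 0 6799 15 (by norm_num) ?_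
  intro i hi
  interval_cases i
  · exact chk_pow45_0_0
  · exact chk_pow45_0_1
  · exact chk_pow45_0_2
  · exact chk_pow45_0_3
  · exact chk_pow45_0_4
  · exact chk_pow45_0_5
  · exact chk_pow45_0_6
  · exact chk_pow45_0_7
  · exact chk_pow45_0_8
  · exact chk_pow45_0_9
  · exact chk_pow45_0_10
  · exact chk_pow45_0_11
  · exact chk_pow45_0_12
  · exact chk_pow45_0_13
  · exact chk_pow45_0_14

theorem chk_pow45_1_0 : tab.minOKc [0, 10] 2 101985 6799 = true := by decide +kernel

theorem chk_pow45_1_1 : tab.minOKc [0, 10] 2 108784 6799 = true := by decide +kernel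

theorem chk_pow45_1_2 : tab.minOKc [0, 10] 2 115583 6799 = true := by decide +kernel

theorem chk_pow45_1_3 : tab.minOKc [0, 10] 2 122382 6799 = true := by decide +kernel

theorem chk_pow45_1_4 : tab.minOKc [0, 10] 2 129181 6799 = true := by decide +kernel

theorem chk_pow45_1_5 : tab.minOKc [0, 10] 2 135980 6799 = true := by decide +kernel

theorem chk_pow45_1_6 : tab.minOKc [0, 10] 2 142779 6799 = true := by decide +kernel

theorem chk_pow45_1_7 : tab.minOKc [0, 10] 2 149578 6799 = true := by decide +kernel

theorem chk_pow45_1_8 : tab.minOKc [0, 10] 2 156377 6799 = true := by decide +kernel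

theorem chk_pow45_1_9 : tab.minOKc [0, 10] 2 163176 6799 = true := by decide +kernel

theorem chk_pow45_1_10 : tab.minOKc [0, 10] 2 169975 6799 = true := by decide +kernel

theorem chk_pow45_1_11 : tab.minOKc [0, 10] 2 176774 6799 = true := by decide +kernel

theorem chk_pow45_1_12 : tab.minOKc [0, 10] 2 183573 6799 = true := by decide +kernel

theorem chk_pow45_1_13 : tab.minOKc [0, 10] 2 190372 6799 = true := by decide +kernel

theorem chk_pow45_1_14 : tab.minOKc [0, 10] 2 197171 6799 = true := by decide +kernel

theorem chk_pow45_1 : tab.minOKc [0, 10] 2 101985 101985 = true := by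
  refine tab.minOKc_of_chunks [0, 10] 2 101985 6799 15 (by norm_num) ?_
  intro i hi
  interval_cases i
  · exact chk_pow45_1_0
  · exact chk_pow45_1_1
  · exact chk_pow45_1_2
  · exact chk_pow45_1_3
  · exact chk_pow45_1_4
  · exact chk_pow45_1_5
  · exact chk_pow45_1_6
  · exact chk_pow45_1_7
  · exact chk_pow45_1_8
  · exact chk_pow45_1_9
  · exact chk_pow45_1_10
  · exact chk_pow45_1_11
  · exact chk_pow45_1_12
  · exact chk_pow45_1_13
  · exact chk_pow45_1_14

end Cfsg.Agent.Lib.Helper6.Fi24TC
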