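import Cfsg.Agent.Lib.Helper6.Fi24TCData
import Cfsg.Agent.Lib.Helper6.TCRel3
import Cfsg.Agent.Lib.Helper6.Fi24TCRel90

/-! # Fi24: the kernel check of a part of the relators on the coset table -/

set_option autoImplicit false

namespace Cfsg.Agent.Lib.Helper6.Fi24TC

open Cfsg.Agent.Lib.Helper6.TC

theorem chk_pow51_0_0 : tab.minOKc [6, 10] 2 0 6809 = true := by decide +kernel

theorem chk_pow51_0_1 : tab.minOKc [6, 10] 2 6809 6809 = true := by decide +kernel

theorem chk_pow51_0_2 : tab.minOKc [6, 10] 2 13618 6809 = true := by decide +kernel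

theorem chk_pow51_0_3 : tab.minOKc [6, 10] 2 20427 6809 = true := by decide +kernel

theorem chk_pow51_0_4 : tab.minOKc [6, 10] 2 27236 6809 = true := by decide +kernel

theorem chk_pow51_0_5 : tab.minOKc [6, 10] 2 34045 6809 = true := by decide +kernel

theorem chk_pow51_0_6 : tab.minOKc [6, 10] 2 40854 6809 = true := by decide +kernel

theorem chk_pow51_0_7 : tab.minOKc [6, 10] 2 47663 6809 = true := by decide +kernel

theorem chk_pow51_0_8 : tab.minOKc [6, 10] 2 54472 6809 = true := by decide +kernel

theorem chk_pow51_0_9 : tab.minOKc [6, 10] 2 61281 6809 = true := by decide +kernel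

theorem chk_pow51_0_10 : tab.minOKc [6, 10] 2 68090 6809 = true := by decide +kernel

theorem chk_pow51_0_11 : tab.minOKc [6, 10] 2 74899 6809 = true := by decide +kernel

theorem chk_pow51_0_12 : tab.minOKc [6, 10] 2 81708 6809 = true := by decide +kernel

theorem chk_pow51_0_13 : tab.minOKc [6, 10] 2 88517 6809 = true := by decide +kernel

theorem chk_pow51_0_14 : tab.minOKc [6, 10] 2 95326 6809 = true := by decide +kernel

theorem chk_pow51_0 : tab.minOKc [6, 10] 2 0 102135 = true := by
  refine tab.minOKc_of_chunks [6, 10] 2 0 6809 15 (by norm_num) ?_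
  intro i hi
  interval_cases i
  · exact chk_pow51_0_0
  · exact chk_pow51_0_1
  · exact chk_pow51_0_2
  · exact chk_pow51_0_3
  · exact chk_pow51_0_4
  · exact chk_pow51_0_5
  · exact chk_pow51_0_6
  · exact chk_pow51_0_7
  · exact chk_pow51_0_8
  · exact chk_pow51_0_9
  · exact chk_pow51_0_10
  · exact chk_pow51_0_11
  · exact chk_pow51_0_12
  · exact chk_pow51_0_13
  · exact chk_pow51_0_14

theorem chk_pow51_1_0 : tab.minOKc [6, 10] 2 102135 6809 = true := by decide +kernel

theorem chk_pow51_1_1 : tab.minOKc [6, 10] 2 108944 6809 = true := by decide +kernel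

theorem chk_pow51_1_2 : tab.minOKc [6, 10] 2 115753 6809 = true := by decide +kernel

theorem chk_pow51_1_3 : tab.minOKc [6, 10] 2 122562 6809 = true := by decide +kernel

theorem chk_pow51_1_4 : tab.minOKc [6, 10] 2 129371 6809 = true := by decide +kernel

theorem chk_pow51_1_5 : tab.minOKc [6, 10] 2 136180 6809 = true := by decide +kernel

theorem chk_pow51_1_6 : tab.minOKc [6, 10] 2 142989 6809 = true := by decide +kernel

theorem chk_pow51_1_7 : tab.minOKc [6, 10] 2 149798 6809 = true := by decide +kernel

theorem chk_pow51_1_8 : tab.minOKc [6, 10] 2 156607 6809 = true := by decide +kernel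

theorem chk_pow51_1_9 : tab.minOKc [6, 10] 2 163416 6809 = true := by decide +kernel

theorem chk_pow51_1_10 : tab.minOKc [6, 10] 2 170225 6809 = true := by decide +kernel

theorem chk_pow51_1_11 : tab.minOKc [6, 10] 2 177034 6809 = true := by decide +kernel

theorem chk_pow51_1_12 : tab.minOKc [6, 10] 2 183843 6809 = true := by decide +kernel

theorem chk_pow51_1_13 : tab.minOKc [6, 10] 2 190652 6809 = true := by decide +kernel

theorem chk_pow51_1_14 : tab.minOKc [6, 10] 2 197461 6809 = true := by decide +kernel

theorem chk_pow51_1 : tab.minOKc [6, 10] 2 102135 102135 = true := by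
  refine tab.minOKc_of_chunks [6, 10] 2 102135 6809 15 (by norm_num) ?_
  intro i hi
  interval_cases i
  · exact chk_pow51_1_0
  · exact chk_pow51_1_1
  · exact chk_pow51_1_2
  · exact chk_pow51_1_3
  · exact chk_pow51_1_4
  · exact chk_pow51_1_5
  · exact chk_pow51_1_6
  · exact chk_pow51_1_7
  · exact chk_pow51_1_8
  · exact chk_pow51_1_9
  · exact chk_pow51_1_10
  · exact chk_pow51_1_11
  · exact chk_pow51_1_12
  · exact chk_pow51_1_13
  · exact chk_pow51_1_14

end Cfsg.Agent.Lib.Helper6.Fi24TC
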