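import Cfsg.Agent.Lib.Helper6.Fi24SCert
import Cfsg.Agent.Lib.Helper6.Fi24SRows13

/-! # Fi24: the kernel check of the rows from 192696 on -/

set_option autoImplicit false

namespace Cfsg.Agent.Lib.Helper6.Fi24TC

open Cfsg.Agent.Lib.Helper6.TC Cfsg.Agent.Lib.Helper6.TCS

theorem chk_rows25_0 : cert.rowsOK 192696 293 = true := by decide +kernel

theorem chk_rows25_1 : cert.rowsOK 192989 293 = true := by decide +kernel

theorem chk_rows25_2 : cert.rowsOK 193282 293 = true := by decide +kernel

theorem chk_rows25_3 : cert.rowsOK 193575 293 = true := by decide +kernel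

theorem chk_rows25_4 : cert.rowsOK 193868 293 = true := by decide +kernel

theorem chk_rows25_5 : cert.rowsOK 194161 293 = true := by decide +kernel

theorem chk_rows25_6 : cert.rowsOK 194454 293 = true := by decide +kernel

theorem chk_rows25_7 : cert.rowsOK 194747 293 = true := by decide +kernel

theorem chk_rows25_8 : cert.rowsOK 195040 293 = true := by decide +kernel

theorem chk_rows25_9 : cert.rowsOK 195333 293 = true := by decide +kernel

theorem chk_rows25_10 : cert.rowsOK 195626 293 = true := by decide +kernel

theorem chk_rows25_11 : cert.rowsOK 195919 293 = true := by decide +kernel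

theorem chk_rows25_12 : cert.rowsOK 196212 293 = true := by decide +kernel

theorem chk_rows25_13 : cert.rowsOK 196505 293 = true := by decide +kernel

theorem chk_rows25_14 : cert.rowsOK 196798 293 = true := by decide +kernel

theorem chk_rows25_15 : cert.rowsOK 197091 293 = true := by decide +kernel

theorem chk_rows25_16 : cert.rowsOK 197384 293 = true := by decide +kernel

theorem chk_rows25_17 : cert.rowsOK 197677 293 = true := by decide +kernel

theorem chk_rows25_18 : cert.rowsOK 197970 293 = true := by decide +kernel

theorem chk_rows25_19 : cert.rowsOK 198263 293 = true := by decide +kernel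

theorem chk_rows25_20 : cert.rowsOK 198556 293 = true := by decide +kernel

theorem chk_rows25_21 : cert.rowsOK 198849 293 = true := by decide +kernel

theorem chk_rows25_22 : cert.rowsOK 199142 293 = true := by decide +kernel

theorem chk_rows25_23 : cert.rowsOK 199435 293 = true := by decide +kernel

theorem chk_range25 : ∀ a, 192696 ≤ a → a < 199728 → ∀ x < cert.c.g, cert.slotOK a x = true := by
  refine cert.range_of_chunks 192696 293 24 (by norm_num) ?_
  intro k hk
  interval_cases k
  · exact chk_rows25_0
  · exact chk_rows25_1
  · exact chk_rows25_2
  · exact chk_rows25_3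
  · exact chk_rows25_4
  · exact chk_rows25_5
  · exact chk_rows25_6
  · exact chk_rows25_7
  · exact chk_rows25_8
  · exact chk_rows25_9
  · exact chk_rows25_10
  · exact chk_rows25_11
  · exact chk_rows25_12
  · exact chk_rows25_13
  · exact chk_rows25_14
  · exact chk_rows25_15
  · exact chk_rows25_16
  · exact chk_rows25_17
  · exact chk_rows25_18
  · exact chk_rows25_19
  · exact chk_rows25_20
  · exact chk_rows25_21
  · exact chk_rows25_22
  · exact chk_rows25_23

end Cfsg.Agent.Lib.Helper6.Fi24TC
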