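import Cfsg.Agent.Lib.Helper6.Fi24SCert
import Cfsg.Agent.Lib.Helper6.Fi24SRows25

/-! # Fi24: the kernel check of the rows from 259800 on -/

set_option autoImplicit false

namespace Cfsg.Agent.Lib.Helper6.Fi24TC

open Cfsg.Agent.Lib.Helper6.TC Cfsg.Agent.Lib.Helper6.TCS

theorem chk_rows37_0 : cert.rowsOK 259800 179 = true := by decide +kernel

theorem chk_rows37_1 : cert.rowsOK 259979 179 = true := by decide +kernel

theorem chk_rows37_2 : cert.rowsOK 260158 179 = true := by decide +kernel

theorem chk_rows37_3 : cert.rowsOK 260337 179 = true := by decide +kernel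

theorem chk_rows37_4 : cert.rowsOK 260516 179 = true := by decide +kernel

theorem chk_rows37_5 : cert.rowsOK 260695 179 = true := by decide +kernel

theorem chk_rows37_6 : cert.rowsOK 260874 179 = true := by decide +kernel

theorem chk_rows37_7 : cert.rowsOK 261053 179 = true := by decide +kernel

theorem chk_rows37_8 : cert.rowsOK 261232 179 = true := by decide +kernel

theorem chk_rows37_9 : cert.rowsOK 261411 179 = true := by decide +kernel

theorem chk_rows37_10 : cert.rowsOK 261590 179 = true := by decide +kernel

theorem chk_rows37_11 : cert.rowsOK 261769 179 = true := by decide +kernel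

theorem chk_rows37_12 : cert.rowsOK 261948 179 = true := by decide +kernel

theorem chk_rows37_13 : cert.rowsOK 262127 179 = true := by decide +kernel

theorem chk_rows37_14 : cert.rowsOK 262306 179 = true := by decide +kernel

theorem chk_rows37_15 : cert.rowsOK 262485 179 = true := by decide +kernel

theorem chk_rows37_16 : cert.rowsOK 262664 179 = true := by decide +kernel

theorem chk_rows37_17 : cert.rowsOK 262843 179 = true := by decide +kernel

theorem chk_rows37_18 : cert.rowsOK 263022 179 = true := by decide +kernel

theorem chk_rows37_19 : cert.rowsOK 263201 179 = true := by decide +kernel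

theorem chk_rows37_20 : cert.rowsOK 263380 179 = true := by decide +kernel

theorem chk_rows37_21 : cert.rowsOK 263559 179 = true := by decide +kernel

theorem chk_rows37_22 : cert.rowsOK 263738 179 = true := by decide +kernel

theorem chk_rows37_23 : cert.rowsOK 263917 179 = true := by decide +kernel

theorem chk_range37 : ∀ a, 259800 ≤ a → a < 264096 → ∀ x < cert.c.g, cert.slotOK a x = true := by
  refine cert.range_of_chunks 259800 179 24 (by norm_num) ?_
  intro k hk
  interval_cases k
  · exact chk_rows37_0
  · exact chk_rows37_1
  · exact chk_rows37_2
  · exact chk_rows37_3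
  · exact chk_rows37_4
  · exact chk_rows37_5
  · exact chk_rows37_6
  · exact chk_rows37_7
  · exact chk_rows37_8
  · exact chk_rows37_9
  · exact chk_rows37_10
  · exact chk_rows37_11
  · exact chk_rows37_12
  · exact chk_rows37_13
  · exact chk_rows37_14
  · exact chk_rows37_15
  · exact chk_rows37_16
  · exact chk_rows37_17
  · exact chk_rows37_18
  · exact chk_rows37_19
  · exact chk_rows37_20
  · exact chk_rows37_21
  · exact chk_rows37_22
  · exact chk_rows37_23

end Cfsg.Agent.Lib.Helper6.Fi24TC
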