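import Cfsg.Agent.Lib.Helper6.Fi24SCert
import Cfsg.Agent.Lib.Helper6.Fi24SRows37

/-! # Fi24: the kernel check of the rows from 293448 on -/

set_option autoImplicit false

namespace Cfsg.Agent.Lib.Helper6.Fi24TC

open Cfsg.Agent.Lib.Helper6.TC Cfsg.Agent.Lib.Helper6.TCS

theorem chk_rows49_0 : cert.rowsOK 293448 78 = true := by decide +kernel

theorem chk_rows49_1 : cert.rowsOK 293526 78 = true := by decide +kernel

theorem chk_rows49_2 : cert.rowsOK 293604 78 = true := by decide +kernel

theorem chk_rows49_3 : cert.rowsOK 293682 78 = true := by decide +kernel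

theorem chk_rows49_4 : cert.rowsOK 293760 78 = true := by decide +kernel

theorem chk_rows49_5 : cert.rowsOK 293838 78 = true := by decide +kernel

theorem chk_rows49_6 : cert.rowsOK 293916 78 = true := by decide +kernel

theorem chk_rows49_7 : cert.rowsOK 293994 78 = true := by decide +kernel

theorem chk_rows49_8 : cert.rowsOK 294072 78 = true := by decide +kernel

theorem chk_rows49_9 : cert.rowsOK 294150 78 = true := by decide +kernel

theorem chk_rows49_10 : cert.rowsOK 294228 78 = true := by decide +kernel

theorem chk_rows49_11 : cert.rowsOK 294306 78 = true := by decide +kernel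

theorem chk_rows49_12 : cert.rowsOK 294384 78 = true := by decide +kernel

theorem chk_rows49_13 : cert.rowsOK 294462 78 = true := by decide +kernel

theorem chk_rows49_14 : cert.rowsOK 294540 78 = true := by decide +kernel

theorem chk_rows49_15 : cert.rowsOK 294618 78 = true := by decide +kernel

theorem chk_rows49_16 : cert.rowsOK 294696 78 = true := by decide +kernel

theorem chk_rows49_17 : cert.rowsOK 294774 78 = true := by decide +kernel

theorem chk_rows49_18 : cert.rowsOK 294852 78 = true := by decide +kernel

theorem chk_rows49_19 : cert.rowsOK 294930 78 = true := by decide +kernel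

theorem chk_rows49_20 : cert.rowsOK 295008 78 = true := by decide +kernel

theorem chk_rows49_21 : cert.rowsOK 295086 78 = true := by decide +kernel

theorem chk_rows49_22 : cert.rowsOK 295164 78 = true := by decide +kernel

theorem chk_rows49_23 : cert.rowsOK 295242 78 = true := by decide +kernel

theorem chk_range49 : ∀ a, 293448 ≤ a → a < 295320 → ∀ x < cert.c.g, cert.slotOK a x = true := by
  refine cert.range_of_chunks 293448 78 24 (by norm_num) ?_
  intro k hk
  interval_cases k
  · exact chk_rows49_0
  · exact chk_rows49_1
  · exact chk_rows49_2
  · exact chk_rows49_3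
  · exact chk_rows49_4
  · exact chk_rows49_5
  · exact chk_rows49_6
  · exact chk_rows49_7
  · exact chk_rows49_8
  · exact chk_rows49_9
  · exact chk_rows49_10
  · exact chk_rows49_11
  · exact chk_rows49_12
  · exact chk_rows49_13
  · exact chk_rows49_14
  · exact chk_rows49_15
  · exact chk_rows49_16
  · exact chk_rows49_17
  · exact chk_rows49_18
  · exact chk_rows49_19
  · exact chk_rows49_20
  · exact chk_rows49_21
  · exact chk_rows49_22
  · exact chk_rows49_23

end Cfsg.Agent.Lib.Helper6.Fi24TC
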