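import Cfsg.Agent.Lib.Helper6.Fi24TCData
import Cfsg.Agent.Lib.Helper6.TCRel3
import Cfsg.Agent.Lib.Helper6.Fi24SFin13

/-! # Fi24: the kernel check of a part of the relators on the coset table -/

set_option autoImplicit false

namespace Cfsg.Agent.Lib.Helper6.Fi24TC

open Cfsg.Agent.Lib.Helper6.TC

theorem chk_pow3_2_0 : tab.minOKc [0, 3] 2 202080 6736 = true := by decide +kernel

theorem chk_pow3_2_1 : tab.minOKc [0, 3] 2 208816 6736 = true := by decide +kernel

theorem chk_pow3_2_2 : tab.minOKc [0, 3] 2 215552 6736 = true := by decide +kernel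

theorem chk_pow3_2_3 : tab.minOKc [0, 3] 2 222288 6736 = true := by decide +kernel

theorem chk_pow3_2_4 : tab.minOKc [0, 3] 2 229024 6736 = true := by decide +kernel

theorem chk_pow3_2_5 : tab.minOKc [0, 3] 2 235760 6736 = true := by decide +kernel

theorem chk_pow3_2_6 : tab.minOKc [0, 3] 2 242496 6736 = true := by decide +kernel

theorem chk_pow3_2_7 : tab.minOKc [0, 3] 2 249232 6736 = true := by decide +kernel

theorem chk_pow3_2_8 : tab.minOKc [0, 3] 2 255968 6736 = true := by decide +kernel

theorem chk_pow3_2_9 : tab.minOKc [0, 3] 2 262704 6736 = true := by decide +kernel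

theorem chk_pow3_2_10 : tab.minOKc [0, 3] 2 269440 6736 = true := by decide +kernel

theorem chk_pow3_2_11 : tab.minOKc [0, 3] 2 276176 6736 = true := by decide +kernel

theorem chk_pow3_2_12 : tab.minOKc [0, 3] 2 282912 6736 = true := by decide +kernel

theorem chk_pow3_2_13 : tab.minOKc [0, 3] 2 289648 6736 = true := by decide +kernel

theorem chk_pow3_2_14 : tab.minOKc [0, 3] 2 296384 6736 = true := by decide +kernel

theorem chk_pow3_2 : tab.minOKc [0, 3] 2 202080 101040 = true := by
  refine tab.minOKc_of_chunks [0, 3] 2 202080 6736 15 (by norm_num) ?_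
  intro i hi
  interval_cases i
  · exact chk_pow3_2_0
  · exact chk_pow3_2_1
  · exact chk_pow3_2_2
  · exact chk_pow3_2_3
  · exact chk_pow3_2_4
  · exact chk_pow3_2_5
  · exact chk_pow3_2_6
  · exact chk_pow3_2_7
  · exact chk_pow3_2_8
  · exact chk_pow3_2_9
  · exact chk_pow3_2_10
  · exact chk_pow3_2_11
  · exact chk_pow3_2_12
  · exact chk_pow3_2_13
  · exact chk_pow3_2_14

theorem chk_pow3_3_0 : tab.minOKc [0, 3] 2 303120 6736 = true := by decide +kernel

theorem chk_pow3_3_1 : tab.minOKc [0, 3] 2 309856 6736 = true := by decide +kernel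

theorem chk_pow3_3_2 : tab.minOKc [0, 3] 2 316592 6736 = true := by decide +kernel

theorem chk_pow3_3_3 : tab.minOKc [0, 3] 2 323328 6736 = true := by decide +kernel

theorem chk_pow3_3_4 : tab.minOKc [0, 3] 2 330064 6736 = true := by decide +kernel

theorem chk_pow3_3_5 : tab.minOKc [0, 3] 2 336800 6736 = true := by decide +kernel

theorem chk_pow3_3_6 : tab.minOKc [0, 3] 2 343536 6736 = true := by decide +kernel

theorem chk_pow3_3_7 : tab.minOKc [0, 3] 2 350272 6736 = true := by decide +kernel

theorem chk_pow3_3_8 : tab.minOKc [0, 3] 2 357008 6736 = true := by decide +kernel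

theorem chk_pow3_3_9 : tab.minOKc [0, 3] 2 363744 6736 = true := by decide +kernel

theorem chk_pow3_3_10 : tab.minOKc [0, 3] 2 370480 6736 = true := by decide +kernel

theorem chk_pow3_3_11 : tab.minOKc [0, 3] 2 377216 6736 = true := by decide +kernel

theorem chk_pow3_3_12 : tab.minOKc [0, 3] 2 383952 6736 = true := by decide +kernel

theorem chk_pow3_3_13 : tab.minOKc [0, 3] 2 390688 6736 = true := by decide +kernel

theorem chk_pow3_3_14 : tab.minOKc [0, 3] 2 397424 6736 = true := by decide +kernel

theorem chk_pow3_3 : tab.minOKc [0, 3] 2 303120 101040 = true := by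
  refine tab.minOKc_of_chunks [0, 3] 2 303120 6736 15 (by norm_num) ?_
  intro i hi
  interval_cases i
  · exact chk_pow3_3_0
  · exact chk_pow3_3_1
  · exact chk_pow3_3_2
  · exact chk_pow3_3_3
  · exact chk_pow3_3_4
  · exact chk_pow3_3_5
  · exact chk_pow3_3_6
  · exact chk_pow3_3_7
  · exact chk_pow3_3_8
  · exact chk_pow3_3_9
  · exact chk_pow3_3_10
  · exact chk_pow3_3_11
  · exact chk_pow3_3_12
  · exact chk_pow3_3_13
  · exact chk_pow3_3_14

end Cfsg.Agent.Lib.Helper6.Fi24TC
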