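import Cfsg.Agent.Lib.Helper6.Fi24TCData
import Cfsg.Agent.Lib.Helper6.TCRel3
import Cfsg.Agent.Lib.Helper6.Fi24TCRel7

/-! # Fi24: the kernel check of a part of the relators on the coset table -/

set_option autoImplicit false

namespace Cfsg.Agent.Lib.Helper6.Fi24TC

open Cfsg.Agent.Lib.Helper6.TC

theorem chk_pow9_2_0 : tab.minOKc [3, 4] 3 162330 5411 = true := by decide +kernel

theorem chk_pow9_2_1 : tab.minOKc [3, 4] 3 167741 5411 = true := by decide +kernel

theorem chk_pow9_2_2 : tab.minOKc [3, 4] 3 173152 5411 = true := by decide +kernel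

theorem chk_pow9_2_3 : tab.minOKc [3, 4] 3 178563 5411 = true := by decide +kernel

theorem chk_pow9_2_4 : tab.minOKc [3, 4] 3 183974 5411 = true := by decide +kernel

theorem chk_pow9_2_5 : tab.minOKc [3, 4] 3 189385 5411 = true := by decide +kernel

theorem chk_pow9_2_6 : tab.minOKc [3, 4] 3 194796 5411 = true := by decide +kernel

theorem chk_pow9_2_7 : tab.minOKc [3, 4] 3 200207 5411 = true := by decide +kernel

theorem chk_pow9_2_8 : tab.minOKc [3, 4] 3 205618 5411 = true := by decide +kernel

theorem chk_pow9_2_9 : tab.minOKc [3, 4] 3 211029 5411 = true := by decide +kernel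

theorem chk_pow9_2_10 : tab.minOKc [3, 4] 3 216440 5411 = true := by decide +kernel

theorem chk_pow9_2_11 : tab.minOKc [3, 4] 3 221851 5411 = true := by decide +kernel

theorem chk_pow9_2_12 : tab.minOKc [3, 4] 3 227262 5411 = true := by decide +kernel

theorem chk_pow9_2_13 : tab.minOKc [3, 4] 3 232673 5411 = true := by decide +kernel

theorem chk_pow9_2_14 : tab.minOKc [3, 4] 3 238084 5411 = true := by decide +kernel

theorem chk_pow9_2 : tab.minOKc [3, 4] 3 162330 81165 = true := by
  refine tab.minOKc_of_chunks [3, 4] 3 162330 5411 15 (by norm_num) ?_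
  intro i hi
  interval_cases i
  · exact chk_pow9_2_0
  · exact chk_pow9_2_1
  · exact chk_pow9_2_2
  · exact chk_pow9_2_3
  · exact chk_pow9_2_4
  · exact chk_pow9_2_5
  · exact chk_pow9_2_6
  · exact chk_pow9_2_7
  · exact chk_pow9_2_8
  · exact chk_pow9_2_9
  · exact chk_pow9_2_10
  · exact chk_pow9_2_11
  · exact chk_pow9_2_12
  · exact chk_pow9_2_13
  · exact chk_pow9_2_14

theorem chk_pow9_3_0 : tab.minOKc [3, 4] 3 243495 5411 = true := by decide +kernel

theorem chk_pow9_3_1 : tab.minOKc [3, 4] 3 248906 5411 = true := by decide +kernel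

theorem chk_pow9_3_2 : tab.minOKc [3, 4] 3 254317 5411 = true := by decide +kernel

theorem chk_pow9_3_3 : tab.minOKc [3, 4] 3 259728 5411 = true := by decide +kernel

theorem chk_pow9_3_4 : tab.minOKc [3, 4] 3 265139 5411 = true := by decide +kernel

theorem chk_pow9_3_5 : tab.minOKc [3, 4] 3 270550 5411 = true := by decide +kernel

theorem chk_pow9_3_6 : tab.minOKc [3, 4] 3 275961 5411 = true := by decide +kernel

theorem chk_pow9_3_7 : tab.minOKc [3, 4] 3 281372 5411 = true := by decide +kernel

theorem chk_pow9_3_8 : tab.minOKc [3, 4] 3 286783 5411 = true := by decide +kernel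

theorem chk_pow9_3_9 : tab.minOKc [3, 4] 3 292194 5411 = true := by decide +kernel

theorem chk_pow9_3_10 : tab.minOKc [3, 4] 3 297605 5411 = true := by decide +kernel

theorem chk_pow9_3_11 : tab.minOKc [3, 4] 3 303016 5411 = true := by decide +kernel

theorem chk_pow9_3_12 : tab.minOKc [3, 4] 3 308427 5411 = true := by decide +kernel

theorem chk_pow9_3_13 : tab.minOKc [3, 4] 3 313838 5411 = true := by decide +kernel

theorem chk_pow9_3_14 : tab.minOKc [3, 4] 3 319249 5411 = true := by decide +kernel

theorem chk_pow9_3 : tab.minOKc [3, 4] 3 243495 81165 = true := by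
  refine tab.minOKc_of_chunks [3, 4] 3 243495 5411 15 (by norm_num) ?_
  intro i hi
  interval_cases i
  · exact chk_pow9_3_0
  · exact chk_pow9_3_1
  · exact chk_pow9_3_2
  · exact chk_pow9_3_3
  · exact chk_pow9_3_4
  · exact chk_pow9_3_5
  · exact chk_pow9_3_6
  · exact chk_pow9_3_7
  · exact chk_pow9_3_8
  · exact chk_pow9_3_9
  · exact chk_pow9_3_10
  · exact chk_pow9_3_11
  · exact chk_pow9_3_12
  · exact chk_pow9_3_13
  · exact chk_pow9_3_14

end Cfsg.Agent.Lib.Helper6.Fi24TC
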