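import Cfsg.Agent.Lib.Helper6.Fi24TCData
import Cfsg.Agent.Lib.Helper6.TCRel3
import Cfsg.Agent.Lib.Helper6.Fi24TCRel19

/-! # Fi24: the kernel check of a part of the relators on the coset table -/

set_option autoImplicit false

namespace Cfsg.Agent.Lib.Helper6.Fi24TC

open Cfsg.Agent.Lib.Helper6.TC

theorem chk_pow15_2_0 : tab.minOKc [0, 6] 2 201090 6703 = true := by decide +kernel

theorem chk_pow15_2_1 : tab.minOKc [0, 6] 2 207793 6703 = true := by decide +kernel

theorem chk_pow15_2_2 : tab.minOKc [0, 6] 2 214496 6703 = true := by decide +kernel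

theorem chk_pow15_2_3 : tab.minOKc [0, 6] 2 221199 6703 = true := by decide +kernel

theorem chk_pow15_2_4 : tab.minOKc [0, 6] 2 227902 6703 = true := by decide +kernel

theorem chk_pow15_2_5 : tab.minOKc [0, 6] 2 234605 6703 = true := by decide +kernel

theorem chk_pow15_2_6 : tab.minOKc [0, 6] 2 241308 6703 = true := by decide +kernel

theorem chk_pow15_2_7 : tab.minOKc [0, 6] 2 248011 6703 = true := by decide +kernel

theorem chk_pow15_2_8 : tab.minOKc [0, 6] 2 254714 6703 = true := by decide +kernel

theorem chk_pow15_2_9 : tab.minOKc [0, 6] 2 261417 6703 = true := by decide +kernel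

theorem chk_pow15_2_10 : tab.minOKc [0, 6] 2 268120 6703 = true := by decide +kernel

theorem chk_pow15_2_11 : tab.minOKc [0, 6] 2 274823 6703 = true := by decide +kernel

theorem chk_pow15_2_12 : tab.minOKc [0, 6] 2 281526 6703 = true := by decide +kernel

theorem chk_pow15_2_13 : tab.minOKc [0, 6] 2 288229 6703 = true := by decide +kernel

theorem chk_pow15_2_14 : tab.minOKc [0, 6] 2 294932 6703 = true := by decide +kernel

theorem chk_pow15_2 : tab.minOKc [0, 6] 2 201090 100545 = true := by
  refine tab.minOKc_of_chunks [0, 6] 2 201090 6703 15 (by norm_num) ?_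
  intro i hi
  interval_cases i
  · exact chk_pow15_2_0
  · exact chk_pow15_2_1
  · exact chk_pow15_2_2
  · exact chk_pow15_2_3
  · exact chk_pow15_2_4
  · exact chk_pow15_2_5
  · exact chk_pow15_2_6
  · exact chk_pow15_2_7
  · exact chk_pow15_2_8
  · exact chk_pow15_2_9
  · exact chk_pow15_2_10
  · exact chk_pow15_2_11
  · exact chk_pow15_2_12
  · exact chk_pow15_2_13
  · exact chk_pow15_2_14

theorem chk_pow15_3_0 : tab.minOKc [0, 6] 2 301635 6703 = true := by decide +kernel

theorem chk_pow15_3_1 : tab.minOKc [0, 6] 2 308338 6703 = true := by decide +kernel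

theorem chk_pow15_3_2 : tab.minOKc [0, 6] 2 315041 6703 = true := by decide +kernel

theorem chk_pow15_3_3 : tab.minOKc [0, 6] 2 321744 6703 = true := by decide +kernel

theorem chk_pow15_3_4 : tab.minOKc [0, 6] 2 328447 6703 = true := by decide +kernel

theorem chk_pow15_3_5 : tab.minOKc [0, 6] 2 335150 6703 = true := by decide +kernel

theorem chk_pow15_3_6 : tab.minOKc [0, 6] 2 341853 6703 = true := by decide +kernel

theorem chk_pow15_3_7 : tab.minOKc [0, 6] 2 348556 6703 = true := by decide +kernel

theorem chk_pow15_3_8 : tab.minOKc [0, 6] 2 355259 6703 = true := by decide +kernel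

theorem chk_pow15_3_9 : tab.minOKc [0, 6] 2 361962 6703 = true := by decide +kernel

theorem chk_pow15_3_10 : tab.minOKc [0, 6] 2 368665 6703 = true := by decide +kernel

theorem chk_pow15_3_11 : tab.minOKc [0, 6] 2 375368 6703 = true := by decide +kernel

theorem chk_pow15_3_12 : tab.minOKc [0, 6] 2 382071 6703 = true := by decide +kernel

theorem chk_pow15_3_13 : tab.minOKc [0, 6] 2 388774 6703 = true := by decide +kernel

theorem chk_pow15_3_14 : tab.minOKc [0, 6] 2 395477 6703 = true := by decide +kernel

theorem chk_pow15_3 : tab.minOKc [0, 6] 2 301635 100545 = true := by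
  refine tab.minOKc_of_chunks [0, 6] 2 301635 6703 15 (by norm_num) ?_
  intro i hi
  interval_cases i
  · exact chk_pow15_3_0
  · exact chk_pow15_3_1
  · exact chk_pow15_3_2
  · exact chk_pow15_3_3
  · exact chk_pow15_3_4
  · exact chk_pow15_3_5
  · exact chk_pow15_3_6
  · exact chk_pow15_3_7
  · exact chk_pow15_3_8
  · exact chk_pow15_3_9
  · exact chk_pow15_3_10
  · exact chk_pow15_3_11
  · exact chk_pow15_3_12
  · exact chk_pow15_3_13
  · exact chk_pow15_3_14

end Cfsg.Agent.Lib.Helper6.Fi24TC
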