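import Cfsg.Agent.Lib.Helper6.Fi24TCData
import Cfsg.Agent.Lib.Helper6.TCRel3
import Cfsg.Agent.Lib.Helper6.Fi24TCRel43

/-! # Fi24: the kernel check of a part of the relators on the coset table -/

set_option autoImplicit false

namespace Cfsg.Agent.Lib.Helper6.Fi24TC

open Cfsg.Agent.Lib.Helper6.TC

theorem chk_pow27_2_0 : tab.minOKc [6, 7] 3 168120 5604 = true := by decide +kernel

theorem chk_pow27_2_1 : tab.minOKc [6, 7] 3 173724 5604 = true := by decide +kernel

theorem chk_pow27_2_2 : tab.minOKc [6, 7] 3 179328 5604 = true := by decide +kernel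

theorem chk_pow27_2_3 : tab.minOKc [6, 7] 3 184932 5604 = true := by decide +kernel

theorem chk_pow27_2_4 : tab.minOKc [6, 7] 3 190536 5604 = true := by decide +kernel

theorem chk_pow27_2_5 : tab.minOKc [6, 7] 3 196140 5604 = true := by decide +kernel

theorem chk_pow27_2_6 : tab.minOKc [6, 7] 3 201744 5604 = true := by decide +kernel

theorem chk_pow27_2_7 : tab.minOKc [6, 7] 3 207348 5604 = true := by decide +kernel

theorem chk_pow27_2_8 : tab.minOKc [6, 7] 3 212952 5604 = true := by decide +kernel

theorem chk_pow27_2_9 : tab.minOKc [6, 7] 3 218556 5604 = true := by decide +kernel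

theorem chk_pow27_2_10 : tab.minOKc [6, 7] 3 224160 5604 = true := by decide +kernel

theorem chk_pow27_2_11 : tab.minOKc [6, 7] 3 229764 5604 = true := by decide +kernel

theorem chk_pow27_2_12 : tab.minOKc [6, 7] 3 235368 5604 = true := by decide +kernel

theorem chk_pow27_2_13 : tab.minOKc [6, 7] 3 240972 5604 = true := by decide +kernel

theorem chk_pow27_2_14 : tab.minOKc [6, 7] 3 246576 5604 = true := by decide +kernel

theorem chk_pow27_2 : tab.minOKc [6, 7] 3 168120 84060 = true := by
  refine tab.minOKc_of_chunks [6, 7] 3 168120 5604 15 (by norm_num) ?_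
  intro i hi
  interval_cases i
  · exact chk_pow27_2_0
  · exact chk_pow27_2_1
  · exact chk_pow27_2_2
  · exact chk_pow27_2_3
  · exact chk_pow27_2_4
  · exact chk_pow27_2_5
  · exact chk_pow27_2_6
  · exact chk_pow27_2_7
  · exact chk_pow27_2_8
  · exact chk_pow27_2_9
  · exact chk_pow27_2_10
  · exact chk_pow27_2_11
  · exact chk_pow27_2_12
  · exact chk_pow27_2_13
  · exact chk_pow27_2_14

theorem chk_pow27_3_0 : tab.minOKc [6, 7] 3 252180 5604 = true := by decide +kernel

theorem chk_pow27_3_1 : tab.minOKc [6, 7] 3 257784 5604 = true := by decide +kernel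

theorem chk_pow27_3_2 : tab.minOKc [6, 7] 3 263388 5604 = true := by decide +kernel

theorem chk_pow27_3_3 : tab.minOKc [6, 7] 3 268992 5604 = true := by decide +kernel

theorem chk_pow27_3_4 : tab.minOKc [6, 7] 3 274596 5604 = true := by decide +kernel

theorem chk_pow27_3_5 : tab.minOKc [6, 7] 3 280200 5604 = true := by decide +kernel

theorem chk_pow27_3_6 : tab.minOKc [6, 7] 3 285804 5604 = true := by decide +kernel

theorem chk_pow27_3_7 : tab.minOKc [6, 7] 3 291408 5604 = true := by decide +kernel

theorem chk_pow27_3_8 : tab.minOKc [6, 7] 3 297012 5604 = true := by decide +kernel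

theorem chk_pow27_3_9 : tab.minOKc [6, 7] 3 302616 5604 = true := by decide +kernel

theorem chk_pow27_3_10 : tab.minOKc [6, 7] 3 308220 5604 = true := by decide +kernel

theorem chk_pow27_3_11 : tab.minOKc [6, 7] 3 313824 5604 = true := by decide +kernel

theorem chk_pow27_3_12 : tab.minOKc [6, 7] 3 319428 5604 = true := by decide +kernel

theorem chk_pow27_3_13 : tab.minOKc [6, 7] 3 325032 5604 = true := by decide +kernel

theorem chk_pow27_3_14 : tab.minOKc [6, 7] 3 330636 5604 = true := by decide +kernel

theorem chk_pow27_3 : tab.minOKc [6, 7] 3 252180 84060 = true := by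
  refine tab.minOKc_of_chunks [6, 7] 3 252180 5604 15 (by norm_num) ?_
  intro i hi
  interval_cases i
  · exact chk_pow27_3_0
  · exact chk_pow27_3_1
  · exact chk_pow27_3_2
  · exact chk_pow27_3_3
  · exact chk_pow27_3_4
  · exact chk_pow27_3_5
  · exact chk_pow27_3_6
  · exact chk_pow27_3_7
  · exact chk_pow27_3_8
  · exact chk_pow27_3_9
  · exact chk_pow27_3_10
  · exact chk_pow27_3_11
  · exact chk_pow27_3_12
  · exact chk_pow27_3_13
  · exact chk_pow27_3_14

end Cfsg.Agent.Lib.Helper6.Fi24TC
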