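import Cfsg.Agent.Lib.Helper6.Fi24TCData
import Cfsg.Agent.Lib.Helper6.TCRel3
import Cfsg.Agent.Lib.Helper6.Fi24TCRel55

/-! # Fi24: the kernel check of a part of the relators on the coset table -/

set_option autoImplicit false

namespace Cfsg.Agent.Lib.Helper6.Fi24TC

open Cfsg.Agent.Lib.Helper6.TC

theorem chk_pow33_2_0 : tab.minOKc [5, 8] 2 200130 6671 = true := by decide +kernel

theorem chk_pow33_2_1 : tab.minOKc [5, 8] 2 206801 6671 = true := by decide +kernel

theorem chk_pow33_2_2 : tab.minOKc [5, 8] 2 213472 6671 = true := by decide +kernel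

theorem chk_pow33_2_3 : tab.minOKc [5, 8] 2 220143 6671 = true := by decide +kernel

theorem chk_pow33_2_4 : tab.minOKc [5, 8] 2 226814 6671 = true := by decide +kernel

theorem chk_pow33_2_5 : tab.minOKc [5, 8] 2 233485 6671 = true := by decide +kernel

theorem chk_pow33_2_6 : tab.minOKc [5, 8] 2 240156 6671 = true := by decide +kernel

theorem chk_pow33_2_7 : tab.minOKc [5, 8] 2 246827 6671 = true := by decide +kernel

theorem chk_pow33_2_8 : tab.minOKc [5, 8] 2 253498 6671 = true := by decide +kernel

theorem chk_pow33_2_9 : tab.minOKc [5, 8] 2 260169 6671 = true := by decide +kernel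

theorem chk_pow33_2_10 : tab.minOKc [5, 8] 2 266840 6671 = true := by decide +kernel

theorem chk_pow33_2_11 : tab.minOKc [5, 8] 2 273511 6671 = true := by decide +kernel

theorem chk_pow33_2_12 : tab.minOKc [5, 8] 2 280182 6671 = true := by decide +kernel

theorem chk_pow33_2_13 : tab.minOKc [5, 8] 2 286853 6671 = true := by decide +kernel

theorem chk_pow33_2_14 : tab.minOKc [5, 8] 2 293524 6671 = true := by decide +kernel

theorem chk_pow33_2 : tab.minOKc [5, 8] 2 200130 100065 = true := by
  refine tab.minOKc_of_chunks [5, 8] 2 200130 6671 15 (by norm_num) ?_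
  intro i hi
  interval_cases i
  · exact chk_pow33_2_0
  · exact chk_pow33_2_1
  · exact chk_pow33_2_2
  · exact chk_pow33_2_3
  · exact chk_pow33_2_4
  · exact chk_pow33_2_5
  · exact chk_pow33_2_6
  · exact chk_pow33_2_7
  · exact chk_pow33_2_8
  · exact chk_pow33_2_9
  · exact chk_pow33_2_10
  · exact chk_pow33_2_11
  · exact chk_pow33_2_12
  · exact chk_pow33_2_13
  · exact chk_pow33_2_14

theorem chk_pow33_3_0 : tab.minOKc [5, 8] 2 300195 6671 = true := by decide +kernel

theorem chk_pow33_3_1 : tab.minOKc [5, 8] 2 306866 6671 = true := by decide +kernel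

theorem chk_pow33_3_2 : tab.minOKc [5, 8] 2 313537 6671 = true := by decide +kernel

theorem chk_pow33_3_3 : tab.minOKc [5, 8] 2 320208 6671 = true := by decide +kernel

theorem chk_pow33_3_4 : tab.minOKc [5, 8] 2 326879 6671 = true := by decide +kernel

theorem chk_pow33_3_5 : tab.minOKc [5, 8] 2 333550 6671 = true := by decide +kernel

theorem chk_pow33_3_6 : tab.minOKc [5, 8] 2 340221 6671 = true := by decide +kernel

theorem chk_pow33_3_7 : tab.minOKc [5, 8] 2 346892 6671 = true := by decide +kernel

theorem chk_pow33_3_8 : tab.minOKc [5, 8] 2 353563 6671 = true := by decide +kernel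

theorem chk_pow33_3_9 : tab.minOKc [5, 8] 2 360234 6671 = true := by decide +kernel

theorem chk_pow33_3_10 : tab.minOKc [5, 8] 2 366905 6671 = true := by decide +kernel

theorem chk_pow33_3_11 : tab.minOKc [5, 8] 2 373576 6671 = true := by decide +kernel

theorem chk_pow33_3_12 : tab.minOKc [5, 8] 2 380247 6671 = true := by decide +kernel

theorem chk_pow33_3_13 : tab.minOKc [5, 8] 2 386918 6671 = true := by decide +kernel

theorem chk_pow33_3_14 : tab.minOKc [5, 8] 2 393589 6671 = true := by decide +kernel

theorem chk_pow33_3 : tab.minOKc [5, 8] 2 300195 100065 = true := by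
  refine tab.minOKc_of_chunks [5, 8] 2 300195 6671 15 (by norm_num) ?_
  intro i hi
  interval_cases i
  · exact chk_pow33_3_0
  · exact chk_pow33_3_1
  · exact chk_pow33_3_2
  · exact chk_pow33_3_3
  · exact chk_pow33_3_4
  · exact chk_pow33_3_5
  · exact chk_pow33_3_6
  · exact chk_pow33_3_7
  · exact chk_pow33_3_8
  · exact chk_pow33_3_9
  · exact chk_pow33_3_10
  · exact chk_pow33_3_11
  · exact chk_pow33_3_12
  · exact chk_pow33_3_13
  · exact chk_pow33_3_14

end Cfsg.Agent.Lib.Helper6.Fi24TC
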