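import Cfsg.Agent.Lib.Helper6.Fi24TCData
import Cfsg.Agent.Lib.Helper6.TCRel3
import Cfsg.Agent.Lib.Helper6.Fi24TCRel67

/-! # Fi24: the kernel check of a part of the relators on the coset table -/

set_option autoImplicit false

namespace Cfsg.Agent.Lib.Helper6.Fi24TC

open Cfsg.Agent.Lib.Helper6.TC

theorem chk_pow39_2_0 : tab.minOKc [3, 9] 2 202500 6750 = true := by decide +kernel

theorem chk_pow39_2_1 : tab.minOKc [3, 9] 2 209250 6750 = true := by decide +kernel

theorem chk_pow39_2_2 : tab.minOKc [3, 9] 2 216000 6750 = true := by decide +kernel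

theorem chk_pow39_2_3 : tab.minOKc [3, 9] 2 222750 6750 = true := by decide +kernel

theorem chk_pow39_2_4 : tab.minOKc [3, 9] 2 229500 6750 = true := by decide +kernel

theorem chk_pow39_2_5 : tab.minOKc [3, 9] 2 236250 6750 = true := by decide +kernel

theorem chk_pow39_2_6 : tab.minOKc [3, 9] 2 243000 6750 = true := by decide +kernel

theorem chk_pow39_2_7 : tab.minOKc [3, 9] 2 249750 6750 = true := by decide +kernel

theorem chk_pow39_2_8 : tab.minOKc [3, 9] 2 256500 6750 = true := by decide +kernel

theorem chk_pow39_2_9 : tab.minOKc [3, 9] 2 263250 6750 = true := by decide +kernel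

theorem chk_pow39_2_10 : tab.minOKc [3, 9] 2 270000 6750 = true := by decide +kernel

theorem chk_pow39_2_11 : tab.minOKc [3, 9] 2 276750 6750 = true := by decide +kernel

theorem chk_pow39_2_12 : tab.minOKc [3, 9] 2 283500 6750 = true := by decide +kernel

theorem chk_pow39_2_13 : tab.minOKc [3, 9] 2 290250 6750 = true := by decide +kernel

theorem chk_pow39_2_14 : tab.minOKc [3, 9] 2 297000 6750 = true := by decide +kernel

theorem chk_pow39_2 : tab.minOKc [3, 9] 2 202500 101250 = true := by
  refine tab.minOKc_of_chunks [3, 9] 2 202500 6750 15 (by norm_num) ?_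
  intro i hi
  interval_cases i
  · exact chk_pow39_2_0
  · exact chk_pow39_2_1
  · exact chk_pow39_2_2
  · exact chk_pow39_2_3
  · exact chk_pow39_2_4
  · exact chk_pow39_2_5
  · exact chk_pow39_2_6
  · exact chk_pow39_2_7
  · exact chk_pow39_2_8
  · exact chk_pow39_2_9
  · exact chk_pow39_2_10
  · exact chk_pow39_2_11
  · exact chk_pow39_2_12
  · exact chk_pow39_2_13
  · exact chk_pow39_2_14

theorem chk_pow39_3_0 : tab.minOKc [3, 9] 2 303750 6750 = true := by decide +kernel

theorem chk_pow39_3_1 : tab.minOKc [3, 9] 2 310500 6750 = true := by decide +kernel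

theorem chk_pow39_3_2 : tab.minOKc [3, 9] 2 317250 6750 = true := by decide +kernel

theorem chk_pow39_3_3 : tab.minOKc [3, 9] 2 324000 6750 = true := by decide +kernel

theorem chk_pow39_3_4 : tab.minOKc [3, 9] 2 330750 6750 = true := by decide +kernel

theorem chk_pow39_3_5 : tab.minOKc [3, 9] 2 337500 6750 = true := by decide +kernel

theorem chk_pow39_3_6 : tab.minOKc [3, 9] 2 344250 6750 = true := by decide +kernel

theorem chk_pow39_3_7 : tab.minOKc [3, 9] 2 351000 6750 = true := by decide +kernel

theorem chk_pow39_3_8 : tab.minOKc [3, 9] 2 357750 6750 = true := by decide +kernel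

theorem chk_pow39_3_9 : tab.minOKc [3, 9] 2 364500 6750 = true := by decide +kernel

theorem chk_pow39_3_10 : tab.minOKc [3, 9] 2 371250 6750 = true := by decide +kernel

theorem chk_pow39_3_11 : tab.minOKc [3, 9] 2 378000 6750 = true := by decide +kernel

theorem chk_pow39_3_12 : tab.minOKc [3, 9] 2 384750 6750 = true := by decide +kernel

theorem chk_pow39_3_13 : tab.minOKc [3, 9] 2 391500 6750 = true := by decide +kernel

theorem chk_pow39_3_14 : tab.minOKc [3, 9] 2 398250 6750 = true := by decide +kernel

theorem chk_pow39_3 : tab.minOKc [3, 9] 2 303750 101250 = true := by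
  refine tab.minOKc_of_chunks [3, 9] 2 303750 6750 15 (by norm_num) ?_
  intro i hi
  interval_cases i
  · exact chk_pow39_3_0
  · exact chk_pow39_3_1
  · exact chk_pow39_3_2
  · exact chk_pow39_3_3
  · exact chk_pow39_3_4
  · exact chk_pow39_3_5
  · exact chk_pow39_3_6
  · exact chk_pow39_3_7
  · exact chk_pow39_3_8
  · exact chk_pow39_3_9
  · exact chk_pow39_3_10
  · exact chk_pow39_3_11
  · exact chk_pow39_3_12
  · exact chk_pow39_3_13
  · exact chk_pow39_3_14

end Cfsg.Agent.Lib.Helper6.Fi24TC
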