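import Cfsg.Agent.Lib.Helper6.Fi24TCData
import Cfsg.Agent.Lib.Helper6.TCRel3
import Cfsg.Agent.Lib.Helper6.Fi24TCRel79

/-! # Fi24: the kernel check of a part of the relators on the coset table -/

set_option autoImplicit false

namespace Cfsg.Agent.Lib.Helper6.Fi24TC

open Cfsg.Agent.Lib.Helper6.TC

theorem chk_pow45_2_0 : tab.minOKc [0, 10] 2 203970 6799 = true := by decide +kernel

theorem chk_pow45_2_1 : tab.minOKc [0, 10] 2 210769 6799 = true := by decide +kernel

theorem chk_pow45_2_2 : tab.minOKc [0, 10] 2 217568 6799 = true := by decide +kernel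

theorem chk_pow45_2_3 : tab.minOKc [0, 10] 2 224367 6799 = true := by decide +kernel

theorem chk_pow45_2_4 : tab.minOKc [0, 10] 2 231166 6799 = true := by decide +kernel

theorem chk_pow45_2_5 : tab.minOKc [0, 10] 2 237965 6799 = true := by decide +kernel

theorem chk_pow45_2_6 : tab.minOKc [0, 10] 2 244764 6799 = true := by decide +kernel

theorem chk_pow45_2_7 : tab.minOKc [0, 10] 2 251563 6799 = true := by decide +kernel

theorem chk_pow45_2_8 : tab.minOKc [0, 10] 2 258362 6799 = true := by decide +kernel

theorem chk_pow45_2_9 : tab.minOKc [0, 10] 2 265161 6799 = true := by decide +kernel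

theorem chk_pow45_2_10 : tab.minOKc [0, 10] 2 271960 6799 = true := by decide +kernel

theorem chk_pow45_2_11 : tab.minOKc [0, 10] 2 278759 6799 = true := by decide +kernel

theorem chk_pow45_2_12 : tab.minOKc [0, 10] 2 285558 6799 = true := by decide +kernel

theorem chk_pow45_2_13 : tab.minOKc [0, 10] 2 292357 6799 = true := by decide +kernel

theorem chk_pow45_2_14 : tab.minOKc [0, 10] 2 299156 6799 = true := by decide +kernel

theorem chk_pow45_2 : tab.minOKc [0, 10] 2 203970 101985 = true := by
  refine tab.minOKc_of_chunks [0, 10] 2 203970 6799 15 (by norm_num) ?_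
  intro i hi
  interval_cases i
  · exact chk_pow45_2_0
  · exact chk_pow45_2_1
  · exact chk_pow45_2_2
  · exact chk_pow45_2_3
  · exact chk_pow45_2_4
  · exact chk_pow45_2_5
  · exact chk_pow45_2_6
  · exact chk_pow45_2_7
  · exact chk_pow45_2_8
  · exact chk_pow45_2_9
  · exact chk_pow45_2_10
  · exact chk_pow45_2_11
  · exact chk_pow45_2_12
  · exact chk_pow45_2_13
  · exact chk_pow45_2_14

theorem chk_pow45_3_0 : tab.minOKc [0, 10] 2 305955 6799 = true := by decide +kernel

theorem chk_pow45_3_1 : tab.minOKc [0, 10] 2 312754 6799 = true := by decide +kernel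

theorem chk_pow45_3_2 : tab.minOKc [0, 10] 2 319553 6799 = true := by decide +kernel

theorem chk_pow45_3_3 : tab.minOKc [0, 10] 2 326352 6799 = true := by decide +kernel

theorem chk_pow45_3_4 : tab.minOKc [0, 10] 2 333151 6799 = true := by decide +kernel

theorem chk_pow45_3_5 : tab.minOKc [0, 10] 2 339950 6799 = true := by decide +kernel

theorem chk_pow45_3_6 : tab.minOKc [0, 10] 2 346749 6799 = true := by decide +kernel

theorem chk_pow45_3_7 : tab.minOKc [0, 10] 2 353548 6799 = true := by decide +kernel

theorem chk_pow45_3_8 : tab.minOKc [0, 10] 2 360347 6799 = true := by decide +kernel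

theorem chk_pow45_3_9 : tab.minOKc [0, 10] 2 367146 6799 = true := by decide +kernel

theorem chk_pow45_3_10 : tab.minOKc [0, 10] 2 373945 6799 = true := by decide +kernel

theorem chk_pow45_3_11 : tab.minOKc [0, 10] 2 380744 6799 = true := by decide +kernel

theorem chk_pow45_3_12 : tab.minOKc [0, 10] 2 387543 6799 = true := by decide +kernel

theorem chk_pow45_3_13 : tab.minOKc [0, 10] 2 394342 6799 = true := by decide +kernel

theorem chk_pow45_3_14 : tab.minOKc [0, 10] 2 401141 6799 = true := by decide +kernel

theorem chk_pow45_3 : tab.minOKc [0, 10] 2 305955 101985 = true := by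
  refine tab.minOKc_of_chunks [0, 10] 2 305955 6799 15 (by norm_num) ?_
  intro i hi
  interval_cases i
  · exact chk_pow45_3_0
  · exact chk_pow45_3_1
  · exact chk_pow45_3_2
  · exact chk_pow45_3_3
  · exact chk_pow45_3_4
  · exact chk_pow45_3_5
  · exact chk_pow45_3_6
  · exact chk_pow45_3_7
  · exact chk_pow45_3_8
  · exact chk_pow45_3_9
  · exact chk_pow45_3_10
  · exact chk_pow45_3_11
  · exact chk_pow45_3_12
  · exact chk_pow45_3_13
  · exact chk_pow45_3_14

end Cfsg.Agent.Lib.Helper6.Fi24TC
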