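import Cfsg.Agent.Lib.Helper6.Fi24TCData
import Cfsg.Agent.Lib.Helper6.TCRel3
import Cfsg.Agent.Lib.Helper6.Fi24TCRel91

/-! # Fi24: the kernel check of a part of the relators on the coset table -/

set_option autoImplicit false

namespace Cfsg.Agent.Lib.Helper6.Fi24TC

open Cfsg.Agent.Lib.Helper6.TC

theorem chk_pow51_2_0 : tab.minOKc [6, 10] 2 204270 6809 = true := by decide +kernel

theorem chk_pow51_2_1 : tab.minOKc [6, 10] 2 211079 6809 = true := by decide +kernel

theorem chk_pow51_2_2 : tab.minOKc [6, 10] 2 217888 6809 = true := by decide +kernel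

theorem chk_pow51_2_3 : tab.minOKc [6, 10] 2 224697 6809 = true := by decide +kernel

theorem chk_pow51_2_4 : tab.minOKc [6, 10] 2 231506 6809 = true := by decide +kernel

theorem chk_pow51_2_5 : tab.minOKc [6, 10] 2 238315 6809 = true := by decide +kernel

theorem chk_pow51_2_6 : tab.minOKc [6, 10] 2 245124 6809 = true := by decide +kernel

theorem chk_pow51_2_7 : tab.minOKc [6, 10] 2 251933 6809 = true := by decide +kernel

theorem chk_pow51_2_8 : tab.minOKc [6, 10] 2 258742 6809 = true := by decide +kernel

theorem chk_pow51_2_9 : tab.minOKc [6, 10] 2 265551 6809 = true := by decide +kernel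

theorem chk_pow51_2_10 : tab.minOKc [6, 10] 2 272360 6809 = true := by decide +kernel

theorem chk_pow51_2_11 : tab.minOKc [6, 10] 2 279169 6809 = true := by decide +kernel

theorem chk_pow51_2_12 : tab.minOKc [6, 10] 2 285978 6809 = true := by decide +kernel

theorem chk_pow51_2_13 : tab.minOKc [6, 10] 2 292787 6809 = true := by decide +kernel

theorem chk_pow51_2_14 : tab.minOKc [6, 10] 2 299596 6809 = true := by decide +kernel

theorem chk_pow51_2 : tab.minOKc [6, 10] 2 204270 102135 = true := by
  refine tab.minOKc_of_chunks [6, 10] 2 204270 6809 15 (by norm_num) ?_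
  intro i hi
  interval_cases i
  · exact chk_pow51_2_0
  · exact chk_pow51_2_1
  · exact chk_pow51_2_2
  · exact chk_pow51_2_3
  · exact chk_pow51_2_4
  · exact chk_pow51_2_5
  · exact chk_pow51_2_6
  · exact chk_pow51_2_7
  · exact chk_pow51_2_8
  · exact chk_pow51_2_9
  · exact chk_pow51_2_10
  · exact chk_pow51_2_11
  · exact chk_pow51_2_12
  · exact chk_pow51_2_13
  · exact chk_pow51_2_14

theorem chk_pow51_3_0 : tab.minOKc [6, 10] 2 306405 6809 = true := by decide +kernel

theorem chk_pow51_3_1 : tab.minOKc [6, 10] 2 313214 6809 = true := by decide +kernel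

theorem chk_pow51_3_2 : tab.minOKc [6, 10] 2 320023 6809 = true := by decide +kernel

theorem chk_pow51_3_3 : tab.minOKc [6, 10] 2 326832 6809 = true := by decide +kernel

theorem chk_pow51_3_4 : tab.minOKc [6, 10] 2 333641 6809 = true := by decide +kernel

theorem chk_pow51_3_5 : tab.minOKc [6, 10] 2 340450 6809 = true := by decide +kernel

theorem chk_pow51_3_6 : tab.minOKc [6, 10] 2 347259 6809 = true := by decide +kernel

theorem chk_pow51_3_7 : tab.minOKc [6, 10] 2 354068 6809 = true := by decide +kernel

theorem chk_pow51_3_8 : tab.minOKc [6, 10] 2 360877 6809 = true := by decide +kernel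

theorem chk_pow51_3_9 : tab.minOKc [6, 10] 2 367686 6809 = true := by decide +kernel

theorem chk_pow51_3_10 : tab.minOKc [6, 10] 2 374495 6809 = true := by decide +kernel

theorem chk_pow51_3_11 : tab.minOKc [6, 10] 2 381304 6809 = true := by decide +kernel

theorem chk_pow51_3_12 : tab.minOKc [6, 10] 2 388113 6809 = true := by decide +kernel

theorem chk_pow51_3_13 : tab.minOKc [6, 10] 2 394922 6809 = true := by decide +kernel

theorem chk_pow51_3_14 : tab.minOKc [6, 10] 2 401731 6809 = true := by decide +kernel

theorem chk_pow51_3 : tab.minOKc [6, 10] 2 306405 102135 = true := by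
  refine tab.minOKc_of_chunks [6, 10] 2 306405 6809 15 (by norm_num) ?_
  intro i hi
  interval_cases i
  · exact chk_pow51_3_0
  · exact chk_pow51_3_1
  · exact chk_pow51_3_2
  · exact chk_pow51_3_3
  · exact chk_pow51_3_4
  · exact chk_pow51_3_5
  · exact chk_pow51_3_6
  · exact chk_pow51_3_7
  · exact chk_pow51_3_8
  · exact chk_pow51_3_9
  · exact chk_pow51_3_10
  · exact chk_pow51_3_11
  · exact chk_pow51_3_12
  · exact chk_pow51_3_13
  · exact chk_pow51_3_14

end Cfsg.Agent.Lib.Helper6.Fi24TC
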