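import Cfsg.Agent.Lib.Helper6.Fi24SCert
import Cfsg.Agent.Lib.Helper6.Fi24SRows2

/-! # Fi24: the kernel check of the rows from 114096 on -/

set_option autoImplicit false

namespace Cfsg.Agent.Lib.Helper6.Fi24TC

open Cfsg.Agent.Lib.Helper6.TC Cfsg.Agent.Lib.Helper6.TCS

theorem chk_rows14_0 : cert.rowsOK 114096 293 = true := by decide +kernel

theorem chk_rows14_1 : cert.rowsOK 114389 293 = true := by decide +kernel

theorem chk_rows14_2 : cert.rowsOK 114682 293 = true := by decide +kernel

theorem chk_rows14_3 : cert.rowsOK 114975 293 = true := by decide +kernel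

theorem chk_rows14_4 : cert.rowsOK 115268 293 = true := by decide +kernel

theorem chk_rows14_5 : cert.rowsOK 115561 293 = true := by decide +kernel

theorem chk_rows14_6 : cert.rowsOK 115854 293 = true := by decide +kernel

theorem chk_rows14_7 : cert.rowsOK 116147 293 = true := by decide +kernel

theorem chk_rows14_8 : cert.rowsOK 116440 293 = true := by decide +kernel

theorem chk_rows14_9 : cert.rowsOK 116733 293 = true := by decide +kernel

theorem chk_rows14_10 : cert.rowsOK 117026 293 = true := by decide +kernel

theorem chk_rows14_11 : cert.rowsOK 117319 293 = true := by decide +kernel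

theorem chk_rows14_12 : cert.rowsOK 117612 293 = true := by decide +kernel

theorem chk_rows14_13 : cert.rowsOK 117905 293 = true := by decide +kernel

theorem chk_rows14_14 : cert.rowsOK 118198 293 = true := by decide +kernel

theorem chk_rows14_15 : cert.rowsOK 118491 293 = true := by decide +kernel

theorem chk_rows14_16 : cert.rowsOK 118784 293 = true := by decide +kernel

theorem chk_rows14_17 : cert.rowsOK 119077 293 = true := by decide +kernel

theorem chk_rows14_18 : cert.rowsOK 119370 293 = true := by decide +kernel

theorem chk_rows14_19 : cert.rowsOK 119663 293 = true := by decide +kernel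

theorem chk_rows14_20 : cert.rowsOK 119956 293 = true := by decide +kernel

theorem chk_rows14_21 : cert.rowsOK 120249 293 = true := by decide +kernel

theorem chk_rows14_22 : cert.rowsOK 120542 293 = true := by decide +kernel

theorem chk_rows14_23 : cert.rowsOK 120835 293 = true := by decide +kernel

theorem chk_range14 : ∀ a, 114096 ≤ a → a < 121128 → ∀ x < cert.c.g, cert.slotOK a x = true := by
  refine cert.range_of_chunks 114096 293 24 (by norm_num) ?_
  intro k hk
  interval_cases k
  · exact chk_rows14_0
  · exact chk_rows14_1
  · exact chk_rows14_2
  · exact chk_rows14_3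
  · exact chk_rows14_4
  · exact chk_rows14_5
  · exact chk_rows14_6
  · exact chk_rows14_7
  · exact chk_rows14_8
  · exact chk_rows14_9
  · exact chk_rows14_10
  · exact chk_rows14_11
  · exact chk_rows14_12
  · exact chk_rows14_13
  · exact chk_rows14_14
  · exact chk_rows14_15
  · exact chk_rows14_16
  · exact chk_rows14_17
  · exact chk_rows14_18
  · exact chk_rows14_19
  · exact chk_rows14_20
  · exact chk_rows14_21
  · exact chk_rows14_22
  · exact chk_rows14_23

end Cfsg.Agent.Lib.Helper6.Fi24TC
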