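import Cfsg.Agent.Lib.Helper6.Fi24SCert
import Cfsg.Agent.Lib.Helper6.Fi24SRows14

/-! # Fi24: the kernel check of the rows from 199728 on -/

set_option autoImplicit false

namespace Cfsg.Agent.Lib.Helper6.Fi24TC

open Cfsg.Agent.Lib.Helper6.TC Cfsg.Agent.Lib.Helper6.TCS

theorem chk_rows26_0 : cert.rowsOK 199728 293 = true := by decide +kernel

theorem chk_rows26_1 : cert.rowsOK 200021 293 = true := by decide +kernel

theorem chk_rows26_2 : cert.rowsOK 200314 293 = true := by decide +kernel

theorem chk_rows26_3 : cert.rowsOK 200607 293 = true := by decide +kernel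

theorem chk_rows26_4 : cert.rowsOK 200900 293 = true := by decide +kernel

theorem chk_rows26_5 : cert.rowsOK 201193 293 = true := by decide +kernel

theorem chk_rows26_6 : cert.rowsOK 201486 293 = true := by decide +kernel

theorem chk_rows26_7 : cert.rowsOK 201779 293 = true := by decide +kernel

theorem chk_rows26_8 : cert.rowsOK 202072 293 = true := by decide +kernel

theorem chk_rows26_9 : cert.rowsOK 202365 293 = true := by decide +kernel

theorem chk_rows26_10 : cert.rowsOK 202658 293 = true := by decide +kernel

theorem chk_rows26_11 : cert.rowsOK 202951 293 = true := by decide +kernel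

theorem chk_rows26_12 : cert.rowsOK 203244 293 = true := by decide +kernel

theorem chk_rows26_13 : cert.rowsOK 203537 293 = true := by decide +kernel

theorem chk_rows26_14 : cert.rowsOK 203830 293 = true := by decide +kernel

theorem chk_rows26_15 : cert.rowsOK 204123 293 = true := by decide +kernel

theorem chk_rows26_16 : cert.rowsOK 204416 293 = true := by decide +kernel

theorem chk_rows26_17 : cert.rowsOK 204709 293 = true := by decide +kernel

theorem chk_rows26_18 : cert.rowsOK 205002 293 = true := by decide +kernel

theorem chk_rows26_19 : cert.rowsOK 205295 293 = true := by decide +kernel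

theorem chk_rows26_20 : cert.rowsOK 205588 293 = true := by decide +kernel

theorem chk_rows26_21 : cert.rowsOK 205881 293 = true := by decide +kernel

theorem chk_rows26_22 : cert.rowsOK 206174 293 = true := by decide +kernel

theorem chk_rows26_23 : cert.rowsOK 206467 293 = true := by decide +kernel

theorem chk_range26 : ∀ a, 199728 ≤ a → a < 206760 → ∀ x < cert.c.g, cert.slotOK a x = true := by
  refine cert.range_of_chunks 199728 293 24 (by norm_num) ?_
  intro k hk
  interval_cases k
  · exact chk_rows26_0
  · exact chk_rows26_1
  · exact chk_rows26_2
  · exact chk_rows26_3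
  · exact chk_rows26_4
  · exact chk_rows26_5
  · exact chk_rows26_6
  · exact chk_rows26_7
  · exact chk_rows26_8
  · exact chk_rows26_9
  · exact chk_rows26_10
  · exact chk_rows26_11
  · exact chk_rows26_12
  · exact chk_rows26_13
  · exact chk_rows26_14
  · exact chk_rows26_15
  · exact chk_rows26_16
  · exact chk_rows26_17
  · exact chk_rows26_18
  · exact chk_rows26_19
  · exact chk_rows26_20
  · exact chk_rows26_21
  · exact chk_rows26_22
  · exact chk_rows26_23

end Cfsg.Agent.Lib.Helper6.Fi24TC
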