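import Cfsg.Agent.Lib.Helper6.Fi24SCert
import Cfsg.Agent.Lib.Helper6.Fi24SRows26

/-! # Fi24: the kernel check of the rows from 264096 on -/

set_option autoImplicit false

namespace Cfsg.Agent.Lib.Helper6.Fi24TC

open Cfsg.Agent.Lib.Helper6.TC Cfsg.Agent.Lib.Helper6.TCS

theorem chk_rows38_0 : cert.rowsOK 264096 129 = true := by decide +kernel

theorem chk_rows38_1 : cert.rowsOK 264225 129 = true := by decide +kernel

theorem chk_rows38_2 : cert.rowsOK 264354 129 = true := by decide +kernel

theorem chk_rows38_3 : cert.rowsOK 264483 129 = true := by decide +kernel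

theorem chk_rows38_4 : cert.rowsOK 264612 129 = true := by decide +kernel

theorem chk_rows38_5 : cert.rowsOK 264741 129 = true := by decide +kernel

theorem chk_rows38_6 : cert.rowsOK 264870 129 = true := by decide +kernel

theorem chk_rows38_7 : cert.rowsOK 264999 129 = true := by decide +kernel

theorem chk_rows38_8 : cert.rowsOK 265128 129 = true := by decide +kernel

theorem chk_rows38_9 : cert.rowsOK 265257 129 = true := by decide +kernel

theorem chk_rows38_10 : cert.rowsOK 265386 129 = true := by decide +kernel

theorem chk_rows38_11 : cert.rowsOK 265515 129 = true := by decide +kernel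

theorem chk_rows38_12 : cert.rowsOK 265644 129 = true := by decide +kernel

theorem chk_rows38_13 : cert.rowsOK 265773 129 = true := by decide +kernel

theorem chk_rows38_14 : cert.rowsOK 265902 129 = true := by decide +kernel

theorem chk_rows38_15 : cert.rowsOK 266031 129 = true := by decide +kernel

theorem chk_rows38_16 : cert.rowsOK 266160 129 = true := by decide +kernel

theorem chk_rows38_17 : cert.rowsOK 266289 129 = true := by decide +kernel

theorem chk_rows38_18 : cert.rowsOK 266418 129 = true := by decide +kernel

theorem chk_rows38_19 : cert.rowsOK 266547 129 = true := by decide +kernel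

theorem chk_rows38_20 : cert.rowsOK 266676 129 = true := by decide +kernel

theorem chk_rows38_21 : cert.rowsOK 266805 129 = true := by decide +kernel

theorem chk_rows38_22 : cert.rowsOK 266934 129 = true := by decide +kernel

theorem chk_rows38_23 : cert.rowsOK 267063 129 = true := by decide +kernel

theorem chk_range38 : ∀ a, 264096 ≤ a → a < 267192 → ∀ x < cert.c.g, cert.slotOK a x = true := by
  refine cert.range_of_chunks 264096 129 24 (by norm_num) ?_
  intro k hk
  interval_cases k
  · exact chk_rows38_0
  · exact chk_rows38_1
  · exact chk_rows38_2
  · exact chk_rows38_3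
  · exact chk_rows38_4
  · exact chk_rows38_5
  · exact chk_rows38_6
  · exact chk_rows38_7
  · exact chk_rows38_8
  · exact chk_rows38_9
  · exact chk_rows38_10
  · exact chk_rows38_11
  · exact chk_rows38_12
  · exact chk_rows38_13
  · exact chk_rows38_14
  · exact chk_rows38_15
  · exact chk_rows38_16
  · exact chk_rows38_17
  · exact chk_rows38_18
  · exact chk_rows38_19
  · exact chk_rows38_20
  · exact chk_rows38_21
  · exact chk_rows38_22
  · exact chk_rows38_23

end Cfsg.Agent.Lib.Helper6.Fi24TC
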