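import Cfsg.Agent.Lib.Helper6.Fi24SCert
import Cfsg.Agent.Lib.Helper6.Fi24SRows38

/-! # Fi24: the kernel check of the rows from 295320 on -/

set_option autoImplicit false

namespace Cfsg.Agent.Lib.Helper6.Fi24TC

open Cfsg.Agent.Lib.Helper6.TC Cfsg.Agent.Lib.Helper6.TCS

theorem chk_rows50_0 : cert.rowsOK 295320 66 = true := by decide +kernel

theorem chk_rows50_1 : cert.rowsOK 295386 66 = true := by decide +kernel

theorem chk_rows50_2 : cert.rowsOK 295452 66 = true := by decide +kernel

theorem chk_rows50_3 : cert.rowsOK 295518 66 = true := by decide +kernel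

theorem chk_rows50_4 : cert.rowsOK 295584 66 = true := by decide +kernel

theorem chk_rows50_5 : cert.rowsOK 295650 66 = true := by decide +kernel

theorem chk_rows50_6 : cert.rowsOK 295716 66 = true := by decide +kernel

theorem chk_rows50_7 : cert.rowsOK 295782 66 = true := by decide +kernel

theorem chk_rows50_8 : cert.rowsOK 295848 66 = true := by decide +kernel

theorem chk_rows50_9 : cert.rowsOK 295914 66 = true := by decide +kernel

theorem chk_rows50_10 : cert.rowsOK 295980 66 = true := by decide +kernel

theorem chk_rows50_11 : cert.rowsOK 296046 66 = true := by decide +kernel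

theorem chk_rows50_12 : cert.rowsOK 296112 66 = true := by decide +kernel

theorem chk_rows50_13 : cert.rowsOK 296178 66 = true := by decide +kernel

theorem chk_rows50_14 : cert.rowsOK 296244 66 = true := by decide +kernel

theorem chk_rows50_15 : cert.rowsOK 296310 66 = true := by decide +kernel

theorem chk_rows50_16 : cert.rowsOK 296376 66 = true := by decide +kernel

theorem chk_rows50_17 : cert.rowsOK 296442 66 = true := by decide +kernel

theorem chk_rows50_18 : cert.rowsOK 296508 66 = true := by decide +kernel

theorem chk_rows50_19 : cert.rowsOK 296574 66 = true := by decide +kernel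

theorem chk_rows50_20 : cert.rowsOK 296640 66 = true := by decide +kernel

theorem chk_rows50_21 : cert.rowsOK 296706 66 = true := by decide +kernel

theorem chk_rows50_22 : cert.rowsOK 296772 66 = true := by decide +kernel

theorem chk_rows50_23 : cert.rowsOK 296838 66 = true := by decide +kernel

theorem chk_range50 : ∀ a, 295320 ≤ a → a < 296904 → ∀ x < cert.c.g, cert.slotOK a x = true := by
  refine cert.range_of_chunks 295320 66 24 (by norm_num) ?_
  intro k hk
  interval_cases k
  · exact chk_rows50_0
  · exact chk_rows50_1
  · exact chk_rows50_2
  · exact chk_rows50_3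
  · exact chk_rows50_4
  · exact chk_rows50_5
  · exact chk_rows50_6
  · exact chk_rows50_7
  · exact chk_rows50_8
  · exact chk_rows50_9
  · exact chk_rows50_10
  · exact chk_rows50_11
  · exact chk_rows50_12
  · exact chk_rows50_13
  · exact chk_rows50_14
  · exact chk_rows50_15
  · exact chk_rows50_16
  · exact chk_rows50_17
  · exact chk_rows50_18
  · exact chk_rows50_19
  · exact chk_rows50_20
  · exact chk_rows50_21
  · exact chk_rows50_22
  · exact chk_rows50_23

end Cfsg.Agent.Lib.Helper6.Fi24TC
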