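import Cfsg.Agent.Lib.Helper6.Fi24SCert
import Cfsg.Agent.Lib.Helper6.TCChunk
import Cfsg.Agent.Lib.Helper6.Fi24SFin2

/-! # Fi24: the kernel check that the first rows are closed, part 14 -/

set_option autoImplicit false

namespace Cfsg.Agent.Lib.Helper6.Fi24TC

open Cfsg.Agent.Lib.Helper6.TC Cfsg.Agent.Lib.Helper6.TCS

theorem chk_fin126 : cert.finalOKc 306936 252000 2000 = true := by decide +kernel

theorem chk_fin127 : cert.finalOKc 306936 254000 2000 = true := by decide +kernel

theorem chk_fin128 : cert.finalOKc 306936 256000 2000 = true := by decide +kernel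

theorem chk_fin129 : cert.finalOKc 306936 258000 2000 = true := by decide +kernel

theorem chk_fin130 : cert.finalOKc 306936 260000 2000 = true := by decide +kernel

theorem chk_fin131 : cert.finalOKc 306936 262000 2000 = true := by decide +kernel

theorem chk_fin132 : cert.finalOKc 306936 264000 2000 = true := by decide +kernel

theorem chk_fin133 : cert.finalOKc 306936 266000 2000 = true := by decide +kernel

theorem chk_fin134 : cert.finalOKc 306936 268000 2000 = true := by decide +kernel

end Cfsg.Agent.Lib.Helper6.Fi24TC
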