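import Cfsg.Agent.Lib.Helper6.Fi24TCData
import Cfsg.Agent.Lib.Helper6.TCRel3
import Cfsg.Agent.Lib.Helper6.Fi24SFin14

/-! # Fi24: the kernel check of a part of the relators on the coset table -/

set_option autoImplicit false

namespace Cfsg.Agent.Lib.Helper6.Fi24TC

open Cfsg.Agent.Lib.Helper6.TC

theorem chk_pow4_0_0 : tab.minOKc [1, 3] 2 0 6720 = true := by decide +kernel

theorem chk_pow4_0_1 : tab.minOKc [1, 3] 2 6720 6720 = true := by decide +kernel

theorem chk_pow4_0_2 : tab.minOKc [1, 3] 2 13440 6720 = true := by decide +kernel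

theorem chk_pow4_0_3 : tab.minOKc [1, 3] 2 20160 6720 = true := by decide +kernel

theorem chk_pow4_0_4 : tab.minOKc [1, 3] 2 26880 6720 = true := by decide +kernel

theorem chk_pow4_0_5 : tab.minOKc [1, 3] 2 33600 6720 = true := by decide +kernel

theorem chk_pow4_0_6 : tab.minOKc [1, 3] 2 40320 6720 = true := by decide +kernel

theorem chk_pow4_0_7 : tab.minOKc [1, 3] 2 47040 6720 = true := by decide +kernel

theorem chk_pow4_0_8 : tab.minOKc [1, 3] 2 53760 6720 = true := by decide +kernel

theorem chk_pow4_0_9 : tab.minOKc [1, 3] 2 60480 6720 = true := by decide +kernel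

theorem chk_pow4_0_10 : tab.minOKc [1, 3] 2 67200 6720 = true := by decide +kernel

theorem chk_pow4_0_11 : tab.minOKc [1, 3] 2 73920 6720 = true := by decide +kernel

theorem chk_pow4_0_12 : tab.minOKc [1, 3] 2 80640 6720 = true := by decide +kernel

theorem chk_pow4_0_13 : tab.minOKc [1, 3] 2 87360 6720 = true := by decide +kernel

theorem chk_pow4_0_14 : tab.minOKc [1, 3] 2 94080 6720 = true := by decide +kernel

theorem chk_pow4_0 : tab.minOKc [1, 3] 2 0 100800 = true := by
  refine tab.minOKc_of_chunks [1, 3] 2 0 6720 15 (by norm_num) ?_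
  intro i hi
  interval_cases i
  · exact chk_pow4_0_0
  · exact chk_pow4_0_1
  · exact chk_pow4_0_2
  · exact chk_pow4_0_3
  · exact chk_pow4_0_4
  · exact chk_pow4_0_5
  · exact chk_pow4_0_6
  · exact chk_pow4_0_7
  · exact chk_pow4_0_8
  · exact chk_pow4_0_9
  · exact chk_pow4_0_10
  · exact chk_pow4_0_11
  · exact chk_pow4_0_12
  · exact chk_pow4_0_13
  · exact chk_pow4_0_14

theorem chk_pow4_1_0 : tab.minOKc [1, 3] 2 100800 6720 = true := by decide +kernel

theorem chk_pow4_1_1 : tab.minOKc [1, 3] 2 107520 6720 = true := by decide +kernel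

theorem chk_pow4_1_2 : tab.minOKc [1, 3] 2 114240 6720 = true := by decide +kernel

theorem chk_pow4_1_3 : tab.minOKc [1, 3] 2 120960 6720 = true := by decide +kernel

theorem chk_pow4_1_4 : tab.minOKc [1, 3] 2 127680 6720 = true := by decide +kernel

theorem chk_pow4_1_5 : tab.minOKc [1, 3] 2 134400 6720 = true := by decide +kernel

theorem chk_pow4_1_6 : tab.minOKc [1, 3] 2 141120 6720 = true := by decide +kernel

theorem chk_pow4_1_7 : tab.minOKc [1, 3] 2 147840 6720 = true := by decide +kernel

theorem chk_pow4_1_8 : tab.minOKc [1, 3] 2 154560 6720 = true := by decide +kernel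

theorem chk_pow4_1_9 : tab.minOKc [1, 3] 2 161280 6720 = true := by decide +kernel

theorem chk_pow4_1_10 : tab.minOKc [1, 3] 2 168000 6720 = true := by decide +kernel

theorem chk_pow4_1_11 : tab.minOKc [1, 3] 2 174720 6720 = true := by decide +kernel

theorem chk_pow4_1_12 : tab.minOKc [1, 3] 2 181440 6720 = true := by decide +kernel

theorem chk_pow4_1_13 : tab.minOKc [1, 3] 2 188160 6720 = true := by decide +kernel

theorem chk_pow4_1_14 : tab.minOKc [1, 3] 2 194880 6720 = true := by decide +kernel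

theorem chk_pow4_1 : tab.minOKc [1, 3] 2 100800 100800 = true := by
  refine tab.minOKc_of_chunks [1, 3] 2 100800 6720 15 (by norm_num) ?_
  intro i hi
  interval_cases i
  · exact chk_pow4_1_0
  · exact chk_pow4_1_1
  · exact chk_pow4_1_2
  · exact chk_pow4_1_3
  · exact chk_pow4_1_4
  · exact chk_pow4_1_5
  · exact chk_pow4_1_6
  · exact chk_pow4_1_7
  · exact chk_pow4_1_8
  · exact chk_pow4_1_9
  · exact chk_pow4_1_10
  · exact chk_pow4_1_11
  · exact chk_pow4_1_12
  · exact chk_pow4_1_13
  · exact chk_pow4_1_14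

end Cfsg.Agent.Lib.Helper6.Fi24TC
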