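import Cfsg.Agent.Lib.Helper6.Fi24TCData
import Cfsg.Agent.Lib.Helper6.TCRel3
import Cfsg.Agent.Lib.Helper6.Fi24TCRel20

/-! # Fi24: the kernel check of a part of the relators on the coset table -/

set_option autoImplicit false

namespace Cfsg.Agent.Lib.Helper6.Fi24TC

open Cfsg.Agent.Lib.Helper6.TC

theorem chk_pow16_0_0 : tab.minOKc [1, 6] 2 0 6735 = true := by decide +kernel

theorem chk_pow16_0_1 : tab.minOKc [1, 6] 2 6735 6735 = true := by decide +kernel

theorem chk_pow16_0_2 : tab.minOKc [1, 6] 2 13470 6735 = true := by decide +kernel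

theorem chk_pow16_0_3 : tab.minOKc [1, 6] 2 20205 6735 = true := by decide +kernel

theorem chk_pow16_0_4 : tab.minOKc [1, 6] 2 26940 6735 = true := by decide +kernel

theorem chk_pow16_0_5 : tab.minOKc [1, 6] 2 33675 6735 = true := by decide +kernel

theorem chk_pow16_0_6 : tab.minOKc [1, 6] 2 40410 6735 = true := by decide +kernel

theorem chk_pow16_0_7 : tab.minOKc [1, 6] 2 47145 6735 = true := by decide +kernel

theorem chk_pow16_0_8 : tab.minOKc [1, 6] 2 53880 6735 = true := by decide +kernel

theorem chk_pow16_0_9 : tab.minOKc [1, 6] 2 60615 6735 = true := by decide +kernel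

theorem chk_pow16_0_10 : tab.minOKc [1, 6] 2 67350 6735 = true := by decide +kernel

theorem chk_pow16_0_11 : tab.minOKc [1, 6] 2 74085 6735 = true := by decide +kernel

theorem chk_pow16_0_12 : tab.minOKc [1, 6] 2 80820 6735 = true := by decide +kernel

theorem chk_pow16_0_13 : tab.minOKc [1, 6] 2 87555 6735 = true := by decide +kernel

theorem chk_pow16_0_14 : tab.minOKc [1, 6] 2 94290 6735 = true := by decide +kernel

theorem chk_pow16_0 : tab.minOKc [1, 6] 2 0 101025 = true := by
  refine tab.minOKc_of_chunks [1, 6] 2 0 6735 15 (by norm_num) ?_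
  intro i hi
  interval_cases i
  · exact chk_pow16_0_0
  · exact chk_pow16_0_1
  · exact chk_pow16_0_2
  · exact chk_pow16_0_3
  · exact chk_pow16_0_4
  · exact chk_pow16_0_5
  · exact chk_pow16_0_6
  · exact chk_pow16_0_7
  · exact chk_pow16_0_8
  · exact chk_pow16_0_9
  · exact chk_pow16_0_10
  · exact chk_pow16_0_11
  · exact chk_pow16_0_12
  · exact chk_pow16_0_13
  · exact chk_pow16_0_14

theorem chk_pow16_1_0 : tab.minOKc [1, 6] 2 101025 6735 = true := by decide +kernel

theorem chk_pow16_1_1 : tab.minOKc [1, 6] 2 107760 6735 = true := by decide +kernel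

theorem chk_pow16_1_2 : tab.minOKc [1, 6] 2 114495 6735 = true := by decide +kernel

theorem chk_pow16_1_3 : tab.minOKc [1, 6] 2 121230 6735 = true := by decide +kernel

theorem chk_pow16_1_4 : tab.minOKc [1, 6] 2 127965 6735 = true := by decide +kernel

theorem chk_pow16_1_5 : tab.minOKc [1, 6] 2 134700 6735 = true := by decide +kernel

theorem chk_pow16_1_6 : tab.minOKc [1, 6] 2 141435 6735 = true := by decide +kernel

theorem chk_pow16_1_7 : tab.minOKc [1, 6] 2 148170 6735 = true := by decide +kernel

theorem chk_pow16_1_8 : tab.minOKc [1, 6] 2 154905 6735 = true := by decide +kernel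

theorem chk_pow16_1_9 : tab.minOKc [1, 6] 2 161640 6735 = true := by decide +kernel

theorem chk_pow16_1_10 : tab.minOKc [1, 6] 2 168375 6735 = true := by decide +kernel

theorem chk_pow16_1_11 : tab.minOKc [1, 6] 2 175110 6735 = true := by decide +kernel

theorem chk_pow16_1_12 : tab.minOKc [1, 6] 2 181845 6735 = true := by decide +kernel

theorem chk_pow16_1_13 : tab.minOKc [1, 6] 2 188580 6735 = true := by decide +kernel

theorem chk_pow16_1_14 : tab.minOKc [1, 6] 2 195315 6735 = true := by decide +kernel

theorem chk_pow16_1 : tab.minOKc [1, 6] 2 101025 101025 = true := by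
  refine tab.minOKc_of_chunks [1, 6] 2 101025 6735 15 (by norm_num) ?_
  intro i hi
  interval_cases i
  · exact chk_pow16_1_0
  · exact chk_pow16_1_1
  · exact chk_pow16_1_2
  · exact chk_pow16_1_3
  · exact chk_pow16_1_4
  · exact chk_pow16_1_5
  · exact chk_pow16_1_6
  · exact chk_pow16_1_7
  · exact chk_pow16_1_8
  · exact chk_pow16_1_9
  · exact chk_pow16_1_10
  · exact chk_pow16_1_11
  · exact chk_pow16_1_12
  · exact chk_pow16_1_13
  · exact chk_pow16_1_14

end Cfsg.Agent.Lib.Helper6.Fi24TC
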