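import Cfsg.Agent.Lib.Helper6.Fi24TCData
import Cfsg.Agent.Lib.Helper6.TCRel3
import Cfsg.Agent.Lib.Helper6.Fi24TCRel32

/-! # Fi24: the kernel check of a part of the relators on the coset table -/

set_option autoImplicit false

namespace Cfsg.Agent.Lib.Helper6.Fi24TC

open Cfsg.Agent.Lib.Helper6.TC

theorem chk_pow22_0_0 : tab.minOKc [1, 7] 2 0 6708 = true := by decide +kernel

theorem chk_pow22_0_1 : tab.minOKc [1, 7] 2 6708 6708 = true := by decide +kernel

theorem chk_pow22_0_2 : tab.minOKc [1, 7] 2 13416 6708 = true := by decide +kernel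

theorem chk_pow22_0_3 : tab.minOKc [1, 7] 2 20124 6708 = true := by decide +kernel

theorem chk_pow22_0_4 : tab.minOKc [1, 7] 2 26832 6708 = true := by decide +kernel

theorem chk_pow22_0_5 : tab.minOKc [1, 7] 2 33540 6708 = true := by decide +kernel

theorem chk_pow22_0_6 : tab.minOKc [1, 7] 2 40248 6708 = true := by decide +kernel

theorem chk_pow22_0_7 : tab.minOKc [1, 7] 2 46956 6708 = true := by decide +kernel

theorem chk_pow22_0_8 : tab.minOKc [1, 7] 2 53664 6708 = true := by decide +kernel

theorem chk_pow22_0_9 : tab.minOKc [1, 7] 2 60372 6708 = true := by decide +kernel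

theorem chk_pow22_0_10 : tab.minOKc [1, 7] 2 67080 6708 = true := by decide +kernel

theorem chk_pow22_0_11 : tab.minOKc [1, 7] 2 73788 6708 = true := by decide +kernel

theorem chk_pow22_0_12 : tab.minOKc [1, 7] 2 80496 6708 = true := by decide +kernel

theorem chk_pow22_0_13 : tab.minOKc [1, 7] 2 87204 6708 = true := by decide +kernel

theorem chk_pow22_0_14 : tab.minOKc [1, 7] 2 93912 6708 = true := by decide +kernel

theorem chk_pow22_0 : tab.minOKc [1, 7] 2 0 100620 = true := by
  refine tab.minOKc_of_chunks [1, 7] 2 0 6708 15 (by norm_num) ?_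
  intro i hi
  interval_cases i
  · exact chk_pow22_0_0
  · exact chk_pow22_0_1
  · exact chk_pow22_0_2
  · exact chk_pow22_0_3
  · exact chk_pow22_0_4
  · exact chk_pow22_0_5
  · exact chk_pow22_0_6
  · exact chk_pow22_0_7
  · exact chk_pow22_0_8
  · exact chk_pow22_0_9
  · exact chk_pow22_0_10
  · exact chk_pow22_0_11
  · exact chk_pow22_0_12
  · exact chk_pow22_0_13
  · exact chk_pow22_0_14

theorem chk_pow22_1_0 : tab.minOKc [1, 7] 2 100620 6708 = true := by decide +kernel

theorem chk_pow22_1_1 : tab.minOKc [1, 7] 2 107328 6708 = true := by decide +kernel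

theorem chk_pow22_1_2 : tab.minOKc [1, 7] 2 114036 6708 = true := by decide +kernel

theorem chk_pow22_1_3 : tab.minOKc [1, 7] 2 120744 6708 = true := by decide +kernel

theorem chk_pow22_1_4 : tab.minOKc [1, 7] 2 127452 6708 = true := by decide +kernel

theorem chk_pow22_1_5 : tab.minOKc [1, 7] 2 134160 6708 = true := by decide +kernel

theorem chk_pow22_1_6 : tab.minOKc [1, 7] 2 140868 6708 = true := by decide +kernel

theorem chk_pow22_1_7 : tab.minOKc [1, 7] 2 147576 6708 = true := by decide +kernel

theorem chk_pow22_1_8 : tab.minOKc [1, 7] 2 154284 6708 = true := by decide +kernel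

theorem chk_pow22_1_9 : tab.minOKc [1, 7] 2 160992 6708 = true := by decide +kernel

theorem chk_pow22_1_10 : tab.minOKc [1, 7] 2 167700 6708 = true := by decide +kernel

theorem chk_pow22_1_11 : tab.minOKc [1, 7] 2 174408 6708 = true := by decide +kernel

theorem chk_pow22_1_12 : tab.minOKc [1, 7] 2 181116 6708 = true := by decide +kernel

theorem chk_pow22_1_13 : tab.minOKc [1, 7] 2 187824 6708 = true := by decide +kernel

theorem chk_pow22_1_14 : tab.minOKc [1, 7] 2 194532 6708 = true := by decide +kernel

theorem chk_pow22_1 : tab.minOKc [1, 7] 2 100620 100620 = true := by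
  refine tab.minOKc_of_chunks [1, 7] 2 100620 6708 15 (by norm_num) ?_
  intro i hi
  interval_cases i
  · exact chk_pow22_1_0
  · exact chk_pow22_1_1
  · exact chk_pow22_1_2
  · exact chk_pow22_1_3
  · exact chk_pow22_1_4
  · exact chk_pow22_1_5
  · exact chk_pow22_1_6
  · exact chk_pow22_1_7
  · exact chk_pow22_1_8
  · exact chk_pow22_1_9
  · exact chk_pow22_1_10
  · exact chk_pow22_1_11
  · exact chk_pow22_1_12
  · exact chk_pow22_1_13
  · exact chk_pow22_1_14

end Cfsg.Agent.Lib.Helper6.Fi24TC
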