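import Cfsg.Agent.Lib.Helper6.Fi24TCData
import Cfsg.Agent.Lib.Helper6.TCRel3
import Cfsg.Agent.Lib.Helper6.Fi24TCRel44

/-! # Fi24: the kernel check of a part of the relators on the coset table -/

set_option autoImplicit false

namespace Cfsg.Agent.Lib.Helper6.Fi24TC

open Cfsg.Agent.Lib.Helper6.TC

theorem chk_pow28_0_0 : tab.minOKc [0, 8] 2 0 6702 = true := by decide +kernel

theorem chk_pow28_0_1 : tab.minOKc [0, 8] 2 6702 6702 = true := by decide +kernel

theorem chk_pow28_0_2 : tab.minOKc [0, 8] 2 13404 6702 = true := by decide +kernel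

theorem chk_pow28_0_3 : tab.minOKc [0, 8] 2 20106 6702 = true := by decide +kernel

theorem chk_pow28_0_4 : tab.minOKc [0, 8] 2 26808 6702 = true := by decide +kernel

theorem chk_pow28_0_5 : tab.minOKc [0, 8] 2 33510 6702 = true := by decide +kernel

theorem chk_pow28_0_6 : tab.minOKc [0, 8] 2 40212 6702 = true := by decide +kernel

theorem chk_pow28_0_7 : tab.minOKc [0, 8] 2 46914 6702 = true := by decide +kernel

theorem chk_pow28_0_8 : tab.minOKc [0, 8] 2 53616 6702 = true := by decide +kernel

theorem chk_pow28_0_9 : tab.minOKc [0, 8] 2 60318 6702 = true := by decide +kernel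

theorem chk_pow28_0_10 : tab.minOKc [0, 8] 2 67020 6702 = true := by decide +kernel

theorem chk_pow28_0_11 : tab.minOKc [0, 8] 2 73722 6702 = true := by decide +kernel

theorem chk_pow28_0_12 : tab.minOKc [0, 8] 2 80424 6702 = true := by decide +kernel

theorem chk_pow28_0_13 : tab.minOKc [0, 8] 2 87126 6702 = true := by decide +kernel

theorem chk_pow28_0_14 : tab.minOKc [0, 8] 2 93828 6702 = true := by decide +kernel

theorem chk_pow28_0 : tab.minOKc [0, 8] 2 0 100530 = true := by
  refine tab.minOKc_of_chunks [0, 8] 2 0 6702 15 (by norm_num) ?_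
  intro i hi
  interval_cases i
  · exact chk_pow28_0_0
  · exact chk_pow28_0_1
  · exact chk_pow28_0_2
  · exact chk_pow28_0_3
  · exact chk_pow28_0_4
  · exact chk_pow28_0_5
  · exact chk_pow28_0_6
  · exact chk_pow28_0_7
  · exact chk_pow28_0_8
  · exact chk_pow28_0_9
  · exact chk_pow28_0_10
  · exact chk_pow28_0_11
  · exact chk_pow28_0_12
  · exact chk_pow28_0_13
  · exact chk_pow28_0_14

theorem chk_pow28_1_0 : tab.minOKc [0, 8] 2 100530 6702 = true := by decide +kernel

theorem chk_pow28_1_1 : tab.minOKc [0, 8] 2 107232 6702 = true := by decide +kernel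

theorem chk_pow28_1_2 : tab.minOKc [0, 8] 2 113934 6702 = true := by decide +kernel

theorem chk_pow28_1_3 : tab.minOKc [0, 8] 2 120636 6702 = true := by decide +kernel

theorem chk_pow28_1_4 : tab.minOKc [0, 8] 2 127338 6702 = true := by decide +kernel

theorem chk_pow28_1_5 : tab.minOKc [0, 8] 2 134040 6702 = true := by decide +kernel

theorem chk_pow28_1_6 : tab.minOKc [0, 8] 2 140742 6702 = true := by decide +kernel

theorem chk_pow28_1_7 : tab.minOKc [0, 8] 2 147444 6702 = true := by decide +kernel

theorem chk_pow28_1_8 : tab.minOKc [0, 8] 2 154146 6702 = true := by decide +kernel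

theorem chk_pow28_1_9 : tab.minOKc [0, 8] 2 160848 6702 = true := by decide +kernel

theorem chk_pow28_1_10 : tab.minOKc [0, 8] 2 167550 6702 = true := by decide +kernel

theorem chk_pow28_1_11 : tab.minOKc [0, 8] 2 174252 6702 = true := by decide +kernel

theorem chk_pow28_1_12 : tab.minOKc [0, 8] 2 180954 6702 = true := by decide +kernel

theorem chk_pow28_1_13 : tab.minOKc [0, 8] 2 187656 6702 = true := by decide +kernel

theorem chk_pow28_1_14 : tab.minOKc [0, 8] 2 194358 6702 = true := by decide +kernel

theorem chk_pow28_1 : tab.minOKc [0, 8] 2 100530 100530 = true := by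
  refine tab.minOKc_of_chunks [0, 8] 2 100530 6702 15 (by norm_num) ?_
  intro i hi
  interval_cases i
  · exact chk_pow28_1_0
  · exact chk_pow28_1_1
  · exact chk_pow28_1_2
  · exact chk_pow28_1_3
  · exact chk_pow28_1_4
  · exact chk_pow28_1_5
  · exact chk_pow28_1_6
  · exact chk_pow28_1_7
  · exact chk_pow28_1_8
  · exact chk_pow28_1_9
  · exact chk_pow28_1_10
  · exact chk_pow28_1_11
  · exact chk_pow28_1_12
  · exact chk_pow28_1_13
  · exact chk_pow28_1_14

end Cfsg.Agent.Lib.Helper6.Fi24TC
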