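import Cfsg.Agent.Lib.Helper6.Fi24TCData
import Cfsg.Agent.Lib.Helper6.TCRel3
import Cfsg.Agent.Lib.Helper6.Fi24TCRel56

/-! # Fi24: the kernel check of a part of the relators on the coset table -/

set_option autoImplicit false

namespace Cfsg.Agent.Lib.Helper6.Fi24TC

open Cfsg.Agent.Lib.Helper6.TC

theorem chk_pow34_0_0 : tab.minOKc [6, 8] 2 0 6717 = true := by decide +kernel

theorem chk_pow34_0_1 : tab.minOKc [6, 8] 2 6717 6717 = true := by decide +kernel

theorem chk_pow34_0_2 : tab.minOKc [6, 8] 2 13434 6717 = true := by decide +kernel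

theorem chk_pow34_0_3 : tab.minOKc [6, 8] 2 20151 6717 = true := by decide +kernel

theorem chk_pow34_0_4 : tab.minOKc [6, 8] 2 26868 6717 = true := by decide +kernel

theorem chk_pow34_0_5 : tab.minOKc [6, 8] 2 33585 6717 = true := by decide +kernel

theorem chk_pow34_0_6 : tab.minOKc [6, 8] 2 40302 6717 = true := by decide +kernel

theorem chk_pow34_0_7 : tab.minOKc [6, 8] 2 47019 6717 = true := by decide +kernel

theorem chk_pow34_0_8 : tab.minOKc [6, 8] 2 53736 6717 = true := by decide +kernel

theorem chk_pow34_0_9 : tab.minOKc [6, 8] 2 60453 6717 = true := by decide +kernel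

theorem chk_pow34_0_10 : tab.minOKc [6, 8] 2 67170 6717 = true := by decide +kernel

theorem chk_pow34_0_11 : tab.minOKc [6, 8] 2 73887 6717 = true := by decide +kernel

theorem chk_pow34_0_12 : tab.minOKc [6, 8] 2 80604 6717 = true := by decide +kernel

theorem chk_pow34_0_13 : tab.minOKc [6, 8] 2 87321 6717 = true := by decide +kernel

theorem chk_pow34_0_14 : tab.minOKc [6, 8] 2 94038 6717 = true := by decide +kernel

theorem chk_pow34_0 : tab.minOKc [6, 8] 2 0 100755 = true := by
  refine tab.minOKc_of_chunks [6, 8] 2 0 6717 15 (by norm_num) ?_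
  intro i hi
  interval_cases i
  · exact chk_pow34_0_0
  · exact chk_pow34_0_1
  · exact chk_pow34_0_2
  · exact chk_pow34_0_3
  · exact chk_pow34_0_4
  · exact chk_pow34_0_5
  · exact chk_pow34_0_6
  · exact chk_pow34_0_7
  · exact chk_pow34_0_8
  · exact chk_pow34_0_9
  · exact chk_pow34_0_10
  · exact chk_pow34_0_11
  · exact chk_pow34_0_12
  · exact chk_pow34_0_13
  · exact chk_pow34_0_14

theorem chk_pow34_1_0 : tab.minOKc [6, 8] 2 100755 6717 = true := by decide +kernel

theorem chk_pow34_1_1 : tab.minOKc [6, 8] 2 107472 6717 = true := by decide +kernel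

theorem chk_pow34_1_2 : tab.minOKc [6, 8] 2 114189 6717 = true := by decide +kernel

theorem chk_pow34_1_3 : tab.minOKc [6, 8] 2 120906 6717 = true := by decide +kernel

theorem chk_pow34_1_4 : tab.minOKc [6, 8] 2 127623 6717 = true := by decide +kernel

theorem chk_pow34_1_5 : tab.minOKc [6, 8] 2 134340 6717 = true := by decide +kernel

theorem chk_pow34_1_6 : tab.minOKc [6, 8] 2 141057 6717 = true := by decide +kernel

theorem chk_pow34_1_7 : tab.minOKc [6, 8] 2 147774 6717 = true := by decide +kernel

theorem chk_pow34_1_8 : tab.minOKc [6, 8] 2 154491 6717 = true := by decide +kernel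

theorem chk_pow34_1_9 : tab.minOKc [6, 8] 2 161208 6717 = true := by decide +kernel

theorem chk_pow34_1_10 : tab.minOKc [6, 8] 2 167925 6717 = true := by decide +kernel

theorem chk_pow34_1_11 : tab.minOKc [6, 8] 2 174642 6717 = true := by decide +kernel

theorem chk_pow34_1_12 : tab.minOKc [6, 8] 2 181359 6717 = true := by decide +kernel

theorem chk_pow34_1_13 : tab.minOKc [6, 8] 2 188076 6717 = true := by decide +kernel

theorem chk_pow34_1_14 : tab.minOKc [6, 8] 2 194793 6717 = true := by decide +kernel

theorem chk_pow34_1 : tab.minOKc [6, 8] 2 100755 100755 = true := by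
  refine tab.minOKc_of_chunks [6, 8] 2 100755 6717 15 (by norm_num) ?_
  intro i hi
  interval_cases i
  · exact chk_pow34_1_0
  · exact chk_pow34_1_1
  · exact chk_pow34_1_2
  · exact chk_pow34_1_3
  · exact chk_pow34_1_4
  · exact chk_pow34_1_5
  · exact chk_pow34_1_6
  · exact chk_pow34_1_7
  · exact chk_pow34_1_8
  · exact chk_pow34_1_9
  · exact chk_pow34_1_10
  · exact chk_pow34_1_11
  · exact chk_pow34_1_12
  · exact chk_pow34_1_13
  · exact chk_pow34_1_14

end Cfsg.Agent.Lib.Helper6.Fi24TC
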