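import Cfsg.Agent.Lib.Helper6.Fi24TCData
import Cfsg.Agent.Lib.Helper6.TCRel3
import Cfsg.Agent.Lib.Helper6.Fi24TCRel68

/-! # Fi24: the kernel check of a part of the relators on the coset table -/

set_option autoImplicit false

namespace Cfsg.Agent.Lib.Helper6.Fi24TC

open Cfsg.Agent.Lib.Helper6.TC

theorem chk_pow40_0_0 : tab.minOKc [4, 9] 2 0 6654 = true := by decide +kernel

theorem chk_pow40_0_1 : tab.minOKc [4, 9] 2 6654 6654 = true := by decide +kernel

theorem chk_pow40_0_2 : tab.minOKc [4, 9] 2 13308 6654 = true := by decide +kernel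

theorem chk_pow40_0_3 : tab.minOKc [4, 9] 2 19962 6654 = true := by decide +kernel

theorem chk_pow40_0_4 : tab.minOKc [4, 9] 2 26616 6654 = true := by decide +kernel

theorem chk_pow40_0_5 : tab.minOKc [4, 9] 2 33270 6654 = true := by decide +kernel

theorem chk_pow40_0_6 : tab.minOKc [4, 9] 2 39924 6654 = true := by decide +kernel

theorem chk_pow40_0_7 : tab.minOKc [4, 9] 2 46578 6654 = true := by decide +kernel

theorem chk_pow40_0_8 : tab.minOKc [4, 9] 2 53232 6654 = true := by decide +kernel

theorem chk_pow40_0_9 : tab.minOKc [4, 9] 2 59886 6654 = true := by decide +kernel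

theorem chk_pow40_0_10 : tab.minOKc [4, 9] 2 66540 6654 = true := by decide +kernel

theorem chk_pow40_0_11 : tab.minOKc [4, 9] 2 73194 6654 = true := by decide +kernel

theorem chk_pow40_0_12 : tab.minOKc [4, 9] 2 79848 6654 = true := by decide +kernel

theorem chk_pow40_0_13 : tab.minOKc [4, 9] 2 86502 6654 = true := by decide +kernel

theorem chk_pow40_0_14 : tab.minOKc [4, 9] 2 93156 6654 = true := by decide +kernel

theorem chk_pow40_0 : tab.minOKc [4, 9] 2 0 99810 = true := by
  refine tab.minOKc_of_chunks [4, 9] 2 0 6654 15 (by norm_num) ?_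
  intro i hi
  interval_cases i
  · exact chk_pow40_0_0
  · exact chk_pow40_0_1
  · exact chk_pow40_0_2
  · exact chk_pow40_0_3
  · exact chk_pow40_0_4
  · exact chk_pow40_0_5
  · exact chk_pow40_0_6
  · exact chk_pow40_0_7
  · exact chk_pow40_0_8
  · exact chk_pow40_0_9
  · exact chk_pow40_0_10
  · exact chk_pow40_0_11
  · exact chk_pow40_0_12
  · exact chk_pow40_0_13
  · exact chk_pow40_0_14

theorem chk_pow40_1_0 : tab.minOKc [4, 9] 2 99810 6654 = true := by decide +kernel

theorem chk_pow40_1_1 : tab.minOKc [4, 9] 2 106464 6654 = true := by decide +kernel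

theorem chk_pow40_1_2 : tab.minOKc [4, 9] 2 113118 6654 = true := by decide +kernel

theorem chk_pow40_1_3 : tab.minOKc [4, 9] 2 119772 6654 = true := by decide +kernel

theorem chk_pow40_1_4 : tab.minOKc [4, 9] 2 126426 6654 = true := by decide +kernel

theorem chk_pow40_1_5 : tab.minOKc [4, 9] 2 133080 6654 = true := by decide +kernel

theorem chk_pow40_1_6 : tab.minOKc [4, 9] 2 139734 6654 = true := by decide +kernel

theorem chk_pow40_1_7 : tab.minOKc [4, 9] 2 146388 6654 = true := by decide +kernel

theorem chk_pow40_1_8 : tab.minOKc [4, 9] 2 153042 6654 = true := by decide +kernel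

theorem chk_pow40_1_9 : tab.minOKc [4, 9] 2 159696 6654 = true := by decide +kernel

theorem chk_pow40_1_10 : tab.minOKc [4, 9] 2 166350 6654 = true := by decide +kernel

theorem chk_pow40_1_11 : tab.minOKc [4, 9] 2 173004 6654 = true := by decide +kernel

theorem chk_pow40_1_12 : tab.minOKc [4, 9] 2 179658 6654 = true := by decide +kernel

theorem chk_pow40_1_13 : tab.minOKc [4, 9] 2 186312 6654 = true := by decide +kernel

theorem chk_pow40_1_14 : tab.minOKc [4, 9] 2 192966 6654 = true := by decide +kernel

theorem chk_pow40_1 : tab.minOKc [4, 9] 2 99810 99810 = true := by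
  refine tab.minOKc_of_chunks [4, 9] 2 99810 6654 15 (by norm_num) ?_
  intro i hi
  interval_cases i
  · exact chk_pow40_1_0
  · exact chk_pow40_1_1
  · exact chk_pow40_1_2
  · exact chk_pow40_1_3
  · exact chk_pow40_1_4
  · exact chk_pow40_1_5
  · exact chk_pow40_1_6
  · exact chk_pow40_1_7
  · exact chk_pow40_1_8
  · exact chk_pow40_1_9
  · exact chk_pow40_1_10
  · exact chk_pow40_1_11
  · exact chk_pow40_1_12
  · exact chk_pow40_1_13
  · exact chk_pow40_1_14

end Cfsg.Agent.Lib.Helper6.Fi24TC
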