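import Cfsg.Agent.Lib.Helper6.Fi24TCData
import Cfsg.Agent.Lib.Helper6.TCRel3
import Cfsg.Agent.Lib.Helper6.Fi24TCRel80

/-! # Fi24: the kernel check of a part of the relators on the coset table -/

set_option autoImplicit false

namespace Cfsg.Agent.Lib.Helper6.Fi24TC

open Cfsg.Agent.Lib.Helper6.TC

theorem chk_pow46_0_0 : tab.minOKc [1, 10] 2 0 6770 = true := by decide +kernel

theorem chk_pow46_0_1 : tab.minOKc [1, 10] 2 6770 6770 = true := by decide +kernel

theorem chk_pow46_0_2 : tab.minOKc [1, 10] 2 13540 6770 = true := by decide +kernel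

theorem chk_pow46_0_3 : tab.minOKc [1, 10] 2 20310 6770 = true := by decide +kernel

theorem chk_pow46_0_4 : tab.minOKc [1, 10] 2 27080 6770 = true := by decide +kernel

theorem chk_pow46_0_5 : tab.minOKc [1, 10] 2 33850 6770 = true := by decide +kernel

theorem chk_pow46_0_6 : tab.minOKc [1, 10] 2 40620 6770 = true := by decide +kernel

theorem chk_pow46_0_7 : tab.minOKc [1, 10] 2 47390 6770 = true := by decide +kernel

theorem chk_pow46_0_8 : tab.minOKc [1, 10] 2 54160 6770 = true := by decide +kernel

theorem chk_pow46_0_9 : tab.minOKc [1, 10] 2 60930 6770 = true := by decide +kernel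

theorem chk_pow46_0_10 : tab.minOKc [1, 10] 2 67700 6770 = true := by decide +kernel

theorem chk_pow46_0_11 : tab.minOKc [1, 10] 2 74470 6770 = true := by decide +kernel

theorem chk_pow46_0_12 : tab.minOKc [1, 10] 2 81240 6770 = true := by decide +kernel

theorem chk_pow46_0_13 : tab.minOKc [1, 10] 2 88010 6770 = true := by decide +kernel

theorem chk_pow46_0_14 : tab.minOKc [1, 10] 2 94780 6770 = true := by decide +kernel

theorem chk_pow46_0 : tab.minOKc [1, 10] 2 0 101550 = true := by
  refine tab.minOKc_of_chunks [1, 10] 2 0 6770 15 (by norm_num) ?_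
  intro i hi
  interval_cases i
  · exact chk_pow46_0_0
  · exact chk_pow46_0_1
  · exact chk_pow46_0_2
  · exact chk_pow46_0_3
  · exact chk_pow46_0_4
  · exact chk_pow46_0_5
  · exact chk_pow46_0_6
  · exact chk_pow46_0_7
  · exact chk_pow46_0_8
  · exact chk_pow46_0_9
  · exact chk_pow46_0_10
  · exact chk_pow46_0_11
  · exact chk_pow46_0_12
  · exact chk_pow46_0_13
  · exact chk_pow46_0_14

theorem chk_pow46_1_0 : tab.minOKc [1, 10] 2 101550 6770 = true := by decide +kernel

theorem chk_pow46_1_1 : tab.minOKc [1, 10] 2 108320 6770 = true := by decide +kernel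

theorem chk_pow46_1_2 : tab.minOKc [1, 10] 2 115090 6770 = true := by decide +kernel

theorem chk_pow46_1_3 : tab.minOKc [1, 10] 2 121860 6770 = true := by decide +kernel

theorem chk_pow46_1_4 : tab.minOKc [1, 10] 2 128630 6770 = true := by decide +kernel

theorem chk_pow46_1_5 : tab.minOKc [1, 10] 2 135400 6770 = true := by decide +kernel

theorem chk_pow46_1_6 : tab.minOKc [1, 10] 2 142170 6770 = true := by decide +kernel

theorem chk_pow46_1_7 : tab.minOKc [1, 10] 2 148940 6770 = true := by decide +kernel

theorem chk_pow46_1_8 : tab.minOKc [1, 10] 2 155710 6770 = true := by decide +kernel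

theorem chk_pow46_1_9 : tab.minOKc [1, 10] 2 162480 6770 = true := by decide +kernel

theorem chk_pow46_1_10 : tab.minOKc [1, 10] 2 169250 6770 = true := by decide +kernel

theorem chk_pow46_1_11 : tab.minOKc [1, 10] 2 176020 6770 = true := by decide +kernel

theorem chk_pow46_1_12 : tab.minOKc [1, 10] 2 182790 6770 = true := by decide +kernel

theorem chk_pow46_1_13 : tab.minOKc [1, 10] 2 189560 6770 = true := by decide +kernel

theorem chk_pow46_1_14 : tab.minOKc [1, 10] 2 196330 6770 = true := by decide +kernel

theorem chk_pow46_1 : tab.minOKc [1, 10] 2 101550 101550 = true := by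
  refine tab.minOKc_of_chunks [1, 10] 2 101550 6770 15 (by norm_num) ?_
  intro i hi
  interval_cases i
  · exact chk_pow46_1_0
  · exact chk_pow46_1_1
  · exact chk_pow46_1_2
  · exact chk_pow46_1_3
  · exact chk_pow46_1_4
  · exact chk_pow46_1_5
  · exact chk_pow46_1_6
  · exact chk_pow46_1_7
  · exact chk_pow46_1_8
  · exact chk_pow46_1_9
  · exact chk_pow46_1_10
  · exact chk_pow46_1_11
  · exact chk_pow46_1_12
  · exact chk_pow46_1_13
  · exact chk_pow46_1_14

end Cfsg.Agent.Lib.Helper6.Fi24TC
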