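import Cfsg.Agent.Lib.Helper6.Fi24TCData
import Cfsg.Agent.Lib.Helper6.TCRel3
import Cfsg.Agent.Lib.Helper6.Fi24TCRel92

/-! # Fi24: the kernel check of a part of the relators on the coset table -/

set_option autoImplicit false

namespace Cfsg.Agent.Lib.Helper6.Fi24TC

open Cfsg.Agent.Lib.Helper6.TC

theorem chk_pow52_0_0 : tab.minOKc [7, 10] 2 0 6779 = true := by decide +kernel

theorem chk_pow52_0_1 : tab.minOKc [7, 10] 2 6779 6779 = true := by decide +kernel

theorem chk_pow52_0_2 : tab.minOKc [7, 10] 2 13558 6779 = true := by decide +kernel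

theorem chk_pow52_0_3 : tab.minOKc [7, 10] 2 20337 6779 = true := by decide +kernel

theorem chk_pow52_0_4 : tab.minOKc [7, 10] 2 27116 6779 = true := by decide +kernel

theorem chk_pow52_0_5 : tab.minOKc [7, 10] 2 33895 6779 = true := by decide +kernel

theorem chk_pow52_0_6 : tab.minOKc [7, 10] 2 40674 6779 = true := by decide +kernel

theorem chk_pow52_0_7 : tab.minOKc [7, 10] 2 47453 6779 = true := by decide +kernel

theorem chk_pow52_0_8 : tab.minOKc [7, 10] 2 54232 6779 = true := by decide +kernel

theorem chk_pow52_0_9 : tab.minOKc [7, 10] 2 61011 6779 = true := by decide +kernel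

theorem chk_pow52_0_10 : tab.minOKc [7, 10] 2 67790 6779 = true := by decide +kernel

theorem chk_pow52_0_11 : tab.minOKc [7, 10] 2 74569 6779 = true := by decide +kernel

theorem chk_pow52_0_12 : tab.minOKc [7, 10] 2 81348 6779 = true := by decide +kernel

theorem chk_pow52_0_13 : tab.minOKc [7, 10] 2 88127 6779 = true := by decide +kernel

theorem chk_pow52_0_14 : tab.minOKc [7, 10] 2 94906 6779 = true := by decide +kernel

theorem chk_pow52_0 : tab.minOKc [7, 10] 2 0 101685 = true := by
  refine tab.minOKc_of_chunks [7, 10] 2 0 6779 15 (by norm_num) ?_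
  intro i hi
  interval_cases i
  · exact chk_pow52_0_0
  · exact chk_pow52_0_1
  · exact chk_pow52_0_2
  · exact chk_pow52_0_3
  · exact chk_pow52_0_4
  · exact chk_pow52_0_5
  · exact chk_pow52_0_6
  · exact chk_pow52_0_7
  · exact chk_pow52_0_8
  · exact chk_pow52_0_9
  · exact chk_pow52_0_10
  · exact chk_pow52_0_11
  · exact chk_pow52_0_12
  · exact chk_pow52_0_13
  · exact chk_pow52_0_14

theorem chk_pow52_1_0 : tab.minOKc [7, 10] 2 101685 6779 = true := by decide +kernel

theorem chk_pow52_1_1 : tab.minOKc [7, 10] 2 108464 6779 = true := by decide +kernel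

theorem chk_pow52_1_2 : tab.minOKc [7, 10] 2 115243 6779 = true := by decide +kernel

theorem chk_pow52_1_3 : tab.minOKc [7, 10] 2 122022 6779 = true := by decide +kernel

theorem chk_pow52_1_4 : tab.minOKc [7, 10] 2 128801 6779 = true := by decide +kernel

theorem chk_pow52_1_5 : tab.minOKc [7, 10] 2 135580 6779 = true := by decide +kernel

theorem chk_pow52_1_6 : tab.minOKc [7, 10] 2 142359 6779 = true := by decide +kernel

theorem chk_pow52_1_7 : tab.minOKc [7, 10] 2 149138 6779 = true := by decide +kernel

theorem chk_pow52_1_8 : tab.minOKc [7, 10] 2 155917 6779 = true := by decide +kernel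

theorem chk_pow52_1_9 : tab.minOKc [7, 10] 2 162696 6779 = true := by decide +kernel

theorem chk_pow52_1_10 : tab.minOKc [7, 10] 2 169475 6779 = true := by decide +kernel

theorem chk_pow52_1_11 : tab.minOKc [7, 10] 2 176254 6779 = true := by decide +kernel

theorem chk_pow52_1_12 : tab.minOKc [7, 10] 2 183033 6779 = true := by decide +kernel

theorem chk_pow52_1_13 : tab.minOKc [7, 10] 2 189812 6779 = true := by decide +kernel

theorem chk_pow52_1_14 : tab.minOKc [7, 10] 2 196591 6779 = true := by decide +kernel

theorem chk_pow52_1 : tab.minOKc [7, 10] 2 101685 101685 = true := by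
  refine tab.minOKc_of_chunks [7, 10] 2 101685 6779 15 (by norm_num) ?_
  intro i hi
  interval_cases i
  · exact chk_pow52_1_0
  · exact chk_pow52_1_1
  · exact chk_pow52_1_2
  · exact chk_pow52_1_3
  · exact chk_pow52_1_4
  · exact chk_pow52_1_5
  · exact chk_pow52_1_6
  · exact chk_pow52_1_7
  · exact chk_pow52_1_8
  · exact chk_pow52_1_9
  · exact chk_pow52_1_10
  · exact chk_pow52_1_11
  · exact chk_pow52_1_12
  · exact chk_pow52_1_13
  · exact chk_pow52_1_14

end Cfsg.Agent.Lib.Helper6.Fi24TC
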