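import Cfsg.Agent.Lib.Helper6.Fi24TCData
import Cfsg.Agent.Lib.Helper6.TCRel3
import Cfsg.Agent.Lib.Helper6.Fi24TCRel10

/-! # Fi24: the kernel check of a part of the relators on the coset table -/

set_option autoImplicit false

namespace Cfsg.Agent.Lib.Helper6.Fi24TC

open Cfsg.Agent.Lib.Helper6.TC

theorem chk_pow11_0_0 : tab.minOKc [1, 5] 2 0 6675 = true := by decide +kernel

theorem chk_pow11_0_1 : tab.minOKc [1, 5] 2 6675 6675 = true := by decide +kernel

theorem chk_pow11_0_2 : tab.minOKc [1, 5] 2 13350 6675 = true := by decide +kernel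

theorem chk_pow11_0_3 : tab.minOKc [1, 5] 2 20025 6675 = true := by decide +kernel

theorem chk_pow11_0_4 : tab.minOKc [1, 5] 2 26700 6675 = true := by decide +kernel

theorem chk_pow11_0_5 : tab.minOKc [1, 5] 2 33375 6675 = true := by decide +kernel

theorem chk_pow11_0_6 : tab.minOKc [1, 5] 2 40050 6675 = true := by decide +kernel

theorem chk_pow11_0_7 : tab.minOKc [1, 5] 2 46725 6675 = true := by decide +kernel

theorem chk_pow11_0_8 : tab.minOKc [1, 5] 2 53400 6675 = true := by decide +kernel

theorem chk_pow11_0_9 : tab.minOKc [1, 5] 2 60075 6675 = true := by decide +kernel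

theorem chk_pow11_0_10 : tab.minOKc [1, 5] 2 66750 6675 = true := by decide +kernel

theorem chk_pow11_0_11 : tab.minOKc [1, 5] 2 73425 6675 = true := by decide +kernel

theorem chk_pow11_0_12 : tab.minOKc [1, 5] 2 80100 6675 = true := by decide +kernel

theorem chk_pow11_0_13 : tab.minOKc [1, 5] 2 86775 6675 = true := by decide +kernel

theorem chk_pow11_0_14 : tab.minOKc [1, 5] 2 93450 6675 = true := by decide +kernel

theorem chk_pow11_0 : tab.minOKc [1, 5] 2 0 100125 = true := by
  refine tab.minOKc_of_chunks [1, 5] 2 0 6675 15 (by norm_num) ?_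
  intro i hi
  interval_cases i
  · exact chk_pow11_0_0
  · exact chk_pow11_0_1
  · exact chk_pow11_0_2
  · exact chk_pow11_0_3
  · exact chk_pow11_0_4
  · exact chk_pow11_0_5
  · exact chk_pow11_0_6
  · exact chk_pow11_0_7
  · exact chk_pow11_0_8
  · exact chk_pow11_0_9
  · exact chk_pow11_0_10
  · exact chk_pow11_0_11
  · exact chk_pow11_0_12
  · exact chk_pow11_0_13
  · exact chk_pow11_0_14

theorem chk_pow11_1_0 : tab.minOKc [1, 5] 2 100125 6675 = true := by decide +kernel

theorem chk_pow11_1_1 : tab.minOKc [1, 5] 2 106800 6675 = true := by decide +kernel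

theorem chk_pow11_1_2 : tab.minOKc [1, 5] 2 113475 6675 = true := by decide +kernel

theorem chk_pow11_1_3 : tab.minOKc [1, 5] 2 120150 6675 = true := by decide +kernel

theorem chk_pow11_1_4 : tab.minOKc [1, 5] 2 126825 6675 = true := by decide +kernel

theorem chk_pow11_1_5 : tab.minOKc [1, 5] 2 133500 6675 = true := by decide +kernel

theorem chk_pow11_1_6 : tab.minOKc [1, 5] 2 140175 6675 = true := by decide +kernel

theorem chk_pow11_1_7 : tab.minOKc [1, 5] 2 146850 6675 = true := by decide +kernel

theorem chk_pow11_1_8 : tab.minOKc [1, 5] 2 153525 6675 = true := by decide +kernel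

theorem chk_pow11_1_9 : tab.minOKc [1, 5] 2 160200 6675 = true := by decide +kernel

theorem chk_pow11_1_10 : tab.minOKc [1, 5] 2 166875 6675 = true := by decide +kernel

theorem chk_pow11_1_11 : tab.minOKc [1, 5] 2 173550 6675 = true := by decide +kernel

theorem chk_pow11_1_12 : tab.minOKc [1, 5] 2 180225 6675 = true := by decide +kernel

theorem chk_pow11_1_13 : tab.minOKc [1, 5] 2 186900 6675 = true := by decide +kernel

theorem chk_pow11_1_14 : tab.minOKc [1, 5] 2 193575 6675 = true := by decide +kernel

theorem chk_pow11_1 : tab.minOKc [1, 5] 2 100125 100125 = true := by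
  refine tab.minOKc_of_chunks [1, 5] 2 100125 6675 15 (by norm_num) ?_
  intro i hi
  interval_cases i
  · exact chk_pow11_1_0
  · exact chk_pow11_1_1
  · exact chk_pow11_1_2
  · exact chk_pow11_1_3
  · exact chk_pow11_1_4
  · exact chk_pow11_1_5
  · exact chk_pow11_1_6
  · exact chk_pow11_1_7
  · exact chk_pow11_1_8
  · exact chk_pow11_1_9
  · exact chk_pow11_1_10
  · exact chk_pow11_1_11
  · exact chk_pow11_1_12
  · exact chk_pow11_1_13
  · exact chk_pow11_1_14

end Cfsg.Agent.Lib.Helper6.Fi24TC
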