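import Cfsg.Agent.Lib.Helper6.Fi24TCData
import Cfsg.Agent.Lib.Helper6.TCRel3
import Cfsg.Agent.Lib.Helper6.Fi24TCRel22

/-! # Fi24: the kernel check of a part of the relators on the coset table -/

set_option autoImplicit false

namespace Cfsg.Agent.Lib.Helper6.Fi24TC

open Cfsg.Agent.Lib.Helper6.TC

theorem chk_pow17_0_0 : tab.minOKc [2, 6] 2 0 6709 = true := by decide +kernel

theorem chk_pow17_0_1 : tab.minOKc [2, 6] 2 6709 6709 = true := by decide +kernel

theorem chk_pow17_0_2 : tab.minOKc [2, 6] 2 13418 6709 = true := by decide +kernel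

theorem chk_pow17_0_3 : tab.minOKc [2, 6] 2 20127 6709 = true := by decide +kernel

theorem chk_pow17_0_4 : tab.minOKc [2, 6] 2 26836 6709 = true := by decide +kernel

theorem chk_pow17_0_5 : tab.minOKc [2, 6] 2 33545 6709 = true := by decide +kernel

theorem chk_pow17_0_6 : tab.minOKc [2, 6] 2 40254 6709 = true := by decide +kernel

theorem chk_pow17_0_7 : tab.minOKc [2, 6] 2 46963 6709 = true := by decide +kernel

theorem chk_pow17_0_8 : tab.minOKc [2, 6] 2 53672 6709 = true := by decide +kernel

theorem chk_pow17_0_9 : tab.minOKc [2, 6] 2 60381 6709 = true := by decide +kernel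

theorem chk_pow17_0_10 : tab.minOKc [2, 6] 2 67090 6709 = true := by decide +kernel

theorem chk_pow17_0_11 : tab.minOKc [2, 6] 2 73799 6709 = true := by decide +kernel

theorem chk_pow17_0_12 : tab.minOKc [2, 6] 2 80508 6709 = true := by decide +kernel

theorem chk_pow17_0_13 : tab.minOKc [2, 6] 2 87217 6709 = true := by decide +kernel

theorem chk_pow17_0_14 : tab.minOKc [2, 6] 2 93926 6709 = true := by decide +kernel

theorem chk_pow17_0 : tab.minOKc [2, 6] 2 0 100635 = true := by
  refine tab.minOKc_of_chunks [2, 6] 2 0 6709 15 (by norm_num) ?_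
  intro i hi
  interval_cases i
  · exact chk_pow17_0_0
  · exact chk_pow17_0_1
  · exact chk_pow17_0_2
  · exact chk_pow17_0_3
  · exact chk_pow17_0_4
  · exact chk_pow17_0_5
  · exact chk_pow17_0_6
  · exact chk_pow17_0_7
  · exact chk_pow17_0_8
  · exact chk_pow17_0_9
  · exact chk_pow17_0_10
  · exact chk_pow17_0_11
  · exact chk_pow17_0_12
  · exact chk_pow17_0_13
  · exact chk_pow17_0_14

theorem chk_pow17_1_0 : tab.minOKc [2, 6] 2 100635 6709 = true := by decide +kernel

theorem chk_pow17_1_1 : tab.minOKc [2, 6] 2 107344 6709 = true := by decide +kernel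

theorem chk_pow17_1_2 : tab.minOKc [2, 6] 2 114053 6709 = true := by decide +kernel

theorem chk_pow17_1_3 : tab.minOKc [2, 6] 2 120762 6709 = true := by decide +kernel

theorem chk_pow17_1_4 : tab.minOKc [2, 6] 2 127471 6709 = true := by decide +kernel

theorem chk_pow17_1_5 : tab.minOKc [2, 6] 2 134180 6709 = true := by decide +kernel

theorem chk_pow17_1_6 : tab.minOKc [2, 6] 2 140889 6709 = true := by decide +kernel

theorem chk_pow17_1_7 : tab.minOKc [2, 6] 2 147598 6709 = true := by decide +kernel

theorem chk_pow17_1_8 : tab.minOKc [2, 6] 2 154307 6709 = true := by decide +kernel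

theorem chk_pow17_1_9 : tab.minOKc [2, 6] 2 161016 6709 = true := by decide +kernel

theorem chk_pow17_1_10 : tab.minOKc [2, 6] 2 167725 6709 = true := by decide +kernel

theorem chk_pow17_1_11 : tab.minOKc [2, 6] 2 174434 6709 = true := by decide +kernel

theorem chk_pow17_1_12 : tab.minOKc [2, 6] 2 181143 6709 = true := by decide +kernel

theorem chk_pow17_1_13 : tab.minOKc [2, 6] 2 187852 6709 = true := by decide +kernel

theorem chk_pow17_1_14 : tab.minOKc [2, 6] 2 194561 6709 = true := by decide +kernel

theorem chk_pow17_1 : tab.minOKc [2, 6] 2 100635 100635 = true := by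
  refine tab.minOKc_of_chunks [2, 6] 2 100635 6709 15 (by norm_num) ?_
  intro i hi
  interval_cases i
  · exact chk_pow17_1_0
  · exact chk_pow17_1_1
  · exact chk_pow17_1_2
  · exact chk_pow17_1_3
  · exact chk_pow17_1_4
  · exact chk_pow17_1_5
  · exact chk_pow17_1_6
  · exact chk_pow17_1_7
  · exact chk_pow17_1_8
  · exact chk_pow17_1_9
  · exact chk_pow17_1_10
  · exact chk_pow17_1_11
  · exact chk_pow17_1_12
  · exact chk_pow17_1_13
  · exact chk_pow17_1_14

end Cfsg.Agent.Lib.Helper6.Fi24TC
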