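import Cfsg.Agent.Lib.Helper6.Fi24TCData
import Cfsg.Agent.Lib.Helper6.TCRel3
import Cfsg.Agent.Lib.Helper6.Fi24TCRel46

/-! # Fi24: the kernel check of a part of the relators on the coset table -/

set_option autoImplicit false

namespace Cfsg.Agent.Lib.Helper6.Fi24TC

open Cfsg.Agent.Lib.Helper6.TC

theorem chk_pow29_0_0 : tab.minOKc [1, 8] 2 0 6665 = true := by decide +kernel

theorem chk_pow29_0_1 : tab.minOKc [1, 8] 2 6665 6665 = true := by decide +kernel

theorem chk_pow29_0_2 : tab.minOKc [1, 8] 2 13330 6665 = true := by decide +kernel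

theorem chk_pow29_0_3 : tab.minOKc [1, 8] 2 19995 6665 = true := by decide +kernel

theorem chk_pow29_0_4 : tab.minOKc [1, 8] 2 26660 6665 = true := by decide +kernel

theorem chk_pow29_0_5 : tab.minOKc [1, 8] 2 33325 6665 = true := by decide +kernel

theorem chk_pow29_0_6 : tab.minOKc [1, 8] 2 39990 6665 = true := by decide +kernel

theorem chk_pow29_0_7 : tab.minOKc [1, 8] 2 46655 6665 = true := by decide +kernel

theorem chk_pow29_0_8 : tab.minOKc [1, 8] 2 53320 6665 = true := by decide +kernel

theorem chk_pow29_0_9 : tab.minOKc [1, 8] 2 59985 6665 = true := by decide +kernel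

theorem chk_pow29_0_10 : tab.minOKc [1, 8] 2 66650 6665 = true := by decide +kernel

theorem chk_pow29_0_11 : tab.minOKc [1, 8] 2 73315 6665 = true := by decide +kernel

theorem chk_pow29_0_12 : tab.minOKc [1, 8] 2 79980 6665 = true := by decide +kernel

theorem chk_pow29_0_13 : tab.minOKc [1, 8] 2 86645 6665 = true := by decide +kernel

theorem chk_pow29_0_14 : tab.minOKc [1, 8] 2 93310 6665 = true := by decide +kernel

theorem chk_pow29_0 : tab.minOKc [1, 8] 2 0 99975 = true := by
  refine tab.minOKc_of_chunks [1, 8] 2 0 6665 15 (by norm_num) ?_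
  intro i hi
  interval_cases i
  · exact chk_pow29_0_0
  · exact chk_pow29_0_1
  · exact chk_pow29_0_2
  · exact chk_pow29_0_3
  · exact chk_pow29_0_4
  · exact chk_pow29_0_5
  · exact chk_pow29_0_6
  · exact chk_pow29_0_7
  · exact chk_pow29_0_8
  · exact chk_pow29_0_9
  · exact chk_pow29_0_10
  · exact chk_pow29_0_11
  · exact chk_pow29_0_12
  · exact chk_pow29_0_13
  · exact chk_pow29_0_14

theorem chk_pow29_1_0 : tab.minOKc [1, 8] 2 99975 6665 = true := by decide +kernel

theorem chk_pow29_1_1 : tab.minOKc [1, 8] 2 106640 6665 = true := by decide +kernel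

theorem chk_pow29_1_2 : tab.minOKc [1, 8] 2 113305 6665 = true := by decide +kernel

theorem chk_pow29_1_3 : tab.minOKc [1, 8] 2 119970 6665 = true := by decide +kernel

theorem chk_pow29_1_4 : tab.minOKc [1, 8] 2 126635 6665 = true := by decide +kernel

theorem chk_pow29_1_5 : tab.minOKc [1, 8] 2 133300 6665 = true := by decide +kernel

theorem chk_pow29_1_6 : tab.minOKc [1, 8] 2 139965 6665 = true := by decide +kernel

theorem chk_pow29_1_7 : tab.minOKc [1, 8] 2 146630 6665 = true := by decide +kernel

theorem chk_pow29_1_8 : tab.minOKc [1, 8] 2 153295 6665 = true := by decide +kernel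

theorem chk_pow29_1_9 : tab.minOKc [1, 8] 2 159960 6665 = true := by decide +kernel

theorem chk_pow29_1_10 : tab.minOKc [1, 8] 2 166625 6665 = true := by decide +kernel

theorem chk_pow29_1_11 : tab.minOKc [1, 8] 2 173290 6665 = true := by decide +kernel

theorem chk_pow29_1_12 : tab.minOKc [1, 8] 2 179955 6665 = true := by decide +kernel

theorem chk_pow29_1_13 : tab.minOKc [1, 8] 2 186620 6665 = true := by decide +kernel

theorem chk_pow29_1_14 : tab.minOKc [1, 8] 2 193285 6665 = true := by decide +kernel

theorem chk_pow29_1 : tab.minOKc [1, 8] 2 99975 99975 = true := by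
  refine tab.minOKc_of_chunks [1, 8] 2 99975 6665 15 (by norm_num) ?_
  intro i hi
  interval_cases i
  · exact chk_pow29_1_0
  · exact chk_pow29_1_1
  · exact chk_pow29_1_2
  · exact chk_pow29_1_3
  · exact chk_pow29_1_4
  · exact chk_pow29_1_5
  · exact chk_pow29_1_6
  · exact chk_pow29_1_7
  · exact chk_pow29_1_8
  · exact chk_pow29_1_9
  · exact chk_pow29_1_10
  · exact chk_pow29_1_11
  · exact chk_pow29_1_12
  · exact chk_pow29_1_13
  · exact chk_pow29_1_14

end Cfsg.Agent.Lib.Helper6.Fi24TC
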