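import Cfsg.Agent.Lib.Helper6.Fi24TCData
import Cfsg.Agent.Lib.Helper6.TCRel3
import Cfsg.Agent.Lib.Helper6.Fi24TCRel58

/-! # Fi24: the kernel check of a part of the relators on the coset table -/

set_option autoImplicit false

namespace Cfsg.Agent.Lib.Helper6.Fi24TC

open Cfsg.Agent.Lib.Helper6.TC

theorem chk_pow35_0_0 : tab.minOKc [7, 8] 3 0 5603 = true := by decide +kernel

theorem chk_pow35_0_1 : tab.minOKc [7, 8] 3 5603 5603 = true := by decide +kernel

theorem chk_pow35_0_2 : tab.minOKc [7, 8] 3 11206 5603 = true := by decide +kernel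

theorem chk_pow35_0_3 : tab.minOKc [7, 8] 3 16809 5603 = true := by decide +kernel

theorem chk_pow35_0_4 : tab.minOKc [7, 8] 3 22412 5603 = true := by decide +kernel

theorem chk_pow35_0_5 : tab.minOKc [7, 8] 3 28015 5603 = true := by decide +kernel

theorem chk_pow35_0_6 : tab.minOKc [7, 8] 3 33618 5603 = true := by decide +kernel

theorem chk_pow35_0_7 : tab.minOKc [7, 8] 3 39221 5603 = true := by decide +kernel

theorem chk_pow35_0_8 : tab.minOKc [7, 8] 3 44824 5603 = true := by decide +kernel

theorem chk_pow35_0_9 : tab.minOKc [7, 8] 3 50427 5603 = true := by decide +kernel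

theorem chk_pow35_0_10 : tab.minOKc [7, 8] 3 56030 5603 = true := by decide +kernel

theorem chk_pow35_0_11 : tab.minOKc [7, 8] 3 61633 5603 = true := by decide +kernel

theorem chk_pow35_0_12 : tab.minOKc [7, 8] 3 67236 5603 = true := by decide +kernel

theorem chk_pow35_0_13 : tab.minOKc [7, 8] 3 72839 5603 = true := by decide +kernel

theorem chk_pow35_0_14 : tab.minOKc [7, 8] 3 78442 5603 = true := by decide +kernel

theorem chk_pow35_0 : tab.minOKc [7, 8] 3 0 84045 = true := by
  refine tab.minOKc_of_chunks [7, 8] 3 0 5603 15 (by norm_num) ?_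
  intro i hi
  interval_cases i
  · exact chk_pow35_0_0
  · exact chk_pow35_0_1
  · exact chk_pow35_0_2
  · exact chk_pow35_0_3
  · exact chk_pow35_0_4
  · exact chk_pow35_0_5
  · exact chk_pow35_0_6
  · exact chk_pow35_0_7
  · exact chk_pow35_0_8
  · exact chk_pow35_0_9
  · exact chk_pow35_0_10
  · exact chk_pow35_0_11
  · exact chk_pow35_0_12
  · exact chk_pow35_0_13
  · exact chk_pow35_0_14

theorem chk_pow35_1_0 : tab.minOKc [7, 8] 3 84045 5603 = true := by decide +kernel

theorem chk_pow35_1_1 : tab.minOKc [7, 8] 3 89648 5603 = true := by decide +kernel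

theorem chk_pow35_1_2 : tab.minOKc [7, 8] 3 95251 5603 = true := by decide +kernel

theorem chk_pow35_1_3 : tab.minOKc [7, 8] 3 100854 5603 = true := by decide +kernel

theorem chk_pow35_1_4 : tab.minOKc [7, 8] 3 106457 5603 = true := by decide +kernel

theorem chk_pow35_1_5 : tab.minOKc [7, 8] 3 112060 5603 = true := by decide +kernel

theorem chk_pow35_1_6 : tab.minOKc [7, 8] 3 117663 5603 = true := by decide +kernel

theorem chk_pow35_1_7 : tab.minOKc [7, 8] 3 123266 5603 = true := by decide +kernel

theorem chk_pow35_1_8 : tab.minOKc [7, 8] 3 128869 5603 = true := by decide +kernel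

theorem chk_pow35_1_9 : tab.minOKc [7, 8] 3 134472 5603 = true := by decide +kernel

theorem chk_pow35_1_10 : tab.minOKc [7, 8] 3 140075 5603 = true := by decide +kernel

theorem chk_pow35_1_11 : tab.minOKc [7, 8] 3 145678 5603 = true := by decide +kernel

theorem chk_pow35_1_12 : tab.minOKc [7, 8] 3 151281 5603 = true := by decide +kernel

theorem chk_pow35_1_13 : tab.minOKc [7, 8] 3 156884 5603 = true := by decide +kernel

theorem chk_pow35_1_14 : tab.minOKc [7, 8] 3 162487 5603 = true := by decide +kernel

theorem chk_pow35_1 : tab.minOKc [7, 8] 3 84045 84045 = true := by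
  refine tab.minOKc_of_chunks [7, 8] 3 84045 5603 15 (by norm_num) ?_
  intro i hi
  interval_cases i
  · exact chk_pow35_1_0
  · exact chk_pow35_1_1
  · exact chk_pow35_1_2
  · exact chk_pow35_1_3
  · exact chk_pow35_1_4
  · exact chk_pow35_1_5
  · exact chk_pow35_1_6
  · exact chk_pow35_1_7
  · exact chk_pow35_1_8
  · exact chk_pow35_1_9
  · exact chk_pow35_1_10
  · exact chk_pow35_1_11
  · exact chk_pow35_1_12
  · exact chk_pow35_1_13
  · exact chk_pow35_1_14

end Cfsg.Agent.Lib.Helper6.Fi24TC
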