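import Cfsg.Agent.Lib.Helper6.Fi24TCData
import Cfsg.Agent.Lib.Helper6.TCRel3
import Cfsg.Agent.Lib.Helper6.Fi24TCRel70

/-! # Fi24: the kernel check of a part of the relators on the coset table -/

set_option autoImplicit false

namespace Cfsg.Agent.Lib.Helper6.Fi24TC

open Cfsg.Agent.Lib.Helper6.TC

theorem chk_pow41_0_0 : tab.minOKc [5, 9] 2 0 6622 = true := by decide +kernel

theorem chk_pow41_0_1 : tab.minOKc [5, 9] 2 6622 6622 = true := by decide +kernel

theorem chk_pow41_0_2 : tab.minOKc [5, 9] 2 13244 6622 = true := by decide +kernel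

theorem chk_pow41_0_3 : tab.minOKc [5, 9] 2 19866 6622 = true := by decide +kernel

theorem chk_pow41_0_4 : tab.minOKc [5, 9] 2 26488 6622 = true := by decide +kernel

theorem chk_pow41_0_5 : tab.minOKc [5, 9] 2 33110 6622 = true := by decide +kernel

theorem chk_pow41_0_6 : tab.minOKc [5, 9] 2 39732 6622 = true := by decide +kernel

theorem chk_pow41_0_7 : tab.minOKc [5, 9] 2 46354 6622 = true := by decide +kernel

theorem chk_pow41_0_8 : tab.minOKc [5, 9] 2 52976 6622 = true := by decide +kernel

theorem chk_pow41_0_9 : tab.minOKc [5, 9] 2 59598 6622 = true := by decide +kernel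

theorem chk_pow41_0_10 : tab.minOKc [5, 9] 2 66220 6622 = true := by decide +kernel

theorem chk_pow41_0_11 : tab.minOKc [5, 9] 2 72842 6622 = true := by decide +kernel

theorem chk_pow41_0_12 : tab.minOKc [5, 9] 2 79464 6622 = true := by decide +kernel

theorem chk_pow41_0_13 : tab.minOKc [5, 9] 2 86086 6622 = true := by decide +kernel

theorem chk_pow41_0_14 : tab.minOKc [5, 9] 2 92708 6622 = true := by decide +kernel

theorem chk_pow41_0 : tab.minOKc [5, 9] 2 0 99330 = true := by
  refine tab.minOKc_of_chunks [5, 9] 2 0 6622 15 (by norm_num) ?_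
  intro i hi
  interval_cases i
  · exact chk_pow41_0_0
  · exact chk_pow41_0_1
  · exact chk_pow41_0_2
  · exact chk_pow41_0_3
  · exact chk_pow41_0_4
  · exact chk_pow41_0_5
  · exact chk_pow41_0_6
  · exact chk_pow41_0_7
  · exact chk_pow41_0_8
  · exact chk_pow41_0_9
  · exact chk_pow41_0_10
  · exact chk_pow41_0_11
  · exact chk_pow41_0_12
  · exact chk_pow41_0_13
  · exact chk_pow41_0_14

theorem chk_pow41_1_0 : tab.minOKc [5, 9] 2 99330 6622 = true := by decide +kernel

theorem chk_pow41_1_1 : tab.minOKc [5, 9] 2 105952 6622 = true := by decide +kernel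

theorem chk_pow41_1_2 : tab.minOKc [5, 9] 2 112574 6622 = true := by decide +kernel

theorem chk_pow41_1_3 : tab.minOKc [5, 9] 2 119196 6622 = true := by decide +kernel

theorem chk_pow41_1_4 : tab.minOKc [5, 9] 2 125818 6622 = true := by decide +kernel

theorem chk_pow41_1_5 : tab.minOKc [5, 9] 2 132440 6622 = true := by decide +kernel

theorem chk_pow41_1_6 : tab.minOKc [5, 9] 2 139062 6622 = true := by decide +kernel

theorem chk_pow41_1_7 : tab.minOKc [5, 9] 2 145684 6622 = true := by decide +kernel

theorem chk_pow41_1_8 : tab.minOKc [5, 9] 2 152306 6622 = true := by decide +kernel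

theorem chk_pow41_1_9 : tab.minOKc [5, 9] 2 158928 6622 = true := by decide +kernel

theorem chk_pow41_1_10 : tab.minOKc [5, 9] 2 165550 6622 = true := by decide +kernel

theorem chk_pow41_1_11 : tab.minOKc [5, 9] 2 172172 6622 = true := by decide +kernel

theorem chk_pow41_1_12 : tab.minOKc [5, 9] 2 178794 6622 = true := by decide +kernel

theorem chk_pow41_1_13 : tab.minOKc [5, 9] 2 185416 6622 = true := by decide +kernel

theorem chk_pow41_1_14 : tab.minOKc [5, 9] 2 192038 6622 = true := by decide +kernel

theorem chk_pow41_1 : tab.minOKc [5, 9] 2 99330 99330 = true := by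
  refine tab.minOKc_of_chunks [5, 9] 2 99330 6622 15 (by norm_num) ?_
  intro i hi
  interval_cases i
  · exact chk_pow41_1_0
  · exact chk_pow41_1_1
  · exact chk_pow41_1_2
  · exact chk_pow41_1_3
  · exact chk_pow41_1_4
  · exact chk_pow41_1_5
  · exact chk_pow41_1_6
  · exact chk_pow41_1_7
  · exact chk_pow41_1_8
  · exact chk_pow41_1_9
  · exact chk_pow41_1_10
  · exact chk_pow41_1_11
  · exact chk_pow41_1_12
  · exact chk_pow41_1_13
  · exact chk_pow41_1_14

end Cfsg.Agent.Lib.Helper6.Fi24TC
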