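import Cfsg.Agent.Lib.Helper6.Fi24TCData
import Cfsg.Agent.Lib.Helper6.TCRel3
import Cfsg.Agent.Lib.Helper6.Fi24TCRel82

/-! # Fi24: the kernel check of a part of the relators on the coset table -/

set_option autoImplicit false

namespace Cfsg.Agent.Lib.Helper6.Fi24TC

open Cfsg.Agent.Lib.Helper6.TC

theorem chk_pow47_0_0 : tab.minOKc [2, 10] 2 0 6732 = true := by decide +kernel

theorem chk_pow47_0_1 : tab.minOKc [2, 10] 2 6732 6732 = true := by decide +kernel

theorem chk_pow47_0_2 : tab.minOKc [2, 10] 2 13464 6732 = true := by decide +kernel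

theorem chk_pow47_0_3 : tab.minOKc [2, 10] 2 20196 6732 = true := by decide +kernel

theorem chk_pow47_0_4 : tab.minOKc [2, 10] 2 26928 6732 = true := by decide +kernel

theorem chk_pow47_0_5 : tab.minOKc [2, 10] 2 33660 6732 = true := by decide +kernel

theorem chk_pow47_0_6 : tab.minOKc [2, 10] 2 40392 6732 = true := by decide +kernel

theorem chk_pow47_0_7 : tab.minOKc [2, 10] 2 47124 6732 = true := by decide +kernel

theorem chk_pow47_0_8 : tab.minOKc [2, 10] 2 53856 6732 = true := by decide +kernel

theorem chk_pow47_0_9 : tab.minOKc [2, 10] 2 60588 6732 = true := by decide +kernel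

theorem chk_pow47_0_10 : tab.minOKc [2, 10] 2 67320 6732 = true := by decide +kernel

theorem chk_pow47_0_11 : tab.minOKc [2, 10] 2 74052 6732 = true := by decide +kernel

theorem chk_pow47_0_12 : tab.minOKc [2, 10] 2 80784 6732 = true := by decide +kernel

theorem chk_pow47_0_13 : tab.minOKc [2, 10] 2 87516 6732 = true := by decide +kernel

theorem chk_pow47_0_14 : tab.minOKc [2, 10] 2 94248 6732 = true := by decide +kernel

theorem chk_pow47_0 : tab.minOKc [2, 10] 2 0 100980 = true := by
  refine tab.minOKc_of_chunks [2, 10] 2 0 6732 15 (by norm_num) ?_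
  intro i hi
  interval_cases i
  · exact chk_pow47_0_0
  · exact chk_pow47_0_1
  · exact chk_pow47_0_2
  · exact chk_pow47_0_3
  · exact chk_pow47_0_4
  · exact chk_pow47_0_5
  · exact chk_pow47_0_6
  · exact chk_pow47_0_7
  · exact chk_pow47_0_8
  · exact chk_pow47_0_9
  · exact chk_pow47_0_10
  · exact chk_pow47_0_11
  · exact chk_pow47_0_12
  · exact chk_pow47_0_13
  · exact chk_pow47_0_14

theorem chk_pow47_1_0 : tab.minOKc [2, 10] 2 100980 6732 = true := by decide +kernel

theorem chk_pow47_1_1 : tab.minOKc [2, 10] 2 107712 6732 = true := by decide +kernel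

theorem chk_pow47_1_2 : tab.minOKc [2, 10] 2 114444 6732 = true := by decide +kernel

theorem chk_pow47_1_3 : tab.minOKc [2, 10] 2 121176 6732 = true := by decide +kernel

theorem chk_pow47_1_4 : tab.minOKc [2, 10] 2 127908 6732 = true := by decide +kernel

theorem chk_pow47_1_5 : tab.minOKc [2, 10] 2 134640 6732 = true := by decide +kernel

theorem chk_pow47_1_6 : tab.minOKc [2, 10] 2 141372 6732 = true := by decide +kernel

theorem chk_pow47_1_7 : tab.minOKc [2, 10] 2 148104 6732 = true := by decide +kernel

theorem chk_pow47_1_8 : tab.minOKc [2, 10] 2 154836 6732 = true := by decide +kernel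

theorem chk_pow47_1_9 : tab.minOKc [2, 10] 2 161568 6732 = true := by decide +kernel

theorem chk_pow47_1_10 : tab.minOKc [2, 10] 2 168300 6732 = true := by decide +kernel

theorem chk_pow47_1_11 : tab.minOKc [2, 10] 2 175032 6732 = true := by decide +kernel

theorem chk_pow47_1_12 : tab.minOKc [2, 10] 2 181764 6732 = true := by decide +kernel

theorem chk_pow47_1_13 : tab.minOKc [2, 10] 2 188496 6732 = true := by decide +kernel

theorem chk_pow47_1_14 : tab.minOKc [2, 10] 2 195228 6732 = true := by decide +kernel

theorem chk_pow47_1 : tab.minOKc [2, 10] 2 100980 100980 = true := by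
  refine tab.minOKc_of_chunks [2, 10] 2 100980 6732 15 (by norm_num) ?_
  intro i hi
  interval_cases i
  · exact chk_pow47_1_0
  · exact chk_pow47_1_1
  · exact chk_pow47_1_2
  · exact chk_pow47_1_3
  · exact chk_pow47_1_4
  · exact chk_pow47_1_5
  · exact chk_pow47_1_6
  · exact chk_pow47_1_7
  · exact chk_pow47_1_8
  · exact chk_pow47_1_9
  · exact chk_pow47_1_10
  · exact chk_pow47_1_11
  · exact chk_pow47_1_12
  · exact chk_pow47_1_13
  · exact chk_pow47_1_14

end Cfsg.Agent.Lib.Helper6.Fi24TC
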