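import Cfsg.Agent.Lib.Helper6.Fi24TCData
import Cfsg.Agent.Lib.Helper6.TCRel3
import Cfsg.Agent.Lib.Helper6.Fi24TCRel94

/-! # Fi24: the kernel check of a part of the relators on the coset table -/

set_option autoImplicit false

namespace Cfsg.Agent.Lib.Helper6.Fi24TC

open Cfsg.Agent.Lib.Helper6.TC

theorem chk_pow53_0_0 : tab.minOKc [8, 10] 2 0 6733 = true := by decide +kernel

theorem chk_pow53_0_1 : tab.minOKc [8, 10] 2 6733 6733 = true := by decide +kernel

theorem chk_pow53_0_2 : tab.minOKc [8, 10] 2 13466 6733 = true := by decide +kernel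

theorem chk_pow53_0_3 : tab.minOKc [8, 10] 2 20199 6733 = true := by decide +kernel

theorem chk_pow53_0_4 : tab.minOKc [8, 10] 2 26932 6733 = true := by decide +kernel

theorem chk_pow53_0_5 : tab.minOKc [8, 10] 2 33665 6733 = true := by decide +kernel

theorem chk_pow53_0_6 : tab.minOKc [8, 10] 2 40398 6733 = true := by decide +kernel

theorem chk_pow53_0_7 : tab.minOKc [8, 10] 2 47131 6733 = true := by decide +kernel

theorem chk_pow53_0_8 : tab.minOKc [8, 10] 2 53864 6733 = true := by decide +kernel

theorem chk_pow53_0_9 : tab.minOKc [8, 10] 2 60597 6733 = true := by decide +kernel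

theorem chk_pow53_0_10 : tab.minOKc [8, 10] 2 67330 6733 = true := by decide +kernel

theorem chk_pow53_0_11 : tab.minOKc [8, 10] 2 74063 6733 = true := by decide +kernel

theorem chk_pow53_0_12 : tab.minOKc [8, 10] 2 80796 6733 = true := by decide +kernel

theorem chk_pow53_0_13 : tab.minOKc [8, 10] 2 87529 6733 = true := by decide +kernel

theorem chk_pow53_0_14 : tab.minOKc [8, 10] 2 94262 6733 = true := by decide +kernel

theorem chk_pow53_0 : tab.minOKc [8, 10] 2 0 100995 = true := by
  refine tab.minOKc_of_chunks [8, 10] 2 0 6733 15 (by norm_num) ?_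
  intro i hi
  interval_cases i
  · exact chk_pow53_0_0
  · exact chk_pow53_0_1
  · exact chk_pow53_0_2
  · exact chk_pow53_0_3
  · exact chk_pow53_0_4
  · exact chk_pow53_0_5
  · exact chk_pow53_0_6
  · exact chk_pow53_0_7
  · exact chk_pow53_0_8
  · exact chk_pow53_0_9
  · exact chk_pow53_0_10
  · exact chk_pow53_0_11
  · exact chk_pow53_0_12
  · exact chk_pow53_0_13
  · exact chk_pow53_0_14

theorem chk_pow53_1_0 : tab.minOKc [8, 10] 2 100995 6733 = true := by decide +kernel

theorem chk_pow53_1_1 : tab.minOKc [8, 10] 2 107728 6733 = true := by decide +kernel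

theorem chk_pow53_1_2 : tab.minOKc [8, 10] 2 114461 6733 = true := by decide +kernel

theorem chk_pow53_1_3 : tab.minOKc [8, 10] 2 121194 6733 = true := by decide +kernel

theorem chk_pow53_1_4 : tab.minOKc [8, 10] 2 127927 6733 = true := by decide +kernel

theorem chk_pow53_1_5 : tab.minOKc [8, 10] 2 134660 6733 = true := by decide +kernel

theorem chk_pow53_1_6 : tab.minOKc [8, 10] 2 141393 6733 = true := by decide +kernel

theorem chk_pow53_1_7 : tab.minOKc [8, 10] 2 148126 6733 = true := by decide +kernel

theorem chk_pow53_1_8 : tab.minOKc [8, 10] 2 154859 6733 = true := by decide +kernel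

theorem chk_pow53_1_9 : tab.minOKc [8, 10] 2 161592 6733 = true := by decide +kernel

theorem chk_pow53_1_10 : tab.minOKc [8, 10] 2 168325 6733 = true := by decide +kernel

theorem chk_pow53_1_11 : tab.minOKc [8, 10] 2 175058 6733 = true := by decide +kernel

theorem chk_pow53_1_12 : tab.minOKc [8, 10] 2 181791 6733 = true := by decide +kernel

theorem chk_pow53_1_13 : tab.minOKc [8, 10] 2 188524 6733 = true := by decide +kernel

theorem chk_pow53_1_14 : tab.minOKc [8, 10] 2 195257 6733 = true := by decide +kernel

theorem chk_pow53_1 : tab.minOKc [8, 10] 2 100995 100995 = true := by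
  refine tab.minOKc_of_chunks [8, 10] 2 100995 6733 15 (by norm_num) ?_
  intro i hi
  interval_cases i
  · exact chk_pow53_1_0
  · exact chk_pow53_1_1
  · exact chk_pow53_1_2
  · exact chk_pow53_1_3
  · exact chk_pow53_1_4
  · exact chk_pow53_1_5
  · exact chk_pow53_1_6
  · exact chk_pow53_1_7
  · exact chk_pow53_1_8
  · exact chk_pow53_1_9
  · exact chk_pow53_1_10
  · exact chk_pow53_1_11
  · exact chk_pow53_1_12
  · exact chk_pow53_1_13
  · exact chk_pow53_1_14

end Cfsg.Agent.Lib.Helper6.Fi24TC
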