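import Cfsg.Agent.Lib.Helper6.Fi24SCert
import Cfsg.Agent.Lib.Helper6.Fi24SRows5

/-! # Fi24: the kernel check of the rows from 135192 on -/

set_option autoImplicit false

namespace Cfsg.Agent.Lib.Helper6.Fi24TC

open Cfsg.Agent.Lib.Helper6.TC Cfsg.Agent.Lib.Helper6.TCS

theorem chk_rows17_0 : cert.rowsOK 135192 293 = true := by decide +kernel

theorem chk_rows17_1 : cert.rowsOK 135485 293 = true := by decide +kernel

theorem chk_rows17_2 : cert.rowsOK 135778 293 = true := by decide +kernel

theorem chk_rows17_3 : cert.rowsOK 136071 293 = true := by decide +kernel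

theorem chk_rows17_4 : cert.rowsOK 136364 293 = true := by decide +kernel

theorem chk_rows17_5 : cert.rowsOK 136657 293 = true := by decide +kernel

theorem chk_rows17_6 : cert.rowsOK 136950 293 = true := by decide +kernel

theorem chk_rows17_7 : cert.rowsOK 137243 293 = true := by decide +kernel

theorem chk_rows17_8 : cert.rowsOK 137536 293 = true := by decide +kernel

theorem chk_rows17_9 : cert.rowsOK 137829 293 = true := by decide +kernel

theorem chk_rows17_10 : cert.rowsOK 138122 293 = true := by decide +kernel

theorem chk_rows17_11 : cert.rowsOK 138415 293 = true := by decide +kernel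

theorem chk_rows17_12 : cert.rowsOK 138708 293 = true := by decide +kernel

theorem chk_rows17_13 : cert.rowsOK 139001 293 = true := by decide +kernel

theorem chk_rows17_14 : cert.rowsOK 139294 293 = true := by decide +kernel

theorem chk_rows17_15 : cert.rowsOK 139587 293 = true := by decide +kernel

theorem chk_rows17_16 : cert.rowsOK 139880 293 = true := by decide +kernel

theorem chk_rows17_17 : cert.rowsOK 140173 293 = true := by decide +kernel

theorem chk_rows17_18 : cert.rowsOK 140466 293 = true := by decide +kernel

theorem chk_rows17_19 : cert.rowsOK 140759 293 = true := by decide +kernel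

theorem chk_rows17_20 : cert.rowsOK 141052 293 = true := by decide +kernel

theorem chk_rows17_21 : cert.rowsOK 141345 293 = true := by decide +kernel

theorem chk_rows17_22 : cert.rowsOK 141638 293 = true := by decide +kernel

theorem chk_rows17_23 : cert.rowsOK 141931 293 = true := by decide +kernel

theorem chk_range17 : ∀ a, 135192 ≤ a → a < 142224 → ∀ x < cert.c.g, cert.slotOK a x = true := by
  refine cert.range_of_chunks 135192 293 24 (by norm_num) ?_
  intro k hk
  interval_cases k
  · exact chk_rows17_0
  · exact chk_rows17_1
  · exact chk_rows17_2
  · exact chk_rows17_3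
  · exact chk_rows17_4
  · exact chk_rows17_5
  · exact chk_rows17_6
  · exact chk_rows17_7
  · exact chk_rows17_8
  · exact chk_rows17_9
  · exact chk_rows17_10
  · exact chk_rows17_11
  · exact chk_rows17_12
  · exact chk_rows17_13
  · exact chk_rows17_14
  · exact chk_rows17_15
  · exact chk_rows17_16
  · exact chk_rows17_17
  · exact chk_rows17_18
  · exact chk_rows17_19
  · exact chk_rows17_20
  · exact chk_rows17_21
  · exact chk_rows17_22
  · exact chk_rows17_23

end Cfsg.Agent.Lib.Helper6.Fi24TC
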