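import Cfsg.Agent.Lib.Helper6.Fi24SCert
import Cfsg.Agent.Lib.Helper6.Fi24SRows17

/-! # Fi24: the kernel check of the rows from 219768 on -/

set_option autoImplicit false

namespace Cfsg.Agent.Lib.Helper6.Fi24TC

open Cfsg.Agent.Lib.Helper6.TC Cfsg.Agent.Lib.Helper6.TCS

theorem chk_rows29_0 : cert.rowsOK 219768 249 = true := by decide +kernel

theorem chk_rows29_1 : cert.rowsOK 220017 249 = true := by decide +kernel

theorem chk_rows29_2 : cert.rowsOK 220266 249 = true := by decide +kernel

theorem chk_rows29_3 : cert.rowsOK 220515 249 = true := by decide +kernel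

theorem chk_rows29_4 : cert.rowsOK 220764 249 = true := by decide +kernel

theorem chk_rows29_5 : cert.rowsOK 221013 249 = true := by decide +kernel

theorem chk_rows29_6 : cert.rowsOK 221262 249 = true := by decide +kernel

theorem chk_rows29_7 : cert.rowsOK 221511 249 = true := by decide +kernel

theorem chk_rows29_8 : cert.rowsOK 221760 249 = true := by decide +kernel

theorem chk_rows29_9 : cert.rowsOK 222009 249 = true := by decide +kernel

theorem chk_rows29_10 : cert.rowsOK 222258 249 = true := by decide +kernel

theorem chk_rows29_11 : cert.rowsOK 222507 249 = true := by decide +kernel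

theorem chk_rows29_12 : cert.rowsOK 222756 249 = true := by decide +kernel

theorem chk_rows29_13 : cert.rowsOK 223005 249 = true := by decide +kernel

theorem chk_rows29_14 : cert.rowsOK 223254 249 = true := by decide +kernel

theorem chk_rows29_15 : cert.rowsOK 223503 249 = true := by decide +kernel

theorem chk_rows29_16 : cert.rowsOK 223752 249 = true := by decide +kernel

theorem chk_rows29_17 : cert.rowsOK 224001 249 = true := by decide +kernel

theorem chk_rows29_18 : cert.rowsOK 224250 249 = true := by decide +kernel

theorem chk_rows29_19 : cert.rowsOK 224499 249 = true := by decide +kernel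

theorem chk_rows29_20 : cert.rowsOK 224748 249 = true := by decide +kernel

theorem chk_rows29_21 : cert.rowsOK 224997 249 = true := by decide +kernel

theorem chk_rows29_22 : cert.rowsOK 225246 249 = true := by decide +kernel

theorem chk_rows29_23 : cert.rowsOK 225495 249 = true := by decide +kernel

theorem chk_range29 : ∀ a, 219768 ≤ a → a < 225744 → ∀ x < cert.c.g, cert.slotOK a x = true := by
  refine cert.range_of_chunks 219768 249 24 (by norm_num) ?_
  intro k hk
  interval_cases k
  · exact chk_rows29_0
  · exact chk_rows29_1
  · exact chk_rows29_2
  · exact chk_rows29_3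
  · exact chk_rows29_4
  · exact chk_rows29_5
  · exact chk_rows29_6
  · exact chk_rows29_7
  · exact chk_rows29_8
  · exact chk_rows29_9
  · exact chk_rows29_10
  · exact chk_rows29_11
  · exact chk_rows29_12
  · exact chk_rows29_13
  · exact chk_rows29_14
  · exact chk_rows29_15
  · exact chk_rows29_16
  · exact chk_rows29_17
  · exact chk_rows29_18
  · exact chk_rows29_19
  · exact chk_rows29_20
  · exact chk_rows29_21
  · exact chk_rows29_22
  · exact chk_rows29_23

end Cfsg.Agent.Lib.Helper6.Fi24TC
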