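import Cfsg.Agent.Lib.Helper6.Fi24SCert
import Cfsg.Agent.Lib.Helper6.Fi24SRows29

/-! # Fi24: the kernel check of the rows from 273936 on -/

set_option autoImplicit false

namespace Cfsg.Agent.Lib.Helper6.Fi24TC

open Cfsg.Agent.Lib.Helper6.TC Cfsg.Agent.Lib.Helper6.TCS

theorem chk_rows41_0 : cert.rowsOK 273936 109 = true := by decide +kernel

theorem chk_rows41_1 : cert.rowsOK 274045 109 = true := by decide +kernel

theorem chk_rows41_2 : cert.rowsOK 274154 109 = true := by decide +kernel

theorem chk_rows41_3 : cert.rowsOK 274263 109 = true := by decide +kernel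

theorem chk_rows41_4 : cert.rowsOK 274372 109 = true := by decide +kernel

theorem chk_rows41_5 : cert.rowsOK 274481 109 = true := by decide +kernel

theorem chk_rows41_6 : cert.rowsOK 274590 109 = true := by decide +kernel

theorem chk_rows41_7 : cert.rowsOK 274699 109 = true := by decide +kernel

theorem chk_rows41_8 : cert.rowsOK 274808 109 = true := by decide +kernel

theorem chk_rows41_9 : cert.rowsOK 274917 109 = true := by decide +kernel

theorem chk_rows41_10 : cert.rowsOK 275026 109 = true := by decide +kernel

theorem chk_rows41_11 : cert.rowsOK 275135 109 = true := by decide +kernel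

theorem chk_rows41_12 : cert.rowsOK 275244 109 = true := by decide +kernel

theorem chk_rows41_13 : cert.rowsOK 275353 109 = true := by decide +kernel

theorem chk_rows41_14 : cert.rowsOK 275462 109 = true := by decide +kernel

theorem chk_rows41_15 : cert.rowsOK 275571 109 = true := by decide +kernel

theorem chk_rows41_16 : cert.rowsOK 275680 109 = true := by decide +kernel

theorem chk_rows41_17 : cert.rowsOK 275789 109 = true := by decide +kernel

theorem chk_rows41_18 : cert.rowsOK 275898 109 = true := by decide +kernel

theorem chk_rows41_19 : cert.rowsOK 276007 109 = true := by decide +kernel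

theorem chk_rows41_20 : cert.rowsOK 276116 109 = true := by decide +kernel

theorem chk_rows41_21 : cert.rowsOK 276225 109 = true := by decide +kernel

theorem chk_rows41_22 : cert.rowsOK 276334 109 = true := by decide +kernel

theorem chk_rows41_23 : cert.rowsOK 276443 109 = true := by decide +kernel

theorem chk_range41 : ∀ a, 273936 ≤ a → a < 276552 → ∀ x < cert.c.g, cert.slotOK a x = true := by
  refine cert.range_of_chunks 273936 109 24 (by norm_num) ?_
  intro k hk
  interval_cases k
  · exact chk_rows41_0
  · exact chk_rows41_1
  · exact chk_rows41_2
  · exact chk_rows41_3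
  · exact chk_rows41_4
  · exact chk_rows41_5
  · exact chk_rows41_6
  · exact chk_rows41_7
  · exact chk_rows41_8
  · exact chk_rows41_9
  · exact chk_rows41_10
  · exact chk_rows41_11
  · exact chk_rows41_12
  · exact chk_rows41_13
  · exact chk_rows41_14
  · exact chk_rows41_15
  · exact chk_rows41_16
  · exact chk_rows41_17
  · exact chk_rows41_18
  · exact chk_rows41_19
  · exact chk_rows41_20
  · exact chk_rows41_21
  · exact chk_rows41_22
  · exact chk_rows41_23

end Cfsg.Agent.Lib.Helper6.Fi24TC
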