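import Cfsg.Agent.Lib.Helper6.Fi24SCert
import Cfsg.Agent.Lib.Helper6.Fi24SRows41

/-! # Fi24: the kernel check of the rows from 300360 on -/

set_option autoImplicit false

namespace Cfsg.Agent.Lib.Helper6.Fi24TC

open Cfsg.Agent.Lib.Helper6.TC Cfsg.Agent.Lib.Helper6.TCS

theorem chk_rows53_0 : cert.rowsOK 300360 56 = true := by decide +kernel

theorem chk_rows53_1 : cert.rowsOK 300416 56 = true := by decide +kernel

theorem chk_rows53_2 : cert.rowsOK 300472 56 = true := by decide +kernel

theorem chk_rows53_3 : cert.rowsOK 300528 56 = true := by decide +kernel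

theorem chk_rows53_4 : cert.rowsOK 300584 56 = true := by decide +kernel

theorem chk_rows53_5 : cert.rowsOK 300640 56 = true := by decide +kernel

theorem chk_rows53_6 : cert.rowsOK 300696 56 = true := by decide +kernel

theorem chk_rows53_7 : cert.rowsOK 300752 56 = true := by decide +kernel

theorem chk_rows53_8 : cert.rowsOK 300808 56 = true := by decide +kernel

theorem chk_rows53_9 : cert.rowsOK 300864 56 = true := by decide +kernel

theorem chk_rows53_10 : cert.rowsOK 300920 56 = true := by decide +kernel

theorem chk_rows53_11 : cert.rowsOK 300976 56 = true := by decide +kernel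

theorem chk_rows53_12 : cert.rowsOK 301032 56 = true := by decide +kernel

theorem chk_rows53_13 : cert.rowsOK 301088 56 = true := by decide +kernel

theorem chk_rows53_14 : cert.rowsOK 301144 56 = true := by decide +kernel

theorem chk_rows53_15 : cert.rowsOK 301200 56 = true := by decide +kernel

theorem chk_rows53_16 : cert.rowsOK 301256 56 = true := by decide +kernel

theorem chk_rows53_17 : cert.rowsOK 301312 56 = true := by decide +kernel

theorem chk_rows53_18 : cert.rowsOK 301368 56 = true := by decide +kernel

theorem chk_rows53_19 : cert.rowsOK 301424 56 = true := by decide +kernel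

theorem chk_rows53_20 : cert.rowsOK 301480 56 = true := by decide +kernel

theorem chk_rows53_21 : cert.rowsOK 301536 56 = true := by decide +kernel

theorem chk_rows53_22 : cert.rowsOK 301592 56 = true := by decide +kernel

theorem chk_rows53_23 : cert.rowsOK 301648 56 = true := by decide +kernel

theorem chk_range53 : ∀ a, 300360 ≤ a → a < 301704 → ∀ x < cert.c.g, cert.slotOK a x = true := by
  refine cert.range_of_chunks 300360 56 24 (by norm_num) ?_
  intro k hk
  interval_cases k
  · exact chk_rows53_0
  · exact chk_rows53_1
  · exact chk_rows53_2
  · exact chk_rows53_3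
  · exact chk_rows53_4
  · exact chk_rows53_5
  · exact chk_rows53_6
  · exact chk_rows53_7
  · exact chk_rows53_8
  · exact chk_rows53_9
  · exact chk_rows53_10
  · exact chk_rows53_11
  · exact chk_rows53_12
  · exact chk_rows53_13
  · exact chk_rows53_14
  · exact chk_rows53_15
  · exact chk_rows53_16
  · exact chk_rows53_17
  · exact chk_rows53_18
  · exact chk_rows53_19
  · exact chk_rows53_20
  · exact chk_rows53_21
  · exact chk_rows53_22
  · exact chk_rows53_23

end Cfsg.Agent.Lib.Helper6.Fi24TC
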