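import Cfsg.Agent.Lib.Helper6.Fi24TCData
import Cfsg.Agent.Lib.Helper6.TCRel3
import Cfsg.Agent.Lib.Helper6.Fi24SFin17

/-! # Fi24: the kernel check of a part of the relators on the coset table -/

set_option autoImplicit false

namespace Cfsg.Agent.Lib.Helper6.Fi24TC

open Cfsg.Agent.Lib.Helper6.TC

theorem chk_pow5_2_0 : tab.minOKc [2, 3] 3 163170 5439 = true := by decide +kernel

theorem chk_pow5_2_1 : tab.minOKc [2, 3] 3 168609 5439 = true := by decide +kernel

theorem chk_pow5_2_2 : tab.minOKc [2, 3] 3 174048 5439 = true := by decide +kernel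

theorem chk_pow5_2_3 : tab.minOKc [2, 3] 3 179487 5439 = true := by decide +kernel

theorem chk_pow5_2_4 : tab.minOKc [2, 3] 3 184926 5439 = true := by decide +kernel

theorem chk_pow5_2_5 : tab.minOKc [2, 3] 3 190365 5439 = true := by decide +kernel

theorem chk_pow5_2_6 : tab.minOKc [2, 3] 3 195804 5439 = true := by decide +kernel

theorem chk_pow5_2_7 : tab.minOKc [2, 3] 3 201243 5439 = true := by decide +kernel

theorem chk_pow5_2_8 : tab.minOKc [2, 3] 3 206682 5439 = true := by decide +kernel

theorem chk_pow5_2_9 : tab.minOKc [2, 3] 3 212121 5439 = true := by decide +kernel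

theorem chk_pow5_2_10 : tab.minOKc [2, 3] 3 217560 5439 = true := by decide +kernel

theorem chk_pow5_2_11 : tab.minOKc [2, 3] 3 222999 5439 = true := by decide +kernel

theorem chk_pow5_2_12 : tab.minOKc [2, 3] 3 228438 5439 = true := by decide +kernel

theorem chk_pow5_2_13 : tab.minOKc [2, 3] 3 233877 5439 = true := by decide +kernel

theorem chk_pow5_2_14 : tab.minOKc [2, 3] 3 239316 5439 = true := by decide +kernel

theorem chk_pow5_2 : tab.minOKc [2, 3] 3 163170 81585 = true := by
  refine tab.minOKc_of_chunks [2, 3] 3 163170 5439 15 (by norm_num) ?_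
  intro i hi
  interval_cases i
  · exact chk_pow5_2_0
  · exact chk_pow5_2_1
  · exact chk_pow5_2_2
  · exact chk_pow5_2_3
  · exact chk_pow5_2_4
  · exact chk_pow5_2_5
  · exact chk_pow5_2_6
  · exact chk_pow5_2_7
  · exact chk_pow5_2_8
  · exact chk_pow5_2_9
  · exact chk_pow5_2_10
  · exact chk_pow5_2_11
  · exact chk_pow5_2_12
  · exact chk_pow5_2_13
  · exact chk_pow5_2_14

theorem chk_pow5_3_0 : tab.minOKc [2, 3] 3 244755 5439 = true := by decide +kernel

theorem chk_pow5_3_1 : tab.minOKc [2, 3] 3 250194 5439 = true := by decide +kernel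

theorem chk_pow5_3_2 : tab.minOKc [2, 3] 3 255633 5439 = true := by decide +kernel

theorem chk_pow5_3_3 : tab.minOKc [2, 3] 3 261072 5439 = true := by decide +kernel

theorem chk_pow5_3_4 : tab.minOKc [2, 3] 3 266511 5439 = true := by decide +kernel

theorem chk_pow5_3_5 : tab.minOKc [2, 3] 3 271950 5439 = true := by decide +kernel

theorem chk_pow5_3_6 : tab.minOKc [2, 3] 3 277389 5439 = true := by decide +kernel

theorem chk_pow5_3_7 : tab.minOKc [2, 3] 3 282828 5439 = true := by decide +kernel

theorem chk_pow5_3_8 : tab.minOKc [2, 3] 3 288267 5439 = true := by decide +kernel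

theorem chk_pow5_3_9 : tab.minOKc [2, 3] 3 293706 5439 = true := by decide +kernel

theorem chk_pow5_3_10 : tab.minOKc [2, 3] 3 299145 5439 = true := by decide +kernel

theorem chk_pow5_3_11 : tab.minOKc [2, 3] 3 304584 5439 = true := by decide +kernel

theorem chk_pow5_3_12 : tab.minOKc [2, 3] 3 310023 5439 = true := by decide +kernel

theorem chk_pow5_3_13 : tab.minOKc [2, 3] 3 315462 5439 = true := by decide +kernel

theorem chk_pow5_3_14 : tab.minOKc [2, 3] 3 320901 5439 = true := by decide +kernel

theorem chk_pow5_3 : tab.minOKc [2, 3] 3 244755 81585 = true := by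
  refine tab.minOKc_of_chunks [2, 3] 3 244755 5439 15 (by norm_num) ?_
  intro i hi
  interval_cases i
  · exact chk_pow5_3_0
  · exact chk_pow5_3_1
  · exact chk_pow5_3_2
  · exact chk_pow5_3_3
  · exact chk_pow5_3_4
  · exact chk_pow5_3_5
  · exact chk_pow5_3_6
  · exact chk_pow5_3_7
  · exact chk_pow5_3_8
  · exact chk_pow5_3_9
  · exact chk_pow5_3_10
  · exact chk_pow5_3_11
  · exact chk_pow5_3_12
  · exact chk_pow5_3_13
  · exact chk_pow5_3_14

end Cfsg.Agent.Lib.Helper6.Fi24TC
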