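import Cfsg.Agent.Lib.Helper6.Fi24TCData
import Cfsg.Agent.Lib.Helper6.TCRel3
import Cfsg.Agent.Lib.Helper6.Fi24TCRel11

/-! # Fi24: the kernel check of a part of the relators on the coset table -/

set_option autoImplicit false

namespace Cfsg.Agent.Lib.Helper6.Fi24TC

open Cfsg.Agent.Lib.Helper6.TC

theorem chk_pow11_2_0 : tab.minOKc [1, 5] 2 200250 6675 = true := by decide +kernel

theorem chk_pow11_2_1 : tab.minOKc [1, 5] 2 206925 6675 = true := by decide +kernel

theorem chk_pow11_2_2 : tab.minOKc [1, 5] 2 213600 6675 = true := by decide +kernel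

theorem chk_pow11_2_3 : tab.minOKc [1, 5] 2 220275 6675 = true := by decide +kernel

theorem chk_pow11_2_4 : tab.minOKc [1, 5] 2 226950 6675 = true := by decide +kernel

theorem chk_pow11_2_5 : tab.minOKc [1, 5] 2 233625 6675 = true := by decide +kernel

theorem chk_pow11_2_6 : tab.minOKc [1, 5] 2 240300 6675 = true := by decide +kernel

theorem chk_pow11_2_7 : tab.minOKc [1, 5] 2 246975 6675 = true := by decide +kernel

theorem chk_pow11_2_8 : tab.minOKc [1, 5] 2 253650 6675 = true := by decide +kernel

theorem chk_pow11_2_9 : tab.minOKc [1, 5] 2 260325 6675 = true := by decide +kernel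

theorem chk_pow11_2_10 : tab.minOKc [1, 5] 2 267000 6675 = true := by decide +kernel

theorem chk_pow11_2_11 : tab.minOKc [1, 5] 2 273675 6675 = true := by decide +kernel

theorem chk_pow11_2_12 : tab.minOKc [1, 5] 2 280350 6675 = true := by decide +kernel

theorem chk_pow11_2_13 : tab.minOKc [1, 5] 2 287025 6675 = true := by decide +kernel

theorem chk_pow11_2_14 : tab.minOKc [1, 5] 2 293700 6675 = true := by decide +kernel

theorem chk_pow11_2 : tab.minOKc [1, 5] 2 200250 100125 = true := by
  refine tab.minOKc_of_chunks [1, 5] 2 200250 6675 15 (by norm_num) ?_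
  intro i hi
  interval_cases i
  · exact chk_pow11_2_0
  · exact chk_pow11_2_1
  · exact chk_pow11_2_2
  · exact chk_pow11_2_3
  · exact chk_pow11_2_4
  · exact chk_pow11_2_5
  · exact chk_pow11_2_6
  · exact chk_pow11_2_7
  · exact chk_pow11_2_8
  · exact chk_pow11_2_9
  · exact chk_pow11_2_10
  · exact chk_pow11_2_11
  · exact chk_pow11_2_12
  · exact chk_pow11_2_13
  · exact chk_pow11_2_14

theorem chk_pow11_3_0 : tab.minOKc [1, 5] 2 300375 6675 = true := by decide +kernel

theorem chk_pow11_3_1 : tab.minOKc [1, 5] 2 307050 6675 = true := by decide +kernel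

theorem chk_pow11_3_2 : tab.minOKc [1, 5] 2 313725 6675 = true := by decide +kernel

theorem chk_pow11_3_3 : tab.minOKc [1, 5] 2 320400 6675 = true := by decide +kernel

theorem chk_pow11_3_4 : tab.minOKc [1, 5] 2 327075 6675 = true := by decide +kernel

theorem chk_pow11_3_5 : tab.minOKc [1, 5] 2 333750 6675 = true := by decide +kernel

theorem chk_pow11_3_6 : tab.minOKc [1, 5] 2 340425 6675 = true := by decide +kernel

theorem chk_pow11_3_7 : tab.minOKc [1, 5] 2 347100 6675 = true := by decide +kernel

theorem chk_pow11_3_8 : tab.minOKc [1, 5] 2 353775 6675 = true := by decide +kernel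

theorem chk_pow11_3_9 : tab.minOKc [1, 5] 2 360450 6675 = true := by decide +kernel

theorem chk_pow11_3_10 : tab.minOKc [1, 5] 2 367125 6675 = true := by decide +kernel

theorem chk_pow11_3_11 : tab.minOKc [1, 5] 2 373800 6675 = true := by decide +kernel

theorem chk_pow11_3_12 : tab.minOKc [1, 5] 2 380475 6675 = true := by decide +kernel

theorem chk_pow11_3_13 : tab.minOKc [1, 5] 2 387150 6675 = true := by decide +kernel

theorem chk_pow11_3_14 : tab.minOKc [1, 5] 2 393825 6675 = true := by decide +kernel

theorem chk_pow11_3 : tab.minOKc [1, 5] 2 300375 100125 = true := by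
  refine tab.minOKc_of_chunks [1, 5] 2 300375 6675 15 (by norm_num) ?_
  intro i hi
  interval_cases i
  · exact chk_pow11_3_0
  · exact chk_pow11_3_1
  · exact chk_pow11_3_2
  · exact chk_pow11_3_3
  · exact chk_pow11_3_4
  · exact chk_pow11_3_5
  · exact chk_pow11_3_6
  · exact chk_pow11_3_7
  · exact chk_pow11_3_8
  · exact chk_pow11_3_9
  · exact chk_pow11_3_10
  · exact chk_pow11_3_11
  · exact chk_pow11_3_12
  · exact chk_pow11_3_13
  · exact chk_pow11_3_14

end Cfsg.Agent.Lib.Helper6.Fi24TC
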