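import Cfsg.Agent.Lib.Helper6.Fi24TCData
import Cfsg.Agent.Lib.Helper6.TCRel3
import Cfsg.Agent.Lib.Helper6.Fi24TCRel35

/-! # Fi24: the kernel check of a part of the relators on the coset table -/

set_option autoImplicit false

namespace Cfsg.Agent.Lib.Helper6.Fi24TC

open Cfsg.Agent.Lib.Helper6.TC

theorem chk_pow23_2_0 : tab.minOKc [2, 7] 2 201900 6730 = true := by decide +kernel

theorem chk_pow23_2_1 : tab.minOKc [2, 7] 2 208630 6730 = true := by decide +kernel

theorem chk_pow23_2_2 : tab.minOKc [2, 7] 2 215360 6730 = true := by decide +kernel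

theorem chk_pow23_2_3 : tab.minOKc [2, 7] 2 222090 6730 = true := by decide +kernel

theorem chk_pow23_2_4 : tab.minOKc [2, 7] 2 228820 6730 = true := by decide +kernel

theorem chk_pow23_2_5 : tab.minOKc [2, 7] 2 235550 6730 = true := by decide +kernel

theorem chk_pow23_2_6 : tab.minOKc [2, 7] 2 242280 6730 = true := by decide +kernel

theorem chk_pow23_2_7 : tab.minOKc [2, 7] 2 249010 6730 = true := by decide +kernel

theorem chk_pow23_2_8 : tab.minOKc [2, 7] 2 255740 6730 = true := by decide +kernel

theorem chk_pow23_2_9 : tab.minOKc [2, 7] 2 262470 6730 = true := by decide +kernel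

theorem chk_pow23_2_10 : tab.minOKc [2, 7] 2 269200 6730 = true := by decide +kernel

theorem chk_pow23_2_11 : tab.minOKc [2, 7] 2 275930 6730 = true := by decide +kernel

theorem chk_pow23_2_12 : tab.minOKc [2, 7] 2 282660 6730 = true := by decide +kernel

theorem chk_pow23_2_13 : tab.minOKc [2, 7] 2 289390 6730 = true := by decide +kernel

theorem chk_pow23_2_14 : tab.minOKc [2, 7] 2 296120 6730 = true := by decide +kernel

theorem chk_pow23_2 : tab.minOKc [2, 7] 2 201900 100950 = true := by
  refine tab.minOKc_of_chunks [2, 7] 2 201900 6730 15 (by norm_num) ?_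
  intro i hi
  interval_cases i
  · exact chk_pow23_2_0
  · exact chk_pow23_2_1
  · exact chk_pow23_2_2
  · exact chk_pow23_2_3
  · exact chk_pow23_2_4
  · exact chk_pow23_2_5
  · exact chk_pow23_2_6
  · exact chk_pow23_2_7
  · exact chk_pow23_2_8
  · exact chk_pow23_2_9
  · exact chk_pow23_2_10
  · exact chk_pow23_2_11
  · exact chk_pow23_2_12
  · exact chk_pow23_2_13
  · exact chk_pow23_2_14

theorem chk_pow23_3_0 : tab.minOKc [2, 7] 2 302850 6730 = true := by decide +kernel

theorem chk_pow23_3_1 : tab.minOKc [2, 7] 2 309580 6730 = true := by decide +kernel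

theorem chk_pow23_3_2 : tab.minOKc [2, 7] 2 316310 6730 = true := by decide +kernel

theorem chk_pow23_3_3 : tab.minOKc [2, 7] 2 323040 6730 = true := by decide +kernel

theorem chk_pow23_3_4 : tab.minOKc [2, 7] 2 329770 6730 = true := by decide +kernel

theorem chk_pow23_3_5 : tab.minOKc [2, 7] 2 336500 6730 = true := by decide +kernel

theorem chk_pow23_3_6 : tab.minOKc [2, 7] 2 343230 6730 = true := by decide +kernel

theorem chk_pow23_3_7 : tab.minOKc [2, 7] 2 349960 6730 = true := by decide +kernel

theorem chk_pow23_3_8 : tab.minOKc [2, 7] 2 356690 6730 = true := by decide +kernel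

theorem chk_pow23_3_9 : tab.minOKc [2, 7] 2 363420 6730 = true := by decide +kernel

theorem chk_pow23_3_10 : tab.minOKc [2, 7] 2 370150 6730 = true := by decide +kernel

theorem chk_pow23_3_11 : tab.minOKc [2, 7] 2 376880 6730 = true := by decide +kernel

theorem chk_pow23_3_12 : tab.minOKc [2, 7] 2 383610 6730 = true := by decide +kernel

theorem chk_pow23_3_13 : tab.minOKc [2, 7] 2 390340 6730 = true := by decide +kernel

theorem chk_pow23_3_14 : tab.minOKc [2, 7] 2 397070 6730 = true := by decide +kernel

theorem chk_pow23_3 : tab.minOKc [2, 7] 2 302850 100950 = true := by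
  refine tab.minOKc_of_chunks [2, 7] 2 302850 6730 15 (by norm_num) ?_
  intro i hi
  interval_cases i
  · exact chk_pow23_3_0
  · exact chk_pow23_3_1
  · exact chk_pow23_3_2
  · exact chk_pow23_3_3
  · exact chk_pow23_3_4
  · exact chk_pow23_3_5
  · exact chk_pow23_3_6
  · exact chk_pow23_3_7
  · exact chk_pow23_3_8
  · exact chk_pow23_3_9
  · exact chk_pow23_3_10
  · exact chk_pow23_3_11
  · exact chk_pow23_3_12
  · exact chk_pow23_3_13
  · exact chk_pow23_3_14

end Cfsg.Agent.Lib.Helper6.Fi24TC
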