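import Cfsg.Agent.Lib.Helper6.Fi24TCData
import Cfsg.Agent.Lib.Helper6.TCRel3
import Cfsg.Agent.Lib.Helper6.Fi24TCRel47

/-! # Fi24: the kernel check of a part of the relators on the coset table -/

set_option autoImplicit false

namespace Cfsg.Agent.Lib.Helper6.Fi24TC

open Cfsg.Agent.Lib.Helper6.TC

theorem chk_pow29_2_0 : tab.minOKc [1, 8] 2 199950 6665 = true := by decide +kernel

theorem chk_pow29_2_1 : tab.minOKc [1, 8] 2 206615 6665 = true := by decide +kernel

theorem chk_pow29_2_2 : tab.minOKc [1, 8] 2 213280 6665 = true := by decide +kernel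

theorem chk_pow29_2_3 : tab.minOKc [1, 8] 2 219945 6665 = true := by decide +kernel

theorem chk_pow29_2_4 : tab.minOKc [1, 8] 2 226610 6665 = true := by decide +kernel

theorem chk_pow29_2_5 : tab.minOKc [1, 8] 2 233275 6665 = true := by decide +kernel

theorem chk_pow29_2_6 : tab.minOKc [1, 8] 2 239940 6665 = true := by decide +kernel

theorem chk_pow29_2_7 : tab.minOKc [1, 8] 2 246605 6665 = true := by decide +kernel

theorem chk_pow29_2_8 : tab.minOKc [1, 8] 2 253270 6665 = true := by decide +kernel

theorem chk_pow29_2_9 : tab.minOKc [1, 8] 2 259935 6665 = true := by decide +kernel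

theorem chk_pow29_2_10 : tab.minOKc [1, 8] 2 266600 6665 = true := by decide +kernel

theorem chk_pow29_2_11 : tab.minOKc [1, 8] 2 273265 6665 = true := by decide +kernel

theorem chk_pow29_2_12 : tab.minOKc [1, 8] 2 279930 6665 = true := by decide +kernel

theorem chk_pow29_2_13 : tab.minOKc [1, 8] 2 286595 6665 = true := by decide +kernel

theorem chk_pow29_2_14 : tab.minOKc [1, 8] 2 293260 6665 = true := by decide +kernel

theorem chk_pow29_2 : tab.minOKc [1, 8] 2 199950 99975 = true := by
  refine tab.minOKc_of_chunks [1, 8] 2 199950 6665 15 (by norm_num) ?_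
  intro i hi
  interval_cases i
  · exact chk_pow29_2_0
  · exact chk_pow29_2_1
  · exact chk_pow29_2_2
  · exact chk_pow29_2_3
  · exact chk_pow29_2_4
  · exact chk_pow29_2_5
  · exact chk_pow29_2_6
  · exact chk_pow29_2_7
  · exact chk_pow29_2_8
  · exact chk_pow29_2_9
  · exact chk_pow29_2_10
  · exact chk_pow29_2_11
  · exact chk_pow29_2_12
  · exact chk_pow29_2_13
  · exact chk_pow29_2_14

theorem chk_pow29_3_0 : tab.minOKc [1, 8] 2 299925 6665 = true := by decide +kernel

theorem chk_pow29_3_1 : tab.minOKc [1, 8] 2 306590 6665 = true := by decide +kernel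

theorem chk_pow29_3_2 : tab.minOKc [1, 8] 2 313255 6665 = true := by decide +kernel

theorem chk_pow29_3_3 : tab.minOKc [1, 8] 2 319920 6665 = true := by decide +kernel

theorem chk_pow29_3_4 : tab.minOKc [1, 8] 2 326585 6665 = true := by decide +kernel

theorem chk_pow29_3_5 : tab.minOKc [1, 8] 2 333250 6665 = true := by decide +kernel

theorem chk_pow29_3_6 : tab.minOKc [1, 8] 2 339915 6665 = true := by decide +kernel

theorem chk_pow29_3_7 : tab.minOKc [1, 8] 2 346580 6665 = true := by decide +kernel

theorem chk_pow29_3_8 : tab.minOKc [1, 8] 2 353245 6665 = true := by decide +kernel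

theorem chk_pow29_3_9 : tab.minOKc [1, 8] 2 359910 6665 = true := by decide +kernel

theorem chk_pow29_3_10 : tab.minOKc [1, 8] 2 366575 6665 = true := by decide +kernel

theorem chk_pow29_3_11 : tab.minOKc [1, 8] 2 373240 6665 = true := by decide +kernel

theorem chk_pow29_3_12 : tab.minOKc [1, 8] 2 379905 6665 = true := by decide +kernel

theorem chk_pow29_3_13 : tab.minOKc [1, 8] 2 386570 6665 = true := by decide +kernel

theorem chk_pow29_3_14 : tab.minOKc [1, 8] 2 393235 6665 = true := by decide +kernel

theorem chk_pow29_3 : tab.minOKc [1, 8] 2 299925 99975 = true := by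
  refine tab.minOKc_of_chunks [1, 8] 2 299925 6665 15 (by norm_num) ?_
  intro i hi
  interval_cases i
  · exact chk_pow29_3_0
  · exact chk_pow29_3_1
  · exact chk_pow29_3_2
  · exact chk_pow29_3_3
  · exact chk_pow29_3_4
  · exact chk_pow29_3_5
  · exact chk_pow29_3_6
  · exact chk_pow29_3_7
  · exact chk_pow29_3_8
  · exact chk_pow29_3_9
  · exact chk_pow29_3_10
  · exact chk_pow29_3_11
  · exact chk_pow29_3_12
  · exact chk_pow29_3_13
  · exact chk_pow29_3_14

end Cfsg.Agent.Lib.Helper6.Fi24TC
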