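import Cfsg.Agent.Lib.Helper6.Fi24TCData
import Cfsg.Agent.Lib.Helper6.TCRel3
import Cfsg.Agent.Lib.Helper6.Fi24TCRel59

/-! # Fi24: the kernel check of a part of the relators on the coset table -/

set_option autoImplicit false

namespace Cfsg.Agent.Lib.Helper6.Fi24TC

open Cfsg.Agent.Lib.Helper6.TC

theorem chk_pow35_2_0 : tab.minOKc [7, 8] 3 168090 5603 = true := by decide +kernel

theorem chk_pow35_2_1 : tab.minOKc [7, 8] 3 173693 5603 = true := by decide +kernel

theorem chk_pow35_2_2 : tab.minOKc [7, 8] 3 179296 5603 = true := by decide +kernel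

theorem chk_pow35_2_3 : tab.minOKc [7, 8] 3 184899 5603 = true := by decide +kernel

theorem chk_pow35_2_4 : tab.minOKc [7, 8] 3 190502 5603 = true := by decide +kernel

theorem chk_pow35_2_5 : tab.minOKc [7, 8] 3 196105 5603 = true := by decide +kernel

theorem chk_pow35_2_6 : tab.minOKc [7, 8] 3 201708 5603 = true := by decide +kernel

theorem chk_pow35_2_7 : tab.minOKc [7, 8] 3 207311 5603 = true := by decide +kernel

theorem chk_pow35_2_8 : tab.minOKc [7, 8] 3 212914 5603 = true := by decide +kernel

theorem chk_pow35_2_9 : tab.minOKc [7, 8] 3 218517 5603 = true := by decide +kernel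

theorem chk_pow35_2_10 : tab.minOKc [7, 8] 3 224120 5603 = true := by decide +kernel

theorem chk_pow35_2_11 : tab.minOKc [7, 8] 3 229723 5603 = true := by decide +kernel

theorem chk_pow35_2_12 : tab.minOKc [7, 8] 3 235326 5603 = true := by decide +kernel

theorem chk_pow35_2_13 : tab.minOKc [7, 8] 3 240929 5603 = true := by decide +kernel

theorem chk_pow35_2_14 : tab.minOKc [7, 8] 3 246532 5603 = true := by decide +kernel

theorem chk_pow35_2 : tab.minOKc [7, 8] 3 168090 84045 = true := by
  refine tab.minOKc_of_chunks [7, 8] 3 168090 5603 15 (by norm_num) ?_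
  intro i hi
  interval_cases i
  · exact chk_pow35_2_0
  · exact chk_pow35_2_1
  · exact chk_pow35_2_2
  · exact chk_pow35_2_3
  · exact chk_pow35_2_4
  · exact chk_pow35_2_5
  · exact chk_pow35_2_6
  · exact chk_pow35_2_7
  · exact chk_pow35_2_8
  · exact chk_pow35_2_9
  · exact chk_pow35_2_10
  · exact chk_pow35_2_11
  · exact chk_pow35_2_12
  · exact chk_pow35_2_13
  · exact chk_pow35_2_14

theorem chk_pow35_3_0 : tab.minOKc [7, 8] 3 252135 5603 = true := by decide +kernel

theorem chk_pow35_3_1 : tab.minOKc [7, 8] 3 257738 5603 = true := by decide +kernel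

theorem chk_pow35_3_2 : tab.minOKc [7, 8] 3 263341 5603 = true := by decide +kernel

theorem chk_pow35_3_3 : tab.minOKc [7, 8] 3 268944 5603 = true := by decide +kernel

theorem chk_pow35_3_4 : tab.minOKc [7, 8] 3 274547 5603 = true := by decide +kernel

theorem chk_pow35_3_5 : tab.minOKc [7, 8] 3 280150 5603 = true := by decide +kernel

theorem chk_pow35_3_6 : tab.minOKc [7, 8] 3 285753 5603 = true := by decide +kernel

theorem chk_pow35_3_7 : tab.minOKc [7, 8] 3 291356 5603 = true := by decide +kernel

theorem chk_pow35_3_8 : tab.minOKc [7, 8] 3 296959 5603 = true := by decide +kernel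

theorem chk_pow35_3_9 : tab.minOKc [7, 8] 3 302562 5603 = true := by decide +kernel

theorem chk_pow35_3_10 : tab.minOKc [7, 8] 3 308165 5603 = true := by decide +kernel

theorem chk_pow35_3_11 : tab.minOKc [7, 8] 3 313768 5603 = true := by decide +kernel

theorem chk_pow35_3_12 : tab.minOKc [7, 8] 3 319371 5603 = true := by decide +kernel

theorem chk_pow35_3_13 : tab.minOKc [7, 8] 3 324974 5603 = true := by decide +kernel

theorem chk_pow35_3_14 : tab.minOKc [7, 8] 3 330577 5603 = true := by decide +kernel

theorem chk_pow35_3 : tab.minOKc [7, 8] 3 252135 84045 = true := by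
  refine tab.minOKc_of_chunks [7, 8] 3 252135 5603 15 (by norm_num) ?_
  intro i hi
  interval_cases i
  · exact chk_pow35_3_0
  · exact chk_pow35_3_1
  · exact chk_pow35_3_2
  · exact chk_pow35_3_3
  · exact chk_pow35_3_4
  · exact chk_pow35_3_5
  · exact chk_pow35_3_6
  · exact chk_pow35_3_7
  · exact chk_pow35_3_8
  · exact chk_pow35_3_9
  · exact chk_pow35_3_10
  · exact chk_pow35_3_11
  · exact chk_pow35_3_12
  · exact chk_pow35_3_13
  · exact chk_pow35_3_14

end Cfsg.Agent.Lib.Helper6.Fi24TC
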