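import Cfsg.Agent.Lib.Helper6.Fi24TCData
import Cfsg.Agent.Lib.Helper6.TCRel3
import Cfsg.Agent.Lib.Helper6.Fi24TCRel71

/-! # Fi24: the kernel check of a part of the relators on the coset table -/

set_option autoImplicit false

namespace Cfsg.Agent.Lib.Helper6.Fi24TC

open Cfsg.Agent.Lib.Helper6.TC

theorem chk_pow41_2_0 : tab.minOKc [5, 9] 2 198660 6622 = true := by decide +kernel

theorem chk_pow41_2_1 : tab.minOKc [5, 9] 2 205282 6622 = true := by decide +kernel

theorem chk_pow41_2_2 : tab.minOKc [5, 9] 2 211904 6622 = true := by decide +kernel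

theorem chk_pow41_2_3 : tab.minOKc [5, 9] 2 218526 6622 = true := by decide +kernel

theorem chk_pow41_2_4 : tab.minOKc [5, 9] 2 225148 6622 = true := by decide +kernel

theorem chk_pow41_2_5 : tab.minOKc [5, 9] 2 231770 6622 = true := by decide +kernel

theorem chk_pow41_2_6 : tab.minOKc [5, 9] 2 238392 6622 = true := by decide +kernel

theorem chk_pow41_2_7 : tab.minOKc [5, 9] 2 245014 6622 = true := by decide +kernel

theorem chk_pow41_2_8 : tab.minOKc [5, 9] 2 251636 6622 = true := by decide +kernel

theorem chk_pow41_2_9 : tab.minOKc [5, 9] 2 258258 6622 = true := by decide +kernel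

theorem chk_pow41_2_10 : tab.minOKc [5, 9] 2 264880 6622 = true := by decide +kernel

theorem chk_pow41_2_11 : tab.minOKc [5, 9] 2 271502 6622 = true := by decide +kernel

theorem chk_pow41_2_12 : tab.minOKc [5, 9] 2 278124 6622 = true := by decide +kernel

theorem chk_pow41_2_13 : tab.minOKc [5, 9] 2 284746 6622 = true := by decide +kernel

theorem chk_pow41_2_14 : tab.minOKc [5, 9] 2 291368 6622 = true := by decide +kernel

theorem chk_pow41_2 : tab.minOKc [5, 9] 2 198660 99330 = true := by
  refine tab.minOKc_of_chunks [5, 9] 2 198660 6622 15 (by norm_num) ?_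
  intro i hi
  interval_cases i
  · exact chk_pow41_2_0
  · exact chk_pow41_2_1
  · exact chk_pow41_2_2
  · exact chk_pow41_2_3
  · exact chk_pow41_2_4
  · exact chk_pow41_2_5
  · exact chk_pow41_2_6
  · exact chk_pow41_2_7
  · exact chk_pow41_2_8
  · exact chk_pow41_2_9
  · exact chk_pow41_2_10
  · exact chk_pow41_2_11
  · exact chk_pow41_2_12
  · exact chk_pow41_2_13
  · exact chk_pow41_2_14

theorem chk_pow41_3_0 : tab.minOKc [5, 9] 2 297990 6622 = true := by decide +kernel

theorem chk_pow41_3_1 : tab.minOKc [5, 9] 2 304612 6622 = true := by decide +kernel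

theorem chk_pow41_3_2 : tab.minOKc [5, 9] 2 311234 6622 = true := by decide +kernel

theorem chk_pow41_3_3 : tab.minOKc [5, 9] 2 317856 6622 = true := by decide +kernel

theorem chk_pow41_3_4 : tab.minOKc [5, 9] 2 324478 6622 = true := by decide +kernel

theorem chk_pow41_3_5 : tab.minOKc [5, 9] 2 331100 6622 = true := by decide +kernel

theorem chk_pow41_3_6 : tab.minOKc [5, 9] 2 337722 6622 = true := by decide +kernel

theorem chk_pow41_3_7 : tab.minOKc [5, 9] 2 344344 6622 = true := by decide +kernel

theorem chk_pow41_3_8 : tab.minOKc [5, 9] 2 350966 6622 = true := by decide +kernel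

theorem chk_pow41_3_9 : tab.minOKc [5, 9] 2 357588 6622 = true := by decide +kernel

theorem chk_pow41_3_10 : tab.minOKc [5, 9] 2 364210 6622 = true := by decide +kernel

theorem chk_pow41_3_11 : tab.minOKc [5, 9] 2 370832 6622 = true := by decide +kernel

theorem chk_pow41_3_12 : tab.minOKc [5, 9] 2 377454 6622 = true := by decide +kernel

theorem chk_pow41_3_13 : tab.minOKc [5, 9] 2 384076 6622 = true := by decide +kernel

theorem chk_pow41_3_14 : tab.minOKc [5, 9] 2 390698 6622 = true := by decide +kernel

theorem chk_pow41_3 : tab.minOKc [5, 9] 2 297990 99330 = true := by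
  refine tab.minOKc_of_chunks [5, 9] 2 297990 6622 15 (by norm_num) ?_
  intro i hi
  interval_cases i
  · exact chk_pow41_3_0
  · exact chk_pow41_3_1
  · exact chk_pow41_3_2
  · exact chk_pow41_3_3
  · exact chk_pow41_3_4
  · exact chk_pow41_3_5
  · exact chk_pow41_3_6
  · exact chk_pow41_3_7
  · exact chk_pow41_3_8
  · exact chk_pow41_3_9
  · exact chk_pow41_3_10
  · exact chk_pow41_3_11
  · exact chk_pow41_3_12
  · exact chk_pow41_3_13
  · exact chk_pow41_3_14

end Cfsg.Agent.Lib.Helper6.Fi24TC
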