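import Cfsg.Agent.Lib.Helper6.Fi24TCData
import Cfsg.Agent.Lib.Helper6.TCRel3
import Cfsg.Agent.Lib.Helper6.Fi24TCRel83

/-! # Fi24: the kernel check of a part of the relators on the coset table -/

set_option autoImplicit false

namespace Cfsg.Agent.Lib.Helper6.Fi24TC

open Cfsg.Agent.Lib.Helper6.TC

theorem chk_pow47_2_0 : tab.minOKc [2, 10] 2 201960 6732 = true := by decide +kernel

theorem chk_pow47_2_1 : tab.minOKc [2, 10] 2 208692 6732 = true := by decide +kernel

theorem chk_pow47_2_2 : tab.minOKc [2, 10] 2 215424 6732 = true := by decide +kernel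

theorem chk_pow47_2_3 : tab.minOKc [2, 10] 2 222156 6732 = true := by decide +kernel

theorem chk_pow47_2_4 : tab.minOKc [2, 10] 2 228888 6732 = true := by decide +kernel

theorem chk_pow47_2_5 : tab.minOKc [2, 10] 2 235620 6732 = true := by decide +kernel

theorem chk_pow47_2_6 : tab.minOKc [2, 10] 2 242352 6732 = true := by decide +kernel

theorem chk_pow47_2_7 : tab.minOKc [2, 10] 2 249084 6732 = true := by decide +kernel

theorem chk_pow47_2_8 : tab.minOKc [2, 10] 2 255816 6732 = true := by decide +kernel

theorem chk_pow47_2_9 : tab.minOKc [2, 10] 2 262548 6732 = true := by decide +kernel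

theorem chk_pow47_2_10 : tab.minOKc [2, 10] 2 269280 6732 = true := by decide +kernel

theorem chk_pow47_2_11 : tab.minOKc [2, 10] 2 276012 6732 = true := by decide +kernel

theorem chk_pow47_2_12 : tab.minOKc [2, 10] 2 282744 6732 = true := by decide +kernel

theorem chk_pow47_2_13 : tab.minOKc [2, 10] 2 289476 6732 = true := by decide +kernel

theorem chk_pow47_2_14 : tab.minOKc [2, 10] 2 296208 6732 = true := by decide +kernel

theorem chk_pow47_2 : tab.minOKc [2, 10] 2 201960 100980 = true := by
  refine tab.minOKc_of_chunks [2, 10] 2 201960 6732 15 (by norm_num) ?_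
  intro i hi
  interval_cases i
  · exact chk_pow47_2_0
  · exact chk_pow47_2_1
  · exact chk_pow47_2_2
  · exact chk_pow47_2_3
  · exact chk_pow47_2_4
  · exact chk_pow47_2_5
  · exact chk_pow47_2_6
  · exact chk_pow47_2_7
  · exact chk_pow47_2_8
  · exact chk_pow47_2_9
  · exact chk_pow47_2_10
  · exact chk_pow47_2_11
  · exact chk_pow47_2_12
  · exact chk_pow47_2_13
  · exact chk_pow47_2_14

theorem chk_pow47_3_0 : tab.minOKc [2, 10] 2 302940 6732 = true := by decide +kernel

theorem chk_pow47_3_1 : tab.minOKc [2, 10] 2 309672 6732 = true := by decide +kernel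

theorem chk_pow47_3_2 : tab.minOKc [2, 10] 2 316404 6732 = true := by decide +kernel

theorem chk_pow47_3_3 : tab.minOKc [2, 10] 2 323136 6732 = true := by decide +kernel

theorem chk_pow47_3_4 : tab.minOKc [2, 10] 2 329868 6732 = true := by decide +kernel

theorem chk_pow47_3_5 : tab.minOKc [2, 10] 2 336600 6732 = true := by decide +kernel

theorem chk_pow47_3_6 : tab.minOKc [2, 10] 2 343332 6732 = true := by decide +kernel

theorem chk_pow47_3_7 : tab.minOKc [2, 10] 2 350064 6732 = true := by decide +kernel

theorem chk_pow47_3_8 : tab.minOKc [2, 10] 2 356796 6732 = true := by decide +kernel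

theorem chk_pow47_3_9 : tab.minOKc [2, 10] 2 363528 6732 = true := by decide +kernel

theorem chk_pow47_3_10 : tab.minOKc [2, 10] 2 370260 6732 = true := by decide +kernel

theorem chk_pow47_3_11 : tab.minOKc [2, 10] 2 376992 6732 = true := by decide +kernel

theorem chk_pow47_3_12 : tab.minOKc [2, 10] 2 383724 6732 = true := by decide +kernel

theorem chk_pow47_3_13 : tab.minOKc [2, 10] 2 390456 6732 = true := by decide +kernel

theorem chk_pow47_3_14 : tab.minOKc [2, 10] 2 397188 6732 = true := by decide +kernel

theorem chk_pow47_3 : tab.minOKc [2, 10] 2 302940 100980 = true := by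
  refine tab.minOKc_of_chunks [2, 10] 2 302940 6732 15 (by norm_num) ?_
  intro i hi
  interval_cases i
  · exact chk_pow47_3_0
  · exact chk_pow47_3_1
  · exact chk_pow47_3_2
  · exact chk_pow47_3_3
  · exact chk_pow47_3_4
  · exact chk_pow47_3_5
  · exact chk_pow47_3_6
  · exact chk_pow47_3_7
  · exact chk_pow47_3_8
  · exact chk_pow47_3_9
  · exact chk_pow47_3_10
  · exact chk_pow47_3_11
  · exact chk_pow47_3_12
  · exact chk_pow47_3_13
  · exact chk_pow47_3_14

end Cfsg.Agent.Lib.Helper6.Fi24TC
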