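import Cfsg.Agent.Lib.Helper6.Fi24TCData
import Cfsg.Agent.Lib.Helper6.TCRel3
import Cfsg.Agent.Lib.Helper6.Fi24TCRel95

/-! # Fi24: the kernel check of a part of the relators on the coset table -/

set_option autoImplicit false

namespace Cfsg.Agent.Lib.Helper6.Fi24TC

open Cfsg.Agent.Lib.Helper6.TC

theorem chk_pow53_2_0 : tab.minOKc [8, 10] 2 201990 6733 = true := by decide +kernel

theorem chk_pow53_2_1 : tab.minOKc [8, 10] 2 208723 6733 = true := by decide +kernel

theorem chk_pow53_2_2 : tab.minOKc [8, 10] 2 215456 6733 = true := by decide +kernel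

theorem chk_pow53_2_3 : tab.minOKc [8, 10] 2 222189 6733 = true := by decide +kernel

theorem chk_pow53_2_4 : tab.minOKc [8, 10] 2 228922 6733 = true := by decide +kernel

theorem chk_pow53_2_5 : tab.minOKc [8, 10] 2 235655 6733 = true := by decide +kernel

theorem chk_pow53_2_6 : tab.minOKc [8, 10] 2 242388 6733 = true := by decide +kernel

theorem chk_pow53_2_7 : tab.minOKc [8, 10] 2 249121 6733 = true := by decide +kernel

theorem chk_pow53_2_8 : tab.minOKc [8, 10] 2 255854 6733 = true := by decide +kernel

theorem chk_pow53_2_9 : tab.minOKc [8, 10] 2 262587 6733 = true := by decide +kernel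

theorem chk_pow53_2_10 : tab.minOKc [8, 10] 2 269320 6733 = true := by decide +kernel

theorem chk_pow53_2_11 : tab.minOKc [8, 10] 2 276053 6733 = true := by decide +kernel

theorem chk_pow53_2_12 : tab.minOKc [8, 10] 2 282786 6733 = true := by decide +kernel

theorem chk_pow53_2_13 : tab.minOKc [8, 10] 2 289519 6733 = true := by decide +kernel

theorem chk_pow53_2_14 : tab.minOKc [8, 10] 2 296252 6733 = true := by decide +kernel

theorem chk_pow53_2 : tab.minOKc [8, 10] 2 201990 100995 = true := by
  refine tab.minOKc_of_chunks [8, 10] 2 201990 6733 15 (by norm_num) ?_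
  intro i hi
  interval_cases i
  · exact chk_pow53_2_0
  · exact chk_pow53_2_1
  · exact chk_pow53_2_2
  · exact chk_pow53_2_3
  · exact chk_pow53_2_4
  · exact chk_pow53_2_5
  · exact chk_pow53_2_6
  · exact chk_pow53_2_7
  · exact chk_pow53_2_8
  · exact chk_pow53_2_9
  · exact chk_pow53_2_10
  · exact chk_pow53_2_11
  · exact chk_pow53_2_12
  · exact chk_pow53_2_13
  · exact chk_pow53_2_14

theorem chk_pow53_3_0 : tab.minOKc [8, 10] 2 302985 6733 = true := by decide +kernel

theorem chk_pow53_3_1 : tab.minOKc [8, 10] 2 309718 6733 = true := by decide +kernel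

theorem chk_pow53_3_2 : tab.minOKc [8, 10] 2 316451 6733 = true := by decide +kernel

theorem chk_pow53_3_3 : tab.minOKc [8, 10] 2 323184 6733 = true := by decide +kernel

theorem chk_pow53_3_4 : tab.minOKc [8, 10] 2 329917 6733 = true := by decide +kernel

theorem chk_pow53_3_5 : tab.minOKc [8, 10] 2 336650 6733 = true := by decide +kernel

theorem chk_pow53_3_6 : tab.minOKc [8, 10] 2 343383 6733 = true := by decide +kernel

theorem chk_pow53_3_7 : tab.minOKc [8, 10] 2 350116 6733 = true := by decide +kernel

theorem chk_pow53_3_8 : tab.minOKc [8, 10] 2 356849 6733 = true := by decide +kernel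

theorem chk_pow53_3_9 : tab.minOKc [8, 10] 2 363582 6733 = true := by decide +kernel

theorem chk_pow53_3_10 : tab.minOKc [8, 10] 2 370315 6733 = true := by decide +kernel

theorem chk_pow53_3_11 : tab.minOKc [8, 10] 2 377048 6733 = true := by decide +kernel

theorem chk_pow53_3_12 : tab.minOKc [8, 10] 2 383781 6733 = true := by decide +kernel

theorem chk_pow53_3_13 : tab.minOKc [8, 10] 2 390514 6733 = true := by decide +kernel

theorem chk_pow53_3_14 : tab.minOKc [8, 10] 2 397247 6733 = true := by decide +kernel

theorem chk_pow53_3 : tab.minOKc [8, 10] 2 302985 100995 = true := by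
  refine tab.minOKc_of_chunks [8, 10] 2 302985 6733 15 (by norm_num) ?_
  intro i hi
  interval_cases i
  · exact chk_pow53_3_0
  · exact chk_pow53_3_1
  · exact chk_pow53_3_2
  · exact chk_pow53_3_3
  · exact chk_pow53_3_4
  · exact chk_pow53_3_5
  · exact chk_pow53_3_6
  · exact chk_pow53_3_7
  · exact chk_pow53_3_8
  · exact chk_pow53_3_9
  · exact chk_pow53_3_10
  · exact chk_pow53_3_11
  · exact chk_pow53_3_12
  · exact chk_pow53_3_13
  · exact chk_pow53_3_14

end Cfsg.Agent.Lib.Helper6.Fi24TC
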