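import Cfsg.Agent.Lib.Helper6.Fi24TCData
import Cfsg.Agent.Lib.Helper6.TCRel3
import Cfsg.Agent.Lib.Helper6.Fi24TCRel0

/-! # Fi24: the kernel check of a part of the relators on the coset table -/

set_option autoImplicit false

namespace Cfsg.Agent.Lib.Helper6.Fi24TC

open Cfsg.Agent.Lib.Helper6.TC

theorem chk_pow6_0_0 : tab.minOKc [0, 4] 2 0 6694 = true := by decide +kernel

theorem chk_pow6_0_1 : tab.minOKc [0, 4] 2 6694 6694 = true := by decide +kernel

theorem chk_pow6_0_2 : tab.minOKc [0, 4] 2 13388 6694 = true := by decide +kernel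

theorem chk_pow6_0_3 : tab.minOKc [0, 4] 2 20082 6694 = true := by decide +kernel

theorem chk_pow6_0_4 : tab.minOKc [0, 4] 2 26776 6694 = true := by decide +kernel

theorem chk_pow6_0_5 : tab.minOKc [0, 4] 2 33470 6694 = true := by decide +kernel

theorem chk_pow6_0_6 : tab.minOKc [0, 4] 2 40164 6694 = true := by decide +kernel

theorem chk_pow6_0_7 : tab.minOKc [0, 4] 2 46858 6694 = true := by decide +kernel

theorem chk_pow6_0_8 : tab.minOKc [0, 4] 2 53552 6694 = true := by decide +kernel

theorem chk_pow6_0_9 : tab.minOKc [0, 4] 2 60246 6694 = true := by decide +kernel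

theorem chk_pow6_0_10 : tab.minOKc [0, 4] 2 66940 6694 = true := by decide +kernel

theorem chk_pow6_0_11 : tab.minOKc [0, 4] 2 73634 6694 = true := by decide +kernel

theorem chk_pow6_0_12 : tab.minOKc [0, 4] 2 80328 6694 = true := by decide +kernel

theorem chk_pow6_0_13 : tab.minOKc [0, 4] 2 87022 6694 = true := by decide +kernel

theorem chk_pow6_0_14 : tab.minOKc [0, 4] 2 93716 6694 = true := by decide +kernel

theorem chk_pow6_0 : tab.minOKc [0, 4] 2 0 100410 = true := by
  refine tab.minOKc_of_chunks [0, 4] 2 0 6694 15 (by norm_num) ?_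
  intro i hi
  interval_cases i
  · exact chk_pow6_0_0
  · exact chk_pow6_0_1
  · exact chk_pow6_0_2
  · exact chk_pow6_0_3
  · exact chk_pow6_0_4
  · exact chk_pow6_0_5
  · exact chk_pow6_0_6
  · exact chk_pow6_0_7
  · exact chk_pow6_0_8
  · exact chk_pow6_0_9
  · exact chk_pow6_0_10
  · exact chk_pow6_0_11
  · exact chk_pow6_0_12
  · exact chk_pow6_0_13
  · exact chk_pow6_0_14

theorem chk_pow6_1_0 : tab.minOKc [0, 4] 2 100410 6694 = true := by decide +kernel

theorem chk_pow6_1_1 : tab.minOKc [0, 4] 2 107104 6694 = true := by decide +kernel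

theorem chk_pow6_1_2 : tab.minOKc [0, 4] 2 113798 6694 = true := by decide +kernel

theorem chk_pow6_1_3 : tab.minOKc [0, 4] 2 120492 6694 = true := by decide +kernel

theorem chk_pow6_1_4 : tab.minOKc [0, 4] 2 127186 6694 = true := by decide +kernel

theorem chk_pow6_1_5 : tab.minOKc [0, 4] 2 133880 6694 = true := by decide +kernel

theorem chk_pow6_1_6 : tab.minOKc [0, 4] 2 140574 6694 = true := by decide +kernel

theorem chk_pow6_1_7 : tab.minOKc [0, 4] 2 147268 6694 = true := by decide +kernel

theorem chk_pow6_1_8 : tab.minOKc [0, 4] 2 153962 6694 = true := by decide +kernel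

theorem chk_pow6_1_9 : tab.minOKc [0, 4] 2 160656 6694 = true := by decide +kernel

theorem chk_pow6_1_10 : tab.minOKc [0, 4] 2 167350 6694 = true := by decide +kernel

theorem chk_pow6_1_11 : tab.minOKc [0, 4] 2 174044 6694 = true := by decide +kernel

theorem chk_pow6_1_12 : tab.minOKc [0, 4] 2 180738 6694 = true := by decide +kernel

theorem chk_pow6_1_13 : tab.minOKc [0, 4] 2 187432 6694 = true := by decide +kernel

theorem chk_pow6_1_14 : tab.minOKc [0, 4] 2 194126 6694 = true := by decide +kernel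

theorem chk_pow6_1 : tab.minOKc [0, 4] 2 100410 100410 = true := by
  refine tab.minOKc_of_chunks [0, 4] 2 100410 6694 15 (by norm_num) ?_
  intro i hi
  interval_cases i
  · exact chk_pow6_1_0
  · exact chk_pow6_1_1
  · exact chk_pow6_1_2
  · exact chk_pow6_1_3
  · exact chk_pow6_1_4
  · exact chk_pow6_1_5
  · exact chk_pow6_1_6
  · exact chk_pow6_1_7
  · exact chk_pow6_1_8
  · exact chk_pow6_1_9
  · exact chk_pow6_1_10
  · exact chk_pow6_1_11
  · exact chk_pow6_1_12
  · exact chk_pow6_1_13
  · exact chk_pow6_1_14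

end Cfsg.Agent.Lib.Helper6.Fi24TC
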