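import Cfsg.Agent.Lib.Helper6.Fi24TCData
import Cfsg.Agent.Lib.Helper6.TCRel3
import Cfsg.Agent.Lib.Helper6.Fi24TCRel12

/-! # Fi24: the kernel check of a part of the relators on the coset table -/

set_option autoImplicit false

namespace Cfsg.Agent.Lib.Helper6.Fi24TC

open Cfsg.Agent.Lib.Helper6.TC

theorem chk_pow12_0_0 : tab.minOKc [2, 5] 2 0 6712 = true := by decide +kernel

theorem chk_pow12_0_1 : tab.minOKc [2, 5] 2 6712 6712 = true := by decide +kernel

theorem chk_pow12_0_2 : tab.minOKc [2, 5] 2 13424 6712 = true := by decide +kernel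

theorem chk_pow12_0_3 : tab.minOKc [2, 5] 2 20136 6712 = true := by decide +kernel

theorem chk_pow12_0_4 : tab.minOKc [2, 5] 2 26848 6712 = true := by decide +kernel

theorem chk_pow12_0_5 : tab.minOKc [2, 5] 2 33560 6712 = true := by decide +kernel

theorem chk_pow12_0_6 : tab.minOKc [2, 5] 2 40272 6712 = true := by decide +kernel

theorem chk_pow12_0_7 : tab.minOKc [2, 5] 2 46984 6712 = true := by decide +kernel

theorem chk_pow12_0_8 : tab.minOKc [2, 5] 2 53696 6712 = true := by decide +kernel

theorem chk_pow12_0_9 : tab.minOKc [2, 5] 2 60408 6712 = true := by decide +kernel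

theorem chk_pow12_0_10 : tab.minOKc [2, 5] 2 67120 6712 = true := by decide +kernel

theorem chk_pow12_0_11 : tab.minOKc [2, 5] 2 73832 6712 = true := by decide +kernel

theorem chk_pow12_0_12 : tab.minOKc [2, 5] 2 80544 6712 = true := by decide +kernel

theorem chk_pow12_0_13 : tab.minOKc [2, 5] 2 87256 6712 = true := by decide +kernel

theorem chk_pow12_0_14 : tab.minOKc [2, 5] 2 93968 6712 = true := by decide +kernel

theorem chk_pow12_0 : tab.minOKc [2, 5] 2 0 100680 = true := by
  refine tab.minOKc_of_chunks [2, 5] 2 0 6712 15 (by norm_num) ?_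
  intro i hi
  interval_cases i
  · exact chk_pow12_0_0
  · exact chk_pow12_0_1
  · exact chk_pow12_0_2
  · exact chk_pow12_0_3
  · exact chk_pow12_0_4
  · exact chk_pow12_0_5
  · exact chk_pow12_0_6
  · exact chk_pow12_0_7
  · exact chk_pow12_0_8
  · exact chk_pow12_0_9
  · exact chk_pow12_0_10
  · exact chk_pow12_0_11
  · exact chk_pow12_0_12
  · exact chk_pow12_0_13
  · exact chk_pow12_0_14

theorem chk_pow12_1_0 : tab.minOKc [2, 5] 2 100680 6712 = true := by decide +kernel

theorem chk_pow12_1_1 : tab.minOKc [2, 5] 2 107392 6712 = true := by decide +kernel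

theorem chk_pow12_1_2 : tab.minOKc [2, 5] 2 114104 6712 = true := by decide +kernel

theorem chk_pow12_1_3 : tab.minOKc [2, 5] 2 120816 6712 = true := by decide +kernel

theorem chk_pow12_1_4 : tab.minOKc [2, 5] 2 127528 6712 = true := by decide +kernel

theorem chk_pow12_1_5 : tab.minOKc [2, 5] 2 134240 6712 = true := by decide +kernel

theorem chk_pow12_1_6 : tab.minOKc [2, 5] 2 140952 6712 = true := by decide +kernel

theorem chk_pow12_1_7 : tab.minOKc [2, 5] 2 147664 6712 = true := by decide +kernel

theorem chk_pow12_1_8 : tab.minOKc [2, 5] 2 154376 6712 = true := by decide +kernel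

theorem chk_pow12_1_9 : tab.minOKc [2, 5] 2 161088 6712 = true := by decide +kernel

theorem chk_pow12_1_10 : tab.minOKc [2, 5] 2 167800 6712 = true := by decide +kernel

theorem chk_pow12_1_11 : tab.minOKc [2, 5] 2 174512 6712 = true := by decide +kernel

theorem chk_pow12_1_12 : tab.minOKc [2, 5] 2 181224 6712 = true := by decide +kernel

theorem chk_pow12_1_13 : tab.minOKc [2, 5] 2 187936 6712 = true := by decide +kernel

theorem chk_pow12_1_14 : tab.minOKc [2, 5] 2 194648 6712 = true := by decide +kernel

theorem chk_pow12_1 : tab.minOKc [2, 5] 2 100680 100680 = true := by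
  refine tab.minOKc_of_chunks [2, 5] 2 100680 6712 15 (by norm_num) ?_
  intro i hi
  interval_cases i
  · exact chk_pow12_1_0
  · exact chk_pow12_1_1
  · exact chk_pow12_1_2
  · exact chk_pow12_1_3
  · exact chk_pow12_1_4
  · exact chk_pow12_1_5
  · exact chk_pow12_1_6
  · exact chk_pow12_1_7
  · exact chk_pow12_1_8
  · exact chk_pow12_1_9
  · exact chk_pow12_1_10
  · exact chk_pow12_1_11
  · exact chk_pow12_1_12
  · exact chk_pow12_1_13
  · exact chk_pow12_1_14

end Cfsg.Agent.Lib.Helper6.Fi24TC
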