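import Cfsg.Agent.Lib.Helper6.Fi24TCData
import Cfsg.Agent.Lib.Helper6.TCRel3
import Cfsg.Agent.Lib.Helper6.Fi24TCRel24

/-! # Fi24: the kernel check of a part of the relators on the coset table -/

set_option autoImplicit false

namespace Cfsg.Agent.Lib.Helper6.Fi24TC

open Cfsg.Agent.Lib.Helper6.TC

theorem chk_pow18_0_0 : tab.minOKc [3, 6] 2 0 6761 = true := by decide +kernel

theorem chk_pow18_0_1 : tab.minOKc [3, 6] 2 6761 6761 = true := by decide +kernel

theorem chk_pow18_0_2 : tab.minOKc [3, 6] 2 13522 6761 = true := by decide +kernel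

theorem chk_pow18_0_3 : tab.minOKc [3, 6] 2 20283 6761 = true := by decide +kernel

theorem chk_pow18_0_4 : tab.minOKc [3, 6] 2 27044 6761 = true := by decide +kernel

theorem chk_pow18_0_5 : tab.minOKc [3, 6] 2 33805 6761 = true := by decide +kernel

theorem chk_pow18_0_6 : tab.minOKc [3, 6] 2 40566 6761 = true := by decide +kernel

theorem chk_pow18_0_7 : tab.minOKc [3, 6] 2 47327 6761 = true := by decide +kernel

theorem chk_pow18_0_8 : tab.minOKc [3, 6] 2 54088 6761 = true := by decide +kernel

theorem chk_pow18_0_9 : tab.minOKc [3, 6] 2 60849 6761 = true := by decide +kernel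

theorem chk_pow18_0_10 : tab.minOKc [3, 6] 2 67610 6761 = true := by decide +kernel

theorem chk_pow18_0_11 : tab.minOKc [3, 6] 2 74371 6761 = true := by decide +kernel

theorem chk_pow18_0_12 : tab.minOKc [3, 6] 2 81132 6761 = true := by decide +kernel

theorem chk_pow18_0_13 : tab.minOKc [3, 6] 2 87893 6761 = true := by decide +kernel

theorem chk_pow18_0_14 : tab.minOKc [3, 6] 2 94654 6761 = true := by decide +kernel

theorem chk_pow18_0 : tab.minOKc [3, 6] 2 0 101415 = true := by
  refine tab.minOKc_of_chunks [3, 6] 2 0 6761 15 (by norm_num) ?_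
  intro i hi
  interval_cases i
  · exact chk_pow18_0_0
  · exact chk_pow18_0_1
  · exact chk_pow18_0_2
  · exact chk_pow18_0_3
  · exact chk_pow18_0_4
  · exact chk_pow18_0_5
  · exact chk_pow18_0_6
  · exact chk_pow18_0_7
  · exact chk_pow18_0_8
  · exact chk_pow18_0_9
  · exact chk_pow18_0_10
  · exact chk_pow18_0_11
  · exact chk_pow18_0_12
  · exact chk_pow18_0_13
  · exact chk_pow18_0_14

theorem chk_pow18_1_0 : tab.minOKc [3, 6] 2 101415 6761 = true := by decide +kernel

theorem chk_pow18_1_1 : tab.minOKc [3, 6] 2 108176 6761 = true := by decide +kernel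

theorem chk_pow18_1_2 : tab.minOKc [3, 6] 2 114937 6761 = true := by decide +kernel

theorem chk_pow18_1_3 : tab.minOKc [3, 6] 2 121698 6761 = true := by decide +kernel

theorem chk_pow18_1_4 : tab.minOKc [3, 6] 2 128459 6761 = true := by decide +kernel

theorem chk_pow18_1_5 : tab.minOKc [3, 6] 2 135220 6761 = true := by decide +kernel

theorem chk_pow18_1_6 : tab.minOKc [3, 6] 2 141981 6761 = true := by decide +kernel

theorem chk_pow18_1_7 : tab.minOKc [3, 6] 2 148742 6761 = true := by decide +kernel

theorem chk_pow18_1_8 : tab.minOKc [3, 6] 2 155503 6761 = true := by decide +kernel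

theorem chk_pow18_1_9 : tab.minOKc [3, 6] 2 162264 6761 = true := by decide +kernel

theorem chk_pow18_1_10 : tab.minOKc [3, 6] 2 169025 6761 = true := by decide +kernel

theorem chk_pow18_1_11 : tab.minOKc [3, 6] 2 175786 6761 = true := by decide +kernel

theorem chk_pow18_1_12 : tab.minOKc [3, 6] 2 182547 6761 = true := by decide +kernel

theorem chk_pow18_1_13 : tab.minOKc [3, 6] 2 189308 6761 = true := by decide +kernel

theorem chk_pow18_1_14 : tab.minOKc [3, 6] 2 196069 6761 = true := by decide +kernel

theorem chk_pow18_1 : tab.minOKc [3, 6] 2 101415 101415 = true := by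
  refine tab.minOKc_of_chunks [3, 6] 2 101415 6761 15 (by norm_num) ?_
  intro i hi
  interval_cases i
  · exact chk_pow18_1_0
  · exact chk_pow18_1_1
  · exact chk_pow18_1_2
  · exact chk_pow18_1_3
  · exact chk_pow18_1_4
  · exact chk_pow18_1_5
  · exact chk_pow18_1_6
  · exact chk_pow18_1_7
  · exact chk_pow18_1_8
  · exact chk_pow18_1_9
  · exact chk_pow18_1_10
  · exact chk_pow18_1_11
  · exact chk_pow18_1_12
  · exact chk_pow18_1_13
  · exact chk_pow18_1_14

end Cfsg.Agent.Lib.Helper6.Fi24TC
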