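import Cfsg.Agent.Lib.Helper6.Fi24TCData
import Cfsg.Agent.Lib.Helper6.TCRel3
import Cfsg.Agent.Lib.Helper6.Fi24TCRel36

/-! # Fi24: the kernel check of a part of the relators on the coset table -/

set_option autoImplicit false

namespace Cfsg.Agent.Lib.Helper6.Fi24TC

open Cfsg.Agent.Lib.Helper6.TC

theorem chk_pow24_0_0 : tab.minOKc [3, 7] 2 0 6742 = true := by decide +kernel

theorem chk_pow24_0_1 : tab.minOKc [3, 7] 2 6742 6742 = true := by decide +kernel

theorem chk_pow24_0_2 : tab.minOKc [3, 7] 2 13484 6742 = true := by decide +kernel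

theorem chk_pow24_0_3 : tab.minOKc [3, 7] 2 20226 6742 = true := by decide +kernel

theorem chk_pow24_0_4 : tab.minOKc [3, 7] 2 26968 6742 = true := by decide +kernel

theorem chk_pow24_0_5 : tab.minOKc [3, 7] 2 33710 6742 = true := by decide +kernel

theorem chk_pow24_0_6 : tab.minOKc [3, 7] 2 40452 6742 = true := by decide +kernel

theorem chk_pow24_0_7 : tab.minOKc [3, 7] 2 47194 6742 = true := by decide +kernel

theorem chk_pow24_0_8 : tab.minOKc [3, 7] 2 53936 6742 = true := by decide +kernel

theorem chk_pow24_0_9 : tab.minOKc [3, 7] 2 60678 6742 = true := by decide +kernel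

theorem chk_pow24_0_10 : tab.minOKc [3, 7] 2 67420 6742 = true := by decide +kernel

theorem chk_pow24_0_11 : tab.minOKc [3, 7] 2 74162 6742 = true := by decide +kernel

theorem chk_pow24_0_12 : tab.minOKc [3, 7] 2 80904 6742 = true := by decide +kernel

theorem chk_pow24_0_13 : tab.minOKc [3, 7] 2 87646 6742 = true := by decide +kernel

theorem chk_pow24_0_14 : tab.minOKc [3, 7] 2 94388 6742 = true := by decide +kernel

theorem chk_pow24_0 : tab.minOKc [3, 7] 2 0 101130 = true := by
  refine tab.minOKc_of_chunks [3, 7] 2 0 6742 15 (by norm_num) ?_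
  intro i hi
  interval_cases i
  · exact chk_pow24_0_0
  · exact chk_pow24_0_1
  · exact chk_pow24_0_2
  · exact chk_pow24_0_3
  · exact chk_pow24_0_4
  · exact chk_pow24_0_5
  · exact chk_pow24_0_6
  · exact chk_pow24_0_7
  · exact chk_pow24_0_8
  · exact chk_pow24_0_9
  · exact chk_pow24_0_10
  · exact chk_pow24_0_11
  · exact chk_pow24_0_12
  · exact chk_pow24_0_13
  · exact chk_pow24_0_14

theorem chk_pow24_1_0 : tab.minOKc [3, 7] 2 101130 6742 = true := by decide +kernel

theorem chk_pow24_1_1 : tab.minOKc [3, 7] 2 107872 6742 = true := by decide +kernel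

theorem chk_pow24_1_2 : tab.minOKc [3, 7] 2 114614 6742 = true := by decide +kernel

theorem chk_pow24_1_3 : tab.minOKc [3, 7] 2 121356 6742 = true := by decide +kernel

theorem chk_pow24_1_4 : tab.minOKc [3, 7] 2 128098 6742 = true := by decide +kernel

theorem chk_pow24_1_5 : tab.minOKc [3, 7] 2 134840 6742 = true := by decide +kernel

theorem chk_pow24_1_6 : tab.minOKc [3, 7] 2 141582 6742 = true := by decide +kernel

theorem chk_pow24_1_7 : tab.minOKc [3, 7] 2 148324 6742 = true := by decide +kernel

theorem chk_pow24_1_8 : tab.minOKc [3, 7] 2 155066 6742 = true := by decide +kernel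

theorem chk_pow24_1_9 : tab.minOKc [3, 7] 2 161808 6742 = true := by decide +kernel

theorem chk_pow24_1_10 : tab.minOKc [3, 7] 2 168550 6742 = true := by decide +kernel

theorem chk_pow24_1_11 : tab.minOKc [3, 7] 2 175292 6742 = true := by decide +kernel

theorem chk_pow24_1_12 : tab.minOKc [3, 7] 2 182034 6742 = true := by decide +kernel

theorem chk_pow24_1_13 : tab.minOKc [3, 7] 2 188776 6742 = true := by decide +kernel

theorem chk_pow24_1_14 : tab.minOKc [3, 7] 2 195518 6742 = true := by decide +kernel

theorem chk_pow24_1 : tab.minOKc [3, 7] 2 101130 101130 = true := by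
  refine tab.minOKc_of_chunks [3, 7] 2 101130 6742 15 (by norm_num) ?_
  intro i hi
  interval_cases i
  · exact chk_pow24_1_0
  · exact chk_pow24_1_1
  · exact chk_pow24_1_2
  · exact chk_pow24_1_3
  · exact chk_pow24_1_4
  · exact chk_pow24_1_5
  · exact chk_pow24_1_6
  · exact chk_pow24_1_7
  · exact chk_pow24_1_8
  · exact chk_pow24_1_9
  · exact chk_pow24_1_10
  · exact chk_pow24_1_11
  · exact chk_pow24_1_12
  · exact chk_pow24_1_13
  · exact chk_pow24_1_14

end Cfsg.Agent.Lib.Helper6.Fi24TC
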