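import Cfsg.Agent.Lib.Helper6.Fi24TCData
import Cfsg.Agent.Lib.Helper6.TCRel3
import Cfsg.Agent.Lib.Helper6.Fi24TCRel72

/-! # Fi24: the kernel check of a part of the relators on the coset table -/

set_option autoImplicit false

namespace Cfsg.Agent.Lib.Helper6.Fi24TC

open Cfsg.Agent.Lib.Helper6.TC

theorem chk_pow42_0_0 : tab.minOKc [6, 9] 2 0 6738 = true := by decide +kernel

theorem chk_pow42_0_1 : tab.minOKc [6, 9] 2 6738 6738 = true := by decide +kernel

theorem chk_pow42_0_2 : tab.minOKc [6, 9] 2 13476 6738 = true := by decide +kernel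

theorem chk_pow42_0_3 : tab.minOKc [6, 9] 2 20214 6738 = true := by decide +kernel

theorem chk_pow42_0_4 : tab.minOKc [6, 9] 2 26952 6738 = true := by decide +kernel

theorem chk_pow42_0_5 : tab.minOKc [6, 9] 2 33690 6738 = true := by decide +kernel

theorem chk_pow42_0_6 : tab.minOKc [6, 9] 2 40428 6738 = true := by decide +kernel

theorem chk_pow42_0_7 : tab.minOKc [6, 9] 2 47166 6738 = true := by decide +kernel

theorem chk_pow42_0_8 : tab.minOKc [6, 9] 2 53904 6738 = true := by decide +kernel

theorem chk_pow42_0_9 : tab.minOKc [6, 9] 2 60642 6738 = true := by decide +kernel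

theorem chk_pow42_0_10 : tab.minOKc [6, 9] 2 67380 6738 = true := by decide +kernel

theorem chk_pow42_0_11 : tab.minOKc [6, 9] 2 74118 6738 = true := by decide +kernel

theorem chk_pow42_0_12 : tab.minOKc [6, 9] 2 80856 6738 = true := by decide +kernel

theorem chk_pow42_0_13 : tab.minOKc [6, 9] 2 87594 6738 = true := by decide +kernel

theorem chk_pow42_0_14 : tab.minOKc [6, 9] 2 94332 6738 = true := by decide +kernel

theorem chk_pow42_0 : tab.minOKc [6, 9] 2 0 101070 = true := by
  refine tab.minOKc_of_chunks [6, 9] 2 0 6738 15 (by norm_num) ?_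
  intro i hi
  interval_cases i
  · exact chk_pow42_0_0
  · exact chk_pow42_0_1
  · exact chk_pow42_0_2
  · exact chk_pow42_0_3
  · exact chk_pow42_0_4
  · exact chk_pow42_0_5
  · exact chk_pow42_0_6
  · exact chk_pow42_0_7
  · exact chk_pow42_0_8
  · exact chk_pow42_0_9
  · exact chk_pow42_0_10
  · exact chk_pow42_0_11
  · exact chk_pow42_0_12
  · exact chk_pow42_0_13
  · exact chk_pow42_0_14

theorem chk_pow42_1_0 : tab.minOKc [6, 9] 2 101070 6738 = true := by decide +kernel

theorem chk_pow42_1_1 : tab.minOKc [6, 9] 2 107808 6738 = true := by decide +kernel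

theorem chk_pow42_1_2 : tab.minOKc [6, 9] 2 114546 6738 = true := by decide +kernel

theorem chk_pow42_1_3 : tab.minOKc [6, 9] 2 121284 6738 = true := by decide +kernel

theorem chk_pow42_1_4 : tab.minOKc [6, 9] 2 128022 6738 = true := by decide +kernel

theorem chk_pow42_1_5 : tab.minOKc [6, 9] 2 134760 6738 = true := by decide +kernel

theorem chk_pow42_1_6 : tab.minOKc [6, 9] 2 141498 6738 = true := by decide +kernel

theorem chk_pow42_1_7 : tab.minOKc [6, 9] 2 148236 6738 = true := by decide +kernel

theorem chk_pow42_1_8 : tab.minOKc [6, 9] 2 154974 6738 = true := by decide +kernel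

theorem chk_pow42_1_9 : tab.minOKc [6, 9] 2 161712 6738 = true := by decide +kernel

theorem chk_pow42_1_10 : tab.minOKc [6, 9] 2 168450 6738 = true := by decide +kernel

theorem chk_pow42_1_11 : tab.minOKc [6, 9] 2 175188 6738 = true := by decide +kernel

theorem chk_pow42_1_12 : tab.minOKc [6, 9] 2 181926 6738 = true := by decide +kernel

theorem chk_pow42_1_13 : tab.minOKc [6, 9] 2 188664 6738 = true := by decide +kernel

theorem chk_pow42_1_14 : tab.minOKc [6, 9] 2 195402 6738 = true := by decide +kernel

theorem chk_pow42_1 : tab.minOKc [6, 9] 2 101070 101070 = true := by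
  refine tab.minOKc_of_chunks [6, 9] 2 101070 6738 15 (by norm_num) ?_
  intro i hi
  interval_cases i
  · exact chk_pow42_1_0
  · exact chk_pow42_1_1
  · exact chk_pow42_1_2
  · exact chk_pow42_1_3
  · exact chk_pow42_1_4
  · exact chk_pow42_1_5
  · exact chk_pow42_1_6
  · exact chk_pow42_1_7
  · exact chk_pow42_1_8
  · exact chk_pow42_1_9
  · exact chk_pow42_1_10
  · exact chk_pow42_1_11
  · exact chk_pow42_1_12
  · exact chk_pow42_1_13
  · exact chk_pow42_1_14

end Cfsg.Agent.Lib.Helper6.Fi24TC
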