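import Cfsg.Agent.Lib.Helper6.Fi24TCData
import Cfsg.Agent.Lib.Helper6.TCRel3
import Cfsg.Agent.Lib.Helper6.Fi24TCRel84

/-! # Fi24: the kernel check of a part of the relators on the coset table -/

set_option autoImplicit false

namespace Cfsg.Agent.Lib.Helper6.Fi24TC

open Cfsg.Agent.Lib.Helper6.TC

theorem chk_pow48_0_0 : tab.minOKc [3, 10] 2 0 6745 = true := by decide +kernel

theorem chk_pow48_0_1 : tab.minOKc [3, 10] 2 6745 6745 = true := by decide +kernel

theorem chk_pow48_0_2 : tab.minOKc [3, 10] 2 13490 6745 = true := by decide +kernel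

theorem chk_pow48_0_3 : tab.minOKc [3, 10] 2 20235 6745 = true := by decide +kernel

theorem chk_pow48_0_4 : tab.minOKc [3, 10] 2 26980 6745 = true := by decide +kernel

theorem chk_pow48_0_5 : tab.minOKc [3, 10] 2 33725 6745 = true := by decide +kernel

theorem chk_pow48_0_6 : tab.minOKc [3, 10] 2 40470 6745 = true := by decide +kernel

theorem chk_pow48_0_7 : tab.minOKc [3, 10] 2 47215 6745 = true := by decide +kernel

theorem chk_pow48_0_8 : tab.minOKc [3, 10] 2 53960 6745 = true := by decide +kernel

theorem chk_pow48_0_9 : tab.minOKc [3, 10] 2 60705 6745 = true := by decide +kernel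

theorem chk_pow48_0_10 : tab.minOKc [3, 10] 2 67450 6745 = true := by decide +kernel

theorem chk_pow48_0_11 : tab.minOKc [3, 10] 2 74195 6745 = true := by decide +kernel

theorem chk_pow48_0_12 : tab.minOKc [3, 10] 2 80940 6745 = true := by decide +kernel

theorem chk_pow48_0_13 : tab.minOKc [3, 10] 2 87685 6745 = true := by decide +kernel

theorem chk_pow48_0_14 : tab.minOKc [3, 10] 2 94430 6745 = true := by decide +kernel

theorem chk_pow48_0 : tab.minOKc [3, 10] 2 0 101175 = true := by
  refine tab.minOKc_of_chunks [3, 10] 2 0 6745 15 (by norm_num) ?_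
  intro i hi
  interval_cases i
  · exact chk_pow48_0_0
  · exact chk_pow48_0_1
  · exact chk_pow48_0_2
  · exact chk_pow48_0_3
  · exact chk_pow48_0_4
  · exact chk_pow48_0_5
  · exact chk_pow48_0_6
  · exact chk_pow48_0_7
  · exact chk_pow48_0_8
  · exact chk_pow48_0_9
  · exact chk_pow48_0_10
  · exact chk_pow48_0_11
  · exact chk_pow48_0_12
  · exact chk_pow48_0_13
  · exact chk_pow48_0_14

theorem chk_pow48_1_0 : tab.minOKc [3, 10] 2 101175 6745 = true := by decide +kernel

theorem chk_pow48_1_1 : tab.minOKc [3, 10] 2 107920 6745 = true := by decide +kernel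

theorem chk_pow48_1_2 : tab.minOKc [3, 10] 2 114665 6745 = true := by decide +kernel

theorem chk_pow48_1_3 : tab.minOKc [3, 10] 2 121410 6745 = true := by decide +kernel

theorem chk_pow48_1_4 : tab.minOKc [3, 10] 2 128155 6745 = true := by decide +kernel

theorem chk_pow48_1_5 : tab.minOKc [3, 10] 2 134900 6745 = true := by decide +kernel

theorem chk_pow48_1_6 : tab.minOKc [3, 10] 2 141645 6745 = true := by decide +kernel

theorem chk_pow48_1_7 : tab.minOKc [3, 10] 2 148390 6745 = true := by decide +kernel

theorem chk_pow48_1_8 : tab.minOKc [3, 10] 2 155135 6745 = true := by decide +kernel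

theorem chk_pow48_1_9 : tab.minOKc [3, 10] 2 161880 6745 = true := by decide +kernel

theorem chk_pow48_1_10 : tab.minOKc [3, 10] 2 168625 6745 = true := by decide +kernel

theorem chk_pow48_1_11 : tab.minOKc [3, 10] 2 175370 6745 = true := by decide +kernel

theorem chk_pow48_1_12 : tab.minOKc [3, 10] 2 182115 6745 = true := by decide +kernel

theorem chk_pow48_1_13 : tab.minOKc [3, 10] 2 188860 6745 = true := by decide +kernel

theorem chk_pow48_1_14 : tab.minOKc [3, 10] 2 195605 6745 = true := by decide +kernel

theorem chk_pow48_1 : tab.minOKc [3, 10] 2 101175 101175 = true := by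
  refine tab.minOKc_of_chunks [3, 10] 2 101175 6745 15 (by norm_num) ?_
  intro i hi
  interval_cases i
  · exact chk_pow48_1_0
  · exact chk_pow48_1_1
  · exact chk_pow48_1_2
  · exact chk_pow48_1_3
  · exact chk_pow48_1_4
  · exact chk_pow48_1_5
  · exact chk_pow48_1_6
  · exact chk_pow48_1_7
  · exact chk_pow48_1_8
  · exact chk_pow48_1_9
  · exact chk_pow48_1_10
  · exact chk_pow48_1_11
  · exact chk_pow48_1_12
  · exact chk_pow48_1_13
  · exact chk_pow48_1_14

end Cfsg.Agent.Lib.Helper6.Fi24TC
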