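import Cfsg.Agent.Lib.Helper6.Fi24TCData
import Cfsg.Agent.Lib.Helper6.TCRel3
import Cfsg.Agent.Lib.Helper6.Fi24TCRel96

/-! # Fi24: the kernel check of a part of the relators on the coset table -/

set_option autoImplicit false

namespace Cfsg.Agent.Lib.Helper6.Fi24TC

open Cfsg.Agent.Lib.Helper6.TC

theorem chk_pow54_0_0 : tab.minOKc [9, 10] 2 0 6765 = true := by decide +kernel

theorem chk_pow54_0_1 : tab.minOKc [9, 10] 2 6765 6765 = true := by decide +kernel

theorem chk_pow54_0_2 : tab.minOKc [9, 10] 2 13530 6765 = true := by decide +kernel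

theorem chk_pow54_0_3 : tab.minOKc [9, 10] 2 20295 6765 = true := by decide +kernel

theorem chk_pow54_0_4 : tab.minOKc [9, 10] 2 27060 6765 = true := by decide +kernel

theorem chk_pow54_0_5 : tab.minOKc [9, 10] 2 33825 6765 = true := by decide +kernel

theorem chk_pow54_0_6 : tab.minOKc [9, 10] 2 40590 6765 = true := by decide +kernel

theorem chk_pow54_0_7 : tab.minOKc [9, 10] 2 47355 6765 = true := by decide +kernel

theorem chk_pow54_0_8 : tab.minOKc [9, 10] 2 54120 6765 = true := by decide +kernel

theorem chk_pow54_0_9 : tab.minOKc [9, 10] 2 60885 6765 = true := by decide +kernel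

theorem chk_pow54_0_10 : tab.minOKc [9, 10] 2 67650 6765 = true := by decide +kernel

theorem chk_pow54_0_11 : tab.minOKc [9, 10] 2 74415 6765 = true := by decide +kernel

theorem chk_pow54_0_12 : tab.minOKc [9, 10] 2 81180 6765 = true := by decide +kernel

theorem chk_pow54_0_13 : tab.minOKc [9, 10] 2 87945 6765 = true := by decide +kernel

theorem chk_pow54_0_14 : tab.minOKc [9, 10] 2 94710 6765 = true := by decide +kernel

theorem chk_pow54_0 : tab.minOKc [9, 10] 2 0 101475 = true := by
  refine tab.minOKc_of_chunks [9, 10] 2 0 6765 15 (by norm_num) ?_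
  intro i hi
  interval_cases i
  · exact chk_pow54_0_0
  · exact chk_pow54_0_1
  · exact chk_pow54_0_2
  · exact chk_pow54_0_3
  · exact chk_pow54_0_4
  · exact chk_pow54_0_5
  · exact chk_pow54_0_6
  · exact chk_pow54_0_7
  · exact chk_pow54_0_8
  · exact chk_pow54_0_9
  · exact chk_pow54_0_10
  · exact chk_pow54_0_11
  · exact chk_pow54_0_12
  · exact chk_pow54_0_13
  · exact chk_pow54_0_14

theorem chk_pow54_1_0 : tab.minOKc [9, 10] 2 101475 6765 = true := by decide +kernel

theorem chk_pow54_1_1 : tab.minOKc [9, 10] 2 108240 6765 = true := by decide +kernel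

theorem chk_pow54_1_2 : tab.minOKc [9, 10] 2 115005 6765 = true := by decide +kernel

theorem chk_pow54_1_3 : tab.minOKc [9, 10] 2 121770 6765 = true := by decide +kernel

theorem chk_pow54_1_4 : tab.minOKc [9, 10] 2 128535 6765 = true := by decide +kernel

theorem chk_pow54_1_5 : tab.minOKc [9, 10] 2 135300 6765 = true := by decide +kernel

theorem chk_pow54_1_6 : tab.minOKc [9, 10] 2 142065 6765 = true := by decide +kernel

theorem chk_pow54_1_7 : tab.minOKc [9, 10] 2 148830 6765 = true := by decide +kernel

theorem chk_pow54_1_8 : tab.minOKc [9, 10] 2 155595 6765 = true := by decide +kernel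

theorem chk_pow54_1_9 : tab.minOKc [9, 10] 2 162360 6765 = true := by decide +kernel

theorem chk_pow54_1_10 : tab.minOKc [9, 10] 2 169125 6765 = true := by decide +kernel

theorem chk_pow54_1_11 : tab.minOKc [9, 10] 2 175890 6765 = true := by decide +kernel

theorem chk_pow54_1_12 : tab.minOKc [9, 10] 2 182655 6765 = true := by decide +kernel

theorem chk_pow54_1_13 : tab.minOKc [9, 10] 2 189420 6765 = true := by decide +kernel

theorem chk_pow54_1_14 : tab.minOKc [9, 10] 2 196185 6765 = true := by decide +kernel

theorem chk_pow54_1 : tab.minOKc [9, 10] 2 101475 101475 = true := by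
  refine tab.minOKc_of_chunks [9, 10] 2 101475 6765 15 (by norm_num) ?_
  intro i hi
  interval_cases i
  · exact chk_pow54_1_0
  · exact chk_pow54_1_1
  · exact chk_pow54_1_2
  · exact chk_pow54_1_3
  · exact chk_pow54_1_4
  · exact chk_pow54_1_5
  · exact chk_pow54_1_6
  · exact chk_pow54_1_7
  · exact chk_pow54_1_8
  · exact chk_pow54_1_9
  · exact chk_pow54_1_10
  · exact chk_pow54_1_11
  · exact chk_pow54_1_12
  · exact chk_pow54_1_13
  · exact chk_pow54_1_14

end Cfsg.Agent.Lib.Helper6.Fi24TC
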