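import Cfsg.Agent.Lib.Helper6.Fi24TCData
import Cfsg.Agent.Lib.Helper6.TCRel3
import Cfsg.Agent.Lib.Helper6.Fi24TCRel1

/-! # Fi24: the kernel check of a part of the relators on the coset table -/

set_option autoImplicit false

namespace Cfsg.Agent.Lib.Helper6.Fi24TC

open Cfsg.Agent.Lib.Helper6.TC

theorem chk_pow6_2_0 : tab.minOKc [0, 4] 2 200820 6694 = true := by decide +kernel

theorem chk_pow6_2_1 : tab.minOKc [0, 4] 2 207514 6694 = true := by decide +kernel

theorem chk_pow6_2_2 : tab.minOKc [0, 4] 2 214208 6694 = true := by decide +kernel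

theorem chk_pow6_2_3 : tab.minOKc [0, 4] 2 220902 6694 = true := by decide +kernel

theorem chk_pow6_2_4 : tab.minOKc [0, 4] 2 227596 6694 = true := by decide +kernel

theorem chk_pow6_2_5 : tab.minOKc [0, 4] 2 234290 6694 = true := by decide +kernel

theorem chk_pow6_2_6 : tab.minOKc [0, 4] 2 240984 6694 = true := by decide +kernel

theorem chk_pow6_2_7 : tab.minOKc [0, 4] 2 247678 6694 = true := by decide +kernel

theorem chk_pow6_2_8 : tab.minOKc [0, 4] 2 254372 6694 = true := by decide +kernel

theorem chk_pow6_2_9 : tab.minOKc [0, 4] 2 261066 6694 = true := by decide +kernel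

theorem chk_pow6_2_10 : tab.minOKc [0, 4] 2 267760 6694 = true := by decide +kernel

theorem chk_pow6_2_11 : tab.minOKc [0, 4] 2 274454 6694 = true := by decide +kernel

theorem chk_pow6_2_12 : tab.minOKc [0, 4] 2 281148 6694 = true := by decide +kernel

theorem chk_pow6_2_13 : tab.minOKc [0, 4] 2 287842 6694 = true := by decide +kernel

theorem chk_pow6_2_14 : tab.minOKc [0, 4] 2 294536 6694 = true := by decide +kernel

theorem chk_pow6_2 : tab.minOKc [0, 4] 2 200820 100410 = true := by
  refine tab.minOKc_of_chunks [0, 4] 2 200820 6694 15 (by norm_num) ?_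
  intro i hi
  interval_cases i
  · exact chk_pow6_2_0
  · exact chk_pow6_2_1
  · exact chk_pow6_2_2
  · exact chk_pow6_2_3
  · exact chk_pow6_2_4
  · exact chk_pow6_2_5
  · exact chk_pow6_2_6
  · exact chk_pow6_2_7
  · exact chk_pow6_2_8
  · exact chk_pow6_2_9
  · exact chk_pow6_2_10
  · exact chk_pow6_2_11
  · exact chk_pow6_2_12
  · exact chk_pow6_2_13
  · exact chk_pow6_2_14

theorem chk_pow6_3_0 : tab.minOKc [0, 4] 2 301230 6694 = true := by decide +kernel

theorem chk_pow6_3_1 : tab.minOKc [0, 4] 2 307924 6694 = true := by decide +kernel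

theorem chk_pow6_3_2 : tab.minOKc [0, 4] 2 314618 6694 = true := by decide +kernel

theorem chk_pow6_3_3 : tab.minOKc [0, 4] 2 321312 6694 = true := by decide +kernel

theorem chk_pow6_3_4 : tab.minOKc [0, 4] 2 328006 6694 = true := by decide +kernel

theorem chk_pow6_3_5 : tab.minOKc [0, 4] 2 334700 6694 = true := by decide +kernel

theorem chk_pow6_3_6 : tab.minOKc [0, 4] 2 341394 6694 = true := by decide +kernel

theorem chk_pow6_3_7 : tab.minOKc [0, 4] 2 348088 6694 = true := by decide +kernel

theorem chk_pow6_3_8 : tab.minOKc [0, 4] 2 354782 6694 = true := by decide +kernel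

theorem chk_pow6_3_9 : tab.minOKc [0, 4] 2 361476 6694 = true := by decide +kernel

theorem chk_pow6_3_10 : tab.minOKc [0, 4] 2 368170 6694 = true := by decide +kernel

theorem chk_pow6_3_11 : tab.minOKc [0, 4] 2 374864 6694 = true := by decide +kernel

theorem chk_pow6_3_12 : tab.minOKc [0, 4] 2 381558 6694 = true := by decide +kernel

theorem chk_pow6_3_13 : tab.minOKc [0, 4] 2 388252 6694 = true := by decide +kernel

theorem chk_pow6_3_14 : tab.minOKc [0, 4] 2 394946 6694 = true := by decide +kernel

theorem chk_pow6_3 : tab.minOKc [0, 4] 2 301230 100410 = true := by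
  refine tab.minOKc_of_chunks [0, 4] 2 301230 6694 15 (by norm_num) ?_
  intro i hi
  interval_cases i
  · exact chk_pow6_3_0
  · exact chk_pow6_3_1
  · exact chk_pow6_3_2
  · exact chk_pow6_3_3
  · exact chk_pow6_3_4
  · exact chk_pow6_3_5
  · exact chk_pow6_3_6
  · exact chk_pow6_3_7
  · exact chk_pow6_3_8
  · exact chk_pow6_3_9
  · exact chk_pow6_3_10
  · exact chk_pow6_3_11
  · exact chk_pow6_3_12
  · exact chk_pow6_3_13
  · exact chk_pow6_3_14

end Cfsg.Agent.Lib.Helper6.Fi24TC
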