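import Cfsg.Agent.Lib.Helper6.Fi24TCData
import Cfsg.Agent.Lib.Helper6.TCRel3
import Cfsg.Agent.Lib.Helper6.Fi24TCRel13

/-! # Fi24: the kernel check of a part of the relators on the coset table -/

set_option autoImplicit false

namespace Cfsg.Agent.Lib.Helper6.Fi24TC

open Cfsg.Agent.Lib.Helper6.TC

theorem chk_pow12_2_0 : tab.minOKc [2, 5] 2 201360 6712 = true := by decide +kernel

theorem chk_pow12_2_1 : tab.minOKc [2, 5] 2 208072 6712 = true := by decide +kernel

theorem chk_pow12_2_2 : tab.minOKc [2, 5] 2 214784 6712 = true := by decide +kernel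

theorem chk_pow12_2_3 : tab.minOKc [2, 5] 2 221496 6712 = true := by decide +kernel

theorem chk_pow12_2_4 : tab.minOKc [2, 5] 2 228208 6712 = true := by decide +kernel

theorem chk_pow12_2_5 : tab.minOKc [2, 5] 2 234920 6712 = true := by decide +kernel

theorem chk_pow12_2_6 : tab.minOKc [2, 5] 2 241632 6712 = true := by decide +kernel

theorem chk_pow12_2_7 : tab.minOKc [2, 5] 2 248344 6712 = true := by decide +kernel

theorem chk_pow12_2_8 : tab.minOKc [2, 5] 2 255056 6712 = true := by decide +kernel

theorem chk_pow12_2_9 : tab.minOKc [2, 5] 2 261768 6712 = true := by decide +kernel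

theorem chk_pow12_2_10 : tab.minOKc [2, 5] 2 268480 6712 = true := by decide +kernel

theorem chk_pow12_2_11 : tab.minOKc [2, 5] 2 275192 6712 = true := by decide +kernel

theorem chk_pow12_2_12 : tab.minOKc [2, 5] 2 281904 6712 = true := by decide +kernel

theorem chk_pow12_2_13 : tab.minOKc [2, 5] 2 288616 6712 = true := by decide +kernel

theorem chk_pow12_2_14 : tab.minOKc [2, 5] 2 295328 6712 = true := by decide +kernel

theorem chk_pow12_2 : tab.minOKc [2, 5] 2 201360 100680 = true := by
  refine tab.minOKc_of_chunks [2, 5] 2 201360 6712 15 (by norm_num) ?_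
  intro i hi
  interval_cases i
  · exact chk_pow12_2_0
  · exact chk_pow12_2_1
  · exact chk_pow12_2_2
  · exact chk_pow12_2_3
  · exact chk_pow12_2_4
  · exact chk_pow12_2_5
  · exact chk_pow12_2_6
  · exact chk_pow12_2_7
  · exact chk_pow12_2_8
  · exact chk_pow12_2_9
  · exact chk_pow12_2_10
  · exact chk_pow12_2_11
  · exact chk_pow12_2_12
  · exact chk_pow12_2_13
  · exact chk_pow12_2_14

theorem chk_pow12_3_0 : tab.minOKc [2, 5] 2 302040 6712 = true := by decide +kernel

theorem chk_pow12_3_1 : tab.minOKc [2, 5] 2 308752 6712 = true := by decide +kernel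

theorem chk_pow12_3_2 : tab.minOKc [2, 5] 2 315464 6712 = true := by decide +kernel

theorem chk_pow12_3_3 : tab.minOKc [2, 5] 2 322176 6712 = true := by decide +kernel

theorem chk_pow12_3_4 : tab.minOKc [2, 5] 2 328888 6712 = true := by decide +kernel

theorem chk_pow12_3_5 : tab.minOKc [2, 5] 2 335600 6712 = true := by decide +kernel

theorem chk_pow12_3_6 : tab.minOKc [2, 5] 2 342312 6712 = true := by decide +kernel

theorem chk_pow12_3_7 : tab.minOKc [2, 5] 2 349024 6712 = true := by decide +kernel

theorem chk_pow12_3_8 : tab.minOKc [2, 5] 2 355736 6712 = true := by decide +kernel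

theorem chk_pow12_3_9 : tab.minOKc [2, 5] 2 362448 6712 = true := by decide +kernel

theorem chk_pow12_3_10 : tab.minOKc [2, 5] 2 369160 6712 = true := by decide +kernel

theorem chk_pow12_3_11 : tab.minOKc [2, 5] 2 375872 6712 = true := by decide +kernel

theorem chk_pow12_3_12 : tab.minOKc [2, 5] 2 382584 6712 = true := by decide +kernel

theorem chk_pow12_3_13 : tab.minOKc [2, 5] 2 389296 6712 = true := by decide +kernel

theorem chk_pow12_3_14 : tab.minOKc [2, 5] 2 396008 6712 = true := by decide +kernel

theorem chk_pow12_3 : tab.minOKc [2, 5] 2 302040 100680 = true := by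
  refine tab.minOKc_of_chunks [2, 5] 2 302040 6712 15 (by norm_num) ?_
  intro i hi
  interval_cases i
  · exact chk_pow12_3_0
  · exact chk_pow12_3_1
  · exact chk_pow12_3_2
  · exact chk_pow12_3_3
  · exact chk_pow12_3_4
  · exact chk_pow12_3_5
  · exact chk_pow12_3_6
  · exact chk_pow12_3_7
  · exact chk_pow12_3_8
  · exact chk_pow12_3_9
  · exact chk_pow12_3_10
  · exact chk_pow12_3_11
  · exact chk_pow12_3_12
  · exact chk_pow12_3_13
  · exact chk_pow12_3_14

end Cfsg.Agent.Lib.Helper6.Fi24TC
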