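import Cfsg.Agent.Lib.Helper6.Fi24TCData
import Cfsg.Agent.Lib.Helper6.TCRel3
import Cfsg.Agent.Lib.Helper6.Fi24TCRel25

/-! # Fi24: the kernel check of a part of the relators on the coset table -/

set_option autoImplicit false

namespace Cfsg.Agent.Lib.Helper6.Fi24TC

open Cfsg.Agent.Lib.Helper6.TC

theorem chk_pow18_2_0 : tab.minOKc [3, 6] 2 202830 6761 = true := by decide +kernel

theorem chk_pow18_2_1 : tab.minOKc [3, 6] 2 209591 6761 = true := by decide +kernel

theorem chk_pow18_2_2 : tab.minOKc [3, 6] 2 216352 6761 = true := by decide +kernel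

theorem chk_pow18_2_3 : tab.minOKc [3, 6] 2 223113 6761 = true := by decide +kernel

theorem chk_pow18_2_4 : tab.minOKc [3, 6] 2 229874 6761 = true := by decide +kernel

theorem chk_pow18_2_5 : tab.minOKc [3, 6] 2 236635 6761 = true := by decide +kernel

theorem chk_pow18_2_6 : tab.minOKc [3, 6] 2 243396 6761 = true := by decide +kernel

theorem chk_pow18_2_7 : tab.minOKc [3, 6] 2 250157 6761 = true := by decide +kernel

theorem chk_pow18_2_8 : tab.minOKc [3, 6] 2 256918 6761 = true := by decide +kernel

theorem chk_pow18_2_9 : tab.minOKc [3, 6] 2 263679 6761 = true := by decide +kernel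

theorem chk_pow18_2_10 : tab.minOKc [3, 6] 2 270440 6761 = true := by decide +kernel

theorem chk_pow18_2_11 : tab.minOKc [3, 6] 2 277201 6761 = true := by decide +kernel

theorem chk_pow18_2_12 : tab.minOKc [3, 6] 2 283962 6761 = true := by decide +kernel

theorem chk_pow18_2_13 : tab.minOKc [3, 6] 2 290723 6761 = true := by decide +kernel

theorem chk_pow18_2_14 : tab.minOKc [3, 6] 2 297484 6761 = true := by decide +kernel

theorem chk_pow18_2 : tab.minOKc [3, 6] 2 202830 101415 = true := by
  refine tab.minOKc_of_chunks [3, 6] 2 202830 6761 15 (by norm_num) ?_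
  intro i hi
  interval_cases i
  · exact chk_pow18_2_0
  · exact chk_pow18_2_1
  · exact chk_pow18_2_2
  · exact chk_pow18_2_3
  · exact chk_pow18_2_4
  · exact chk_pow18_2_5
  · exact chk_pow18_2_6
  · exact chk_pow18_2_7
  · exact chk_pow18_2_8
  · exact chk_pow18_2_9
  · exact chk_pow18_2_10
  · exact chk_pow18_2_11
  · exact chk_pow18_2_12
  · exact chk_pow18_2_13
  · exact chk_pow18_2_14

theorem chk_pow18_3_0 : tab.minOKc [3, 6] 2 304245 6761 = true := by decide +kernel

theorem chk_pow18_3_1 : tab.minOKc [3, 6] 2 311006 6761 = true := by decide +kernel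

theorem chk_pow18_3_2 : tab.minOKc [3, 6] 2 317767 6761 = true := by decide +kernel

theorem chk_pow18_3_3 : tab.minOKc [3, 6] 2 324528 6761 = true := by decide +kernel

theorem chk_pow18_3_4 : tab.minOKc [3, 6] 2 331289 6761 = true := by decide +kernel

theorem chk_pow18_3_5 : tab.minOKc [3, 6] 2 338050 6761 = true := by decide +kernel

theorem chk_pow18_3_6 : tab.minOKc [3, 6] 2 344811 6761 = true := by decide +kernel

theorem chk_pow18_3_7 : tab.minOKc [3, 6] 2 351572 6761 = true := by decide +kernel

theorem chk_pow18_3_8 : tab.minOKc [3, 6] 2 358333 6761 = true := by decide +kernel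

theorem chk_pow18_3_9 : tab.minOKc [3, 6] 2 365094 6761 = true := by decide +kernel

theorem chk_pow18_3_10 : tab.minOKc [3, 6] 2 371855 6761 = true := by decide +kernel

theorem chk_pow18_3_11 : tab.minOKc [3, 6] 2 378616 6761 = true := by decide +kernel

theorem chk_pow18_3_12 : tab.minOKc [3, 6] 2 385377 6761 = true := by decide +kernel

theorem chk_pow18_3_13 : tab.minOKc [3, 6] 2 392138 6761 = true := by decide +kernel

theorem chk_pow18_3_14 : tab.minOKc [3, 6] 2 398899 6761 = true := by decide +kernel

theorem chk_pow18_3 : tab.minOKc [3, 6] 2 304245 101415 = true := by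
  refine tab.minOKc_of_chunks [3, 6] 2 304245 6761 15 (by norm_num) ?_
  intro i hi
  interval_cases i
  · exact chk_pow18_3_0
  · exact chk_pow18_3_1
  · exact chk_pow18_3_2
  · exact chk_pow18_3_3
  · exact chk_pow18_3_4
  · exact chk_pow18_3_5
  · exact chk_pow18_3_6
  · exact chk_pow18_3_7
  · exact chk_pow18_3_8
  · exact chk_pow18_3_9
  · exact chk_pow18_3_10
  · exact chk_pow18_3_11
  · exact chk_pow18_3_12
  · exact chk_pow18_3_13
  · exact chk_pow18_3_14

end Cfsg.Agent.Lib.Helper6.Fi24TC
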