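import Cfsg.Agent.Lib.Helper6.Fi24TCData
import Cfsg.Agent.Lib.Helper6.TCRel3
import Cfsg.Agent.Lib.Helper6.Fi24TCRel37

/-! # Fi24: the kernel check of a part of the relators on the coset table -/

set_option autoImplicit false

namespace Cfsg.Agent.Lib.Helper6.Fi24TC

open Cfsg.Agent.Lib.Helper6.TC

theorem chk_pow24_2_0 : tab.minOKc [3, 7] 2 202260 6742 = true := by decide +kernel

theorem chk_pow24_2_1 : tab.minOKc [3, 7] 2 209002 6742 = true := by decide +kernel

theorem chk_pow24_2_2 : tab.minOKc [3, 7] 2 215744 6742 = true := by decide +kernel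

theorem chk_pow24_2_3 : tab.minOKc [3, 7] 2 222486 6742 = true := by decide +kernel

theorem chk_pow24_2_4 : tab.minOKc [3, 7] 2 229228 6742 = true := by decide +kernel

theorem chk_pow24_2_5 : tab.minOKc [3, 7] 2 235970 6742 = true := by decide +kernel

theorem chk_pow24_2_6 : tab.minOKc [3, 7] 2 242712 6742 = true := by decide +kernel

theorem chk_pow24_2_7 : tab.minOKc [3, 7] 2 249454 6742 = true := by decide +kernel

theorem chk_pow24_2_8 : tab.minOKc [3, 7] 2 256196 6742 = true := by decide +kernel

theorem chk_pow24_2_9 : tab.minOKc [3, 7] 2 262938 6742 = true := by decide +kernel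

theorem chk_pow24_2_10 : tab.minOKc [3, 7] 2 269680 6742 = true := by decide +kernel

theorem chk_pow24_2_11 : tab.minOKc [3, 7] 2 276422 6742 = true := by decide +kernel

theorem chk_pow24_2_12 : tab.minOKc [3, 7] 2 283164 6742 = true := by decide +kernel

theorem chk_pow24_2_13 : tab.minOKc [3, 7] 2 289906 6742 = true := by decide +kernel

theorem chk_pow24_2_14 : tab.minOKc [3, 7] 2 296648 6742 = true := by decide +kernel

theorem chk_pow24_2 : tab.minOKc [3, 7] 2 202260 101130 = true := by
  refine tab.minOKc_of_chunks [3, 7] 2 202260 6742 15 (by norm_num) ?_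
  intro i hi
  interval_cases i
  · exact chk_pow24_2_0
  · exact chk_pow24_2_1
  · exact chk_pow24_2_2
  · exact chk_pow24_2_3
  · exact chk_pow24_2_4
  · exact chk_pow24_2_5
  · exact chk_pow24_2_6
  · exact chk_pow24_2_7
  · exact chk_pow24_2_8
  · exact chk_pow24_2_9
  · exact chk_pow24_2_10
  · exact chk_pow24_2_11
  · exact chk_pow24_2_12
  · exact chk_pow24_2_13
  · exact chk_pow24_2_14

theorem chk_pow24_3_0 : tab.minOKc [3, 7] 2 303390 6742 = true := by decide +kernel

theorem chk_pow24_3_1 : tab.minOKc [3, 7] 2 310132 6742 = true := by decide +kernel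

theorem chk_pow24_3_2 : tab.minOKc [3, 7] 2 316874 6742 = true := by decide +kernel

theorem chk_pow24_3_3 : tab.minOKc [3, 7] 2 323616 6742 = true := by decide +kernel

theorem chk_pow24_3_4 : tab.minOKc [3, 7] 2 330358 6742 = true := by decide +kernel

theorem chk_pow24_3_5 : tab.minOKc [3, 7] 2 337100 6742 = true := by decide +kernel

theorem chk_pow24_3_6 : tab.minOKc [3, 7] 2 343842 6742 = true := by decide +kernel

theorem chk_pow24_3_7 : tab.minOKc [3, 7] 2 350584 6742 = true := by decide +kernel

theorem chk_pow24_3_8 : tab.minOKc [3, 7] 2 357326 6742 = true := by decide +kernel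

theorem chk_pow24_3_9 : tab.minOKc [3, 7] 2 364068 6742 = true := by decide +kernel

theorem chk_pow24_3_10 : tab.minOKc [3, 7] 2 370810 6742 = true := by decide +kernel

theorem chk_pow24_3_11 : tab.minOKc [3, 7] 2 377552 6742 = true := by decide +kernel

theorem chk_pow24_3_12 : tab.minOKc [3, 7] 2 384294 6742 = true := by decide +kernel

theorem chk_pow24_3_13 : tab.minOKc [3, 7] 2 391036 6742 = true := by decide +kernel

theorem chk_pow24_3_14 : tab.minOKc [3, 7] 2 397778 6742 = true := by decide +kernel

theorem chk_pow24_3 : tab.minOKc [3, 7] 2 303390 101130 = true := by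
  refine tab.minOKc_of_chunks [3, 7] 2 303390 6742 15 (by norm_num) ?_
  intro i hi
  interval_cases i
  · exact chk_pow24_3_0
  · exact chk_pow24_3_1
  · exact chk_pow24_3_2
  · exact chk_pow24_3_3
  · exact chk_pow24_3_4
  · exact chk_pow24_3_5
  · exact chk_pow24_3_6
  · exact chk_pow24_3_7
  · exact chk_pow24_3_8
  · exact chk_pow24_3_9
  · exact chk_pow24_3_10
  · exact chk_pow24_3_11
  · exact chk_pow24_3_12
  · exact chk_pow24_3_13
  · exact chk_pow24_3_14

end Cfsg.Agent.Lib.Helper6.Fi24TC
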