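import Cfsg.Agent.Lib.Helper6.Fi24TCData
import Cfsg.Agent.Lib.Helper6.TCRel3
import Cfsg.Agent.Lib.Helper6.Fi24TCRel49

/-! # Fi24: the kernel check of a part of the relators on the coset table -/

set_option autoImplicit false

namespace Cfsg.Agent.Lib.Helper6.Fi24TC

open Cfsg.Agent.Lib.Helper6.TC

theorem chk_pow30_2_0 : tab.minOKc [2, 8] 2 201270 6709 = true := by decide +kernel

theorem chk_pow30_2_1 : tab.minOKc [2, 8] 2 207979 6709 = true := by decide +kernel

theorem chk_pow30_2_2 : tab.minOKc [2, 8] 2 214688 6709 = true := by decide +kernel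

theorem chk_pow30_2_3 : tab.minOKc [2, 8] 2 221397 6709 = true := by decide +kernel

theorem chk_pow30_2_4 : tab.minOKc [2, 8] 2 228106 6709 = true := by decide +kernel

theorem chk_pow30_2_5 : tab.minOKc [2, 8] 2 234815 6709 = true := by decide +kernel

theorem chk_pow30_2_6 : tab.minOKc [2, 8] 2 241524 6709 = true := by decide +kernel

theorem chk_pow30_2_7 : tab.minOKc [2, 8] 2 248233 6709 = true := by decide +kernel

theorem chk_pow30_2_8 : tab.minOKc [2, 8] 2 254942 6709 = true := by decide +kernel

theorem chk_pow30_2_9 : tab.minOKc [2, 8] 2 261651 6709 = true := by decide +kernel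

theorem chk_pow30_2_10 : tab.minOKc [2, 8] 2 268360 6709 = true := by decide +kernel

theorem chk_pow30_2_11 : tab.minOKc [2, 8] 2 275069 6709 = true := by decide +kernel

theorem chk_pow30_2_12 : tab.minOKc [2, 8] 2 281778 6709 = true := by decide +kernel

theorem chk_pow30_2_13 : tab.minOKc [2, 8] 2 288487 6709 = true := by decide +kernel

theorem chk_pow30_2_14 : tab.minOKc [2, 8] 2 295196 6709 = true := by decide +kernel

theorem chk_pow30_2 : tab.minOKc [2, 8] 2 201270 100635 = true := by
  refine tab.minOKc_of_chunks [2, 8] 2 201270 6709 15 (by norm_num) ?_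
  intro i hi
  interval_cases i
  · exact chk_pow30_2_0
  · exact chk_pow30_2_1
  · exact chk_pow30_2_2
  · exact chk_pow30_2_3
  · exact chk_pow30_2_4
  · exact chk_pow30_2_5
  · exact chk_pow30_2_6
  · exact chk_pow30_2_7
  · exact chk_pow30_2_8
  · exact chk_pow30_2_9
  · exact chk_pow30_2_10
  · exact chk_pow30_2_11
  · exact chk_pow30_2_12
  · exact chk_pow30_2_13
  · exact chk_pow30_2_14

theorem chk_pow30_3_0 : tab.minOKc [2, 8] 2 301905 6709 = true := by decide +kernel

theorem chk_pow30_3_1 : tab.minOKc [2, 8] 2 308614 6709 = true := by decide +kernel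

theorem chk_pow30_3_2 : tab.minOKc [2, 8] 2 315323 6709 = true := by decide +kernel

theorem chk_pow30_3_3 : tab.minOKc [2, 8] 2 322032 6709 = true := by decide +kernel

theorem chk_pow30_3_4 : tab.minOKc [2, 8] 2 328741 6709 = true := by decide +kernel

theorem chk_pow30_3_5 : tab.minOKc [2, 8] 2 335450 6709 = true := by decide +kernel

theorem chk_pow30_3_6 : tab.minOKc [2, 8] 2 342159 6709 = true := by decide +kernel

theorem chk_pow30_3_7 : tab.minOKc [2, 8] 2 348868 6709 = true := by decide +kernel

theorem chk_pow30_3_8 : tab.minOKc [2, 8] 2 355577 6709 = true := by decide +kernel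

theorem chk_pow30_3_9 : tab.minOKc [2, 8] 2 362286 6709 = true := by decide +kernel

theorem chk_pow30_3_10 : tab.minOKc [2, 8] 2 368995 6709 = true := by decide +kernel

theorem chk_pow30_3_11 : tab.minOKc [2, 8] 2 375704 6709 = true := by decide +kernel

theorem chk_pow30_3_12 : tab.minOKc [2, 8] 2 382413 6709 = true := by decide +kernel

theorem chk_pow30_3_13 : tab.minOKc [2, 8] 2 389122 6709 = true := by decide +kernel

theorem chk_pow30_3_14 : tab.minOKc [2, 8] 2 395831 6709 = true := by decide +kernel

theorem chk_pow30_3 : tab.minOKc [2, 8] 2 301905 100635 = true := by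
  refine tab.minOKc_of_chunks [2, 8] 2 301905 6709 15 (by norm_num) ?_
  intro i hi
  interval_cases i
  · exact chk_pow30_3_0
  · exact chk_pow30_3_1
  · exact chk_pow30_3_2
  · exact chk_pow30_3_3
  · exact chk_pow30_3_4
  · exact chk_pow30_3_5
  · exact chk_pow30_3_6
  · exact chk_pow30_3_7
  · exact chk_pow30_3_8
  · exact chk_pow30_3_9
  · exact chk_pow30_3_10
  · exact chk_pow30_3_11
  · exact chk_pow30_3_12
  · exact chk_pow30_3_13
  · exact chk_pow30_3_14

end Cfsg.Agent.Lib.Helper6.Fi24TC
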