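import Cfsg.Agent.Lib.Helper6.Fi24TCData
import Cfsg.Agent.Lib.Helper6.TCRel3
import Cfsg.Agent.Lib.Helper6.Fi24TCRel61

/-! # Fi24: the kernel check of a part of the relators on the coset table -/

set_option autoImplicit false

namespace Cfsg.Agent.Lib.Helper6.Fi24TC

open Cfsg.Agent.Lib.Helper6.TC

theorem chk_pow36_2_0 : tab.minOKc [0, 9] 2 199530 6651 = true := by decide +kernel

theorem chk_pow36_2_1 : tab.minOKc [0, 9] 2 206181 6651 = true := by decide +kernel

theorem chk_pow36_2_2 : tab.minOKc [0, 9] 2 212832 6651 = true := by decide +kernel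

theorem chk_pow36_2_3 : tab.minOKc [0, 9] 2 219483 6651 = true := by decide +kernel

theorem chk_pow36_2_4 : tab.minOKc [0, 9] 2 226134 6651 = true := by decide +kernel

theorem chk_pow36_2_5 : tab.minOKc [0, 9] 2 232785 6651 = true := by decide +kernel

theorem chk_pow36_2_6 : tab.minOKc [0, 9] 2 239436 6651 = true := by decide +kernel

theorem chk_pow36_2_7 : tab.minOKc [0, 9] 2 246087 6651 = true := by decide +kernel

theorem chk_pow36_2_8 : tab.minOKc [0, 9] 2 252738 6651 = true := by decide +kernel

theorem chk_pow36_2_9 : tab.minOKc [0, 9] 2 259389 6651 = true := by decide +kernel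

theorem chk_pow36_2_10 : tab.minOKc [0, 9] 2 266040 6651 = true := by decide +kernel

theorem chk_pow36_2_11 : tab.minOKc [0, 9] 2 272691 6651 = true := by decide +kernel

theorem chk_pow36_2_12 : tab.minOKc [0, 9] 2 279342 6651 = true := by decide +kernel

theorem chk_pow36_2_13 : tab.minOKc [0, 9] 2 285993 6651 = true := by decide +kernel

theorem chk_pow36_2_14 : tab.minOKc [0, 9] 2 292644 6651 = true := by decide +kernel

theorem chk_pow36_2 : tab.minOKc [0, 9] 2 199530 99765 = true := by
  refine tab.minOKc_of_chunks [0, 9] 2 199530 6651 15 (by norm_num) ?_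
  intro i hi
  interval_cases i
  · exact chk_pow36_2_0
  · exact chk_pow36_2_1
  · exact chk_pow36_2_2
  · exact chk_pow36_2_3
  · exact chk_pow36_2_4
  · exact chk_pow36_2_5
  · exact chk_pow36_2_6
  · exact chk_pow36_2_7
  · exact chk_pow36_2_8
  · exact chk_pow36_2_9
  · exact chk_pow36_2_10
  · exact chk_pow36_2_11
  · exact chk_pow36_2_12
  · exact chk_pow36_2_13
  · exact chk_pow36_2_14

theorem chk_pow36_3_0 : tab.minOKc [0, 9] 2 299295 6651 = true := by decide +kernel

theorem chk_pow36_3_1 : tab.minOKc [0, 9] 2 305946 6651 = true := by decide +kernel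

theorem chk_pow36_3_2 : tab.minOKc [0, 9] 2 312597 6651 = true := by decide +kernel

theorem chk_pow36_3_3 : tab.minOKc [0, 9] 2 319248 6651 = true := by decide +kernel

theorem chk_pow36_3_4 : tab.minOKc [0, 9] 2 325899 6651 = true := by decide +kernel

theorem chk_pow36_3_5 : tab.minOKc [0, 9] 2 332550 6651 = true := by decide +kernel

theorem chk_pow36_3_6 : tab.minOKc [0, 9] 2 339201 6651 = true := by decide +kernel

theorem chk_pow36_3_7 : tab.minOKc [0, 9] 2 345852 6651 = true := by decide +kernel

theorem chk_pow36_3_8 : tab.minOKc [0, 9] 2 352503 6651 = true := by decide +kernel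

theorem chk_pow36_3_9 : tab.minOKc [0, 9] 2 359154 6651 = true := by decide +kernel

theorem chk_pow36_3_10 : tab.minOKc [0, 9] 2 365805 6651 = true := by decide +kernel

theorem chk_pow36_3_11 : tab.minOKc [0, 9] 2 372456 6651 = true := by decide +kernel

theorem chk_pow36_3_12 : tab.minOKc [0, 9] 2 379107 6651 = true := by decide +kernel

theorem chk_pow36_3_13 : tab.minOKc [0, 9] 2 385758 6651 = true := by decide +kernel

theorem chk_pow36_3_14 : tab.minOKc [0, 9] 2 392409 6651 = true := by decide +kernel

theorem chk_pow36_3 : tab.minOKc [0, 9] 2 299295 99765 = true := by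
  refine tab.minOKc_of_chunks [0, 9] 2 299295 6651 15 (by norm_num) ?_
  intro i hi
  interval_cases i
  · exact chk_pow36_3_0
  · exact chk_pow36_3_1
  · exact chk_pow36_3_2
  · exact chk_pow36_3_3
  · exact chk_pow36_3_4
  · exact chk_pow36_3_5
  · exact chk_pow36_3_6
  · exact chk_pow36_3_7
  · exact chk_pow36_3_8
  · exact chk_pow36_3_9
  · exact chk_pow36_3_10
  · exact chk_pow36_3_11
  · exact chk_pow36_3_12
  · exact chk_pow36_3_13
  · exact chk_pow36_3_14

end Cfsg.Agent.Lib.Helper6.Fi24TC
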