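import Cfsg.Agent.Lib.Helper6.Fi24TCData
import Cfsg.Agent.Lib.Helper6.TCRel3
import Cfsg.Agent.Lib.Helper6.Fi24TCRel73

/-! # Fi24: the kernel check of a part of the relators on the coset table -/

set_option autoImplicit false

namespace Cfsg.Agent.Lib.Helper6.Fi24TC

open Cfsg.Agent.Lib.Helper6.TC

theorem chk_pow42_2_0 : tab.minOKc [6, 9] 2 202140 6738 = true := by decide +kernel

theorem chk_pow42_2_1 : tab.minOKc [6, 9] 2 208878 6738 = true := by decide +kernel

theorem chk_pow42_2_2 : tab.minOKc [6, 9] 2 215616 6738 = true := by decide +kernel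

theorem chk_pow42_2_3 : tab.minOKc [6, 9] 2 222354 6738 = true := by decide +kernel

theorem chk_pow42_2_4 : tab.minOKc [6, 9] 2 229092 6738 = true := by decide +kernel

theorem chk_pow42_2_5 : tab.minOKc [6, 9] 2 235830 6738 = true := by decide +kernel

theorem chk_pow42_2_6 : tab.minOKc [6, 9] 2 242568 6738 = true := by decide +kernel

theorem chk_pow42_2_7 : tab.minOKc [6, 9] 2 249306 6738 = true := by decide +kernel

theorem chk_pow42_2_8 : tab.minOKc [6, 9] 2 256044 6738 = true := by decide +kernel

theorem chk_pow42_2_9 : tab.minOKc [6, 9] 2 262782 6738 = true := by decide +kernel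

theorem chk_pow42_2_10 : tab.minOKc [6, 9] 2 269520 6738 = true := by decide +kernel

theorem chk_pow42_2_11 : tab.minOKc [6, 9] 2 276258 6738 = true := by decide +kernel

theorem chk_pow42_2_12 : tab.minOKc [6, 9] 2 282996 6738 = true := by decide +kernel

theorem chk_pow42_2_13 : tab.minOKc [6, 9] 2 289734 6738 = true := by decide +kernel

theorem chk_pow42_2_14 : tab.minOKc [6, 9] 2 296472 6738 = true := by decide +kernel

theorem chk_pow42_2 : tab.minOKc [6, 9] 2 202140 101070 = true := by
  refine tab.minOKc_of_chunks [6, 9] 2 202140 6738 15 (by norm_num) ?_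
  intro i hi
  interval_cases i
  · exact chk_pow42_2_0
  · exact chk_pow42_2_1
  · exact chk_pow42_2_2
  · exact chk_pow42_2_3
  · exact chk_pow42_2_4
  · exact chk_pow42_2_5
  · exact chk_pow42_2_6
  · exact chk_pow42_2_7
  · exact chk_pow42_2_8
  · exact chk_pow42_2_9
  · exact chk_pow42_2_10
  · exact chk_pow42_2_11
  · exact chk_pow42_2_12
  · exact chk_pow42_2_13
  · exact chk_pow42_2_14

theorem chk_pow42_3_0 : tab.minOKc [6, 9] 2 303210 6738 = true := by decide +kernel

theorem chk_pow42_3_1 : tab.minOKc [6, 9] 2 309948 6738 = true := by decide +kernel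

theorem chk_pow42_3_2 : tab.minOKc [6, 9] 2 316686 6738 = true := by decide +kernel

theorem chk_pow42_3_3 : tab.minOKc [6, 9] 2 323424 6738 = true := by decide +kernel

theorem chk_pow42_3_4 : tab.minOKc [6, 9] 2 330162 6738 = true := by decide +kernel

theorem chk_pow42_3_5 : tab.minOKc [6, 9] 2 336900 6738 = true := by decide +kernel

theorem chk_pow42_3_6 : tab.minOKc [6, 9] 2 343638 6738 = true := by decide +kernel

theorem chk_pow42_3_7 : tab.minOKc [6, 9] 2 350376 6738 = true := by decide +kernel

theorem chk_pow42_3_8 : tab.minOKc [6, 9] 2 357114 6738 = true := by decide +kernel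

theorem chk_pow42_3_9 : tab.minOKc [6, 9] 2 363852 6738 = true := by decide +kernel

theorem chk_pow42_3_10 : tab.minOKc [6, 9] 2 370590 6738 = true := by decide +kernel

theorem chk_pow42_3_11 : tab.minOKc [6, 9] 2 377328 6738 = true := by decide +kernel

theorem chk_pow42_3_12 : tab.minOKc [6, 9] 2 384066 6738 = true := by decide +kernel

theorem chk_pow42_3_13 : tab.minOKc [6, 9] 2 390804 6738 = true := by decide +kernel

theorem chk_pow42_3_14 : tab.minOKc [6, 9] 2 397542 6738 = true := by decide +kernel

theorem chk_pow42_3 : tab.minOKc [6, 9] 2 303210 101070 = true := by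
  refine tab.minOKc_of_chunks [6, 9] 2 303210 6738 15 (by norm_num) ?_
  intro i hi
  interval_cases i
  · exact chk_pow42_3_0
  · exact chk_pow42_3_1
  · exact chk_pow42_3_2
  · exact chk_pow42_3_3
  · exact chk_pow42_3_4
  · exact chk_pow42_3_5
  · exact chk_pow42_3_6
  · exact chk_pow42_3_7
  · exact chk_pow42_3_8
  · exact chk_pow42_3_9
  · exact chk_pow42_3_10
  · exact chk_pow42_3_11
  · exact chk_pow42_3_12
  · exact chk_pow42_3_13
  · exact chk_pow42_3_14

end Cfsg.Agent.Lib.Helper6.Fi24TC
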