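import Cfsg.Agent.Lib.Helper6.Fi24TCData
import Cfsg.Agent.Lib.Helper6.TCRel3
import Cfsg.Agent.Lib.Helper6.Fi24TCRel85

/-! # Fi24: the kernel check of a part of the relators on the coset table -/

set_option autoImplicit false

namespace Cfsg.Agent.Lib.Helper6.Fi24TC

open Cfsg.Agent.Lib.Helper6.TC

theorem chk_pow48_2_0 : tab.minOKc [3, 10] 2 202350 6745 = true := by decide +kernel

theorem chk_pow48_2_1 : tab.minOKc [3, 10] 2 209095 6745 = true := by decide +kernel

theorem chk_pow48_2_2 : tab.minOKc [3, 10] 2 215840 6745 = true := by decide +kernel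

theorem chk_pow48_2_3 : tab.minOKc [3, 10] 2 222585 6745 = true := by decide +kernel

theorem chk_pow48_2_4 : tab.minOKc [3, 10] 2 229330 6745 = true := by decide +kernel

theorem chk_pow48_2_5 : tab.minOKc [3, 10] 2 236075 6745 = true := by decide +kernel

theorem chk_pow48_2_6 : tab.minOKc [3, 10] 2 242820 6745 = true := by decide +kernel

theorem chk_pow48_2_7 : tab.minOKc [3, 10] 2 249565 6745 = true := by decide +kernel

theorem chk_pow48_2_8 : tab.minOKc [3, 10] 2 256310 6745 = true := by decide +kernel

theorem chk_pow48_2_9 : tab.minOKc [3, 10] 2 263055 6745 = true := by decide +kernel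

theorem chk_pow48_2_10 : tab.minOKc [3, 10] 2 269800 6745 = true := by decide +kernel

theorem chk_pow48_2_11 : tab.minOKc [3, 10] 2 276545 6745 = true := by decide +kernel

theorem chk_pow48_2_12 : tab.minOKc [3, 10] 2 283290 6745 = true := by decide +kernel

theorem chk_pow48_2_13 : tab.minOKc [3, 10] 2 290035 6745 = true := by decide +kernel

theorem chk_pow48_2_14 : tab.minOKc [3, 10] 2 296780 6745 = true := by decide +kernel

theorem chk_pow48_2 : tab.minOKc [3, 10] 2 202350 101175 = true := by
  refine tab.minOKc_of_chunks [3, 10] 2 202350 6745 15 (by norm_num) ?_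
  intro i hi
  interval_cases i
  · exact chk_pow48_2_0
  · exact chk_pow48_2_1
  · exact chk_pow48_2_2
  · exact chk_pow48_2_3
  · exact chk_pow48_2_4
  · exact chk_pow48_2_5
  · exact chk_pow48_2_6
  · exact chk_pow48_2_7
  · exact chk_pow48_2_8
  · exact chk_pow48_2_9
  · exact chk_pow48_2_10
  · exact chk_pow48_2_11
  · exact chk_pow48_2_12
  · exact chk_pow48_2_13
  · exact chk_pow48_2_14

theorem chk_pow48_3_0 : tab.minOKc [3, 10] 2 303525 6745 = true := by decide +kernel

theorem chk_pow48_3_1 : tab.minOKc [3, 10] 2 310270 6745 = true := by decide +kernel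

theorem chk_pow48_3_2 : tab.minOKc [3, 10] 2 317015 6745 = true := by decide +kernel

theorem chk_pow48_3_3 : tab.minOKc [3, 10] 2 323760 6745 = true := by decide +kernel

theorem chk_pow48_3_4 : tab.minOKc [3, 10] 2 330505 6745 = true := by decide +kernel

theorem chk_pow48_3_5 : tab.minOKc [3, 10] 2 337250 6745 = true := by decide +kernel

theorem chk_pow48_3_6 : tab.minOKc [3, 10] 2 343995 6745 = true := by decide +kernel

theorem chk_pow48_3_7 : tab.minOKc [3, 10] 2 350740 6745 = true := by decide +kernel

theorem chk_pow48_3_8 : tab.minOKc [3, 10] 2 357485 6745 = true := by decide +kernel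

theorem chk_pow48_3_9 : tab.minOKc [3, 10] 2 364230 6745 = true := by decide +kernel

theorem chk_pow48_3_10 : tab.minOKc [3, 10] 2 370975 6745 = true := by decide +kernel

theorem chk_pow48_3_11 : tab.minOKc [3, 10] 2 377720 6745 = true := by decide +kernel

theorem chk_pow48_3_12 : tab.minOKc [3, 10] 2 384465 6745 = true := by decide +kernel

theorem chk_pow48_3_13 : tab.minOKc [3, 10] 2 391210 6745 = true := by decide +kernel

theorem chk_pow48_3_14 : tab.minOKc [3, 10] 2 397955 6745 = true := by decide +kernel

theorem chk_pow48_3 : tab.minOKc [3, 10] 2 303525 101175 = true := by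
  refine tab.minOKc_of_chunks [3, 10] 2 303525 6745 15 (by norm_num) ?_
  intro i hi
  interval_cases i
  · exact chk_pow48_3_0
  · exact chk_pow48_3_1
  · exact chk_pow48_3_2
  · exact chk_pow48_3_3
  · exact chk_pow48_3_4
  · exact chk_pow48_3_5
  · exact chk_pow48_3_6
  · exact chk_pow48_3_7
  · exact chk_pow48_3_8
  · exact chk_pow48_3_9
  · exact chk_pow48_3_10
  · exact chk_pow48_3_11
  · exact chk_pow48_3_12
  · exact chk_pow48_3_13
  · exact chk_pow48_3_14

end Cfsg.Agent.Lib.Helper6.Fi24TC
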