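import Cfsg.Agent.Lib.Helper6.Fi24TCData
import Cfsg.Agent.Lib.Helper6.TCRel3
import Cfsg.Agent.Lib.Helper6.Fi24TCRel97

/-! # Fi24: the kernel check of a part of the relators on the coset table -/

set_option autoImplicit false

namespace Cfsg.Agent.Lib.Helper6.Fi24TC

open Cfsg.Agent.Lib.Helper6.TC

theorem chk_pow54_2_0 : tab.minOKc [9, 10] 2 202950 6765 = true := by decide +kernel

theorem chk_pow54_2_1 : tab.minOKc [9, 10] 2 209715 6765 = true := by decide +kernel

theorem chk_pow54_2_2 : tab.minOKc [9, 10] 2 216480 6765 = true := by decide +kernel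

theorem chk_pow54_2_3 : tab.minOKc [9, 10] 2 223245 6765 = true := by decide +kernel

theorem chk_pow54_2_4 : tab.minOKc [9, 10] 2 230010 6765 = true := by decide +kernel

theorem chk_pow54_2_5 : tab.minOKc [9, 10] 2 236775 6765 = true := by decide +kernel

theorem chk_pow54_2_6 : tab.minOKc [9, 10] 2 243540 6765 = true := by decide +kernel

theorem chk_pow54_2_7 : tab.minOKc [9, 10] 2 250305 6765 = true := by decide +kernel

theorem chk_pow54_2_8 : tab.minOKc [9, 10] 2 257070 6765 = true := by decide +kernel

theorem chk_pow54_2_9 : tab.minOKc [9, 10] 2 263835 6765 = true := by decide +kernel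

theorem chk_pow54_2_10 : tab.minOKc [9, 10] 2 270600 6765 = true := by decide +kernel

theorem chk_pow54_2_11 : tab.minOKc [9, 10] 2 277365 6765 = true := by decide +kernel

theorem chk_pow54_2_12 : tab.minOKc [9, 10] 2 284130 6765 = true := by decide +kernel

theorem chk_pow54_2_13 : tab.minOKc [9, 10] 2 290895 6765 = true := by decide +kernel

theorem chk_pow54_2_14 : tab.minOKc [9, 10] 2 297660 6765 = true := by decide +kernel

theorem chk_pow54_2 : tab.minOKc [9, 10] 2 202950 101475 = true := by
  refine tab.minOKc_of_chunks [9, 10] 2 202950 6765 15 (by norm_num) ?_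
  intro i hi
  interval_cases i
  · exact chk_pow54_2_0
  · exact chk_pow54_2_1
  · exact chk_pow54_2_2
  · exact chk_pow54_2_3
  · exact chk_pow54_2_4
  · exact chk_pow54_2_5
  · exact chk_pow54_2_6
  · exact chk_pow54_2_7
  · exact chk_pow54_2_8
  · exact chk_pow54_2_9
  · exact chk_pow54_2_10
  · exact chk_pow54_2_11
  · exact chk_pow54_2_12
  · exact chk_pow54_2_13
  · exact chk_pow54_2_14

theorem chk_pow54_3_0 : tab.minOKc [9, 10] 2 304425 6765 = true := by decide +kernel

theorem chk_pow54_3_1 : tab.minOKc [9, 10] 2 311190 6765 = true := by decide +kernel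

theorem chk_pow54_3_2 : tab.minOKc [9, 10] 2 317955 6765 = true := by decide +kernel

theorem chk_pow54_3_3 : tab.minOKc [9, 10] 2 324720 6765 = true := by decide +kernel

theorem chk_pow54_3_4 : tab.minOKc [9, 10] 2 331485 6765 = true := by decide +kernel

theorem chk_pow54_3_5 : tab.minOKc [9, 10] 2 338250 6765 = true := by decide +kernel

theorem chk_pow54_3_6 : tab.minOKc [9, 10] 2 345015 6765 = true := by decide +kernel

theorem chk_pow54_3_7 : tab.minOKc [9, 10] 2 351780 6765 = true := by decide +kernel

theorem chk_pow54_3_8 : tab.minOKc [9, 10] 2 358545 6765 = true := by decide +kernel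

theorem chk_pow54_3_9 : tab.minOKc [9, 10] 2 365310 6765 = true := by decide +kernel

theorem chk_pow54_3_10 : tab.minOKc [9, 10] 2 372075 6765 = true := by decide +kernel

theorem chk_pow54_3_11 : tab.minOKc [9, 10] 2 378840 6765 = true := by decide +kernel

theorem chk_pow54_3_12 : tab.minOKc [9, 10] 2 385605 6765 = true := by decide +kernel

theorem chk_pow54_3_13 : tab.minOKc [9, 10] 2 392370 6765 = true := by decide +kernel

theorem chk_pow54_3_14 : tab.minOKc [9, 10] 2 399135 6765 = true := by decide +kernel

theorem chk_pow54_3 : tab.minOKc [9, 10] 2 304425 101475 = true := by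
  refine tab.minOKc_of_chunks [9, 10] 2 304425 6765 15 (by norm_num) ?_
  intro i hi
  interval_cases i
  · exact chk_pow54_3_0
  · exact chk_pow54_3_1
  · exact chk_pow54_3_2
  · exact chk_pow54_3_3
  · exact chk_pow54_3_4
  · exact chk_pow54_3_5
  · exact chk_pow54_3_6
  · exact chk_pow54_3_7
  · exact chk_pow54_3_8
  · exact chk_pow54_3_9
  · exact chk_pow54_3_10
  · exact chk_pow54_3_11
  · exact chk_pow54_3_12
  · exact chk_pow54_3_13
  · exact chk_pow54_3_14

end Cfsg.Agent.Lib.Helper6.Fi24TC
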