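import Cfsg.Agent.Lib.Helper6.Fi24SCert

/-! # Fi24: the kernel check of the rows from 67728 on -/

set_option autoImplicit false

namespace Cfsg.Agent.Lib.Helper6.Fi24TC

open Cfsg.Agent.Lib.Helper6.TC Cfsg.Agent.Lib.Helper6.TCS

theorem chk_rows8_0 : cert.rowsOK 67728 345 = true := by decide +kernel

theorem chk_rows8_1 : cert.rowsOK 68073 345 = true := by decide +kernel

theorem chk_rows8_2 : cert.rowsOK 68418 345 = true := by decide +kernel

theorem chk_rows8_3 : cert.rowsOK 68763 345 = true := by decide +kernel

theorem chk_rows8_4 : cert.rowsOK 69108 345 = true := by decide +kernel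

theorem chk_rows8_5 : cert.rowsOK 69453 345 = true := by decide +kernel

theorem chk_rows8_6 : cert.rowsOK 69798 345 = true := by decide +kernel

theorem chk_rows8_7 : cert.rowsOK 70143 345 = true := by decide +kernel

theorem chk_rows8_8 : cert.rowsOK 70488 345 = true := by decide +kernel

theorem chk_rows8_9 : cert.rowsOK 70833 345 = true := by decide +kernel

theorem chk_rows8_10 : cert.rowsOK 71178 345 = true := by decide +kernel

theorem chk_rows8_11 : cert.rowsOK 71523 345 = true := by decide +kernel

theorem chk_rows8_12 : cert.rowsOK 71868 345 = true := by decide +kernel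

theorem chk_rows8_13 : cert.rowsOK 72213 345 = true := by decide +kernel

theorem chk_rows8_14 : cert.rowsOK 72558 345 = true := by decide +kernel

theorem chk_rows8_15 : cert.rowsOK 72903 345 = true := by decide +kernel

theorem chk_rows8_16 : cert.rowsOK 73248 345 = true := by decide +kernel

theorem chk_rows8_17 : cert.rowsOK 73593 345 = true := by decide +kernel

theorem chk_rows8_18 : cert.rowsOK 73938 345 = true := by decide +kernel

theorem chk_rows8_19 : cert.rowsOK 74283 345 = true := by decide +kernel

theorem chk_rows8_20 : cert.rowsOK 74628 345 = true := by decide +kernel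

theorem chk_rows8_21 : cert.rowsOK 74973 345 = true := by decide +kernel

theorem chk_rows8_22 : cert.rowsOK 75318 345 = true := by decide +kernel

theorem chk_rows8_23 : cert.rowsOK 75663 345 = true := by decide +kernel

theorem chk_range8 : ∀ a, 67728 ≤ a → a < 76008 → ∀ x < cert.c.g, cert.slotOK a x = true := by
  refine cert.range_of_chunks 67728 345 24 (by norm_num) ?_
  intro k hk
  interval_cases k
  · exact chk_rows8_0
  · exact chk_rows8_1
  · exact chk_rows8_2
  · exact chk_rows8_3
  · exact chk_rows8_4
  · exact chk_rows8_5
  · exact chk_rows8_6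
  · exact chk_rows8_7
  · exact chk_rows8_8
  · exact chk_rows8_9
  · exact chk_rows8_10
  · exact chk_rows8_11
  · exact chk_rows8_12
  · exact chk_rows8_13
  · exact chk_rows8_14
  · exact chk_rows8_15
  · exact chk_rows8_16
  · exact chk_rows8_17
  · exact chk_rows8_18
  · exact chk_rows8_19
  · exact chk_rows8_20
  · exact chk_rows8_21
  · exact chk_rows8_22
  · exact chk_rows8_23

end Cfsg.Agent.Lib.Helper6.Fi24TC
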