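import Cfsg.Agent.Lib.Helper6.Fi24SCert
import Cfsg.Agent.Lib.Helper6.Fi24SRows8

/-! # Fi24: the kernel check of the rows from 157536 on -/

set_option autoImplicit false

namespace Cfsg.Agent.Lib.Helper6.Fi24TC

open Cfsg.Agent.Lib.Helper6.TC Cfsg.Agent.Lib.Helper6.TCS

theorem chk_rows20_0 : cert.rowsOK 157536 293 = true := by decide +kernel

theorem chk_rows20_1 : cert.rowsOK 157829 293 = true := by decide +kernel

theorem chk_rows20_2 : cert.rowsOK 158122 293 = true := by decide +kernel

theorem chk_rows20_3 : cert.rowsOK 158415 293 = true := by decide +kernel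

theorem chk_rows20_4 : cert.rowsOK 158708 293 = true := by decide +kernel

theorem chk_rows20_5 : cert.rowsOK 159001 293 = true := by decide +kernel

theorem chk_rows20_6 : cert.rowsOK 159294 293 = true := by decide +kernel

theorem chk_rows20_7 : cert.rowsOK 159587 293 = true := by decide +kernel

theorem chk_rows20_8 : cert.rowsOK 159880 293 = true := by decide +kernel

theorem chk_rows20_9 : cert.rowsOK 160173 293 = true := by decide +kernel

theorem chk_rows20_10 : cert.rowsOK 160466 293 = true := by decide +kernel

theorem chk_rows20_11 : cert.rowsOK 160759 293 = true := by decide +kernel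

theorem chk_rows20_12 : cert.rowsOK 161052 293 = true := by decide +kernel

theorem chk_rows20_13 : cert.rowsOK 161345 293 = true := by decide +kernel

theorem chk_rows20_14 : cert.rowsOK 161638 293 = true := by decide +kernel

theorem chk_rows20_15 : cert.rowsOK 161931 293 = true := by decide +kernel

theorem chk_rows20_16 : cert.rowsOK 162224 293 = true := by decide +kernel

theorem chk_rows20_17 : cert.rowsOK 162517 293 = true := by decide +kernel

theorem chk_rows20_18 : cert.rowsOK 162810 293 = true := by decide +kernel

theorem chk_rows20_19 : cert.rowsOK 163103 293 = true := by decide +kernel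

theorem chk_rows20_20 : cert.rowsOK 163396 293 = true := by decide +kernel

theorem chk_rows20_21 : cert.rowsOK 163689 293 = true := by decide +kernel

theorem chk_rows20_22 : cert.rowsOK 163982 293 = true := by decide +kernel

theorem chk_rows20_23 : cert.rowsOK 164275 293 = true := by decide +kernel

theorem chk_range20 : ∀ a, 157536 ≤ a → a < 164568 → ∀ x < cert.c.g, cert.slotOK a x = true := by
  refine cert.range_of_chunks 157536 293 24 (by norm_num) ?_
  intro k hk
  interval_cases k
  · exact chk_rows20_0
  · exact chk_rows20_1
  · exact chk_rows20_2
  · exact chk_rows20_3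
  · exact chk_rows20_4
  · exact chk_rows20_5
  · exact chk_rows20_6
  · exact chk_rows20_7
  · exact chk_rows20_8
  · exact chk_rows20_9
  · exact chk_rows20_10
  · exact chk_rows20_11
  · exact chk_rows20_12
  · exact chk_rows20_13
  · exact chk_rows20_14
  · exact chk_rows20_15
  · exact chk_rows20_16
  · exact chk_rows20_17
  · exact chk_rows20_18
  · exact chk_rows20_19
  · exact chk_rows20_20
  · exact chk_rows20_21
  · exact chk_rows20_22
  · exact chk_rows20_23

end Cfsg.Agent.Lib.Helper6.Fi24TC
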