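import Cfsg.Agent.Lib.Helper6.Fi24SCert
import Cfsg.Agent.Lib.Helper6.Fi24SRows20

/-! # Fi24: the kernel check of the rows from 236784 on -/

set_option autoImplicit false

namespace Cfsg.Agent.Lib.Helper6.Fi24TC

open Cfsg.Agent.Lib.Helper6.TC Cfsg.Agent.Lib.Helper6.TCS

theorem chk_rows32_0 : cert.rowsOK 236784 211 = true := by decide +kernel

theorem chk_rows32_1 : cert.rowsOK 236995 211 = true := by decide +kernel

theorem chk_rows32_2 : cert.rowsOK 237206 211 = true := by decide +kernel

theorem chk_rows32_3 : cert.rowsOK 237417 211 = true := by decide +kernel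

theorem chk_rows32_4 : cert.rowsOK 237628 211 = true := by decide +kernel

theorem chk_rows32_5 : cert.rowsOK 237839 211 = true := by decide +kernel

theorem chk_rows32_6 : cert.rowsOK 238050 211 = true := by decide +kernel

theorem chk_rows32_7 : cert.rowsOK 238261 211 = true := by decide +kernel

theorem chk_rows32_8 : cert.rowsOK 238472 211 = true := by decide +kernel

theorem chk_rows32_9 : cert.rowsOK 238683 211 = true := by decide +kernel

theorem chk_rows32_10 : cert.rowsOK 238894 211 = true := by decide +kernel

theorem chk_rows32_11 : cert.rowsOK 239105 211 = true := by decide +kernel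

theorem chk_rows32_12 : cert.rowsOK 239316 211 = true := by decide +kernel

theorem chk_rows32_13 : cert.rowsOK 239527 211 = true := by decide +kernel

theorem chk_rows32_14 : cert.rowsOK 239738 211 = true := by decide +kernel

theorem chk_rows32_15 : cert.rowsOK 239949 211 = true := by decide +kernel

theorem chk_rows32_16 : cert.rowsOK 240160 211 = true := by decide +kernel

theorem chk_rows32_17 : cert.rowsOK 240371 211 = true := by decide +kernel

theorem chk_rows32_18 : cert.rowsOK 240582 211 = true := by decide +kernel

theorem chk_rows32_19 : cert.rowsOK 240793 211 = true := by decide +kernel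

theorem chk_rows32_20 : cert.rowsOK 241004 211 = true := by decide +kernel

theorem chk_rows32_21 : cert.rowsOK 241215 211 = true := by decide +kernel

theorem chk_rows32_22 : cert.rowsOK 241426 211 = true := by decide +kernel

theorem chk_rows32_23 : cert.rowsOK 241637 211 = true := by decide +kernel

theorem chk_range32 : ∀ a, 236784 ≤ a → a < 241848 → ∀ x < cert.c.g, cert.slotOK a x = true := by
  refine cert.range_of_chunks 236784 211 24 (by norm_num) ?_
  intro k hk
  interval_cases k
  · exact chk_rows32_0
  · exact chk_rows32_1
  · exact chk_rows32_2
  · exact chk_rows32_3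
  · exact chk_rows32_4
  · exact chk_rows32_5
  · exact chk_rows32_6
  · exact chk_rows32_7
  · exact chk_rows32_8
  · exact chk_rows32_9
  · exact chk_rows32_10
  · exact chk_rows32_11
  · exact chk_rows32_12
  · exact chk_rows32_13
  · exact chk_rows32_14
  · exact chk_rows32_15
  · exact chk_rows32_16
  · exact chk_rows32_17
  · exact chk_rows32_18
  · exact chk_rows32_19
  · exact chk_rows32_20
  · exact chk_rows32_21
  · exact chk_rows32_22
  · exact chk_rows32_23

end Cfsg.Agent.Lib.Helper6.Fi24TC
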