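import Cfsg.Agent.Lib.Helper6.Fi24SCert
import Cfsg.Agent.Lib.Helper6.Fi24SRows32

/-! # Fi24: the kernel check of the rows from 282264 on -/

set_option autoImplicit false

namespace Cfsg.Agent.Lib.Helper6.Fi24TC

open Cfsg.Agent.Lib.Helper6.TC Cfsg.Agent.Lib.Helper6.TCS

theorem chk_rows44_0 : cert.rowsOK 282264 78 = true := by decide +kernel

theorem chk_rows44_1 : cert.rowsOK 282342 78 = true := by decide +kernel

theorem chk_rows44_2 : cert.rowsOK 282420 78 = true := by decide +kernel

theorem chk_rows44_3 : cert.rowsOK 282498 78 = true := by decide +kernel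

theorem chk_rows44_4 : cert.rowsOK 282576 78 = true := by decide +kernel

theorem chk_rows44_5 : cert.rowsOK 282654 78 = true := by decide +kernel

theorem chk_rows44_6 : cert.rowsOK 282732 78 = true := by decide +kernel

theorem chk_rows44_7 : cert.rowsOK 282810 78 = true := by decide +kernel

theorem chk_rows44_8 : cert.rowsOK 282888 78 = true := by decide +kernel

theorem chk_rows44_9 : cert.rowsOK 282966 78 = true := by decide +kernel

theorem chk_rows44_10 : cert.rowsOK 283044 78 = true := by decide +kernel

theorem chk_rows44_11 : cert.rowsOK 283122 78 = true := by decide +kernel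

theorem chk_rows44_12 : cert.rowsOK 283200 78 = true := by decide +kernel

theorem chk_rows44_13 : cert.rowsOK 283278 78 = true := by decide +kernel

theorem chk_rows44_14 : cert.rowsOK 283356 78 = true := by decide +kernel

theorem chk_rows44_15 : cert.rowsOK 283434 78 = true := by decide +kernel

theorem chk_rows44_16 : cert.rowsOK 283512 78 = true := by decide +kernel

theorem chk_rows44_17 : cert.rowsOK 283590 78 = true := by decide +kernel

theorem chk_rows44_18 : cert.rowsOK 283668 78 = true := by decide +kernel

theorem chk_rows44_19 : cert.rowsOK 283746 78 = true := by decide +kernel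

theorem chk_rows44_20 : cert.rowsOK 283824 78 = true := by decide +kernel

theorem chk_rows44_21 : cert.rowsOK 283902 78 = true := by decide +kernel

theorem chk_rows44_22 : cert.rowsOK 283980 78 = true := by decide +kernel

theorem chk_rows44_23 : cert.rowsOK 284058 78 = true := by decide +kernel

theorem chk_range44 : ∀ a, 282264 ≤ a → a < 284136 → ∀ x < cert.c.g, cert.slotOK a x = true := by
  refine cert.range_of_chunks 282264 78 24 (by norm_num) ?_
  intro k hk
  interval_cases k
  · exact chk_rows44_0
  · exact chk_rows44_1
  · exact chk_rows44_2
  · exact chk_rows44_3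
  · exact chk_rows44_4
  · exact chk_rows44_5
  · exact chk_rows44_6
  · exact chk_rows44_7
  · exact chk_rows44_8
  · exact chk_rows44_9
  · exact chk_rows44_10
  · exact chk_rows44_11
  · exact chk_rows44_12
  · exact chk_rows44_13
  · exact chk_rows44_14
  · exact chk_rows44_15
  · exact chk_rows44_16
  · exact chk_rows44_17
  · exact chk_rows44_18
  · exact chk_rows44_19
  · exact chk_rows44_20
  · exact chk_rows44_21
  · exact chk_rows44_22
  · exact chk_rows44_23

end Cfsg.Agent.Lib.Helper6.Fi24TC
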