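import Cfsg.Agent.Lib.Helper6.Fi24SCert
import Cfsg.Agent.Lib.Helper6.Fi24SRows44

/-! # Fi24: the kernel check of the rows from 304392 on -/

set_option autoImplicit false

namespace Cfsg.Agent.Lib.Helper6.Fi24TC

open Cfsg.Agent.Lib.Helper6.TC Cfsg.Agent.Lib.Helper6.TCS

theorem chk_rows56_0 : cert.rowsOK 304392 47 = true := by decide +kernel

theorem chk_rows56_1 : cert.rowsOK 304439 47 = true := by decide +kernel

theorem chk_rows56_2 : cert.rowsOK 304486 47 = true := by decide +kernel

theorem chk_rows56_3 : cert.rowsOK 304533 47 = true := by decide +kernel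

theorem chk_rows56_4 : cert.rowsOK 304580 47 = true := by decide +kernel

theorem chk_rows56_5 : cert.rowsOK 304627 47 = true := by decide +kernel

theorem chk_rows56_6 : cert.rowsOK 304674 47 = true := by decide +kernel

theorem chk_rows56_7 : cert.rowsOK 304721 47 = true := by decide +kernel

theorem chk_rows56_8 : cert.rowsOK 304768 47 = true := by decide +kernel

theorem chk_rows56_9 : cert.rowsOK 304815 47 = true := by decide +kernel

theorem chk_rows56_10 : cert.rowsOK 304862 47 = true := by decide +kernel

theorem chk_rows56_11 : cert.rowsOK 304909 47 = true := by decide +kernel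

theorem chk_rows56_12 : cert.rowsOK 304956 47 = true := by decide +kernel

theorem chk_rows56_13 : cert.rowsOK 305003 47 = true := by decide +kernel

theorem chk_rows56_14 : cert.rowsOK 305050 47 = true := by decide +kernel

theorem chk_rows56_15 : cert.rowsOK 305097 47 = true := by decide +kernel

theorem chk_rows56_16 : cert.rowsOK 305144 47 = true := by decide +kernel

theorem chk_rows56_17 : cert.rowsOK 305191 47 = true := by decide +kernel

theorem chk_rows56_18 : cert.rowsOK 305238 47 = true := by decide +kernel

theorem chk_rows56_19 : cert.rowsOK 305285 47 = true := by decide +kernel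

theorem chk_rows56_20 : cert.rowsOK 305332 47 = true := by decide +kernel

theorem chk_rows56_21 : cert.rowsOK 305379 47 = true := by decide +kernel

theorem chk_rows56_22 : cert.rowsOK 305426 47 = true := by decide +kernel

theorem chk_rows56_23 : cert.rowsOK 305473 47 = true := by decide +kernel

theorem chk_range56 : ∀ a, 304392 ≤ a → a < 305520 → ∀ x < cert.c.g, cert.slotOK a x = true := by
  refine cert.range_of_chunks 304392 47 24 (by norm_num) ?_
  intro k hk
  interval_cases k
  · exact chk_rows56_0
  · exact chk_rows56_1
  · exact chk_rows56_2
  · exact chk_rows56_3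
  · exact chk_rows56_4
  · exact chk_rows56_5
  · exact chk_rows56_6
  · exact chk_rows56_7
  · exact chk_rows56_8
  · exact chk_rows56_9
  · exact chk_rows56_10
  · exact chk_rows56_11
  · exact chk_rows56_12
  · exact chk_rows56_13
  · exact chk_rows56_14
  · exact chk_rows56_15
  · exact chk_rows56_16
  · exact chk_rows56_17
  · exact chk_rows56_18
  · exact chk_rows56_19
  · exact chk_rows56_20
  · exact chk_rows56_21
  · exact chk_rows56_22
  · exact chk_rows56_23

end Cfsg.Agent.Lib.Helper6.Fi24TC
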