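import Cfsg.Agent.Lib.Helper6.Fi24SCert
import Cfsg.Agent.Lib.Helper6.TCChunk
import Cfsg.Agent.Lib.Helper6.Fi24SMRows19

/-! # Fi24: the kernel check that the first rows are closed, part 8 -/

set_option autoImplicit false

namespace Cfsg.Agent.Lib.Helper6.Fi24TC

open Cfsg.Agent.Lib.Helper6.TC Cfsg.Agent.Lib.Helper6.TCS

theorem chk_fin72 : cert.finalOKc 306936 144000 2000 = true := by decide +kernel

theorem chk_fin73 : cert.finalOKc 306936 146000 2000 = true := by decide +kernel

theorem chk_fin74 : cert.finalOKc 306936 148000 2000 = true := by decide +kernel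

theorem chk_fin75 : cert.finalOKc 306936 150000 2000 = true := by decide +kernel

theorem chk_fin76 : cert.finalOKc 306936 152000 2000 = true := by decide +kernel

theorem chk_fin77 : cert.finalOKc 306936 154000 2000 = true := by decide +kernel

theorem chk_fin78 : cert.finalOKc 306936 156000 2000 = true := by decide +kernel

theorem chk_fin79 : cert.finalOKc 306936 158000 2000 = true := by decide +kernel

theorem chk_fin80 : cert.finalOKc 306936 160000 2000 = true := by decide +kernel

end Cfsg.Agent.Lib.Helper6.Fi24TC
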