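import Cfsg.Agent.Lib.Helper6.Fi24TCData
import Cfsg.Agent.Lib.Helper6.TCRel3
import Cfsg.Agent.Lib.Helper6.Fi24SFin8

/-! # Fi24: the kernel check of a part of the relators on the coset table -/

set_option autoImplicit false

namespace Cfsg.Agent.Lib.Helper6.Fi24TC

open Cfsg.Agent.Lib.Helper6.TC

theorem chk_pow1_0_0 : tab.minOKc [0, 2] 2 0 6723 = true := by decide +kernel

theorem chk_pow1_0_1 : tab.minOKc [0, 2] 2 6723 6723 = true := by decide +kernel

theorem chk_pow1_0_2 : tab.minOKc [0, 2] 2 13446 6723 = true := by decide +kernel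

theorem chk_pow1_0_3 : tab.minOKc [0, 2] 2 20169 6723 = true := by decide +kernel

theorem chk_pow1_0_4 : tab.minOKc [0, 2] 2 26892 6723 = true := by decide +kernel

theorem chk_pow1_0_5 : tab.minOKc [0, 2] 2 33615 6723 = true := by decide +kernel

theorem chk_pow1_0_6 : tab.minOKc [0, 2] 2 40338 6723 = true := by decide +kernel

theorem chk_pow1_0_7 : tab.minOKc [0, 2] 2 47061 6723 = true := by decide +kernel

theorem chk_pow1_0_8 : tab.minOKc [0, 2] 2 53784 6723 = true := by decide +kernel

theorem chk_pow1_0_9 : tab.minOKc [0, 2] 2 60507 6723 = true := by decide +kernel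

theorem chk_pow1_0_10 : tab.minOKc [0, 2] 2 67230 6723 = true := by decide +kernel

theorem chk_pow1_0_11 : tab.minOKc [0, 2] 2 73953 6723 = true := by decide +kernel

theorem chk_pow1_0_12 : tab.minOKc [0, 2] 2 80676 6723 = true := by decide +kernel

theorem chk_pow1_0_13 : tab.minOKc [0, 2] 2 87399 6723 = true := by decide +kernel

theorem chk_pow1_0_14 : tab.minOKc [0, 2] 2 94122 6723 = true := by decide +kernel

theorem chk_pow1_0 : tab.minOKc [0, 2] 2 0 100845 = true := by
  refine tab.minOKc_of_chunks [0, 2] 2 0 6723 15 (by norm_num) ?_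
  intro i hi
  interval_cases i
  · exact chk_pow1_0_0
  · exact chk_pow1_0_1
  · exact chk_pow1_0_2
  · exact chk_pow1_0_3
  · exact chk_pow1_0_4
  · exact chk_pow1_0_5
  · exact chk_pow1_0_6
  · exact chk_pow1_0_7
  · exact chk_pow1_0_8
  · exact chk_pow1_0_9
  · exact chk_pow1_0_10
  · exact chk_pow1_0_11
  · exact chk_pow1_0_12
  · exact chk_pow1_0_13
  · exact chk_pow1_0_14

theorem chk_pow1_1_0 : tab.minOKc [0, 2] 2 100845 6723 = true := by decide +kernel

theorem chk_pow1_1_1 : tab.minOKc [0, 2] 2 107568 6723 = true := by decide +kernel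

theorem chk_pow1_1_2 : tab.minOKc [0, 2] 2 114291 6723 = true := by decide +kernel

theorem chk_pow1_1_3 : tab.minOKc [0, 2] 2 121014 6723 = true := by decide +kernel

theorem chk_pow1_1_4 : tab.minOKc [0, 2] 2 127737 6723 = true := by decide +kernel

theorem chk_pow1_1_5 : tab.minOKc [0, 2] 2 134460 6723 = true := by decide +kernel

theorem chk_pow1_1_6 : tab.minOKc [0, 2] 2 141183 6723 = true := by decide +kernel

theorem chk_pow1_1_7 : tab.minOKc [0, 2] 2 147906 6723 = true := by decide +kernel

theorem chk_pow1_1_8 : tab.minOKc [0, 2] 2 154629 6723 = true := by decide +kernel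

theorem chk_pow1_1_9 : tab.minOKc [0, 2] 2 161352 6723 = true := by decide +kernel

theorem chk_pow1_1_10 : tab.minOKc [0, 2] 2 168075 6723 = true := by decide +kernel

theorem chk_pow1_1_11 : tab.minOKc [0, 2] 2 174798 6723 = true := by decide +kernel

theorem chk_pow1_1_12 : tab.minOKc [0, 2] 2 181521 6723 = true := by decide +kernel

theorem chk_pow1_1_13 : tab.minOKc [0, 2] 2 188244 6723 = true := by decide +kernel

theorem chk_pow1_1_14 : tab.minOKc [0, 2] 2 194967 6723 = true := by decide +kernel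

theorem chk_pow1_1 : tab.minOKc [0, 2] 2 100845 100845 = true := by
  refine tab.minOKc_of_chunks [0, 2] 2 100845 6723 15 (by norm_num) ?_
  intro i hi
  interval_cases i
  · exact chk_pow1_1_0
  · exact chk_pow1_1_1
  · exact chk_pow1_1_2
  · exact chk_pow1_1_3
  · exact chk_pow1_1_4
  · exact chk_pow1_1_5
  · exact chk_pow1_1_6
  · exact chk_pow1_1_7
  · exact chk_pow1_1_8
  · exact chk_pow1_1_9
  · exact chk_pow1_1_10
  · exact chk_pow1_1_11
  · exact chk_pow1_1_12
  · exact chk_pow1_1_13
  · exact chk_pow1_1_14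

end Cfsg.Agent.Lib.Helper6.Fi24TC
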