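import Cfsg.Agent.Lib.Helper6.Fi24TCData
import Cfsg.Agent.Lib.Helper6.TCRel3
import Cfsg.Agent.Lib.Helper6.Fi24TCRel2

/-! # Fi24: the kernel check of a part of the relators on the coset table -/

set_option autoImplicit false

namespace Cfsg.Agent.Lib.Helper6.Fi24TC

open Cfsg.Agent.Lib.Helper6.TC

theorem chk_pow7_0_0 : tab.minOKc [1, 4] 2 0 6674 = true := by decide +kernel

theorem chk_pow7_0_1 : tab.minOKc [1, 4] 2 6674 6674 = true := by decide +kernel

theorem chk_pow7_0_2 : tab.minOKc [1, 4] 2 13348 6674 = true := by decide +kernel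

theorem chk_pow7_0_3 : tab.minOKc [1, 4] 2 20022 6674 = true := by decide +kernel

theorem chk_pow7_0_4 : tab.minOKc [1, 4] 2 26696 6674 = true := by decide +kernel

theorem chk_pow7_0_5 : tab.minOKc [1, 4] 2 33370 6674 = true := by decide +kernel

theorem chk_pow7_0_6 : tab.minOKc [1, 4] 2 40044 6674 = true := by decide +kernel

theorem chk_pow7_0_7 : tab.minOKc [1, 4] 2 46718 6674 = true := by decide +kernel

theorem chk_pow7_0_8 : tab.minOKc [1, 4] 2 53392 6674 = true := by decide +kernel

theorem chk_pow7_0_9 : tab.minOKc [1, 4] 2 60066 6674 = true := by decide +kernel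

theorem chk_pow7_0_10 : tab.minOKc [1, 4] 2 66740 6674 = true := by decide +kernel

theorem chk_pow7_0_11 : tab.minOKc [1, 4] 2 73414 6674 = true := by decide +kernel

theorem chk_pow7_0_12 : tab.minOKc [1, 4] 2 80088 6674 = true := by decide +kernel

theorem chk_pow7_0_13 : tab.minOKc [1, 4] 2 86762 6674 = true := by decide +kernel

theorem chk_pow7_0_14 : tab.minOKc [1, 4] 2 93436 6674 = true := by decide +kernel

theorem chk_pow7_0 : tab.minOKc [1, 4] 2 0 100110 = true := by
  refine tab.minOKc_of_chunks [1, 4] 2 0 6674 15 (by norm_num) ?_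
  intro i hi
  interval_cases i
  · exact chk_pow7_0_0
  · exact chk_pow7_0_1
  · exact chk_pow7_0_2
  · exact chk_pow7_0_3
  · exact chk_pow7_0_4
  · exact chk_pow7_0_5
  · exact chk_pow7_0_6
  · exact chk_pow7_0_7
  · exact chk_pow7_0_8
  · exact chk_pow7_0_9
  · exact chk_pow7_0_10
  · exact chk_pow7_0_11
  · exact chk_pow7_0_12
  · exact chk_pow7_0_13
  · exact chk_pow7_0_14

theorem chk_pow7_1_0 : tab.minOKc [1, 4] 2 100110 6674 = true := by decide +kernel

theorem chk_pow7_1_1 : tab.minOKc [1, 4] 2 106784 6674 = true := by decide +kernel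

theorem chk_pow7_1_2 : tab.minOKc [1, 4] 2 113458 6674 = true := by decide +kernel

theorem chk_pow7_1_3 : tab.minOKc [1, 4] 2 120132 6674 = true := by decide +kernel

theorem chk_pow7_1_4 : tab.minOKc [1, 4] 2 126806 6674 = true := by decide +kernel

theorem chk_pow7_1_5 : tab.minOKc [1, 4] 2 133480 6674 = true := by decide +kernel

theorem chk_pow7_1_6 : tab.minOKc [1, 4] 2 140154 6674 = true := by decide +kernel

theorem chk_pow7_1_7 : tab.minOKc [1, 4] 2 146828 6674 = true := by decide +kernel

theorem chk_pow7_1_8 : tab.minOKc [1, 4] 2 153502 6674 = true := by decide +kernel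

theorem chk_pow7_1_9 : tab.minOKc [1, 4] 2 160176 6674 = true := by decide +kernel

theorem chk_pow7_1_10 : tab.minOKc [1, 4] 2 166850 6674 = true := by decide +kernel

theorem chk_pow7_1_11 : tab.minOKc [1, 4] 2 173524 6674 = true := by decide +kernel

theorem chk_pow7_1_12 : tab.minOKc [1, 4] 2 180198 6674 = true := by decide +kernel

theorem chk_pow7_1_13 : tab.minOKc [1, 4] 2 186872 6674 = true := by decide +kernel

theorem chk_pow7_1_14 : tab.minOKc [1, 4] 2 193546 6674 = true := by decide +kernel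

theorem chk_pow7_1 : tab.minOKc [1, 4] 2 100110 100110 = true := by
  refine tab.minOKc_of_chunks [1, 4] 2 100110 6674 15 (by norm_num) ?_
  intro i hi
  interval_cases i
  · exact chk_pow7_1_0
  · exact chk_pow7_1_1
  · exact chk_pow7_1_2
  · exact chk_pow7_1_3
  · exact chk_pow7_1_4
  · exact chk_pow7_1_5
  · exact chk_pow7_1_6
  · exact chk_pow7_1_7
  · exact chk_pow7_1_8
  · exact chk_pow7_1_9
  · exact chk_pow7_1_10
  · exact chk_pow7_1_11
  · exact chk_pow7_1_12
  · exact chk_pow7_1_13
  · exact chk_pow7_1_14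

end Cfsg.Agent.Lib.Helper6.Fi24TC
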