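import Cfsg.Agent.Lib.Helper6.Fi24TCData
import Cfsg.Agent.Lib.Helper6.TCRel3
import Cfsg.Agent.Lib.Helper6.Fi24TCRel14

/-! # Fi24: the kernel check of a part of the relators on the coset table -/

set_option autoImplicit false

namespace Cfsg.Agent.Lib.Helper6.Fi24TC

open Cfsg.Agent.Lib.Helper6.TC

theorem chk_pow13_0_0 : tab.minOKc [3, 5] 2 0 6631 = true := by decide +kernel

theorem chk_pow13_0_1 : tab.minOKc [3, 5] 2 6631 6631 = true := by decide +kernel

theorem chk_pow13_0_2 : tab.minOKc [3, 5] 2 13262 6631 = true := by decide +kernel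

theorem chk_pow13_0_3 : tab.minOKc [3, 5] 2 19893 6631 = true := by decide +kernel

theorem chk_pow13_0_4 : tab.minOKc [3, 5] 2 26524 6631 = true := by decide +kernel

theorem chk_pow13_0_5 : tab.minOKc [3, 5] 2 33155 6631 = true := by decide +kernel

theorem chk_pow13_0_6 : tab.minOKc [3, 5] 2 39786 6631 = true := by decide +kernel

theorem chk_pow13_0_7 : tab.minOKc [3, 5] 2 46417 6631 = true := by decide +kernel

theorem chk_pow13_0_8 : tab.minOKc [3, 5] 2 53048 6631 = true := by decide +kernel

theorem chk_pow13_0_9 : tab.minOKc [3, 5] 2 59679 6631 = true := by decide +kernel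

theorem chk_pow13_0_10 : tab.minOKc [3, 5] 2 66310 6631 = true := by decide +kernel

theorem chk_pow13_0_11 : tab.minOKc [3, 5] 2 72941 6631 = true := by decide +kernel

theorem chk_pow13_0_12 : tab.minOKc [3, 5] 2 79572 6631 = true := by decide +kernel

theorem chk_pow13_0_13 : tab.minOKc [3, 5] 2 86203 6631 = true := by decide +kernel

theorem chk_pow13_0_14 : tab.minOKc [3, 5] 2 92834 6631 = true := by decide +kernel

theorem chk_pow13_0 : tab.minOKc [3, 5] 2 0 99465 = true := by
  refine tab.minOKc_of_chunks [3, 5] 2 0 6631 15 (by norm_num) ?_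
  intro i hi
  interval_cases i
  · exact chk_pow13_0_0
  · exact chk_pow13_0_1
  · exact chk_pow13_0_2
  · exact chk_pow13_0_3
  · exact chk_pow13_0_4
  · exact chk_pow13_0_5
  · exact chk_pow13_0_6
  · exact chk_pow13_0_7
  · exact chk_pow13_0_8
  · exact chk_pow13_0_9
  · exact chk_pow13_0_10
  · exact chk_pow13_0_11
  · exact chk_pow13_0_12
  · exact chk_pow13_0_13
  · exact chk_pow13_0_14

theorem chk_pow13_1_0 : tab.minOKc [3, 5] 2 99465 6631 = true := by decide +kernel

theorem chk_pow13_1_1 : tab.minOKc [3, 5] 2 106096 6631 = true := by decide +kernel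

theorem chk_pow13_1_2 : tab.minOKc [3, 5] 2 112727 6631 = true := by decide +kernel

theorem chk_pow13_1_3 : tab.minOKc [3, 5] 2 119358 6631 = true := by decide +kernel

theorem chk_pow13_1_4 : tab.minOKc [3, 5] 2 125989 6631 = true := by decide +kernel

theorem chk_pow13_1_5 : tab.minOKc [3, 5] 2 132620 6631 = true := by decide +kernel

theorem chk_pow13_1_6 : tab.minOKc [3, 5] 2 139251 6631 = true := by decide +kernel

theorem chk_pow13_1_7 : tab.minOKc [3, 5] 2 145882 6631 = true := by decide +kernel

theorem chk_pow13_1_8 : tab.minOKc [3, 5] 2 152513 6631 = true := by decide +kernel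

theorem chk_pow13_1_9 : tab.minOKc [3, 5] 2 159144 6631 = true := by decide +kernel

theorem chk_pow13_1_10 : tab.minOKc [3, 5] 2 165775 6631 = true := by decide +kernel

theorem chk_pow13_1_11 : tab.minOKc [3, 5] 2 172406 6631 = true := by decide +kernel

theorem chk_pow13_1_12 : tab.minOKc [3, 5] 2 179037 6631 = true := by decide +kernel

theorem chk_pow13_1_13 : tab.minOKc [3, 5] 2 185668 6631 = true := by decide +kernel

theorem chk_pow13_1_14 : tab.minOKc [3, 5] 2 192299 6631 = true := by decide +kernel

theorem chk_pow13_1 : tab.minOKc [3, 5] 2 99465 99465 = true := by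
  refine tab.minOKc_of_chunks [3, 5] 2 99465 6631 15 (by norm_num) ?_
  intro i hi
  interval_cases i
  · exact chk_pow13_1_0
  · exact chk_pow13_1_1
  · exact chk_pow13_1_2
  · exact chk_pow13_1_3
  · exact chk_pow13_1_4
  · exact chk_pow13_1_5
  · exact chk_pow13_1_6
  · exact chk_pow13_1_7
  · exact chk_pow13_1_8
  · exact chk_pow13_1_9
  · exact chk_pow13_1_10
  · exact chk_pow13_1_11
  · exact chk_pow13_1_12
  · exact chk_pow13_1_13
  · exact chk_pow13_1_14

end Cfsg.Agent.Lib.Helper6.Fi24TC
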