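import Cfsg.Agent.Lib.Helper6.Fi24TCData
import Cfsg.Agent.Lib.Helper6.TCRel3
import Cfsg.Agent.Lib.Helper6.Fi24TCRel26

/-! # Fi24: the kernel check of a part of the relators on the coset table -/

set_option autoImplicit false

namespace Cfsg.Agent.Lib.Helper6.Fi24TC

open Cfsg.Agent.Lib.Helper6.TC

theorem chk_pow19_0_0 : tab.minOKc [4, 6] 2 0 6697 = true := by decide +kernel

theorem chk_pow19_0_1 : tab.minOKc [4, 6] 2 6697 6697 = true := by decide +kernel

theorem chk_pow19_0_2 : tab.minOKc [4, 6] 2 13394 6697 = true := by decide +kernel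

theorem chk_pow19_0_3 : tab.minOKc [4, 6] 2 20091 6697 = true := by decide +kernel

theorem chk_pow19_0_4 : tab.minOKc [4, 6] 2 26788 6697 = true := by decide +kernel

theorem chk_pow19_0_5 : tab.minOKc [4, 6] 2 33485 6697 = true := by decide +kernel

theorem chk_pow19_0_6 : tab.minOKc [4, 6] 2 40182 6697 = true := by decide +kernel

theorem chk_pow19_0_7 : tab.minOKc [4, 6] 2 46879 6697 = true := by decide +kernel

theorem chk_pow19_0_8 : tab.minOKc [4, 6] 2 53576 6697 = true := by decide +kernel

theorem chk_pow19_0_9 : tab.minOKc [4, 6] 2 60273 6697 = true := by decide +kernel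

theorem chk_pow19_0_10 : tab.minOKc [4, 6] 2 66970 6697 = true := by decide +kernel

theorem chk_pow19_0_11 : tab.minOKc [4, 6] 2 73667 6697 = true := by decide +kernel

theorem chk_pow19_0_12 : tab.minOKc [4, 6] 2 80364 6697 = true := by decide +kernel

theorem chk_pow19_0_13 : tab.minOKc [4, 6] 2 87061 6697 = true := by decide +kernel

theorem chk_pow19_0_14 : tab.minOKc [4, 6] 2 93758 6697 = true := by decide +kernel

theorem chk_pow19_0 : tab.minOKc [4, 6] 2 0 100455 = true := by
  refine tab.minOKc_of_chunks [4, 6] 2 0 6697 15 (by norm_num) ?_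
  intro i hi
  interval_cases i
  · exact chk_pow19_0_0
  · exact chk_pow19_0_1
  · exact chk_pow19_0_2
  · exact chk_pow19_0_3
  · exact chk_pow19_0_4
  · exact chk_pow19_0_5
  · exact chk_pow19_0_6
  · exact chk_pow19_0_7
  · exact chk_pow19_0_8
  · exact chk_pow19_0_9
  · exact chk_pow19_0_10
  · exact chk_pow19_0_11
  · exact chk_pow19_0_12
  · exact chk_pow19_0_13
  · exact chk_pow19_0_14

theorem chk_pow19_1_0 : tab.minOKc [4, 6] 2 100455 6697 = true := by decide +kernel

theorem chk_pow19_1_1 : tab.minOKc [4, 6] 2 107152 6697 = true := by decide +kernel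

theorem chk_pow19_1_2 : tab.minOKc [4, 6] 2 113849 6697 = true := by decide +kernel

theorem chk_pow19_1_3 : tab.minOKc [4, 6] 2 120546 6697 = true := by decide +kernel

theorem chk_pow19_1_4 : tab.minOKc [4, 6] 2 127243 6697 = true := by decide +kernel

theorem chk_pow19_1_5 : tab.minOKc [4, 6] 2 133940 6697 = true := by decide +kernel

theorem chk_pow19_1_6 : tab.minOKc [4, 6] 2 140637 6697 = true := by decide +kernel

theorem chk_pow19_1_7 : tab.minOKc [4, 6] 2 147334 6697 = true := by decide +kernel

theorem chk_pow19_1_8 : tab.minOKc [4, 6] 2 154031 6697 = true := by decide +kernel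

theorem chk_pow19_1_9 : tab.minOKc [4, 6] 2 160728 6697 = true := by decide +kernel

theorem chk_pow19_1_10 : tab.minOKc [4, 6] 2 167425 6697 = true := by decide +kernel

theorem chk_pow19_1_11 : tab.minOKc [4, 6] 2 174122 6697 = true := by decide +kernel

theorem chk_pow19_1_12 : tab.minOKc [4, 6] 2 180819 6697 = true := by decide +kernel

theorem chk_pow19_1_13 : tab.minOKc [4, 6] 2 187516 6697 = true := by decide +kernel

theorem chk_pow19_1_14 : tab.minOKc [4, 6] 2 194213 6697 = true := by decide +kernel

theorem chk_pow19_1 : tab.minOKc [4, 6] 2 100455 100455 = true := by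
  refine tab.minOKc_of_chunks [4, 6] 2 100455 6697 15 (by norm_num) ?_
  intro i hi
  interval_cases i
  · exact chk_pow19_1_0
  · exact chk_pow19_1_1
  · exact chk_pow19_1_2
  · exact chk_pow19_1_3
  · exact chk_pow19_1_4
  · exact chk_pow19_1_5
  · exact chk_pow19_1_6
  · exact chk_pow19_1_7
  · exact chk_pow19_1_8
  · exact chk_pow19_1_9
  · exact chk_pow19_1_10
  · exact chk_pow19_1_11
  · exact chk_pow19_1_12
  · exact chk_pow19_1_13
  · exact chk_pow19_1_14

end Cfsg.Agent.Lib.Helper6.Fi24TC
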