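import Cfsg.Agent.Lib.Helper6.Fi24TCData
import Cfsg.Agent.Lib.Helper6.TCRel3
import Cfsg.Agent.Lib.Helper6.Fi24TCRel38

/-! # Fi24: the kernel check of a part of the relators on the coset table -/

set_option autoImplicit false

namespace Cfsg.Agent.Lib.Helper6.Fi24TC

open Cfsg.Agent.Lib.Helper6.TC

theorem chk_pow25_0_0 : tab.minOKc [4, 7] 2 0 6757 = true := by decide +kernel

theorem chk_pow25_0_1 : tab.minOKc [4, 7] 2 6757 6757 = true := by decide +kernel

theorem chk_pow25_0_2 : tab.minOKc [4, 7] 2 13514 6757 = true := by decide +kernel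

theorem chk_pow25_0_3 : tab.minOKc [4, 7] 2 20271 6757 = true := by decide +kernel

theorem chk_pow25_0_4 : tab.minOKc [4, 7] 2 27028 6757 = true := by decide +kernel

theorem chk_pow25_0_5 : tab.minOKc [4, 7] 2 33785 6757 = true := by decide +kernel

theorem chk_pow25_0_6 : tab.minOKc [4, 7] 2 40542 6757 = true := by decide +kernel

theorem chk_pow25_0_7 : tab.minOKc [4, 7] 2 47299 6757 = true := by decide +kernel

theorem chk_pow25_0_8 : tab.minOKc [4, 7] 2 54056 6757 = true := by decide +kernel

theorem chk_pow25_0_9 : tab.minOKc [4, 7] 2 60813 6757 = true := by decide +kernel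

theorem chk_pow25_0_10 : tab.minOKc [4, 7] 2 67570 6757 = true := by decide +kernel

theorem chk_pow25_0_11 : tab.minOKc [4, 7] 2 74327 6757 = true := by decide +kernel

theorem chk_pow25_0_12 : tab.minOKc [4, 7] 2 81084 6757 = true := by decide +kernel

theorem chk_pow25_0_13 : tab.minOKc [4, 7] 2 87841 6757 = true := by decide +kernel

theorem chk_pow25_0_14 : tab.minOKc [4, 7] 2 94598 6757 = true := by decide +kernel

theorem chk_pow25_0 : tab.minOKc [4, 7] 2 0 101355 = true := by
  refine tab.minOKc_of_chunks [4, 7] 2 0 6757 15 (by norm_num) ?_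
  intro i hi
  interval_cases i
  · exact chk_pow25_0_0
  · exact chk_pow25_0_1
  · exact chk_pow25_0_2
  · exact chk_pow25_0_3
  · exact chk_pow25_0_4
  · exact chk_pow25_0_5
  · exact chk_pow25_0_6
  · exact chk_pow25_0_7
  · exact chk_pow25_0_8
  · exact chk_pow25_0_9
  · exact chk_pow25_0_10
  · exact chk_pow25_0_11
  · exact chk_pow25_0_12
  · exact chk_pow25_0_13
  · exact chk_pow25_0_14

theorem chk_pow25_1_0 : tab.minOKc [4, 7] 2 101355 6757 = true := by decide +kernel

theorem chk_pow25_1_1 : tab.minOKc [4, 7] 2 108112 6757 = true := by decide +kernel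

theorem chk_pow25_1_2 : tab.minOKc [4, 7] 2 114869 6757 = true := by decide +kernel

theorem chk_pow25_1_3 : tab.minOKc [4, 7] 2 121626 6757 = true := by decide +kernel

theorem chk_pow25_1_4 : tab.minOKc [4, 7] 2 128383 6757 = true := by decide +kernel

theorem chk_pow25_1_5 : tab.minOKc [4, 7] 2 135140 6757 = true := by decide +kernel

theorem chk_pow25_1_6 : tab.minOKc [4, 7] 2 141897 6757 = true := by decide +kernel

theorem chk_pow25_1_7 : tab.minOKc [4, 7] 2 148654 6757 = true := by decide +kernel

theorem chk_pow25_1_8 : tab.minOKc [4, 7] 2 155411 6757 = true := by decide +kernel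

theorem chk_pow25_1_9 : tab.minOKc [4, 7] 2 162168 6757 = true := by decide +kernel

theorem chk_pow25_1_10 : tab.minOKc [4, 7] 2 168925 6757 = true := by decide +kernel

theorem chk_pow25_1_11 : tab.minOKc [4, 7] 2 175682 6757 = true := by decide +kernel

theorem chk_pow25_1_12 : tab.minOKc [4, 7] 2 182439 6757 = true := by decide +kernel

theorem chk_pow25_1_13 : tab.minOKc [4, 7] 2 189196 6757 = true := by decide +kernel

theorem chk_pow25_1_14 : tab.minOKc [4, 7] 2 195953 6757 = true := by decide +kernel

theorem chk_pow25_1 : tab.minOKc [4, 7] 2 101355 101355 = true := by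
  refine tab.minOKc_of_chunks [4, 7] 2 101355 6757 15 (by norm_num) ?_
  intro i hi
  interval_cases i
  · exact chk_pow25_1_0
  · exact chk_pow25_1_1
  · exact chk_pow25_1_2
  · exact chk_pow25_1_3
  · exact chk_pow25_1_4
  · exact chk_pow25_1_5
  · exact chk_pow25_1_6
  · exact chk_pow25_1_7
  · exact chk_pow25_1_8
  · exact chk_pow25_1_9
  · exact chk_pow25_1_10
  · exact chk_pow25_1_11
  · exact chk_pow25_1_12
  · exact chk_pow25_1_13
  · exact chk_pow25_1_14

end Cfsg.Agent.Lib.Helper6.Fi24TC
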