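import Cfsg.Agent.Lib.Helper6.Fi24TCData
import Cfsg.Agent.Lib.Helper6.TCRel3
import Cfsg.Agent.Lib.Helper6.Fi24TCRel62

/-! # Fi24: the kernel check of a part of the relators on the coset table -/

set_option autoImplicit false

namespace Cfsg.Agent.Lib.Helper6.Fi24TC

open Cfsg.Agent.Lib.Helper6.TC

theorem chk_pow37_0_0 : tab.minOKc [1, 9] 2 0 6657 = true := by decide +kernel

theorem chk_pow37_0_1 : tab.minOKc [1, 9] 2 6657 6657 = true := by decide +kernel

theorem chk_pow37_0_2 : tab.minOKc [1, 9] 2 13314 6657 = true := by decide +kernel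

theorem chk_pow37_0_3 : tab.minOKc [1, 9] 2 19971 6657 = true := by decide +kernel

theorem chk_pow37_0_4 : tab.minOKc [1, 9] 2 26628 6657 = true := by decide +kernel

theorem chk_pow37_0_5 : tab.minOKc [1, 9] 2 33285 6657 = true := by decide +kernel

theorem chk_pow37_0_6 : tab.minOKc [1, 9] 2 39942 6657 = true := by decide +kernel

theorem chk_pow37_0_7 : tab.minOKc [1, 9] 2 46599 6657 = true := by decide +kernel

theorem chk_pow37_0_8 : tab.minOKc [1, 9] 2 53256 6657 = true := by decide +kernel

theorem chk_pow37_0_9 : tab.minOKc [1, 9] 2 59913 6657 = true := by decide +kernel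

theorem chk_pow37_0_10 : tab.minOKc [1, 9] 2 66570 6657 = true := by decide +kernel

theorem chk_pow37_0_11 : tab.minOKc [1, 9] 2 73227 6657 = true := by decide +kernel

theorem chk_pow37_0_12 : tab.minOKc [1, 9] 2 79884 6657 = true := by decide +kernel

theorem chk_pow37_0_13 : tab.minOKc [1, 9] 2 86541 6657 = true := by decide +kernel

theorem chk_pow37_0_14 : tab.minOKc [1, 9] 2 93198 6657 = true := by decide +kernel

theorem chk_pow37_0 : tab.minOKc [1, 9] 2 0 99855 = true := by
  refine tab.minOKc_of_chunks [1, 9] 2 0 6657 15 (by norm_num) ?_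
  intro i hi
  interval_cases i
  · exact chk_pow37_0_0
  · exact chk_pow37_0_1
  · exact chk_pow37_0_2
  · exact chk_pow37_0_3
  · exact chk_pow37_0_4
  · exact chk_pow37_0_5
  · exact chk_pow37_0_6
  · exact chk_pow37_0_7
  · exact chk_pow37_0_8
  · exact chk_pow37_0_9
  · exact chk_pow37_0_10
  · exact chk_pow37_0_11
  · exact chk_pow37_0_12
  · exact chk_pow37_0_13
  · exact chk_pow37_0_14

theorem chk_pow37_1_0 : tab.minOKc [1, 9] 2 99855 6657 = true := by decide +kernel

theorem chk_pow37_1_1 : tab.minOKc [1, 9] 2 106512 6657 = true := by decide +kernel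

theorem chk_pow37_1_2 : tab.minOKc [1, 9] 2 113169 6657 = true := by decide +kernel

theorem chk_pow37_1_3 : tab.minOKc [1, 9] 2 119826 6657 = true := by decide +kernel

theorem chk_pow37_1_4 : tab.minOKc [1, 9] 2 126483 6657 = true := by decide +kernel

theorem chk_pow37_1_5 : tab.minOKc [1, 9] 2 133140 6657 = true := by decide +kernel

theorem chk_pow37_1_6 : tab.minOKc [1, 9] 2 139797 6657 = true := by decide +kernel

theorem chk_pow37_1_7 : tab.minOKc [1, 9] 2 146454 6657 = true := by decide +kernel

theorem chk_pow37_1_8 : tab.minOKc [1, 9] 2 153111 6657 = true := by decide +kernel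

theorem chk_pow37_1_9 : tab.minOKc [1, 9] 2 159768 6657 = true := by decide +kernel

theorem chk_pow37_1_10 : tab.minOKc [1, 9] 2 166425 6657 = true := by decide +kernel

theorem chk_pow37_1_11 : tab.minOKc [1, 9] 2 173082 6657 = true := by decide +kernel

theorem chk_pow37_1_12 : tab.minOKc [1, 9] 2 179739 6657 = true := by decide +kernel

theorem chk_pow37_1_13 : tab.minOKc [1, 9] 2 186396 6657 = true := by decide +kernel

theorem chk_pow37_1_14 : tab.minOKc [1, 9] 2 193053 6657 = true := by decide +kernel

theorem chk_pow37_1 : tab.minOKc [1, 9] 2 99855 99855 = true := by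
  refine tab.minOKc_of_chunks [1, 9] 2 99855 6657 15 (by norm_num) ?_
  intro i hi
  interval_cases i
  · exact chk_pow37_1_0
  · exact chk_pow37_1_1
  · exact chk_pow37_1_2
  · exact chk_pow37_1_3
  · exact chk_pow37_1_4
  · exact chk_pow37_1_5
  · exact chk_pow37_1_6
  · exact chk_pow37_1_7
  · exact chk_pow37_1_8
  · exact chk_pow37_1_9
  · exact chk_pow37_1_10
  · exact chk_pow37_1_11
  · exact chk_pow37_1_12
  · exact chk_pow37_1_13
  · exact chk_pow37_1_14

end Cfsg.Agent.Lib.Helper6.Fi24TC
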