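import Cfsg.Agent.Lib.Helper6.Fi24TCData
import Cfsg.Agent.Lib.Helper6.TCRel3
import Cfsg.Agent.Lib.Helper6.Fi24TCRel74

/-! # Fi24: the kernel check of a part of the relators on the coset table -/

set_option autoImplicit false

namespace Cfsg.Agent.Lib.Helper6.Fi24TC

open Cfsg.Agent.Lib.Helper6.TC

theorem chk_pow43_0_0 : tab.minOKc [7, 9] 2 0 6678 = true := by decide +kernel

theorem chk_pow43_0_1 : tab.minOKc [7, 9] 2 6678 6678 = true := by decide +kernel

theorem chk_pow43_0_2 : tab.minOKc [7, 9] 2 13356 6678 = true := by decide +kernel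

theorem chk_pow43_0_3 : tab.minOKc [7, 9] 2 20034 6678 = true := by decide +kernel

theorem chk_pow43_0_4 : tab.minOKc [7, 9] 2 26712 6678 = true := by decide +kernel

theorem chk_pow43_0_5 : tab.minOKc [7, 9] 2 33390 6678 = true := by decide +kernel

theorem chk_pow43_0_6 : tab.minOKc [7, 9] 2 40068 6678 = true := by decide +kernel

theorem chk_pow43_0_7 : tab.minOKc [7, 9] 2 46746 6678 = true := by decide +kernel

theorem chk_pow43_0_8 : tab.minOKc [7, 9] 2 53424 6678 = true := by decide +kernel

theorem chk_pow43_0_9 : tab.minOKc [7, 9] 2 60102 6678 = true := by decide +kernel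

theorem chk_pow43_0_10 : tab.minOKc [7, 9] 2 66780 6678 = true := by decide +kernel

theorem chk_pow43_0_11 : tab.minOKc [7, 9] 2 73458 6678 = true := by decide +kernel

theorem chk_pow43_0_12 : tab.minOKc [7, 9] 2 80136 6678 = true := by decide +kernel

theorem chk_pow43_0_13 : tab.minOKc [7, 9] 2 86814 6678 = true := by decide +kernel

theorem chk_pow43_0_14 : tab.minOKc [7, 9] 2 93492 6678 = true := by decide +kernel

theorem chk_pow43_0 : tab.minOKc [7, 9] 2 0 100170 = true := by
  refine tab.minOKc_of_chunks [7, 9] 2 0 6678 15 (by norm_num) ?_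
  intro i hi
  interval_cases i
  · exact chk_pow43_0_0
  · exact chk_pow43_0_1
  · exact chk_pow43_0_2
  · exact chk_pow43_0_3
  · exact chk_pow43_0_4
  · exact chk_pow43_0_5
  · exact chk_pow43_0_6
  · exact chk_pow43_0_7
  · exact chk_pow43_0_8
  · exact chk_pow43_0_9
  · exact chk_pow43_0_10
  · exact chk_pow43_0_11
  · exact chk_pow43_0_12
  · exact chk_pow43_0_13
  · exact chk_pow43_0_14

theorem chk_pow43_1_0 : tab.minOKc [7, 9] 2 100170 6678 = true := by decide +kernel

theorem chk_pow43_1_1 : tab.minOKc [7, 9] 2 106848 6678 = true := by decide +kernel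

theorem chk_pow43_1_2 : tab.minOKc [7, 9] 2 113526 6678 = true := by decide +kernel

theorem chk_pow43_1_3 : tab.minOKc [7, 9] 2 120204 6678 = true := by decide +kernel

theorem chk_pow43_1_4 : tab.minOKc [7, 9] 2 126882 6678 = true := by decide +kernel

theorem chk_pow43_1_5 : tab.minOKc [7, 9] 2 133560 6678 = true := by decide +kernel

theorem chk_pow43_1_6 : tab.minOKc [7, 9] 2 140238 6678 = true := by decide +kernel

theorem chk_pow43_1_7 : tab.minOKc [7, 9] 2 146916 6678 = true := by decide +kernel

theorem chk_pow43_1_8 : tab.minOKc [7, 9] 2 153594 6678 = true := by decide +kernel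

theorem chk_pow43_1_9 : tab.minOKc [7, 9] 2 160272 6678 = true := by decide +kernel

theorem chk_pow43_1_10 : tab.minOKc [7, 9] 2 166950 6678 = true := by decide +kernel

theorem chk_pow43_1_11 : tab.minOKc [7, 9] 2 173628 6678 = true := by decide +kernel

theorem chk_pow43_1_12 : tab.minOKc [7, 9] 2 180306 6678 = true := by decide +kernel

theorem chk_pow43_1_13 : tab.minOKc [7, 9] 2 186984 6678 = true := by decide +kernel

theorem chk_pow43_1_14 : tab.minOKc [7, 9] 2 193662 6678 = true := by decide +kernel

theorem chk_pow43_1 : tab.minOKc [7, 9] 2 100170 100170 = true := by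
  refine tab.minOKc_of_chunks [7, 9] 2 100170 6678 15 (by norm_num) ?_
  intro i hi
  interval_cases i
  · exact chk_pow43_1_0
  · exact chk_pow43_1_1
  · exact chk_pow43_1_2
  · exact chk_pow43_1_3
  · exact chk_pow43_1_4
  · exact chk_pow43_1_5
  · exact chk_pow43_1_6
  · exact chk_pow43_1_7
  · exact chk_pow43_1_8
  · exact chk_pow43_1_9
  · exact chk_pow43_1_10
  · exact chk_pow43_1_11
  · exact chk_pow43_1_12
  · exact chk_pow43_1_13
  · exact chk_pow43_1_14

end Cfsg.Agent.Lib.Helper6.Fi24TC
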