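import Cfsg.Agent.Lib.Helper6.Fi24TCData
import Cfsg.Agent.Lib.Helper6.TCRel3
import Cfsg.Agent.Lib.Helper6.Fi24TCRel98

/-! # Fi24: the kernel check of a part of the relators on the coset table -/

set_option autoImplicit false

namespace Cfsg.Agent.Lib.Helper6.Fi24TC

open Cfsg.Agent.Lib.Helper6.TC

theorem chk_pow55_0_0 : tab.minOKc [0, 11] 2 0 6644 = true := by decide +kernel

theorem chk_pow55_0_1 : tab.minOKc [0, 11] 2 6644 6644 = true := by decide +kernel

theorem chk_pow55_0_2 : tab.minOKc [0, 11] 2 13288 6644 = true := by decide +kernel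

theorem chk_pow55_0_3 : tab.minOKc [0, 11] 2 19932 6644 = true := by decide +kernel

theorem chk_pow55_0_4 : tab.minOKc [0, 11] 2 26576 6644 = true := by decide +kernel

theorem chk_pow55_0_5 : tab.minOKc [0, 11] 2 33220 6644 = true := by decide +kernel

theorem chk_pow55_0_6 : tab.minOKc [0, 11] 2 39864 6644 = true := by decide +kernel

theorem chk_pow55_0_7 : tab.minOKc [0, 11] 2 46508 6644 = true := by decide +kernel

theorem chk_pow55_0_8 : tab.minOKc [0, 11] 2 53152 6644 = true := by decide +kernel

theorem chk_pow55_0_9 : tab.minOKc [0, 11] 2 59796 6644 = true := by decide +kernel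

theorem chk_pow55_0_10 : tab.minOKc [0, 11] 2 66440 6644 = true := by decide +kernel

theorem chk_pow55_0_11 : tab.minOKc [0, 11] 2 73084 6644 = true := by decide +kernel

theorem chk_pow55_0_12 : tab.minOKc [0, 11] 2 79728 6644 = true := by decide +kernel

theorem chk_pow55_0_13 : tab.minOKc [0, 11] 2 86372 6644 = true := by decide +kernel

theorem chk_pow55_0_14 : tab.minOKc [0, 11] 2 93016 6644 = true := by decide +kernel

theorem chk_pow55_0 : tab.minOKc [0, 11] 2 0 99660 = true := by
  refine tab.minOKc_of_chunks [0, 11] 2 0 6644 15 (by norm_num) ?_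
  intro i hi
  interval_cases i
  · exact chk_pow55_0_0
  · exact chk_pow55_0_1
  · exact chk_pow55_0_2
  · exact chk_pow55_0_3
  · exact chk_pow55_0_4
  · exact chk_pow55_0_5
  · exact chk_pow55_0_6
  · exact chk_pow55_0_7
  · exact chk_pow55_0_8
  · exact chk_pow55_0_9
  · exact chk_pow55_0_10
  · exact chk_pow55_0_11
  · exact chk_pow55_0_12
  · exact chk_pow55_0_13
  · exact chk_pow55_0_14

theorem chk_pow55_1_0 : tab.minOKc [0, 11] 2 99660 6644 = true := by decide +kernel

theorem chk_pow55_1_1 : tab.minOKc [0, 11] 2 106304 6644 = true := by decide +kernel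

theorem chk_pow55_1_2 : tab.minOKc [0, 11] 2 112948 6644 = true := by decide +kernel

theorem chk_pow55_1_3 : tab.minOKc [0, 11] 2 119592 6644 = true := by decide +kernel

theorem chk_pow55_1_4 : tab.minOKc [0, 11] 2 126236 6644 = true := by decide +kernel

theorem chk_pow55_1_5 : tab.minOKc [0, 11] 2 132880 6644 = true := by decide +kernel

theorem chk_pow55_1_6 : tab.minOKc [0, 11] 2 139524 6644 = true := by decide +kernel

theorem chk_pow55_1_7 : tab.minOKc [0, 11] 2 146168 6644 = true := by decide +kernel

theorem chk_pow55_1_8 : tab.minOKc [0, 11] 2 152812 6644 = true := by decide +kernel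

theorem chk_pow55_1_9 : tab.minOKc [0, 11] 2 159456 6644 = true := by decide +kernel

theorem chk_pow55_1_10 : tab.minOKc [0, 11] 2 166100 6644 = true := by decide +kernel

theorem chk_pow55_1_11 : tab.minOKc [0, 11] 2 172744 6644 = true := by decide +kernel

theorem chk_pow55_1_12 : tab.minOKc [0, 11] 2 179388 6644 = true := by decide +kernel

theorem chk_pow55_1_13 : tab.minOKc [0, 11] 2 186032 6644 = true := by decide +kernel

theorem chk_pow55_1_14 : tab.minOKc [0, 11] 2 192676 6644 = true := by decide +kernel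

theorem chk_pow55_1 : tab.minOKc [0, 11] 2 99660 99660 = true := by
  refine tab.minOKc_of_chunks [0, 11] 2 99660 6644 15 (by norm_num) ?_
  intro i hi
  interval_cases i
  · exact chk_pow55_1_0
  · exact chk_pow55_1_1
  · exact chk_pow55_1_2
  · exact chk_pow55_1_3
  · exact chk_pow55_1_4
  · exact chk_pow55_1_5
  · exact chk_pow55_1_6
  · exact chk_pow55_1_7
  · exact chk_pow55_1_8
  · exact chk_pow55_1_9
  · exact chk_pow55_1_10
  · exact chk_pow55_1_11
  · exact chk_pow55_1_12
  · exact chk_pow55_1_13
  · exact chk_pow55_1_14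

end Cfsg.Agent.Lib.Helper6.Fi24TC
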