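import Cfsg.Agent.Lib.Helper6.Fi24SCert
import Cfsg.Agent.Lib.Helper6.Fi24SRows9

/-! # Fi24: the kernel check of the rows from 164568 on -/

set_option autoImplicit false

namespace Cfsg.Agent.Lib.Helper6.Fi24TC

open Cfsg.Agent.Lib.Helper6.TC Cfsg.Agent.Lib.Helper6.TCS

theorem chk_rows21_0 : cert.rowsOK 164568 293 = true := by decide +kernel

theorem chk_rows21_1 : cert.rowsOK 164861 293 = true := by decide +kernel

theorem chk_rows21_2 : cert.rowsOK 165154 293 = true := by decide +kernel

theorem chk_rows21_3 : cert.rowsOK 165447 293 = true := by decide +kernel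

theorem chk_rows21_4 : cert.rowsOK 165740 293 = true := by decide +kernel

theorem chk_rows21_5 : cert.rowsOK 166033 293 = true := by decide +kernel

theorem chk_rows21_6 : cert.rowsOK 166326 293 = true := by decide +kernel

theorem chk_rows21_7 : cert.rowsOK 166619 293 = true := by decide +kernel

theorem chk_rows21_8 : cert.rowsOK 166912 293 = true := by decide +kernel

theorem chk_rows21_9 : cert.rowsOK 167205 293 = true := by decide +kernel

theorem chk_rows21_10 : cert.rowsOK 167498 293 = true := by decide +kernel

theorem chk_rows21_11 : cert.rowsOK 167791 293 = true := by decide +kernel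

theorem chk_rows21_12 : cert.rowsOK 168084 293 = true := by decide +kernel

theorem chk_rows21_13 : cert.rowsOK 168377 293 = true := by decide +kernel

theorem chk_rows21_14 : cert.rowsOK 168670 293 = true := by decide +kernel

theorem chk_rows21_15 : cert.rowsOK 168963 293 = true := by decide +kernel

theorem chk_rows21_16 : cert.rowsOK 169256 293 = true := by decide +kernel

theorem chk_rows21_17 : cert.rowsOK 169549 293 = true := by decide +kernel

theorem chk_rows21_18 : cert.rowsOK 169842 293 = true := by decide +kernel

theorem chk_rows21_19 : cert.rowsOK 170135 293 = true := by decide +kernel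

theorem chk_rows21_20 : cert.rowsOK 170428 293 = true := by decide +kernel

theorem chk_rows21_21 : cert.rowsOK 170721 293 = true := by decide +kernel

theorem chk_rows21_22 : cert.rowsOK 171014 293 = true := by decide +kernel

theorem chk_rows21_23 : cert.rowsOK 171307 293 = true := by decide +kernel

theorem chk_range21 : ∀ a, 164568 ≤ a → a < 171600 → ∀ x < cert.c.g, cert.slotOK a x = true := by
  refine cert.range_of_chunks 164568 293 24 (by norm_num) ?_
  intro k hk
  interval_cases k
  · exact chk_rows21_0
  · exact chk_rows21_1
  · exact chk_rows21_2
  · exact chk_rows21_3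
  · exact chk_rows21_4
  · exact chk_rows21_5
  · exact chk_rows21_6
  · exact chk_rows21_7
  · exact chk_rows21_8
  · exact chk_rows21_9
  · exact chk_rows21_10
  · exact chk_rows21_11
  · exact chk_rows21_12
  · exact chk_rows21_13
  · exact chk_rows21_14
  · exact chk_rows21_15
  · exact chk_rows21_16
  · exact chk_rows21_17
  · exact chk_rows21_18
  · exact chk_rows21_19
  · exact chk_rows21_20
  · exact chk_rows21_21
  · exact chk_rows21_22
  · exact chk_rows21_23

end Cfsg.Agent.Lib.Helper6.Fi24TC
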