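import Cfsg.Agent.Lib.Helper6.Fi24SCert
import Cfsg.Agent.Lib.Helper6.Fi24SRows21

/-! # Fi24: the kernel check of the rows from 241848 on -/

set_option autoImplicit false

namespace Cfsg.Agent.Lib.Helper6.Fi24TC

open Cfsg.Agent.Lib.Helper6.TC Cfsg.Agent.Lib.Helper6.TCS

theorem chk_rows33_0 : cert.rowsOK 241848 179 = true := by decide +kernel

theorem chk_rows33_1 : cert.rowsOK 242027 179 = true := by decide +kernel

theorem chk_rows33_2 : cert.rowsOK 242206 179 = true := by decide +kernel

theorem chk_rows33_3 : cert.rowsOK 242385 179 = true := by decide +kernel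

theorem chk_rows33_4 : cert.rowsOK 242564 179 = true := by decide +kernel

theorem chk_rows33_5 : cert.rowsOK 242743 179 = true := by decide +kernel

theorem chk_rows33_6 : cert.rowsOK 242922 179 = true := by decide +kernel

theorem chk_rows33_7 : cert.rowsOK 243101 179 = true := by decide +kernel

theorem chk_rows33_8 : cert.rowsOK 243280 179 = true := by decide +kernel

theorem chk_rows33_9 : cert.rowsOK 243459 179 = true := by decide +kernel

theorem chk_rows33_10 : cert.rowsOK 243638 179 = true := by decide +kernel

theorem chk_rows33_11 : cert.rowsOK 243817 179 = true := by decide +kernel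

theorem chk_rows33_12 : cert.rowsOK 243996 179 = true := by decide +kernel

theorem chk_rows33_13 : cert.rowsOK 244175 179 = true := by decide +kernel

theorem chk_rows33_14 : cert.rowsOK 244354 179 = true := by decide +kernel

theorem chk_rows33_15 : cert.rowsOK 244533 179 = true := by decide +kernel

theorem chk_rows33_16 : cert.rowsOK 244712 179 = true := by decide +kernel

theorem chk_rows33_17 : cert.rowsOK 244891 179 = true := by decide +kernel

theorem chk_rows33_18 : cert.rowsOK 245070 179 = true := by decide +kernel

theorem chk_rows33_19 : cert.rowsOK 245249 179 = true := by decide +kernel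

theorem chk_rows33_20 : cert.rowsOK 245428 179 = true := by decide +kernel

theorem chk_rows33_21 : cert.rowsOK 245607 179 = true := by decide +kernel

theorem chk_rows33_22 : cert.rowsOK 245786 179 = true := by decide +kernel

theorem chk_rows33_23 : cert.rowsOK 245965 179 = true := by decide +kernel

theorem chk_range33 : ∀ a, 241848 ≤ a → a < 246144 → ∀ x < cert.c.g, cert.slotOK a x = true := by
  refine cert.range_of_chunks 241848 179 24 (by norm_num) ?_
  intro k hk
  interval_cases k
  · exact chk_rows33_0
  · exact chk_rows33_1
  · exact chk_rows33_2
  · exact chk_rows33_3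
  · exact chk_rows33_4
  · exact chk_rows33_5
  · exact chk_rows33_6
  · exact chk_rows33_7
  · exact chk_rows33_8
  · exact chk_rows33_9
  · exact chk_rows33_10
  · exact chk_rows33_11
  · exact chk_rows33_12
  · exact chk_rows33_13
  · exact chk_rows33_14
  · exact chk_rows33_15
  · exact chk_rows33_16
  · exact chk_rows33_17
  · exact chk_rows33_18
  · exact chk_rows33_19
  · exact chk_rows33_20
  · exact chk_rows33_21
  · exact chk_rows33_22
  · exact chk_rows33_23

end Cfsg.Agent.Lib.Helper6.Fi24TC
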