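import Cfsg.Agent.Lib.Helper6.Fi24SCert
import Cfsg.Agent.Lib.Helper6.Fi24SRows33

/-! # Fi24: the kernel check of the rows from 284136 on -/

set_option autoImplicit false

namespace Cfsg.Agent.Lib.Helper6.Fi24TC

open Cfsg.Agent.Lib.Helper6.TC Cfsg.Agent.Lib.Helper6.TCS

theorem chk_rows45_0 : cert.rowsOK 284136 109 = true := by decide +kernel

theorem chk_rows45_1 : cert.rowsOK 284245 109 = true := by decide +kernel

theorem chk_rows45_2 : cert.rowsOK 284354 109 = true := by decide +kernel

theorem chk_rows45_3 : cert.rowsOK 284463 109 = true := by decide +kernel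

theorem chk_rows45_4 : cert.rowsOK 284572 109 = true := by decide +kernel

theorem chk_rows45_5 : cert.rowsOK 284681 109 = true := by decide +kernel

theorem chk_rows45_6 : cert.rowsOK 284790 109 = true := by decide +kernel

theorem chk_rows45_7 : cert.rowsOK 284899 109 = true := by decide +kernel

theorem chk_rows45_8 : cert.rowsOK 285008 109 = true := by decide +kernel

theorem chk_rows45_9 : cert.rowsOK 285117 109 = true := by decide +kernel

theorem chk_rows45_10 : cert.rowsOK 285226 109 = true := by decide +kernel

theorem chk_rows45_11 : cert.rowsOK 285335 109 = true := by decide +kernel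

theorem chk_rows45_12 : cert.rowsOK 285444 109 = true := by decide +kernel

theorem chk_rows45_13 : cert.rowsOK 285553 109 = true := by decide +kernel

theorem chk_rows45_14 : cert.rowsOK 285662 109 = true := by decide +kernel

theorem chk_rows45_15 : cert.rowsOK 285771 109 = true := by decide +kernel

theorem chk_rows45_16 : cert.rowsOK 285880 109 = true := by decide +kernel

theorem chk_rows45_17 : cert.rowsOK 285989 109 = true := by decide +kernel

theorem chk_rows45_18 : cert.rowsOK 286098 109 = true := by decide +kernel

theorem chk_rows45_19 : cert.rowsOK 286207 109 = true := by decide +kernel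

theorem chk_rows45_20 : cert.rowsOK 286316 109 = true := by decide +kernel

theorem chk_rows45_21 : cert.rowsOK 286425 109 = true := by decide +kernel

theorem chk_rows45_22 : cert.rowsOK 286534 109 = true := by decide +kernel

theorem chk_rows45_23 : cert.rowsOK 286643 109 = true := by decide +kernel

theorem chk_range45 : ∀ a, 284136 ≤ a → a < 286752 → ∀ x < cert.c.g, cert.slotOK a x = true := by
  refine cert.range_of_chunks 284136 109 24 (by norm_num) ?_
  intro k hk
  interval_cases k
  · exact chk_rows45_0
  · exact chk_rows45_1
  · exact chk_rows45_2
  · exact chk_rows45_3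
  · exact chk_rows45_4
  · exact chk_rows45_5
  · exact chk_rows45_6
  · exact chk_rows45_7
  · exact chk_rows45_8
  · exact chk_rows45_9
  · exact chk_rows45_10
  · exact chk_rows45_11
  · exact chk_rows45_12
  · exact chk_rows45_13
  · exact chk_rows45_14
  · exact chk_rows45_15
  · exact chk_rows45_16
  · exact chk_rows45_17
  · exact chk_rows45_18
  · exact chk_rows45_19
  · exact chk_rows45_20
  · exact chk_rows45_21
  · exact chk_rows45_22
  · exact chk_rows45_23

end Cfsg.Agent.Lib.Helper6.Fi24TC
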