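import Cfsg.Agent.Lib.Helper6.Fi24SCert
import Cfsg.Agent.Lib.Helper6.Fi24SRows45

/-! # Fi24: the kernel check of the rows from 305520 on -/

set_option autoImplicit false

namespace Cfsg.Agent.Lib.Helper6.Fi24TC

open Cfsg.Agent.Lib.Helper6.TC Cfsg.Agent.Lib.Helper6.TCS

theorem chk_rows57_0 : cert.rowsOK 305520 39 = true := by decide +kernel

theorem chk_rows57_1 : cert.rowsOK 305559 39 = true := by decide +kernel

theorem chk_rows57_2 : cert.rowsOK 305598 39 = true := by decide +kernel

theorem chk_rows57_3 : cert.rowsOK 305637 39 = true := by decide +kernel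

theorem chk_rows57_4 : cert.rowsOK 305676 39 = true := by decide +kernel

theorem chk_rows57_5 : cert.rowsOK 305715 39 = true := by decide +kernel

theorem chk_rows57_6 : cert.rowsOK 305754 39 = true := by decide +kernel

theorem chk_rows57_7 : cert.rowsOK 305793 39 = true := by decide +kernel

theorem chk_rows57_8 : cert.rowsOK 305832 39 = true := by decide +kernel

theorem chk_rows57_9 : cert.rowsOK 305871 39 = true := by decide +kernel

theorem chk_rows57_10 : cert.rowsOK 305910 39 = true := by decide +kernel

theorem chk_rows57_11 : cert.rowsOK 305949 39 = true := by decide +kernel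

theorem chk_rows57_12 : cert.rowsOK 305988 39 = true := by decide +kernel

theorem chk_rows57_13 : cert.rowsOK 306027 39 = true := by decide +kernel

theorem chk_rows57_14 : cert.rowsOK 306066 39 = true := by decide +kernel

theorem chk_rows57_15 : cert.rowsOK 306105 39 = true := by decide +kernel

theorem chk_rows57_16 : cert.rowsOK 306144 39 = true := by decide +kernel

theorem chk_rows57_17 : cert.rowsOK 306183 39 = true := by decide +kernel

theorem chk_rows57_18 : cert.rowsOK 306222 39 = true := by decide +kernel

theorem chk_rows57_19 : cert.rowsOK 306261 39 = true := by decide +kernel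

theorem chk_rows57_20 : cert.rowsOK 306300 39 = true := by decide +kernel

theorem chk_rows57_21 : cert.rowsOK 306339 39 = true := by decide +kernel

theorem chk_rows57_22 : cert.rowsOK 306378 39 = true := by decide +kernel

theorem chk_rows57_23 : cert.rowsOK 306417 39 = true := by decide +kernel

theorem chk_range57 : ∀ a, 305520 ≤ a → a < 306456 → ∀ x < cert.c.g, cert.slotOK a x = true := by
  refine cert.range_of_chunks 305520 39 24 (by norm_num) ?_
  intro k hk
  interval_cases k
  · exact chk_rows57_0
  · exact chk_rows57_1
  · exact chk_rows57_2
  · exact chk_rows57_3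
  · exact chk_rows57_4
  · exact chk_rows57_5
  · exact chk_rows57_6
  · exact chk_rows57_7
  · exact chk_rows57_8
  · exact chk_rows57_9
  · exact chk_rows57_10
  · exact chk_rows57_11
  · exact chk_rows57_12
  · exact chk_rows57_13
  · exact chk_rows57_14
  · exact chk_rows57_15
  · exact chk_rows57_16
  · exact chk_rows57_17
  · exact chk_rows57_18
  · exact chk_rows57_19
  · exact chk_rows57_20
  · exact chk_rows57_21
  · exact chk_rows57_22
  · exact chk_rows57_23

end Cfsg.Agent.Lib.Helper6.Fi24TC
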