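import Cfsg.Agent.Lib.Helper6.Fi24TCData
import Cfsg.Agent.Lib.Helper6.TCRel3
import Cfsg.Agent.Lib.Helper6.Fi24SFin9

/-! # Fi24: the kernel check of a part of the relators on the coset table -/

set_option autoImplicit false

namespace Cfsg.Agent.Lib.Helper6.Fi24TC

open Cfsg.Agent.Lib.Helper6.TC

theorem chk_pow1_2_0 : tab.minOKc [0, 2] 2 201690 6723 = true := by decide +kernel

theorem chk_pow1_2_1 : tab.minOKc [0, 2] 2 208413 6723 = true := by decide +kernel

theorem chk_pow1_2_2 : tab.minOKc [0, 2] 2 215136 6723 = true := by decide +kernel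

theorem chk_pow1_2_3 : tab.minOKc [0, 2] 2 221859 6723 = true := by decide +kernel

theorem chk_pow1_2_4 : tab.minOKc [0, 2] 2 228582 6723 = true := by decide +kernel

theorem chk_pow1_2_5 : tab.minOKc [0, 2] 2 235305 6723 = true := by decide +kernel

theorem chk_pow1_2_6 : tab.minOKc [0, 2] 2 242028 6723 = true := by decide +kernel

theorem chk_pow1_2_7 : tab.minOKc [0, 2] 2 248751 6723 = true := by decide +kernel

theorem chk_pow1_2_8 : tab.minOKc [0, 2] 2 255474 6723 = true := by decide +kernel

theorem chk_pow1_2_9 : tab.minOKc [0, 2] 2 262197 6723 = true := by decide +kernel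

theorem chk_pow1_2_10 : tab.minOKc [0, 2] 2 268920 6723 = true := by decide +kernel

theorem chk_pow1_2_11 : tab.minOKc [0, 2] 2 275643 6723 = true := by decide +kernel

theorem chk_pow1_2_12 : tab.minOKc [0, 2] 2 282366 6723 = true := by decide +kernel

theorem chk_pow1_2_13 : tab.minOKc [0, 2] 2 289089 6723 = true := by decide +kernel

theorem chk_pow1_2_14 : tab.minOKc [0, 2] 2 295812 6723 = true := by decide +kernel

theorem chk_pow1_2 : tab.minOKc [0, 2] 2 201690 100845 = true := by
  refine tab.minOKc_of_chunks [0, 2] 2 201690 6723 15 (by norm_num) ?_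
  intro i hi
  interval_cases i
  · exact chk_pow1_2_0
  · exact chk_pow1_2_1
  · exact chk_pow1_2_2
  · exact chk_pow1_2_3
  · exact chk_pow1_2_4
  · exact chk_pow1_2_5
  · exact chk_pow1_2_6
  · exact chk_pow1_2_7
  · exact chk_pow1_2_8
  · exact chk_pow1_2_9
  · exact chk_pow1_2_10
  · exact chk_pow1_2_11
  · exact chk_pow1_2_12
  · exact chk_pow1_2_13
  · exact chk_pow1_2_14

theorem chk_pow1_3_0 : tab.minOKc [0, 2] 2 302535 6723 = true := by decide +kernel

theorem chk_pow1_3_1 : tab.minOKc [0, 2] 2 309258 6723 = true := by decide +kernel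

theorem chk_pow1_3_2 : tab.minOKc [0, 2] 2 315981 6723 = true := by decide +kernel

theorem chk_pow1_3_3 : tab.minOKc [0, 2] 2 322704 6723 = true := by decide +kernel

theorem chk_pow1_3_4 : tab.minOKc [0, 2] 2 329427 6723 = true := by decide +kernel

theorem chk_pow1_3_5 : tab.minOKc [0, 2] 2 336150 6723 = true := by decide +kernel

theorem chk_pow1_3_6 : tab.minOKc [0, 2] 2 342873 6723 = true := by decide +kernel

theorem chk_pow1_3_7 : tab.minOKc [0, 2] 2 349596 6723 = true := by decide +kernel

theorem chk_pow1_3_8 : tab.minOKc [0, 2] 2 356319 6723 = true := by decide +kernel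

theorem chk_pow1_3_9 : tab.minOKc [0, 2] 2 363042 6723 = true := by decide +kernel

theorem chk_pow1_3_10 : tab.minOKc [0, 2] 2 369765 6723 = true := by decide +kernel

theorem chk_pow1_3_11 : tab.minOKc [0, 2] 2 376488 6723 = true := by decide +kernel

theorem chk_pow1_3_12 : tab.minOKc [0, 2] 2 383211 6723 = true := by decide +kernel

theorem chk_pow1_3_13 : tab.minOKc [0, 2] 2 389934 6723 = true := by decide +kernel

theorem chk_pow1_3_14 : tab.minOKc [0, 2] 2 396657 6723 = true := by decide +kernel

theorem chk_pow1_3 : tab.minOKc [0, 2] 2 302535 100845 = true := by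
  refine tab.minOKc_of_chunks [0, 2] 2 302535 6723 15 (by norm_num) ?_
  intro i hi
  interval_cases i
  · exact chk_pow1_3_0
  · exact chk_pow1_3_1
  · exact chk_pow1_3_2
  · exact chk_pow1_3_3
  · exact chk_pow1_3_4
  · exact chk_pow1_3_5
  · exact chk_pow1_3_6
  · exact chk_pow1_3_7
  · exact chk_pow1_3_8
  · exact chk_pow1_3_9
  · exact chk_pow1_3_10
  · exact chk_pow1_3_11
  · exact chk_pow1_3_12
  · exact chk_pow1_3_13
  · exact chk_pow1_3_14

end Cfsg.Agent.Lib.Helper6.Fi24TC
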