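import Cfsg.Agent.Lib.Helper6.Fi24TCData
import Cfsg.Agent.Lib.Helper6.TCRel3
import Cfsg.Agent.Lib.Helper6.Fi24TCRel3

/-! # Fi24: the kernel check of a part of the relators on the coset table -/

set_option autoImplicit false

namespace Cfsg.Agent.Lib.Helper6.Fi24TC

open Cfsg.Agent.Lib.Helper6.TC

theorem chk_pow7_2_0 : tab.minOKc [1, 4] 2 200220 6674 = true := by decide +kernel

theorem chk_pow7_2_1 : tab.minOKc [1, 4] 2 206894 6674 = true := by decide +kernel

theorem chk_pow7_2_2 : tab.minOKc [1, 4] 2 213568 6674 = true := by decide +kernel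

theorem chk_pow7_2_3 : tab.minOKc [1, 4] 2 220242 6674 = true := by decide +kernel

theorem chk_pow7_2_4 : tab.minOKc [1, 4] 2 226916 6674 = true := by decide +kernel

theorem chk_pow7_2_5 : tab.minOKc [1, 4] 2 233590 6674 = true := by decide +kernel

theorem chk_pow7_2_6 : tab.minOKc [1, 4] 2 240264 6674 = true := by decide +kernel

theorem chk_pow7_2_7 : tab.minOKc [1, 4] 2 246938 6674 = true := by decide +kernel

theorem chk_pow7_2_8 : tab.minOKc [1, 4] 2 253612 6674 = true := by decide +kernel

theorem chk_pow7_2_9 : tab.minOKc [1, 4] 2 260286 6674 = true := by decide +kernel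

theorem chk_pow7_2_10 : tab.minOKc [1, 4] 2 266960 6674 = true := by decide +kernel

theorem chk_pow7_2_11 : tab.minOKc [1, 4] 2 273634 6674 = true := by decide +kernel

theorem chk_pow7_2_12 : tab.minOKc [1, 4] 2 280308 6674 = true := by decide +kernel

theorem chk_pow7_2_13 : tab.minOKc [1, 4] 2 286982 6674 = true := by decide +kernel

theorem chk_pow7_2_14 : tab.minOKc [1, 4] 2 293656 6674 = true := by decide +kernel

theorem chk_pow7_2 : tab.minOKc [1, 4] 2 200220 100110 = true := by
  refine tab.minOKc_of_chunks [1, 4] 2 200220 6674 15 (by norm_num) ?_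
  intro i hi
  interval_cases i
  · exact chk_pow7_2_0
  · exact chk_pow7_2_1
  · exact chk_pow7_2_2
  · exact chk_pow7_2_3
  · exact chk_pow7_2_4
  · exact chk_pow7_2_5
  · exact chk_pow7_2_6
  · exact chk_pow7_2_7
  · exact chk_pow7_2_8
  · exact chk_pow7_2_9
  · exact chk_pow7_2_10
  · exact chk_pow7_2_11
  · exact chk_pow7_2_12
  · exact chk_pow7_2_13
  · exact chk_pow7_2_14

theorem chk_pow7_3_0 : tab.minOKc [1, 4] 2 300330 6674 = true := by decide +kernel

theorem chk_pow7_3_1 : tab.minOKc [1, 4] 2 307004 6674 = true := by decide +kernel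

theorem chk_pow7_3_2 : tab.minOKc [1, 4] 2 313678 6674 = true := by decide +kernel

theorem chk_pow7_3_3 : tab.minOKc [1, 4] 2 320352 6674 = true := by decide +kernel

theorem chk_pow7_3_4 : tab.minOKc [1, 4] 2 327026 6674 = true := by decide +kernel

theorem chk_pow7_3_5 : tab.minOKc [1, 4] 2 333700 6674 = true := by decide +kernel

theorem chk_pow7_3_6 : tab.minOKc [1, 4] 2 340374 6674 = true := by decide +kernel

theorem chk_pow7_3_7 : tab.minOKc [1, 4] 2 347048 6674 = true := by decide +kernel

theorem chk_pow7_3_8 : tab.minOKc [1, 4] 2 353722 6674 = true := by decide +kernel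

theorem chk_pow7_3_9 : tab.minOKc [1, 4] 2 360396 6674 = true := by decide +kernel

theorem chk_pow7_3_10 : tab.minOKc [1, 4] 2 367070 6674 = true := by decide +kernel

theorem chk_pow7_3_11 : tab.minOKc [1, 4] 2 373744 6674 = true := by decide +kernel

theorem chk_pow7_3_12 : tab.minOKc [1, 4] 2 380418 6674 = true := by decide +kernel

theorem chk_pow7_3_13 : tab.minOKc [1, 4] 2 387092 6674 = true := by decide +kernel

theorem chk_pow7_3_14 : tab.minOKc [1, 4] 2 393766 6674 = true := by decide +kernel

theorem chk_pow7_3 : tab.minOKc [1, 4] 2 300330 100110 = true := by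
  refine tab.minOKc_of_chunks [1, 4] 2 300330 6674 15 (by norm_num) ?_
  intro i hi
  interval_cases i
  · exact chk_pow7_3_0
  · exact chk_pow7_3_1
  · exact chk_pow7_3_2
  · exact chk_pow7_3_3
  · exact chk_pow7_3_4
  · exact chk_pow7_3_5
  · exact chk_pow7_3_6
  · exact chk_pow7_3_7
  · exact chk_pow7_3_8
  · exact chk_pow7_3_9
  · exact chk_pow7_3_10
  · exact chk_pow7_3_11
  · exact chk_pow7_3_12
  · exact chk_pow7_3_13
  · exact chk_pow7_3_14

end Cfsg.Agent.Lib.Helper6.Fi24TC
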