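import Cfsg.Agent.Lib.Helper6.Fi24TCData
import Cfsg.Agent.Lib.Helper6.TCRel3
import Cfsg.Agent.Lib.Helper6.Fi24TCRel15

/-! # Fi24: the kernel check of a part of the relators on the coset table -/

set_option autoImplicit false

namespace Cfsg.Agent.Lib.Helper6.Fi24TC

open Cfsg.Agent.Lib.Helper6.TC

theorem chk_pow13_2_0 : tab.minOKc [3, 5] 2 198930 6631 = true := by decide +kernel

theorem chk_pow13_2_1 : tab.minOKc [3, 5] 2 205561 6631 = true := by decide +kernel

theorem chk_pow13_2_2 : tab.minOKc [3, 5] 2 212192 6631 = true := by decide +kernel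

theorem chk_pow13_2_3 : tab.minOKc [3, 5] 2 218823 6631 = true := by decide +kernel

theorem chk_pow13_2_4 : tab.minOKc [3, 5] 2 225454 6631 = true := by decide +kernel

theorem chk_pow13_2_5 : tab.minOKc [3, 5] 2 232085 6631 = true := by decide +kernel

theorem chk_pow13_2_6 : tab.minOKc [3, 5] 2 238716 6631 = true := by decide +kernel

theorem chk_pow13_2_7 : tab.minOKc [3, 5] 2 245347 6631 = true := by decide +kernel

theorem chk_pow13_2_8 : tab.minOKc [3, 5] 2 251978 6631 = true := by decide +kernel

theorem chk_pow13_2_9 : tab.minOKc [3, 5] 2 258609 6631 = true := by decide +kernel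

theorem chk_pow13_2_10 : tab.minOKc [3, 5] 2 265240 6631 = true := by decide +kernel

theorem chk_pow13_2_11 : tab.minOKc [3, 5] 2 271871 6631 = true := by decide +kernel

theorem chk_pow13_2_12 : tab.minOKc [3, 5] 2 278502 6631 = true := by decide +kernel

theorem chk_pow13_2_13 : tab.minOKc [3, 5] 2 285133 6631 = true := by decide +kernel

theorem chk_pow13_2_14 : tab.minOKc [3, 5] 2 291764 6631 = true := by decide +kernel

theorem chk_pow13_2 : tab.minOKc [3, 5] 2 198930 99465 = true := by
  refine tab.minOKc_of_chunks [3, 5] 2 198930 6631 15 (by norm_num) ?_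
  intro i hi
  interval_cases i
  · exact chk_pow13_2_0
  · exact chk_pow13_2_1
  · exact chk_pow13_2_2
  · exact chk_pow13_2_3
  · exact chk_pow13_2_4
  · exact chk_pow13_2_5
  · exact chk_pow13_2_6
  · exact chk_pow13_2_7
  · exact chk_pow13_2_8
  · exact chk_pow13_2_9
  · exact chk_pow13_2_10
  · exact chk_pow13_2_11
  · exact chk_pow13_2_12
  · exact chk_pow13_2_13
  · exact chk_pow13_2_14

theorem chk_pow13_3_0 : tab.minOKc [3, 5] 2 298395 6631 = true := by decide +kernel

theorem chk_pow13_3_1 : tab.minOKc [3, 5] 2 305026 6631 = true := by decide +kernel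

theorem chk_pow13_3_2 : tab.minOKc [3, 5] 2 311657 6631 = true := by decide +kernel

theorem chk_pow13_3_3 : tab.minOKc [3, 5] 2 318288 6631 = true := by decide +kernel

theorem chk_pow13_3_4 : tab.minOKc [3, 5] 2 324919 6631 = true := by decide +kernel

theorem chk_pow13_3_5 : tab.minOKc [3, 5] 2 331550 6631 = true := by decide +kernel

theorem chk_pow13_3_6 : tab.minOKc [3, 5] 2 338181 6631 = true := by decide +kernel

theorem chk_pow13_3_7 : tab.minOKc [3, 5] 2 344812 6631 = true := by decide +kernel

theorem chk_pow13_3_8 : tab.minOKc [3, 5] 2 351443 6631 = true := by decide +kernel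

theorem chk_pow13_3_9 : tab.minOKc [3, 5] 2 358074 6631 = true := by decide +kernel

theorem chk_pow13_3_10 : tab.minOKc [3, 5] 2 364705 6631 = true := by decide +kernel

theorem chk_pow13_3_11 : tab.minOKc [3, 5] 2 371336 6631 = true := by decide +kernel

theorem chk_pow13_3_12 : tab.minOKc [3, 5] 2 377967 6631 = true := by decide +kernel

theorem chk_pow13_3_13 : tab.minOKc [3, 5] 2 384598 6631 = true := by decide +kernel

theorem chk_pow13_3_14 : tab.minOKc [3, 5] 2 391229 6631 = true := by decide +kernel

theorem chk_pow13_3 : tab.minOKc [3, 5] 2 298395 99465 = true := by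
  refine tab.minOKc_of_chunks [3, 5] 2 298395 6631 15 (by norm_num) ?_
  intro i hi
  interval_cases i
  · exact chk_pow13_3_0
  · exact chk_pow13_3_1
  · exact chk_pow13_3_2
  · exact chk_pow13_3_3
  · exact chk_pow13_3_4
  · exact chk_pow13_3_5
  · exact chk_pow13_3_6
  · exact chk_pow13_3_7
  · exact chk_pow13_3_8
  · exact chk_pow13_3_9
  · exact chk_pow13_3_10
  · exact chk_pow13_3_11
  · exact chk_pow13_3_12
  · exact chk_pow13_3_13
  · exact chk_pow13_3_14

end Cfsg.Agent.Lib.Helper6.Fi24TC
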