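import Cfsg.Agent.Lib.Helper6.Fi24TCData
import Cfsg.Agent.Lib.Helper6.TCRel3
import Cfsg.Agent.Lib.Helper6.Fi24TCRel27

/-! # Fi24: the kernel check of a part of the relators on the coset table -/

set_option autoImplicit false

namespace Cfsg.Agent.Lib.Helper6.Fi24TC

open Cfsg.Agent.Lib.Helper6.TC

theorem chk_pow19_2_0 : tab.minOKc [4, 6] 2 200910 6697 = true := by decide +kernel

theorem chk_pow19_2_1 : tab.minOKc [4, 6] 2 207607 6697 = true := by decide +kernel

theorem chk_pow19_2_2 : tab.minOKc [4, 6] 2 214304 6697 = true := by decide +kernel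

theorem chk_pow19_2_3 : tab.minOKc [4, 6] 2 221001 6697 = true := by decide +kernel

theorem chk_pow19_2_4 : tab.minOKc [4, 6] 2 227698 6697 = true := by decide +kernel

theorem chk_pow19_2_5 : tab.minOKc [4, 6] 2 234395 6697 = true := by decide +kernel

theorem chk_pow19_2_6 : tab.minOKc [4, 6] 2 241092 6697 = true := by decide +kernel

theorem chk_pow19_2_7 : tab.minOKc [4, 6] 2 247789 6697 = true := by decide +kernel

theorem chk_pow19_2_8 : tab.minOKc [4, 6] 2 254486 6697 = true := by decide +kernel

theorem chk_pow19_2_9 : tab.minOKc [4, 6] 2 261183 6697 = true := by decide +kernel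

theorem chk_pow19_2_10 : tab.minOKc [4, 6] 2 267880 6697 = true := by decide +kernel

theorem chk_pow19_2_11 : tab.minOKc [4, 6] 2 274577 6697 = true := by decide +kernel

theorem chk_pow19_2_12 : tab.minOKc [4, 6] 2 281274 6697 = true := by decide +kernel

theorem chk_pow19_2_13 : tab.minOKc [4, 6] 2 287971 6697 = true := by decide +kernel

theorem chk_pow19_2_14 : tab.minOKc [4, 6] 2 294668 6697 = true := by decide +kernel

theorem chk_pow19_2 : tab.minOKc [4, 6] 2 200910 100455 = true := by
  refine tab.minOKc_of_chunks [4, 6] 2 200910 6697 15 (by norm_num) ?_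
  intro i hi
  interval_cases i
  · exact chk_pow19_2_0
  · exact chk_pow19_2_1
  · exact chk_pow19_2_2
  · exact chk_pow19_2_3
  · exact chk_pow19_2_4
  · exact chk_pow19_2_5
  · exact chk_pow19_2_6
  · exact chk_pow19_2_7
  · exact chk_pow19_2_8
  · exact chk_pow19_2_9
  · exact chk_pow19_2_10
  · exact chk_pow19_2_11
  · exact chk_pow19_2_12
  · exact chk_pow19_2_13
  · exact chk_pow19_2_14

theorem chk_pow19_3_0 : tab.minOKc [4, 6] 2 301365 6697 = true := by decide +kernel

theorem chk_pow19_3_1 : tab.minOKc [4, 6] 2 308062 6697 = true := by decide +kernel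

theorem chk_pow19_3_2 : tab.minOKc [4, 6] 2 314759 6697 = true := by decide +kernel

theorem chk_pow19_3_3 : tab.minOKc [4, 6] 2 321456 6697 = true := by decide +kernel

theorem chk_pow19_3_4 : tab.minOKc [4, 6] 2 328153 6697 = true := by decide +kernel

theorem chk_pow19_3_5 : tab.minOKc [4, 6] 2 334850 6697 = true := by decide +kernel

theorem chk_pow19_3_6 : tab.minOKc [4, 6] 2 341547 6697 = true := by decide +kernel

theorem chk_pow19_3_7 : tab.minOKc [4, 6] 2 348244 6697 = true := by decide +kernel

theorem chk_pow19_3_8 : tab.minOKc [4, 6] 2 354941 6697 = true := by decide +kernel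

theorem chk_pow19_3_9 : tab.minOKc [4, 6] 2 361638 6697 = true := by decide +kernel

theorem chk_pow19_3_10 : tab.minOKc [4, 6] 2 368335 6697 = true := by decide +kernel

theorem chk_pow19_3_11 : tab.minOKc [4, 6] 2 375032 6697 = true := by decide +kernel

theorem chk_pow19_3_12 : tab.minOKc [4, 6] 2 381729 6697 = true := by decide +kernel

theorem chk_pow19_3_13 : tab.minOKc [4, 6] 2 388426 6697 = true := by decide +kernel

theorem chk_pow19_3_14 : tab.minOKc [4, 6] 2 395123 6697 = true := by decide +kernel

theorem chk_pow19_3 : tab.minOKc [4, 6] 2 301365 100455 = true := by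
  refine tab.minOKc_of_chunks [4, 6] 2 301365 6697 15 (by norm_num) ?_
  intro i hi
  interval_cases i
  · exact chk_pow19_3_0
  · exact chk_pow19_3_1
  · exact chk_pow19_3_2
  · exact chk_pow19_3_3
  · exact chk_pow19_3_4
  · exact chk_pow19_3_5
  · exact chk_pow19_3_6
  · exact chk_pow19_3_7
  · exact chk_pow19_3_8
  · exact chk_pow19_3_9
  · exact chk_pow19_3_10
  · exact chk_pow19_3_11
  · exact chk_pow19_3_12
  · exact chk_pow19_3_13
  · exact chk_pow19_3_14

end Cfsg.Agent.Lib.Helper6.Fi24TC
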