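import Cfsg.Agent.Lib.Helper6.Fi24TCData
import Cfsg.Agent.Lib.Helper6.TCRel3
import Cfsg.Agent.Lib.Helper6.Fi24TCRel39

/-! # Fi24: the kernel check of a part of the relators on the coset table -/

set_option autoImplicit false

namespace Cfsg.Agent.Lib.Helper6.Fi24TC

open Cfsg.Agent.Lib.Helper6.TC

theorem chk_pow25_2_0 : tab.minOKc [4, 7] 2 202710 6757 = true := by decide +kernel

theorem chk_pow25_2_1 : tab.minOKc [4, 7] 2 209467 6757 = true := by decide +kernel

theorem chk_pow25_2_2 : tab.minOKc [4, 7] 2 216224 6757 = true := by decide +kernel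

theorem chk_pow25_2_3 : tab.minOKc [4, 7] 2 222981 6757 = true := by decide +kernel

theorem chk_pow25_2_4 : tab.minOKc [4, 7] 2 229738 6757 = true := by decide +kernel

theorem chk_pow25_2_5 : tab.minOKc [4, 7] 2 236495 6757 = true := by decide +kernel

theorem chk_pow25_2_6 : tab.minOKc [4, 7] 2 243252 6757 = true := by decide +kernel

theorem chk_pow25_2_7 : tab.minOKc [4, 7] 2 250009 6757 = true := by decide +kernel

theorem chk_pow25_2_8 : tab.minOKc [4, 7] 2 256766 6757 = true := by decide +kernel

theorem chk_pow25_2_9 : tab.minOKc [4, 7] 2 263523 6757 = true := by decide +kernel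

theorem chk_pow25_2_10 : tab.minOKc [4, 7] 2 270280 6757 = true := by decide +kernel

theorem chk_pow25_2_11 : tab.minOKc [4, 7] 2 277037 6757 = true := by decide +kernel

theorem chk_pow25_2_12 : tab.minOKc [4, 7] 2 283794 6757 = true := by decide +kernel

theorem chk_pow25_2_13 : tab.minOKc [4, 7] 2 290551 6757 = true := by decide +kernel

theorem chk_pow25_2_14 : tab.minOKc [4, 7] 2 297308 6757 = true := by decide +kernel

theorem chk_pow25_2 : tab.minOKc [4, 7] 2 202710 101355 = true := by
  refine tab.minOKc_of_chunks [4, 7] 2 202710 6757 15 (by norm_num) ?_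
  intro i hi
  interval_cases i
  · exact chk_pow25_2_0
  · exact chk_pow25_2_1
  · exact chk_pow25_2_2
  · exact chk_pow25_2_3
  · exact chk_pow25_2_4
  · exact chk_pow25_2_5
  · exact chk_pow25_2_6
  · exact chk_pow25_2_7
  · exact chk_pow25_2_8
  · exact chk_pow25_2_9
  · exact chk_pow25_2_10
  · exact chk_pow25_2_11
  · exact chk_pow25_2_12
  · exact chk_pow25_2_13
  · exact chk_pow25_2_14

theorem chk_pow25_3_0 : tab.minOKc [4, 7] 2 304065 6757 = true := by decide +kernel

theorem chk_pow25_3_1 : tab.minOKc [4, 7] 2 310822 6757 = true := by decide +kernel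

theorem chk_pow25_3_2 : tab.minOKc [4, 7] 2 317579 6757 = true := by decide +kernel

theorem chk_pow25_3_3 : tab.minOKc [4, 7] 2 324336 6757 = true := by decide +kernel

theorem chk_pow25_3_4 : tab.minOKc [4, 7] 2 331093 6757 = true := by decide +kernel

theorem chk_pow25_3_5 : tab.minOKc [4, 7] 2 337850 6757 = true := by decide +kernel

theorem chk_pow25_3_6 : tab.minOKc [4, 7] 2 344607 6757 = true := by decide +kernel

theorem chk_pow25_3_7 : tab.minOKc [4, 7] 2 351364 6757 = true := by decide +kernel

theorem chk_pow25_3_8 : tab.minOKc [4, 7] 2 358121 6757 = true := by decide +kernel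

theorem chk_pow25_3_9 : tab.minOKc [4, 7] 2 364878 6757 = true := by decide +kernel

theorem chk_pow25_3_10 : tab.minOKc [4, 7] 2 371635 6757 = true := by decide +kernel

theorem chk_pow25_3_11 : tab.minOKc [4, 7] 2 378392 6757 = true := by decide +kernel

theorem chk_pow25_3_12 : tab.minOKc [4, 7] 2 385149 6757 = true := by decide +kernel

theorem chk_pow25_3_13 : tab.minOKc [4, 7] 2 391906 6757 = true := by decide +kernel

theorem chk_pow25_3_14 : tab.minOKc [4, 7] 2 398663 6757 = true := by decide +kernel

theorem chk_pow25_3 : tab.minOKc [4, 7] 2 304065 101355 = true := by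
  refine tab.minOKc_of_chunks [4, 7] 2 304065 6757 15 (by norm_num) ?_
  intro i hi
  interval_cases i
  · exact chk_pow25_3_0
  · exact chk_pow25_3_1
  · exact chk_pow25_3_2
  · exact chk_pow25_3_3
  · exact chk_pow25_3_4
  · exact chk_pow25_3_5
  · exact chk_pow25_3_6
  · exact chk_pow25_3_7
  · exact chk_pow25_3_8
  · exact chk_pow25_3_9
  · exact chk_pow25_3_10
  · exact chk_pow25_3_11
  · exact chk_pow25_3_12
  · exact chk_pow25_3_13
  · exact chk_pow25_3_14

end Cfsg.Agent.Lib.Helper6.Fi24TC
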