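import Cfsg.Agent.Lib.Helper6.Fi24TCData
import Cfsg.Agent.Lib.Helper6.TCRel3
import Cfsg.Agent.Lib.Helper6.Fi24TCRel63

/-! # Fi24: the kernel check of a part of the relators on the coset table -/

set_option autoImplicit false

namespace Cfsg.Agent.Lib.Helper6.Fi24TC

open Cfsg.Agent.Lib.Helper6.TC

theorem chk_pow37_2_0 : tab.minOKc [1, 9] 2 199710 6657 = true := by decide +kernel

theorem chk_pow37_2_1 : tab.minOKc [1, 9] 2 206367 6657 = true := by decide +kernel

theorem chk_pow37_2_2 : tab.minOKc [1, 9] 2 213024 6657 = true := by decide +kernel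

theorem chk_pow37_2_3 : tab.minOKc [1, 9] 2 219681 6657 = true := by decide +kernel

theorem chk_pow37_2_4 : tab.minOKc [1, 9] 2 226338 6657 = true := by decide +kernel

theorem chk_pow37_2_5 : tab.minOKc [1, 9] 2 232995 6657 = true := by decide +kernel

theorem chk_pow37_2_6 : tab.minOKc [1, 9] 2 239652 6657 = true := by decide +kernel

theorem chk_pow37_2_7 : tab.minOKc [1, 9] 2 246309 6657 = true := by decide +kernel

theorem chk_pow37_2_8 : tab.minOKc [1, 9] 2 252966 6657 = true := by decide +kernel

theorem chk_pow37_2_9 : tab.minOKc [1, 9] 2 259623 6657 = true := by decide +kernel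

theorem chk_pow37_2_10 : tab.minOKc [1, 9] 2 266280 6657 = true := by decide +kernel

theorem chk_pow37_2_11 : tab.minOKc [1, 9] 2 272937 6657 = true := by decide +kernel

theorem chk_pow37_2_12 : tab.minOKc [1, 9] 2 279594 6657 = true := by decide +kernel

theorem chk_pow37_2_13 : tab.minOKc [1, 9] 2 286251 6657 = true := by decide +kernel

theorem chk_pow37_2_14 : tab.minOKc [1, 9] 2 292908 6657 = true := by decide +kernel

theorem chk_pow37_2 : tab.minOKc [1, 9] 2 199710 99855 = true := by
  refine tab.minOKc_of_chunks [1, 9] 2 199710 6657 15 (by norm_num) ?_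
  intro i hi
  interval_cases i
  · exact chk_pow37_2_0
  · exact chk_pow37_2_1
  · exact chk_pow37_2_2
  · exact chk_pow37_2_3
  · exact chk_pow37_2_4
  · exact chk_pow37_2_5
  · exact chk_pow37_2_6
  · exact chk_pow37_2_7
  · exact chk_pow37_2_8
  · exact chk_pow37_2_9
  · exact chk_pow37_2_10
  · exact chk_pow37_2_11
  · exact chk_pow37_2_12
  · exact chk_pow37_2_13
  · exact chk_pow37_2_14

theorem chk_pow37_3_0 : tab.minOKc [1, 9] 2 299565 6657 = true := by decide +kernel

theorem chk_pow37_3_1 : tab.minOKc [1, 9] 2 306222 6657 = true := by decide +kernel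

theorem chk_pow37_3_2 : tab.minOKc [1, 9] 2 312879 6657 = true := by decide +kernel

theorem chk_pow37_3_3 : tab.minOKc [1, 9] 2 319536 6657 = true := by decide +kernel

theorem chk_pow37_3_4 : tab.minOKc [1, 9] 2 326193 6657 = true := by decide +kernel

theorem chk_pow37_3_5 : tab.minOKc [1, 9] 2 332850 6657 = true := by decide +kernel

theorem chk_pow37_3_6 : tab.minOKc [1, 9] 2 339507 6657 = true := by decide +kernel

theorem chk_pow37_3_7 : tab.minOKc [1, 9] 2 346164 6657 = true := by decide +kernel

theorem chk_pow37_3_8 : tab.minOKc [1, 9] 2 352821 6657 = true := by decide +kernel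

theorem chk_pow37_3_9 : tab.minOKc [1, 9] 2 359478 6657 = true := by decide +kernel

theorem chk_pow37_3_10 : tab.minOKc [1, 9] 2 366135 6657 = true := by decide +kernel

theorem chk_pow37_3_11 : tab.minOKc [1, 9] 2 372792 6657 = true := by decide +kernel

theorem chk_pow37_3_12 : tab.minOKc [1, 9] 2 379449 6657 = true := by decide +kernel

theorem chk_pow37_3_13 : tab.minOKc [1, 9] 2 386106 6657 = true := by decide +kernel

theorem chk_pow37_3_14 : tab.minOKc [1, 9] 2 392763 6657 = true := by decide +kernel

theorem chk_pow37_3 : tab.minOKc [1, 9] 2 299565 99855 = true := by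
  refine tab.minOKc_of_chunks [1, 9] 2 299565 6657 15 (by norm_num) ?_
  intro i hi
  interval_cases i
  · exact chk_pow37_3_0
  · exact chk_pow37_3_1
  · exact chk_pow37_3_2
  · exact chk_pow37_3_3
  · exact chk_pow37_3_4
  · exact chk_pow37_3_5
  · exact chk_pow37_3_6
  · exact chk_pow37_3_7
  · exact chk_pow37_3_8
  · exact chk_pow37_3_9
  · exact chk_pow37_3_10
  · exact chk_pow37_3_11
  · exact chk_pow37_3_12
  · exact chk_pow37_3_13
  · exact chk_pow37_3_14

end Cfsg.Agent.Lib.Helper6.Fi24TC
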