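import Cfsg.Agent.Lib.Helper6.Fi24TCData
import Cfsg.Agent.Lib.Helper6.TCRel3
import Cfsg.Agent.Lib.Helper6.Fi24TCRel75

/-! # Fi24: the kernel check of a part of the relators on the coset table -/

set_option autoImplicit false

namespace Cfsg.Agent.Lib.Helper6.Fi24TC

open Cfsg.Agent.Lib.Helper6.TC

theorem chk_pow43_2_0 : tab.minOKc [7, 9] 2 200340 6678 = true := by decide +kernel

theorem chk_pow43_2_1 : tab.minOKc [7, 9] 2 207018 6678 = true := by decide +kernel

theorem chk_pow43_2_2 : tab.minOKc [7, 9] 2 213696 6678 = true := by decide +kernel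

theorem chk_pow43_2_3 : tab.minOKc [7, 9] 2 220374 6678 = true := by decide +kernel

theorem chk_pow43_2_4 : tab.minOKc [7, 9] 2 227052 6678 = true := by decide +kernel

theorem chk_pow43_2_5 : tab.minOKc [7, 9] 2 233730 6678 = true := by decide +kernel

theorem chk_pow43_2_6 : tab.minOKc [7, 9] 2 240408 6678 = true := by decide +kernel

theorem chk_pow43_2_7 : tab.minOKc [7, 9] 2 247086 6678 = true := by decide +kernel

theorem chk_pow43_2_8 : tab.minOKc [7, 9] 2 253764 6678 = true := by decide +kernel

theorem chk_pow43_2_9 : tab.minOKc [7, 9] 2 260442 6678 = true := by decide +kernel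

theorem chk_pow43_2_10 : tab.minOKc [7, 9] 2 267120 6678 = true := by decide +kernel

theorem chk_pow43_2_11 : tab.minOKc [7, 9] 2 273798 6678 = true := by decide +kernel

theorem chk_pow43_2_12 : tab.minOKc [7, 9] 2 280476 6678 = true := by decide +kernel

theorem chk_pow43_2_13 : tab.minOKc [7, 9] 2 287154 6678 = true := by decide +kernel

theorem chk_pow43_2_14 : tab.minOKc [7, 9] 2 293832 6678 = true := by decide +kernel

theorem chk_pow43_2 : tab.minOKc [7, 9] 2 200340 100170 = true := by
  refine tab.minOKc_of_chunks [7, 9] 2 200340 6678 15 (by norm_num) ?_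
  intro i hi
  interval_cases i
  · exact chk_pow43_2_0
  · exact chk_pow43_2_1
  · exact chk_pow43_2_2
  · exact chk_pow43_2_3
  · exact chk_pow43_2_4
  · exact chk_pow43_2_5
  · exact chk_pow43_2_6
  · exact chk_pow43_2_7
  · exact chk_pow43_2_8
  · exact chk_pow43_2_9
  · exact chk_pow43_2_10
  · exact chk_pow43_2_11
  · exact chk_pow43_2_12
  · exact chk_pow43_2_13
  · exact chk_pow43_2_14

theorem chk_pow43_3_0 : tab.minOKc [7, 9] 2 300510 6678 = true := by decide +kernel

theorem chk_pow43_3_1 : tab.minOKc [7, 9] 2 307188 6678 = true := by decide +kernel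

theorem chk_pow43_3_2 : tab.minOKc [7, 9] 2 313866 6678 = true := by decide +kernel

theorem chk_pow43_3_3 : tab.minOKc [7, 9] 2 320544 6678 = true := by decide +kernel

theorem chk_pow43_3_4 : tab.minOKc [7, 9] 2 327222 6678 = true := by decide +kernel

theorem chk_pow43_3_5 : tab.minOKc [7, 9] 2 333900 6678 = true := by decide +kernel

theorem chk_pow43_3_6 : tab.minOKc [7, 9] 2 340578 6678 = true := by decide +kernel

theorem chk_pow43_3_7 : tab.minOKc [7, 9] 2 347256 6678 = true := by decide +kernel

theorem chk_pow43_3_8 : tab.minOKc [7, 9] 2 353934 6678 = true := by decide +kernel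

theorem chk_pow43_3_9 : tab.minOKc [7, 9] 2 360612 6678 = true := by decide +kernel

theorem chk_pow43_3_10 : tab.minOKc [7, 9] 2 367290 6678 = true := by decide +kernel

theorem chk_pow43_3_11 : tab.minOKc [7, 9] 2 373968 6678 = true := by decide +kernel

theorem chk_pow43_3_12 : tab.minOKc [7, 9] 2 380646 6678 = true := by decide +kernel

theorem chk_pow43_3_13 : tab.minOKc [7, 9] 2 387324 6678 = true := by decide +kernel

theorem chk_pow43_3_14 : tab.minOKc [7, 9] 2 394002 6678 = true := by decide +kernel

theorem chk_pow43_3 : tab.minOKc [7, 9] 2 300510 100170 = true := by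
  refine tab.minOKc_of_chunks [7, 9] 2 300510 6678 15 (by norm_num) ?_
  intro i hi
  interval_cases i
  · exact chk_pow43_3_0
  · exact chk_pow43_3_1
  · exact chk_pow43_3_2
  · exact chk_pow43_3_3
  · exact chk_pow43_3_4
  · exact chk_pow43_3_5
  · exact chk_pow43_3_6
  · exact chk_pow43_3_7
  · exact chk_pow43_3_8
  · exact chk_pow43_3_9
  · exact chk_pow43_3_10
  · exact chk_pow43_3_11
  · exact chk_pow43_3_12
  · exact chk_pow43_3_13
  · exact chk_pow43_3_14

end Cfsg.Agent.Lib.Helper6.Fi24TC
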