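import Cfsg.Agent.Lib.Helper6.Fi24TCData
import Cfsg.Agent.Lib.Helper6.TCRel3
import Cfsg.Agent.Lib.Helper6.Fi24TCRel99

/-! # Fi24: the kernel check of a part of the relators on the coset table -/

set_option autoImplicit false

namespace Cfsg.Agent.Lib.Helper6.Fi24TC

open Cfsg.Agent.Lib.Helper6.TC

theorem chk_pow55_2_0 : tab.minOKc [0, 11] 2 199320 6644 = true := by decide +kernel

theorem chk_pow55_2_1 : tab.minOKc [0, 11] 2 205964 6644 = true := by decide +kernel

theorem chk_pow55_2_2 : tab.minOKc [0, 11] 2 212608 6644 = true := by decide +kernel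

theorem chk_pow55_2_3 : tab.minOKc [0, 11] 2 219252 6644 = true := by decide +kernel

theorem chk_pow55_2_4 : tab.minOKc [0, 11] 2 225896 6644 = true := by decide +kernel

theorem chk_pow55_2_5 : tab.minOKc [0, 11] 2 232540 6644 = true := by decide +kernel

theorem chk_pow55_2_6 : tab.minOKc [0, 11] 2 239184 6644 = true := by decide +kernel

theorem chk_pow55_2_7 : tab.minOKc [0, 11] 2 245828 6644 = true := by decide +kernel

theorem chk_pow55_2_8 : tab.minOKc [0, 11] 2 252472 6644 = true := by decide +kernel

theorem chk_pow55_2_9 : tab.minOKc [0, 11] 2 259116 6644 = true := by decide +kernel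

theorem chk_pow55_2_10 : tab.minOKc [0, 11] 2 265760 6644 = true := by decide +kernel

theorem chk_pow55_2_11 : tab.minOKc [0, 11] 2 272404 6644 = true := by decide +kernel

theorem chk_pow55_2_12 : tab.minOKc [0, 11] 2 279048 6644 = true := by decide +kernel

theorem chk_pow55_2_13 : tab.minOKc [0, 11] 2 285692 6644 = true := by decide +kernel

theorem chk_pow55_2_14 : tab.minOKc [0, 11] 2 292336 6644 = true := by decide +kernel

theorem chk_pow55_2 : tab.minOKc [0, 11] 2 199320 99660 = true := by
  refine tab.minOKc_of_chunks [0, 11] 2 199320 6644 15 (by norm_num) ?_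
  intro i hi
  interval_cases i
  · exact chk_pow55_2_0
  · exact chk_pow55_2_1
  · exact chk_pow55_2_2
  · exact chk_pow55_2_3
  · exact chk_pow55_2_4
  · exact chk_pow55_2_5
  · exact chk_pow55_2_6
  · exact chk_pow55_2_7
  · exact chk_pow55_2_8
  · exact chk_pow55_2_9
  · exact chk_pow55_2_10
  · exact chk_pow55_2_11
  · exact chk_pow55_2_12
  · exact chk_pow55_2_13
  · exact chk_pow55_2_14

theorem chk_pow55_3_0 : tab.minOKc [0, 11] 2 298980 6644 = true := by decide +kernel

theorem chk_pow55_3_1 : tab.minOKc [0, 11] 2 305624 6644 = true := by decide +kernel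

theorem chk_pow55_3_2 : tab.minOKc [0, 11] 2 312268 6644 = true := by decide +kernel

theorem chk_pow55_3_3 : tab.minOKc [0, 11] 2 318912 6644 = true := by decide +kernel

theorem chk_pow55_3_4 : tab.minOKc [0, 11] 2 325556 6644 = true := by decide +kernel

theorem chk_pow55_3_5 : tab.minOKc [0, 11] 2 332200 6644 = true := by decide +kernel

theorem chk_pow55_3_6 : tab.minOKc [0, 11] 2 338844 6644 = true := by decide +kernel

theorem chk_pow55_3_7 : tab.minOKc [0, 11] 2 345488 6644 = true := by decide +kernel

theorem chk_pow55_3_8 : tab.minOKc [0, 11] 2 352132 6644 = true := by decide +kernel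

theorem chk_pow55_3_9 : tab.minOKc [0, 11] 2 358776 6644 = true := by decide +kernel

theorem chk_pow55_3_10 : tab.minOKc [0, 11] 2 365420 6644 = true := by decide +kernel

theorem chk_pow55_3_11 : tab.minOKc [0, 11] 2 372064 6644 = true := by decide +kernel

theorem chk_pow55_3_12 : tab.minOKc [0, 11] 2 378708 6644 = true := by decide +kernel

theorem chk_pow55_3_13 : tab.minOKc [0, 11] 2 385352 6644 = true := by decide +kernel

theorem chk_pow55_3_14 : tab.minOKc [0, 11] 2 391996 6644 = true := by decide +kernel

theorem chk_pow55_3 : tab.minOKc [0, 11] 2 298980 99660 = true := by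
  refine tab.minOKc_of_chunks [0, 11] 2 298980 6644 15 (by norm_num) ?_
  intro i hi
  interval_cases i
  · exact chk_pow55_3_0
  · exact chk_pow55_3_1
  · exact chk_pow55_3_2
  · exact chk_pow55_3_3
  · exact chk_pow55_3_4
  · exact chk_pow55_3_5
  · exact chk_pow55_3_6
  · exact chk_pow55_3_7
  · exact chk_pow55_3_8
  · exact chk_pow55_3_9
  · exact chk_pow55_3_10
  · exact chk_pow55_3_11
  · exact chk_pow55_3_12
  · exact chk_pow55_3_13
  · exact chk_pow55_3_14

end Cfsg.Agent.Lib.Helper6.Fi24TC
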