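import Cfsg.Agent.Lib.Helper6.Fi24TCData
import Cfsg.Agent.Lib.Helper6.TCRel3
import Cfsg.Agent.Lib.Helper6.Fi24TCRel100

/-! # Fi24: the kernel check of a part of the relators on the coset table -/

set_option autoImplicit false

namespace Cfsg.Agent.Lib.Helper6.Fi24TC

open Cfsg.Agent.Lib.Helper6.TC

theorem chk_pow56_0_0 : tab.minOKc [1, 11] 2 0 6641 = true := by decide +kernel

theorem chk_pow56_0_1 : tab.minOKc [1, 11] 2 6641 6641 = true := by decide +kernel

theorem chk_pow56_0_2 : tab.minOKc [1, 11] 2 13282 6641 = true := by decide +kernel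

theorem chk_pow56_0_3 : tab.minOKc [1, 11] 2 19923 6641 = true := by decide +kernel

theorem chk_pow56_0_4 : tab.minOKc [1, 11] 2 26564 6641 = true := by decide +kernel

theorem chk_pow56_0_5 : tab.minOKc [1, 11] 2 33205 6641 = true := by decide +kernel

theorem chk_pow56_0_6 : tab.minOKc [1, 11] 2 39846 6641 = true := by decide +kernel

theorem chk_pow56_0_7 : tab.minOKc [1, 11] 2 46487 6641 = true := by decide +kernel

theorem chk_pow56_0_8 : tab.minOKc [1, 11] 2 53128 6641 = true := by decide +kernel

theorem chk_pow56_0_9 : tab.minOKc [1, 11] 2 59769 6641 = true := by decide +kernel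

theorem chk_pow56_0_10 : tab.minOKc [1, 11] 2 66410 6641 = true := by decide +kernel

theorem chk_pow56_0_11 : tab.minOKc [1, 11] 2 73051 6641 = true := by decide +kernel

theorem chk_pow56_0_12 : tab.minOKc [1, 11] 2 79692 6641 = true := by decide +kernel

theorem chk_pow56_0_13 : tab.minOKc [1, 11] 2 86333 6641 = true := by decide +kernel

theorem chk_pow56_0_14 : tab.minOKc [1, 11] 2 92974 6641 = true := by decide +kernel

theorem chk_pow56_0 : tab.minOKc [1, 11] 2 0 99615 = true := by
  refine tab.minOKc_of_chunks [1, 11] 2 0 6641 15 (by norm_num) ?_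
  intro i hi
  interval_cases i
  · exact chk_pow56_0_0
  · exact chk_pow56_0_1
  · exact chk_pow56_0_2
  · exact chk_pow56_0_3
  · exact chk_pow56_0_4
  · exact chk_pow56_0_5
  · exact chk_pow56_0_6
  · exact chk_pow56_0_7
  · exact chk_pow56_0_8
  · exact chk_pow56_0_9
  · exact chk_pow56_0_10
  · exact chk_pow56_0_11
  · exact chk_pow56_0_12
  · exact chk_pow56_0_13
  · exact chk_pow56_0_14

theorem chk_pow56_1_0 : tab.minOKc [1, 11] 2 99615 6641 = true := by decide +kernel

theorem chk_pow56_1_1 : tab.minOKc [1, 11] 2 106256 6641 = true := by decide +kernel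

theorem chk_pow56_1_2 : tab.minOKc [1, 11] 2 112897 6641 = true := by decide +kernel

theorem chk_pow56_1_3 : tab.minOKc [1, 11] 2 119538 6641 = true := by decide +kernel

theorem chk_pow56_1_4 : tab.minOKc [1, 11] 2 126179 6641 = true := by decide +kernel

theorem chk_pow56_1_5 : tab.minOKc [1, 11] 2 132820 6641 = true := by decide +kernel

theorem chk_pow56_1_6 : tab.minOKc [1, 11] 2 139461 6641 = true := by decide +kernel

theorem chk_pow56_1_7 : tab.minOKc [1, 11] 2 146102 6641 = true := by decide +kernel

theorem chk_pow56_1_8 : tab.minOKc [1, 11] 2 152743 6641 = true := by decide +kernel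

theorem chk_pow56_1_9 : tab.minOKc [1, 11] 2 159384 6641 = true := by decide +kernel

theorem chk_pow56_1_10 : tab.minOKc [1, 11] 2 166025 6641 = true := by decide +kernel

theorem chk_pow56_1_11 : tab.minOKc [1, 11] 2 172666 6641 = true := by decide +kernel

theorem chk_pow56_1_12 : tab.minOKc [1, 11] 2 179307 6641 = true := by decide +kernel

theorem chk_pow56_1_13 : tab.minOKc [1, 11] 2 185948 6641 = true := by decide +kernel

theorem chk_pow56_1_14 : tab.minOKc [1, 11] 2 192589 6641 = true := by decide +kernel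

theorem chk_pow56_1 : tab.minOKc [1, 11] 2 99615 99615 = true := by
  refine tab.minOKc_of_chunks [1, 11] 2 99615 6641 15 (by norm_num) ?_
  intro i hi
  interval_cases i
  · exact chk_pow56_1_0
  · exact chk_pow56_1_1
  · exact chk_pow56_1_2
  · exact chk_pow56_1_3
  · exact chk_pow56_1_4
  · exact chk_pow56_1_5
  · exact chk_pow56_1_6
  · exact chk_pow56_1_7
  · exact chk_pow56_1_8
  · exact chk_pow56_1_9
  · exact chk_pow56_1_10
  · exact chk_pow56_1_11
  · exact chk_pow56_1_12
  · exact chk_pow56_1_13
  · exact chk_pow56_1_14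

end Cfsg.Agent.Lib.Helper6.Fi24TC
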