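import Cfsg.Agent.Lib.Helper6.Fi24TCData
import Cfsg.Agent.Lib.Helper6.TCRel3
import Cfsg.Agent.Lib.Helper6.Fi24TCRel101

/-! # Fi24: the kernel check of a part of the relators on the coset table -/

set_option autoImplicit false

namespace Cfsg.Agent.Lib.Helper6.Fi24TC

open Cfsg.Agent.Lib.Helper6.TC

theorem chk_pow56_2_0 : tab.minOKc [1, 11] 2 199230 6641 = true := by decide +kernel

theorem chk_pow56_2_1 : tab.minOKc [1, 11] 2 205871 6641 = true := by decide +kernel

theorem chk_pow56_2_2 : tab.minOKc [1, 11] 2 212512 6641 = true := by decide +kernel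

theorem chk_pow56_2_3 : tab.minOKc [1, 11] 2 219153 6641 = true := by decide +kernel

theorem chk_pow56_2_4 : tab.minOKc [1, 11] 2 225794 6641 = true := by decide +kernel

theorem chk_pow56_2_5 : tab.minOKc [1, 11] 2 232435 6641 = true := by decide +kernel

theorem chk_pow56_2_6 : tab.minOKc [1, 11] 2 239076 6641 = true := by decide +kernel

theorem chk_pow56_2_7 : tab.minOKc [1, 11] 2 245717 6641 = true := by decide +kernel

theorem chk_pow56_2_8 : tab.minOKc [1, 11] 2 252358 6641 = true := by decide +kernel

theorem chk_pow56_2_9 : tab.minOKc [1, 11] 2 258999 6641 = true := by decide +kernel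

theorem chk_pow56_2_10 : tab.minOKc [1, 11] 2 265640 6641 = true := by decide +kernel

theorem chk_pow56_2_11 : tab.minOKc [1, 11] 2 272281 6641 = true := by decide +kernel

theorem chk_pow56_2_12 : tab.minOKc [1, 11] 2 278922 6641 = true := by decide +kernel

theorem chk_pow56_2_13 : tab.minOKc [1, 11] 2 285563 6641 = true := by decide +kernel

theorem chk_pow56_2_14 : tab.minOKc [1, 11] 2 292204 6641 = true := by decide +kernel

theorem chk_pow56_2 : tab.minOKc [1, 11] 2 199230 99615 = true := by
  refine tab.minOKc_of_chunks [1, 11] 2 199230 6641 15 (by norm_num) ?_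
  intro i hi
  interval_cases i
  · exact chk_pow56_2_0
  · exact chk_pow56_2_1
  · exact chk_pow56_2_2
  · exact chk_pow56_2_3
  · exact chk_pow56_2_4
  · exact chk_pow56_2_5
  · exact chk_pow56_2_6
  · exact chk_pow56_2_7
  · exact chk_pow56_2_8
  · exact chk_pow56_2_9
  · exact chk_pow56_2_10
  · exact chk_pow56_2_11
  · exact chk_pow56_2_12
  · exact chk_pow56_2_13
  · exact chk_pow56_2_14

theorem chk_pow56_3_0 : tab.minOKc [1, 11] 2 298845 6641 = true := by decide +kernel

theorem chk_pow56_3_1 : tab.minOKc [1, 11] 2 305486 6641 = true := by decide +kernel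

theorem chk_pow56_3_2 : tab.minOKc [1, 11] 2 312127 6641 = true := by decide +kernel

theorem chk_pow56_3_3 : tab.minOKc [1, 11] 2 318768 6641 = true := by decide +kernel

theorem chk_pow56_3_4 : tab.minOKc [1, 11] 2 325409 6641 = true := by decide +kernel

theorem chk_pow56_3_5 : tab.minOKc [1, 11] 2 332050 6641 = true := by decide +kernel

theorem chk_pow56_3_6 : tab.minOKc [1, 11] 2 338691 6641 = true := by decide +kernel

theorem chk_pow56_3_7 : tab.minOKc [1, 11] 2 345332 6641 = true := by decide +kernel

theorem chk_pow56_3_8 : tab.minOKc [1, 11] 2 351973 6641 = true := by decide +kernel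

theorem chk_pow56_3_9 : tab.minOKc [1, 11] 2 358614 6641 = true := by decide +kernel

theorem chk_pow56_3_10 : tab.minOKc [1, 11] 2 365255 6641 = true := by decide +kernel

theorem chk_pow56_3_11 : tab.minOKc [1, 11] 2 371896 6641 = true := by decide +kernel

theorem chk_pow56_3_12 : tab.minOKc [1, 11] 2 378537 6641 = true := by decide +kernel

theorem chk_pow56_3_13 : tab.minOKc [1, 11] 2 385178 6641 = true := by decide +kernel

theorem chk_pow56_3_14 : tab.minOKc [1, 11] 2 391819 6641 = true := by decide +kernel

theorem chk_pow56_3 : tab.minOKc [1, 11] 2 298845 99615 = true := by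
  refine tab.minOKc_of_chunks [1, 11] 2 298845 6641 15 (by norm_num) ?_
  intro i hi
  interval_cases i
  · exact chk_pow56_3_0
  · exact chk_pow56_3_1
  · exact chk_pow56_3_2
  · exact chk_pow56_3_3
  · exact chk_pow56_3_4
  · exact chk_pow56_3_5
  · exact chk_pow56_3_6
  · exact chk_pow56_3_7
  · exact chk_pow56_3_8
  · exact chk_pow56_3_9
  · exact chk_pow56_3_10
  · exact chk_pow56_3_11
  · exact chk_pow56_3_12
  · exact chk_pow56_3_13
  · exact chk_pow56_3_14

end Cfsg.Agent.Lib.Helper6.Fi24TC
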