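import Cfsg.Agent.Lib.Helper6.Fi24TCData
import Cfsg.Agent.Lib.Helper6.TCRel3
import Cfsg.Agent.Lib.Helper6.Fi24TCRel102

/-! # Fi24: the kernel check of a part of the relators on the coset table -/

set_option autoImplicit false

namespace Cfsg.Agent.Lib.Helper6.Fi24TC

open Cfsg.Agent.Lib.Helper6.TC

theorem chk_pow57_0_0 : tab.minOKc [2, 11] 2 0 6613 = true := by decide +kernel

theorem chk_pow57_0_1 : tab.minOKc [2, 11] 2 6613 6613 = true := by decide +kernel

theorem chk_pow57_0_2 : tab.minOKc [2, 11] 2 13226 6613 = true := by decide +kernel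

theorem chk_pow57_0_3 : tab.minOKc [2, 11] 2 19839 6613 = true := by decide +kernel

theorem chk_pow57_0_4 : tab.minOKc [2, 11] 2 26452 6613 = true := by decide +kernel

theorem chk_pow57_0_5 : tab.minOKc [2, 11] 2 33065 6613 = true := by decide +kernel

theorem chk_pow57_0_6 : tab.minOKc [2, 11] 2 39678 6613 = true := by decide +kernel

theorem chk_pow57_0_7 : tab.minOKc [2, 11] 2 46291 6613 = true := by decide +kernel

theorem chk_pow57_0_8 : tab.minOKc [2, 11] 2 52904 6613 = true := by decide +kernel

theorem chk_pow57_0_9 : tab.minOKc [2, 11] 2 59517 6613 = true := by decide +kernel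

theorem chk_pow57_0_10 : tab.minOKc [2, 11] 2 66130 6613 = true := by decide +kernel

theorem chk_pow57_0_11 : tab.minOKc [2, 11] 2 72743 6613 = true := by decide +kernel

theorem chk_pow57_0_12 : tab.minOKc [2, 11] 2 79356 6613 = true := by decide +kernel

theorem chk_pow57_0_13 : tab.minOKc [2, 11] 2 85969 6613 = true := by decide +kernel

theorem chk_pow57_0_14 : tab.minOKc [2, 11] 2 92582 6613 = true := by decide +kernel

theorem chk_pow57_0 : tab.minOKc [2, 11] 2 0 99195 = true := by
  refine tab.minOKc_of_chunks [2, 11] 2 0 6613 15 (by norm_num) ?_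
  intro i hi
  interval_cases i
  · exact chk_pow57_0_0
  · exact chk_pow57_0_1
  · exact chk_pow57_0_2
  · exact chk_pow57_0_3
  · exact chk_pow57_0_4
  · exact chk_pow57_0_5
  · exact chk_pow57_0_6
  · exact chk_pow57_0_7
  · exact chk_pow57_0_8
  · exact chk_pow57_0_9
  · exact chk_pow57_0_10
  · exact chk_pow57_0_11
  · exact chk_pow57_0_12
  · exact chk_pow57_0_13
  · exact chk_pow57_0_14

theorem chk_pow57_1_0 : tab.minOKc [2, 11] 2 99195 6613 = true := by decide +kernel

theorem chk_pow57_1_1 : tab.minOKc [2, 11] 2 105808 6613 = true := by decide +kernel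

theorem chk_pow57_1_2 : tab.minOKc [2, 11] 2 112421 6613 = true := by decide +kernel

theorem chk_pow57_1_3 : tab.minOKc [2, 11] 2 119034 6613 = true := by decide +kernel

theorem chk_pow57_1_4 : tab.minOKc [2, 11] 2 125647 6613 = true := by decide +kernel

theorem chk_pow57_1_5 : tab.minOKc [2, 11] 2 132260 6613 = true := by decide +kernel

theorem chk_pow57_1_6 : tab.minOKc [2, 11] 2 138873 6613 = true := by decide +kernel

theorem chk_pow57_1_7 : tab.minOKc [2, 11] 2 145486 6613 = true := by decide +kernel

theorem chk_pow57_1_8 : tab.minOKc [2, 11] 2 152099 6613 = true := by decide +kernel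

theorem chk_pow57_1_9 : tab.minOKc [2, 11] 2 158712 6613 = true := by decide +kernel

theorem chk_pow57_1_10 : tab.minOKc [2, 11] 2 165325 6613 = true := by decide +kernel

theorem chk_pow57_1_11 : tab.minOKc [2, 11] 2 171938 6613 = true := by decide +kernel

theorem chk_pow57_1_12 : tab.minOKc [2, 11] 2 178551 6613 = true := by decide +kernel

theorem chk_pow57_1_13 : tab.minOKc [2, 11] 2 185164 6613 = true := by decide +kernel

theorem chk_pow57_1_14 : tab.minOKc [2, 11] 2 191777 6613 = true := by decide +kernel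

theorem chk_pow57_1 : tab.minOKc [2, 11] 2 99195 99195 = true := by
  refine tab.minOKc_of_chunks [2, 11] 2 99195 6613 15 (by norm_num) ?_
  intro i hi
  interval_cases i
  · exact chk_pow57_1_0
  · exact chk_pow57_1_1
  · exact chk_pow57_1_2
  · exact chk_pow57_1_3
  · exact chk_pow57_1_4
  · exact chk_pow57_1_5
  · exact chk_pow57_1_6
  · exact chk_pow57_1_7
  · exact chk_pow57_1_8
  · exact chk_pow57_1_9
  · exact chk_pow57_1_10
  · exact chk_pow57_1_11
  · exact chk_pow57_1_12
  · exact chk_pow57_1_13
  · exact chk_pow57_1_14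

end Cfsg.Agent.Lib.Helper6.Fi24TC
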