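import Cfsg.Agent.Lib.Helper6.Fi24TCData
import Cfsg.Agent.Lib.Helper6.TCRel3
import Cfsg.Agent.Lib.Helper6.Fi24TCRel103

/-! # Fi24: the kernel check of a part of the relators on the coset table -/

set_option autoImplicit false

namespace Cfsg.Agent.Lib.Helper6.Fi24TC

open Cfsg.Agent.Lib.Helper6.TC

theorem chk_pow57_2_0 : tab.minOKc [2, 11] 2 198390 6613 = true := by decide +kernel

theorem chk_pow57_2_1 : tab.minOKc [2, 11] 2 205003 6613 = true := by decide +kernel

theorem chk_pow57_2_2 : tab.minOKc [2, 11] 2 211616 6613 = true := by decide +kernel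

theorem chk_pow57_2_3 : tab.minOKc [2, 11] 2 218229 6613 = true := by decide +kernel

theorem chk_pow57_2_4 : tab.minOKc [2, 11] 2 224842 6613 = true := by decide +kernel

theorem chk_pow57_2_5 : tab.minOKc [2, 11] 2 231455 6613 = true := by decide +kernel

theorem chk_pow57_2_6 : tab.minOKc [2, 11] 2 238068 6613 = true := by decide +kernel

theorem chk_pow57_2_7 : tab.minOKc [2, 11] 2 244681 6613 = true := by decide +kernel

theorem chk_pow57_2_8 : tab.minOKc [2, 11] 2 251294 6613 = true := by decide +kernel

theorem chk_pow57_2_9 : tab.minOKc [2, 11] 2 257907 6613 = true := by decide +kernel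

theorem chk_pow57_2_10 : tab.minOKc [2, 11] 2 264520 6613 = true := by decide +kernel

theorem chk_pow57_2_11 : tab.minOKc [2, 11] 2 271133 6613 = true := by decide +kernel

theorem chk_pow57_2_12 : tab.minOKc [2, 11] 2 277746 6613 = true := by decide +kernel

theorem chk_pow57_2_13 : tab.minOKc [2, 11] 2 284359 6613 = true := by decide +kernel

theorem chk_pow57_2_14 : tab.minOKc [2, 11] 2 290972 6613 = true := by decide +kernel

theorem chk_pow57_2 : tab.minOKc [2, 11] 2 198390 99195 = true := by
  refine tab.minOKc_of_chunks [2, 11] 2 198390 6613 15 (by norm_num) ?_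
  intro i hi
  interval_cases i
  · exact chk_pow57_2_0
  · exact chk_pow57_2_1
  · exact chk_pow57_2_2
  · exact chk_pow57_2_3
  · exact chk_pow57_2_4
  · exact chk_pow57_2_5
  · exact chk_pow57_2_6
  · exact chk_pow57_2_7
  · exact chk_pow57_2_8
  · exact chk_pow57_2_9
  · exact chk_pow57_2_10
  · exact chk_pow57_2_11
  · exact chk_pow57_2_12
  · exact chk_pow57_2_13
  · exact chk_pow57_2_14

theorem chk_pow57_3_0 : tab.minOKc [2, 11] 2 297585 6613 = true := by decide +kernel

theorem chk_pow57_3_1 : tab.minOKc [2, 11] 2 304198 6613 = true := by decide +kernel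

theorem chk_pow57_3_2 : tab.minOKc [2, 11] 2 310811 6613 = true := by decide +kernel

theorem chk_pow57_3_3 : tab.minOKc [2, 11] 2 317424 6613 = true := by decide +kernel

theorem chk_pow57_3_4 : tab.minOKc [2, 11] 2 324037 6613 = true := by decide +kernel

theorem chk_pow57_3_5 : tab.minOKc [2, 11] 2 330650 6613 = true := by decide +kernel

theorem chk_pow57_3_6 : tab.minOKc [2, 11] 2 337263 6613 = true := by decide +kernel

theorem chk_pow57_3_7 : tab.minOKc [2, 11] 2 343876 6613 = true := by decide +kernel

theorem chk_pow57_3_8 : tab.minOKc [2, 11] 2 350489 6613 = true := by decide +kernel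

theorem chk_pow57_3_9 : tab.minOKc [2, 11] 2 357102 6613 = true := by decide +kernel

theorem chk_pow57_3_10 : tab.minOKc [2, 11] 2 363715 6613 = true := by decide +kernel

theorem chk_pow57_3_11 : tab.minOKc [2, 11] 2 370328 6613 = true := by decide +kernel

theorem chk_pow57_3_12 : tab.minOKc [2, 11] 2 376941 6613 = true := by decide +kernel

theorem chk_pow57_3_13 : tab.minOKc [2, 11] 2 383554 6613 = true := by decide +kernel

theorem chk_pow57_3_14 : tab.minOKc [2, 11] 2 390167 6613 = true := by decide +kernel

theorem chk_pow57_3 : tab.minOKc [2, 11] 2 297585 99195 = true := by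
  refine tab.minOKc_of_chunks [2, 11] 2 297585 6613 15 (by norm_num) ?_
  intro i hi
  interval_cases i
  · exact chk_pow57_3_0
  · exact chk_pow57_3_1
  · exact chk_pow57_3_2
  · exact chk_pow57_3_3
  · exact chk_pow57_3_4
  · exact chk_pow57_3_5
  · exact chk_pow57_3_6
  · exact chk_pow57_3_7
  · exact chk_pow57_3_8
  · exact chk_pow57_3_9
  · exact chk_pow57_3_10
  · exact chk_pow57_3_11
  · exact chk_pow57_3_12
  · exact chk_pow57_3_13
  · exact chk_pow57_3_14

end Cfsg.Agent.Lib.Helper6.Fi24TC
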