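import Cfsg.Agent.Lib.Helper6.Fi24TCData
import Cfsg.Agent.Lib.Helper6.TCRel3
import Cfsg.Agent.Lib.Helper6.Fi24TCRel104

/-! # Fi24: the kernel check of a part of the relators on the coset table -/

set_option autoImplicit false

namespace Cfsg.Agent.Lib.Helper6.Fi24TC

open Cfsg.Agent.Lib.Helper6.TC

theorem chk_pow58_0_0 : tab.minOKc [3, 11] 2 0 6679 = true := by decide +kernel

theorem chk_pow58_0_1 : tab.minOKc [3, 11] 2 6679 6679 = true := by decide +kernel

theorem chk_pow58_0_2 : tab.minOKc [3, 11] 2 13358 6679 = true := by decide +kernel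

theorem chk_pow58_0_3 : tab.minOKc [3, 11] 2 20037 6679 = true := by decide +kernel

theorem chk_pow58_0_4 : tab.minOKc [3, 11] 2 26716 6679 = true := by decide +kernel

theorem chk_pow58_0_5 : tab.minOKc [3, 11] 2 33395 6679 = true := by decide +kernel

theorem chk_pow58_0_6 : tab.minOKc [3, 11] 2 40074 6679 = true := by decide +kernel

theorem chk_pow58_0_7 : tab.minOKc [3, 11] 2 46753 6679 = true := by decide +kernel

theorem chk_pow58_0_8 : tab.minOKc [3, 11] 2 53432 6679 = true := by decide +kernel

theorem chk_pow58_0_9 : tab.minOKc [3, 11] 2 60111 6679 = true := by decide +kernel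

theorem chk_pow58_0_10 : tab.minOKc [3, 11] 2 66790 6679 = true := by decide +kernel

theorem chk_pow58_0_11 : tab.minOKc [3, 11] 2 73469 6679 = true := by decide +kernel

theorem chk_pow58_0_12 : tab.minOKc [3, 11] 2 80148 6679 = true := by decide +kernel

theorem chk_pow58_0_13 : tab.minOKc [3, 11] 2 86827 6679 = true := by decide +kernel

theorem chk_pow58_0_14 : tab.minOKc [3, 11] 2 93506 6679 = true := by decide +kernel

theorem chk_pow58_0 : tab.minOKc [3, 11] 2 0 100185 = true := by
  refine tab.minOKc_of_chunks [3, 11] 2 0 6679 15 (by norm_num) ?_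
  intro i hi
  interval_cases i
  · exact chk_pow58_0_0
  · exact chk_pow58_0_1
  · exact chk_pow58_0_2
  · exact chk_pow58_0_3
  · exact chk_pow58_0_4
  · exact chk_pow58_0_5
  · exact chk_pow58_0_6
  · exact chk_pow58_0_7
  · exact chk_pow58_0_8
  · exact chk_pow58_0_9
  · exact chk_pow58_0_10
  · exact chk_pow58_0_11
  · exact chk_pow58_0_12
  · exact chk_pow58_0_13
  · exact chk_pow58_0_14

theorem chk_pow58_1_0 : tab.minOKc [3, 11] 2 100185 6679 = true := by decide +kernel

theorem chk_pow58_1_1 : tab.minOKc [3, 11] 2 106864 6679 = true := by decide +kernel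

theorem chk_pow58_1_2 : tab.minOKc [3, 11] 2 113543 6679 = true := by decide +kernel

theorem chk_pow58_1_3 : tab.minOKc [3, 11] 2 120222 6679 = true := by decide +kernel

theorem chk_pow58_1_4 : tab.minOKc [3, 11] 2 126901 6679 = true := by decide +kernel

theorem chk_pow58_1_5 : tab.minOKc [3, 11] 2 133580 6679 = true := by decide +kernel

theorem chk_pow58_1_6 : tab.minOKc [3, 11] 2 140259 6679 = true := by decide +kernel

theorem chk_pow58_1_7 : tab.minOKc [3, 11] 2 146938 6679 = true := by decide +kernel

theorem chk_pow58_1_8 : tab.minOKc [3, 11] 2 153617 6679 = true := by decide +kernel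

theorem chk_pow58_1_9 : tab.minOKc [3, 11] 2 160296 6679 = true := by decide +kernel

theorem chk_pow58_1_10 : tab.minOKc [3, 11] 2 166975 6679 = true := by decide +kernel

theorem chk_pow58_1_11 : tab.minOKc [3, 11] 2 173654 6679 = true := by decide +kernel

theorem chk_pow58_1_12 : tab.minOKc [3, 11] 2 180333 6679 = true := by decide +kernel

theorem chk_pow58_1_13 : tab.minOKc [3, 11] 2 187012 6679 = true := by decide +kernel

theorem chk_pow58_1_14 : tab.minOKc [3, 11] 2 193691 6679 = true := by decide +kernel

theorem chk_pow58_1 : tab.minOKc [3, 11] 2 100185 100185 = true := by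
  refine tab.minOKc_of_chunks [3, 11] 2 100185 6679 15 (by norm_num) ?_
  intro i hi
  interval_cases i
  · exact chk_pow58_1_0
  · exact chk_pow58_1_1
  · exact chk_pow58_1_2
  · exact chk_pow58_1_3
  · exact chk_pow58_1_4
  · exact chk_pow58_1_5
  · exact chk_pow58_1_6
  · exact chk_pow58_1_7
  · exact chk_pow58_1_8
  · exact chk_pow58_1_9
  · exact chk_pow58_1_10
  · exact chk_pow58_1_11
  · exact chk_pow58_1_12
  · exact chk_pow58_1_13
  · exact chk_pow58_1_14

end Cfsg.Agent.Lib.Helper6.Fi24TC
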