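import Cfsg.Agent.Lib.Helper6.Fi24TCData
import Cfsg.Agent.Lib.Helper6.TCRel3
import Cfsg.Agent.Lib.Helper6.Fi24TCRel106

/-! # Fi24: the kernel check of a part of the relators on the coset table -/

set_option autoImplicit false

namespace Cfsg.Agent.Lib.Helper6.Fi24TC

open Cfsg.Agent.Lib.Helper6.TC

theorem chk_pow59_0_0 : tab.minOKc [4, 11] 2 0 6627 = true := by decide +kernel

theorem chk_pow59_0_1 : tab.minOKc [4, 11] 2 6627 6627 = true := by decide +kernel

theorem chk_pow59_0_2 : tab.minOKc [4, 11] 2 13254 6627 = true := by decide +kernel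

theorem chk_pow59_0_3 : tab.minOKc [4, 11] 2 19881 6627 = true := by decide +kernel

theorem chk_pow59_0_4 : tab.minOKc [4, 11] 2 26508 6627 = true := by decide +kernel

theorem chk_pow59_0_5 : tab.minOKc [4, 11] 2 33135 6627 = true := by decide +kernel

theorem chk_pow59_0_6 : tab.minOKc [4, 11] 2 39762 6627 = true := by decide +kernel

theorem chk_pow59_0_7 : tab.minOKc [4, 11] 2 46389 6627 = true := by decide +kernel

theorem chk_pow59_0_8 : tab.minOKc [4, 11] 2 53016 6627 = true := by decide +kernel

theorem chk_pow59_0_9 : tab.minOKc [4, 11] 2 59643 6627 = true := by decide +kernel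

theorem chk_pow59_0_10 : tab.minOKc [4, 11] 2 66270 6627 = true := by decide +kernel

theorem chk_pow59_0_11 : tab.minOKc [4, 11] 2 72897 6627 = true := by decide +kernel

theorem chk_pow59_0_12 : tab.minOKc [4, 11] 2 79524 6627 = true := by decide +kernel

theorem chk_pow59_0_13 : tab.minOKc [4, 11] 2 86151 6627 = true := by decide +kernel

theorem chk_pow59_0_14 : tab.minOKc [4, 11] 2 92778 6627 = true := by decide +kernel

theorem chk_pow59_0 : tab.minOKc [4, 11] 2 0 99405 = true := by
  refine tab.minOKc_of_chunks [4, 11] 2 0 6627 15 (by norm_num) ?_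
  intro i hi
  interval_cases i
  · exact chk_pow59_0_0
  · exact chk_pow59_0_1
  · exact chk_pow59_0_2
  · exact chk_pow59_0_3
  · exact chk_pow59_0_4
  · exact chk_pow59_0_5
  · exact chk_pow59_0_6
  · exact chk_pow59_0_7
  · exact chk_pow59_0_8
  · exact chk_pow59_0_9
  · exact chk_pow59_0_10
  · exact chk_pow59_0_11
  · exact chk_pow59_0_12
  · exact chk_pow59_0_13
  · exact chk_pow59_0_14

theorem chk_pow59_1_0 : tab.minOKc [4, 11] 2 99405 6627 = true := by decide +kernel

theorem chk_pow59_1_1 : tab.minOKc [4, 11] 2 106032 6627 = true := by decide +kernel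

theorem chk_pow59_1_2 : tab.minOKc [4, 11] 2 112659 6627 = true := by decide +kernel

theorem chk_pow59_1_3 : tab.minOKc [4, 11] 2 119286 6627 = true := by decide +kernel

theorem chk_pow59_1_4 : tab.minOKc [4, 11] 2 125913 6627 = true := by decide +kernel

theorem chk_pow59_1_5 : tab.minOKc [4, 11] 2 132540 6627 = true := by decide +kernel

theorem chk_pow59_1_6 : tab.minOKc [4, 11] 2 139167 6627 = true := by decide +kernel

theorem chk_pow59_1_7 : tab.minOKc [4, 11] 2 145794 6627 = true := by decide +kernel

theorem chk_pow59_1_8 : tab.minOKc [4, 11] 2 152421 6627 = true := by decide +kernel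

theorem chk_pow59_1_9 : tab.minOKc [4, 11] 2 159048 6627 = true := by decide +kernel

theorem chk_pow59_1_10 : tab.minOKc [4, 11] 2 165675 6627 = true := by decide +kernel

theorem chk_pow59_1_11 : tab.minOKc [4, 11] 2 172302 6627 = true := by decide +kernel

theorem chk_pow59_1_12 : tab.minOKc [4, 11] 2 178929 6627 = true := by decide +kernel

theorem chk_pow59_1_13 : tab.minOKc [4, 11] 2 185556 6627 = true := by decide +kernel

theorem chk_pow59_1_14 : tab.minOKc [4, 11] 2 192183 6627 = true := by decide +kernel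

theorem chk_pow59_1 : tab.minOKc [4, 11] 2 99405 99405 = true := by
  refine tab.minOKc_of_chunks [4, 11] 2 99405 6627 15 (by norm_num) ?_
  intro i hi
  interval_cases i
  · exact chk_pow59_1_0
  · exact chk_pow59_1_1
  · exact chk_pow59_1_2
  · exact chk_pow59_1_3
  · exact chk_pow59_1_4
  · exact chk_pow59_1_5
  · exact chk_pow59_1_6
  · exact chk_pow59_1_7
  · exact chk_pow59_1_8
  · exact chk_pow59_1_9
  · exact chk_pow59_1_10
  · exact chk_pow59_1_11
  · exact chk_pow59_1_12
  · exact chk_pow59_1_13
  · exact chk_pow59_1_14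

end Cfsg.Agent.Lib.Helper6.Fi24TC
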