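import Cfsg.Agent.Lib.Helper6.Fi24TCData
import Cfsg.Agent.Lib.Helper6.TCRel3
import Cfsg.Agent.Lib.Helper6.Fi24TCRel107

/-! # Fi24: the kernel check of a part of the relators on the coset table -/

set_option autoImplicit false

namespace Cfsg.Agent.Lib.Helper6.Fi24TC

open Cfsg.Agent.Lib.Helper6.TC

theorem chk_pow59_2_0 : tab.minOKc [4, 11] 2 198810 6627 = true := by decide +kernel

theorem chk_pow59_2_1 : tab.minOKc [4, 11] 2 205437 6627 = true := by decide +kernel

theorem chk_pow59_2_2 : tab.minOKc [4, 11] 2 212064 6627 = true := by decide +kernel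

theorem chk_pow59_2_3 : tab.minOKc [4, 11] 2 218691 6627 = true := by decide +kernel

theorem chk_pow59_2_4 : tab.minOKc [4, 11] 2 225318 6627 = true := by decide +kernel

theorem chk_pow59_2_5 : tab.minOKc [4, 11] 2 231945 6627 = true := by decide +kernel

theorem chk_pow59_2_6 : tab.minOKc [4, 11] 2 238572 6627 = true := by decide +kernel

theorem chk_pow59_2_7 : tab.minOKc [4, 11] 2 245199 6627 = true := by decide +kernel

theorem chk_pow59_2_8 : tab.minOKc [4, 11] 2 251826 6627 = true := by decide +kernel

theorem chk_pow59_2_9 : tab.minOKc [4, 11] 2 258453 6627 = true := by decide +kernel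

theorem chk_pow59_2_10 : tab.minOKc [4, 11] 2 265080 6627 = true := by decide +kernel

theorem chk_pow59_2_11 : tab.minOKc [4, 11] 2 271707 6627 = true := by decide +kernel

theorem chk_pow59_2_12 : tab.minOKc [4, 11] 2 278334 6627 = true := by decide +kernel

theorem chk_pow59_2_13 : tab.minOKc [4, 11] 2 284961 6627 = true := by decide +kernel

theorem chk_pow59_2_14 : tab.minOKc [4, 11] 2 291588 6627 = true := by decide +kernel

theorem chk_pow59_2 : tab.minOKc [4, 11] 2 198810 99405 = true := by
  refine tab.minOKc_of_chunks [4, 11] 2 198810 6627 15 (by norm_num) ?_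
  intro i hi
  interval_cases i
  · exact chk_pow59_2_0
  · exact chk_pow59_2_1
  · exact chk_pow59_2_2
  · exact chk_pow59_2_3
  · exact chk_pow59_2_4
  · exact chk_pow59_2_5
  · exact chk_pow59_2_6
  · exact chk_pow59_2_7
  · exact chk_pow59_2_8
  · exact chk_pow59_2_9
  · exact chk_pow59_2_10
  · exact chk_pow59_2_11
  · exact chk_pow59_2_12
  · exact chk_pow59_2_13
  · exact chk_pow59_2_14

theorem chk_pow59_3_0 : tab.minOKc [4, 11] 2 298215 6627 = true := by decide +kernel

theorem chk_pow59_3_1 : tab.minOKc [4, 11] 2 304842 6627 = true := by decide +kernel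

theorem chk_pow59_3_2 : tab.minOKc [4, 11] 2 311469 6627 = true := by decide +kernel

theorem chk_pow59_3_3 : tab.minOKc [4, 11] 2 318096 6627 = true := by decide +kernel

theorem chk_pow59_3_4 : tab.minOKc [4, 11] 2 324723 6627 = true := by decide +kernel

theorem chk_pow59_3_5 : tab.minOKc [4, 11] 2 331350 6627 = true := by decide +kernel

theorem chk_pow59_3_6 : tab.minOKc [4, 11] 2 337977 6627 = true := by decide +kernel

theorem chk_pow59_3_7 : tab.minOKc [4, 11] 2 344604 6627 = true := by decide +kernel

theorem chk_pow59_3_8 : tab.minOKc [4, 11] 2 351231 6627 = true := by decide +kernel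

theorem chk_pow59_3_9 : tab.minOKc [4, 11] 2 357858 6627 = true := by decide +kernel

theorem chk_pow59_3_10 : tab.minOKc [4, 11] 2 364485 6627 = true := by decide +kernel

theorem chk_pow59_3_11 : tab.minOKc [4, 11] 2 371112 6627 = true := by decide +kernel

theorem chk_pow59_3_12 : tab.minOKc [4, 11] 2 377739 6627 = true := by decide +kernel

theorem chk_pow59_3_13 : tab.minOKc [4, 11] 2 384366 6627 = true := by decide +kernel

theorem chk_pow59_3_14 : tab.minOKc [4, 11] 2 390993 6627 = true := by decide +kernel

theorem chk_pow59_3 : tab.minOKc [4, 11] 2 298215 99405 = true := by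
  refine tab.minOKc_of_chunks [4, 11] 2 298215 6627 15 (by norm_num) ?_
  intro i hi
  interval_cases i
  · exact chk_pow59_3_0
  · exact chk_pow59_3_1
  · exact chk_pow59_3_2
  · exact chk_pow59_3_3
  · exact chk_pow59_3_4
  · exact chk_pow59_3_5
  · exact chk_pow59_3_6
  · exact chk_pow59_3_7
  · exact chk_pow59_3_8
  · exact chk_pow59_3_9
  · exact chk_pow59_3_10
  · exact chk_pow59_3_11
  · exact chk_pow59_3_12
  · exact chk_pow59_3_13
  · exact chk_pow59_3_14

end Cfsg.Agent.Lib.Helper6.Fi24TC
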