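import Cfsg.Agent.Lib.Helper6.Fi24TCData
import Cfsg.Agent.Lib.Helper6.TCRel3
import Cfsg.Agent.Lib.Helper6.Fi24TCRel108

/-! # Fi24: the kernel check of a part of the relators on the coset table -/

set_option autoImplicit false

namespace Cfsg.Agent.Lib.Helper6.Fi24TC

open Cfsg.Agent.Lib.Helper6.TC

theorem chk_pow60_0_0 : tab.minOKc [5, 11] 2 0 6640 = true := by decide +kernel

theorem chk_pow60_0_1 : tab.minOKc [5, 11] 2 6640 6640 = true := by decide +kernel

theorem chk_pow60_0_2 : tab.minOKc [5, 11] 2 13280 6640 = true := by decide +kernel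

theorem chk_pow60_0_3 : tab.minOKc [5, 11] 2 19920 6640 = true := by decide +kernel

theorem chk_pow60_0_4 : tab.minOKc [5, 11] 2 26560 6640 = true := by decide +kernel

theorem chk_pow60_0_5 : tab.minOKc [5, 11] 2 33200 6640 = true := by decide +kernel

theorem chk_pow60_0_6 : tab.minOKc [5, 11] 2 39840 6640 = true := by decide +kernel

theorem chk_pow60_0_7 : tab.minOKc [5, 11] 2 46480 6640 = true := by decide +kernel

theorem chk_pow60_0_8 : tab.minOKc [5, 11] 2 53120 6640 = true := by decide +kernel

theorem chk_pow60_0_9 : tab.minOKc [5, 11] 2 59760 6640 = true := by decide +kernel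

theorem chk_pow60_0_10 : tab.minOKc [5, 11] 2 66400 6640 = true := by decide +kernel

theorem chk_pow60_0_11 : tab.minOKc [5, 11] 2 73040 6640 = true := by decide +kernel

theorem chk_pow60_0_12 : tab.minOKc [5, 11] 2 79680 6640 = true := by decide +kernel

theorem chk_pow60_0_13 : tab.minOKc [5, 11] 2 86320 6640 = true := by decide +kernel

theorem chk_pow60_0_14 : tab.minOKc [5, 11] 2 92960 6640 = true := by decide +kernel

theorem chk_pow60_0 : tab.minOKc [5, 11] 2 0 99600 = true := by
  refine tab.minOKc_of_chunks [5, 11] 2 0 6640 15 (by norm_num) ?_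
  intro i hi
  interval_cases i
  · exact chk_pow60_0_0
  · exact chk_pow60_0_1
  · exact chk_pow60_0_2
  · exact chk_pow60_0_3
  · exact chk_pow60_0_4
  · exact chk_pow60_0_5
  · exact chk_pow60_0_6
  · exact chk_pow60_0_7
  · exact chk_pow60_0_8
  · exact chk_pow60_0_9
  · exact chk_pow60_0_10
  · exact chk_pow60_0_11
  · exact chk_pow60_0_12
  · exact chk_pow60_0_13
  · exact chk_pow60_0_14

theorem chk_pow60_1_0 : tab.minOKc [5, 11] 2 99600 6640 = true := by decide +kernel

theorem chk_pow60_1_1 : tab.minOKc [5, 11] 2 106240 6640 = true := by decide +kernel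

theorem chk_pow60_1_2 : tab.minOKc [5, 11] 2 112880 6640 = true := by decide +kernel

theorem chk_pow60_1_3 : tab.minOKc [5, 11] 2 119520 6640 = true := by decide +kernel

theorem chk_pow60_1_4 : tab.minOKc [5, 11] 2 126160 6640 = true := by decide +kernel

theorem chk_pow60_1_5 : tab.minOKc [5, 11] 2 132800 6640 = true := by decide +kernel

theorem chk_pow60_1_6 : tab.minOKc [5, 11] 2 139440 6640 = true := by decide +kernel

theorem chk_pow60_1_7 : tab.minOKc [5, 11] 2 146080 6640 = true := by decide +kernel

theorem chk_pow60_1_8 : tab.minOKc [5, 11] 2 152720 6640 = true := by decide +kernel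

theorem chk_pow60_1_9 : tab.minOKc [5, 11] 2 159360 6640 = true := by decide +kernel

theorem chk_pow60_1_10 : tab.minOKc [5, 11] 2 166000 6640 = true := by decide +kernel

theorem chk_pow60_1_11 : tab.minOKc [5, 11] 2 172640 6640 = true := by decide +kernel

theorem chk_pow60_1_12 : tab.minOKc [5, 11] 2 179280 6640 = true := by decide +kernel

theorem chk_pow60_1_13 : tab.minOKc [5, 11] 2 185920 6640 = true := by decide +kernel

theorem chk_pow60_1_14 : tab.minOKc [5, 11] 2 192560 6640 = true := by decide +kernel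

theorem chk_pow60_1 : tab.minOKc [5, 11] 2 99600 99600 = true := by
  refine tab.minOKc_of_chunks [5, 11] 2 99600 6640 15 (by norm_num) ?_
  intro i hi
  interval_cases i
  · exact chk_pow60_1_0
  · exact chk_pow60_1_1
  · exact chk_pow60_1_2
  · exact chk_pow60_1_3
  · exact chk_pow60_1_4
  · exact chk_pow60_1_5
  · exact chk_pow60_1_6
  · exact chk_pow60_1_7
  · exact chk_pow60_1_8
  · exact chk_pow60_1_9
  · exact chk_pow60_1_10
  · exact chk_pow60_1_11
  · exact chk_pow60_1_12
  · exact chk_pow60_1_13
  · exact chk_pow60_1_14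

end Cfsg.Agent.Lib.Helper6.Fi24TC
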