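import Cfsg.Agent.Lib.Helper6.Fi24TCData
import Cfsg.Agent.Lib.Helper6.TCRel3
import Cfsg.Agent.Lib.Helper6.Fi24TCRel109

/-! # Fi24: the kernel check of a part of the relators on the coset table -/

set_option autoImplicit false

namespace Cfsg.Agent.Lib.Helper6.Fi24TC

open Cfsg.Agent.Lib.Helper6.TC

theorem chk_pow60_2_0 : tab.minOKc [5, 11] 2 199200 6640 = true := by decide +kernel

theorem chk_pow60_2_1 : tab.minOKc [5, 11] 2 205840 6640 = true := by decide +kernel

theorem chk_pow60_2_2 : tab.minOKc [5, 11] 2 212480 6640 = true := by decide +kernel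

theorem chk_pow60_2_3 : tab.minOKc [5, 11] 2 219120 6640 = true := by decide +kernel

theorem chk_pow60_2_4 : tab.minOKc [5, 11] 2 225760 6640 = true := by decide +kernel

theorem chk_pow60_2_5 : tab.minOKc [5, 11] 2 232400 6640 = true := by decide +kernel

theorem chk_pow60_2_6 : tab.minOKc [5, 11] 2 239040 6640 = true := by decide +kernel

theorem chk_pow60_2_7 : tab.minOKc [5, 11] 2 245680 6640 = true := by decide +kernel

theorem chk_pow60_2_8 : tab.minOKc [5, 11] 2 252320 6640 = true := by decide +kernel

theorem chk_pow60_2_9 : tab.minOKc [5, 11] 2 258960 6640 = true := by decide +kernel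

theorem chk_pow60_2_10 : tab.minOKc [5, 11] 2 265600 6640 = true := by decide +kernel

theorem chk_pow60_2_11 : tab.minOKc [5, 11] 2 272240 6640 = true := by decide +kernel

theorem chk_pow60_2_12 : tab.minOKc [5, 11] 2 278880 6640 = true := by decide +kernel

theorem chk_pow60_2_13 : tab.minOKc [5, 11] 2 285520 6640 = true := by decide +kernel

theorem chk_pow60_2_14 : tab.minOKc [5, 11] 2 292160 6640 = true := by decide +kernel

theorem chk_pow60_2 : tab.minOKc [5, 11] 2 199200 99600 = true := by
  refine tab.minOKc_of_chunks [5, 11] 2 199200 6640 15 (by norm_num) ?_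
  intro i hi
  interval_cases i
  · exact chk_pow60_2_0
  · exact chk_pow60_2_1
  · exact chk_pow60_2_2
  · exact chk_pow60_2_3
  · exact chk_pow60_2_4
  · exact chk_pow60_2_5
  · exact chk_pow60_2_6
  · exact chk_pow60_2_7
  · exact chk_pow60_2_8
  · exact chk_pow60_2_9
  · exact chk_pow60_2_10
  · exact chk_pow60_2_11
  · exact chk_pow60_2_12
  · exact chk_pow60_2_13
  · exact chk_pow60_2_14

theorem chk_pow60_3_0 : tab.minOKc [5, 11] 2 298800 6640 = true := by decide +kernel

theorem chk_pow60_3_1 : tab.minOKc [5, 11] 2 305440 6640 = true := by decide +kernel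

theorem chk_pow60_3_2 : tab.minOKc [5, 11] 2 312080 6640 = true := by decide +kernel

theorem chk_pow60_3_3 : tab.minOKc [5, 11] 2 318720 6640 = true := by decide +kernel

theorem chk_pow60_3_4 : tab.minOKc [5, 11] 2 325360 6640 = true := by decide +kernel

theorem chk_pow60_3_5 : tab.minOKc [5, 11] 2 332000 6640 = true := by decide +kernel

theorem chk_pow60_3_6 : tab.minOKc [5, 11] 2 338640 6640 = true := by decide +kernel

theorem chk_pow60_3_7 : tab.minOKc [5, 11] 2 345280 6640 = true := by decide +kernel

theorem chk_pow60_3_8 : tab.minOKc [5, 11] 2 351920 6640 = true := by decide +kernel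

theorem chk_pow60_3_9 : tab.minOKc [5, 11] 2 358560 6640 = true := by decide +kernel

theorem chk_pow60_3_10 : tab.minOKc [5, 11] 2 365200 6640 = true := by decide +kernel

theorem chk_pow60_3_11 : tab.minOKc [5, 11] 2 371840 6640 = true := by decide +kernel

theorem chk_pow60_3_12 : tab.minOKc [5, 11] 2 378480 6640 = true := by decide +kernel

theorem chk_pow60_3_13 : tab.minOKc [5, 11] 2 385120 6640 = true := by decide +kernel

theorem chk_pow60_3_14 : tab.minOKc [5, 11] 2 391760 6640 = true := by decide +kernel

theorem chk_pow60_3 : tab.minOKc [5, 11] 2 298800 99600 = true := by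
  refine tab.minOKc_of_chunks [5, 11] 2 298800 6640 15 (by norm_num) ?_
  intro i hi
  interval_cases i
  · exact chk_pow60_3_0
  · exact chk_pow60_3_1
  · exact chk_pow60_3_2
  · exact chk_pow60_3_3
  · exact chk_pow60_3_4
  · exact chk_pow60_3_5
  · exact chk_pow60_3_6
  · exact chk_pow60_3_7
  · exact chk_pow60_3_8
  · exact chk_pow60_3_9
  · exact chk_pow60_3_10
  · exact chk_pow60_3_11
  · exact chk_pow60_3_12
  · exact chk_pow60_3_13
  · exact chk_pow60_3_14

end Cfsg.Agent.Lib.Helper6.Fi24TC
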