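import Cfsg.Agent.Lib.Helper6.Fi24TCData
import Cfsg.Agent.Lib.Helper6.TCRel3
import Cfsg.Agent.Lib.Helper6.Fi24TCRel111

/-! # Fi24: the kernel check of a part of the relators on the coset table -/

set_option autoImplicit false

namespace Cfsg.Agent.Lib.Helper6.Fi24TC

open Cfsg.Agent.Lib.Helper6.TC

theorem chk_pow61_2_0 : tab.minOKc [6, 11] 2 200520 6684 = true := by decide +kernel

theorem chk_pow61_2_1 : tab.minOKc [6, 11] 2 207204 6684 = true := by decide +kernel

theorem chk_pow61_2_2 : tab.minOKc [6, 11] 2 213888 6684 = true := by decide +kernel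

theorem chk_pow61_2_3 : tab.minOKc [6, 11] 2 220572 6684 = true := by decide +kernel

theorem chk_pow61_2_4 : tab.minOKc [6, 11] 2 227256 6684 = true := by decide +kernel

theorem chk_pow61_2_5 : tab.minOKc [6, 11] 2 233940 6684 = true := by decide +kernel

theorem chk_pow61_2_6 : tab.minOKc [6, 11] 2 240624 6684 = true := by decide +kernel

theorem chk_pow61_2_7 : tab.minOKc [6, 11] 2 247308 6684 = true := by decide +kernel

theorem chk_pow61_2_8 : tab.minOKc [6, 11] 2 253992 6684 = true := by decide +kernel

theorem chk_pow61_2_9 : tab.minOKc [6, 11] 2 260676 6684 = true := by decide +kernel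

theorem chk_pow61_2_10 : tab.minOKc [6, 11] 2 267360 6684 = true := by decide +kernel

theorem chk_pow61_2_11 : tab.minOKc [6, 11] 2 274044 6684 = true := by decide +kernel

theorem chk_pow61_2_12 : tab.minOKc [6, 11] 2 280728 6684 = true := by decide +kernel

theorem chk_pow61_2_13 : tab.minOKc [6, 11] 2 287412 6684 = true := by decide +kernel

theorem chk_pow61_2_14 : tab.minOKc [6, 11] 2 294096 6684 = true := by decide +kernel

theorem chk_pow61_2 : tab.minOKc [6, 11] 2 200520 100260 = true := by
  refine tab.minOKc_of_chunks [6, 11] 2 200520 6684 15 (by norm_num) ?_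
  intro i hi
  interval_cases i
  · exact chk_pow61_2_0
  · exact chk_pow61_2_1
  · exact chk_pow61_2_2
  · exact chk_pow61_2_3
  · exact chk_pow61_2_4
  · exact chk_pow61_2_5
  · exact chk_pow61_2_6
  · exact chk_pow61_2_7
  · exact chk_pow61_2_8
  · exact chk_pow61_2_9
  · exact chk_pow61_2_10
  · exact chk_pow61_2_11
  · exact chk_pow61_2_12
  · exact chk_pow61_2_13
  · exact chk_pow61_2_14

theorem chk_pow61_3_0 : tab.minOKc [6, 11] 2 300780 6684 = true := by decide +kernel

theorem chk_pow61_3_1 : tab.minOKc [6, 11] 2 307464 6684 = true := by decide +kernel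

theorem chk_pow61_3_2 : tab.minOKc [6, 11] 2 314148 6684 = true := by decide +kernel

theorem chk_pow61_3_3 : tab.minOKc [6, 11] 2 320832 6684 = true := by decide +kernel

theorem chk_pow61_3_4 : tab.minOKc [6, 11] 2 327516 6684 = true := by decide +kernel

theorem chk_pow61_3_5 : tab.minOKc [6, 11] 2 334200 6684 = true := by decide +kernel

theorem chk_pow61_3_6 : tab.minOKc [6, 11] 2 340884 6684 = true := by decide +kernel

theorem chk_pow61_3_7 : tab.minOKc [6, 11] 2 347568 6684 = true := by decide +kernel

theorem chk_pow61_3_8 : tab.minOKc [6, 11] 2 354252 6684 = true := by decide +kernel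

theorem chk_pow61_3_9 : tab.minOKc [6, 11] 2 360936 6684 = true := by decide +kernel

theorem chk_pow61_3_10 : tab.minOKc [6, 11] 2 367620 6684 = true := by decide +kernel

theorem chk_pow61_3_11 : tab.minOKc [6, 11] 2 374304 6684 = true := by decide +kernel

theorem chk_pow61_3_12 : tab.minOKc [6, 11] 2 380988 6684 = true := by decide +kernel

theorem chk_pow61_3_13 : tab.minOKc [6, 11] 2 387672 6684 = true := by decide +kernel

theorem chk_pow61_3_14 : tab.minOKc [6, 11] 2 394356 6684 = true := by decide +kernel

theorem chk_pow61_3 : tab.minOKc [6, 11] 2 300780 100260 = true := by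
  refine tab.minOKc_of_chunks [6, 11] 2 300780 6684 15 (by norm_num) ?_
  intro i hi
  interval_cases i
  · exact chk_pow61_3_0
  · exact chk_pow61_3_1
  · exact chk_pow61_3_2
  · exact chk_pow61_3_3
  · exact chk_pow61_3_4
  · exact chk_pow61_3_5
  · exact chk_pow61_3_6
  · exact chk_pow61_3_7
  · exact chk_pow61_3_8
  · exact chk_pow61_3_9
  · exact chk_pow61_3_10
  · exact chk_pow61_3_11
  · exact chk_pow61_3_12
  · exact chk_pow61_3_13
  · exact chk_pow61_3_14

end Cfsg.Agent.Lib.Helper6.Fi24TC
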