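import Cfsg.Agent.Lib.Helper6.Fi24TCData
import Cfsg.Agent.Lib.Helper6.TCRel3
import Cfsg.Agent.Lib.Helper6.Fi24TCRel112

/-! # Fi24: the kernel check of a part of the relators on the coset table -/

set_option autoImplicit false

namespace Cfsg.Agent.Lib.Helper6.Fi24TC

open Cfsg.Agent.Lib.Helper6.TC

theorem chk_pow62_0_0 : tab.minOKc [7, 11] 2 0 6637 = true := by decide +kernel

theorem chk_pow62_0_1 : tab.minOKc [7, 11] 2 6637 6637 = true := by decide +kernel

theorem chk_pow62_0_2 : tab.minOKc [7, 11] 2 13274 6637 = true := by decide +kernel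

theorem chk_pow62_0_3 : tab.minOKc [7, 11] 2 19911 6637 = true := by decide +kernel

theorem chk_pow62_0_4 : tab.minOKc [7, 11] 2 26548 6637 = true := by decide +kernel

theorem chk_pow62_0_5 : tab.minOKc [7, 11] 2 33185 6637 = true := by decide +kernel

theorem chk_pow62_0_6 : tab.minOKc [7, 11] 2 39822 6637 = true := by decide +kernel

theorem chk_pow62_0_7 : tab.minOKc [7, 11] 2 46459 6637 = true := by decide +kernel

theorem chk_pow62_0_8 : tab.minOKc [7, 11] 2 53096 6637 = true := by decide +kernel

theorem chk_pow62_0_9 : tab.minOKc [7, 11] 2 59733 6637 = true := by decide +kernel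

theorem chk_pow62_0_10 : tab.minOKc [7, 11] 2 66370 6637 = true := by decide +kernel

theorem chk_pow62_0_11 : tab.minOKc [7, 11] 2 73007 6637 = true := by decide +kernel

theorem chk_pow62_0_12 : tab.minOKc [7, 11] 2 79644 6637 = true := by decide +kernel

theorem chk_pow62_0_13 : tab.minOKc [7, 11] 2 86281 6637 = true := by decide +kernel

theorem chk_pow62_0_14 : tab.minOKc [7, 11] 2 92918 6637 = true := by decide +kernel

theorem chk_pow62_0 : tab.minOKc [7, 11] 2 0 99555 = true := by
  refine tab.minOKc_of_chunks [7, 11] 2 0 6637 15 (by norm_num) ?_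
  intro i hi
  interval_cases i
  · exact chk_pow62_0_0
  · exact chk_pow62_0_1
  · exact chk_pow62_0_2
  · exact chk_pow62_0_3
  · exact chk_pow62_0_4
  · exact chk_pow62_0_5
  · exact chk_pow62_0_6
  · exact chk_pow62_0_7
  · exact chk_pow62_0_8
  · exact chk_pow62_0_9
  · exact chk_pow62_0_10
  · exact chk_pow62_0_11
  · exact chk_pow62_0_12
  · exact chk_pow62_0_13
  · exact chk_pow62_0_14

theorem chk_pow62_1_0 : tab.minOKc [7, 11] 2 99555 6637 = true := by decide +kernel

theorem chk_pow62_1_1 : tab.minOKc [7, 11] 2 106192 6637 = true := by decide +kernel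

theorem chk_pow62_1_2 : tab.minOKc [7, 11] 2 112829 6637 = true := by decide +kernel

theorem chk_pow62_1_3 : tab.minOKc [7, 11] 2 119466 6637 = true := by decide +kernel

theorem chk_pow62_1_4 : tab.minOKc [7, 11] 2 126103 6637 = true := by decide +kernel

theorem chk_pow62_1_5 : tab.minOKc [7, 11] 2 132740 6637 = true := by decide +kernel

theorem chk_pow62_1_6 : tab.minOKc [7, 11] 2 139377 6637 = true := by decide +kernel

theorem chk_pow62_1_7 : tab.minOKc [7, 11] 2 146014 6637 = true := by decide +kernel

theorem chk_pow62_1_8 : tab.minOKc [7, 11] 2 152651 6637 = true := by decide +kernel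

theorem chk_pow62_1_9 : tab.minOKc [7, 11] 2 159288 6637 = true := by decide +kernel

theorem chk_pow62_1_10 : tab.minOKc [7, 11] 2 165925 6637 = true := by decide +kernel

theorem chk_pow62_1_11 : tab.minOKc [7, 11] 2 172562 6637 = true := by decide +kernel

theorem chk_pow62_1_12 : tab.minOKc [7, 11] 2 179199 6637 = true := by decide +kernel

theorem chk_pow62_1_13 : tab.minOKc [7, 11] 2 185836 6637 = true := by decide +kernel

theorem chk_pow62_1_14 : tab.minOKc [7, 11] 2 192473 6637 = true := by decide +kernel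

theorem chk_pow62_1 : tab.minOKc [7, 11] 2 99555 99555 = true := by
  refine tab.minOKc_of_chunks [7, 11] 2 99555 6637 15 (by norm_num) ?_
  intro i hi
  interval_cases i
  · exact chk_pow62_1_0
  · exact chk_pow62_1_1
  · exact chk_pow62_1_2
  · exact chk_pow62_1_3
  · exact chk_pow62_1_4
  · exact chk_pow62_1_5
  · exact chk_pow62_1_6
  · exact chk_pow62_1_7
  · exact chk_pow62_1_8
  · exact chk_pow62_1_9
  · exact chk_pow62_1_10
  · exact chk_pow62_1_11
  · exact chk_pow62_1_12
  · exact chk_pow62_1_13
  · exact chk_pow62_1_14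

end Cfsg.Agent.Lib.Helper6.Fi24TC
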