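import Cfsg.Agent.Lib.Helper6.Fi24TCData
import Cfsg.Agent.Lib.Helper6.TCRel3
import Cfsg.Agent.Lib.Helper6.Fi24TCRel113

/-! # Fi24: the kernel check of a part of the relators on the coset table -/

set_option autoImplicit false

namespace Cfsg.Agent.Lib.Helper6.Fi24TC

open Cfsg.Agent.Lib.Helper6.TC

theorem chk_pow62_2_0 : tab.minOKc [7, 11] 2 199110 6637 = true := by decide +kernel

theorem chk_pow62_2_1 : tab.minOKc [7, 11] 2 205747 6637 = true := by decide +kernel

theorem chk_pow62_2_2 : tab.minOKc [7, 11] 2 212384 6637 = true := by decide +kernel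

theorem chk_pow62_2_3 : tab.minOKc [7, 11] 2 219021 6637 = true := by decide +kernel

theorem chk_pow62_2_4 : tab.minOKc [7, 11] 2 225658 6637 = true := by decide +kernel

theorem chk_pow62_2_5 : tab.minOKc [7, 11] 2 232295 6637 = true := by decide +kernel

theorem chk_pow62_2_6 : tab.minOKc [7, 11] 2 238932 6637 = true := by decide +kernel

theorem chk_pow62_2_7 : tab.minOKc [7, 11] 2 245569 6637 = true := by decide +kernel

theorem chk_pow62_2_8 : tab.minOKc [7, 11] 2 252206 6637 = true := by decide +kernel

theorem chk_pow62_2_9 : tab.minOKc [7, 11] 2 258843 6637 = true := by decide +kernel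

theorem chk_pow62_2_10 : tab.minOKc [7, 11] 2 265480 6637 = true := by decide +kernel

theorem chk_pow62_2_11 : tab.minOKc [7, 11] 2 272117 6637 = true := by decide +kernel

theorem chk_pow62_2_12 : tab.minOKc [7, 11] 2 278754 6637 = true := by decide +kernel

theorem chk_pow62_2_13 : tab.minOKc [7, 11] 2 285391 6637 = true := by decide +kernel

theorem chk_pow62_2_14 : tab.minOKc [7, 11] 2 292028 6637 = true := by decide +kernel

theorem chk_pow62_2 : tab.minOKc [7, 11] 2 199110 99555 = true := by
  refine tab.minOKc_of_chunks [7, 11] 2 199110 6637 15 (by norm_num) ?_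
  intro i hi
  interval_cases i
  · exact chk_pow62_2_0
  · exact chk_pow62_2_1
  · exact chk_pow62_2_2
  · exact chk_pow62_2_3
  · exact chk_pow62_2_4
  · exact chk_pow62_2_5
  · exact chk_pow62_2_6
  · exact chk_pow62_2_7
  · exact chk_pow62_2_8
  · exact chk_pow62_2_9
  · exact chk_pow62_2_10
  · exact chk_pow62_2_11
  · exact chk_pow62_2_12
  · exact chk_pow62_2_13
  · exact chk_pow62_2_14

theorem chk_pow62_3_0 : tab.minOKc [7, 11] 2 298665 6637 = true := by decide +kernel

theorem chk_pow62_3_1 : tab.minOKc [7, 11] 2 305302 6637 = true := by decide +kernel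

theorem chk_pow62_3_2 : tab.minOKc [7, 11] 2 311939 6637 = true := by decide +kernel

theorem chk_pow62_3_3 : tab.minOKc [7, 11] 2 318576 6637 = true := by decide +kernel

theorem chk_pow62_3_4 : tab.minOKc [7, 11] 2 325213 6637 = true := by decide +kernel

theorem chk_pow62_3_5 : tab.minOKc [7, 11] 2 331850 6637 = true := by decide +kernel

theorem chk_pow62_3_6 : tab.minOKc [7, 11] 2 338487 6637 = true := by decide +kernel

theorem chk_pow62_3_7 : tab.minOKc [7, 11] 2 345124 6637 = true := by decide +kernel

theorem chk_pow62_3_8 : tab.minOKc [7, 11] 2 351761 6637 = true := by decide +kernel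

theorem chk_pow62_3_9 : tab.minOKc [7, 11] 2 358398 6637 = true := by decide +kernel

theorem chk_pow62_3_10 : tab.minOKc [7, 11] 2 365035 6637 = true := by decide +kernel

theorem chk_pow62_3_11 : tab.minOKc [7, 11] 2 371672 6637 = true := by decide +kernel

theorem chk_pow62_3_12 : tab.minOKc [7, 11] 2 378309 6637 = true := by decide +kernel

theorem chk_pow62_3_13 : tab.minOKc [7, 11] 2 384946 6637 = true := by decide +kernel

theorem chk_pow62_3_14 : tab.minOKc [7, 11] 2 391583 6637 = true := by decide +kernel

theorem chk_pow62_3 : tab.minOKc [7, 11] 2 298665 99555 = true := by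
  refine tab.minOKc_of_chunks [7, 11] 2 298665 6637 15 (by norm_num) ?_
  intro i hi
  interval_cases i
  · exact chk_pow62_3_0
  · exact chk_pow62_3_1
  · exact chk_pow62_3_2
  · exact chk_pow62_3_3
  · exact chk_pow62_3_4
  · exact chk_pow62_3_5
  · exact chk_pow62_3_6
  · exact chk_pow62_3_7
  · exact chk_pow62_3_8
  · exact chk_pow62_3_9
  · exact chk_pow62_3_10
  · exact chk_pow62_3_11
  · exact chk_pow62_3_12
  · exact chk_pow62_3_13
  · exact chk_pow62_3_14

end Cfsg.Agent.Lib.Helper6.Fi24TC
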