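import Cfsg.Agent.Lib.Helper6.Fi24TCData
import Cfsg.Agent.Lib.Helper6.TCRel3
import Cfsg.Agent.Lib.Helper6.Fi24TCRel114

/-! # Fi24: the kernel check of a part of the relators on the coset table -/

set_option autoImplicit false

namespace Cfsg.Agent.Lib.Helper6.Fi24TC

open Cfsg.Agent.Lib.Helper6.TC

theorem chk_pow63_0_0 : tab.minOKc [8, 11] 2 0 6618 = true := by decide +kernel

theorem chk_pow63_0_1 : tab.minOKc [8, 11] 2 6618 6618 = true := by decide +kernel

theorem chk_pow63_0_2 : tab.minOKc [8, 11] 2 13236 6618 = true := by decide +kernel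

theorem chk_pow63_0_3 : tab.minOKc [8, 11] 2 19854 6618 = true := by decide +kernel

theorem chk_pow63_0_4 : tab.minOKc [8, 11] 2 26472 6618 = true := by decide +kernel

theorem chk_pow63_0_5 : tab.minOKc [8, 11] 2 33090 6618 = true := by decide +kernel

theorem chk_pow63_0_6 : tab.minOKc [8, 11] 2 39708 6618 = true := by decide +kernel

theorem chk_pow63_0_7 : tab.minOKc [8, 11] 2 46326 6618 = true := by decide +kernel

theorem chk_pow63_0_8 : tab.minOKc [8, 11] 2 52944 6618 = true := by decide +kernel

theorem chk_pow63_0_9 : tab.minOKc [8, 11] 2 59562 6618 = true := by decide +kernel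

theorem chk_pow63_0_10 : tab.minOKc [8, 11] 2 66180 6618 = true := by decide +kernel

theorem chk_pow63_0_11 : tab.minOKc [8, 11] 2 72798 6618 = true := by decide +kernel

theorem chk_pow63_0_12 : tab.minOKc [8, 11] 2 79416 6618 = true := by decide +kernel

theorem chk_pow63_0_13 : tab.minOKc [8, 11] 2 86034 6618 = true := by decide +kernel

theorem chk_pow63_0_14 : tab.minOKc [8, 11] 2 92652 6618 = true := by decide +kernel

theorem chk_pow63_0 : tab.minOKc [8, 11] 2 0 99270 = true := by
  refine tab.minOKc_of_chunks [8, 11] 2 0 6618 15 (by norm_num) ?_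
  intro i hi
  interval_cases i
  · exact chk_pow63_0_0
  · exact chk_pow63_0_1
  · exact chk_pow63_0_2
  · exact chk_pow63_0_3
  · exact chk_pow63_0_4
  · exact chk_pow63_0_5
  · exact chk_pow63_0_6
  · exact chk_pow63_0_7
  · exact chk_pow63_0_8
  · exact chk_pow63_0_9
  · exact chk_pow63_0_10
  · exact chk_pow63_0_11
  · exact chk_pow63_0_12
  · exact chk_pow63_0_13
  · exact chk_pow63_0_14

theorem chk_pow63_1_0 : tab.minOKc [8, 11] 2 99270 6618 = true := by decide +kernel

theorem chk_pow63_1_1 : tab.minOKc [8, 11] 2 105888 6618 = true := by decide +kernel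

theorem chk_pow63_1_2 : tab.minOKc [8, 11] 2 112506 6618 = true := by decide +kernel

theorem chk_pow63_1_3 : tab.minOKc [8, 11] 2 119124 6618 = true := by decide +kernel

theorem chk_pow63_1_4 : tab.minOKc [8, 11] 2 125742 6618 = true := by decide +kernel

theorem chk_pow63_1_5 : tab.minOKc [8, 11] 2 132360 6618 = true := by decide +kernel

theorem chk_pow63_1_6 : tab.minOKc [8, 11] 2 138978 6618 = true := by decide +kernel

theorem chk_pow63_1_7 : tab.minOKc [8, 11] 2 145596 6618 = true := by decide +kernel

theorem chk_pow63_1_8 : tab.minOKc [8, 11] 2 152214 6618 = true := by decide +kernel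

theorem chk_pow63_1_9 : tab.minOKc [8, 11] 2 158832 6618 = true := by decide +kernel

theorem chk_pow63_1_10 : tab.minOKc [8, 11] 2 165450 6618 = true := by decide +kernel

theorem chk_pow63_1_11 : tab.minOKc [8, 11] 2 172068 6618 = true := by decide +kernel

theorem chk_pow63_1_12 : tab.minOKc [8, 11] 2 178686 6618 = true := by decide +kernel

theorem chk_pow63_1_13 : tab.minOKc [8, 11] 2 185304 6618 = true := by decide +kernel

theorem chk_pow63_1_14 : tab.minOKc [8, 11] 2 191922 6618 = true := by decide +kernel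

theorem chk_pow63_1 : tab.minOKc [8, 11] 2 99270 99270 = true := by
  refine tab.minOKc_of_chunks [8, 11] 2 99270 6618 15 (by norm_num) ?_
  intro i hi
  interval_cases i
  · exact chk_pow63_1_0
  · exact chk_pow63_1_1
  · exact chk_pow63_1_2
  · exact chk_pow63_1_3
  · exact chk_pow63_1_4
  · exact chk_pow63_1_5
  · exact chk_pow63_1_6
  · exact chk_pow63_1_7
  · exact chk_pow63_1_8
  · exact chk_pow63_1_9
  · exact chk_pow63_1_10
  · exact chk_pow63_1_11
  · exact chk_pow63_1_12
  · exact chk_pow63_1_13
  · exact chk_pow63_1_14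

end Cfsg.Agent.Lib.Helper6.Fi24TC
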