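import Cfsg.Agent.Lib.Helper6.Fi24TCData
import Cfsg.Agent.Lib.Helper6.TCRel3
import Cfsg.Agent.Lib.Helper6.Fi24TCRel115

/-! # Fi24: the kernel check of a part of the relators on the coset table -/

set_option autoImplicit false

namespace Cfsg.Agent.Lib.Helper6.Fi24TC

open Cfsg.Agent.Lib.Helper6.TC

theorem chk_pow63_2_0 : tab.minOKc [8, 11] 2 198540 6618 = true := by decide +kernel

theorem chk_pow63_2_1 : tab.minOKc [8, 11] 2 205158 6618 = true := by decide +kernel

theorem chk_pow63_2_2 : tab.minOKc [8, 11] 2 211776 6618 = true := by decide +kernel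

theorem chk_pow63_2_3 : tab.minOKc [8, 11] 2 218394 6618 = true := by decide +kernel

theorem chk_pow63_2_4 : tab.minOKc [8, 11] 2 225012 6618 = true := by decide +kernel

theorem chk_pow63_2_5 : tab.minOKc [8, 11] 2 231630 6618 = true := by decide +kernel

theorem chk_pow63_2_6 : tab.minOKc [8, 11] 2 238248 6618 = true := by decide +kernel

theorem chk_pow63_2_7 : tab.minOKc [8, 11] 2 244866 6618 = true := by decide +kernel

theorem chk_pow63_2_8 : tab.minOKc [8, 11] 2 251484 6618 = true := by decide +kernel

theorem chk_pow63_2_9 : tab.minOKc [8, 11] 2 258102 6618 = true := by decide +kernel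

theorem chk_pow63_2_10 : tab.minOKc [8, 11] 2 264720 6618 = true := by decide +kernel

theorem chk_pow63_2_11 : tab.minOKc [8, 11] 2 271338 6618 = true := by decide +kernel

theorem chk_pow63_2_12 : tab.minOKc [8, 11] 2 277956 6618 = true := by decide +kernel

theorem chk_pow63_2_13 : tab.minOKc [8, 11] 2 284574 6618 = true := by decide +kernel

theorem chk_pow63_2_14 : tab.minOKc [8, 11] 2 291192 6618 = true := by decide +kernel

theorem chk_pow63_2 : tab.minOKc [8, 11] 2 198540 99270 = true := by
  refine tab.minOKc_of_chunks [8, 11] 2 198540 6618 15 (by norm_num) ?_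
  intro i hi
  interval_cases i
  · exact chk_pow63_2_0
  · exact chk_pow63_2_1
  · exact chk_pow63_2_2
  · exact chk_pow63_2_3
  · exact chk_pow63_2_4
  · exact chk_pow63_2_5
  · exact chk_pow63_2_6
  · exact chk_pow63_2_7
  · exact chk_pow63_2_8
  · exact chk_pow63_2_9
  · exact chk_pow63_2_10
  · exact chk_pow63_2_11
  · exact chk_pow63_2_12
  · exact chk_pow63_2_13
  · exact chk_pow63_2_14

theorem chk_pow63_3_0 : tab.minOKc [8, 11] 2 297810 6618 = true := by decide +kernel

theorem chk_pow63_3_1 : tab.minOKc [8, 11] 2 304428 6618 = true := by decide +kernel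

theorem chk_pow63_3_2 : tab.minOKc [8, 11] 2 311046 6618 = true := by decide +kernel

theorem chk_pow63_3_3 : tab.minOKc [8, 11] 2 317664 6618 = true := by decide +kernel

theorem chk_pow63_3_4 : tab.minOKc [8, 11] 2 324282 6618 = true := by decide +kernel

theorem chk_pow63_3_5 : tab.minOKc [8, 11] 2 330900 6618 = true := by decide +kernel

theorem chk_pow63_3_6 : tab.minOKc [8, 11] 2 337518 6618 = true := by decide +kernel

theorem chk_pow63_3_7 : tab.minOKc [8, 11] 2 344136 6618 = true := by decide +kernel

theorem chk_pow63_3_8 : tab.minOKc [8, 11] 2 350754 6618 = true := by decide +kernel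

theorem chk_pow63_3_9 : tab.minOKc [8, 11] 2 357372 6618 = true := by decide +kernel

theorem chk_pow63_3_10 : tab.minOKc [8, 11] 2 363990 6618 = true := by decide +kernel

theorem chk_pow63_3_11 : tab.minOKc [8, 11] 2 370608 6618 = true := by decide +kernel

theorem chk_pow63_3_12 : tab.minOKc [8, 11] 2 377226 6618 = true := by decide +kernel

theorem chk_pow63_3_13 : tab.minOKc [8, 11] 2 383844 6618 = true := by decide +kernel

theorem chk_pow63_3_14 : tab.minOKc [8, 11] 2 390462 6618 = true := by decide +kernel

theorem chk_pow63_3 : tab.minOKc [8, 11] 2 297810 99270 = true := by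
  refine tab.minOKc_of_chunks [8, 11] 2 297810 6618 15 (by norm_num) ?_
  intro i hi
  interval_cases i
  · exact chk_pow63_3_0
  · exact chk_pow63_3_1
  · exact chk_pow63_3_2
  · exact chk_pow63_3_3
  · exact chk_pow63_3_4
  · exact chk_pow63_3_5
  · exact chk_pow63_3_6
  · exact chk_pow63_3_7
  · exact chk_pow63_3_8
  · exact chk_pow63_3_9
  · exact chk_pow63_3_10
  · exact chk_pow63_3_11
  · exact chk_pow63_3_12
  · exact chk_pow63_3_13
  · exact chk_pow63_3_14

end Cfsg.Agent.Lib.Helper6.Fi24TC
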