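import Cfsg.Agent.Lib.Helper6.Fi24TCData
import Cfsg.Agent.Lib.Helper6.TCRel3
import Cfsg.Agent.Lib.Helper6.Fi24TCRel118

/-! # Fi24: the kernel check of a part of the relators on the coset table -/

set_option autoImplicit false

namespace Cfsg.Agent.Lib.Helper6.Fi24TC

open Cfsg.Agent.Lib.Helper6.TC

theorem chk_pow65_0_0 : tab.minOKc [10, 11] 3 0 5413 = true := by decide +kernel

theorem chk_pow65_0_1 : tab.minOKc [10, 11] 3 5413 5413 = true := by decide +kernel

theorem chk_pow65_0_2 : tab.minOKc [10, 11] 3 10826 5413 = true := by decide +kernel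

theorem chk_pow65_0_3 : tab.minOKc [10, 11] 3 16239 5413 = true := by decide +kernel

theorem chk_pow65_0_4 : tab.minOKc [10, 11] 3 21652 5413 = true := by decide +kernel

theorem chk_pow65_0_5 : tab.minOKc [10, 11] 3 27065 5413 = true := by decide +kernel

theorem chk_pow65_0_6 : tab.minOKc [10, 11] 3 32478 5413 = true := by decide +kernel

theorem chk_pow65_0_7 : tab.minOKc [10, 11] 3 37891 5413 = true := by decide +kernel

theorem chk_pow65_0_8 : tab.minOKc [10, 11] 3 43304 5413 = true := by decide +kernel

theorem chk_pow65_0_9 : tab.minOKc [10, 11] 3 48717 5413 = true := by decide +kernel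

theorem chk_pow65_0_10 : tab.minOKc [10, 11] 3 54130 5413 = true := by decide +kernel

theorem chk_pow65_0_11 : tab.minOKc [10, 11] 3 59543 5413 = true := by decide +kernel

theorem chk_pow65_0_12 : tab.minOKc [10, 11] 3 64956 5413 = true := by decide +kernel

theorem chk_pow65_0_13 : tab.minOKc [10, 11] 3 70369 5413 = true := by decide +kernel

theorem chk_pow65_0_14 : tab.minOKc [10, 11] 3 75782 5413 = true := by decide +kernel

theorem chk_pow65_0 : tab.minOKc [10, 11] 3 0 81195 = true := by
  refine tab.minOKc_of_chunks [10, 11] 3 0 5413 15 (by norm_num) ?_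
  intro i hi
  interval_cases i
  · exact chk_pow65_0_0
  · exact chk_pow65_0_1
  · exact chk_pow65_0_2
  · exact chk_pow65_0_3
  · exact chk_pow65_0_4
  · exact chk_pow65_0_5
  · exact chk_pow65_0_6
  · exact chk_pow65_0_7
  · exact chk_pow65_0_8
  · exact chk_pow65_0_9
  · exact chk_pow65_0_10
  · exact chk_pow65_0_11
  · exact chk_pow65_0_12
  · exact chk_pow65_0_13
  · exact chk_pow65_0_14

theorem chk_pow65_1_0 : tab.minOKc [10, 11] 3 81195 5413 = true := by decide +kernel

theorem chk_pow65_1_1 : tab.minOKc [10, 11] 3 86608 5413 = true := by decide +kernel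

theorem chk_pow65_1_2 : tab.minOKc [10, 11] 3 92021 5413 = true := by decide +kernel

theorem chk_pow65_1_3 : tab.minOKc [10, 11] 3 97434 5413 = true := by decide +kernel

theorem chk_pow65_1_4 : tab.minOKc [10, 11] 3 102847 5413 = true := by decide +kernel

theorem chk_pow65_1_5 : tab.minOKc [10, 11] 3 108260 5413 = true := by decide +kernel

theorem chk_pow65_1_6 : tab.minOKc [10, 11] 3 113673 5413 = true := by decide +kernel

theorem chk_pow65_1_7 : tab.minOKc [10, 11] 3 119086 5413 = true := by decide +kernel

theorem chk_pow65_1_8 : tab.minOKc [10, 11] 3 124499 5413 = true := by decide +kernel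

theorem chk_pow65_1_9 : tab.minOKc [10, 11] 3 129912 5413 = true := by decide +kernel

theorem chk_pow65_1_10 : tab.minOKc [10, 11] 3 135325 5413 = true := by decide +kernel

theorem chk_pow65_1_11 : tab.minOKc [10, 11] 3 140738 5413 = true := by decide +kernel

theorem chk_pow65_1_12 : tab.minOKc [10, 11] 3 146151 5413 = true := by decide +kernel

theorem chk_pow65_1_13 : tab.minOKc [10, 11] 3 151564 5413 = true := by decide +kernel

theorem chk_pow65_1_14 : tab.minOKc [10, 11] 3 156977 5413 = true := by decide +kernel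

theorem chk_pow65_1 : tab.minOKc [10, 11] 3 81195 81195 = true := by
  refine tab.minOKc_of_chunks [10, 11] 3 81195 5413 15 (by norm_num) ?_
  intro i hi
  interval_cases i
  · exact chk_pow65_1_0
  · exact chk_pow65_1_1
  · exact chk_pow65_1_2
  · exact chk_pow65_1_3
  · exact chk_pow65_1_4
  · exact chk_pow65_1_5
  · exact chk_pow65_1_6
  · exact chk_pow65_1_7
  · exact chk_pow65_1_8
  · exact chk_pow65_1_9
  · exact chk_pow65_1_10
  · exact chk_pow65_1_11
  · exact chk_pow65_1_12
  · exact chk_pow65_1_13
  · exact chk_pow65_1_14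

end Cfsg.Agent.Lib.Helper6.Fi24TC
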