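import Cfsg.Agent.Lib.Helper6.Fi24TCData
import Cfsg.Agent.Lib.Helper6.TCRel3
import Cfsg.Agent.Lib.Helper6.Fi24TCRel119

/-! # Fi24: the kernel check of a part of the relators on the coset table -/

set_option autoImplicit false

namespace Cfsg.Agent.Lib.Helper6.Fi24TC

open Cfsg.Agent.Lib.Helper6.TC

theorem chk_pow65_2_0 : tab.minOKc [10, 11] 3 162390 5413 = true := by decide +kernel

theorem chk_pow65_2_1 : tab.minOKc [10, 11] 3 167803 5413 = true := by decide +kernel

theorem chk_pow65_2_2 : tab.minOKc [10, 11] 3 173216 5413 = true := by decide +kernel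

theorem chk_pow65_2_3 : tab.minOKc [10, 11] 3 178629 5413 = true := by decide +kernel

theorem chk_pow65_2_4 : tab.minOKc [10, 11] 3 184042 5413 = true := by decide +kernel

theorem chk_pow65_2_5 : tab.minOKc [10, 11] 3 189455 5413 = true := by decide +kernel

theorem chk_pow65_2_6 : tab.minOKc [10, 11] 3 194868 5413 = true := by decide +kernel

theorem chk_pow65_2_7 : tab.minOKc [10, 11] 3 200281 5413 = true := by decide +kernel

theorem chk_pow65_2_8 : tab.minOKc [10, 11] 3 205694 5413 = true := by decide +kernel

theorem chk_pow65_2_9 : tab.minOKc [10, 11] 3 211107 5413 = true := by decide +kernel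

theorem chk_pow65_2_10 : tab.minOKc [10, 11] 3 216520 5413 = true := by decide +kernel

theorem chk_pow65_2_11 : tab.minOKc [10, 11] 3 221933 5413 = true := by decide +kernel

theorem chk_pow65_2_12 : tab.minOKc [10, 11] 3 227346 5413 = true := by decide +kernel

theorem chk_pow65_2_13 : tab.minOKc [10, 11] 3 232759 5413 = true := by decide +kernel

theorem chk_pow65_2_14 : tab.minOKc [10, 11] 3 238172 5413 = true := by decide +kernel

theorem chk_pow65_2 : tab.minOKc [10, 11] 3 162390 81195 = true := by
  refine tab.minOKc_of_chunks [10, 11] 3 162390 5413 15 (by norm_num) ?_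
  intro i hi
  interval_cases i
  · exact chk_pow65_2_0
  · exact chk_pow65_2_1
  · exact chk_pow65_2_2
  · exact chk_pow65_2_3
  · exact chk_pow65_2_4
  · exact chk_pow65_2_5
  · exact chk_pow65_2_6
  · exact chk_pow65_2_7
  · exact chk_pow65_2_8
  · exact chk_pow65_2_9
  · exact chk_pow65_2_10
  · exact chk_pow65_2_11
  · exact chk_pow65_2_12
  · exact chk_pow65_2_13
  · exact chk_pow65_2_14

theorem chk_pow65_3_0 : tab.minOKc [10, 11] 3 243585 5413 = true := by decide +kernel

theorem chk_pow65_3_1 : tab.minOKc [10, 11] 3 248998 5413 = true := by decide +kernel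

theorem chk_pow65_3_2 : tab.minOKc [10, 11] 3 254411 5413 = true := by decide +kernel

theorem chk_pow65_3_3 : tab.minOKc [10, 11] 3 259824 5413 = true := by decide +kernel

theorem chk_pow65_3_4 : tab.minOKc [10, 11] 3 265237 5413 = true := by decide +kernel

theorem chk_pow65_3_5 : tab.minOKc [10, 11] 3 270650 5413 = true := by decide +kernel

theorem chk_pow65_3_6 : tab.minOKc [10, 11] 3 276063 5413 = true := by decide +kernel

theorem chk_pow65_3_7 : tab.minOKc [10, 11] 3 281476 5413 = true := by decide +kernel

theorem chk_pow65_3_8 : tab.minOKc [10, 11] 3 286889 5413 = true := by decide +kernel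

theorem chk_pow65_3_9 : tab.minOKc [10, 11] 3 292302 5413 = true := by decide +kernel

theorem chk_pow65_3_10 : tab.minOKc [10, 11] 3 297715 5413 = true := by decide +kernel

theorem chk_pow65_3_11 : tab.minOKc [10, 11] 3 303128 5413 = true := by decide +kernel

theorem chk_pow65_3_12 : tab.minOKc [10, 11] 3 308541 5413 = true := by decide +kernel

theorem chk_pow65_3_13 : tab.minOKc [10, 11] 3 313954 5413 = true := by decide +kernel

theorem chk_pow65_3_14 : tab.minOKc [10, 11] 3 319367 5413 = true := by decide +kernel

theorem chk_pow65_3 : tab.minOKc [10, 11] 3 243585 81195 = true := by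
  refine tab.minOKc_of_chunks [10, 11] 3 243585 5413 15 (by norm_num) ?_
  intro i hi
  interval_cases i
  · exact chk_pow65_3_0
  · exact chk_pow65_3_1
  · exact chk_pow65_3_2
  · exact chk_pow65_3_3
  · exact chk_pow65_3_4
  · exact chk_pow65_3_5
  · exact chk_pow65_3_6
  · exact chk_pow65_3_7
  · exact chk_pow65_3_8
  · exact chk_pow65_3_9
  · exact chk_pow65_3_10
  · exact chk_pow65_3_11
  · exact chk_pow65_3_12
  · exact chk_pow65_3_13
  · exact chk_pow65_3_14

end Cfsg.Agent.Lib.Helper6.Fi24TC
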