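import Cfsg.Agent.Lib.Helper6.Fi24TCData
import Cfsg.Agent.Lib.Helper6.TCRel3
import Cfsg.Agent.Lib.Helper6.Fi24TCRel154

/-! # Fi24: the kernel check of a part of the relators on the coset table -/

set_option autoImplicit false

namespace Cfsg.Agent.Lib.Helper6.Fi24TC

open Cfsg.Agent.Lib.Helper6.TC

theorem chk_pow67_2_0 : tab.minOKc [5, 4, 3, 2, 1, 0, 5, 6, 7, 8, 9, 5, 10, 11] 17 10650 355 = true := by decide +kernel

theorem chk_pow67_2_1 : tab.minOKc [5, 4, 3, 2, 1, 0, 5, 6, 7, 8, 9, 5, 10, 11] 17 11005 355 = true := by decide +kernel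

theorem chk_pow67_2_2 : tab.minOKc [5, 4, 3, 2, 1, 0, 5, 6, 7, 8, 9, 5, 10, 11] 17 11360 355 = true := by decide +kernel

theorem chk_pow67_2_3 : tab.minOKc [5, 4, 3, 2, 1, 0, 5, 6, 7, 8, 9, 5, 10, 11] 17 11715 355 = true := by decide +kernel

theorem chk_pow67_2_4 : tab.minOKc [5, 4, 3, 2, 1, 0, 5, 6, 7, 8, 9, 5, 10, 11] 17 12070 355 = true := by decide +kernel

theorem chk_pow67_2_5 : tab.minOKc [5, 4, 3, 2, 1, 0, 5, 6, 7, 8, 9, 5, 10, 11] 17 12425 355 = true := by decide +kernel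

theorem chk_pow67_2_6 : tab.minOKc [5, 4, 3, 2, 1, 0, 5, 6, 7, 8, 9, 5, 10, 11] 17 12780 355 = true := by decide +kernel

theorem chk_pow67_2_7 : tab.minOKc [5, 4, 3, 2, 1, 0, 5, 6, 7, 8, 9, 5, 10, 11] 17 13135 355 = true := by decide +kernel

theorem chk_pow67_2_8 : tab.minOKc [5, 4, 3, 2, 1, 0, 5, 6, 7, 8, 9, 5, 10, 11] 17 13490 355 = true := by decide +kernel

theorem chk_pow67_2_9 : tab.minOKc [5, 4, 3, 2, 1, 0, 5, 6, 7, 8, 9, 5, 10, 11] 17 13845 355 = true := by decide +kernel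

theorem chk_pow67_2_10 : tab.minOKc [5, 4, 3, 2, 1, 0, 5, 6, 7, 8, 9, 5, 10, 11] 17 14200 355 = true := by decide +kernel

theorem chk_pow67_2_11 : tab.minOKc [5, 4, 3, 2, 1, 0, 5, 6, 7, 8, 9, 5, 10, 11] 17 14555 355 = true := by decide +kernel

theorem chk_pow67_2_12 : tab.minOKc [5, 4, 3, 2, 1, 0, 5, 6, 7, 8, 9, 5, 10, 11] 17 14910 355 = true := by decide +kernel

theorem chk_pow67_2_13 : tab.minOKc [5, 4, 3, 2, 1, 0, 5, 6, 7, 8, 9, 5, 10, 11] 17 15265 355 = true := by decide +kernel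

theorem chk_pow67_2_14 : tab.minOKc [5, 4, 3, 2, 1, 0, 5, 6, 7, 8, 9, 5, 10, 11] 17 15620 355 = true := by decide +kernel

theorem chk_pow67_2 : tab.minOKc [5, 4, 3, 2, 1, 0, 5, 6, 7, 8, 9, 5, 10, 11] 17 10650 5325 = true := by
  refine tab.minOKc_of_chunks [5, 4, 3, 2, 1, 0, 5, 6, 7, 8, 9, 5, 10, 11] 17 10650 355 15 (by norm_num) ?_
  intro i hi
  interval_cases i
  · exact chk_pow67_2_0
  · exact chk_pow67_2_1
  · exact chk_pow67_2_2
  · exact chk_pow67_2_3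
  · exact chk_pow67_2_4
  · exact chk_pow67_2_5
  · exact chk_pow67_2_6
  · exact chk_pow67_2_7
  · exact chk_pow67_2_8
  · exact chk_pow67_2_9
  · exact chk_pow67_2_10
  · exact chk_pow67_2_11
  · exact chk_pow67_2_12
  · exact chk_pow67_2_13
  · exact chk_pow67_2_14

theorem chk_pow67_3_0 : tab.minOKc [5, 4, 3, 2, 1, 0, 5, 6, 7, 8, 9, 5, 10, 11] 17 15975 355 = true := by decide +kernel

theorem chk_pow67_3_1 : tab.minOKc [5, 4, 3, 2, 1, 0, 5, 6, 7, 8, 9, 5, 10, 11] 17 16330 355 = true := by decide +kernel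

theorem chk_pow67_3_2 : tab.minOKc [5, 4, 3, 2, 1, 0, 5, 6, 7, 8, 9, 5, 10, 11] 17 16685 355 = true := by decide +kernel

theorem chk_pow67_3_3 : tab.minOKc [5, 4, 3, 2, 1, 0, 5, 6, 7, 8, 9, 5, 10, 11] 17 17040 355 = true := by decide +kernel

theorem chk_pow67_3_4 : tab.minOKc [5, 4, 3, 2, 1, 0, 5, 6, 7, 8, 9, 5, 10, 11] 17 17395 355 = true := by decide +kernel

theorem chk_pow67_3_5 : tab.minOKc [5, 4, 3, 2, 1, 0, 5, 6, 7, 8, 9, 5, 10, 11] 17 17750 355 = true := by decide +kernel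

theorem chk_pow67_3_6 : tab.minOKc [5, 4, 3, 2, 1, 0, 5, 6, 7, 8, 9, 5, 10, 11] 17 18105 355 = true := by decide +kernel

theorem chk_pow67_3_7 : tab.minOKc [5, 4, 3, 2, 1, 0, 5, 6, 7, 8, 9, 5, 10, 11] 17 18460 355 = true := by decide +kernel

theorem chk_pow67_3_8 : tab.minOKc [5, 4, 3, 2, 1, 0, 5, 6, 7, 8, 9, 5, 10, 11] 17 18815 355 = true := by decide +kernel

theorem chk_pow67_3_9 : tab.minOKc [5, 4, 3, 2, 1, 0, 5, 6, 7, 8, 9, 5, 10, 11] 17 19170 355 = true := by decide +kernel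

theorem chk_pow67_3_10 : tab.minOKc [5, 4, 3, 2, 1, 0, 5, 6, 7, 8, 9, 5, 10, 11] 17 19525 355 = true := by decide +kernel

theorem chk_pow67_3_11 : tab.minOKc [5, 4, 3, 2, 1, 0, 5, 6, 7, 8, 9, 5, 10, 11] 17 19880 355 = true := by decide +kernel

theorem chk_pow67_3_12 : tab.minOKc [5, 4, 3, 2, 1, 0, 5, 6, 7, 8, 9, 5, 10, 11] 17 20235 355 = true := by decide +kernel

theorem chk_pow67_3_13 : tab.minOKc [5, 4, 3, 2, 1, 0, 5, 6, 7, 8, 9, 5, 10, 11] 17 20590 355 = true := by decide +kernel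

theorem chk_pow67_3_14 : tab.minOKc [5, 4, 3, 2, 1, 0, 5, 6, 7, 8, 9, 5, 10, 11] 17 20945 355 = true := by decide +kernel

theorem chk_pow67_3 : tab.minOKc [5, 4, 3, 2, 1, 0, 5, 6, 7, 8, 9, 5, 10, 11] 17 15975 5325 = true := by
  refine tab.minOKc_of_chunks [5, 4, 3, 2, 1, 0, 5, 6, 7, 8, 9, 5, 10, 11] 17 15975 355 15 (by norm_num) ?_
  intro i hi
  interval_cases i
  · exact chk_pow67_3_0
  · exact chk_pow67_3_1
  · exact chk_pow67_3_2
  · exact chk_pow67_3_3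
  · exact chk_pow67_3_4
  · exact chk_pow67_3_5
  · exact chk_pow67_3_6
  · exact chk_pow67_3_7
  · exact chk_pow67_3_8
  · exact chk_pow67_3_9
  · exact chk_pow67_3_10
  · exact chk_pow67_3_11
  · exact chk_pow67_3_12
  · exact chk_pow67_3_13
  · exact chk_pow67_3_14

end Cfsg.Agent.Lib.Helper6.Fi24TC
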