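import Cfsg.Agent.Lib.Helper6.Fi24TCData
import Cfsg.Agent.Lib.Helper6.TCRel3
import Cfsg.Agent.Lib.Helper6.Fi24TCRel155

/-! # Fi24: the kernel check of a part of the relators on the coset table -/

set_option autoImplicit false

namespace Cfsg.Agent.Lib.Helper6.Fi24TC

open Cfsg.Agent.Lib.Helper6.TC

theorem chk_pow67_4_0 : tab.minOKc [5, 4, 3, 2, 1, 0, 5, 6, 7, 8, 9, 5, 10, 11] 17 21300 355 = true := by decide +kernel

theorem chk_pow67_4_1 : tab.minOKc [5, 4, 3, 2, 1, 0, 5, 6, 7, 8, 9, 5, 10, 11] 17 21655 355 = true := by decide +kernel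

theorem chk_pow67_4_2 : tab.minOKc [5, 4, 3, 2, 1, 0, 5, 6, 7, 8, 9, 5, 10, 11] 17 22010 355 = true := by decide +kernel

theorem chk_pow67_4_3 : tab.minOKc [5, 4, 3, 2, 1, 0, 5, 6, 7, 8, 9, 5, 10, 11] 17 22365 355 = true := by decide +kernel

theorem chk_pow67_4_4 : tab.minOKc [5, 4, 3, 2, 1, 0, 5, 6, 7, 8, 9, 5, 10, 11] 17 22720 355 = true := by decide +kernel

theorem chk_pow67_4_5 : tab.minOKc [5, 4, 3, 2, 1, 0, 5, 6, 7, 8, 9, 5, 10, 11] 17 23075 355 = true := by decide +kernel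

theorem chk_pow67_4_6 : tab.minOKc [5, 4, 3, 2, 1, 0, 5, 6, 7, 8, 9, 5, 10, 11] 17 23430 355 = true := by decide +kernel

theorem chk_pow67_4_7 : tab.minOKc [5, 4, 3, 2, 1, 0, 5, 6, 7, 8, 9, 5, 10, 11] 17 23785 355 = true := by decide +kernel

theorem chk_pow67_4_8 : tab.minOKc [5, 4, 3, 2, 1, 0, 5, 6, 7, 8, 9, 5, 10, 11] 17 24140 355 = true := by decide +kernel

theorem chk_pow67_4_9 : tab.minOKc [5, 4, 3, 2, 1, 0, 5, 6, 7, 8, 9, 5, 10, 11] 17 24495 355 = true := by decide +kernel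

theorem chk_pow67_4_10 : tab.minOKc [5, 4, 3, 2, 1, 0, 5, 6, 7, 8, 9, 5, 10, 11] 17 24850 355 = true := by decide +kernel

theorem chk_pow67_4_11 : tab.minOKc [5, 4, 3, 2, 1, 0, 5, 6, 7, 8, 9, 5, 10, 11] 17 25205 355 = true := by decide +kernel

theorem chk_pow67_4_12 : tab.minOKc [5, 4, 3, 2, 1, 0, 5, 6, 7, 8, 9, 5, 10, 11] 17 25560 355 = true := by decide +kernel

theorem chk_pow67_4_13 : tab.minOKc [5, 4, 3, 2, 1, 0, 5, 6, 7, 8, 9, 5, 10, 11] 17 25915 355 = true := by decide +kernel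

theorem chk_pow67_4_14 : tab.minOKc [5, 4, 3, 2, 1, 0, 5, 6, 7, 8, 9, 5, 10, 11] 17 26270 355 = true := by decide +kernel

theorem chk_pow67_4 : tab.minOKc [5, 4, 3, 2, 1, 0, 5, 6, 7, 8, 9, 5, 10, 11] 17 21300 5325 = true := by
  refine tab.minOKc_of_chunks [5, 4, 3, 2, 1, 0, 5, 6, 7, 8, 9, 5, 10, 11] 17 21300 355 15 (by norm_num) ?_
  intro i hi
  interval_cases i
  · exact chk_pow67_4_0
  · exact chk_pow67_4_1
  · exact chk_pow67_4_2
  · exact chk_pow67_4_3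
  · exact chk_pow67_4_4
  · exact chk_pow67_4_5
  · exact chk_pow67_4_6
  · exact chk_pow67_4_7
  · exact chk_pow67_4_8
  · exact chk_pow67_4_9
  · exact chk_pow67_4_10
  · exact chk_pow67_4_11
  · exact chk_pow67_4_12
  · exact chk_pow67_4_13
  · exact chk_pow67_4_14

theorem chk_pow67_5_0 : tab.minOKc [5, 4, 3, 2, 1, 0, 5, 6, 7, 8, 9, 5, 10, 11] 17 26625 355 = true := by decide +kernel

theorem chk_pow67_5_1 : tab.minOKc [5, 4, 3, 2, 1, 0, 5, 6, 7, 8, 9, 5, 10, 11] 17 26980 355 = true := by decide +kernel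

theorem chk_pow67_5_2 : tab.minOKc [5, 4, 3, 2, 1, 0, 5, 6, 7, 8, 9, 5, 10, 11] 17 27335 355 = true := by decide +kernel

theorem chk_pow67_5_3 : tab.minOKc [5, 4, 3, 2, 1, 0, 5, 6, 7, 8, 9, 5, 10, 11] 17 27690 355 = true := by decide +kernel

theorem chk_pow67_5_4 : tab.minOKc [5, 4, 3, 2, 1, 0, 5, 6, 7, 8, 9, 5, 10, 11] 17 28045 355 = true := by decide +kernel

theorem chk_pow67_5_5 : tab.minOKc [5, 4, 3, 2, 1, 0, 5, 6, 7, 8, 9, 5, 10, 11] 17 28400 355 = true := by decide +kernel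

theorem chk_pow67_5_6 : tab.minOKc [5, 4, 3, 2, 1, 0, 5, 6, 7, 8, 9, 5, 10, 11] 17 28755 355 = true := by decide +kernel

theorem chk_pow67_5_7 : tab.minOKc [5, 4, 3, 2, 1, 0, 5, 6, 7, 8, 9, 5, 10, 11] 17 29110 355 = true := by decide +kernel

theorem chk_pow67_5_8 : tab.minOKc [5, 4, 3, 2, 1, 0, 5, 6, 7, 8, 9, 5, 10, 11] 17 29465 355 = true := by decide +kernel

theorem chk_pow67_5_9 : tab.minOKc [5, 4, 3, 2, 1, 0, 5, 6, 7, 8, 9, 5, 10, 11] 17 29820 355 = true := by decide +kernel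

theorem chk_pow67_5_10 : tab.minOKc [5, 4, 3, 2, 1, 0, 5, 6, 7, 8, 9, 5, 10, 11] 17 30175 355 = true := by decide +kernel

theorem chk_pow67_5_11 : tab.minOKc [5, 4, 3, 2, 1, 0, 5, 6, 7, 8, 9, 5, 10, 11] 17 30530 355 = true := by decide +kernel

theorem chk_pow67_5_12 : tab.minOKc [5, 4, 3, 2, 1, 0, 5, 6, 7, 8, 9, 5, 10, 11] 17 30885 355 = true := by decide +kernel

theorem chk_pow67_5_13 : tab.minOKc [5, 4, 3, 2, 1, 0, 5, 6, 7, 8, 9, 5, 10, 11] 17 31240 355 = true := by decide +kernel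

theorem chk_pow67_5_14 : tab.minOKc [5, 4, 3, 2, 1, 0, 5, 6, 7, 8, 9, 5, 10, 11] 17 31595 355 = true := by decide +kernel

theorem chk_pow67_5 : tab.minOKc [5, 4, 3, 2, 1, 0, 5, 6, 7, 8, 9, 5, 10, 11] 17 26625 5325 = true := by
  refine tab.minOKc_of_chunks [5, 4, 3, 2, 1, 0, 5, 6, 7, 8, 9, 5, 10, 11] 17 26625 355 15 (by norm_num) ?_
  intro i hi
  interval_cases i
  · exact chk_pow67_5_0
  · exact chk_pow67_5_1
  · exact chk_pow67_5_2
  · exact chk_pow67_5_3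
  · exact chk_pow67_5_4
  · exact chk_pow67_5_5
  · exact chk_pow67_5_6
  · exact chk_pow67_5_7
  · exact chk_pow67_5_8
  · exact chk_pow67_5_9
  · exact chk_pow67_5_10
  · exact chk_pow67_5_11
  · exact chk_pow67_5_12
  · exact chk_pow67_5_13
  · exact chk_pow67_5_14

end Cfsg.Agent.Lib.Helper6.Fi24TC
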