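import Cfsg.Agent.Lib.Helper6.Fi24TCData
import Cfsg.Agent.Lib.Helper6.TCRel3
import Cfsg.Agent.Lib.Helper6.Fi24TCRel156

/-! # Fi24: the kernel check of a part of the relators on the coset table -/

set_option autoImplicit false

namespace Cfsg.Agent.Lib.Helper6.Fi24TC

open Cfsg.Agent.Lib.Helper6.TC

theorem chk_pow67_6_0 : tab.minOKc [5, 4, 3, 2, 1, 0, 5, 6, 7, 8, 9, 5, 10, 11] 17 31950 355 = true := by decide +kernel

theorem chk_pow67_6_1 : tab.minOKc [5, 4, 3, 2, 1, 0, 5, 6, 7, 8, 9, 5, 10, 11] 17 32305 355 = true := by decide +kernel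

theorem chk_pow67_6_2 : tab.minOKc [5, 4, 3, 2, 1, 0, 5, 6, 7, 8, 9, 5, 10, 11] 17 32660 355 = true := by decide +kernel

theorem chk_pow67_6_3 : tab.minOKc [5, 4, 3, 2, 1, 0, 5, 6, 7, 8, 9, 5, 10, 11] 17 33015 355 = true := by decide +kernel

theorem chk_pow67_6_4 : tab.minOKc [5, 4, 3, 2, 1, 0, 5, 6, 7, 8, 9, 5, 10, 11] 17 33370 355 = true := by decide +kernel

theorem chk_pow67_6_5 : tab.minOKc [5, 4, 3, 2, 1, 0, 5, 6, 7, 8, 9, 5, 10, 11] 17 33725 355 = true := by decide +kernel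

theorem chk_pow67_6_6 : tab.minOKc [5, 4, 3, 2, 1, 0, 5, 6, 7, 8, 9, 5, 10, 11] 17 34080 355 = true := by decide +kernel

theorem chk_pow67_6_7 : tab.minOKc [5, 4, 3, 2, 1, 0, 5, 6, 7, 8, 9, 5, 10, 11] 17 34435 355 = true := by decide +kernel

theorem chk_pow67_6_8 : tab.minOKc [5, 4, 3, 2, 1, 0, 5, 6, 7, 8, 9, 5, 10, 11] 17 34790 355 = true := by decide +kernel

theorem chk_pow67_6_9 : tab.minOKc [5, 4, 3, 2, 1, 0, 5, 6, 7, 8, 9, 5, 10, 11] 17 35145 355 = true := by decide +kernel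

theorem chk_pow67_6_10 : tab.minOKc [5, 4, 3, 2, 1, 0, 5, 6, 7, 8, 9, 5, 10, 11] 17 35500 355 = true := by decide +kernel

theorem chk_pow67_6_11 : tab.minOKc [5, 4, 3, 2, 1, 0, 5, 6, 7, 8, 9, 5, 10, 11] 17 35855 355 = true := by decide +kernel

theorem chk_pow67_6_12 : tab.minOKc [5, 4, 3, 2, 1, 0, 5, 6, 7, 8, 9, 5, 10, 11] 17 36210 355 = true := by decide +kernel

theorem chk_pow67_6_13 : tab.minOKc [5, 4, 3, 2, 1, 0, 5, 6, 7, 8, 9, 5, 10, 11] 17 36565 355 = true := by decide +kernel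

theorem chk_pow67_6_14 : tab.minOKc [5, 4, 3, 2, 1, 0, 5, 6, 7, 8, 9, 5, 10, 11] 17 36920 355 = true := by decide +kernel

theorem chk_pow67_6 : tab.minOKc [5, 4, 3, 2, 1, 0, 5, 6, 7, 8, 9, 5, 10, 11] 17 31950 5325 = true := by
  refine tab.minOKc_of_chunks [5, 4, 3, 2, 1, 0, 5, 6, 7, 8, 9, 5, 10, 11] 17 31950 355 15 (by norm_num) ?_
  intro i hi
  interval_cases i
  · exact chk_pow67_6_0
  · exact chk_pow67_6_1
  · exact chk_pow67_6_2
  · exact chk_pow67_6_3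
  · exact chk_pow67_6_4
  · exact chk_pow67_6_5
  · exact chk_pow67_6_6
  · exact chk_pow67_6_7
  · exact chk_pow67_6_8
  · exact chk_pow67_6_9
  · exact chk_pow67_6_10
  · exact chk_pow67_6_11
  · exact chk_pow67_6_12
  · exact chk_pow67_6_13
  · exact chk_pow67_6_14

theorem chk_pow67_7_0 : tab.minOKc [5, 4, 3, 2, 1, 0, 5, 6, 7, 8, 9, 5, 10, 11] 17 37275 355 = true := by decide +kernel

theorem chk_pow67_7_1 : tab.minOKc [5, 4, 3, 2, 1, 0, 5, 6, 7, 8, 9, 5, 10, 11] 17 37630 355 = true := by decide +kernel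

theorem chk_pow67_7_2 : tab.minOKc [5, 4, 3, 2, 1, 0, 5, 6, 7, 8, 9, 5, 10, 11] 17 37985 355 = true := by decide +kernel

theorem chk_pow67_7_3 : tab.minOKc [5, 4, 3, 2, 1, 0, 5, 6, 7, 8, 9, 5, 10, 11] 17 38340 355 = true := by decide +kernel

theorem chk_pow67_7_4 : tab.minOKc [5, 4, 3, 2, 1, 0, 5, 6, 7, 8, 9, 5, 10, 11] 17 38695 355 = true := by decide +kernel

theorem chk_pow67_7_5 : tab.minOKc [5, 4, 3, 2, 1, 0, 5, 6, 7, 8, 9, 5, 10, 11] 17 39050 355 = true := by decide +kernel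

theorem chk_pow67_7_6 : tab.minOKc [5, 4, 3, 2, 1, 0, 5, 6, 7, 8, 9, 5, 10, 11] 17 39405 355 = true := by decide +kernel

theorem chk_pow67_7_7 : tab.minOKc [5, 4, 3, 2, 1, 0, 5, 6, 7, 8, 9, 5, 10, 11] 17 39760 355 = true := by decide +kernel

theorem chk_pow67_7_8 : tab.minOKc [5, 4, 3, 2, 1, 0, 5, 6, 7, 8, 9, 5, 10, 11] 17 40115 355 = true := by decide +kernel

theorem chk_pow67_7_9 : tab.minOKc [5, 4, 3, 2, 1, 0, 5, 6, 7, 8, 9, 5, 10, 11] 17 40470 355 = true := by decide +kernel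

theorem chk_pow67_7_10 : tab.minOKc [5, 4, 3, 2, 1, 0, 5, 6, 7, 8, 9, 5, 10, 11] 17 40825 355 = true := by decide +kernel

theorem chk_pow67_7_11 : tab.minOKc [5, 4, 3, 2, 1, 0, 5, 6, 7, 8, 9, 5, 10, 11] 17 41180 355 = true := by decide +kernel

theorem chk_pow67_7_12 : tab.minOKc [5, 4, 3, 2, 1, 0, 5, 6, 7, 8, 9, 5, 10, 11] 17 41535 355 = true := by decide +kernel

theorem chk_pow67_7_13 : tab.minOKc [5, 4, 3, 2, 1, 0, 5, 6, 7, 8, 9, 5, 10, 11] 17 41890 355 = true := by decide +kernel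

theorem chk_pow67_7_14 : tab.minOKc [5, 4, 3, 2, 1, 0, 5, 6, 7, 8, 9, 5, 10, 11] 17 42245 355 = true := by decide +kernel

theorem chk_pow67_7 : tab.minOKc [5, 4, 3, 2, 1, 0, 5, 6, 7, 8, 9, 5, 10, 11] 17 37275 5325 = true := by
  refine tab.minOKc_of_chunks [5, 4, 3, 2, 1, 0, 5, 6, 7, 8, 9, 5, 10, 11] 17 37275 355 15 (by norm_num) ?_
  intro i hi
  interval_cases i
  · exact chk_pow67_7_0
  · exact chk_pow67_7_1
  · exact chk_pow67_7_2
  · exact chk_pow67_7_3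
  · exact chk_pow67_7_4
  · exact chk_pow67_7_5
  · exact chk_pow67_7_6
  · exact chk_pow67_7_7
  · exact chk_pow67_7_8
  · exact chk_pow67_7_9
  · exact chk_pow67_7_10
  · exact chk_pow67_7_11
  · exact chk_pow67_7_12
  · exact chk_pow67_7_13
  · exact chk_pow67_7_14

end Cfsg.Agent.Lib.Helper6.Fi24TC
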