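import Cfsg.Agent.Lib.Helper6.Fi24TCData
import Cfsg.Agent.Lib.Helper6.TCRel3
import Cfsg.Agent.Lib.Helper6.Fi24TCRel157

/-! # Fi24: the kernel check of a part of the relators on the coset table -/

set_option autoImplicit false

namespace Cfsg.Agent.Lib.Helper6.Fi24TC

open Cfsg.Agent.Lib.Helper6.TC

theorem chk_pow67_8_0 : tab.minOKc [5, 4, 3, 2, 1, 0, 5, 6, 7, 8, 9, 5, 10, 11] 17 42600 355 = true := by decide +kernel

theorem chk_pow67_8_1 : tab.minOKc [5, 4, 3, 2, 1, 0, 5, 6, 7, 8, 9, 5, 10, 11] 17 42955 355 = true := by decide +kernel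

theorem chk_pow67_8_2 : tab.minOKc [5, 4, 3, 2, 1, 0, 5, 6, 7, 8, 9, 5, 10, 11] 17 43310 355 = true := by decide +kernel

theorem chk_pow67_8_3 : tab.minOKc [5, 4, 3, 2, 1, 0, 5, 6, 7, 8, 9, 5, 10, 11] 17 43665 355 = true := by decide +kernel

theorem chk_pow67_8_4 : tab.minOKc [5, 4, 3, 2, 1, 0, 5, 6, 7, 8, 9, 5, 10, 11] 17 44020 355 = true := by decide +kernel

theorem chk_pow67_8_5 : tab.minOKc [5, 4, 3, 2, 1, 0, 5, 6, 7, 8, 9, 5, 10, 11] 17 44375 355 = true := by decide +kernel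

theorem chk_pow67_8_6 : tab.minOKc [5, 4, 3, 2, 1, 0, 5, 6, 7, 8, 9, 5, 10, 11] 17 44730 355 = true := by decide +kernel

theorem chk_pow67_8_7 : tab.minOKc [5, 4, 3, 2, 1, 0, 5, 6, 7, 8, 9, 5, 10, 11] 17 45085 355 = true := by decide +kernel

theorem chk_pow67_8_8 : tab.minOKc [5, 4, 3, 2, 1, 0, 5, 6, 7, 8, 9, 5, 10, 11] 17 45440 355 = true := by decide +kernel

theorem chk_pow67_8_9 : tab.minOKc [5, 4, 3, 2, 1, 0, 5, 6, 7, 8, 9, 5, 10, 11] 17 45795 355 = true := by decide +kernel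

theorem chk_pow67_8_10 : tab.minOKc [5, 4, 3, 2, 1, 0, 5, 6, 7, 8, 9, 5, 10, 11] 17 46150 355 = true := by decide +kernel

theorem chk_pow67_8_11 : tab.minOKc [5, 4, 3, 2, 1, 0, 5, 6, 7, 8, 9, 5, 10, 11] 17 46505 355 = true := by decide +kernel

theorem chk_pow67_8_12 : tab.minOKc [5, 4, 3, 2, 1, 0, 5, 6, 7, 8, 9, 5, 10, 11] 17 46860 355 = true := by decide +kernel

theorem chk_pow67_8_13 : tab.minOKc [5, 4, 3, 2, 1, 0, 5, 6, 7, 8, 9, 5, 10, 11] 17 47215 355 = true := by decide +kernel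

theorem chk_pow67_8_14 : tab.minOKc [5, 4, 3, 2, 1, 0, 5, 6, 7, 8, 9, 5, 10, 11] 17 47570 355 = true := by decide +kernel

theorem chk_pow67_8 : tab.minOKc [5, 4, 3, 2, 1, 0, 5, 6, 7, 8, 9, 5, 10, 11] 17 42600 5325 = true := by
  refine tab.minOKc_of_chunks [5, 4, 3, 2, 1, 0, 5, 6, 7, 8, 9, 5, 10, 11] 17 42600 355 15 (by norm_num) ?_
  intro i hi
  interval_cases i
  · exact chk_pow67_8_0
  · exact chk_pow67_8_1
  · exact chk_pow67_8_2
  · exact chk_pow67_8_3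
  · exact chk_pow67_8_4
  · exact chk_pow67_8_5
  · exact chk_pow67_8_6
  · exact chk_pow67_8_7
  · exact chk_pow67_8_8
  · exact chk_pow67_8_9
  · exact chk_pow67_8_10
  · exact chk_pow67_8_11
  · exact chk_pow67_8_12
  · exact chk_pow67_8_13
  · exact chk_pow67_8_14

theorem chk_pow67_9_0 : tab.minOKc [5, 4, 3, 2, 1, 0, 5, 6, 7, 8, 9, 5, 10, 11] 17 47925 355 = true := by decide +kernel

theorem chk_pow67_9_1 : tab.minOKc [5, 4, 3, 2, 1, 0, 5, 6, 7, 8, 9, 5, 10, 11] 17 48280 355 = true := by decide +kernel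

theorem chk_pow67_9_2 : tab.minOKc [5, 4, 3, 2, 1, 0, 5, 6, 7, 8, 9, 5, 10, 11] 17 48635 355 = true := by decide +kernel

theorem chk_pow67_9_3 : tab.minOKc [5, 4, 3, 2, 1, 0, 5, 6, 7, 8, 9, 5, 10, 11] 17 48990 355 = true := by decide +kernel

theorem chk_pow67_9_4 : tab.minOKc [5, 4, 3, 2, 1, 0, 5, 6, 7, 8, 9, 5, 10, 11] 17 49345 355 = true := by decide +kernel

theorem chk_pow67_9_5 : tab.minOKc [5, 4, 3, 2, 1, 0, 5, 6, 7, 8, 9, 5, 10, 11] 17 49700 355 = true := by decide +kernel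

theorem chk_pow67_9_6 : tab.minOKc [5, 4, 3, 2, 1, 0, 5, 6, 7, 8, 9, 5, 10, 11] 17 50055 355 = true := by decide +kernel

theorem chk_pow67_9_7 : tab.minOKc [5, 4, 3, 2, 1, 0, 5, 6, 7, 8, 9, 5, 10, 11] 17 50410 355 = true := by decide +kernel

theorem chk_pow67_9_8 : tab.minOKc [5, 4, 3, 2, 1, 0, 5, 6, 7, 8, 9, 5, 10, 11] 17 50765 355 = true := by decide +kernel

theorem chk_pow67_9_9 : tab.minOKc [5, 4, 3, 2, 1, 0, 5, 6, 7, 8, 9, 5, 10, 11] 17 51120 355 = true := by decide +kernel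

theorem chk_pow67_9_10 : tab.minOKc [5, 4, 3, 2, 1, 0, 5, 6, 7, 8, 9, 5, 10, 11] 17 51475 355 = true := by decide +kernel

theorem chk_pow67_9_11 : tab.minOKc [5, 4, 3, 2, 1, 0, 5, 6, 7, 8, 9, 5, 10, 11] 17 51830 355 = true := by decide +kernel

theorem chk_pow67_9_12 : tab.minOKc [5, 4, 3, 2, 1, 0, 5, 6, 7, 8, 9, 5, 10, 11] 17 52185 355 = true := by decide +kernel

theorem chk_pow67_9_13 : tab.minOKc [5, 4, 3, 2, 1, 0, 5, 6, 7, 8, 9, 5, 10, 11] 17 52540 355 = true := by decide +kernel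

theorem chk_pow67_9_14 : tab.minOKc [5, 4, 3, 2, 1, 0, 5, 6, 7, 8, 9, 5, 10, 11] 17 52895 355 = true := by decide +kernel

theorem chk_pow67_9 : tab.minOKc [5, 4, 3, 2, 1, 0, 5, 6, 7, 8, 9, 5, 10, 11] 17 47925 5325 = true := by
  refine tab.minOKc_of_chunks [5, 4, 3, 2, 1, 0, 5, 6, 7, 8, 9, 5, 10, 11] 17 47925 355 15 (by norm_num) ?_
  intro i hi
  interval_cases i
  · exact chk_pow67_9_0
  · exact chk_pow67_9_1
  · exact chk_pow67_9_2
  · exact chk_pow67_9_3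
  · exact chk_pow67_9_4
  · exact chk_pow67_9_5
  · exact chk_pow67_9_6
  · exact chk_pow67_9_7
  · exact chk_pow67_9_8
  · exact chk_pow67_9_9
  · exact chk_pow67_9_10
  · exact chk_pow67_9_11
  · exact chk_pow67_9_12
  · exact chk_pow67_9_13
  · exact chk_pow67_9_14

end Cfsg.Agent.Lib.Helper6.Fi24TC
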