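import Cfsg.Agent.Lib.Helper6.Fi24TCData
import Cfsg.Agent.Lib.Helper6.TCRel3
import Cfsg.Agent.Lib.Helper6.Fi24TCRel158

/-! # Fi24: the kernel check of a part of the relators on the coset table -/

set_option autoImplicit false

namespace Cfsg.Agent.Lib.Helper6.Fi24TC

open Cfsg.Agent.Lib.Helper6.TC

theorem chk_pow67_10_0 : tab.minOKc [5, 4, 3, 2, 1, 0, 5, 6, 7, 8, 9, 5, 10, 11] 17 53250 355 = true := by decide +kernel

theorem chk_pow67_10_1 : tab.minOKc [5, 4, 3, 2, 1, 0, 5, 6, 7, 8, 9, 5, 10, 11] 17 53605 355 = true := by decide +kernel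

theorem chk_pow67_10_2 : tab.minOKc [5, 4, 3, 2, 1, 0, 5, 6, 7, 8, 9, 5, 10, 11] 17 53960 355 = true := by decide +kernel

theorem chk_pow67_10_3 : tab.minOKc [5, 4, 3, 2, 1, 0, 5, 6, 7, 8, 9, 5, 10, 11] 17 54315 355 = true := by decide +kernel

theorem chk_pow67_10_4 : tab.minOKc [5, 4, 3, 2, 1, 0, 5, 6, 7, 8, 9, 5, 10, 11] 17 54670 355 = true := by decide +kernel

theorem chk_pow67_10_5 : tab.minOKc [5, 4, 3, 2, 1, 0, 5, 6, 7, 8, 9, 5, 10, 11] 17 55025 355 = true := by decide +kernel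

theorem chk_pow67_10_6 : tab.minOKc [5, 4, 3, 2, 1, 0, 5, 6, 7, 8, 9, 5, 10, 11] 17 55380 355 = true := by decide +kernel

theorem chk_pow67_10_7 : tab.minOKc [5, 4, 3, 2, 1, 0, 5, 6, 7, 8, 9, 5, 10, 11] 17 55735 355 = true := by decide +kernel

theorem chk_pow67_10_8 : tab.minOKc [5, 4, 3, 2, 1, 0, 5, 6, 7, 8, 9, 5, 10, 11] 17 56090 355 = true := by decide +kernel

theorem chk_pow67_10_9 : tab.minOKc [5, 4, 3, 2, 1, 0, 5, 6, 7, 8, 9, 5, 10, 11] 17 56445 355 = true := by decide +kernel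

theorem chk_pow67_10_10 : tab.minOKc [5, 4, 3, 2, 1, 0, 5, 6, 7, 8, 9, 5, 10, 11] 17 56800 355 = true := by decide +kernel

theorem chk_pow67_10_11 : tab.minOKc [5, 4, 3, 2, 1, 0, 5, 6, 7, 8, 9, 5, 10, 11] 17 57155 355 = true := by decide +kernel

theorem chk_pow67_10_12 : tab.minOKc [5, 4, 3, 2, 1, 0, 5, 6, 7, 8, 9, 5, 10, 11] 17 57510 355 = true := by decide +kernel

theorem chk_pow67_10_13 : tab.minOKc [5, 4, 3, 2, 1, 0, 5, 6, 7, 8, 9, 5, 10, 11] 17 57865 355 = true := by decide +kernel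

theorem chk_pow67_10_14 : tab.minOKc [5, 4, 3, 2, 1, 0, 5, 6, 7, 8, 9, 5, 10, 11] 17 58220 355 = true := by decide +kernel

theorem chk_pow67_10 : tab.minOKc [5, 4, 3, 2, 1, 0, 5, 6, 7, 8, 9, 5, 10, 11] 17 53250 5325 = true := by
  refine tab.minOKc_of_chunks [5, 4, 3, 2, 1, 0, 5, 6, 7, 8, 9, 5, 10, 11] 17 53250 355 15 (by norm_num) ?_
  intro i hi
  interval_cases i
  · exact chk_pow67_10_0
  · exact chk_pow67_10_1
  · exact chk_pow67_10_2
  · exact chk_pow67_10_3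
  · exact chk_pow67_10_4
  · exact chk_pow67_10_5
  · exact chk_pow67_10_6
  · exact chk_pow67_10_7
  · exact chk_pow67_10_8
  · exact chk_pow67_10_9
  · exact chk_pow67_10_10
  · exact chk_pow67_10_11
  · exact chk_pow67_10_12
  · exact chk_pow67_10_13
  · exact chk_pow67_10_14

theorem chk_pow67_11_0 : tab.minOKc [5, 4, 3, 2, 1, 0, 5, 6, 7, 8, 9, 5, 10, 11] 17 58575 355 = true := by decide +kernel

theorem chk_pow67_11_1 : tab.minOKc [5, 4, 3, 2, 1, 0, 5, 6, 7, 8, 9, 5, 10, 11] 17 58930 355 = true := by decide +kernel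

theorem chk_pow67_11_2 : tab.minOKc [5, 4, 3, 2, 1, 0, 5, 6, 7, 8, 9, 5, 10, 11] 17 59285 355 = true := by decide +kernel

theorem chk_pow67_11_3 : tab.minOKc [5, 4, 3, 2, 1, 0, 5, 6, 7, 8, 9, 5, 10, 11] 17 59640 355 = true := by decide +kernel

theorem chk_pow67_11_4 : tab.minOKc [5, 4, 3, 2, 1, 0, 5, 6, 7, 8, 9, 5, 10, 11] 17 59995 355 = true := by decide +kernel

theorem chk_pow67_11_5 : tab.minOKc [5, 4, 3, 2, 1, 0, 5, 6, 7, 8, 9, 5, 10, 11] 17 60350 355 = true := by decide +kernel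

theorem chk_pow67_11_6 : tab.minOKc [5, 4, 3, 2, 1, 0, 5, 6, 7, 8, 9, 5, 10, 11] 17 60705 355 = true := by decide +kernel

theorem chk_pow67_11_7 : tab.minOKc [5, 4, 3, 2, 1, 0, 5, 6, 7, 8, 9, 5, 10, 11] 17 61060 355 = true := by decide +kernel

theorem chk_pow67_11_8 : tab.minOKc [5, 4, 3, 2, 1, 0, 5, 6, 7, 8, 9, 5, 10, 11] 17 61415 355 = true := by decide +kernel

theorem chk_pow67_11_9 : tab.minOKc [5, 4, 3, 2, 1, 0, 5, 6, 7, 8, 9, 5, 10, 11] 17 61770 355 = true := by decide +kernel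

theorem chk_pow67_11_10 : tab.minOKc [5, 4, 3, 2, 1, 0, 5, 6, 7, 8, 9, 5, 10, 11] 17 62125 355 = true := by decide +kernel

theorem chk_pow67_11_11 : tab.minOKc [5, 4, 3, 2, 1, 0, 5, 6, 7, 8, 9, 5, 10, 11] 17 62480 355 = true := by decide +kernel

theorem chk_pow67_11_12 : tab.minOKc [5, 4, 3, 2, 1, 0, 5, 6, 7, 8, 9, 5, 10, 11] 17 62835 355 = true := by decide +kernel

theorem chk_pow67_11_13 : tab.minOKc [5, 4, 3, 2, 1, 0, 5, 6, 7, 8, 9, 5, 10, 11] 17 63190 355 = true := by decide +kernel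

theorem chk_pow67_11_14 : tab.minOKc [5, 4, 3, 2, 1, 0, 5, 6, 7, 8, 9, 5, 10, 11] 17 63545 355 = true := by decide +kernel

theorem chk_pow67_11 : tab.minOKc [5, 4, 3, 2, 1, 0, 5, 6, 7, 8, 9, 5, 10, 11] 17 58575 5325 = true := by
  refine tab.minOKc_of_chunks [5, 4, 3, 2, 1, 0, 5, 6, 7, 8, 9, 5, 10, 11] 17 58575 355 15 (by norm_num) ?_
  intro i hi
  interval_cases i
  · exact chk_pow67_11_0
  · exact chk_pow67_11_1
  · exact chk_pow67_11_2
  · exact chk_pow67_11_3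
  · exact chk_pow67_11_4
  · exact chk_pow67_11_5
  · exact chk_pow67_11_6
  · exact chk_pow67_11_7
  · exact chk_pow67_11_8
  · exact chk_pow67_11_9
  · exact chk_pow67_11_10
  · exact chk_pow67_11_11
  · exact chk_pow67_11_12
  · exact chk_pow67_11_13
  · exact chk_pow67_11_14

end Cfsg.Agent.Lib.Helper6.Fi24TC
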