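import Cfsg.Agent.Lib.Helper6.Fi24TCData
import Cfsg.Agent.Lib.Helper6.TCRel3
import Cfsg.Agent.Lib.Helper6.Fi24TCRel159

/-! # Fi24: the kernel check of a part of the relators on the coset table -/

set_option autoImplicit false

namespace Cfsg.Agent.Lib.Helper6.Fi24TC

open Cfsg.Agent.Lib.Helper6.TC

theorem chk_pow67_12_0 : tab.minOKc [5, 4, 3, 2, 1, 0, 5, 6, 7, 8, 9, 5, 10, 11] 17 63900 355 = true := by decide +kernel

theorem chk_pow67_12_1 : tab.minOKc [5, 4, 3, 2, 1, 0, 5, 6, 7, 8, 9, 5, 10, 11] 17 64255 355 = true := by decide +kernel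

theorem chk_pow67_12_2 : tab.minOKc [5, 4, 3, 2, 1, 0, 5, 6, 7, 8, 9, 5, 10, 11] 17 64610 355 = true := by decide +kernel

theorem chk_pow67_12_3 : tab.minOKc [5, 4, 3, 2, 1, 0, 5, 6, 7, 8, 9, 5, 10, 11] 17 64965 355 = true := by decide +kernel

theorem chk_pow67_12_4 : tab.minOKc [5, 4, 3, 2, 1, 0, 5, 6, 7, 8, 9, 5, 10, 11] 17 65320 355 = true := by decide +kernel

theorem chk_pow67_12_5 : tab.minOKc [5, 4, 3, 2, 1, 0, 5, 6, 7, 8, 9, 5, 10, 11] 17 65675 355 = true := by decide +kernel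

theorem chk_pow67_12_6 : tab.minOKc [5, 4, 3, 2, 1, 0, 5, 6, 7, 8, 9, 5, 10, 11] 17 66030 355 = true := by decide +kernel

theorem chk_pow67_12_7 : tab.minOKc [5, 4, 3, 2, 1, 0, 5, 6, 7, 8, 9, 5, 10, 11] 17 66385 355 = true := by decide +kernel

theorem chk_pow67_12_8 : tab.minOKc [5, 4, 3, 2, 1, 0, 5, 6, 7, 8, 9, 5, 10, 11] 17 66740 355 = true := by decide +kernel

theorem chk_pow67_12_9 : tab.minOKc [5, 4, 3, 2, 1, 0, 5, 6, 7, 8, 9, 5, 10, 11] 17 67095 355 = true := by decide +kernel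

theorem chk_pow67_12_10 : tab.minOKc [5, 4, 3, 2, 1, 0, 5, 6, 7, 8, 9, 5, 10, 11] 17 67450 355 = true := by decide +kernel

theorem chk_pow67_12_11 : tab.minOKc [5, 4, 3, 2, 1, 0, 5, 6, 7, 8, 9, 5, 10, 11] 17 67805 355 = true := by decide +kernel

theorem chk_pow67_12_12 : tab.minOKc [5, 4, 3, 2, 1, 0, 5, 6, 7, 8, 9, 5, 10, 11] 17 68160 355 = true := by decide +kernel

theorem chk_pow67_12_13 : tab.minOKc [5, 4, 3, 2, 1, 0, 5, 6, 7, 8, 9, 5, 10, 11] 17 68515 355 = true := by decide +kernel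

theorem chk_pow67_12_14 : tab.minOKc [5, 4, 3, 2, 1, 0, 5, 6, 7, 8, 9, 5, 10, 11] 17 68870 355 = true := by decide +kernel

theorem chk_pow67_12 : tab.minOKc [5, 4, 3, 2, 1, 0, 5, 6, 7, 8, 9, 5, 10, 11] 17 63900 5325 = true := by
  refine tab.minOKc_of_chunks [5, 4, 3, 2, 1, 0, 5, 6, 7, 8, 9, 5, 10, 11] 17 63900 355 15 (by norm_num) ?_
  intro i hi
  interval_cases i
  · exact chk_pow67_12_0
  · exact chk_pow67_12_1
  · exact chk_pow67_12_2
  · exact chk_pow67_12_3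
  · exact chk_pow67_12_4
  · exact chk_pow67_12_5
  · exact chk_pow67_12_6
  · exact chk_pow67_12_7
  · exact chk_pow67_12_8
  · exact chk_pow67_12_9
  · exact chk_pow67_12_10
  · exact chk_pow67_12_11
  · exact chk_pow67_12_12
  · exact chk_pow67_12_13
  · exact chk_pow67_12_14

theorem chk_pow67_13_0 : tab.minOKc [5, 4, 3, 2, 1, 0, 5, 6, 7, 8, 9, 5, 10, 11] 17 69225 355 = true := by decide +kernel

theorem chk_pow67_13_1 : tab.minOKc [5, 4, 3, 2, 1, 0, 5, 6, 7, 8, 9, 5, 10, 11] 17 69580 355 = true := by decide +kernel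

theorem chk_pow67_13_2 : tab.minOKc [5, 4, 3, 2, 1, 0, 5, 6, 7, 8, 9, 5, 10, 11] 17 69935 355 = true := by decide +kernel

theorem chk_pow67_13_3 : tab.minOKc [5, 4, 3, 2, 1, 0, 5, 6, 7, 8, 9, 5, 10, 11] 17 70290 355 = true := by decide +kernel

theorem chk_pow67_13_4 : tab.minOKc [5, 4, 3, 2, 1, 0, 5, 6, 7, 8, 9, 5, 10, 11] 17 70645 355 = true := by decide +kernel

theorem chk_pow67_13_5 : tab.minOKc [5, 4, 3, 2, 1, 0, 5, 6, 7, 8, 9, 5, 10, 11] 17 71000 355 = true := by decide +kernel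

theorem chk_pow67_13_6 : tab.minOKc [5, 4, 3, 2, 1, 0, 5, 6, 7, 8, 9, 5, 10, 11] 17 71355 355 = true := by decide +kernel

theorem chk_pow67_13_7 : tab.minOKc [5, 4, 3, 2, 1, 0, 5, 6, 7, 8, 9, 5, 10, 11] 17 71710 355 = true := by decide +kernel

theorem chk_pow67_13_8 : tab.minOKc [5, 4, 3, 2, 1, 0, 5, 6, 7, 8, 9, 5, 10, 11] 17 72065 355 = true := by decide +kernel

theorem chk_pow67_13_9 : tab.minOKc [5, 4, 3, 2, 1, 0, 5, 6, 7, 8, 9, 5, 10, 11] 17 72420 355 = true := by decide +kernel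

theorem chk_pow67_13_10 : tab.minOKc [5, 4, 3, 2, 1, 0, 5, 6, 7, 8, 9, 5, 10, 11] 17 72775 355 = true := by decide +kernel

theorem chk_pow67_13_11 : tab.minOKc [5, 4, 3, 2, 1, 0, 5, 6, 7, 8, 9, 5, 10, 11] 17 73130 355 = true := by decide +kernel

theorem chk_pow67_13_12 : tab.minOKc [5, 4, 3, 2, 1, 0, 5, 6, 7, 8, 9, 5, 10, 11] 17 73485 355 = true := by decide +kernel

theorem chk_pow67_13_13 : tab.minOKc [5, 4, 3, 2, 1, 0, 5, 6, 7, 8, 9, 5, 10, 11] 17 73840 355 = true := by decide +kernel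

theorem chk_pow67_13_14 : tab.minOKc [5, 4, 3, 2, 1, 0, 5, 6, 7, 8, 9, 5, 10, 11] 17 74195 355 = true := by decide +kernel

theorem chk_pow67_13 : tab.minOKc [5, 4, 3, 2, 1, 0, 5, 6, 7, 8, 9, 5, 10, 11] 17 69225 5325 = true := by
  refine tab.minOKc_of_chunks [5, 4, 3, 2, 1, 0, 5, 6, 7, 8, 9, 5, 10, 11] 17 69225 355 15 (by norm_num) ?_
  intro i hi
  interval_cases i
  · exact chk_pow67_13_0
  · exact chk_pow67_13_1
  · exact chk_pow67_13_2
  · exact chk_pow67_13_3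
  · exact chk_pow67_13_4
  · exact chk_pow67_13_5
  · exact chk_pow67_13_6
  · exact chk_pow67_13_7
  · exact chk_pow67_13_8
  · exact chk_pow67_13_9
  · exact chk_pow67_13_10
  · exact chk_pow67_13_11
  · exact chk_pow67_13_12
  · exact chk_pow67_13_13
  · exact chk_pow67_13_14

end Cfsg.Agent.Lib.Helper6.Fi24TC
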