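import Cfsg.Agent.Lib.Helper6.Fi24TCData
import Cfsg.Agent.Lib.Helper6.TCRel3
import Cfsg.Agent.Lib.Helper6.Fi24TCRel160

/-! # Fi24: the kernel check of a part of the relators on the coset table -/

set_option autoImplicit false

namespace Cfsg.Agent.Lib.Helper6.Fi24TC

open Cfsg.Agent.Lib.Helper6.TC

theorem chk_pow67_14_0 : tab.minOKc [5, 4, 3, 2, 1, 0, 5, 6, 7, 8, 9, 5, 10, 11] 17 74550 355 = true := by decide +kernel

theorem chk_pow67_14_1 : tab.minOKc [5, 4, 3, 2, 1, 0, 5, 6, 7, 8, 9, 5, 10, 11] 17 74905 355 = true := by decide +kernel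

theorem chk_pow67_14_2 : tab.minOKc [5, 4, 3, 2, 1, 0, 5, 6, 7, 8, 9, 5, 10, 11] 17 75260 355 = true := by decide +kernel

theorem chk_pow67_14_3 : tab.minOKc [5, 4, 3, 2, 1, 0, 5, 6, 7, 8, 9, 5, 10, 11] 17 75615 355 = true := by decide +kernel

theorem chk_pow67_14_4 : tab.minOKc [5, 4, 3, 2, 1, 0, 5, 6, 7, 8, 9, 5, 10, 11] 17 75970 355 = true := by decide +kernel

theorem chk_pow67_14_5 : tab.minOKc [5, 4, 3, 2, 1, 0, 5, 6, 7, 8, 9, 5, 10, 11] 17 76325 355 = true := by decide +kernel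

theorem chk_pow67_14_6 : tab.minOKc [5, 4, 3, 2, 1, 0, 5, 6, 7, 8, 9, 5, 10, 11] 17 76680 355 = true := by decide +kernel

theorem chk_pow67_14_7 : tab.minOKc [5, 4, 3, 2, 1, 0, 5, 6, 7, 8, 9, 5, 10, 11] 17 77035 355 = true := by decide +kernel

theorem chk_pow67_14_8 : tab.minOKc [5, 4, 3, 2, 1, 0, 5, 6, 7, 8, 9, 5, 10, 11] 17 77390 355 = true := by decide +kernel

theorem chk_pow67_14_9 : tab.minOKc [5, 4, 3, 2, 1, 0, 5, 6, 7, 8, 9, 5, 10, 11] 17 77745 355 = true := by decide +kernel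

theorem chk_pow67_14_10 : tab.minOKc [5, 4, 3, 2, 1, 0, 5, 6, 7, 8, 9, 5, 10, 11] 17 78100 355 = true := by decide +kernel

theorem chk_pow67_14_11 : tab.minOKc [5, 4, 3, 2, 1, 0, 5, 6, 7, 8, 9, 5, 10, 11] 17 78455 355 = true := by decide +kernel

theorem chk_pow67_14_12 : tab.minOKc [5, 4, 3, 2, 1, 0, 5, 6, 7, 8, 9, 5, 10, 11] 17 78810 355 = true := by decide +kernel

theorem chk_pow67_14_13 : tab.minOKc [5, 4, 3, 2, 1, 0, 5, 6, 7, 8, 9, 5, 10, 11] 17 79165 355 = true := by decide +kernel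

theorem chk_pow67_14_14 : tab.minOKc [5, 4, 3, 2, 1, 0, 5, 6, 7, 8, 9, 5, 10, 11] 17 79520 355 = true := by decide +kernel

theorem chk_pow67_14 : tab.minOKc [5, 4, 3, 2, 1, 0, 5, 6, 7, 8, 9, 5, 10, 11] 17 74550 5325 = true := by
  refine tab.minOKc_of_chunks [5, 4, 3, 2, 1, 0, 5, 6, 7, 8, 9, 5, 10, 11] 17 74550 355 15 (by norm_num) ?_
  intro i hi
  interval_cases i
  · exact chk_pow67_14_0
  · exact chk_pow67_14_1
  · exact chk_pow67_14_2
  · exact chk_pow67_14_3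
  · exact chk_pow67_14_4
  · exact chk_pow67_14_5
  · exact chk_pow67_14_6
  · exact chk_pow67_14_7
  · exact chk_pow67_14_8
  · exact chk_pow67_14_9
  · exact chk_pow67_14_10
  · exact chk_pow67_14_11
  · exact chk_pow67_14_12
  · exact chk_pow67_14_13
  · exact chk_pow67_14_14

theorem chk_pow67_15_0 : tab.minOKc [5, 4, 3, 2, 1, 0, 5, 6, 7, 8, 9, 5, 10, 11] 17 79875 355 = true := by decide +kernel

theorem chk_pow67_15_1 : tab.minOKc [5, 4, 3, 2, 1, 0, 5, 6, 7, 8, 9, 5, 10, 11] 17 80230 355 = true := by decide +kernel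

theorem chk_pow67_15_2 : tab.minOKc [5, 4, 3, 2, 1, 0, 5, 6, 7, 8, 9, 5, 10, 11] 17 80585 355 = true := by decide +kernel

theorem chk_pow67_15_3 : tab.minOKc [5, 4, 3, 2, 1, 0, 5, 6, 7, 8, 9, 5, 10, 11] 17 80940 355 = true := by decide +kernel

theorem chk_pow67_15_4 : tab.minOKc [5, 4, 3, 2, 1, 0, 5, 6, 7, 8, 9, 5, 10, 11] 17 81295 355 = true := by decide +kernel

theorem chk_pow67_15_5 : tab.minOKc [5, 4, 3, 2, 1, 0, 5, 6, 7, 8, 9, 5, 10, 11] 17 81650 355 = true := by decide +kernel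

theorem chk_pow67_15_6 : tab.minOKc [5, 4, 3, 2, 1, 0, 5, 6, 7, 8, 9, 5, 10, 11] 17 82005 355 = true := by decide +kernel

theorem chk_pow67_15_7 : tab.minOKc [5, 4, 3, 2, 1, 0, 5, 6, 7, 8, 9, 5, 10, 11] 17 82360 355 = true := by decide +kernel

theorem chk_pow67_15_8 : tab.minOKc [5, 4, 3, 2, 1, 0, 5, 6, 7, 8, 9, 5, 10, 11] 17 82715 355 = true := by decide +kernel

theorem chk_pow67_15_9 : tab.minOKc [5, 4, 3, 2, 1, 0, 5, 6, 7, 8, 9, 5, 10, 11] 17 83070 355 = true := by decide +kernel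

theorem chk_pow67_15_10 : tab.minOKc [5, 4, 3, 2, 1, 0, 5, 6, 7, 8, 9, 5, 10, 11] 17 83425 355 = true := by decide +kernel

theorem chk_pow67_15_11 : tab.minOKc [5, 4, 3, 2, 1, 0, 5, 6, 7, 8, 9, 5, 10, 11] 17 83780 355 = true := by decide +kernel

theorem chk_pow67_15_12 : tab.minOKc [5, 4, 3, 2, 1, 0, 5, 6, 7, 8, 9, 5, 10, 11] 17 84135 355 = true := by decide +kernel

theorem chk_pow67_15_13 : tab.minOKc [5, 4, 3, 2, 1, 0, 5, 6, 7, 8, 9, 5, 10, 11] 17 84490 355 = true := by decide +kernel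

theorem chk_pow67_15_14 : tab.minOKc [5, 4, 3, 2, 1, 0, 5, 6, 7, 8, 9, 5, 10, 11] 17 84845 355 = true := by decide +kernel

theorem chk_pow67_15 : tab.minOKc [5, 4, 3, 2, 1, 0, 5, 6, 7, 8, 9, 5, 10, 11] 17 79875 5325 = true := by
  refine tab.minOKc_of_chunks [5, 4, 3, 2, 1, 0, 5, 6, 7, 8, 9, 5, 10, 11] 17 79875 355 15 (by norm_num) ?_
  intro i hi
  interval_cases i
  · exact chk_pow67_15_0
  · exact chk_pow67_15_1
  · exact chk_pow67_15_2
  · exact chk_pow67_15_3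
  · exact chk_pow67_15_4
  · exact chk_pow67_15_5
  · exact chk_pow67_15_6
  · exact chk_pow67_15_7
  · exact chk_pow67_15_8
  · exact chk_pow67_15_9
  · exact chk_pow67_15_10
  · exact chk_pow67_15_11
  · exact chk_pow67_15_12
  · exact chk_pow67_15_13
  · exact chk_pow67_15_14

end Cfsg.Agent.Lib.Helper6.Fi24TC
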