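import Cfsg.Agent.Lib.Helper6.Fi24TCData
import Cfsg.Agent.Lib.Helper6.TCRel3
import Cfsg.Agent.Lib.Helper6.Fi24TCRel161

/-! # Fi24: the kernel check of a part of the relators on the coset table -/

set_option autoImplicit false

namespace Cfsg.Agent.Lib.Helper6.Fi24TC

open Cfsg.Agent.Lib.Helper6.TC

theorem chk_pow67_16_0 : tab.minOKc [5, 4, 3, 2, 1, 0, 5, 6, 7, 8, 9, 5, 10, 11] 17 85200 355 = true := by decide +kernel

theorem chk_pow67_16_1 : tab.minOKc [5, 4, 3, 2, 1, 0, 5, 6, 7, 8, 9, 5, 10, 11] 17 85555 355 = true := by decide +kernel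

theorem chk_pow67_16_2 : tab.minOKc [5, 4, 3, 2, 1, 0, 5, 6, 7, 8, 9, 5, 10, 11] 17 85910 355 = true := by decide +kernel

theorem chk_pow67_16_3 : tab.minOKc [5, 4, 3, 2, 1, 0, 5, 6, 7, 8, 9, 5, 10, 11] 17 86265 355 = true := by decide +kernel

theorem chk_pow67_16_4 : tab.minOKc [5, 4, 3, 2, 1, 0, 5, 6, 7, 8, 9, 5, 10, 11] 17 86620 355 = true := by decide +kernel

theorem chk_pow67_16_5 : tab.minOKc [5, 4, 3, 2, 1, 0, 5, 6, 7, 8, 9, 5, 10, 11] 17 86975 355 = true := by decide +kernel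

theorem chk_pow67_16_6 : tab.minOKc [5, 4, 3, 2, 1, 0, 5, 6, 7, 8, 9, 5, 10, 11] 17 87330 355 = true := by decide +kernel

theorem chk_pow67_16_7 : tab.minOKc [5, 4, 3, 2, 1, 0, 5, 6, 7, 8, 9, 5, 10, 11] 17 87685 355 = true := by decide +kernel

theorem chk_pow67_16_8 : tab.minOKc [5, 4, 3, 2, 1, 0, 5, 6, 7, 8, 9, 5, 10, 11] 17 88040 355 = true := by decide +kernel

theorem chk_pow67_16_9 : tab.minOKc [5, 4, 3, 2, 1, 0, 5, 6, 7, 8, 9, 5, 10, 11] 17 88395 355 = true := by decide +kernel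

theorem chk_pow67_16_10 : tab.minOKc [5, 4, 3, 2, 1, 0, 5, 6, 7, 8, 9, 5, 10, 11] 17 88750 355 = true := by decide +kernel

theorem chk_pow67_16_11 : tab.minOKc [5, 4, 3, 2, 1, 0, 5, 6, 7, 8, 9, 5, 10, 11] 17 89105 355 = true := by decide +kernel

theorem chk_pow67_16_12 : tab.minOKc [5, 4, 3, 2, 1, 0, 5, 6, 7, 8, 9, 5, 10, 11] 17 89460 355 = true := by decide +kernel

theorem chk_pow67_16_13 : tab.minOKc [5, 4, 3, 2, 1, 0, 5, 6, 7, 8, 9, 5, 10, 11] 17 89815 355 = true := by decide +kernel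

theorem chk_pow67_16_14 : tab.minOKc [5, 4, 3, 2, 1, 0, 5, 6, 7, 8, 9, 5, 10, 11] 17 90170 355 = true := by decide +kernel

theorem chk_pow67_16 : tab.minOKc [5, 4, 3, 2, 1, 0, 5, 6, 7, 8, 9, 5, 10, 11] 17 85200 5325 = true := by
  refine tab.minOKc_of_chunks [5, 4, 3, 2, 1, 0, 5, 6, 7, 8, 9, 5, 10, 11] 17 85200 355 15 (by norm_num) ?_
  intro i hi
  interval_cases i
  · exact chk_pow67_16_0
  · exact chk_pow67_16_1
  · exact chk_pow67_16_2
  · exact chk_pow67_16_3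
  · exact chk_pow67_16_4
  · exact chk_pow67_16_5
  · exact chk_pow67_16_6
  · exact chk_pow67_16_7
  · exact chk_pow67_16_8
  · exact chk_pow67_16_9
  · exact chk_pow67_16_10
  · exact chk_pow67_16_11
  · exact chk_pow67_16_12
  · exact chk_pow67_16_13
  · exact chk_pow67_16_14

theorem chk_pow67_17_0 : tab.minOKc [5, 4, 3, 2, 1, 0, 5, 6, 7, 8, 9, 5, 10, 11] 17 90525 355 = true := by decide +kernel

theorem chk_pow67_17_1 : tab.minOKc [5, 4, 3, 2, 1, 0, 5, 6, 7, 8, 9, 5, 10, 11] 17 90880 355 = true := by decide +kernel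

theorem chk_pow67_17_2 : tab.minOKc [5, 4, 3, 2, 1, 0, 5, 6, 7, 8, 9, 5, 10, 11] 17 91235 355 = true := by decide +kernel

theorem chk_pow67_17_3 : tab.minOKc [5, 4, 3, 2, 1, 0, 5, 6, 7, 8, 9, 5, 10, 11] 17 91590 355 = true := by decide +kernel

theorem chk_pow67_17_4 : tab.minOKc [5, 4, 3, 2, 1, 0, 5, 6, 7, 8, 9, 5, 10, 11] 17 91945 355 = true := by decide +kernel

theorem chk_pow67_17_5 : tab.minOKc [5, 4, 3, 2, 1, 0, 5, 6, 7, 8, 9, 5, 10, 11] 17 92300 355 = true := by decide +kernel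

theorem chk_pow67_17_6 : tab.minOKc [5, 4, 3, 2, 1, 0, 5, 6, 7, 8, 9, 5, 10, 11] 17 92655 355 = true := by decide +kernel

theorem chk_pow67_17_7 : tab.minOKc [5, 4, 3, 2, 1, 0, 5, 6, 7, 8, 9, 5, 10, 11] 17 93010 355 = true := by decide +kernel

theorem chk_pow67_17_8 : tab.minOKc [5, 4, 3, 2, 1, 0, 5, 6, 7, 8, 9, 5, 10, 11] 17 93365 355 = true := by decide +kernel

theorem chk_pow67_17_9 : tab.minOKc [5, 4, 3, 2, 1, 0, 5, 6, 7, 8, 9, 5, 10, 11] 17 93720 355 = true := by decide +kernel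

theorem chk_pow67_17_10 : tab.minOKc [5, 4, 3, 2, 1, 0, 5, 6, 7, 8, 9, 5, 10, 11] 17 94075 355 = true := by decide +kernel

theorem chk_pow67_17_11 : tab.minOKc [5, 4, 3, 2, 1, 0, 5, 6, 7, 8, 9, 5, 10, 11] 17 94430 355 = true := by decide +kernel

theorem chk_pow67_17_12 : tab.minOKc [5, 4, 3, 2, 1, 0, 5, 6, 7, 8, 9, 5, 10, 11] 17 94785 355 = true := by decide +kernel

theorem chk_pow67_17_13 : tab.minOKc [5, 4, 3, 2, 1, 0, 5, 6, 7, 8, 9, 5, 10, 11] 17 95140 355 = true := by decide +kernel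

theorem chk_pow67_17_14 : tab.minOKc [5, 4, 3, 2, 1, 0, 5, 6, 7, 8, 9, 5, 10, 11] 17 95495 355 = true := by decide +kernel

theorem chk_pow67_17 : tab.minOKc [5, 4, 3, 2, 1, 0, 5, 6, 7, 8, 9, 5, 10, 11] 17 90525 5325 = true := by
  refine tab.minOKc_of_chunks [5, 4, 3, 2, 1, 0, 5, 6, 7, 8, 9, 5, 10, 11] 17 90525 355 15 (by norm_num) ?_
  intro i hi
  interval_cases i
  · exact chk_pow67_17_0
  · exact chk_pow67_17_1
  · exact chk_pow67_17_2
  · exact chk_pow67_17_3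
  · exact chk_pow67_17_4
  · exact chk_pow67_17_5
  · exact chk_pow67_17_6
  · exact chk_pow67_17_7
  · exact chk_pow67_17_8
  · exact chk_pow67_17_9
  · exact chk_pow67_17_10
  · exact chk_pow67_17_11
  · exact chk_pow67_17_12
  · exact chk_pow67_17_13
  · exact chk_pow67_17_14

end Cfsg.Agent.Lib.Helper6.Fi24TC
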