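import Cfsg.Agent.Lib.Helper6.Fi24TCData
import Cfsg.Agent.Lib.Helper6.TCRel3
import Cfsg.Agent.Lib.Helper6.Fi24TCRel162

/-! # Fi24: the kernel check of a part of the relators on the coset table -/

set_option autoImplicit false

namespace Cfsg.Agent.Lib.Helper6.Fi24TC

open Cfsg.Agent.Lib.Helper6.TC

theorem chk_pow67_18_0 : tab.minOKc [5, 4, 3, 2, 1, 0, 5, 6, 7, 8, 9, 5, 10, 11] 17 95850 355 = true := by decide +kernel

theorem chk_pow67_18_1 : tab.minOKc [5, 4, 3, 2, 1, 0, 5, 6, 7, 8, 9, 5, 10, 11] 17 96205 355 = true := by decide +kernel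

theorem chk_pow67_18_2 : tab.minOKc [5, 4, 3, 2, 1, 0, 5, 6, 7, 8, 9, 5, 10, 11] 17 96560 355 = true := by decide +kernel

theorem chk_pow67_18_3 : tab.minOKc [5, 4, 3, 2, 1, 0, 5, 6, 7, 8, 9, 5, 10, 11] 17 96915 355 = true := by decide +kernel

theorem chk_pow67_18_4 : tab.minOKc [5, 4, 3, 2, 1, 0, 5, 6, 7, 8, 9, 5, 10, 11] 17 97270 355 = true := by decide +kernel

theorem chk_pow67_18_5 : tab.minOKc [5, 4, 3, 2, 1, 0, 5, 6, 7, 8, 9, 5, 10, 11] 17 97625 355 = true := by decide +kernel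

theorem chk_pow67_18_6 : tab.minOKc [5, 4, 3, 2, 1, 0, 5, 6, 7, 8, 9, 5, 10, 11] 17 97980 355 = true := by decide +kernel

theorem chk_pow67_18_7 : tab.minOKc [5, 4, 3, 2, 1, 0, 5, 6, 7, 8, 9, 5, 10, 11] 17 98335 355 = true := by decide +kernel

theorem chk_pow67_18_8 : tab.minOKc [5, 4, 3, 2, 1, 0, 5, 6, 7, 8, 9, 5, 10, 11] 17 98690 355 = true := by decide +kernel

theorem chk_pow67_18_9 : tab.minOKc [5, 4, 3, 2, 1, 0, 5, 6, 7, 8, 9, 5, 10, 11] 17 99045 355 = true := by decide +kernel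

theorem chk_pow67_18_10 : tab.minOKc [5, 4, 3, 2, 1, 0, 5, 6, 7, 8, 9, 5, 10, 11] 17 99400 355 = true := by decide +kernel

theorem chk_pow67_18_11 : tab.minOKc [5, 4, 3, 2, 1, 0, 5, 6, 7, 8, 9, 5, 10, 11] 17 99755 355 = true := by decide +kernel

theorem chk_pow67_18_12 : tab.minOKc [5, 4, 3, 2, 1, 0, 5, 6, 7, 8, 9, 5, 10, 11] 17 100110 355 = true := by decide +kernel

theorem chk_pow67_18_13 : tab.minOKc [5, 4, 3, 2, 1, 0, 5, 6, 7, 8, 9, 5, 10, 11] 17 100465 355 = true := by decide +kernel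

theorem chk_pow67_18_14 : tab.minOKc [5, 4, 3, 2, 1, 0, 5, 6, 7, 8, 9, 5, 10, 11] 17 100820 355 = true := by decide +kernel

theorem chk_pow67_18 : tab.minOKc [5, 4, 3, 2, 1, 0, 5, 6, 7, 8, 9, 5, 10, 11] 17 95850 5325 = true := by
  refine tab.minOKc_of_chunks [5, 4, 3, 2, 1, 0, 5, 6, 7, 8, 9, 5, 10, 11] 17 95850 355 15 (by norm_num) ?_
  intro i hi
  interval_cases i
  · exact chk_pow67_18_0
  · exact chk_pow67_18_1
  · exact chk_pow67_18_2
  · exact chk_pow67_18_3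
  · exact chk_pow67_18_4
  · exact chk_pow67_18_5
  · exact chk_pow67_18_6
  · exact chk_pow67_18_7
  · exact chk_pow67_18_8
  · exact chk_pow67_18_9
  · exact chk_pow67_18_10
  · exact chk_pow67_18_11
  · exact chk_pow67_18_12
  · exact chk_pow67_18_13
  · exact chk_pow67_18_14

theorem chk_pow67_19_0 : tab.minOKc [5, 4, 3, 2, 1, 0, 5, 6, 7, 8, 9, 5, 10, 11] 17 101175 355 = true := by decide +kernel

theorem chk_pow67_19_1 : tab.minOKc [5, 4, 3, 2, 1, 0, 5, 6, 7, 8, 9, 5, 10, 11] 17 101530 355 = true := by decide +kernel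

theorem chk_pow67_19_2 : tab.minOKc [5, 4, 3, 2, 1, 0, 5, 6, 7, 8, 9, 5, 10, 11] 17 101885 355 = true := by decide +kernel

theorem chk_pow67_19_3 : tab.minOKc [5, 4, 3, 2, 1, 0, 5, 6, 7, 8, 9, 5, 10, 11] 17 102240 355 = true := by decide +kernel

theorem chk_pow67_19_4 : tab.minOKc [5, 4, 3, 2, 1, 0, 5, 6, 7, 8, 9, 5, 10, 11] 17 102595 355 = true := by decide +kernel

theorem chk_pow67_19_5 : tab.minOKc [5, 4, 3, 2, 1, 0, 5, 6, 7, 8, 9, 5, 10, 11] 17 102950 355 = true := by decide +kernel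

theorem chk_pow67_19_6 : tab.minOKc [5, 4, 3, 2, 1, 0, 5, 6, 7, 8, 9, 5, 10, 11] 17 103305 355 = true := by decide +kernel

theorem chk_pow67_19_7 : tab.minOKc [5, 4, 3, 2, 1, 0, 5, 6, 7, 8, 9, 5, 10, 11] 17 103660 355 = true := by decide +kernel

theorem chk_pow67_19_8 : tab.minOKc [5, 4, 3, 2, 1, 0, 5, 6, 7, 8, 9, 5, 10, 11] 17 104015 355 = true := by decide +kernel

theorem chk_pow67_19_9 : tab.minOKc [5, 4, 3, 2, 1, 0, 5, 6, 7, 8, 9, 5, 10, 11] 17 104370 355 = true := by decide +kernel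

theorem chk_pow67_19_10 : tab.minOKc [5, 4, 3, 2, 1, 0, 5, 6, 7, 8, 9, 5, 10, 11] 17 104725 355 = true := by decide +kernel

theorem chk_pow67_19_11 : tab.minOKc [5, 4, 3, 2, 1, 0, 5, 6, 7, 8, 9, 5, 10, 11] 17 105080 355 = true := by decide +kernel

theorem chk_pow67_19_12 : tab.minOKc [5, 4, 3, 2, 1, 0, 5, 6, 7, 8, 9, 5, 10, 11] 17 105435 355 = true := by decide +kernel

theorem chk_pow67_19_13 : tab.minOKc [5, 4, 3, 2, 1, 0, 5, 6, 7, 8, 9, 5, 10, 11] 17 105790 355 = true := by decide +kernel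

theorem chk_pow67_19_14 : tab.minOKc [5, 4, 3, 2, 1, 0, 5, 6, 7, 8, 9, 5, 10, 11] 17 106145 355 = true := by decide +kernel

theorem chk_pow67_19 : tab.minOKc [5, 4, 3, 2, 1, 0, 5, 6, 7, 8, 9, 5, 10, 11] 17 101175 5325 = true := by
  refine tab.minOKc_of_chunks [5, 4, 3, 2, 1, 0, 5, 6, 7, 8, 9, 5, 10, 11] 17 101175 355 15 (by norm_num) ?_
  intro i hi
  interval_cases i
  · exact chk_pow67_19_0
  · exact chk_pow67_19_1
  · exact chk_pow67_19_2
  · exact chk_pow67_19_3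
  · exact chk_pow67_19_4
  · exact chk_pow67_19_5
  · exact chk_pow67_19_6
  · exact chk_pow67_19_7
  · exact chk_pow67_19_8
  · exact chk_pow67_19_9
  · exact chk_pow67_19_10
  · exact chk_pow67_19_11
  · exact chk_pow67_19_12
  · exact chk_pow67_19_13
  · exact chk_pow67_19_14

end Cfsg.Agent.Lib.Helper6.Fi24TC
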