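import Cfsg.Agent.Lib.Helper6.Fi24TCData
import Cfsg.Agent.Lib.Helper6.TCRel3
import Cfsg.Agent.Lib.Helper6.Fi24TCRel163

/-! # Fi24: the kernel check of a part of the relators on the coset table -/

set_option autoImplicit false

namespace Cfsg.Agent.Lib.Helper6.Fi24TC

open Cfsg.Agent.Lib.Helper6.TC

theorem chk_pow67_20_0 : tab.minOKc [5, 4, 3, 2, 1, 0, 5, 6, 7, 8, 9, 5, 10, 11] 17 106500 355 = true := by decide +kernel

theorem chk_pow67_20_1 : tab.minOKc [5, 4, 3, 2, 1, 0, 5, 6, 7, 8, 9, 5, 10, 11] 17 106855 355 = true := by decide +kernel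

theorem chk_pow67_20_2 : tab.minOKc [5, 4, 3, 2, 1, 0, 5, 6, 7, 8, 9, 5, 10, 11] 17 107210 355 = true := by decide +kernel

theorem chk_pow67_20_3 : tab.minOKc [5, 4, 3, 2, 1, 0, 5, 6, 7, 8, 9, 5, 10, 11] 17 107565 355 = true := by decide +kernel

theorem chk_pow67_20_4 : tab.minOKc [5, 4, 3, 2, 1, 0, 5, 6, 7, 8, 9, 5, 10, 11] 17 107920 355 = true := by decide +kernel

theorem chk_pow67_20_5 : tab.minOKc [5, 4, 3, 2, 1, 0, 5, 6, 7, 8, 9, 5, 10, 11] 17 108275 355 = true := by decide +kernel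

theorem chk_pow67_20_6 : tab.minOKc [5, 4, 3, 2, 1, 0, 5, 6, 7, 8, 9, 5, 10, 11] 17 108630 355 = true := by decide +kernel

theorem chk_pow67_20_7 : tab.minOKc [5, 4, 3, 2, 1, 0, 5, 6, 7, 8, 9, 5, 10, 11] 17 108985 355 = true := by decide +kernel

theorem chk_pow67_20_8 : tab.minOKc [5, 4, 3, 2, 1, 0, 5, 6, 7, 8, 9, 5, 10, 11] 17 109340 355 = true := by decide +kernel

theorem chk_pow67_20_9 : tab.minOKc [5, 4, 3, 2, 1, 0, 5, 6, 7, 8, 9, 5, 10, 11] 17 109695 355 = true := by decide +kernel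

theorem chk_pow67_20_10 : tab.minOKc [5, 4, 3, 2, 1, 0, 5, 6, 7, 8, 9, 5, 10, 11] 17 110050 355 = true := by decide +kernel

theorem chk_pow67_20_11 : tab.minOKc [5, 4, 3, 2, 1, 0, 5, 6, 7, 8, 9, 5, 10, 11] 17 110405 355 = true := by decide +kernel

theorem chk_pow67_20_12 : tab.minOKc [5, 4, 3, 2, 1, 0, 5, 6, 7, 8, 9, 5, 10, 11] 17 110760 355 = true := by decide +kernel

theorem chk_pow67_20_13 : tab.minOKc [5, 4, 3, 2, 1, 0, 5, 6, 7, 8, 9, 5, 10, 11] 17 111115 355 = true := by decide +kernel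

theorem chk_pow67_20_14 : tab.minOKc [5, 4, 3, 2, 1, 0, 5, 6, 7, 8, 9, 5, 10, 11] 17 111470 355 = true := by decide +kernel

theorem chk_pow67_20 : tab.minOKc [5, 4, 3, 2, 1, 0, 5, 6, 7, 8, 9, 5, 10, 11] 17 106500 5325 = true := by
  refine tab.minOKc_of_chunks [5, 4, 3, 2, 1, 0, 5, 6, 7, 8, 9, 5, 10, 11] 17 106500 355 15 (by norm_num) ?_
  intro i hi
  interval_cases i
  · exact chk_pow67_20_0
  · exact chk_pow67_20_1
  · exact chk_pow67_20_2
  · exact chk_pow67_20_3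
  · exact chk_pow67_20_4
  · exact chk_pow67_20_5
  · exact chk_pow67_20_6
  · exact chk_pow67_20_7
  · exact chk_pow67_20_8
  · exact chk_pow67_20_9
  · exact chk_pow67_20_10
  · exact chk_pow67_20_11
  · exact chk_pow67_20_12
  · exact chk_pow67_20_13
  · exact chk_pow67_20_14

theorem chk_pow67_21_0 : tab.minOKc [5, 4, 3, 2, 1, 0, 5, 6, 7, 8, 9, 5, 10, 11] 17 111825 355 = true := by decide +kernel

theorem chk_pow67_21_1 : tab.minOKc [5, 4, 3, 2, 1, 0, 5, 6, 7, 8, 9, 5, 10, 11] 17 112180 355 = true := by decide +kernel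

theorem chk_pow67_21_2 : tab.minOKc [5, 4, 3, 2, 1, 0, 5, 6, 7, 8, 9, 5, 10, 11] 17 112535 355 = true := by decide +kernel

theorem chk_pow67_21_3 : tab.minOKc [5, 4, 3, 2, 1, 0, 5, 6, 7, 8, 9, 5, 10, 11] 17 112890 355 = true := by decide +kernel

theorem chk_pow67_21_4 : tab.minOKc [5, 4, 3, 2, 1, 0, 5, 6, 7, 8, 9, 5, 10, 11] 17 113245 355 = true := by decide +kernel

theorem chk_pow67_21_5 : tab.minOKc [5, 4, 3, 2, 1, 0, 5, 6, 7, 8, 9, 5, 10, 11] 17 113600 355 = true := by decide +kernel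

theorem chk_pow67_21_6 : tab.minOKc [5, 4, 3, 2, 1, 0, 5, 6, 7, 8, 9, 5, 10, 11] 17 113955 355 = true := by decide +kernel

theorem chk_pow67_21_7 : tab.minOKc [5, 4, 3, 2, 1, 0, 5, 6, 7, 8, 9, 5, 10, 11] 17 114310 355 = true := by decide +kernel

theorem chk_pow67_21_8 : tab.minOKc [5, 4, 3, 2, 1, 0, 5, 6, 7, 8, 9, 5, 10, 11] 17 114665 355 = true := by decide +kernel

theorem chk_pow67_21_9 : tab.minOKc [5, 4, 3, 2, 1, 0, 5, 6, 7, 8, 9, 5, 10, 11] 17 115020 355 = true := by decide +kernel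

theorem chk_pow67_21_10 : tab.minOKc [5, 4, 3, 2, 1, 0, 5, 6, 7, 8, 9, 5, 10, 11] 17 115375 355 = true := by decide +kernel

theorem chk_pow67_21_11 : tab.minOKc [5, 4, 3, 2, 1, 0, 5, 6, 7, 8, 9, 5, 10, 11] 17 115730 355 = true := by decide +kernel

theorem chk_pow67_21_12 : tab.minOKc [5, 4, 3, 2, 1, 0, 5, 6, 7, 8, 9, 5, 10, 11] 17 116085 355 = true := by decide +kernel

theorem chk_pow67_21_13 : tab.minOKc [5, 4, 3, 2, 1, 0, 5, 6, 7, 8, 9, 5, 10, 11] 17 116440 355 = true := by decide +kernel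

theorem chk_pow67_21_14 : tab.minOKc [5, 4, 3, 2, 1, 0, 5, 6, 7, 8, 9, 5, 10, 11] 17 116795 355 = true := by decide +kernel

theorem chk_pow67_21 : tab.minOKc [5, 4, 3, 2, 1, 0, 5, 6, 7, 8, 9, 5, 10, 11] 17 111825 5325 = true := by
  refine tab.minOKc_of_chunks [5, 4, 3, 2, 1, 0, 5, 6, 7, 8, 9, 5, 10, 11] 17 111825 355 15 (by norm_num) ?_
  intro i hi
  interval_cases i
  · exact chk_pow67_21_0
  · exact chk_pow67_21_1
  · exact chk_pow67_21_2
  · exact chk_pow67_21_3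
  · exact chk_pow67_21_4
  · exact chk_pow67_21_5
  · exact chk_pow67_21_6
  · exact chk_pow67_21_7
  · exact chk_pow67_21_8
  · exact chk_pow67_21_9
  · exact chk_pow67_21_10
  · exact chk_pow67_21_11
  · exact chk_pow67_21_12
  · exact chk_pow67_21_13
  · exact chk_pow67_21_14

end Cfsg.Agent.Lib.Helper6.Fi24TC
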