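import Cfsg.Agent.Lib.Helper6.Fi24TCData
import Cfsg.Agent.Lib.Helper6.TCRel3
import Cfsg.Agent.Lib.Helper6.Fi24TCRel164

/-! # Fi24: the kernel check of a part of the relators on the coset table -/

set_option autoImplicit false

namespace Cfsg.Agent.Lib.Helper6.Fi24TC

open Cfsg.Agent.Lib.Helper6.TC

theorem chk_pow67_22_0 : tab.minOKc [5, 4, 3, 2, 1, 0, 5, 6, 7, 8, 9, 5, 10, 11] 17 117150 355 = true := by decide +kernel

theorem chk_pow67_22_1 : tab.minOKc [5, 4, 3, 2, 1, 0, 5, 6, 7, 8, 9, 5, 10, 11] 17 117505 355 = true := by decide +kernel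

theorem chk_pow67_22_2 : tab.minOKc [5, 4, 3, 2, 1, 0, 5, 6, 7, 8, 9, 5, 10, 11] 17 117860 355 = true := by decide +kernel

theorem chk_pow67_22_3 : tab.minOKc [5, 4, 3, 2, 1, 0, 5, 6, 7, 8, 9, 5, 10, 11] 17 118215 355 = true := by decide +kernel

theorem chk_pow67_22_4 : tab.minOKc [5, 4, 3, 2, 1, 0, 5, 6, 7, 8, 9, 5, 10, 11] 17 118570 355 = true := by decide +kernel

theorem chk_pow67_22_5 : tab.minOKc [5, 4, 3, 2, 1, 0, 5, 6, 7, 8, 9, 5, 10, 11] 17 118925 355 = true := by decide +kernel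

theorem chk_pow67_22_6 : tab.minOKc [5, 4, 3, 2, 1, 0, 5, 6, 7, 8, 9, 5, 10, 11] 17 119280 355 = true := by decide +kernel

theorem chk_pow67_22_7 : tab.minOKc [5, 4, 3, 2, 1, 0, 5, 6, 7, 8, 9, 5, 10, 11] 17 119635 355 = true := by decide +kernel

theorem chk_pow67_22_8 : tab.minOKc [5, 4, 3, 2, 1, 0, 5, 6, 7, 8, 9, 5, 10, 11] 17 119990 355 = true := by decide +kernel

theorem chk_pow67_22_9 : tab.minOKc [5, 4, 3, 2, 1, 0, 5, 6, 7, 8, 9, 5, 10, 11] 17 120345 355 = true := by decide +kernel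

theorem chk_pow67_22_10 : tab.minOKc [5, 4, 3, 2, 1, 0, 5, 6, 7, 8, 9, 5, 10, 11] 17 120700 355 = true := by decide +kernel

theorem chk_pow67_22_11 : tab.minOKc [5, 4, 3, 2, 1, 0, 5, 6, 7, 8, 9, 5, 10, 11] 17 121055 355 = true := by decide +kernel

theorem chk_pow67_22_12 : tab.minOKc [5, 4, 3, 2, 1, 0, 5, 6, 7, 8, 9, 5, 10, 11] 17 121410 355 = true := by decide +kernel

theorem chk_pow67_22_13 : tab.minOKc [5, 4, 3, 2, 1, 0, 5, 6, 7, 8, 9, 5, 10, 11] 17 121765 355 = true := by decide +kernel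

theorem chk_pow67_22_14 : tab.minOKc [5, 4, 3, 2, 1, 0, 5, 6, 7, 8, 9, 5, 10, 11] 17 122120 355 = true := by decide +kernel

theorem chk_pow67_22 : tab.minOKc [5, 4, 3, 2, 1, 0, 5, 6, 7, 8, 9, 5, 10, 11] 17 117150 5325 = true := by
  refine tab.minOKc_of_chunks [5, 4, 3, 2, 1, 0, 5, 6, 7, 8, 9, 5, 10, 11] 17 117150 355 15 (by norm_num) ?_
  intro i hi
  interval_cases i
  · exact chk_pow67_22_0
  · exact chk_pow67_22_1
  · exact chk_pow67_22_2
  · exact chk_pow67_22_3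
  · exact chk_pow67_22_4
  · exact chk_pow67_22_5
  · exact chk_pow67_22_6
  · exact chk_pow67_22_7
  · exact chk_pow67_22_8
  · exact chk_pow67_22_9
  · exact chk_pow67_22_10
  · exact chk_pow67_22_11
  · exact chk_pow67_22_12
  · exact chk_pow67_22_13
  · exact chk_pow67_22_14

theorem chk_pow67_23_0 : tab.minOKc [5, 4, 3, 2, 1, 0, 5, 6, 7, 8, 9, 5, 10, 11] 17 122475 355 = true := by decide +kernel

theorem chk_pow67_23_1 : tab.minOKc [5, 4, 3, 2, 1, 0, 5, 6, 7, 8, 9, 5, 10, 11] 17 122830 355 = true := by decide +kernel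

theorem chk_pow67_23_2 : tab.minOKc [5, 4, 3, 2, 1, 0, 5, 6, 7, 8, 9, 5, 10, 11] 17 123185 355 = true := by decide +kernel

theorem chk_pow67_23_3 : tab.minOKc [5, 4, 3, 2, 1, 0, 5, 6, 7, 8, 9, 5, 10, 11] 17 123540 355 = true := by decide +kernel

theorem chk_pow67_23_4 : tab.minOKc [5, 4, 3, 2, 1, 0, 5, 6, 7, 8, 9, 5, 10, 11] 17 123895 355 = true := by decide +kernel

theorem chk_pow67_23_5 : tab.minOKc [5, 4, 3, 2, 1, 0, 5, 6, 7, 8, 9, 5, 10, 11] 17 124250 355 = true := by decide +kernel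

theorem chk_pow67_23_6 : tab.minOKc [5, 4, 3, 2, 1, 0, 5, 6, 7, 8, 9, 5, 10, 11] 17 124605 355 = true := by decide +kernel

theorem chk_pow67_23_7 : tab.minOKc [5, 4, 3, 2, 1, 0, 5, 6, 7, 8, 9, 5, 10, 11] 17 124960 355 = true := by decide +kernel

theorem chk_pow67_23_8 : tab.minOKc [5, 4, 3, 2, 1, 0, 5, 6, 7, 8, 9, 5, 10, 11] 17 125315 355 = true := by decide +kernel

theorem chk_pow67_23_9 : tab.minOKc [5, 4, 3, 2, 1, 0, 5, 6, 7, 8, 9, 5, 10, 11] 17 125670 355 = true := by decide +kernel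

theorem chk_pow67_23_10 : tab.minOKc [5, 4, 3, 2, 1, 0, 5, 6, 7, 8, 9, 5, 10, 11] 17 126025 355 = true := by decide +kernel

theorem chk_pow67_23_11 : tab.minOKc [5, 4, 3, 2, 1, 0, 5, 6, 7, 8, 9, 5, 10, 11] 17 126380 355 = true := by decide +kernel

theorem chk_pow67_23_12 : tab.minOKc [5, 4, 3, 2, 1, 0, 5, 6, 7, 8, 9, 5, 10, 11] 17 126735 355 = true := by decide +kernel

theorem chk_pow67_23_13 : tab.minOKc [5, 4, 3, 2, 1, 0, 5, 6, 7, 8, 9, 5, 10, 11] 17 127090 355 = true := by decide +kernel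

theorem chk_pow67_23_14 : tab.minOKc [5, 4, 3, 2, 1, 0, 5, 6, 7, 8, 9, 5, 10, 11] 17 127445 355 = true := by decide +kernel

theorem chk_pow67_23 : tab.minOKc [5, 4, 3, 2, 1, 0, 5, 6, 7, 8, 9, 5, 10, 11] 17 122475 5325 = true := by
  refine tab.minOKc_of_chunks [5, 4, 3, 2, 1, 0, 5, 6, 7, 8, 9, 5, 10, 11] 17 122475 355 15 (by norm_num) ?_
  intro i hi
  interval_cases i
  · exact chk_pow67_23_0
  · exact chk_pow67_23_1
  · exact chk_pow67_23_2
  · exact chk_pow67_23_3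
  · exact chk_pow67_23_4
  · exact chk_pow67_23_5
  · exact chk_pow67_23_6
  · exact chk_pow67_23_7
  · exact chk_pow67_23_8
  · exact chk_pow67_23_9
  · exact chk_pow67_23_10
  · exact chk_pow67_23_11
  · exact chk_pow67_23_12
  · exact chk_pow67_23_13
  · exact chk_pow67_23_14

end Cfsg.Agent.Lib.Helper6.Fi24TC
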