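import Cfsg.Agent.Lib.Helper6.Fi24TCData
import Cfsg.Agent.Lib.Helper6.TCRel3
import Cfsg.Agent.Lib.Helper6.Fi24TCRel166

/-! # Fi24: the kernel check of a part of the relators on the coset table -/

set_option autoImplicit false

namespace Cfsg.Agent.Lib.Helper6.Fi24TC

open Cfsg.Agent.Lib.Helper6.TC

theorem chk_pow67_26_0 : tab.minOKc [5, 4, 3, 2, 1, 0, 5, 6, 7, 8, 9, 5, 10, 11] 17 138450 355 = true := by decide +kernel

theorem chk_pow67_26_1 : tab.minOKc [5, 4, 3, 2, 1, 0, 5, 6, 7, 8, 9, 5, 10, 11] 17 138805 355 = true := by decide +kernel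

theorem chk_pow67_26_2 : tab.minOKc [5, 4, 3, 2, 1, 0, 5, 6, 7, 8, 9, 5, 10, 11] 17 139160 355 = true := by decide +kernel

theorem chk_pow67_26_3 : tab.minOKc [5, 4, 3, 2, 1, 0, 5, 6, 7, 8, 9, 5, 10, 11] 17 139515 355 = true := by decide +kernel

theorem chk_pow67_26_4 : tab.minOKc [5, 4, 3, 2, 1, 0, 5, 6, 7, 8, 9, 5, 10, 11] 17 139870 355 = true := by decide +kernel

theorem chk_pow67_26_5 : tab.minOKc [5, 4, 3, 2, 1, 0, 5, 6, 7, 8, 9, 5, 10, 11] 17 140225 355 = true := by decide +kernel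

theorem chk_pow67_26_6 : tab.minOKc [5, 4, 3, 2, 1, 0, 5, 6, 7, 8, 9, 5, 10, 11] 17 140580 355 = true := by decide +kernel

theorem chk_pow67_26_7 : tab.minOKc [5, 4, 3, 2, 1, 0, 5, 6, 7, 8, 9, 5, 10, 11] 17 140935 355 = true := by decide +kernel

theorem chk_pow67_26_8 : tab.minOKc [5, 4, 3, 2, 1, 0, 5, 6, 7, 8, 9, 5, 10, 11] 17 141290 355 = true := by decide +kernel

theorem chk_pow67_26_9 : tab.minOKc [5, 4, 3, 2, 1, 0, 5, 6, 7, 8, 9, 5, 10, 11] 17 141645 355 = true := by decide +kernel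

theorem chk_pow67_26_10 : tab.minOKc [5, 4, 3, 2, 1, 0, 5, 6, 7, 8, 9, 5, 10, 11] 17 142000 355 = true := by decide +kernel

theorem chk_pow67_26_11 : tab.minOKc [5, 4, 3, 2, 1, 0, 5, 6, 7, 8, 9, 5, 10, 11] 17 142355 355 = true := by decide +kernel

theorem chk_pow67_26_12 : tab.minOKc [5, 4, 3, 2, 1, 0, 5, 6, 7, 8, 9, 5, 10, 11] 17 142710 355 = true := by decide +kernel

theorem chk_pow67_26_13 : tab.minOKc [5, 4, 3, 2, 1, 0, 5, 6, 7, 8, 9, 5, 10, 11] 17 143065 355 = true := by decide +kernel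

theorem chk_pow67_26_14 : tab.minOKc [5, 4, 3, 2, 1, 0, 5, 6, 7, 8, 9, 5, 10, 11] 17 143420 355 = true := by decide +kernel

theorem chk_pow67_26 : tab.minOKc [5, 4, 3, 2, 1, 0, 5, 6, 7, 8, 9, 5, 10, 11] 17 138450 5325 = true := by
  refine tab.minOKc_of_chunks [5, 4, 3, 2, 1, 0, 5, 6, 7, 8, 9, 5, 10, 11] 17 138450 355 15 (by norm_num) ?_
  intro i hi
  interval_cases i
  · exact chk_pow67_26_0
  · exact chk_pow67_26_1
  · exact chk_pow67_26_2
  · exact chk_pow67_26_3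
  · exact chk_pow67_26_4
  · exact chk_pow67_26_5
  · exact chk_pow67_26_6
  · exact chk_pow67_26_7
  · exact chk_pow67_26_8
  · exact chk_pow67_26_9
  · exact chk_pow67_26_10
  · exact chk_pow67_26_11
  · exact chk_pow67_26_12
  · exact chk_pow67_26_13
  · exact chk_pow67_26_14

theorem chk_pow67_27_0 : tab.minOKc [5, 4, 3, 2, 1, 0, 5, 6, 7, 8, 9, 5, 10, 11] 17 143775 355 = true := by decide +kernel

theorem chk_pow67_27_1 : tab.minOKc [5, 4, 3, 2, 1, 0, 5, 6, 7, 8, 9, 5, 10, 11] 17 144130 355 = true := by decide +kernel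

theorem chk_pow67_27_2 : tab.minOKc [5, 4, 3, 2, 1, 0, 5, 6, 7, 8, 9, 5, 10, 11] 17 144485 355 = true := by decide +kernel

theorem chk_pow67_27_3 : tab.minOKc [5, 4, 3, 2, 1, 0, 5, 6, 7, 8, 9, 5, 10, 11] 17 144840 355 = true := by decide +kernel

theorem chk_pow67_27_4 : tab.minOKc [5, 4, 3, 2, 1, 0, 5, 6, 7, 8, 9, 5, 10, 11] 17 145195 355 = true := by decide +kernel

theorem chk_pow67_27_5 : tab.minOKc [5, 4, 3, 2, 1, 0, 5, 6, 7, 8, 9, 5, 10, 11] 17 145550 355 = true := by decide +kernel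

theorem chk_pow67_27_6 : tab.minOKc [5, 4, 3, 2, 1, 0, 5, 6, 7, 8, 9, 5, 10, 11] 17 145905 355 = true := by decide +kernel

theorem chk_pow67_27_7 : tab.minOKc [5, 4, 3, 2, 1, 0, 5, 6, 7, 8, 9, 5, 10, 11] 17 146260 355 = true := by decide +kernel

theorem chk_pow67_27_8 : tab.minOKc [5, 4, 3, 2, 1, 0, 5, 6, 7, 8, 9, 5, 10, 11] 17 146615 355 = true := by decide +kernel

theorem chk_pow67_27_9 : tab.minOKc [5, 4, 3, 2, 1, 0, 5, 6, 7, 8, 9, 5, 10, 11] 17 146970 355 = true := by decide +kernel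

theorem chk_pow67_27_10 : tab.minOKc [5, 4, 3, 2, 1, 0, 5, 6, 7, 8, 9, 5, 10, 11] 17 147325 355 = true := by decide +kernel

theorem chk_pow67_27_11 : tab.minOKc [5, 4, 3, 2, 1, 0, 5, 6, 7, 8, 9, 5, 10, 11] 17 147680 355 = true := by decide +kernel

theorem chk_pow67_27_12 : tab.minOKc [5, 4, 3, 2, 1, 0, 5, 6, 7, 8, 9, 5, 10, 11] 17 148035 355 = true := by decide +kernel

theorem chk_pow67_27_13 : tab.minOKc [5, 4, 3, 2, 1, 0, 5, 6, 7, 8, 9, 5, 10, 11] 17 148390 355 = true := by decide +kernel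

theorem chk_pow67_27_14 : tab.minOKc [5, 4, 3, 2, 1, 0, 5, 6, 7, 8, 9, 5, 10, 11] 17 148745 355 = true := by decide +kernel

theorem chk_pow67_27 : tab.minOKc [5, 4, 3, 2, 1, 0, 5, 6, 7, 8, 9, 5, 10, 11] 17 143775 5325 = true := by
  refine tab.minOKc_of_chunks [5, 4, 3, 2, 1, 0, 5, 6, 7, 8, 9, 5, 10, 11] 17 143775 355 15 (by norm_num) ?_
  intro i hi
  interval_cases i
  · exact chk_pow67_27_0
  · exact chk_pow67_27_1
  · exact chk_pow67_27_2
  · exact chk_pow67_27_3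
  · exact chk_pow67_27_4
  · exact chk_pow67_27_5
  · exact chk_pow67_27_6
  · exact chk_pow67_27_7
  · exact chk_pow67_27_8
  · exact chk_pow67_27_9
  · exact chk_pow67_27_10
  · exact chk_pow67_27_11
  · exact chk_pow67_27_12
  · exact chk_pow67_27_13
  · exact chk_pow67_27_14

end Cfsg.Agent.Lib.Helper6.Fi24TC
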