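import Cfsg.Agent.Lib.Helper6.Fi24TCData
import Cfsg.Agent.Lib.Helper6.TCRel3
import Cfsg.Agent.Lib.Helper6.Fi24TCRel167

/-! # Fi24: the kernel check of a part of the relators on the coset table -/

set_option autoImplicit false

namespace Cfsg.Agent.Lib.Helper6.Fi24TC

open Cfsg.Agent.Lib.Helper6.TC

theorem chk_pow67_28_0 : tab.minOKc [5, 4, 3, 2, 1, 0, 5, 6, 7, 8, 9, 5, 10, 11] 17 149100 355 = true := by decide +kernel

theorem chk_pow67_28_1 : tab.minOKc [5, 4, 3, 2, 1, 0, 5, 6, 7, 8, 9, 5, 10, 11] 17 149455 355 = true := by decide +kernel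

theorem chk_pow67_28_2 : tab.minOKc [5, 4, 3, 2, 1, 0, 5, 6, 7, 8, 9, 5, 10, 11] 17 149810 355 = true := by decide +kernel

theorem chk_pow67_28_3 : tab.minOKc [5, 4, 3, 2, 1, 0, 5, 6, 7, 8, 9, 5, 10, 11] 17 150165 355 = true := by decide +kernel

theorem chk_pow67_28_4 : tab.minOKc [5, 4, 3, 2, 1, 0, 5, 6, 7, 8, 9, 5, 10, 11] 17 150520 355 = true := by decide +kernel

theorem chk_pow67_28_5 : tab.minOKc [5, 4, 3, 2, 1, 0, 5, 6, 7, 8, 9, 5, 10, 11] 17 150875 355 = true := by decide +kernel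

theorem chk_pow67_28_6 : tab.minOKc [5, 4, 3, 2, 1, 0, 5, 6, 7, 8, 9, 5, 10, 11] 17 151230 355 = true := by decide +kernel

theorem chk_pow67_28_7 : tab.minOKc [5, 4, 3, 2, 1, 0, 5, 6, 7, 8, 9, 5, 10, 11] 17 151585 355 = true := by decide +kernel

theorem chk_pow67_28_8 : tab.minOKc [5, 4, 3, 2, 1, 0, 5, 6, 7, 8, 9, 5, 10, 11] 17 151940 355 = true := by decide +kernel

theorem chk_pow67_28_9 : tab.minOKc [5, 4, 3, 2, 1, 0, 5, 6, 7, 8, 9, 5, 10, 11] 17 152295 355 = true := by decide +kernel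

theorem chk_pow67_28_10 : tab.minOKc [5, 4, 3, 2, 1, 0, 5, 6, 7, 8, 9, 5, 10, 11] 17 152650 355 = true := by decide +kernel

theorem chk_pow67_28_11 : tab.minOKc [5, 4, 3, 2, 1, 0, 5, 6, 7, 8, 9, 5, 10, 11] 17 153005 355 = true := by decide +kernel

theorem chk_pow67_28_12 : tab.minOKc [5, 4, 3, 2, 1, 0, 5, 6, 7, 8, 9, 5, 10, 11] 17 153360 355 = true := by decide +kernel

theorem chk_pow67_28_13 : tab.minOKc [5, 4, 3, 2, 1, 0, 5, 6, 7, 8, 9, 5, 10, 11] 17 153715 355 = true := by decide +kernel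

theorem chk_pow67_28_14 : tab.minOKc [5, 4, 3, 2, 1, 0, 5, 6, 7, 8, 9, 5, 10, 11] 17 154070 355 = true := by decide +kernel

theorem chk_pow67_28 : tab.minOKc [5, 4, 3, 2, 1, 0, 5, 6, 7, 8, 9, 5, 10, 11] 17 149100 5325 = true := by
  refine tab.minOKc_of_chunks [5, 4, 3, 2, 1, 0, 5, 6, 7, 8, 9, 5, 10, 11] 17 149100 355 15 (by norm_num) ?_
  intro i hi
  interval_cases i
  · exact chk_pow67_28_0
  · exact chk_pow67_28_1
  · exact chk_pow67_28_2
  · exact chk_pow67_28_3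
  · exact chk_pow67_28_4
  · exact chk_pow67_28_5
  · exact chk_pow67_28_6
  · exact chk_pow67_28_7
  · exact chk_pow67_28_8
  · exact chk_pow67_28_9
  · exact chk_pow67_28_10
  · exact chk_pow67_28_11
  · exact chk_pow67_28_12
  · exact chk_pow67_28_13
  · exact chk_pow67_28_14

theorem chk_pow67_29_0 : tab.minOKc [5, 4, 3, 2, 1, 0, 5, 6, 7, 8, 9, 5, 10, 11] 17 154425 355 = true := by decide +kernel

theorem chk_pow67_29_1 : tab.minOKc [5, 4, 3, 2, 1, 0, 5, 6, 7, 8, 9, 5, 10, 11] 17 154780 355 = true := by decide +kernel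

theorem chk_pow67_29_2 : tab.minOKc [5, 4, 3, 2, 1, 0, 5, 6, 7, 8, 9, 5, 10, 11] 17 155135 355 = true := by decide +kernel

theorem chk_pow67_29_3 : tab.minOKc [5, 4, 3, 2, 1, 0, 5, 6, 7, 8, 9, 5, 10, 11] 17 155490 355 = true := by decide +kernel

theorem chk_pow67_29_4 : tab.minOKc [5, 4, 3, 2, 1, 0, 5, 6, 7, 8, 9, 5, 10, 11] 17 155845 355 = true := by decide +kernel

theorem chk_pow67_29_5 : tab.minOKc [5, 4, 3, 2, 1, 0, 5, 6, 7, 8, 9, 5, 10, 11] 17 156200 355 = true := by decide +kernel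

theorem chk_pow67_29_6 : tab.minOKc [5, 4, 3, 2, 1, 0, 5, 6, 7, 8, 9, 5, 10, 11] 17 156555 355 = true := by decide +kernel

theorem chk_pow67_29_7 : tab.minOKc [5, 4, 3, 2, 1, 0, 5, 6, 7, 8, 9, 5, 10, 11] 17 156910 355 = true := by decide +kernel

theorem chk_pow67_29_8 : tab.minOKc [5, 4, 3, 2, 1, 0, 5, 6, 7, 8, 9, 5, 10, 11] 17 157265 355 = true := by decide +kernel

theorem chk_pow67_29_9 : tab.minOKc [5, 4, 3, 2, 1, 0, 5, 6, 7, 8, 9, 5, 10, 11] 17 157620 355 = true := by decide +kernel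

theorem chk_pow67_29_10 : tab.minOKc [5, 4, 3, 2, 1, 0, 5, 6, 7, 8, 9, 5, 10, 11] 17 157975 355 = true := by decide +kernel

theorem chk_pow67_29_11 : tab.minOKc [5, 4, 3, 2, 1, 0, 5, 6, 7, 8, 9, 5, 10, 11] 17 158330 355 = true := by decide +kernel

theorem chk_pow67_29_12 : tab.minOKc [5, 4, 3, 2, 1, 0, 5, 6, 7, 8, 9, 5, 10, 11] 17 158685 355 = true := by decide +kernel

theorem chk_pow67_29_13 : tab.minOKc [5, 4, 3, 2, 1, 0, 5, 6, 7, 8, 9, 5, 10, 11] 17 159040 355 = true := by decide +kernel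

theorem chk_pow67_29_14 : tab.minOKc [5, 4, 3, 2, 1, 0, 5, 6, 7, 8, 9, 5, 10, 11] 17 159395 355 = true := by decide +kernel

theorem chk_pow67_29 : tab.minOKc [5, 4, 3, 2, 1, 0, 5, 6, 7, 8, 9, 5, 10, 11] 17 154425 5325 = true := by
  refine tab.minOKc_of_chunks [5, 4, 3, 2, 1, 0, 5, 6, 7, 8, 9, 5, 10, 11] 17 154425 355 15 (by norm_num) ?_
  intro i hi
  interval_cases i
  · exact chk_pow67_29_0
  · exact chk_pow67_29_1
  · exact chk_pow67_29_2
  · exact chk_pow67_29_3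
  · exact chk_pow67_29_4
  · exact chk_pow67_29_5
  · exact chk_pow67_29_6
  · exact chk_pow67_29_7
  · exact chk_pow67_29_8
  · exact chk_pow67_29_9
  · exact chk_pow67_29_10
  · exact chk_pow67_29_11
  · exact chk_pow67_29_12
  · exact chk_pow67_29_13
  · exact chk_pow67_29_14

end Cfsg.Agent.Lib.Helper6.Fi24TC
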