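import Cfsg.Agent.Lib.Helper6.Fi24TCData
import Cfsg.Agent.Lib.Helper6.TCRel3
import Cfsg.Agent.Lib.Helper6.Fi24TCRel168

/-! # Fi24: the kernel check of a part of the relators on the coset table -/

set_option autoImplicit false

namespace Cfsg.Agent.Lib.Helper6.Fi24TC

open Cfsg.Agent.Lib.Helper6.TC

theorem chk_pow67_30_0 : tab.minOKc [5, 4, 3, 2, 1, 0, 5, 6, 7, 8, 9, 5, 10, 11] 17 159750 355 = true := by decide +kernel

theorem chk_pow67_30_1 : tab.minOKc [5, 4, 3, 2, 1, 0, 5, 6, 7, 8, 9, 5, 10, 11] 17 160105 355 = true := by decide +kernel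

theorem chk_pow67_30_2 : tab.minOKc [5, 4, 3, 2, 1, 0, 5, 6, 7, 8, 9, 5, 10, 11] 17 160460 355 = true := by decide +kernel

theorem chk_pow67_30_3 : tab.minOKc [5, 4, 3, 2, 1, 0, 5, 6, 7, 8, 9, 5, 10, 11] 17 160815 355 = true := by decide +kernel

theorem chk_pow67_30_4 : tab.minOKc [5, 4, 3, 2, 1, 0, 5, 6, 7, 8, 9, 5, 10, 11] 17 161170 355 = true := by decide +kernel

theorem chk_pow67_30_5 : tab.minOKc [5, 4, 3, 2, 1, 0, 5, 6, 7, 8, 9, 5, 10, 11] 17 161525 355 = true := by decide +kernel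

theorem chk_pow67_30_6 : tab.minOKc [5, 4, 3, 2, 1, 0, 5, 6, 7, 8, 9, 5, 10, 11] 17 161880 355 = true := by decide +kernel

theorem chk_pow67_30_7 : tab.minOKc [5, 4, 3, 2, 1, 0, 5, 6, 7, 8, 9, 5, 10, 11] 17 162235 355 = true := by decide +kernel

theorem chk_pow67_30_8 : tab.minOKc [5, 4, 3, 2, 1, 0, 5, 6, 7, 8, 9, 5, 10, 11] 17 162590 355 = true := by decide +kernel

theorem chk_pow67_30_9 : tab.minOKc [5, 4, 3, 2, 1, 0, 5, 6, 7, 8, 9, 5, 10, 11] 17 162945 355 = true := by decide +kernel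

theorem chk_pow67_30_10 : tab.minOKc [5, 4, 3, 2, 1, 0, 5, 6, 7, 8, 9, 5, 10, 11] 17 163300 355 = true := by decide +kernel

theorem chk_pow67_30_11 : tab.minOKc [5, 4, 3, 2, 1, 0, 5, 6, 7, 8, 9, 5, 10, 11] 17 163655 355 = true := by decide +kernel

theorem chk_pow67_30_12 : tab.minOKc [5, 4, 3, 2, 1, 0, 5, 6, 7, 8, 9, 5, 10, 11] 17 164010 355 = true := by decide +kernel

theorem chk_pow67_30_13 : tab.minOKc [5, 4, 3, 2, 1, 0, 5, 6, 7, 8, 9, 5, 10, 11] 17 164365 355 = true := by decide +kernel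

theorem chk_pow67_30_14 : tab.minOKc [5, 4, 3, 2, 1, 0, 5, 6, 7, 8, 9, 5, 10, 11] 17 164720 355 = true := by decide +kernel

theorem chk_pow67_30 : tab.minOKc [5, 4, 3, 2, 1, 0, 5, 6, 7, 8, 9, 5, 10, 11] 17 159750 5325 = true := by
  refine tab.minOKc_of_chunks [5, 4, 3, 2, 1, 0, 5, 6, 7, 8, 9, 5, 10, 11] 17 159750 355 15 (by norm_num) ?_
  intro i hi
  interval_cases i
  · exact chk_pow67_30_0
  · exact chk_pow67_30_1
  · exact chk_pow67_30_2
  · exact chk_pow67_30_3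
  · exact chk_pow67_30_4
  · exact chk_pow67_30_5
  · exact chk_pow67_30_6
  · exact chk_pow67_30_7
  · exact chk_pow67_30_8
  · exact chk_pow67_30_9
  · exact chk_pow67_30_10
  · exact chk_pow67_30_11
  · exact chk_pow67_30_12
  · exact chk_pow67_30_13
  · exact chk_pow67_30_14

theorem chk_pow67_31_0 : tab.minOKc [5, 4, 3, 2, 1, 0, 5, 6, 7, 8, 9, 5, 10, 11] 17 165075 355 = true := by decide +kernel

theorem chk_pow67_31_1 : tab.minOKc [5, 4, 3, 2, 1, 0, 5, 6, 7, 8, 9, 5, 10, 11] 17 165430 355 = true := by decide +kernel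

theorem chk_pow67_31_2 : tab.minOKc [5, 4, 3, 2, 1, 0, 5, 6, 7, 8, 9, 5, 10, 11] 17 165785 355 = true := by decide +kernel

theorem chk_pow67_31_3 : tab.minOKc [5, 4, 3, 2, 1, 0, 5, 6, 7, 8, 9, 5, 10, 11] 17 166140 355 = true := by decide +kernel

theorem chk_pow67_31_4 : tab.minOKc [5, 4, 3, 2, 1, 0, 5, 6, 7, 8, 9, 5, 10, 11] 17 166495 355 = true := by decide +kernel

theorem chk_pow67_31_5 : tab.minOKc [5, 4, 3, 2, 1, 0, 5, 6, 7, 8, 9, 5, 10, 11] 17 166850 355 = true := by decide +kernel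

theorem chk_pow67_31_6 : tab.minOKc [5, 4, 3, 2, 1, 0, 5, 6, 7, 8, 9, 5, 10, 11] 17 167205 355 = true := by decide +kernel

theorem chk_pow67_31_7 : tab.minOKc [5, 4, 3, 2, 1, 0, 5, 6, 7, 8, 9, 5, 10, 11] 17 167560 355 = true := by decide +kernel

theorem chk_pow67_31_8 : tab.minOKc [5, 4, 3, 2, 1, 0, 5, 6, 7, 8, 9, 5, 10, 11] 17 167915 355 = true := by decide +kernel

theorem chk_pow67_31_9 : tab.minOKc [5, 4, 3, 2, 1, 0, 5, 6, 7, 8, 9, 5, 10, 11] 17 168270 355 = true := by decide +kernel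

theorem chk_pow67_31_10 : tab.minOKc [5, 4, 3, 2, 1, 0, 5, 6, 7, 8, 9, 5, 10, 11] 17 168625 355 = true := by decide +kernel

theorem chk_pow67_31_11 : tab.minOKc [5, 4, 3, 2, 1, 0, 5, 6, 7, 8, 9, 5, 10, 11] 17 168980 355 = true := by decide +kernel

theorem chk_pow67_31_12 : tab.minOKc [5, 4, 3, 2, 1, 0, 5, 6, 7, 8, 9, 5, 10, 11] 17 169335 355 = true := by decide +kernel

theorem chk_pow67_31_13 : tab.minOKc [5, 4, 3, 2, 1, 0, 5, 6, 7, 8, 9, 5, 10, 11] 17 169690 355 = true := by decide +kernel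

theorem chk_pow67_31_14 : tab.minOKc [5, 4, 3, 2, 1, 0, 5, 6, 7, 8, 9, 5, 10, 11] 17 170045 355 = true := by decide +kernel

theorem chk_pow67_31 : tab.minOKc [5, 4, 3, 2, 1, 0, 5, 6, 7, 8, 9, 5, 10, 11] 17 165075 5325 = true := by
  refine tab.minOKc_of_chunks [5, 4, 3, 2, 1, 0, 5, 6, 7, 8, 9, 5, 10, 11] 17 165075 355 15 (by norm_num) ?_
  intro i hi
  interval_cases i
  · exact chk_pow67_31_0
  · exact chk_pow67_31_1
  · exact chk_pow67_31_2
  · exact chk_pow67_31_3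
  · exact chk_pow67_31_4
  · exact chk_pow67_31_5
  · exact chk_pow67_31_6
  · exact chk_pow67_31_7
  · exact chk_pow67_31_8
  · exact chk_pow67_31_9
  · exact chk_pow67_31_10
  · exact chk_pow67_31_11
  · exact chk_pow67_31_12
  · exact chk_pow67_31_13
  · exact chk_pow67_31_14

end Cfsg.Agent.Lib.Helper6.Fi24TC
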