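import Cfsg.Agent.Lib.Helper6.Fi24TCData
import Cfsg.Agent.Lib.Helper6.TCRel3
import Cfsg.Agent.Lib.Helper6.Fi24TCRel169

/-! # Fi24: the kernel check of a part of the relators on the coset table -/

set_option autoImplicit false

namespace Cfsg.Agent.Lib.Helper6.Fi24TC

open Cfsg.Agent.Lib.Helper6.TC

theorem chk_pow67_32_0 : tab.minOKc [5, 4, 3, 2, 1, 0, 5, 6, 7, 8, 9, 5, 10, 11] 17 170400 355 = true := by decide +kernel

theorem chk_pow67_32_1 : tab.minOKc [5, 4, 3, 2, 1, 0, 5, 6, 7, 8, 9, 5, 10, 11] 17 170755 355 = true := by decide +kernel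

theorem chk_pow67_32_2 : tab.minOKc [5, 4, 3, 2, 1, 0, 5, 6, 7, 8, 9, 5, 10, 11] 17 171110 355 = true := by decide +kernel

theorem chk_pow67_32_3 : tab.minOKc [5, 4, 3, 2, 1, 0, 5, 6, 7, 8, 9, 5, 10, 11] 17 171465 355 = true := by decide +kernel

theorem chk_pow67_32_4 : tab.minOKc [5, 4, 3, 2, 1, 0, 5, 6, 7, 8, 9, 5, 10, 11] 17 171820 355 = true := by decide +kernel

theorem chk_pow67_32_5 : tab.minOKc [5, 4, 3, 2, 1, 0, 5, 6, 7, 8, 9, 5, 10, 11] 17 172175 355 = true := by decide +kernel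

theorem chk_pow67_32_6 : tab.minOKc [5, 4, 3, 2, 1, 0, 5, 6, 7, 8, 9, 5, 10, 11] 17 172530 355 = true := by decide +kernel

theorem chk_pow67_32_7 : tab.minOKc [5, 4, 3, 2, 1, 0, 5, 6, 7, 8, 9, 5, 10, 11] 17 172885 355 = true := by decide +kernel

theorem chk_pow67_32_8 : tab.minOKc [5, 4, 3, 2, 1, 0, 5, 6, 7, 8, 9, 5, 10, 11] 17 173240 355 = true := by decide +kernel

theorem chk_pow67_32_9 : tab.minOKc [5, 4, 3, 2, 1, 0, 5, 6, 7, 8, 9, 5, 10, 11] 17 173595 355 = true := by decide +kernel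

theorem chk_pow67_32_10 : tab.minOKc [5, 4, 3, 2, 1, 0, 5, 6, 7, 8, 9, 5, 10, 11] 17 173950 355 = true := by decide +kernel

theorem chk_pow67_32_11 : tab.minOKc [5, 4, 3, 2, 1, 0, 5, 6, 7, 8, 9, 5, 10, 11] 17 174305 355 = true := by decide +kernel

theorem chk_pow67_32_12 : tab.minOKc [5, 4, 3, 2, 1, 0, 5, 6, 7, 8, 9, 5, 10, 11] 17 174660 355 = true := by decide +kernel

theorem chk_pow67_32_13 : tab.minOKc [5, 4, 3, 2, 1, 0, 5, 6, 7, 8, 9, 5, 10, 11] 17 175015 355 = true := by decide +kernel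

theorem chk_pow67_32_14 : tab.minOKc [5, 4, 3, 2, 1, 0, 5, 6, 7, 8, 9, 5, 10, 11] 17 175370 355 = true := by decide +kernel

theorem chk_pow67_32 : tab.minOKc [5, 4, 3, 2, 1, 0, 5, 6, 7, 8, 9, 5, 10, 11] 17 170400 5325 = true := by
  refine tab.minOKc_of_chunks [5, 4, 3, 2, 1, 0, 5, 6, 7, 8, 9, 5, 10, 11] 17 170400 355 15 (by norm_num) ?_
  intro i hi
  interval_cases i
  · exact chk_pow67_32_0
  · exact chk_pow67_32_1
  · exact chk_pow67_32_2
  · exact chk_pow67_32_3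
  · exact chk_pow67_32_4
  · exact chk_pow67_32_5
  · exact chk_pow67_32_6
  · exact chk_pow67_32_7
  · exact chk_pow67_32_8
  · exact chk_pow67_32_9
  · exact chk_pow67_32_10
  · exact chk_pow67_32_11
  · exact chk_pow67_32_12
  · exact chk_pow67_32_13
  · exact chk_pow67_32_14

theorem chk_pow67_33_0 : tab.minOKc [5, 4, 3, 2, 1, 0, 5, 6, 7, 8, 9, 5, 10, 11] 17 175725 355 = true := by decide +kernel

theorem chk_pow67_33_1 : tab.minOKc [5, 4, 3, 2, 1, 0, 5, 6, 7, 8, 9, 5, 10, 11] 17 176080 355 = true := by decide +kernel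

theorem chk_pow67_33_2 : tab.minOKc [5, 4, 3, 2, 1, 0, 5, 6, 7, 8, 9, 5, 10, 11] 17 176435 355 = true := by decide +kernel

theorem chk_pow67_33_3 : tab.minOKc [5, 4, 3, 2, 1, 0, 5, 6, 7, 8, 9, 5, 10, 11] 17 176790 355 = true := by decide +kernel

theorem chk_pow67_33_4 : tab.minOKc [5, 4, 3, 2, 1, 0, 5, 6, 7, 8, 9, 5, 10, 11] 17 177145 355 = true := by decide +kernel

theorem chk_pow67_33_5 : tab.minOKc [5, 4, 3, 2, 1, 0, 5, 6, 7, 8, 9, 5, 10, 11] 17 177500 355 = true := by decide +kernel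

theorem chk_pow67_33_6 : tab.minOKc [5, 4, 3, 2, 1, 0, 5, 6, 7, 8, 9, 5, 10, 11] 17 177855 355 = true := by decide +kernel

theorem chk_pow67_33_7 : tab.minOKc [5, 4, 3, 2, 1, 0, 5, 6, 7, 8, 9, 5, 10, 11] 17 178210 355 = true := by decide +kernel

theorem chk_pow67_33_8 : tab.minOKc [5, 4, 3, 2, 1, 0, 5, 6, 7, 8, 9, 5, 10, 11] 17 178565 355 = true := by decide +kernel

theorem chk_pow67_33_9 : tab.minOKc [5, 4, 3, 2, 1, 0, 5, 6, 7, 8, 9, 5, 10, 11] 17 178920 355 = true := by decide +kernel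

theorem chk_pow67_33_10 : tab.minOKc [5, 4, 3, 2, 1, 0, 5, 6, 7, 8, 9, 5, 10, 11] 17 179275 355 = true := by decide +kernel

theorem chk_pow67_33_11 : tab.minOKc [5, 4, 3, 2, 1, 0, 5, 6, 7, 8, 9, 5, 10, 11] 17 179630 355 = true := by decide +kernel

theorem chk_pow67_33_12 : tab.minOKc [5, 4, 3, 2, 1, 0, 5, 6, 7, 8, 9, 5, 10, 11] 17 179985 355 = true := by decide +kernel

theorem chk_pow67_33_13 : tab.minOKc [5, 4, 3, 2, 1, 0, 5, 6, 7, 8, 9, 5, 10, 11] 17 180340 355 = true := by decide +kernel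

theorem chk_pow67_33_14 : tab.minOKc [5, 4, 3, 2, 1, 0, 5, 6, 7, 8, 9, 5, 10, 11] 17 180695 355 = true := by decide +kernel

theorem chk_pow67_33 : tab.minOKc [5, 4, 3, 2, 1, 0, 5, 6, 7, 8, 9, 5, 10, 11] 17 175725 5325 = true := by
  refine tab.minOKc_of_chunks [5, 4, 3, 2, 1, 0, 5, 6, 7, 8, 9, 5, 10, 11] 17 175725 355 15 (by norm_num) ?_
  intro i hi
  interval_cases i
  · exact chk_pow67_33_0
  · exact chk_pow67_33_1
  · exact chk_pow67_33_2
  · exact chk_pow67_33_3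
  · exact chk_pow67_33_4
  · exact chk_pow67_33_5
  · exact chk_pow67_33_6
  · exact chk_pow67_33_7
  · exact chk_pow67_33_8
  · exact chk_pow67_33_9
  · exact chk_pow67_33_10
  · exact chk_pow67_33_11
  · exact chk_pow67_33_12
  · exact chk_pow67_33_13
  · exact chk_pow67_33_14

end Cfsg.Agent.Lib.Helper6.Fi24TC
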