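import Cfsg.Agent.Lib.Helper6.Fi24TCData
import Cfsg.Agent.Lib.Helper6.TCRel3
import Cfsg.Agent.Lib.Helper6.Fi24TCRel170

/-! # Fi24: the kernel check of a part of the relators on the coset table -/

set_option autoImplicit false

namespace Cfsg.Agent.Lib.Helper6.Fi24TC

open Cfsg.Agent.Lib.Helper6.TC

theorem chk_pow67_34_0 : tab.minOKc [5, 4, 3, 2, 1, 0, 5, 6, 7, 8, 9, 5, 10, 11] 17 181050 355 = true := by decide +kernel

theorem chk_pow67_34_1 : tab.minOKc [5, 4, 3, 2, 1, 0, 5, 6, 7, 8, 9, 5, 10, 11] 17 181405 355 = true := by decide +kernel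

theorem chk_pow67_34_2 : tab.minOKc [5, 4, 3, 2, 1, 0, 5, 6, 7, 8, 9, 5, 10, 11] 17 181760 355 = true := by decide +kernel

theorem chk_pow67_34_3 : tab.minOKc [5, 4, 3, 2, 1, 0, 5, 6, 7, 8, 9, 5, 10, 11] 17 182115 355 = true := by decide +kernel

theorem chk_pow67_34_4 : tab.minOKc [5, 4, 3, 2, 1, 0, 5, 6, 7, 8, 9, 5, 10, 11] 17 182470 355 = true := by decide +kernel

theorem chk_pow67_34_5 : tab.minOKc [5, 4, 3, 2, 1, 0, 5, 6, 7, 8, 9, 5, 10, 11] 17 182825 355 = true := by decide +kernel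

theorem chk_pow67_34_6 : tab.minOKc [5, 4, 3, 2, 1, 0, 5, 6, 7, 8, 9, 5, 10, 11] 17 183180 355 = true := by decide +kernel

theorem chk_pow67_34_7 : tab.minOKc [5, 4, 3, 2, 1, 0, 5, 6, 7, 8, 9, 5, 10, 11] 17 183535 355 = true := by decide +kernel

theorem chk_pow67_34_8 : tab.minOKc [5, 4, 3, 2, 1, 0, 5, 6, 7, 8, 9, 5, 10, 11] 17 183890 355 = true := by decide +kernel

theorem chk_pow67_34_9 : tab.minOKc [5, 4, 3, 2, 1, 0, 5, 6, 7, 8, 9, 5, 10, 11] 17 184245 355 = true := by decide +kernel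

theorem chk_pow67_34_10 : tab.minOKc [5, 4, 3, 2, 1, 0, 5, 6, 7, 8, 9, 5, 10, 11] 17 184600 355 = true := by decide +kernel

theorem chk_pow67_34_11 : tab.minOKc [5, 4, 3, 2, 1, 0, 5, 6, 7, 8, 9, 5, 10, 11] 17 184955 355 = true := by decide +kernel

theorem chk_pow67_34_12 : tab.minOKc [5, 4, 3, 2, 1, 0, 5, 6, 7, 8, 9, 5, 10, 11] 17 185310 355 = true := by decide +kernel

theorem chk_pow67_34_13 : tab.minOKc [5, 4, 3, 2, 1, 0, 5, 6, 7, 8, 9, 5, 10, 11] 17 185665 355 = true := by decide +kernel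

theorem chk_pow67_34_14 : tab.minOKc [5, 4, 3, 2, 1, 0, 5, 6, 7, 8, 9, 5, 10, 11] 17 186020 355 = true := by decide +kernel

theorem chk_pow67_34 : tab.minOKc [5, 4, 3, 2, 1, 0, 5, 6, 7, 8, 9, 5, 10, 11] 17 181050 5325 = true := by
  refine tab.minOKc_of_chunks [5, 4, 3, 2, 1, 0, 5, 6, 7, 8, 9, 5, 10, 11] 17 181050 355 15 (by norm_num) ?_
  intro i hi
  interval_cases i
  · exact chk_pow67_34_0
  · exact chk_pow67_34_1
  · exact chk_pow67_34_2
  · exact chk_pow67_34_3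
  · exact chk_pow67_34_4
  · exact chk_pow67_34_5
  · exact chk_pow67_34_6
  · exact chk_pow67_34_7
  · exact chk_pow67_34_8
  · exact chk_pow67_34_9
  · exact chk_pow67_34_10
  · exact chk_pow67_34_11
  · exact chk_pow67_34_12
  · exact chk_pow67_34_13
  · exact chk_pow67_34_14

theorem chk_pow67_35_0 : tab.minOKc [5, 4, 3, 2, 1, 0, 5, 6, 7, 8, 9, 5, 10, 11] 17 186375 355 = true := by decide +kernel

theorem chk_pow67_35_1 : tab.minOKc [5, 4, 3, 2, 1, 0, 5, 6, 7, 8, 9, 5, 10, 11] 17 186730 355 = true := by decide +kernel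

theorem chk_pow67_35_2 : tab.minOKc [5, 4, 3, 2, 1, 0, 5, 6, 7, 8, 9, 5, 10, 11] 17 187085 355 = true := by decide +kernel

theorem chk_pow67_35_3 : tab.minOKc [5, 4, 3, 2, 1, 0, 5, 6, 7, 8, 9, 5, 10, 11] 17 187440 355 = true := by decide +kernel

theorem chk_pow67_35_4 : tab.minOKc [5, 4, 3, 2, 1, 0, 5, 6, 7, 8, 9, 5, 10, 11] 17 187795 355 = true := by decide +kernel

theorem chk_pow67_35_5 : tab.minOKc [5, 4, 3, 2, 1, 0, 5, 6, 7, 8, 9, 5, 10, 11] 17 188150 355 = true := by decide +kernel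

theorem chk_pow67_35_6 : tab.minOKc [5, 4, 3, 2, 1, 0, 5, 6, 7, 8, 9, 5, 10, 11] 17 188505 355 = true := by decide +kernel

theorem chk_pow67_35_7 : tab.minOKc [5, 4, 3, 2, 1, 0, 5, 6, 7, 8, 9, 5, 10, 11] 17 188860 355 = true := by decide +kernel

theorem chk_pow67_35_8 : tab.minOKc [5, 4, 3, 2, 1, 0, 5, 6, 7, 8, 9, 5, 10, 11] 17 189215 355 = true := by decide +kernel

theorem chk_pow67_35_9 : tab.minOKc [5, 4, 3, 2, 1, 0, 5, 6, 7, 8, 9, 5, 10, 11] 17 189570 355 = true := by decide +kernel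

theorem chk_pow67_35_10 : tab.minOKc [5, 4, 3, 2, 1, 0, 5, 6, 7, 8, 9, 5, 10, 11] 17 189925 355 = true := by decide +kernel

theorem chk_pow67_35_11 : tab.minOKc [5, 4, 3, 2, 1, 0, 5, 6, 7, 8, 9, 5, 10, 11] 17 190280 355 = true := by decide +kernel

theorem chk_pow67_35_12 : tab.minOKc [5, 4, 3, 2, 1, 0, 5, 6, 7, 8, 9, 5, 10, 11] 17 190635 355 = true := by decide +kernel

theorem chk_pow67_35_13 : tab.minOKc [5, 4, 3, 2, 1, 0, 5, 6, 7, 8, 9, 5, 10, 11] 17 190990 355 = true := by decide +kernel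

theorem chk_pow67_35_14 : tab.minOKc [5, 4, 3, 2, 1, 0, 5, 6, 7, 8, 9, 5, 10, 11] 17 191345 355 = true := by decide +kernel

theorem chk_pow67_35 : tab.minOKc [5, 4, 3, 2, 1, 0, 5, 6, 7, 8, 9, 5, 10, 11] 17 186375 5325 = true := by
  refine tab.minOKc_of_chunks [5, 4, 3, 2, 1, 0, 5, 6, 7, 8, 9, 5, 10, 11] 17 186375 355 15 (by norm_num) ?_
  intro i hi
  interval_cases i
  · exact chk_pow67_35_0
  · exact chk_pow67_35_1
  · exact chk_pow67_35_2
  · exact chk_pow67_35_3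
  · exact chk_pow67_35_4
  · exact chk_pow67_35_5
  · exact chk_pow67_35_6
  · exact chk_pow67_35_7
  · exact chk_pow67_35_8
  · exact chk_pow67_35_9
  · exact chk_pow67_35_10
  · exact chk_pow67_35_11
  · exact chk_pow67_35_12
  · exact chk_pow67_35_13
  · exact chk_pow67_35_14

end Cfsg.Agent.Lib.Helper6.Fi24TC
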