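import Cfsg.Agent.Lib.Helper6.Fi24TCData
import Cfsg.Agent.Lib.Helper6.TCRel3
import Cfsg.Agent.Lib.Helper6.Fi24TCRel171

/-! # Fi24: the kernel check of a part of the relators on the coset table -/

set_option autoImplicit false

namespace Cfsg.Agent.Lib.Helper6.Fi24TC

open Cfsg.Agent.Lib.Helper6.TC

theorem chk_pow67_36_0 : tab.minOKc [5, 4, 3, 2, 1, 0, 5, 6, 7, 8, 9, 5, 10, 11] 17 191700 355 = true := by decide +kernel

theorem chk_pow67_36_1 : tab.minOKc [5, 4, 3, 2, 1, 0, 5, 6, 7, 8, 9, 5, 10, 11] 17 192055 355 = true := by decide +kernel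

theorem chk_pow67_36_2 : tab.minOKc [5, 4, 3, 2, 1, 0, 5, 6, 7, 8, 9, 5, 10, 11] 17 192410 355 = true := by decide +kernel

theorem chk_pow67_36_3 : tab.minOKc [5, 4, 3, 2, 1, 0, 5, 6, 7, 8, 9, 5, 10, 11] 17 192765 355 = true := by decide +kernel

theorem chk_pow67_36_4 : tab.minOKc [5, 4, 3, 2, 1, 0, 5, 6, 7, 8, 9, 5, 10, 11] 17 193120 355 = true := by decide +kernel

theorem chk_pow67_36_5 : tab.minOKc [5, 4, 3, 2, 1, 0, 5, 6, 7, 8, 9, 5, 10, 11] 17 193475 355 = true := by decide +kernel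

theorem chk_pow67_36_6 : tab.minOKc [5, 4, 3, 2, 1, 0, 5, 6, 7, 8, 9, 5, 10, 11] 17 193830 355 = true := by decide +kernel

theorem chk_pow67_36_7 : tab.minOKc [5, 4, 3, 2, 1, 0, 5, 6, 7, 8, 9, 5, 10, 11] 17 194185 355 = true := by decide +kernel

theorem chk_pow67_36_8 : tab.minOKc [5, 4, 3, 2, 1, 0, 5, 6, 7, 8, 9, 5, 10, 11] 17 194540 355 = true := by decide +kernel

theorem chk_pow67_36_9 : tab.minOKc [5, 4, 3, 2, 1, 0, 5, 6, 7, 8, 9, 5, 10, 11] 17 194895 355 = true := by decide +kernel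

theorem chk_pow67_36_10 : tab.minOKc [5, 4, 3, 2, 1, 0, 5, 6, 7, 8, 9, 5, 10, 11] 17 195250 355 = true := by decide +kernel

theorem chk_pow67_36_11 : tab.minOKc [5, 4, 3, 2, 1, 0, 5, 6, 7, 8, 9, 5, 10, 11] 17 195605 355 = true := by decide +kernel

theorem chk_pow67_36_12 : tab.minOKc [5, 4, 3, 2, 1, 0, 5, 6, 7, 8, 9, 5, 10, 11] 17 195960 355 = true := by decide +kernel

theorem chk_pow67_36_13 : tab.minOKc [5, 4, 3, 2, 1, 0, 5, 6, 7, 8, 9, 5, 10, 11] 17 196315 355 = true := by decide +kernel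

theorem chk_pow67_36_14 : tab.minOKc [5, 4, 3, 2, 1, 0, 5, 6, 7, 8, 9, 5, 10, 11] 17 196670 355 = true := by decide +kernel

theorem chk_pow67_36 : tab.minOKc [5, 4, 3, 2, 1, 0, 5, 6, 7, 8, 9, 5, 10, 11] 17 191700 5325 = true := by
  refine tab.minOKc_of_chunks [5, 4, 3, 2, 1, 0, 5, 6, 7, 8, 9, 5, 10, 11] 17 191700 355 15 (by norm_num) ?_
  intro i hi
  interval_cases i
  · exact chk_pow67_36_0
  · exact chk_pow67_36_1
  · exact chk_pow67_36_2
  · exact chk_pow67_36_3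
  · exact chk_pow67_36_4
  · exact chk_pow67_36_5
  · exact chk_pow67_36_6
  · exact chk_pow67_36_7
  · exact chk_pow67_36_8
  · exact chk_pow67_36_9
  · exact chk_pow67_36_10
  · exact chk_pow67_36_11
  · exact chk_pow67_36_12
  · exact chk_pow67_36_13
  · exact chk_pow67_36_14

theorem chk_pow67_37_0 : tab.minOKc [5, 4, 3, 2, 1, 0, 5, 6, 7, 8, 9, 5, 10, 11] 17 197025 355 = true := by decide +kernel

theorem chk_pow67_37_1 : tab.minOKc [5, 4, 3, 2, 1, 0, 5, 6, 7, 8, 9, 5, 10, 11] 17 197380 355 = true := by decide +kernel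

theorem chk_pow67_37_2 : tab.minOKc [5, 4, 3, 2, 1, 0, 5, 6, 7, 8, 9, 5, 10, 11] 17 197735 355 = true := by decide +kernel

theorem chk_pow67_37_3 : tab.minOKc [5, 4, 3, 2, 1, 0, 5, 6, 7, 8, 9, 5, 10, 11] 17 198090 355 = true := by decide +kernel

theorem chk_pow67_37_4 : tab.minOKc [5, 4, 3, 2, 1, 0, 5, 6, 7, 8, 9, 5, 10, 11] 17 198445 355 = true := by decide +kernel

theorem chk_pow67_37_5 : tab.minOKc [5, 4, 3, 2, 1, 0, 5, 6, 7, 8, 9, 5, 10, 11] 17 198800 355 = true := by decide +kernel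

theorem chk_pow67_37_6 : tab.minOKc [5, 4, 3, 2, 1, 0, 5, 6, 7, 8, 9, 5, 10, 11] 17 199155 355 = true := by decide +kernel

theorem chk_pow67_37_7 : tab.minOKc [5, 4, 3, 2, 1, 0, 5, 6, 7, 8, 9, 5, 10, 11] 17 199510 355 = true := by decide +kernel

theorem chk_pow67_37_8 : tab.minOKc [5, 4, 3, 2, 1, 0, 5, 6, 7, 8, 9, 5, 10, 11] 17 199865 355 = true := by decide +kernel

theorem chk_pow67_37_9 : tab.minOKc [5, 4, 3, 2, 1, 0, 5, 6, 7, 8, 9, 5, 10, 11] 17 200220 355 = true := by decide +kernel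

theorem chk_pow67_37_10 : tab.minOKc [5, 4, 3, 2, 1, 0, 5, 6, 7, 8, 9, 5, 10, 11] 17 200575 355 = true := by decide +kernel

theorem chk_pow67_37_11 : tab.minOKc [5, 4, 3, 2, 1, 0, 5, 6, 7, 8, 9, 5, 10, 11] 17 200930 355 = true := by decide +kernel

theorem chk_pow67_37_12 : tab.minOKc [5, 4, 3, 2, 1, 0, 5, 6, 7, 8, 9, 5, 10, 11] 17 201285 355 = true := by decide +kernel

theorem chk_pow67_37_13 : tab.minOKc [5, 4, 3, 2, 1, 0, 5, 6, 7, 8, 9, 5, 10, 11] 17 201640 355 = true := by decide +kernel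

theorem chk_pow67_37_14 : tab.minOKc [5, 4, 3, 2, 1, 0, 5, 6, 7, 8, 9, 5, 10, 11] 17 201995 355 = true := by decide +kernel

theorem chk_pow67_37 : tab.minOKc [5, 4, 3, 2, 1, 0, 5, 6, 7, 8, 9, 5, 10, 11] 17 197025 5325 = true := by
  refine tab.minOKc_of_chunks [5, 4, 3, 2, 1, 0, 5, 6, 7, 8, 9, 5, 10, 11] 17 197025 355 15 (by norm_num) ?_
  intro i hi
  interval_cases i
  · exact chk_pow67_37_0
  · exact chk_pow67_37_1
  · exact chk_pow67_37_2
  · exact chk_pow67_37_3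
  · exact chk_pow67_37_4
  · exact chk_pow67_37_5
  · exact chk_pow67_37_6
  · exact chk_pow67_37_7
  · exact chk_pow67_37_8
  · exact chk_pow67_37_9
  · exact chk_pow67_37_10
  · exact chk_pow67_37_11
  · exact chk_pow67_37_12
  · exact chk_pow67_37_13
  · exact chk_pow67_37_14

end Cfsg.Agent.Lib.Helper6.Fi24TC
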