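import Cfsg.Agent.Lib.Helper6.Fi24TCData
import Cfsg.Agent.Lib.Helper6.TCRel3
import Cfsg.Agent.Lib.Helper6.Fi24TCRel172

/-! # Fi24: the kernel check of a part of the relators on the coset table -/

set_option autoImplicit false

namespace Cfsg.Agent.Lib.Helper6.Fi24TC

open Cfsg.Agent.Lib.Helper6.TC

theorem chk_pow67_38_0 : tab.minOKc [5, 4, 3, 2, 1, 0, 5, 6, 7, 8, 9, 5, 10, 11] 17 202350 355 = true := by decide +kernel

theorem chk_pow67_38_1 : tab.minOKc [5, 4, 3, 2, 1, 0, 5, 6, 7, 8, 9, 5, 10, 11] 17 202705 355 = true := by decide +kernel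

theorem chk_pow67_38_2 : tab.minOKc [5, 4, 3, 2, 1, 0, 5, 6, 7, 8, 9, 5, 10, 11] 17 203060 355 = true := by decide +kernel

theorem chk_pow67_38_3 : tab.minOKc [5, 4, 3, 2, 1, 0, 5, 6, 7, 8, 9, 5, 10, 11] 17 203415 355 = true := by decide +kernel

theorem chk_pow67_38_4 : tab.minOKc [5, 4, 3, 2, 1, 0, 5, 6, 7, 8, 9, 5, 10, 11] 17 203770 355 = true := by decide +kernel

theorem chk_pow67_38_5 : tab.minOKc [5, 4, 3, 2, 1, 0, 5, 6, 7, 8, 9, 5, 10, 11] 17 204125 355 = true := by decide +kernel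

theorem chk_pow67_38_6 : tab.minOKc [5, 4, 3, 2, 1, 0, 5, 6, 7, 8, 9, 5, 10, 11] 17 204480 355 = true := by decide +kernel

theorem chk_pow67_38_7 : tab.minOKc [5, 4, 3, 2, 1, 0, 5, 6, 7, 8, 9, 5, 10, 11] 17 204835 355 = true := by decide +kernel

theorem chk_pow67_38_8 : tab.minOKc [5, 4, 3, 2, 1, 0, 5, 6, 7, 8, 9, 5, 10, 11] 17 205190 355 = true := by decide +kernel

theorem chk_pow67_38_9 : tab.minOKc [5, 4, 3, 2, 1, 0, 5, 6, 7, 8, 9, 5, 10, 11] 17 205545 355 = true := by decide +kernel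

theorem chk_pow67_38_10 : tab.minOKc [5, 4, 3, 2, 1, 0, 5, 6, 7, 8, 9, 5, 10, 11] 17 205900 355 = true := by decide +kernel

theorem chk_pow67_38_11 : tab.minOKc [5, 4, 3, 2, 1, 0, 5, 6, 7, 8, 9, 5, 10, 11] 17 206255 355 = true := by decide +kernel

theorem chk_pow67_38_12 : tab.minOKc [5, 4, 3, 2, 1, 0, 5, 6, 7, 8, 9, 5, 10, 11] 17 206610 355 = true := by decide +kernel

theorem chk_pow67_38_13 : tab.minOKc [5, 4, 3, 2, 1, 0, 5, 6, 7, 8, 9, 5, 10, 11] 17 206965 355 = true := by decide +kernel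

theorem chk_pow67_38_14 : tab.minOKc [5, 4, 3, 2, 1, 0, 5, 6, 7, 8, 9, 5, 10, 11] 17 207320 355 = true := by decide +kernel

theorem chk_pow67_38 : tab.minOKc [5, 4, 3, 2, 1, 0, 5, 6, 7, 8, 9, 5, 10, 11] 17 202350 5325 = true := by
  refine tab.minOKc_of_chunks [5, 4, 3, 2, 1, 0, 5, 6, 7, 8, 9, 5, 10, 11] 17 202350 355 15 (by norm_num) ?_
  intro i hi
  interval_cases i
  · exact chk_pow67_38_0
  · exact chk_pow67_38_1
  · exact chk_pow67_38_2
  · exact chk_pow67_38_3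
  · exact chk_pow67_38_4
  · exact chk_pow67_38_5
  · exact chk_pow67_38_6
  · exact chk_pow67_38_7
  · exact chk_pow67_38_8
  · exact chk_pow67_38_9
  · exact chk_pow67_38_10
  · exact chk_pow67_38_11
  · exact chk_pow67_38_12
  · exact chk_pow67_38_13
  · exact chk_pow67_38_14

theorem chk_pow67_39_0 : tab.minOKc [5, 4, 3, 2, 1, 0, 5, 6, 7, 8, 9, 5, 10, 11] 17 207675 355 = true := by decide +kernel

theorem chk_pow67_39_1 : tab.minOKc [5, 4, 3, 2, 1, 0, 5, 6, 7, 8, 9, 5, 10, 11] 17 208030 355 = true := by decide +kernel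

theorem chk_pow67_39_2 : tab.minOKc [5, 4, 3, 2, 1, 0, 5, 6, 7, 8, 9, 5, 10, 11] 17 208385 355 = true := by decide +kernel

theorem chk_pow67_39_3 : tab.minOKc [5, 4, 3, 2, 1, 0, 5, 6, 7, 8, 9, 5, 10, 11] 17 208740 355 = true := by decide +kernel

theorem chk_pow67_39_4 : tab.minOKc [5, 4, 3, 2, 1, 0, 5, 6, 7, 8, 9, 5, 10, 11] 17 209095 355 = true := by decide +kernel

theorem chk_pow67_39_5 : tab.minOKc [5, 4, 3, 2, 1, 0, 5, 6, 7, 8, 9, 5, 10, 11] 17 209450 355 = true := by decide +kernel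

theorem chk_pow67_39_6 : tab.minOKc [5, 4, 3, 2, 1, 0, 5, 6, 7, 8, 9, 5, 10, 11] 17 209805 355 = true := by decide +kernel

theorem chk_pow67_39_7 : tab.minOKc [5, 4, 3, 2, 1, 0, 5, 6, 7, 8, 9, 5, 10, 11] 17 210160 355 = true := by decide +kernel

theorem chk_pow67_39_8 : tab.minOKc [5, 4, 3, 2, 1, 0, 5, 6, 7, 8, 9, 5, 10, 11] 17 210515 355 = true := by decide +kernel

theorem chk_pow67_39_9 : tab.minOKc [5, 4, 3, 2, 1, 0, 5, 6, 7, 8, 9, 5, 10, 11] 17 210870 355 = true := by decide +kernel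

theorem chk_pow67_39_10 : tab.minOKc [5, 4, 3, 2, 1, 0, 5, 6, 7, 8, 9, 5, 10, 11] 17 211225 355 = true := by decide +kernel

theorem chk_pow67_39_11 : tab.minOKc [5, 4, 3, 2, 1, 0, 5, 6, 7, 8, 9, 5, 10, 11] 17 211580 355 = true := by decide +kernel

theorem chk_pow67_39_12 : tab.minOKc [5, 4, 3, 2, 1, 0, 5, 6, 7, 8, 9, 5, 10, 11] 17 211935 355 = true := by decide +kernel

theorem chk_pow67_39_13 : tab.minOKc [5, 4, 3, 2, 1, 0, 5, 6, 7, 8, 9, 5, 10, 11] 17 212290 355 = true := by decide +kernel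

theorem chk_pow67_39_14 : tab.minOKc [5, 4, 3, 2, 1, 0, 5, 6, 7, 8, 9, 5, 10, 11] 17 212645 355 = true := by decide +kernel

theorem chk_pow67_39 : tab.minOKc [5, 4, 3, 2, 1, 0, 5, 6, 7, 8, 9, 5, 10, 11] 17 207675 5325 = true := by
  refine tab.minOKc_of_chunks [5, 4, 3, 2, 1, 0, 5, 6, 7, 8, 9, 5, 10, 11] 17 207675 355 15 (by norm_num) ?_
  intro i hi
  interval_cases i
  · exact chk_pow67_39_0
  · exact chk_pow67_39_1
  · exact chk_pow67_39_2
  · exact chk_pow67_39_3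
  · exact chk_pow67_39_4
  · exact chk_pow67_39_5
  · exact chk_pow67_39_6
  · exact chk_pow67_39_7
  · exact chk_pow67_39_8
  · exact chk_pow67_39_9
  · exact chk_pow67_39_10
  · exact chk_pow67_39_11
  · exact chk_pow67_39_12
  · exact chk_pow67_39_13
  · exact chk_pow67_39_14

end Cfsg.Agent.Lib.Helper6.Fi24TC
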