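import Cfsg.Agent.Lib.Helper6.Fi24TCData
import Cfsg.Agent.Lib.Helper6.TCRel3
import Cfsg.Agent.Lib.Helper6.Fi24TCRel173

/-! # Fi24: the kernel check of a part of the relators on the coset table -/

set_option autoImplicit false

namespace Cfsg.Agent.Lib.Helper6.Fi24TC

open Cfsg.Agent.Lib.Helper6.TC

theorem chk_pow67_40_0 : tab.minOKc [5, 4, 3, 2, 1, 0, 5, 6, 7, 8, 9, 5, 10, 11] 17 213000 355 = true := by decide +kernel

theorem chk_pow67_40_1 : tab.minOKc [5, 4, 3, 2, 1, 0, 5, 6, 7, 8, 9, 5, 10, 11] 17 213355 355 = true := by decide +kernel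

theorem chk_pow67_40_2 : tab.minOKc [5, 4, 3, 2, 1, 0, 5, 6, 7, 8, 9, 5, 10, 11] 17 213710 355 = true := by decide +kernel

theorem chk_pow67_40_3 : tab.minOKc [5, 4, 3, 2, 1, 0, 5, 6, 7, 8, 9, 5, 10, 11] 17 214065 355 = true := by decide +kernel

theorem chk_pow67_40_4 : tab.minOKc [5, 4, 3, 2, 1, 0, 5, 6, 7, 8, 9, 5, 10, 11] 17 214420 355 = true := by decide +kernel

theorem chk_pow67_40_5 : tab.minOKc [5, 4, 3, 2, 1, 0, 5, 6, 7, 8, 9, 5, 10, 11] 17 214775 355 = true := by decide +kernel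

theorem chk_pow67_40_6 : tab.minOKc [5, 4, 3, 2, 1, 0, 5, 6, 7, 8, 9, 5, 10, 11] 17 215130 355 = true := by decide +kernel

theorem chk_pow67_40_7 : tab.minOKc [5, 4, 3, 2, 1, 0, 5, 6, 7, 8, 9, 5, 10, 11] 17 215485 355 = true := by decide +kernel

theorem chk_pow67_40_8 : tab.minOKc [5, 4, 3, 2, 1, 0, 5, 6, 7, 8, 9, 5, 10, 11] 17 215840 355 = true := by decide +kernel

theorem chk_pow67_40_9 : tab.minOKc [5, 4, 3, 2, 1, 0, 5, 6, 7, 8, 9, 5, 10, 11] 17 216195 355 = true := by decide +kernel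

theorem chk_pow67_40_10 : tab.minOKc [5, 4, 3, 2, 1, 0, 5, 6, 7, 8, 9, 5, 10, 11] 17 216550 355 = true := by decide +kernel

theorem chk_pow67_40_11 : tab.minOKc [5, 4, 3, 2, 1, 0, 5, 6, 7, 8, 9, 5, 10, 11] 17 216905 355 = true := by decide +kernel

theorem chk_pow67_40_12 : tab.minOKc [5, 4, 3, 2, 1, 0, 5, 6, 7, 8, 9, 5, 10, 11] 17 217260 355 = true := by decide +kernel

theorem chk_pow67_40_13 : tab.minOKc [5, 4, 3, 2, 1, 0, 5, 6, 7, 8, 9, 5, 10, 11] 17 217615 355 = true := by decide +kernel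

theorem chk_pow67_40_14 : tab.minOKc [5, 4, 3, 2, 1, 0, 5, 6, 7, 8, 9, 5, 10, 11] 17 217970 355 = true := by decide +kernel

theorem chk_pow67_40 : tab.minOKc [5, 4, 3, 2, 1, 0, 5, 6, 7, 8, 9, 5, 10, 11] 17 213000 5325 = true := by
  refine tab.minOKc_of_chunks [5, 4, 3, 2, 1, 0, 5, 6, 7, 8, 9, 5, 10, 11] 17 213000 355 15 (by norm_num) ?_
  intro i hi
  interval_cases i
  · exact chk_pow67_40_0
  · exact chk_pow67_40_1
  · exact chk_pow67_40_2
  · exact chk_pow67_40_3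
  · exact chk_pow67_40_4
  · exact chk_pow67_40_5
  · exact chk_pow67_40_6
  · exact chk_pow67_40_7
  · exact chk_pow67_40_8
  · exact chk_pow67_40_9
  · exact chk_pow67_40_10
  · exact chk_pow67_40_11
  · exact chk_pow67_40_12
  · exact chk_pow67_40_13
  · exact chk_pow67_40_14

theorem chk_pow67_41_0 : tab.minOKc [5, 4, 3, 2, 1, 0, 5, 6, 7, 8, 9, 5, 10, 11] 17 218325 355 = true := by decide +kernel

theorem chk_pow67_41_1 : tab.minOKc [5, 4, 3, 2, 1, 0, 5, 6, 7, 8, 9, 5, 10, 11] 17 218680 355 = true := by decide +kernel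

theorem chk_pow67_41_2 : tab.minOKc [5, 4, 3, 2, 1, 0, 5, 6, 7, 8, 9, 5, 10, 11] 17 219035 355 = true := by decide +kernel

theorem chk_pow67_41_3 : tab.minOKc [5, 4, 3, 2, 1, 0, 5, 6, 7, 8, 9, 5, 10, 11] 17 219390 355 = true := by decide +kernel

theorem chk_pow67_41_4 : tab.minOKc [5, 4, 3, 2, 1, 0, 5, 6, 7, 8, 9, 5, 10, 11] 17 219745 355 = true := by decide +kernel

theorem chk_pow67_41_5 : tab.minOKc [5, 4, 3, 2, 1, 0, 5, 6, 7, 8, 9, 5, 10, 11] 17 220100 355 = true := by decide +kernel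

theorem chk_pow67_41_6 : tab.minOKc [5, 4, 3, 2, 1, 0, 5, 6, 7, 8, 9, 5, 10, 11] 17 220455 355 = true := by decide +kernel

theorem chk_pow67_41_7 : tab.minOKc [5, 4, 3, 2, 1, 0, 5, 6, 7, 8, 9, 5, 10, 11] 17 220810 355 = true := by decide +kernel

theorem chk_pow67_41_8 : tab.minOKc [5, 4, 3, 2, 1, 0, 5, 6, 7, 8, 9, 5, 10, 11] 17 221165 355 = true := by decide +kernel

theorem chk_pow67_41_9 : tab.minOKc [5, 4, 3, 2, 1, 0, 5, 6, 7, 8, 9, 5, 10, 11] 17 221520 355 = true := by decide +kernel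

theorem chk_pow67_41_10 : tab.minOKc [5, 4, 3, 2, 1, 0, 5, 6, 7, 8, 9, 5, 10, 11] 17 221875 355 = true := by decide +kernel

theorem chk_pow67_41_11 : tab.minOKc [5, 4, 3, 2, 1, 0, 5, 6, 7, 8, 9, 5, 10, 11] 17 222230 355 = true := by decide +kernel

theorem chk_pow67_41_12 : tab.minOKc [5, 4, 3, 2, 1, 0, 5, 6, 7, 8, 9, 5, 10, 11] 17 222585 355 = true := by decide +kernel

theorem chk_pow67_41_13 : tab.minOKc [5, 4, 3, 2, 1, 0, 5, 6, 7, 8, 9, 5, 10, 11] 17 222940 355 = true := by decide +kernel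

theorem chk_pow67_41_14 : tab.minOKc [5, 4, 3, 2, 1, 0, 5, 6, 7, 8, 9, 5, 10, 11] 17 223295 355 = true := by decide +kernel

theorem chk_pow67_41 : tab.minOKc [5, 4, 3, 2, 1, 0, 5, 6, 7, 8, 9, 5, 10, 11] 17 218325 5325 = true := by
  refine tab.minOKc_of_chunks [5, 4, 3, 2, 1, 0, 5, 6, 7, 8, 9, 5, 10, 11] 17 218325 355 15 (by norm_num) ?_
  intro i hi
  interval_cases i
  · exact chk_pow67_41_0
  · exact chk_pow67_41_1
  · exact chk_pow67_41_2
  · exact chk_pow67_41_3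
  · exact chk_pow67_41_4
  · exact chk_pow67_41_5
  · exact chk_pow67_41_6
  · exact chk_pow67_41_7
  · exact chk_pow67_41_8
  · exact chk_pow67_41_9
  · exact chk_pow67_41_10
  · exact chk_pow67_41_11
  · exact chk_pow67_41_12
  · exact chk_pow67_41_13
  · exact chk_pow67_41_14

end Cfsg.Agent.Lib.Helper6.Fi24TC
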