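import Cfsg.Agent.Lib.Helper6.Fi24TCData
import Cfsg.Agent.Lib.Helper6.TCRel3
import Cfsg.Agent.Lib.Helper6.Fi24TCRel174

/-! # Fi24: the kernel check of a part of the relators on the coset table -/

set_option autoImplicit false

namespace Cfsg.Agent.Lib.Helper6.Fi24TC

open Cfsg.Agent.Lib.Helper6.TC

theorem chk_pow67_42_0 : tab.minOKc [5, 4, 3, 2, 1, 0, 5, 6, 7, 8, 9, 5, 10, 11] 17 223650 355 = true := by decide +kernel

theorem chk_pow67_42_1 : tab.minOKc [5, 4, 3, 2, 1, 0, 5, 6, 7, 8, 9, 5, 10, 11] 17 224005 355 = true := by decide +kernel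

theorem chk_pow67_42_2 : tab.minOKc [5, 4, 3, 2, 1, 0, 5, 6, 7, 8, 9, 5, 10, 11] 17 224360 355 = true := by decide +kernel

theorem chk_pow67_42_3 : tab.minOKc [5, 4, 3, 2, 1, 0, 5, 6, 7, 8, 9, 5, 10, 11] 17 224715 355 = true := by decide +kernel

theorem chk_pow67_42_4 : tab.minOKc [5, 4, 3, 2, 1, 0, 5, 6, 7, 8, 9, 5, 10, 11] 17 225070 355 = true := by decide +kernel

theorem chk_pow67_42_5 : tab.minOKc [5, 4, 3, 2, 1, 0, 5, 6, 7, 8, 9, 5, 10, 11] 17 225425 355 = true := by decide +kernel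

theorem chk_pow67_42_6 : tab.minOKc [5, 4, 3, 2, 1, 0, 5, 6, 7, 8, 9, 5, 10, 11] 17 225780 355 = true := by decide +kernel

theorem chk_pow67_42_7 : tab.minOKc [5, 4, 3, 2, 1, 0, 5, 6, 7, 8, 9, 5, 10, 11] 17 226135 355 = true := by decide +kernel

theorem chk_pow67_42_8 : tab.minOKc [5, 4, 3, 2, 1, 0, 5, 6, 7, 8, 9, 5, 10, 11] 17 226490 355 = true := by decide +kernel

theorem chk_pow67_42_9 : tab.minOKc [5, 4, 3, 2, 1, 0, 5, 6, 7, 8, 9, 5, 10, 11] 17 226845 355 = true := by decide +kernel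

theorem chk_pow67_42_10 : tab.minOKc [5, 4, 3, 2, 1, 0, 5, 6, 7, 8, 9, 5, 10, 11] 17 227200 355 = true := by decide +kernel

theorem chk_pow67_42_11 : tab.minOKc [5, 4, 3, 2, 1, 0, 5, 6, 7, 8, 9, 5, 10, 11] 17 227555 355 = true := by decide +kernel

theorem chk_pow67_42_12 : tab.minOKc [5, 4, 3, 2, 1, 0, 5, 6, 7, 8, 9, 5, 10, 11] 17 227910 355 = true := by decide +kernel

theorem chk_pow67_42_13 : tab.minOKc [5, 4, 3, 2, 1, 0, 5, 6, 7, 8, 9, 5, 10, 11] 17 228265 355 = true := by decide +kernel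

theorem chk_pow67_42_14 : tab.minOKc [5, 4, 3, 2, 1, 0, 5, 6, 7, 8, 9, 5, 10, 11] 17 228620 355 = true := by decide +kernel

theorem chk_pow67_42 : tab.minOKc [5, 4, 3, 2, 1, 0, 5, 6, 7, 8, 9, 5, 10, 11] 17 223650 5325 = true := by
  refine tab.minOKc_of_chunks [5, 4, 3, 2, 1, 0, 5, 6, 7, 8, 9, 5, 10, 11] 17 223650 355 15 (by norm_num) ?_
  intro i hi
  interval_cases i
  · exact chk_pow67_42_0
  · exact chk_pow67_42_1
  · exact chk_pow67_42_2
  · exact chk_pow67_42_3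
  · exact chk_pow67_42_4
  · exact chk_pow67_42_5
  · exact chk_pow67_42_6
  · exact chk_pow67_42_7
  · exact chk_pow67_42_8
  · exact chk_pow67_42_9
  · exact chk_pow67_42_10
  · exact chk_pow67_42_11
  · exact chk_pow67_42_12
  · exact chk_pow67_42_13
  · exact chk_pow67_42_14

theorem chk_pow67_43_0 : tab.minOKc [5, 4, 3, 2, 1, 0, 5, 6, 7, 8, 9, 5, 10, 11] 17 228975 355 = true := by decide +kernel

theorem chk_pow67_43_1 : tab.minOKc [5, 4, 3, 2, 1, 0, 5, 6, 7, 8, 9, 5, 10, 11] 17 229330 355 = true := by decide +kernel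

theorem chk_pow67_43_2 : tab.minOKc [5, 4, 3, 2, 1, 0, 5, 6, 7, 8, 9, 5, 10, 11] 17 229685 355 = true := by decide +kernel

theorem chk_pow67_43_3 : tab.minOKc [5, 4, 3, 2, 1, 0, 5, 6, 7, 8, 9, 5, 10, 11] 17 230040 355 = true := by decide +kernel

theorem chk_pow67_43_4 : tab.minOKc [5, 4, 3, 2, 1, 0, 5, 6, 7, 8, 9, 5, 10, 11] 17 230395 355 = true := by decide +kernel

theorem chk_pow67_43_5 : tab.minOKc [5, 4, 3, 2, 1, 0, 5, 6, 7, 8, 9, 5, 10, 11] 17 230750 355 = true := by decide +kernel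

theorem chk_pow67_43_6 : tab.minOKc [5, 4, 3, 2, 1, 0, 5, 6, 7, 8, 9, 5, 10, 11] 17 231105 355 = true := by decide +kernel

theorem chk_pow67_43_7 : tab.minOKc [5, 4, 3, 2, 1, 0, 5, 6, 7, 8, 9, 5, 10, 11] 17 231460 355 = true := by decide +kernel

theorem chk_pow67_43_8 : tab.minOKc [5, 4, 3, 2, 1, 0, 5, 6, 7, 8, 9, 5, 10, 11] 17 231815 355 = true := by decide +kernel

theorem chk_pow67_43_9 : tab.minOKc [5, 4, 3, 2, 1, 0, 5, 6, 7, 8, 9, 5, 10, 11] 17 232170 355 = true := by decide +kernel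

theorem chk_pow67_43_10 : tab.minOKc [5, 4, 3, 2, 1, 0, 5, 6, 7, 8, 9, 5, 10, 11] 17 232525 355 = true := by decide +kernel

theorem chk_pow67_43_11 : tab.minOKc [5, 4, 3, 2, 1, 0, 5, 6, 7, 8, 9, 5, 10, 11] 17 232880 355 = true := by decide +kernel

theorem chk_pow67_43_12 : tab.minOKc [5, 4, 3, 2, 1, 0, 5, 6, 7, 8, 9, 5, 10, 11] 17 233235 355 = true := by decide +kernel

theorem chk_pow67_43_13 : tab.minOKc [5, 4, 3, 2, 1, 0, 5, 6, 7, 8, 9, 5, 10, 11] 17 233590 355 = true := by decide +kernel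

theorem chk_pow67_43_14 : tab.minOKc [5, 4, 3, 2, 1, 0, 5, 6, 7, 8, 9, 5, 10, 11] 17 233945 355 = true := by decide +kernel

theorem chk_pow67_43 : tab.minOKc [5, 4, 3, 2, 1, 0, 5, 6, 7, 8, 9, 5, 10, 11] 17 228975 5325 = true := by
  refine tab.minOKc_of_chunks [5, 4, 3, 2, 1, 0, 5, 6, 7, 8, 9, 5, 10, 11] 17 228975 355 15 (by norm_num) ?_
  intro i hi
  interval_cases i
  · exact chk_pow67_43_0
  · exact chk_pow67_43_1
  · exact chk_pow67_43_2
  · exact chk_pow67_43_3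
  · exact chk_pow67_43_4
  · exact chk_pow67_43_5
  · exact chk_pow67_43_6
  · exact chk_pow67_43_7
  · exact chk_pow67_43_8
  · exact chk_pow67_43_9
  · exact chk_pow67_43_10
  · exact chk_pow67_43_11
  · exact chk_pow67_43_12
  · exact chk_pow67_43_13
  · exact chk_pow67_43_14

end Cfsg.Agent.Lib.Helper6.Fi24TC
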