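import Cfsg.Agent.Lib.Helper6.Fi24TCData
import Cfsg.Agent.Lib.Helper6.TCRel3
import Cfsg.Agent.Lib.Helper6.Fi24TCRel175

/-! # Fi24: the kernel check of a part of the relators on the coset table -/

set_option autoImplicit false

namespace Cfsg.Agent.Lib.Helper6.Fi24TC

open Cfsg.Agent.Lib.Helper6.TC

theorem chk_pow67_44_0 : tab.minOKc [5, 4, 3, 2, 1, 0, 5, 6, 7, 8, 9, 5, 10, 11] 17 234300 355 = true := by decide +kernel

theorem chk_pow67_44_1 : tab.minOKc [5, 4, 3, 2, 1, 0, 5, 6, 7, 8, 9, 5, 10, 11] 17 234655 355 = true := by decide +kernel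

theorem chk_pow67_44_2 : tab.minOKc [5, 4, 3, 2, 1, 0, 5, 6, 7, 8, 9, 5, 10, 11] 17 235010 355 = true := by decide +kernel

theorem chk_pow67_44_3 : tab.minOKc [5, 4, 3, 2, 1, 0, 5, 6, 7, 8, 9, 5, 10, 11] 17 235365 355 = true := by decide +kernel

theorem chk_pow67_44_4 : tab.minOKc [5, 4, 3, 2, 1, 0, 5, 6, 7, 8, 9, 5, 10, 11] 17 235720 355 = true := by decide +kernel

theorem chk_pow67_44_5 : tab.minOKc [5, 4, 3, 2, 1, 0, 5, 6, 7, 8, 9, 5, 10, 11] 17 236075 355 = true := by decide +kernel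

theorem chk_pow67_44_6 : tab.minOKc [5, 4, 3, 2, 1, 0, 5, 6, 7, 8, 9, 5, 10, 11] 17 236430 355 = true := by decide +kernel

theorem chk_pow67_44_7 : tab.minOKc [5, 4, 3, 2, 1, 0, 5, 6, 7, 8, 9, 5, 10, 11] 17 236785 355 = true := by decide +kernel

theorem chk_pow67_44_8 : tab.minOKc [5, 4, 3, 2, 1, 0, 5, 6, 7, 8, 9, 5, 10, 11] 17 237140 355 = true := by decide +kernel

theorem chk_pow67_44_9 : tab.minOKc [5, 4, 3, 2, 1, 0, 5, 6, 7, 8, 9, 5, 10, 11] 17 237495 355 = true := by decide +kernel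

theorem chk_pow67_44_10 : tab.minOKc [5, 4, 3, 2, 1, 0, 5, 6, 7, 8, 9, 5, 10, 11] 17 237850 355 = true := by decide +kernel

theorem chk_pow67_44_11 : tab.minOKc [5, 4, 3, 2, 1, 0, 5, 6, 7, 8, 9, 5, 10, 11] 17 238205 355 = true := by decide +kernel

theorem chk_pow67_44_12 : tab.minOKc [5, 4, 3, 2, 1, 0, 5, 6, 7, 8, 9, 5, 10, 11] 17 238560 355 = true := by decide +kernel

theorem chk_pow67_44_13 : tab.minOKc [5, 4, 3, 2, 1, 0, 5, 6, 7, 8, 9, 5, 10, 11] 17 238915 355 = true := by decide +kernel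

theorem chk_pow67_44_14 : tab.minOKc [5, 4, 3, 2, 1, 0, 5, 6, 7, 8, 9, 5, 10, 11] 17 239270 355 = true := by decide +kernel

theorem chk_pow67_44 : tab.minOKc [5, 4, 3, 2, 1, 0, 5, 6, 7, 8, 9, 5, 10, 11] 17 234300 5325 = true := by
  refine tab.minOKc_of_chunks [5, 4, 3, 2, 1, 0, 5, 6, 7, 8, 9, 5, 10, 11] 17 234300 355 15 (by norm_num) ?_
  intro i hi
  interval_cases i
  · exact chk_pow67_44_0
  · exact chk_pow67_44_1
  · exact chk_pow67_44_2
  · exact chk_pow67_44_3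
  · exact chk_pow67_44_4
  · exact chk_pow67_44_5
  · exact chk_pow67_44_6
  · exact chk_pow67_44_7
  · exact chk_pow67_44_8
  · exact chk_pow67_44_9
  · exact chk_pow67_44_10
  · exact chk_pow67_44_11
  · exact chk_pow67_44_12
  · exact chk_pow67_44_13
  · exact chk_pow67_44_14

theorem chk_pow67_45_0 : tab.minOKc [5, 4, 3, 2, 1, 0, 5, 6, 7, 8, 9, 5, 10, 11] 17 239625 355 = true := by decide +kernel

theorem chk_pow67_45_1 : tab.minOKc [5, 4, 3, 2, 1, 0, 5, 6, 7, 8, 9, 5, 10, 11] 17 239980 355 = true := by decide +kernel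

theorem chk_pow67_45_2 : tab.minOKc [5, 4, 3, 2, 1, 0, 5, 6, 7, 8, 9, 5, 10, 11] 17 240335 355 = true := by decide +kernel

theorem chk_pow67_45_3 : tab.minOKc [5, 4, 3, 2, 1, 0, 5, 6, 7, 8, 9, 5, 10, 11] 17 240690 355 = true := by decide +kernel

theorem chk_pow67_45_4 : tab.minOKc [5, 4, 3, 2, 1, 0, 5, 6, 7, 8, 9, 5, 10, 11] 17 241045 355 = true := by decide +kernel

theorem chk_pow67_45_5 : tab.minOKc [5, 4, 3, 2, 1, 0, 5, 6, 7, 8, 9, 5, 10, 11] 17 241400 355 = true := by decide +kernel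

theorem chk_pow67_45_6 : tab.minOKc [5, 4, 3, 2, 1, 0, 5, 6, 7, 8, 9, 5, 10, 11] 17 241755 355 = true := by decide +kernel

theorem chk_pow67_45_7 : tab.minOKc [5, 4, 3, 2, 1, 0, 5, 6, 7, 8, 9, 5, 10, 11] 17 242110 355 = true := by decide +kernel

theorem chk_pow67_45_8 : tab.minOKc [5, 4, 3, 2, 1, 0, 5, 6, 7, 8, 9, 5, 10, 11] 17 242465 355 = true := by decide +kernel

theorem chk_pow67_45_9 : tab.minOKc [5, 4, 3, 2, 1, 0, 5, 6, 7, 8, 9, 5, 10, 11] 17 242820 355 = true := by decide +kernel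

theorem chk_pow67_45_10 : tab.minOKc [5, 4, 3, 2, 1, 0, 5, 6, 7, 8, 9, 5, 10, 11] 17 243175 355 = true := by decide +kernel

theorem chk_pow67_45_11 : tab.minOKc [5, 4, 3, 2, 1, 0, 5, 6, 7, 8, 9, 5, 10, 11] 17 243530 355 = true := by decide +kernel

theorem chk_pow67_45_12 : tab.minOKc [5, 4, 3, 2, 1, 0, 5, 6, 7, 8, 9, 5, 10, 11] 17 243885 355 = true := by decide +kernel

theorem chk_pow67_45_13 : tab.minOKc [5, 4, 3, 2, 1, 0, 5, 6, 7, 8, 9, 5, 10, 11] 17 244240 355 = true := by decide +kernel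

theorem chk_pow67_45_14 : tab.minOKc [5, 4, 3, 2, 1, 0, 5, 6, 7, 8, 9, 5, 10, 11] 17 244595 355 = true := by decide +kernel

theorem chk_pow67_45 : tab.minOKc [5, 4, 3, 2, 1, 0, 5, 6, 7, 8, 9, 5, 10, 11] 17 239625 5325 = true := by
  refine tab.minOKc_of_chunks [5, 4, 3, 2, 1, 0, 5, 6, 7, 8, 9, 5, 10, 11] 17 239625 355 15 (by norm_num) ?_
  intro i hi
  interval_cases i
  · exact chk_pow67_45_0
  · exact chk_pow67_45_1
  · exact chk_pow67_45_2
  · exact chk_pow67_45_3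
  · exact chk_pow67_45_4
  · exact chk_pow67_45_5
  · exact chk_pow67_45_6
  · exact chk_pow67_45_7
  · exact chk_pow67_45_8
  · exact chk_pow67_45_9
  · exact chk_pow67_45_10
  · exact chk_pow67_45_11
  · exact chk_pow67_45_12
  · exact chk_pow67_45_13
  · exact chk_pow67_45_14

end Cfsg.Agent.Lib.Helper6.Fi24TC
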