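import Cfsg.Agent.Lib.Helper6.Fi24TCData
import Cfsg.Agent.Lib.Helper6.TCRel3
import Cfsg.Agent.Lib.Helper6.Fi24TCRel176

/-! # Fi24: the kernel check of a part of the relators on the coset table -/

set_option autoImplicit false

namespace Cfsg.Agent.Lib.Helper6.Fi24TC

open Cfsg.Agent.Lib.Helper6.TC

theorem chk_pow67_46_0 : tab.minOKc [5, 4, 3, 2, 1, 0, 5, 6, 7, 8, 9, 5, 10, 11] 17 244950 355 = true := by decide +kernel

theorem chk_pow67_46_1 : tab.minOKc [5, 4, 3, 2, 1, 0, 5, 6, 7, 8, 9, 5, 10, 11] 17 245305 355 = true := by decide +kernel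

theorem chk_pow67_46_2 : tab.minOKc [5, 4, 3, 2, 1, 0, 5, 6, 7, 8, 9, 5, 10, 11] 17 245660 355 = true := by decide +kernel

theorem chk_pow67_46_3 : tab.minOKc [5, 4, 3, 2, 1, 0, 5, 6, 7, 8, 9, 5, 10, 11] 17 246015 355 = true := by decide +kernel

theorem chk_pow67_46_4 : tab.minOKc [5, 4, 3, 2, 1, 0, 5, 6, 7, 8, 9, 5, 10, 11] 17 246370 355 = true := by decide +kernel

theorem chk_pow67_46_5 : tab.minOKc [5, 4, 3, 2, 1, 0, 5, 6, 7, 8, 9, 5, 10, 11] 17 246725 355 = true := by decide +kernel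

theorem chk_pow67_46_6 : tab.minOKc [5, 4, 3, 2, 1, 0, 5, 6, 7, 8, 9, 5, 10, 11] 17 247080 355 = true := by decide +kernel

theorem chk_pow67_46_7 : tab.minOKc [5, 4, 3, 2, 1, 0, 5, 6, 7, 8, 9, 5, 10, 11] 17 247435 355 = true := by decide +kernel

theorem chk_pow67_46_8 : tab.minOKc [5, 4, 3, 2, 1, 0, 5, 6, 7, 8, 9, 5, 10, 11] 17 247790 355 = true := by decide +kernel

theorem chk_pow67_46_9 : tab.minOKc [5, 4, 3, 2, 1, 0, 5, 6, 7, 8, 9, 5, 10, 11] 17 248145 355 = true := by decide +kernel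

theorem chk_pow67_46_10 : tab.minOKc [5, 4, 3, 2, 1, 0, 5, 6, 7, 8, 9, 5, 10, 11] 17 248500 355 = true := by decide +kernel

theorem chk_pow67_46_11 : tab.minOKc [5, 4, 3, 2, 1, 0, 5, 6, 7, 8, 9, 5, 10, 11] 17 248855 355 = true := by decide +kernel

theorem chk_pow67_46_12 : tab.minOKc [5, 4, 3, 2, 1, 0, 5, 6, 7, 8, 9, 5, 10, 11] 17 249210 355 = true := by decide +kernel

theorem chk_pow67_46_13 : tab.minOKc [5, 4, 3, 2, 1, 0, 5, 6, 7, 8, 9, 5, 10, 11] 17 249565 355 = true := by decide +kernel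

theorem chk_pow67_46_14 : tab.minOKc [5, 4, 3, 2, 1, 0, 5, 6, 7, 8, 9, 5, 10, 11] 17 249920 355 = true := by decide +kernel

theorem chk_pow67_46 : tab.minOKc [5, 4, 3, 2, 1, 0, 5, 6, 7, 8, 9, 5, 10, 11] 17 244950 5325 = true := by
  refine tab.minOKc_of_chunks [5, 4, 3, 2, 1, 0, 5, 6, 7, 8, 9, 5, 10, 11] 17 244950 355 15 (by norm_num) ?_
  intro i hi
  interval_cases i
  · exact chk_pow67_46_0
  · exact chk_pow67_46_1
  · exact chk_pow67_46_2
  · exact chk_pow67_46_3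
  · exact chk_pow67_46_4
  · exact chk_pow67_46_5
  · exact chk_pow67_46_6
  · exact chk_pow67_46_7
  · exact chk_pow67_46_8
  · exact chk_pow67_46_9
  · exact chk_pow67_46_10
  · exact chk_pow67_46_11
  · exact chk_pow67_46_12
  · exact chk_pow67_46_13
  · exact chk_pow67_46_14

theorem chk_pow67_47_0 : tab.minOKc [5, 4, 3, 2, 1, 0, 5, 6, 7, 8, 9, 5, 10, 11] 17 250275 355 = true := by decide +kernel

theorem chk_pow67_47_1 : tab.minOKc [5, 4, 3, 2, 1, 0, 5, 6, 7, 8, 9, 5, 10, 11] 17 250630 355 = true := by decide +kernel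

theorem chk_pow67_47_2 : tab.minOKc [5, 4, 3, 2, 1, 0, 5, 6, 7, 8, 9, 5, 10, 11] 17 250985 355 = true := by decide +kernel

theorem chk_pow67_47_3 : tab.minOKc [5, 4, 3, 2, 1, 0, 5, 6, 7, 8, 9, 5, 10, 11] 17 251340 355 = true := by decide +kernel

theorem chk_pow67_47_4 : tab.minOKc [5, 4, 3, 2, 1, 0, 5, 6, 7, 8, 9, 5, 10, 11] 17 251695 355 = true := by decide +kernel

theorem chk_pow67_47_5 : tab.minOKc [5, 4, 3, 2, 1, 0, 5, 6, 7, 8, 9, 5, 10, 11] 17 252050 355 = true := by decide +kernel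

theorem chk_pow67_47_6 : tab.minOKc [5, 4, 3, 2, 1, 0, 5, 6, 7, 8, 9, 5, 10, 11] 17 252405 355 = true := by decide +kernel

theorem chk_pow67_47_7 : tab.minOKc [5, 4, 3, 2, 1, 0, 5, 6, 7, 8, 9, 5, 10, 11] 17 252760 355 = true := by decide +kernel

theorem chk_pow67_47_8 : tab.minOKc [5, 4, 3, 2, 1, 0, 5, 6, 7, 8, 9, 5, 10, 11] 17 253115 355 = true := by decide +kernel

theorem chk_pow67_47_9 : tab.minOKc [5, 4, 3, 2, 1, 0, 5, 6, 7, 8, 9, 5, 10, 11] 17 253470 355 = true := by decide +kernel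

theorem chk_pow67_47_10 : tab.minOKc [5, 4, 3, 2, 1, 0, 5, 6, 7, 8, 9, 5, 10, 11] 17 253825 355 = true := by decide +kernel

theorem chk_pow67_47_11 : tab.minOKc [5, 4, 3, 2, 1, 0, 5, 6, 7, 8, 9, 5, 10, 11] 17 254180 355 = true := by decide +kernel

theorem chk_pow67_47_12 : tab.minOKc [5, 4, 3, 2, 1, 0, 5, 6, 7, 8, 9, 5, 10, 11] 17 254535 355 = true := by decide +kernel

theorem chk_pow67_47_13 : tab.minOKc [5, 4, 3, 2, 1, 0, 5, 6, 7, 8, 9, 5, 10, 11] 17 254890 355 = true := by decide +kernel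

theorem chk_pow67_47_14 : tab.minOKc [5, 4, 3, 2, 1, 0, 5, 6, 7, 8, 9, 5, 10, 11] 17 255245 355 = true := by decide +kernel

theorem chk_pow67_47 : tab.minOKc [5, 4, 3, 2, 1, 0, 5, 6, 7, 8, 9, 5, 10, 11] 17 250275 5325 = true := by
  refine tab.minOKc_of_chunks [5, 4, 3, 2, 1, 0, 5, 6, 7, 8, 9, 5, 10, 11] 17 250275 355 15 (by norm_num) ?_
  intro i hi
  interval_cases i
  · exact chk_pow67_47_0
  · exact chk_pow67_47_1
  · exact chk_pow67_47_2
  · exact chk_pow67_47_3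
  · exact chk_pow67_47_4
  · exact chk_pow67_47_5
  · exact chk_pow67_47_6
  · exact chk_pow67_47_7
  · exact chk_pow67_47_8
  · exact chk_pow67_47_9
  · exact chk_pow67_47_10
  · exact chk_pow67_47_11
  · exact chk_pow67_47_12
  · exact chk_pow67_47_13
  · exact chk_pow67_47_14

end Cfsg.Agent.Lib.Helper6.Fi24TC
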