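import Cfsg.Agent.Lib.Helper6.Fi24TCData
import Cfsg.Agent.Lib.Helper6.TCRel3
import Cfsg.Agent.Lib.Helper6.Fi24TCRel178

/-! # Fi24: the kernel check of a part of the relators on the coset table -/

set_option autoImplicit false

namespace Cfsg.Agent.Lib.Helper6.Fi24TC

open Cfsg.Agent.Lib.Helper6.TC

theorem chk_pow67_50_0 : tab.minOKc [5, 4, 3, 2, 1, 0, 5, 6, 7, 8, 9, 5, 10, 11] 17 266250 355 = true := by decide +kernel

theorem chk_pow67_50_1 : tab.minOKc [5, 4, 3, 2, 1, 0, 5, 6, 7, 8, 9, 5, 10, 11] 17 266605 355 = true := by decide +kernel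

theorem chk_pow67_50_2 : tab.minOKc [5, 4, 3, 2, 1, 0, 5, 6, 7, 8, 9, 5, 10, 11] 17 266960 355 = true := by decide +kernel

theorem chk_pow67_50_3 : tab.minOKc [5, 4, 3, 2, 1, 0, 5, 6, 7, 8, 9, 5, 10, 11] 17 267315 355 = true := by decide +kernel

theorem chk_pow67_50_4 : tab.minOKc [5, 4, 3, 2, 1, 0, 5, 6, 7, 8, 9, 5, 10, 11] 17 267670 355 = true := by decide +kernel

theorem chk_pow67_50_5 : tab.minOKc [5, 4, 3, 2, 1, 0, 5, 6, 7, 8, 9, 5, 10, 11] 17 268025 355 = true := by decide +kernel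

theorem chk_pow67_50_6 : tab.minOKc [5, 4, 3, 2, 1, 0, 5, 6, 7, 8, 9, 5, 10, 11] 17 268380 355 = true := by decide +kernel

theorem chk_pow67_50_7 : tab.minOKc [5, 4, 3, 2, 1, 0, 5, 6, 7, 8, 9, 5, 10, 11] 17 268735 355 = true := by decide +kernel

theorem chk_pow67_50_8 : tab.minOKc [5, 4, 3, 2, 1, 0, 5, 6, 7, 8, 9, 5, 10, 11] 17 269090 355 = true := by decide +kernel

theorem chk_pow67_50_9 : tab.minOKc [5, 4, 3, 2, 1, 0, 5, 6, 7, 8, 9, 5, 10, 11] 17 269445 355 = true := by decide +kernel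

theorem chk_pow67_50_10 : tab.minOKc [5, 4, 3, 2, 1, 0, 5, 6, 7, 8, 9, 5, 10, 11] 17 269800 355 = true := by decide +kernel

theorem chk_pow67_50_11 : tab.minOKc [5, 4, 3, 2, 1, 0, 5, 6, 7, 8, 9, 5, 10, 11] 17 270155 355 = true := by decide +kernel

theorem chk_pow67_50_12 : tab.minOKc [5, 4, 3, 2, 1, 0, 5, 6, 7, 8, 9, 5, 10, 11] 17 270510 355 = true := by decide +kernel

theorem chk_pow67_50_13 : tab.minOKc [5, 4, 3, 2, 1, 0, 5, 6, 7, 8, 9, 5, 10, 11] 17 270865 355 = true := by decide +kernel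

theorem chk_pow67_50_14 : tab.minOKc [5, 4, 3, 2, 1, 0, 5, 6, 7, 8, 9, 5, 10, 11] 17 271220 355 = true := by decide +kernel

theorem chk_pow67_50 : tab.minOKc [5, 4, 3, 2, 1, 0, 5, 6, 7, 8, 9, 5, 10, 11] 17 266250 5325 = true := by
  refine tab.minOKc_of_chunks [5, 4, 3, 2, 1, 0, 5, 6, 7, 8, 9, 5, 10, 11] 17 266250 355 15 (by norm_num) ?_
  intro i hi
  interval_cases i
  · exact chk_pow67_50_0
  · exact chk_pow67_50_1
  · exact chk_pow67_50_2
  · exact chk_pow67_50_3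
  · exact chk_pow67_50_4
  · exact chk_pow67_50_5
  · exact chk_pow67_50_6
  · exact chk_pow67_50_7
  · exact chk_pow67_50_8
  · exact chk_pow67_50_9
  · exact chk_pow67_50_10
  · exact chk_pow67_50_11
  · exact chk_pow67_50_12
  · exact chk_pow67_50_13
  · exact chk_pow67_50_14

theorem chk_pow67_51_0 : tab.minOKc [5, 4, 3, 2, 1, 0, 5, 6, 7, 8, 9, 5, 10, 11] 17 271575 355 = true := by decide +kernel

theorem chk_pow67_51_1 : tab.minOKc [5, 4, 3, 2, 1, 0, 5, 6, 7, 8, 9, 5, 10, 11] 17 271930 355 = true := by decide +kernel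

theorem chk_pow67_51_2 : tab.minOKc [5, 4, 3, 2, 1, 0, 5, 6, 7, 8, 9, 5, 10, 11] 17 272285 355 = true := by decide +kernel

theorem chk_pow67_51_3 : tab.minOKc [5, 4, 3, 2, 1, 0, 5, 6, 7, 8, 9, 5, 10, 11] 17 272640 355 = true := by decide +kernel

theorem chk_pow67_51_4 : tab.minOKc [5, 4, 3, 2, 1, 0, 5, 6, 7, 8, 9, 5, 10, 11] 17 272995 355 = true := by decide +kernel

theorem chk_pow67_51_5 : tab.minOKc [5, 4, 3, 2, 1, 0, 5, 6, 7, 8, 9, 5, 10, 11] 17 273350 355 = true := by decide +kernel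

theorem chk_pow67_51_6 : tab.minOKc [5, 4, 3, 2, 1, 0, 5, 6, 7, 8, 9, 5, 10, 11] 17 273705 355 = true := by decide +kernel

theorem chk_pow67_51_7 : tab.minOKc [5, 4, 3, 2, 1, 0, 5, 6, 7, 8, 9, 5, 10, 11] 17 274060 355 = true := by decide +kernel

theorem chk_pow67_51_8 : tab.minOKc [5, 4, 3, 2, 1, 0, 5, 6, 7, 8, 9, 5, 10, 11] 17 274415 355 = true := by decide +kernel

theorem chk_pow67_51_9 : tab.minOKc [5, 4, 3, 2, 1, 0, 5, 6, 7, 8, 9, 5, 10, 11] 17 274770 355 = true := by decide +kernel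

theorem chk_pow67_51_10 : tab.minOKc [5, 4, 3, 2, 1, 0, 5, 6, 7, 8, 9, 5, 10, 11] 17 275125 355 = true := by decide +kernel

theorem chk_pow67_51_11 : tab.minOKc [5, 4, 3, 2, 1, 0, 5, 6, 7, 8, 9, 5, 10, 11] 17 275480 355 = true := by decide +kernel

theorem chk_pow67_51_12 : tab.minOKc [5, 4, 3, 2, 1, 0, 5, 6, 7, 8, 9, 5, 10, 11] 17 275835 355 = true := by decide +kernel

theorem chk_pow67_51_13 : tab.minOKc [5, 4, 3, 2, 1, 0, 5, 6, 7, 8, 9, 5, 10, 11] 17 276190 355 = true := by decide +kernel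

theorem chk_pow67_51_14 : tab.minOKc [5, 4, 3, 2, 1, 0, 5, 6, 7, 8, 9, 5, 10, 11] 17 276545 355 = true := by decide +kernel

theorem chk_pow67_51 : tab.minOKc [5, 4, 3, 2, 1, 0, 5, 6, 7, 8, 9, 5, 10, 11] 17 271575 5325 = true := by
  refine tab.minOKc_of_chunks [5, 4, 3, 2, 1, 0, 5, 6, 7, 8, 9, 5, 10, 11] 17 271575 355 15 (by norm_num) ?_
  intro i hi
  interval_cases i
  · exact chk_pow67_51_0
  · exact chk_pow67_51_1
  · exact chk_pow67_51_2
  · exact chk_pow67_51_3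
  · exact chk_pow67_51_4
  · exact chk_pow67_51_5
  · exact chk_pow67_51_6
  · exact chk_pow67_51_7
  · exact chk_pow67_51_8
  · exact chk_pow67_51_9
  · exact chk_pow67_51_10
  · exact chk_pow67_51_11
  · exact chk_pow67_51_12
  · exact chk_pow67_51_13
  · exact chk_pow67_51_14

end Cfsg.Agent.Lib.Helper6.Fi24TC
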