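import Cfsg.Agent.Lib.Helper6.Fi24TCData
import Cfsg.Agent.Lib.Helper6.TCRel3
import Cfsg.Agent.Lib.Helper6.Fi24TCRel179

/-! # Fi24: the kernel check of a part of the relators on the coset table -/

set_option autoImplicit false

namespace Cfsg.Agent.Lib.Helper6.Fi24TC

open Cfsg.Agent.Lib.Helper6.TC

theorem chk_pow67_52_0 : tab.minOKc [5, 4, 3, 2, 1, 0, 5, 6, 7, 8, 9, 5, 10, 11] 17 276900 355 = true := by decide +kernel

theorem chk_pow67_52_1 : tab.minOKc [5, 4, 3, 2, 1, 0, 5, 6, 7, 8, 9, 5, 10, 11] 17 277255 355 = true := by decide +kernel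

theorem chk_pow67_52_2 : tab.minOKc [5, 4, 3, 2, 1, 0, 5, 6, 7, 8, 9, 5, 10, 11] 17 277610 355 = true := by decide +kernel

theorem chk_pow67_52_3 : tab.minOKc [5, 4, 3, 2, 1, 0, 5, 6, 7, 8, 9, 5, 10, 11] 17 277965 355 = true := by decide +kernel

theorem chk_pow67_52_4 : tab.minOKc [5, 4, 3, 2, 1, 0, 5, 6, 7, 8, 9, 5, 10, 11] 17 278320 355 = true := by decide +kernel

theorem chk_pow67_52_5 : tab.minOKc [5, 4, 3, 2, 1, 0, 5, 6, 7, 8, 9, 5, 10, 11] 17 278675 355 = true := by decide +kernel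

theorem chk_pow67_52_6 : tab.minOKc [5, 4, 3, 2, 1, 0, 5, 6, 7, 8, 9, 5, 10, 11] 17 279030 355 = true := by decide +kernel

theorem chk_pow67_52_7 : tab.minOKc [5, 4, 3, 2, 1, 0, 5, 6, 7, 8, 9, 5, 10, 11] 17 279385 355 = true := by decide +kernel

theorem chk_pow67_52_8 : tab.minOKc [5, 4, 3, 2, 1, 0, 5, 6, 7, 8, 9, 5, 10, 11] 17 279740 355 = true := by decide +kernel

theorem chk_pow67_52_9 : tab.minOKc [5, 4, 3, 2, 1, 0, 5, 6, 7, 8, 9, 5, 10, 11] 17 280095 355 = true := by decide +kernel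

theorem chk_pow67_52_10 : tab.minOKc [5, 4, 3, 2, 1, 0, 5, 6, 7, 8, 9, 5, 10, 11] 17 280450 355 = true := by decide +kernel

theorem chk_pow67_52_11 : tab.minOKc [5, 4, 3, 2, 1, 0, 5, 6, 7, 8, 9, 5, 10, 11] 17 280805 355 = true := by decide +kernel

theorem chk_pow67_52_12 : tab.minOKc [5, 4, 3, 2, 1, 0, 5, 6, 7, 8, 9, 5, 10, 11] 17 281160 355 = true := by decide +kernel

theorem chk_pow67_52_13 : tab.minOKc [5, 4, 3, 2, 1, 0, 5, 6, 7, 8, 9, 5, 10, 11] 17 281515 355 = true := by decide +kernel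

theorem chk_pow67_52_14 : tab.minOKc [5, 4, 3, 2, 1, 0, 5, 6, 7, 8, 9, 5, 10, 11] 17 281870 355 = true := by decide +kernel

theorem chk_pow67_52 : tab.minOKc [5, 4, 3, 2, 1, 0, 5, 6, 7, 8, 9, 5, 10, 11] 17 276900 5325 = true := by
  refine tab.minOKc_of_chunks [5, 4, 3, 2, 1, 0, 5, 6, 7, 8, 9, 5, 10, 11] 17 276900 355 15 (by norm_num) ?_
  intro i hi
  interval_cases i
  · exact chk_pow67_52_0
  · exact chk_pow67_52_1
  · exact chk_pow67_52_2
  · exact chk_pow67_52_3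
  · exact chk_pow67_52_4
  · exact chk_pow67_52_5
  · exact chk_pow67_52_6
  · exact chk_pow67_52_7
  · exact chk_pow67_52_8
  · exact chk_pow67_52_9
  · exact chk_pow67_52_10
  · exact chk_pow67_52_11
  · exact chk_pow67_52_12
  · exact chk_pow67_52_13
  · exact chk_pow67_52_14

theorem chk_pow67_53_0 : tab.minOKc [5, 4, 3, 2, 1, 0, 5, 6, 7, 8, 9, 5, 10, 11] 17 282225 355 = true := by decide +kernel

theorem chk_pow67_53_1 : tab.minOKc [5, 4, 3, 2, 1, 0, 5, 6, 7, 8, 9, 5, 10, 11] 17 282580 355 = true := by decide +kernel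

theorem chk_pow67_53_2 : tab.minOKc [5, 4, 3, 2, 1, 0, 5, 6, 7, 8, 9, 5, 10, 11] 17 282935 355 = true := by decide +kernel

theorem chk_pow67_53_3 : tab.minOKc [5, 4, 3, 2, 1, 0, 5, 6, 7, 8, 9, 5, 10, 11] 17 283290 355 = true := by decide +kernel

theorem chk_pow67_53_4 : tab.minOKc [5, 4, 3, 2, 1, 0, 5, 6, 7, 8, 9, 5, 10, 11] 17 283645 355 = true := by decide +kernel

theorem chk_pow67_53_5 : tab.minOKc [5, 4, 3, 2, 1, 0, 5, 6, 7, 8, 9, 5, 10, 11] 17 284000 355 = true := by decide +kernel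

theorem chk_pow67_53_6 : tab.minOKc [5, 4, 3, 2, 1, 0, 5, 6, 7, 8, 9, 5, 10, 11] 17 284355 355 = true := by decide +kernel

theorem chk_pow67_53_7 : tab.minOKc [5, 4, 3, 2, 1, 0, 5, 6, 7, 8, 9, 5, 10, 11] 17 284710 355 = true := by decide +kernel

theorem chk_pow67_53_8 : tab.minOKc [5, 4, 3, 2, 1, 0, 5, 6, 7, 8, 9, 5, 10, 11] 17 285065 355 = true := by decide +kernel

theorem chk_pow67_53_9 : tab.minOKc [5, 4, 3, 2, 1, 0, 5, 6, 7, 8, 9, 5, 10, 11] 17 285420 355 = true := by decide +kernel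

theorem chk_pow67_53_10 : tab.minOKc [5, 4, 3, 2, 1, 0, 5, 6, 7, 8, 9, 5, 10, 11] 17 285775 355 = true := by decide +kernel

theorem chk_pow67_53_11 : tab.minOKc [5, 4, 3, 2, 1, 0, 5, 6, 7, 8, 9, 5, 10, 11] 17 286130 355 = true := by decide +kernel

theorem chk_pow67_53_12 : tab.minOKc [5, 4, 3, 2, 1, 0, 5, 6, 7, 8, 9, 5, 10, 11] 17 286485 355 = true := by decide +kernel

theorem chk_pow67_53_13 : tab.minOKc [5, 4, 3, 2, 1, 0, 5, 6, 7, 8, 9, 5, 10, 11] 17 286840 355 = true := by decide +kernel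

theorem chk_pow67_53_14 : tab.minOKc [5, 4, 3, 2, 1, 0, 5, 6, 7, 8, 9, 5, 10, 11] 17 287195 355 = true := by decide +kernel

theorem chk_pow67_53 : tab.minOKc [5, 4, 3, 2, 1, 0, 5, 6, 7, 8, 9, 5, 10, 11] 17 282225 5325 = true := by
  refine tab.minOKc_of_chunks [5, 4, 3, 2, 1, 0, 5, 6, 7, 8, 9, 5, 10, 11] 17 282225 355 15 (by norm_num) ?_
  intro i hi
  interval_cases i
  · exact chk_pow67_53_0
  · exact chk_pow67_53_1
  · exact chk_pow67_53_2
  · exact chk_pow67_53_3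
  · exact chk_pow67_53_4
  · exact chk_pow67_53_5
  · exact chk_pow67_53_6
  · exact chk_pow67_53_7
  · exact chk_pow67_53_8
  · exact chk_pow67_53_9
  · exact chk_pow67_53_10
  · exact chk_pow67_53_11
  · exact chk_pow67_53_12
  · exact chk_pow67_53_13
  · exact chk_pow67_53_14

end Cfsg.Agent.Lib.Helper6.Fi24TC
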