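import Cfsg.Agent.Lib.Helper6.Fi24TCData
import Cfsg.Agent.Lib.Helper6.TCRel3
import Cfsg.Agent.Lib.Helper6.Fi24TCRel180

/-! # Fi24: the kernel check of a part of the relators on the coset table -/

set_option autoImplicit false

namespace Cfsg.Agent.Lib.Helper6.Fi24TC

open Cfsg.Agent.Lib.Helper6.TC

theorem chk_pow67_54_0 : tab.minOKc [5, 4, 3, 2, 1, 0, 5, 6, 7, 8, 9, 5, 10, 11] 17 287550 355 = true := by decide +kernel

theorem chk_pow67_54_1 : tab.minOKc [5, 4, 3, 2, 1, 0, 5, 6, 7, 8, 9, 5, 10, 11] 17 287905 355 = true := by decide +kernel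

theorem chk_pow67_54_2 : tab.minOKc [5, 4, 3, 2, 1, 0, 5, 6, 7, 8, 9, 5, 10, 11] 17 288260 355 = true := by decide +kernel

theorem chk_pow67_54_3 : tab.minOKc [5, 4, 3, 2, 1, 0, 5, 6, 7, 8, 9, 5, 10, 11] 17 288615 355 = true := by decide +kernel

theorem chk_pow67_54_4 : tab.minOKc [5, 4, 3, 2, 1, 0, 5, 6, 7, 8, 9, 5, 10, 11] 17 288970 355 = true := by decide +kernel

theorem chk_pow67_54_5 : tab.minOKc [5, 4, 3, 2, 1, 0, 5, 6, 7, 8, 9, 5, 10, 11] 17 289325 355 = true := by decide +kernel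

theorem chk_pow67_54_6 : tab.minOKc [5, 4, 3, 2, 1, 0, 5, 6, 7, 8, 9, 5, 10, 11] 17 289680 355 = true := by decide +kernel

theorem chk_pow67_54_7 : tab.minOKc [5, 4, 3, 2, 1, 0, 5, 6, 7, 8, 9, 5, 10, 11] 17 290035 355 = true := by decide +kernel

theorem chk_pow67_54_8 : tab.minOKc [5, 4, 3, 2, 1, 0, 5, 6, 7, 8, 9, 5, 10, 11] 17 290390 355 = true := by decide +kernel

theorem chk_pow67_54_9 : tab.minOKc [5, 4, 3, 2, 1, 0, 5, 6, 7, 8, 9, 5, 10, 11] 17 290745 355 = true := by decide +kernel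

theorem chk_pow67_54_10 : tab.minOKc [5, 4, 3, 2, 1, 0, 5, 6, 7, 8, 9, 5, 10, 11] 17 291100 355 = true := by decide +kernel

theorem chk_pow67_54_11 : tab.minOKc [5, 4, 3, 2, 1, 0, 5, 6, 7, 8, 9, 5, 10, 11] 17 291455 355 = true := by decide +kernel

theorem chk_pow67_54_12 : tab.minOKc [5, 4, 3, 2, 1, 0, 5, 6, 7, 8, 9, 5, 10, 11] 17 291810 355 = true := by decide +kernel

theorem chk_pow67_54_13 : tab.minOKc [5, 4, 3, 2, 1, 0, 5, 6, 7, 8, 9, 5, 10, 11] 17 292165 355 = true := by decide +kernel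

theorem chk_pow67_54_14 : tab.minOKc [5, 4, 3, 2, 1, 0, 5, 6, 7, 8, 9, 5, 10, 11] 17 292520 355 = true := by decide +kernel

theorem chk_pow67_54 : tab.minOKc [5, 4, 3, 2, 1, 0, 5, 6, 7, 8, 9, 5, 10, 11] 17 287550 5325 = true := by
  refine tab.minOKc_of_chunks [5, 4, 3, 2, 1, 0, 5, 6, 7, 8, 9, 5, 10, 11] 17 287550 355 15 (by norm_num) ?_
  intro i hi
  interval_cases i
  · exact chk_pow67_54_0
  · exact chk_pow67_54_1
  · exact chk_pow67_54_2
  · exact chk_pow67_54_3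
  · exact chk_pow67_54_4
  · exact chk_pow67_54_5
  · exact chk_pow67_54_6
  · exact chk_pow67_54_7
  · exact chk_pow67_54_8
  · exact chk_pow67_54_9
  · exact chk_pow67_54_10
  · exact chk_pow67_54_11
  · exact chk_pow67_54_12
  · exact chk_pow67_54_13
  · exact chk_pow67_54_14

theorem chk_pow67_55_0 : tab.minOKc [5, 4, 3, 2, 1, 0, 5, 6, 7, 8, 9, 5, 10, 11] 17 292875 355 = true := by decide +kernel

theorem chk_pow67_55_1 : tab.minOKc [5, 4, 3, 2, 1, 0, 5, 6, 7, 8, 9, 5, 10, 11] 17 293230 355 = true := by decide +kernel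

theorem chk_pow67_55_2 : tab.minOKc [5, 4, 3, 2, 1, 0, 5, 6, 7, 8, 9, 5, 10, 11] 17 293585 355 = true := by decide +kernel

theorem chk_pow67_55_3 : tab.minOKc [5, 4, 3, 2, 1, 0, 5, 6, 7, 8, 9, 5, 10, 11] 17 293940 355 = true := by decide +kernel

theorem chk_pow67_55_4 : tab.minOKc [5, 4, 3, 2, 1, 0, 5, 6, 7, 8, 9, 5, 10, 11] 17 294295 355 = true := by decide +kernel

theorem chk_pow67_55_5 : tab.minOKc [5, 4, 3, 2, 1, 0, 5, 6, 7, 8, 9, 5, 10, 11] 17 294650 355 = true := by decide +kernel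

theorem chk_pow67_55_6 : tab.minOKc [5, 4, 3, 2, 1, 0, 5, 6, 7, 8, 9, 5, 10, 11] 17 295005 355 = true := by decide +kernel

theorem chk_pow67_55_7 : tab.minOKc [5, 4, 3, 2, 1, 0, 5, 6, 7, 8, 9, 5, 10, 11] 17 295360 355 = true := by decide +kernel

theorem chk_pow67_55_8 : tab.minOKc [5, 4, 3, 2, 1, 0, 5, 6, 7, 8, 9, 5, 10, 11] 17 295715 355 = true := by decide +kernel

theorem chk_pow67_55_9 : tab.minOKc [5, 4, 3, 2, 1, 0, 5, 6, 7, 8, 9, 5, 10, 11] 17 296070 355 = true := by decide +kernel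

theorem chk_pow67_55_10 : tab.minOKc [5, 4, 3, 2, 1, 0, 5, 6, 7, 8, 9, 5, 10, 11] 17 296425 355 = true := by decide +kernel

theorem chk_pow67_55_11 : tab.minOKc [5, 4, 3, 2, 1, 0, 5, 6, 7, 8, 9, 5, 10, 11] 17 296780 355 = true := by decide +kernel

theorem chk_pow67_55_12 : tab.minOKc [5, 4, 3, 2, 1, 0, 5, 6, 7, 8, 9, 5, 10, 11] 17 297135 355 = true := by decide +kernel

theorem chk_pow67_55_13 : tab.minOKc [5, 4, 3, 2, 1, 0, 5, 6, 7, 8, 9, 5, 10, 11] 17 297490 355 = true := by decide +kernel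

theorem chk_pow67_55_14 : tab.minOKc [5, 4, 3, 2, 1, 0, 5, 6, 7, 8, 9, 5, 10, 11] 17 297845 355 = true := by decide +kernel

theorem chk_pow67_55 : tab.minOKc [5, 4, 3, 2, 1, 0, 5, 6, 7, 8, 9, 5, 10, 11] 17 292875 5325 = true := by
  refine tab.minOKc_of_chunks [5, 4, 3, 2, 1, 0, 5, 6, 7, 8, 9, 5, 10, 11] 17 292875 355 15 (by norm_num) ?_
  intro i hi
  interval_cases i
  · exact chk_pow67_55_0
  · exact chk_pow67_55_1
  · exact chk_pow67_55_2
  · exact chk_pow67_55_3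
  · exact chk_pow67_55_4
  · exact chk_pow67_55_5
  · exact chk_pow67_55_6
  · exact chk_pow67_55_7
  · exact chk_pow67_55_8
  · exact chk_pow67_55_9
  · exact chk_pow67_55_10
  · exact chk_pow67_55_11
  · exact chk_pow67_55_12
  · exact chk_pow67_55_13
  · exact chk_pow67_55_14

end Cfsg.Agent.Lib.Helper6.Fi24TC
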