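import Cfsg.Agent.Lib.Helper6.Fi24TCData
import Cfsg.Agent.Lib.Helper6.TCRel3
import Cfsg.Agent.Lib.Helper6.Fi24TCRel181

/-! # Fi24: the kernel check of a part of the relators on the coset table -/

set_option autoImplicit false

namespace Cfsg.Agent.Lib.Helper6.Fi24TC

open Cfsg.Agent.Lib.Helper6.TC

theorem chk_pow67_56_0 : tab.minOKc [5, 4, 3, 2, 1, 0, 5, 6, 7, 8, 9, 5, 10, 11] 17 298200 355 = true := by decide +kernel

theorem chk_pow67_56_1 : tab.minOKc [5, 4, 3, 2, 1, 0, 5, 6, 7, 8, 9, 5, 10, 11] 17 298555 355 = true := by decide +kernel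

theorem chk_pow67_56_2 : tab.minOKc [5, 4, 3, 2, 1, 0, 5, 6, 7, 8, 9, 5, 10, 11] 17 298910 355 = true := by decide +kernel

theorem chk_pow67_56_3 : tab.minOKc [5, 4, 3, 2, 1, 0, 5, 6, 7, 8, 9, 5, 10, 11] 17 299265 355 = true := by decide +kernel

theorem chk_pow67_56_4 : tab.minOKc [5, 4, 3, 2, 1, 0, 5, 6, 7, 8, 9, 5, 10, 11] 17 299620 355 = true := by decide +kernel

theorem chk_pow67_56_5 : tab.minOKc [5, 4, 3, 2, 1, 0, 5, 6, 7, 8, 9, 5, 10, 11] 17 299975 355 = true := by decide +kernel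

theorem chk_pow67_56_6 : tab.minOKc [5, 4, 3, 2, 1, 0, 5, 6, 7, 8, 9, 5, 10, 11] 17 300330 355 = true := by decide +kernel

theorem chk_pow67_56_7 : tab.minOKc [5, 4, 3, 2, 1, 0, 5, 6, 7, 8, 9, 5, 10, 11] 17 300685 355 = true := by decide +kernel

theorem chk_pow67_56_8 : tab.minOKc [5, 4, 3, 2, 1, 0, 5, 6, 7, 8, 9, 5, 10, 11] 17 301040 355 = true := by decide +kernel

theorem chk_pow67_56_9 : tab.minOKc [5, 4, 3, 2, 1, 0, 5, 6, 7, 8, 9, 5, 10, 11] 17 301395 355 = true := by decide +kernel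

theorem chk_pow67_56_10 : tab.minOKc [5, 4, 3, 2, 1, 0, 5, 6, 7, 8, 9, 5, 10, 11] 17 301750 355 = true := by decide +kernel

theorem chk_pow67_56_11 : tab.minOKc [5, 4, 3, 2, 1, 0, 5, 6, 7, 8, 9, 5, 10, 11] 17 302105 355 = true := by decide +kernel

theorem chk_pow67_56_12 : tab.minOKc [5, 4, 3, 2, 1, 0, 5, 6, 7, 8, 9, 5, 10, 11] 17 302460 355 = true := by decide +kernel

theorem chk_pow67_56_13 : tab.minOKc [5, 4, 3, 2, 1, 0, 5, 6, 7, 8, 9, 5, 10, 11] 17 302815 355 = true := by decide +kernel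

theorem chk_pow67_56_14 : tab.minOKc [5, 4, 3, 2, 1, 0, 5, 6, 7, 8, 9, 5, 10, 11] 17 303170 355 = true := by decide +kernel

theorem chk_pow67_56 : tab.minOKc [5, 4, 3, 2, 1, 0, 5, 6, 7, 8, 9, 5, 10, 11] 17 298200 5325 = true := by
  refine tab.minOKc_of_chunks [5, 4, 3, 2, 1, 0, 5, 6, 7, 8, 9, 5, 10, 11] 17 298200 355 15 (by norm_num) ?_
  intro i hi
  interval_cases i
  · exact chk_pow67_56_0
  · exact chk_pow67_56_1
  · exact chk_pow67_56_2
  · exact chk_pow67_56_3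
  · exact chk_pow67_56_4
  · exact chk_pow67_56_5
  · exact chk_pow67_56_6
  · exact chk_pow67_56_7
  · exact chk_pow67_56_8
  · exact chk_pow67_56_9
  · exact chk_pow67_56_10
  · exact chk_pow67_56_11
  · exact chk_pow67_56_12
  · exact chk_pow67_56_13
  · exact chk_pow67_56_14

theorem chk_pow67_57_0 : tab.minOKc [5, 4, 3, 2, 1, 0, 5, 6, 7, 8, 9, 5, 10, 11] 17 303525 355 = true := by decide +kernel

theorem chk_pow67_57_1 : tab.minOKc [5, 4, 3, 2, 1, 0, 5, 6, 7, 8, 9, 5, 10, 11] 17 303880 355 = true := by decide +kernel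

theorem chk_pow67_57_2 : tab.minOKc [5, 4, 3, 2, 1, 0, 5, 6, 7, 8, 9, 5, 10, 11] 17 304235 355 = true := by decide +kernel

theorem chk_pow67_57_3 : tab.minOKc [5, 4, 3, 2, 1, 0, 5, 6, 7, 8, 9, 5, 10, 11] 17 304590 355 = true := by decide +kernel

theorem chk_pow67_57_4 : tab.minOKc [5, 4, 3, 2, 1, 0, 5, 6, 7, 8, 9, 5, 10, 11] 17 304945 355 = true := by decide +kernel

theorem chk_pow67_57_5 : tab.minOKc [5, 4, 3, 2, 1, 0, 5, 6, 7, 8, 9, 5, 10, 11] 17 305300 355 = true := by decide +kernel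

theorem chk_pow67_57_6 : tab.minOKc [5, 4, 3, 2, 1, 0, 5, 6, 7, 8, 9, 5, 10, 11] 17 305655 355 = true := by decide +kernel

theorem chk_pow67_57_7 : tab.minOKc [5, 4, 3, 2, 1, 0, 5, 6, 7, 8, 9, 5, 10, 11] 17 306010 355 = true := by decide +kernel

theorem chk_pow67_57_8 : tab.minOKc [5, 4, 3, 2, 1, 0, 5, 6, 7, 8, 9, 5, 10, 11] 17 306365 355 = true := by decide +kernel

theorem chk_pow67_57_9 : tab.minOKc [5, 4, 3, 2, 1, 0, 5, 6, 7, 8, 9, 5, 10, 11] 17 306720 355 = true := by decide +kernel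

theorem chk_pow67_57_10 : tab.minOKc [5, 4, 3, 2, 1, 0, 5, 6, 7, 8, 9, 5, 10, 11] 17 307075 355 = true := by decide +kernel

theorem chk_pow67_57_11 : tab.minOKc [5, 4, 3, 2, 1, 0, 5, 6, 7, 8, 9, 5, 10, 11] 17 307430 355 = true := by decide +kernel

theorem chk_pow67_57_12 : tab.minOKc [5, 4, 3, 2, 1, 0, 5, 6, 7, 8, 9, 5, 10, 11] 17 307785 355 = true := by decide +kernel

theorem chk_pow67_57_13 : tab.minOKc [5, 4, 3, 2, 1, 0, 5, 6, 7, 8, 9, 5, 10, 11] 17 308140 355 = true := by decide +kernel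

theorem chk_pow67_57_14 : tab.minOKc [5, 4, 3, 2, 1, 0, 5, 6, 7, 8, 9, 5, 10, 11] 17 308495 355 = true := by decide +kernel

theorem chk_pow67_57 : tab.minOKc [5, 4, 3, 2, 1, 0, 5, 6, 7, 8, 9, 5, 10, 11] 17 303525 5325 = true := by
  refine tab.minOKc_of_chunks [5, 4, 3, 2, 1, 0, 5, 6, 7, 8, 9, 5, 10, 11] 17 303525 355 15 (by norm_num) ?_
  intro i hi
  interval_cases i
  · exact chk_pow67_57_0
  · exact chk_pow67_57_1
  · exact chk_pow67_57_2
  · exact chk_pow67_57_3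
  · exact chk_pow67_57_4
  · exact chk_pow67_57_5
  · exact chk_pow67_57_6
  · exact chk_pow67_57_7
  · exact chk_pow67_57_8
  · exact chk_pow67_57_9
  · exact chk_pow67_57_10
  · exact chk_pow67_57_11
  · exact chk_pow67_57_12
  · exact chk_pow67_57_13
  · exact chk_pow67_57_14

end Cfsg.Agent.Lib.Helper6.Fi24TC
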