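import Cfsg.Agent.Lib.Helper6.Fi24TCData
import Cfsg.Agent.Lib.Helper6.TCRel3
import Cfsg.Agent.Lib.Helper6.Fi24TCRel0
import Cfsg.Agent.Lib.Helper6.Fi24TCRel1
import Cfsg.Agent.Lib.Helper6.Fi24TCRel2
import Cfsg.Agent.Lib.Helper6.Fi24TCRel3
import Cfsg.Agent.Lib.Helper6.Fi24TCRel4
import Cfsg.Agent.Lib.Helper6.Fi24TCRel5
import Cfsg.Agent.Lib.Helper6.Fi24TCRel6
import Cfsg.Agent.Lib.Helper6.Fi24TCRel7
import Cfsg.Agent.Lib.Helper6.Fi24TCRel8
import Cfsg.Agent.Lib.Helper6.Fi24TCRel9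
import Cfsg.Agent.Lib.Helper6.Fi24TCRel10
import Cfsg.Agent.Lib.Helper6.Fi24TCRel11
import Cfsg.Agent.Lib.Helper6.Fi24TCRel12
import Cfsg.Agent.Lib.Helper6.Fi24TCRel13
import Cfsg.Agent.Lib.Helper6.Fi24TCRel14
import Cfsg.Agent.Lib.Helper6.Fi24TCRel15
import Cfsg.Agent.Lib.Helper6.Fi24TCRel16
import Cfsg.Agent.Lib.Helper6.Fi24TCRel17
import Cfsg.Agent.Lib.Helper6.Fi24TCRel18
import Cfsg.Agent.Lib.Helper6.Fi24TCRel19
import Cfsg.Agent.Lib.Helper6.Fi24TCRel20
import Cfsg.Agent.Lib.Helper6.Fi24TCRel21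
import Cfsg.Agent.Lib.Helper6.Fi24TCRel22
import Cfsg.Agent.Lib.Helper6.Fi24TCRel23
import Cfsg.Agent.Lib.Helper6.Fi24TCRel24
import Cfsg.Agent.Lib.Helper6.Fi24TCRel25
import Cfsg.Agent.Lib.Helper6.Fi24TCRel26
import Cfsg.Agent.Lib.Helper6.Fi24TCRel27
import Cfsg.Agent.Lib.Helper6.Fi24TCRel28
import Cfsg.Agent.Lib.Helper6.Fi24TCRel29
import Cfsg.Agent.Lib.Helper6.Fi24TCRel30
import Cfsg.Agent.Lib.Helper6.Fi24TCRel31
import Cfsg.Agent.Lib.Helper6.Fi24TCRel32
import Cfsg.Agent.Lib.Helper6.Fi24TCRel33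
import Cfsg.Agent.Lib.Helper6.Fi24TCRel34
import Cfsg.Agent.Lib.Helper6.Fi24TCRel35
import Cfsg.Agent.Lib.Helper6.Fi24TCRel36
import Cfsg.Agent.Lib.Helper6.Fi24TCRel37
import Cfsg.Agent.Lib.Helper6.Fi24TCRel38
import Cfsg.Agent.Lib.Helper6.Fi24TCRel39
import Cfsg.Agent.Lib.Helper6.Fi24TCRel40
import Cfsg.Agent.Lib.Helper6.Fi24TCRel41
import Cfsg.Agent.Lib.Helper6.Fi24TCRel42
import Cfsg.Agent.Lib.Helper6.Fi24TCRel43
import Cfsg.Agent.Lib.Helper6.Fi24TCRel44
import Cfsg.Agent.Lib.Helper6.Fi24TCRel45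
import Cfsg.Agent.Lib.Helper6.Fi24TCRel46
import Cfsg.Agent.Lib.Helper6.Fi24TCRel47
import Cfsg.Agent.Lib.Helper6.Fi24TCRel48
import Cfsg.Agent.Lib.Helper6.Fi24TCRel49
import Cfsg.Agent.Lib.Helper6.Fi24TCRel50
import Cfsg.Agent.Lib.Helper6.Fi24TCRel51
import Cfsg.Agent.Lib.Helper6.Fi24TCRel52
import Cfsg.Agent.Lib.Helper6.Fi24TCRel53
import Cfsg.Agent.Lib.Helper6.Fi24TCRel54
import Cfsg.Agent.Lib.Helper6.Fi24TCRel55
import Cfsg.Agent.Lib.Helper6.Fi24TCRel56
import Cfsg.Agent.Lib.Helper6.Fi24TCRel57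
import Cfsg.Agent.Lib.Helper6.Fi24TCRel58
import Cfsg.Agent.Lib.Helper6.Fi24TCRel59
import Cfsg.Agent.Lib.Helper6.Fi24TCRel60
import Cfsg.Agent.Lib.Helper6.Fi24TCRel61
import Cfsg.Agent.Lib.Helper6.Fi24TCRel62
import Cfsg.Agent.Lib.Helper6.Fi24TCRel63
import Cfsg.Agent.Lib.Helper6.Fi24TCRel64
import Cfsg.Agent.Lib.Helper6.Fi24TCRel65
import Cfsg.Agent.Lib.Helper6.Fi24TCRel66
import Cfsg.Agent.Lib.Helper6.Fi24TCRel67
import Cfsg.Agent.Lib.Helper6.Fi24TCRel68
import Cfsg.Agent.Lib.Helper6.Fi24TCRel69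
import Cfsg.Agent.Lib.Helper6.Fi24TCRel70
import Cfsg.Agent.Lib.Helper6.Fi24TCRel71
import Cfsg.Agent.Lib.Helper6.Fi24TCRel72
import Cfsg.Agent.Lib.Helper6.Fi24TCRel73
import Cfsg.Agent.Lib.Helper6.Fi24TCRel74
import Cfsg.Agent.Lib.Helper6.Fi24TCRel75
import Cfsg.Agent.Lib.Helper6.Fi24TCRel76
import Cfsg.Agent.Lib.Helper6.Fi24TCRel77
import Cfsg.Agent.Lib.Helper6.Fi24TCRel78
import Cfsg.Agent.Lib.Helper6.Fi24TCRel79
import Cfsg.Agent.Lib.Helper6.Fi24TCRel80
import Cfsg.Agent.Lib.Helper6.Fi24TCRel81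
import Cfsg.Agent.Lib.Helper6.Fi24TCRel82
import Cfsg.Agent.Lib.Helper6.Fi24TCRel83
import Cfsg.Agent.Lib.Helper6.Fi24TCRel84
import Cfsg.Agent.Lib.Helper6.Fi24TCRel85
import Cfsg.Agent.Lib.Helper6.Fi24TCRel86
import Cfsg.Agent.Lib.Helper6.Fi24TCRel87
import Cfsg.Agent.Lib.Helper6.Fi24TCRel88
import Cfsg.Agent.Lib.Helper6.Fi24TCRel89
import Cfsg.Agent.Lib.Helper6.Fi24TCRel90
import Cfsg.Agent.Lib.Helper6.Fi24TCRel91
import Cfsg.Agent.Lib.Helper6.Fi24TCRel92
import Cfsg.Agent.Lib.Helper6.Fi24TCRel93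
import Cfsg.Agent.Lib.Helper6.Fi24TCRel94
import Cfsg.Agent.Lib.Helper6.Fi24TCRel95
import Cfsg.Agent.Lib.Helper6.Fi24TCRel96
import Cfsg.Agent.Lib.Helper6.Fi24TCRel97
import Cfsg.Agent.Lib.Helper6.Fi24TCRel98
import Cfsg.Agent.Lib.Helper6.Fi24TCRel99
import Cfsg.Agent.Lib.Helper6.Fi24TCRel100
import Cfsg.Agent.Lib.Helper6.Fi24TCRel101
import Cfsg.Agent.Lib.Helper6.Fi24TCRel102
import Cfsg.Agent.Lib.Helper6.Fi24TCRel103
import Cfsg.Agent.Lib.Helper6.Fi24TCRel104
import Cfsg.Agent.Lib.Helper6.Fi24TCRel105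
import Cfsg.Agent.Lib.Helper6.Fi24TCRel106
import Cfsg.Agent.Lib.Helper6.Fi24TCRel107
import Cfsg.Agent.Lib.Helper6.Fi24TCRel108
import Cfsg.Agent.Lib.Helper6.Fi24TCRel109
import Cfsg.Agent.Lib.Helper6.Fi24TCRel110
import Cfsg.Agent.Lib.Helper6.Fi24TCRel111
import Cfsg.Agent.Lib.Helper6.Fi24TCRel112
import Cfsg.Agent.Lib.Helper6.Fi24TCRel113
import Cfsg.Agent.Lib.Helper6.Fi24TCRel114
import Cfsg.Agent.Lib.Helper6.Fi24TCRel115
import Cfsg.Agent.Lib.Helper6.Fi24TCRel116
import Cfsg.Agent.Lib.Helper6.Fi24TCRel117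
import Cfsg.Agent.Lib.Helper6.Fi24TCRel118
import Cfsg.Agent.Lib.Helper6.Fi24TCRel119
import Cfsg.Agent.Lib.Helper6.Fi24TCRel120
import Cfsg.Agent.Lib.Helper6.Fi24TCRel121
import Cfsg.Agent.Lib.Helper6.Fi24TCRel122
import Cfsg.Agent.Lib.Helper6.Fi24TCRel123
import Cfsg.Agent.Lib.Helper6.Fi24TCRel124
import Cfsg.Agent.Lib.Helper6.Fi24TCRel125
import Cfsg.Agent.Lib.Helper6.Fi24TCRel126
import Cfsg.Agent.Lib.Helper6.Fi24TCRel127
import Cfsg.Agent.Lib.Helper6.Fi24TCRel128
import Cfsg.Agent.Lib.Helper6.Fi24TCRel129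
import Cfsg.Agent.Lib.Helper6.Fi24TCRel130
import Cfsg.Agent.Lib.Helper6.Fi24TCRel131
import Cfsg.Agent.Lib.Helper6.Fi24TCRel132
import Cfsg.Agent.Lib.Helper6.Fi24TCRel133
import Cfsg.Agent.Lib.Helper6.Fi24TCRel134
import Cfsg.Agent.Lib.Helper6.Fi24TCRel135
import Cfsg.Agent.Lib.Helper6.Fi24TCRel136
import Cfsg.Agent.Lib.Helper6.Fi24TCRel137
import Cfsg.Agent.Lib.Helper6.Fi24TCRel138
import Cfsg.Agent.Lib.Helper6.Fi24TCRel139
import Cfsg.Agent.Lib.Helper6.Fi24TCRel140
import Cfsg.Agent.Lib.Helper6.Fi24TCRel141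
import Cfsg.Agent.Lib.Helper6.Fi24TCRel142
import Cfsg.Agent.Lib.Helper6.Fi24TCRel143
import Cfsg.Agent.Lib.Helper6.Fi24TCRel144
import Cfsg.Agent.Lib.Helper6.Fi24TCRel145
import Cfsg.Agent.Lib.Helper6.Fi24TCRel146
import Cfsg.Agent.Lib.Helper6.Fi24TCRel147
import Cfsg.Agent.Lib.Helper6.Fi24TCRel148
import Cfsg.Agent.Lib.Helper6.Fi24TCRel149
import Cfsg.Agent.Lib.Helper6.Fi24TCRel150
import Cfsg.Agent.Lib.Helper6.Fi24TCRel151
import Cfsg.Agent.Lib.Helper6.Fi24TCRel152
import Cfsg.Agent.Lib.Helper6.Fi24TCRel153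
import Cfsg.Agent.Lib.Helper6.Fi24TCRel154
import Cfsg.Agent.Lib.Helper6.Fi24TCRel155
import Cfsg.Agent.Lib.Helper6.Fi24TCRel156
import Cfsg.Agent.Lib.Helper6.Fi24TCRel157
import Cfsg.Agent.Lib.Helper6.Fi24TCRel158
import Cfsg.Agent.Lib.Helper6.Fi24TCRel159
import Cfsg.Agent.Lib.Helper6.Fi24TCRel160
import Cfsg.Agent.Lib.Helper6.Fi24TCRel161
import Cfsg.Agent.Lib.Helper6.Fi24TCRel162
import Cfsg.Agent.Lib.Helper6.Fi24TCRel163
import Cfsg.Agent.Lib.Helper6.Fi24TCRel164
import Cfsg.Agent.Lib.Helper6.Fi24TCRel165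
import Cfsg.Agent.Lib.Helper6.Fi24TCRel166
import Cfsg.Agent.Lib.Helper6.Fi24TCRel167
import Cfsg.Agent.Lib.Helper6.Fi24TCRel168
import Cfsg.Agent.Lib.Helper6.Fi24TCRel169
import Cfsg.Agent.Lib.Helper6.Fi24TCRel170
import Cfsg.Agent.Lib.Helper6.Fi24TCRel171
import Cfsg.Agent.Lib.Helper6.Fi24TCRel172
import Cfsg.Agent.Lib.Helper6.Fi24TCRel173
import Cfsg.Agent.Lib.Helper6.Fi24TCRel174
import Cfsg.Agent.Lib.Helper6.Fi24TCRel175
import Cfsg.Agent.Lib.Helper6.Fi24TCRel176
import Cfsg.Agent.Lib.Helper6.Fi24TCRel177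
import Cfsg.Agent.Lib.Helper6.Fi24TCRel178
import Cfsg.Agent.Lib.Helper6.Fi24TCRel179
import Cfsg.Agent.Lib.Helper6.Fi24TCRel180
import Cfsg.Agent.Lib.Helper6.Fi24TCRel181
import Cfsg.Agent.Lib.Helper6.Fi24TCRel182
import Cfsg.Agent.Lib.Helper6.Fi24TCRel183
import Cfsg.Agent.Lib.Helper6.Fi24TCRel184
import Cfsg.Agent.Lib.Helper6.Fi24TCRel185
import Cfsg.Agent.Lib.Helper6.Fi24TCRel186
import Cfsg.Agent.Lib.Helper6.Fi24TCRel187
import Cfsg.Agent.Lib.Helper6.Fi24TCRel188
import Cfsg.Agent.Lib.Helper6.Fi24TCRel189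
import Cfsg.Agent.Lib.Helper6.Fi24TCRel190
import Cfsg.Agent.Lib.Helper6.Fi24TCRel191
import Cfsg.Agent.Lib.Helper6.Fi24TCRel192
import Cfsg.Agent.Lib.Helper6.Fi24TCRel193

/-! # Fi24: the relators hold on the coset table -/

set_option autoImplicit false

namespace Cfsg.Agent.Lib.Helper6.Fi24TC

open Cfsg.Agent.Lib.Helper6.TC

theorem chk_pow0 : tab.minOK [0, 1] 3 = true := by
  refine tab.minOK_of_chunks [0, 1] 3 81255 4 (by decide +kernel) (by norm_num) (by show 306936 ≤ 4 * 81255; norm_num) ?_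
  intro i hi
  interval_cases i
  · exact chk_pow0_0
  · exact chk_pow0_1
  · exact chk_pow0_2
  · exact chk_pow0_3

theorem chk_pow1 : tab.minOK [0, 2] 2 = true := by
  refine tab.minOK_of_chunks [0, 2] 2 100845 4 (by decide +kernel) (by norm_num) (by show 306936 ≤ 4 * 100845; norm_num) ?_
  intro i hi
  interval_cases i
  · exact chk_pow1_0
  · exact chk_pow1_1
  · exact chk_pow1_2
  · exact chk_pow1_3

theorem chk_pow2 : tab.minOK [1, 2] 3 = true := by
  refine tab.minOK_of_chunks [1, 2] 3 79185 4 (by decide +kernel) (by norm_num) (by show 306936 ≤ 4 * 79185; norm_num) ?_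
  intro i hi
  interval_cases i
  · exact chk_pow2_0
  · exact chk_pow2_1
  · exact chk_pow2_2
  · exact chk_pow2_3

theorem chk_pow3 : tab.minOK [0, 3] 2 = true := by
  refine tab.minOK_of_chunks [0, 3] 2 101040 4 (by decide +kernel) (by norm_num) (by show 306936 ≤ 4 * 101040; norm_num) ?_
  intro i hi
  interval_cases i
  · exact chk_pow3_0
  · exact chk_pow3_1
  · exact chk_pow3_2
  · exact chk_pow3_3

theorem chk_pow4 : tab.minOK [1, 3] 2 = true := by
  refine tab.minOK_of_chunks [1, 3] 2 100800 4 (by decide +kernel) (by norm_num) (by show 306936 ≤ 4 * 100800; norm_num) ?_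
  intro i hi
  interval_cases i
  · exact chk_pow4_0
  · exact chk_pow4_1
  · exact chk_pow4_2
  · exact chk_pow4_3

theorem chk_pow5 : tab.minOK [2, 3] 3 = true := by
  refine tab.minOK_of_chunks [2, 3] 3 81585 4 (by decide +kernel) (by norm_num) (by show 306936 ≤ 4 * 81585; norm_num) ?_
  intro i hi
  interval_cases i
  · exact chk_pow5_0
  · exact chk_pow5_1
  · exact chk_pow5_2
  · exact chk_pow5_3

theorem chk_pow6 : tab.minOK [0, 4] 2 = true := by
  refine tab.minOK_of_chunks [0, 4] 2 100410 4 (by decide +kernel) (by norm_num) (by show 306936 ≤ 4 * 100410; norm_num) ?_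
  intro i hi
  interval_cases i
  · exact chk_pow6_0
  · exact chk_pow6_1
  · exact chk_pow6_2
  · exact chk_pow6_3

theorem chk_pow7 : tab.minOK [1, 4] 2 = true := by
  refine tab.minOK_of_chunks [1, 4] 2 100110 4 (by decide +kernel) (by norm_num) (by show 306936 ≤ 4 * 100110; norm_num) ?_
  intro i hi
  interval_cases i
  · exact chk_pow7_0
  · exact chk_pow7_1
  · exact chk_pow7_2
  · exact chk_pow7_3

theorem chk_pow8 : tab.minOK [2, 4] 2 = true := by
  refine tab.minOK_of_chunks [2, 4] 2 100020 4 (by decide +kernel) (by norm_num) (by show 306936 ≤ 4 * 100020; norm_num) ?_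
  intro i hi
  interval_cases i
  · exact chk_pow8_0
  · exact chk_pow8_1
  · exact chk_pow8_2
  · exact chk_pow8_3

theorem chk_pow9 : tab.minOK [3, 4] 3 = true := by
  refine tab.minOK_of_chunks [3, 4] 3 81165 4 (by decide +kernel) (by norm_num) (by show 306936 ≤ 4 * 81165; norm_num) ?_
  intro i hi
  interval_cases i
  · exact chk_pow9_0
  · exact chk_pow9_1
  · exact chk_pow9_2
  · exact chk_pow9_3

theorem chk_pow10 : tab.minOK [0, 5] 2 = true := by
  refine tab.minOK_of_chunks [0, 5] 2 99600 4 (by decide +kernel) (by norm_num) (by show 306936 ≤ 4 * 99600; norm_num) ?_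
  intro i hi
  interval_cases i
  · exact chk_pow10_0
  · exact chk_pow10_1
  · exact chk_pow10_2
  · exact chk_pow10_3

theorem chk_pow11 : tab.minOK [1, 5] 2 = true := by
  refine tab.minOK_of_chunks [1, 5] 2 100125 4 (by decide +kernel) (by norm_num) (by show 306936 ≤ 4 * 100125; norm_num) ?_
  intro i hi
  interval_cases i
  · exact chk_pow11_0
  · exact chk_pow11_1
  · exact chk_pow11_2
  · exact chk_pow11_3

theorem chk_pow12 : tab.minOK [2, 5] 2 = true := by
  refine tab.minOK_of_chunks [2, 5] 2 100680 4 (by decide +kernel) (by norm_num) (by show 306936 ≤ 4 * 100680; norm_num) ?_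
  intro i hi
  interval_cases i
  · exact chk_pow12_0
  · exact chk_pow12_1
  · exact chk_pow12_2
  · exact chk_pow12_3

theorem chk_pow13 : tab.minOK [3, 5] 2 = true := by
  refine tab.minOK_of_chunks [3, 5] 2 99465 4 (by decide +kernel) (by norm_num) (by show 306936 ≤ 4 * 99465; norm_num) ?_
  intro i hi
  interval_cases i
  · exact chk_pow13_0
  · exact chk_pow13_1
  · exact chk_pow13_2
  · exact chk_pow13_3

theorem chk_pow14 : tab.minOK [4, 5] 3 = true := by
  refine tab.minOK_of_chunks [4, 5] 3 80250 4 (by decide +kernel) (by norm_num) (by show 306936 ≤ 4 * 80250; norm_num) ?_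
  intro i hi
  interval_cases i
  · exact chk_pow14_0
  · exact chk_pow14_1
  · exact chk_pow14_2
  · exact chk_pow14_3

theorem chk_pow15 : tab.minOK [0, 6] 2 = true := by
  refine tab.minOK_of_chunks [0, 6] 2 100545 4 (by decide +kernel) (by norm_num) (by show 306936 ≤ 4 * 100545; norm_num) ?_
  intro i hi
  interval_cases i
  · exact chk_pow15_0
  · exact chk_pow15_1
  · exact chk_pow15_2
  · exact chk_pow15_3

theorem chk_pow16 : tab.minOK [1, 6] 2 = true := by
  refine tab.minOK_of_chunks [1, 6] 2 101025 4 (by decide +kernel) (by norm_num) (by show 306936 ≤ 4 * 101025; norm_num) ?_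
  intro i hi
  interval_cases i
  · exact chk_pow16_0
  · exact chk_pow16_1
  · exact chk_pow16_2
  · exact chk_pow16_3

theorem chk_pow17 : tab.minOK [2, 6] 2 = true := by
  refine tab.minOK_of_chunks [2, 6] 2 100635 4 (by decide +kernel) (by norm_num) (by show 306936 ≤ 4 * 100635; norm_num) ?_
  intro i hi
  interval_cases i
  · exact chk_pow17_0
  · exact chk_pow17_1
  · exact chk_pow17_2
  · exact chk_pow17_3

theorem chk_pow18 : tab.minOK [3, 6] 2 = true := by
  refine tab.minOK_of_chunks [3, 6] 2 101415 4 (by decide +kernel) (by norm_num) (by show 306936 ≤ 4 * 101415; norm_num) ?_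
  intro i hi
  interval_cases i
  · exact chk_pow18_0
  · exact chk_pow18_1
  · exact chk_pow18_2
  · exact chk_pow18_3

theorem chk_pow19 : tab.minOK [4, 6] 2 = true := by
  refine tab.minOK_of_chunks [4, 6] 2 100455 4 (by decide +kernel) (by norm_num) (by show 306936 ≤ 4 * 100455; norm_num) ?_
  intro i hi
  interval_cases i
  · exact chk_pow19_0
  · exact chk_pow19_1
  · exact chk_pow19_2
  · exact chk_pow19_3

theorem chk_pow20 : tab.minOK [5, 6] 3 = true := by
  refine tab.minOK_of_chunks [5, 6] 3 81840 4 (by decide +kernel) (by norm_num) (by show 306936 ≤ 4 * 81840; norm_num) ?_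
  intro i hi
  interval_cases i
  · exact chk_pow20_0
  · exact chk_pow20_1
  · exact chk_pow20_2
  · exact chk_pow20_3

theorem chk_pow21 : tab.minOK [0, 7] 2 = true := by
  refine tab.minOK_of_chunks [0, 7] 2 100950 4 (by decide +kernel) (by norm_num) (by show 306936 ≤ 4 * 100950; norm_num) ?_
  intro i hi
  interval_cases i
  · exact chk_pow21_0
  · exact chk_pow21_1
  · exact chk_pow21_2
  · exact chk_pow21_3

theorem chk_pow22 : tab.minOK [1, 7] 2 = true := by
  refine tab.minOK_of_chunks [1, 7] 2 100620 4 (by decide +kernel) (by norm_num) (by show 306936 ≤ 4 * 100620; norm_num) ?_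
  intro i hi
  interval_cases i
  · exact chk_pow22_0
  · exact chk_pow22_1
  · exact chk_pow22_2
  · exact chk_pow22_3

theorem chk_pow23 : tab.minOK [2, 7] 2 = true := by
  refine tab.minOK_of_chunks [2, 7] 2 100950 4 (by decide +kernel) (by norm_num) (by show 306936 ≤ 4 * 100950; norm_num) ?_
  intro i hi
  interval_cases i
  · exact chk_pow23_0
  · exact chk_pow23_1
  · exact chk_pow23_2
  · exact chk_pow23_3

theorem chk_pow24 : tab.minOK [3, 7] 2 = true := by
  refine tab.minOK_of_chunks [3, 7] 2 101130 4 (by decide +kernel) (by norm_num) (by show 306936 ≤ 4 * 101130; norm_num) ?_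
  intro i hi
  interval_cases i
  · exact chk_pow24_0
  · exact chk_pow24_1
  · exact chk_pow24_2
  · exact chk_pow24_3

theorem chk_pow25 : tab.minOK [4, 7] 2 = true := by
  refine tab.minOK_of_chunks [4, 7] 2 101355 4 (by decide +kernel) (by norm_num) (by show 306936 ≤ 4 * 101355; norm_num) ?_
  intro i hi
  interval_cases i
  · exact chk_pow25_0
  · exact chk_pow25_1
  · exact chk_pow25_2
  · exact chk_pow25_3

theorem chk_pow26 : tab.minOK [5, 7] 2 = true := by
  refine tab.minOK_of_chunks [5, 7] 2 99930 4 (by decide +kernel) (by norm_num) (by show 306936 ≤ 4 * 99930; norm_num) ?_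
  intro i hi
  interval_cases i
  · exact chk_pow26_0
  · exact chk_pow26_1
  · exact chk_pow26_2
  · exact chk_pow26_3

theorem chk_pow27 : tab.minOK [6, 7] 3 = true := by
  refine tab.minOK_of_chunks [6, 7] 3 84060 4 (by decide +kernel) (by norm_num) (by show 306936 ≤ 4 * 84060; norm_num) ?_
  intro i hi
  interval_cases i
  · exact chk_pow27_0
  · exact chk_pow27_1
  · exact chk_pow27_2
  · exact chk_pow27_3

theorem chk_pow28 : tab.minOK [0, 8] 2 = true := by
  refine tab.minOK_of_chunks [0, 8] 2 100530 4 (by decide +kernel) (by norm_num) (by show 306936 ≤ 4 * 100530; norm_num) ?_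
  intro i hi
  interval_cases i
  · exact chk_pow28_0
  · exact chk_pow28_1
  · exact chk_pow28_2
  · exact chk_pow28_3

theorem chk_pow29 : tab.minOK [1, 8] 2 = true := by
  refine tab.minOK_of_chunks [1, 8] 2 99975 4 (by decide +kernel) (by norm_num) (by show 306936 ≤ 4 * 99975; norm_num) ?_
  intro i hi
  interval_cases i
  · exact chk_pow29_0
  · exact chk_pow29_1
  · exact chk_pow29_2
  · exact chk_pow29_3

theorem chk_pow30 : tab.minOK [2, 8] 2 = true := by
  refine tab.minOK_of_chunks [2, 8] 2 100635 4 (by decide +kernel) (by norm_num) (by show 306936 ≤ 4 * 100635; norm_num) ?_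
  intro i hi
  interval_cases i
  · exact chk_pow30_0
  · exact chk_pow30_1
  · exact chk_pow30_2
  · exact chk_pow30_3

theorem chk_pow31 : tab.minOK [3, 8] 2 = true := by
  refine tab.minOK_of_chunks [3, 8] 2 101130 4 (by decide +kernel) (by norm_num) (by show 306936 ≤ 4 * 101130; norm_num) ?_
  intro i hi
  interval_cases i
  · exact chk_pow31_0
  · exact chk_pow31_1
  · exact chk_pow31_2
  · exact chk_pow31_3

theorem chk_pow32 : tab.minOK [4, 8] 2 = true := by
  refine tab.minOK_of_chunks [4, 8] 2 99720 4 (by decide +kernel) (by norm_num) (by show 306936 ≤ 4 * 99720; norm_num) ?_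
  intro i hi
  interval_cases i
  · exact chk_pow32_0
  · exact chk_pow32_1
  · exact chk_pow32_2
  · exact chk_pow32_3

theorem chk_pow33 : tab.minOK [5, 8] 2 = true := by
  refine tab.minOK_of_chunks [5, 8] 2 100065 4 (by decide +kernel) (by norm_num) (by show 306936 ≤ 4 * 100065; norm_num) ?_
  intro i hi
  interval_cases i
  · exact chk_pow33_0
  · exact chk_pow33_1
  · exact chk_pow33_2
  · exact chk_pow33_3

theorem chk_pow34 : tab.minOK [6, 8] 2 = true := by
  refine tab.minOK_of_chunks [6, 8] 2 100755 4 (by decide +kernel) (by norm_num) (by show 306936 ≤ 4 * 100755; norm_num) ?_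
  intro i hi
  interval_cases i
  · exact chk_pow34_0
  · exact chk_pow34_1
  · exact chk_pow34_2
  · exact chk_pow34_3

theorem chk_pow35 : tab.minOK [7, 8] 3 = true := by
  refine tab.minOK_of_chunks [7, 8] 3 84045 4 (by decide +kernel) (by norm_num) (by show 306936 ≤ 4 * 84045; norm_num) ?_
  intro i hi
  interval_cases i
  · exact chk_pow35_0
  · exact chk_pow35_1
  · exact chk_pow35_2
  · exact chk_pow35_3

theorem chk_pow36 : tab.minOK [0, 9] 2 = true := by
  refine tab.minOK_of_chunks [0, 9] 2 99765 4 (by decide +kernel) (by norm_num) (by show 306936 ≤ 4 * 99765; norm_num) ?_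
  intro i hi
  interval_cases i
  · exact chk_pow36_0
  · exact chk_pow36_1
  · exact chk_pow36_2
  · exact chk_pow36_3

theorem chk_pow37 : tab.minOK [1, 9] 2 = true := by
  refine tab.minOK_of_chunks [1, 9] 2 99855 4 (by decide +kernel) (by norm_num) (by show 306936 ≤ 4 * 99855; norm_num) ?_
  intro i hi
  interval_cases i
  · exact chk_pow37_0
  · exact chk_pow37_1
  · exact chk_pow37_2
  · exact chk_pow37_3

theorem chk_pow38 : tab.minOK [2, 9] 2 = true := by
  refine tab.minOK_of_chunks [2, 9] 2 99765 4 (by decide +kernel) (by norm_num) (by show 306936 ≤ 4 * 99765; norm_num) ?_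
  intro i hi
  interval_cases i
  · exact chk_pow38_0
  · exact chk_pow38_1
  · exact chk_pow38_2
  · exact chk_pow38_3

theorem chk_pow39 : tab.minOK [3, 9] 2 = true := by
  refine tab.minOK_of_chunks [3, 9] 2 101250 4 (by decide +kernel) (by norm_num) (by show 306936 ≤ 4 * 101250; norm_num) ?_
  intro i hi
  interval_cases i
  · exact chk_pow39_0
  · exact chk_pow39_1
  · exact chk_pow39_2
  · exact chk_pow39_3

theorem chk_pow40 : tab.minOK [4, 9] 2 = true := by
  refine tab.minOK_of_chunks [4, 9] 2 99810 4 (by decide +kernel) (by norm_num) (by show 306936 ≤ 4 * 99810; norm_num) ?_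
  intro i hi
  interval_cases i
  · exact chk_pow40_0
  · exact chk_pow40_1
  · exact chk_pow40_2
  · exact chk_pow40_3

theorem chk_pow41 : tab.minOK [5, 9] 2 = true := by
  refine tab.minOK_of_chunks [5, 9] 2 99330 4 (by decide +kernel) (by norm_num) (by show 306936 ≤ 4 * 99330; norm_num) ?_
  intro i hi
  interval_cases i
  · exact chk_pow41_0
  · exact chk_pow41_1
  · exact chk_pow41_2
  · exact chk_pow41_3

theorem chk_pow42 : tab.minOK [6, 9] 2 = true := by
  refine tab.minOK_of_chunks [6, 9] 2 101070 4 (by decide +kernel) (by norm_num) (by show 306936 ≤ 4 * 101070; norm_num) ?_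
  intro i hi
  interval_cases i
  · exact chk_pow42_0
  · exact chk_pow42_1
  · exact chk_pow42_2
  · exact chk_pow42_3

theorem chk_pow43 : tab.minOK [7, 9] 2 = true := by
  refine tab.minOK_of_chunks [7, 9] 2 100170 4 (by decide +kernel) (by norm_num) (by show 306936 ≤ 4 * 100170; norm_num) ?_
  intro i hi
  interval_cases i
  · exact chk_pow43_0
  · exact chk_pow43_1
  · exact chk_pow43_2
  · exact chk_pow43_3

theorem chk_pow44 : tab.minOK [8, 9] 3 = true := by
  refine tab.minOK_of_chunks [8, 9] 3 83280 4 (by decide +kernel) (by norm_num) (by show 306936 ≤ 4 * 83280; norm_num) ?_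
  intro i hi
  interval_cases i
  · exact chk_pow44_0
  · exact chk_pow44_1
  · exact chk_pow44_2
  · exact chk_pow44_3

theorem chk_pow45 : tab.minOK [0, 10] 2 = true := by
  refine tab.minOK_of_chunks [0, 10] 2 101985 4 (by decide +kernel) (by norm_num) (by show 306936 ≤ 4 * 101985; norm_num) ?_
  intro i hi
  interval_cases i
  · exact chk_pow45_0
  · exact chk_pow45_1
  · exact chk_pow45_2
  · exact chk_pow45_3

theorem chk_pow46 : tab.minOK [1, 10] 2 = true := by
  refine tab.minOK_of_chunks [1, 10] 2 101550 4 (by decide +kernel) (by norm_num) (by show 306936 ≤ 4 * 101550; norm_num) ?_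
  intro i hi
  interval_cases i
  · exact chk_pow46_0
  · exact chk_pow46_1
  · exact chk_pow46_2
  · exact chk_pow46_3

theorem chk_pow47 : tab.minOK [2, 10] 2 = true := by
  refine tab.minOK_of_chunks [2, 10] 2 100980 4 (by decide +kernel) (by norm_num) (by show 306936 ≤ 4 * 100980; norm_num) ?_
  intro i hi
  interval_cases i
  · exact chk_pow47_0
  · exact chk_pow47_1
  · exact chk_pow47_2
  · exact chk_pow47_3

theorem chk_pow48 : tab.minOK [3, 10] 2 = true := by
  refine tab.minOK_of_chunks [3, 10] 2 101175 4 (by decide +kernel) (by norm_num) (by show 306936 ≤ 4 * 101175; norm_num) ?_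
  intro i hi
  interval_cases i
  · exact chk_pow48_0
  · exact chk_pow48_1
  · exact chk_pow48_2
  · exact chk_pow48_3

theorem chk_pow49 : tab.minOK [4, 10] 2 = true := by
  refine tab.minOK_of_chunks [4, 10] 2 100980 4 (by decide +kernel) (by norm_num) (by show 306936 ≤ 4 * 100980; norm_num) ?_
  intro i hi
  interval_cases i
  · exact chk_pow49_0
  · exact chk_pow49_1
  · exact chk_pow49_2
  · exact chk_pow49_3

theorem chk_pow50 : tab.minOK [5, 10] 3 = true := by
  refine tab.minOK_of_chunks [5, 10] 3 81720 4 (by decide +kernel) (by norm_num) (by show 306936 ≤ 4 * 81720; norm_num) ?_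
  intro i hi
  interval_cases i
  · exact chk_pow50_0
  · exact chk_pow50_1
  · exact chk_pow50_2
  · exact chk_pow50_3

theorem chk_pow51 : tab.minOK [6, 10] 2 = true := by
  refine tab.minOK_of_chunks [6, 10] 2 102135 4 (by decide +kernel) (by norm_num) (by show 306936 ≤ 4 * 102135; norm_num) ?_
  intro i hi
  interval_cases i
  · exact chk_pow51_0
  · exact chk_pow51_1
  · exact chk_pow51_2
  · exact chk_pow51_3

theorem chk_pow52 : tab.minOK [7, 10] 2 = true := by
  refine tab.minOK_of_chunks [7, 10] 2 101685 4 (by decide +kernel) (by norm_num) (by show 306936 ≤ 4 * 101685; norm_num) ?_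
  intro i hi
  interval_cases i
  · exact chk_pow52_0
  · exact chk_pow52_1
  · exact chk_pow52_2
  · exact chk_pow52_3

theorem chk_pow53 : tab.minOK [8, 10] 2 = true := by
  refine tab.minOK_of_chunks [8, 10] 2 100995 4 (by decide +kernel) (by norm_num) (by show 306936 ≤ 4 * 100995; norm_num) ?_
  intro i hi
  interval_cases i
  · exact chk_pow53_0
  · exact chk_pow53_1
  · exact chk_pow53_2
  · exact chk_pow53_3

theorem chk_pow54 : tab.minOK [9, 10] 2 = true := by
  refine tab.minOK_of_chunks [9, 10] 2 101475 4 (by decide +kernel) (by norm_num) (by show 306936 ≤ 4 * 101475; norm_num) ?_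
  intro i hi
  interval_cases i
  · exact chk_pow54_0
  · exact chk_pow54_1
  · exact chk_pow54_2
  · exact chk_pow54_3

theorem chk_pow55 : tab.minOK [0, 11] 2 = true := by
  refine tab.minOK_of_chunks [0, 11] 2 99660 4 (by decide +kernel) (by norm_num) (by show 306936 ≤ 4 * 99660; norm_num) ?_
  intro i hi
  interval_cases i
  · exact chk_pow55_0
  · exact chk_pow55_1
  · exact chk_pow55_2
  · exact chk_pow55_3

theorem chk_pow56 : tab.minOK [1, 11] 2 = true := by
  refine tab.minOK_of_chunks [1, 11] 2 99615 4 (by decide +kernel) (by norm_num) (by show 306936 ≤ 4 * 99615; norm_num) ?_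
  intro i hi
  interval_cases i
  · exact chk_pow56_0
  · exact chk_pow56_1
  · exact chk_pow56_2
  · exact chk_pow56_3

theorem chk_pow57 : tab.minOK [2, 11] 2 = true := by
  refine tab.minOK_of_chunks [2, 11] 2 99195 4 (by decide +kernel) (by norm_num) (by show 306936 ≤ 4 * 99195; norm_num) ?_
  intro i hi
  interval_cases i
  · exact chk_pow57_0
  · exact chk_pow57_1
  · exact chk_pow57_2
  · exact chk_pow57_3

theorem chk_pow58 : tab.minOK [3, 11] 2 = true := by
  refine tab.minOK_of_chunks [3, 11] 2 100185 4 (by decide +kernel) (by norm_num) (by show 306936 ≤ 4 * 100185; norm_num) ?_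
  intro i hi
  interval_cases i
  · exact chk_pow58_0
  · exact chk_pow58_1
  · exact chk_pow58_2
  · exact chk_pow58_3

theorem chk_pow59 : tab.minOK [4, 11] 2 = true := by
  refine tab.minOK_of_chunks [4, 11] 2 99405 4 (by decide +kernel) (by norm_num) (by show 306936 ≤ 4 * 99405; norm_num) ?_
  intro i hi
  interval_cases i
  · exact chk_pow59_0
  · exact chk_pow59_1
  · exact chk_pow59_2
  · exact chk_pow59_3

theorem chk_pow60 : tab.minOK [5, 11] 2 = true := by
  refine tab.minOK_of_chunks [5, 11] 2 99600 4 (by decide +kernel) (by norm_num) (by show 306936 ≤ 4 * 99600; norm_num) ?_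
  intro i hi
  interval_cases i
  · exact chk_pow60_0
  · exact chk_pow60_1
  · exact chk_pow60_2
  · exact chk_pow60_3

theorem chk_pow61 : tab.minOK [6, 11] 2 = true := by
  refine tab.minOK_of_chunks [6, 11] 2 100260 4 (by decide +kernel) (by norm_num) (by show 306936 ≤ 4 * 100260; norm_num) ?_
  intro i hi
  interval_cases i
  · exact chk_pow61_0
  · exact chk_pow61_1
  · exact chk_pow61_2
  · exact chk_pow61_3

theorem chk_pow62 : tab.minOK [7, 11] 2 = true := by
  refine tab.minOK_of_chunks [7, 11] 2 99555 4 (by decide +kernel) (by norm_num) (by show 306936 ≤ 4 * 99555; norm_num) ?_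
  intro i hi
  interval_cases i
  · exact chk_pow62_0
  · exact chk_pow62_1
  · exact chk_pow62_2
  · exact chk_pow62_3

theorem chk_pow63 : tab.minOK [8, 11] 2 = true := by
  refine tab.minOK_of_chunks [8, 11] 2 99270 4 (by decide +kernel) (by norm_num) (by show 306936 ≤ 4 * 99270; norm_num) ?_
  intro i hi
  interval_cases i
  · exact chk_pow63_0
  · exact chk_pow63_1
  · exact chk_pow63_2
  · exact chk_pow63_3

theorem chk_pow64 : tab.minOK [9, 11] 2 = true := by
  refine tab.minOK_of_chunks [9, 11] 2 99660 4 (by decide +kernel) (by norm_num) (by show 306936 ≤ 4 * 99660; norm_num) ?_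
  intro i hi
  interval_cases i
  · exact chk_pow64_0
  · exact chk_pow64_1
  · exact chk_pow64_2
  · exact chk_pow64_3

theorem chk_pow65 : tab.minOK [10, 11] 3 = true := by
  refine tab.minOK_of_chunks [10, 11] 3 81195 4 (by decide +kernel) (by norm_num) (by show 306936 ≤ 4 * 81195; norm_num) ?_
  intro i hi
  interval_cases i
  · exact chk_pow65_0
  · exact chk_pow65_1
  · exact chk_pow65_2
  · exact chk_pow65_3

theorem chk_pow66 : tab.minOK [0, 10, 7, 6, 5, 4, 3, 2, 10, 7, 6, 5, 4, 3, 2, 10, 7, 6, 5, 4, 3, 2, 10, 7, 6, 5, 4, 3, 2, 10, 7, 6, 5, 4, 3, 2, 10, 7, 6, 5, 4, 3, 2, 10, 7, 6, 5, 4, 3, 2, 10, 7, 6, 5, 4, 3, 2, 10, 7, 6, 5, 4, 3, 2] 1 = true := by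
  refine tab.minOK_of_chunks [0, 10, 7, 6, 5, 4, 3, 2, 10, 7, 6, 5, 4, 3, 2, 10, 7, 6, 5, 4, 3, 2, 10, 7, 6, 5, 4, 3, 2, 10, 7, 6, 5, 4, 3, 2, 10, 7, 6, 5, 4, 3, 2, 10, 7, 6, 5, 4, 3, 2, 10, 7, 6, 5, 4, 3, 2, 10, 7, 6, 5, 4, 3, 2] 1 4680 66 (by decide +kernel) (by norm_num) (by show 306936 ≤ 66 * 4680; norm_num) ?_
  intro i hi
  interval_cases i
  · exact chk_pow66_0
  · exact chk_pow66_1
  · exact chk_pow66_2
  · exact chk_pow66_3
  · exact chk_pow66_4
  · exact chk_pow66_5
  · exact chk_pow66_6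
  · exact chk_pow66_7
  · exact chk_pow66_8
  · exact chk_pow66_9
  · exact chk_pow66_10
  · exact chk_pow66_11
  · exact chk_pow66_12
  · exact chk_pow66_13
  · exact chk_pow66_14
  · exact chk_pow66_15
  · exact chk_pow66_16
  · exact chk_pow66_17
  · exact chk_pow66_18
  · exact chk_pow66_19
  · exact chk_pow66_20
  · exact chk_pow66_21
  · exact chk_pow66_22
  · exact chk_pow66_23
  · exact chk_pow66_24
  · exact chk_pow66_25
  · exact chk_pow66_26
  · exact chk_pow66_27
  · exact chk_pow66_28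
  · exact chk_pow66_29
  · exact chk_pow66_30
  · exact chk_pow66_31
  · exact chk_pow66_32
  · exact chk_pow66_33
  · exact chk_pow66_34
  · exact chk_pow66_35
  · exact chk_pow66_36
  · exact chk_pow66_37
  · exact chk_pow66_38
  · exact chk_pow66_39
  · exact chk_pow66_40
  · exact chk_pow66_41
  · exact chk_pow66_42
  · exact chk_pow66_43
  · exact chk_pow66_44
  · exact chk_pow66_45
  · exact chk_pow66_46
  · exact chk_pow66_47
  · exact chk_pow66_48
  · exact chk_pow66_49
  · exact chk_pow66_50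
  · exact chk_pow66_51
  · exact chk_pow66_52
  · exact chk_pow66_53
  · exact chk_pow66_54
  · exact chk_pow66_55
  · exact chk_pow66_56
  · exact chk_pow66_57
  · exact chk_pow66_58
  · exact chk_pow66_59
  · exact chk_pow66_60
  · exact chk_pow66_61
  · exact chk_pow66_62
  · exact chk_pow66_63
  · exact chk_pow66_64
  · exact chk_pow66_65

theorem chk_pow67 : tab.minOK [5, 4, 3, 2, 1, 0, 5, 6, 7, 8, 9, 5, 10, 11] 17 = true := by
  refine tab.minOK_of_chunks [5, 4, 3, 2, 1, 0, 5, 6, 7, 8, 9, 5, 10, 11] 17 5325 58 (by decide +kernel) (by norm_num) (by show 306936 ≤ 58 * 5325; norm_num) ?_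
  intro i hi
  interval_cases i
  · exact chk_pow67_0
  · exact chk_pow67_1
  · exact chk_pow67_2
  · exact chk_pow67_3
  · exact chk_pow67_4
  · exact chk_pow67_5
  · exact chk_pow67_6
  · exact chk_pow67_7
  · exact chk_pow67_8
  · exact chk_pow67_9
  · exact chk_pow67_10
  · exact chk_pow67_11
  · exact chk_pow67_12
  · exact chk_pow67_13
  · exact chk_pow67_14
  · exact chk_pow67_15
  · exact chk_pow67_16
  · exact chk_pow67_17
  · exact chk_pow67_18
  · exact chk_pow67_19
  · exact chk_pow67_20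
  · exact chk_pow67_21
  · exact chk_pow67_22
  · exact chk_pow67_23
  · exact chk_pow67_24
  · exact chk_pow67_25
  · exact chk_pow67_26
  · exact chk_pow67_27
  · exact chk_pow67_28
  · exact chk_pow67_29
  · exact chk_pow67_30
  · exact chk_pow67_31
  · exact chk_pow67_32
  · exact chk_pow67_33
  · exact chk_pow67_34
  · exact chk_pow67_35
  · exact chk_pow67_36
  · exact chk_pow67_37
  · exact chk_pow67_38
  · exact chk_pow67_39
  · exact chk_pow67_40
  · exact chk_pow67_41
  · exact chk_pow67_42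
  · exact chk_pow67_43
  · exact chk_pow67_44
  · exact chk_pow67_45
  · exact chk_pow67_46
  · exact chk_pow67_47
  · exact chk_pow67_48
  · exact chk_pow67_49
  · exact chk_pow67_50
  · exact chk_pow67_51
  · exact chk_pow67_52
  · exact chk_pow67_53
  · exact chk_pow67_54
  · exact chk_pow67_55
  · exact chk_pow67_56
  · exact chk_pow67_57

end Cfsg.Agent.Lib.Helper6.Fi24TC
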