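import Cfsg.Agent.Lib.Helper6.Fi24TCData
import Cfsg.Agent.Lib.Helper6.TCChunk
import Cfsg.Agent.Lib.Helper6.Fi24TCRel183

/-! # Fi24: the kernel check of the coset table, part 1 -/

set_option autoImplicit false

namespace Cfsg.Agent.Lib.Helper6.Fi24TC

open Cfsg.Agent.Lib.Helper6.TC Cfsg.Agent.Lib.Helper6.TCS

theorem chk_tab9 : tab.tabOKc 18000 2000 = true := by decide +kernel

theorem chk_tab10 : tab.tabOKc 20000 2000 = true := by decide +kernel

theorem chk_tab11 : tab.tabOKc 22000 2000 = true := by decide +kernel

theorem chk_tab12 : tab.tabOKc 24000 2000 = true := by decide +kernel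

theorem chk_tab13 : tab.tabOKc 26000 2000 = true := by decide +kernel

theorem chk_tab14 : tab.tabOKc 28000 2000 = true := by decide +kernel

theorem chk_tab15 : tab.tabOKc 30000 2000 = true := by decide +kernel

theorem chk_tab16 : tab.tabOKc 32000 2000 = true := by decide +kernel

theorem chk_tab17 : tab.tabOKc 34000 2000 = true := by decide +kernel

end Cfsg.Agent.Lib.Helper6.Fi24TC
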