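import Cfsg.Agent.Lib.Helper6.Fi24TCData
import Cfsg.Agent.Lib.Helper6.TCChunk
import Cfsg.Agent.Lib.Helper6.Fi24TCRel193

/-! # Fi24: the kernel check of the coset table, part 11 -/

set_option autoImplicit false

namespace Cfsg.Agent.Lib.Helper6.Fi24TC

open Cfsg.Agent.Lib.Helper6.TC Cfsg.Agent.Lib.Helper6.TCS

theorem chk_tab99 : tab.tabOKc 198000 2000 = true := by decide +kernel

theorem chk_tab100 : tab.tabOKc 200000 2000 = true := by decide +kernel

theorem chk_tab101 : tab.tabOKc 202000 2000 = true := by decide +kernel

theorem chk_tab102 : tab.tabOKc 204000 2000 = true := by decide +kernel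

theorem chk_tab103 : tab.tabOKc 206000 2000 = true := by decide +kernel

theorem chk_tab104 : tab.tabOKc 208000 2000 = true := by decide +kernel

theorem chk_tab105 : tab.tabOKc 210000 2000 = true := by decide +kernel

theorem chk_tab106 : tab.tabOKc 212000 2000 = true := by decide +kernel

theorem chk_tab107 : tab.tabOKc 214000 2000 = true := by decide +kernel

end Cfsg.Agent.Lib.Helper6.Fi24TC
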