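import Cfsg.Agent.Lib.Helper6.Fi24TCData
import Cfsg.Agent.Lib.Helper6.TCChunk
import Cfsg.Agent.Lib.Helper6.Fi24TCTab0

/-! # Fi24: the kernel check of the coset table, part 12 -/

set_option autoImplicit false

namespace Cfsg.Agent.Lib.Helper6.Fi24TC

open Cfsg.Agent.Lib.Helper6.TC Cfsg.Agent.Lib.Helper6.TCS

theorem chk_tab108 : tab.tabOKc 216000 2000 = true := by decide +kernel

theorem chk_tab109 : tab.tabOKc 218000 2000 = true := by decide +kernel

theorem chk_tab110 : tab.tabOKc 220000 2000 = true := by decide +kernel

theorem chk_tab111 : tab.tabOKc 222000 2000 = true := by decide +kernel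

theorem chk_tab112 : tab.tabOKc 224000 2000 = true := by decide +kernel

theorem chk_tab113 : tab.tabOKc 226000 2000 = true := by decide +kernel

theorem chk_tab114 : tab.tabOKc 228000 2000 = true := by decide +kernel

theorem chk_tab115 : tab.tabOKc 230000 2000 = true := by decide +kernel

theorem chk_tab116 : tab.tabOKc 232000 2000 = true := by decide +kernel

end Cfsg.Agent.Lib.Helper6.Fi24TC
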