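import Cfsg.Agent.Lib.Helper6.Fi24TCData
import Cfsg.Agent.Lib.Helper6.TCChunk
import Cfsg.Agent.Lib.Helper6.Fi24TCRel184

/-! # Fi24: the kernel check of the coset table, part 2 -/

set_option autoImplicit false

namespace Cfsg.Agent.Lib.Helper6.Fi24TC

open Cfsg.Agent.Lib.Helper6.TC Cfsg.Agent.Lib.Helper6.TCS

theorem chk_tab18 : tab.tabOKc 36000 2000 = true := by decide +kernel

theorem chk_tab19 : tab.tabOKc 38000 2000 = true := by decide +kernel

theorem chk_tab20 : tab.tabOKc 40000 2000 = true := by decide +kernel

theorem chk_tab21 : tab.tabOKc 42000 2000 = true := by decide +kernel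

theorem chk_tab22 : tab.tabOKc 44000 2000 = true := by decide +kernel

theorem chk_tab23 : tab.tabOKc 46000 2000 = true := by decide +kernel

theorem chk_tab24 : tab.tabOKc 48000 2000 = true := by decide +kernel

theorem chk_tab25 : tab.tabOKc 50000 2000 = true := by decide +kernel

theorem chk_tab26 : tab.tabOKc 52000 2000 = true := by decide +kernel

end Cfsg.Agent.Lib.Helper6.Fi24TC
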