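import Cfsg.Agent.Lib.Helper6.Fi24TCData
import Cfsg.Agent.Lib.Helper6.TCChunk
import Cfsg.Agent.Lib.Helper6.Fi24TCTab3

/-! # Fi24: the kernel check of the coset table, part 15 -/

set_option autoImplicit false

namespace Cfsg.Agent.Lib.Helper6.Fi24TC

open Cfsg.Agent.Lib.Helper6.TC Cfsg.Agent.Lib.Helper6.TCS

theorem chk_tab135 : tab.tabOKc 270000 2000 = true := by decide +kernel

theorem chk_tab136 : tab.tabOKc 272000 2000 = true := by decide +kernel

theorem chk_tab137 : tab.tabOKc 274000 2000 = true := by decide +kernel

theorem chk_tab138 : tab.tabOKc 276000 2000 = true := by decide +kernel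

theorem chk_tab139 : tab.tabOKc 278000 2000 = true := by decide +kernel

theorem chk_tab140 : tab.tabOKc 280000 2000 = true := by decide +kernel

theorem chk_tab141 : tab.tabOKc 282000 2000 = true := by decide +kernel

theorem chk_tab142 : tab.tabOKc 284000 2000 = true := by decide +kernel

theorem chk_tab143 : tab.tabOKc 286000 2000 = true := by decide +kernel

end Cfsg.Agent.Lib.Helper6.Fi24TC
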