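import Cfsg.Agent.Lib.Helper6.Fi24TCData
import Cfsg.Agent.Lib.Helper6.TCChunk
import Cfsg.Agent.Lib.Helper6.Fi24TCRel186

/-! # Fi24: the kernel check of the coset table, part 4 -/

set_option autoImplicit false

namespace Cfsg.Agent.Lib.Helper6.Fi24TC

open Cfsg.Agent.Lib.Helper6.TC Cfsg.Agent.Lib.Helper6.TCS

theorem chk_tab36 : tab.tabOKc 72000 2000 = true := by decide +kernel

theorem chk_tab37 : tab.tabOKc 74000 2000 = true := by decide +kernel

theorem chk_tab38 : tab.tabOKc 76000 2000 = true := by decide +kernel

theorem chk_tab39 : tab.tabOKc 78000 2000 = true := by decide +kernel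

theorem chk_tab40 : tab.tabOKc 80000 2000 = true := by decide +kernel

theorem chk_tab41 : tab.tabOKc 82000 2000 = true := by decide +kernel

theorem chk_tab42 : tab.tabOKc 84000 2000 = true := by decide +kernel

theorem chk_tab43 : tab.tabOKc 86000 2000 = true := by decide +kernel

theorem chk_tab44 : tab.tabOKc 88000 2000 = true := by decide +kernel

end Cfsg.Agent.Lib.Helper6.Fi24TC
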