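import Cfsg.Agent.Lib.Helper6.Fi24TCData
import Cfsg.Agent.Lib.Helper6.TCChunk
import Cfsg.Agent.Lib.Helper6.Fi24TCTab4

/-! # Fi24: the kernel check of the coset table, part 16 -/

set_option autoImplicit false

namespace Cfsg.Agent.Lib.Helper6.Fi24TC

open Cfsg.Agent.Lib.Helper6.TC Cfsg.Agent.Lib.Helper6.TCS

theorem chk_tab144 : tab.tabOKc 288000 2000 = true := by decide +kernel

theorem chk_tab145 : tab.tabOKc 290000 2000 = true := by decide +kernel

theorem chk_tab146 : tab.tabOKc 292000 2000 = true := by decide +kernel

theorem chk_tab147 : tab.tabOKc 294000 2000 = true := by decide +kernel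

theorem chk_tab148 : tab.tabOKc 296000 2000 = true := by decide +kernel

theorem chk_tab149 : tab.tabOKc 298000 2000 = true := by decide +kernel

theorem chk_tab150 : tab.tabOKc 300000 2000 = true := by decide +kernel

theorem chk_tab151 : tab.tabOKc 302000 2000 = true := by decide +kernel

theorem chk_tab152 : tab.tabOKc 304000 2000 = true := by decide +kernel

end Cfsg.Agent.Lib.Helper6.Fi24TC
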