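import Cfsg.Agent.Lib.Helper6.Fi24TCData
import Cfsg.Agent.Lib.Helper6.TCChunk
import Cfsg.Agent.Lib.Helper6.Fi24TCRel187

/-! # Fi24: the kernel check of the coset table, part 5 -/

set_option autoImplicit false

namespace Cfsg.Agent.Lib.Helper6.Fi24TC

open Cfsg.Agent.Lib.Helper6.TC Cfsg.Agent.Lib.Helper6.TCS

theorem chk_tab45 : tab.tabOKc 90000 2000 = true := by decide +kernel

theorem chk_tab46 : tab.tabOKc 92000 2000 = true := by decide +kernel

theorem chk_tab47 : tab.tabOKc 94000 2000 = true := by decide +kernel

theorem chk_tab48 : tab.tabOKc 96000 2000 = true := by decide +kernel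

theorem chk_tab49 : tab.tabOKc 98000 2000 = true := by decide +kernel

theorem chk_tab50 : tab.tabOKc 100000 2000 = true := by decide +kernel

theorem chk_tab51 : tab.tabOKc 102000 2000 = true := by decide +kernel

theorem chk_tab52 : tab.tabOKc 104000 2000 = true := by decide +kernel

theorem chk_tab53 : tab.tabOKc 106000 2000 = true := by decide +kernel

end Cfsg.Agent.Lib.Helper6.Fi24TC
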