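import Cfsg.Agent.Lib.Helper6.Fi24TCData
import Cfsg.Agent.Lib.Helper6.TCChunk
import Cfsg.Agent.Lib.Helper6.Fi24TCTab5

/-! # Fi24: the kernel check of the coset table, part 17 -/

set_option autoImplicit false

namespace Cfsg.Agent.Lib.Helper6.Fi24TC

open Cfsg.Agent.Lib.Helper6.TC Cfsg.Agent.Lib.Helper6.TCS

theorem chk_tab153 : tab.tabOKc 306000 2000 = true := by decide +kernel

end Cfsg.Agent.Lib.Helper6.Fi24TC
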