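import Cfsg.Agent.Lib.Helper6.Fi24SCert
import Cfsg.Agent.Lib.Helper6.Fi24SRows15

/-! # Fi24: the kernel check of the rows from 206760 on -/

set_option autoImplicit false

namespace Cfsg.Agent.Lib.Helper6.Fi24TC

open Cfsg.Agent.Lib.Helper6.TC Cfsg.Agent.Lib.Helper6.TCS

theorem chk_rows27_0 : cert.rowsOK 206760 293 = true := by decide +kernel

theorem chk_rows27_1 : cert.rowsOK 207053 293 = true := by decide +kernel

theorem chk_rows27_2 : cert.rowsOK 207346 293 = true := by decide +kernel

theorem chk_rows27_3 : cert.rowsOK 207639 293 = true := by decide +kernel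

theorem chk_rows27_4 : cert.rowsOK 207932 293 = true := by decide +kernel

theorem chk_rows27_5 : cert.rowsOK 208225 293 = true := by decide +kernel

theorem chk_rows27_6 : cert.rowsOK 208518 293 = true := by decide +kernel

theorem chk_rows27_7 : cert.rowsOK 208811 293 = true := by decide +kernel

theorem chk_rows27_8 : cert.rowsOK 209104 293 = true := by decide +kernel

theorem chk_rows27_9 : cert.rowsOK 209397 293 = true := by decide +kernel

theorem chk_rows27_10 : cert.rowsOK 209690 293 = true := by decide +kernel

theorem chk_rows27_11 : cert.rowsOK 209983 293 = true := by decide +kernel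

theorem chk_rows27_12 : cert.rowsOK 210276 293 = true := by decide +kernel

theorem chk_rows27_13 : cert.rowsOK 210569 293 = true := by decide +kernel

theorem chk_rows27_14 : cert.rowsOK 210862 293 = true := by decide +kernel

theorem chk_rows27_15 : cert.rowsOK 211155 293 = true := by decide +kernel

theorem chk_rows27_16 : cert.rowsOK 211448 293 = true := by decide +kernel

theorem chk_rows27_17 : cert.rowsOK 211741 293 = true := by decide +kernel

theorem chk_rows27_18 : cert.rowsOK 212034 293 = true := by decide +kernel

theorem chk_rows27_19 : cert.rowsOK 212327 293 = true := by decide +kernel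

theorem chk_rows27_20 : cert.rowsOK 212620 293 = true := by decide +kernel

theorem chk_rows27_21 : cert.rowsOK 212913 293 = true := by decide +kernel

theorem chk_rows27_22 : cert.rowsOK 213206 293 = true := by decide +kernel

theorem chk_rows27_23 : cert.rowsOK 213499 293 = true := by decide +kernel

theorem chk_range27 : ∀ a, 206760 ≤ a → a < 213792 → ∀ x < cert.c.g, cert.slotOK a x = true := by
  refine cert.range_of_chunks 206760 293 24 (by norm_num) ?_
  intro k hk
  interval_cases k
  · exact chk_rows27_0
  · exact chk_rows27_1
  · exact chk_rows27_2
  · exact chk_rows27_3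
  · exact chk_rows27_4
  · exact chk_rows27_5
  · exact chk_rows27_6
  · exact chk_rows27_7
  · exact chk_rows27_8
  · exact chk_rows27_9
  · exact chk_rows27_10
  · exact chk_rows27_11
  · exact chk_rows27_12
  · exact chk_rows27_13
  · exact chk_rows27_14
  · exact chk_rows27_15
  · exact chk_rows27_16
  · exact chk_rows27_17
  · exact chk_rows27_18
  · exact chk_rows27_19
  · exact chk_rows27_20
  · exact chk_rows27_21
  · exact chk_rows27_22
  · exact chk_rows27_23

end Cfsg.Agent.Lib.Helper6.Fi24TC
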