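import Cfsg.Agent.Lib.Helper6.Fi24SCert
import Cfsg.Agent.Lib.Helper6.Fi24SRows27

/-! # Fi24: the kernel check of the rows from 267192 on -/

set_option autoImplicit false

namespace Cfsg.Agent.Lib.Helper6.Fi24TC

open Cfsg.Agent.Lib.Helper6.TC Cfsg.Agent.Lib.Helper6.TCS

theorem chk_rows39_0 : cert.rowsOK 267192 129 = true := by decide +kernel

theorem chk_rows39_1 : cert.rowsOK 267321 129 = true := by decide +kernel

theorem chk_rows39_2 : cert.rowsOK 267450 129 = true := by decide +kernel

theorem chk_rows39_3 : cert.rowsOK 267579 129 = true := by decide +kernel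

theorem chk_rows39_4 : cert.rowsOK 267708 129 = true := by decide +kernel

theorem chk_rows39_5 : cert.rowsOK 267837 129 = true := by decide +kernel

theorem chk_rows39_6 : cert.rowsOK 267966 129 = true := by decide +kernel

theorem chk_rows39_7 : cert.rowsOK 268095 129 = true := by decide +kernel

theorem chk_rows39_8 : cert.rowsOK 268224 129 = true := by decide +kernel

theorem chk_rows39_9 : cert.rowsOK 268353 129 = true := by decide +kernel

theorem chk_rows39_10 : cert.rowsOK 268482 129 = true := by decide +kernel

theorem chk_rows39_11 : cert.rowsOK 268611 129 = true := by decide +kernel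

theorem chk_rows39_12 : cert.rowsOK 268740 129 = true := by decide +kernel

theorem chk_rows39_13 : cert.rowsOK 268869 129 = true := by decide +kernel

theorem chk_rows39_14 : cert.rowsOK 268998 129 = true := by decide +kernel

theorem chk_rows39_15 : cert.rowsOK 269127 129 = true := by decide +kernel

theorem chk_rows39_16 : cert.rowsOK 269256 129 = true := by decide +kernel

theorem chk_rows39_17 : cert.rowsOK 269385 129 = true := by decide +kernel

theorem chk_rows39_18 : cert.rowsOK 269514 129 = true := by decide +kernel

theorem chk_rows39_19 : cert.rowsOK 269643 129 = true := by decide +kernel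

theorem chk_rows39_20 : cert.rowsOK 269772 129 = true := by decide +kernel

theorem chk_rows39_21 : cert.rowsOK 269901 129 = true := by decide +kernel

theorem chk_rows39_22 : cert.rowsOK 270030 129 = true := by decide +kernel

theorem chk_rows39_23 : cert.rowsOK 270159 129 = true := by decide +kernel

theorem chk_range39 : ∀ a, 267192 ≤ a → a < 270288 → ∀ x < cert.c.g, cert.slotOK a x = true := by
  refine cert.range_of_chunks 267192 129 24 (by norm_num) ?_
  intro k hk
  interval_cases k
  · exact chk_rows39_0
  · exact chk_rows39_1
  · exact chk_rows39_2
  · exact chk_rows39_3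
  · exact chk_rows39_4
  · exact chk_rows39_5
  · exact chk_rows39_6
  · exact chk_rows39_7
  · exact chk_rows39_8
  · exact chk_rows39_9
  · exact chk_rows39_10
  · exact chk_rows39_11
  · exact chk_rows39_12
  · exact chk_rows39_13
  · exact chk_rows39_14
  · exact chk_rows39_15
  · exact chk_rows39_16
  · exact chk_rows39_17
  · exact chk_rows39_18
  · exact chk_rows39_19
  · exact chk_rows39_20
  · exact chk_rows39_21
  · exact chk_rows39_22
  · exact chk_rows39_23

end Cfsg.Agent.Lib.Helper6.Fi24TC
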