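import Cfsg.Agent.Lib.Helper6.Fi24SCert
import Cfsg.Agent.Lib.Helper6.Fi24SRows39

/-! # Fi24: the kernel check of the rows from 296904 on -/

set_option autoImplicit false

namespace Cfsg.Agent.Lib.Helper6.Fi24TC

open Cfsg.Agent.Lib.Helper6.TC Cfsg.Agent.Lib.Helper6.TCS

theorem chk_rows51_0 : cert.rowsOK 296904 78 = true := by decide +kernel

theorem chk_rows51_1 : cert.rowsOK 296982 78 = true := by decide +kernel

theorem chk_rows51_2 : cert.rowsOK 297060 78 = true := by decide +kernel

theorem chk_rows51_3 : cert.rowsOK 297138 78 = true := by decide +kernel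

theorem chk_rows51_4 : cert.rowsOK 297216 78 = true := by decide +kernel

theorem chk_rows51_5 : cert.rowsOK 297294 78 = true := by decide +kernel

theorem chk_rows51_6 : cert.rowsOK 297372 78 = true := by decide +kernel

theorem chk_rows51_7 : cert.rowsOK 297450 78 = true := by decide +kernel

theorem chk_rows51_8 : cert.rowsOK 297528 78 = true := by decide +kernel

theorem chk_rows51_9 : cert.rowsOK 297606 78 = true := by decide +kernel

theorem chk_rows51_10 : cert.rowsOK 297684 78 = true := by decide +kernel

theorem chk_rows51_11 : cert.rowsOK 297762 78 = true := by decide +kernel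

theorem chk_rows51_12 : cert.rowsOK 297840 78 = true := by decide +kernel

theorem chk_rows51_13 : cert.rowsOK 297918 78 = true := by decide +kernel

theorem chk_rows51_14 : cert.rowsOK 297996 78 = true := by decide +kernel

theorem chk_rows51_15 : cert.rowsOK 298074 78 = true := by decide +kernel

theorem chk_rows51_16 : cert.rowsOK 298152 78 = true := by decide +kernel

theorem chk_rows51_17 : cert.rowsOK 298230 78 = true := by decide +kernel

theorem chk_rows51_18 : cert.rowsOK 298308 78 = true := by decide +kernel

theorem chk_rows51_19 : cert.rowsOK 298386 78 = true := by decide +kernel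

theorem chk_rows51_20 : cert.rowsOK 298464 78 = true := by decide +kernel

theorem chk_rows51_21 : cert.rowsOK 298542 78 = true := by decide +kernel

theorem chk_rows51_22 : cert.rowsOK 298620 78 = true := by decide +kernel

theorem chk_rows51_23 : cert.rowsOK 298698 78 = true := by decide +kernel

theorem chk_range51 : ∀ a, 296904 ≤ a → a < 298776 → ∀ x < cert.c.g, cert.slotOK a x = true := by
  refine cert.range_of_chunks 296904 78 24 (by norm_num) ?_
  intro k hk
  interval_cases k
  · exact chk_rows51_0
  · exact chk_rows51_1
  · exact chk_rows51_2
  · exact chk_rows51_3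
  · exact chk_rows51_4
  · exact chk_rows51_5
  · exact chk_rows51_6
  · exact chk_rows51_7
  · exact chk_rows51_8
  · exact chk_rows51_9
  · exact chk_rows51_10
  · exact chk_rows51_11
  · exact chk_rows51_12
  · exact chk_rows51_13
  · exact chk_rows51_14
  · exact chk_rows51_15
  · exact chk_rows51_16
  · exact chk_rows51_17
  · exact chk_rows51_18
  · exact chk_rows51_19
  · exact chk_rows51_20
  · exact chk_rows51_21
  · exact chk_rows51_22
  · exact chk_rows51_23

end Cfsg.Agent.Lib.Helper6.Fi24TC
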