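import Cfsg.Agent.Lib.Helper6.Fi24SCert
import Cfsg.Agent.Lib.Helper6.TCChunk
import Cfsg.Agent.Lib.Helper6.Fi24SFin3

/-! # Fi24: the kernel check that the first rows are closed, part 15 -/

set_option autoImplicit false

namespace Cfsg.Agent.Lib.Helper6.Fi24TC

open Cfsg.Agent.Lib.Helper6.TC Cfsg.Agent.Lib.Helper6.TCS

theorem chk_fin135 : cert.finalOKc 306936 270000 2000 = true := by decide +kernel

theorem chk_fin136 : cert.finalOKc 306936 272000 2000 = true := by decide +kernel

theorem chk_fin137 : cert.finalOKc 306936 274000 2000 = true := by decide +kernel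

theorem chk_fin138 : cert.finalOKc 306936 276000 2000 = true := by decide +kernel

theorem chk_fin139 : cert.finalOKc 306936 278000 2000 = true := by decide +kernel

theorem chk_fin140 : cert.finalOKc 306936 280000 2000 = true := by decide +kernel

theorem chk_fin141 : cert.finalOKc 306936 282000 2000 = true := by decide +kernel

theorem chk_fin142 : cert.finalOKc 306936 284000 2000 = true := by decide +kernel

theorem chk_fin143 : cert.finalOKc 306936 286000 2000 = true := by decide +kernel

end Cfsg.Agent.Lib.Helper6.Fi24TC
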