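import Cfsg.Agent.Lib.Helper6.Fi24TCData
import Cfsg.Agent.Lib.Helper6.TCRel3
import Cfsg.Agent.Lib.Helper6.Fi24SFin15

/-! # Fi24: the kernel check of a part of the relators on the coset table -/

set_option autoImplicit false

namespace Cfsg.Agent.Lib.Helper6.Fi24TC

open Cfsg.Agent.Lib.Helper6.TC

theorem chk_pow4_2_0 : tab.minOKc [1, 3] 2 201600 6720 = true := by decide +kernel

theorem chk_pow4_2_1 : tab.minOKc [1, 3] 2 208320 6720 = true := by decide +kernel

theorem chk_pow4_2_2 : tab.minOKc [1, 3] 2 215040 6720 = true := by decide +kernel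

theorem chk_pow4_2_3 : tab.minOKc [1, 3] 2 221760 6720 = true := by decide +kernel

theorem chk_pow4_2_4 : tab.minOKc [1, 3] 2 228480 6720 = true := by decide +kernel

theorem chk_pow4_2_5 : tab.minOKc [1, 3] 2 235200 6720 = true := by decide +kernel

theorem chk_pow4_2_6 : tab.minOKc [1, 3] 2 241920 6720 = true := by decide +kernel

theorem chk_pow4_2_7 : tab.minOKc [1, 3] 2 248640 6720 = true := by decide +kernel

theorem chk_pow4_2_8 : tab.minOKc [1, 3] 2 255360 6720 = true := by decide +kernel

theorem chk_pow4_2_9 : tab.minOKc [1, 3] 2 262080 6720 = true := by decide +kernel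

theorem chk_pow4_2_10 : tab.minOKc [1, 3] 2 268800 6720 = true := by decide +kernel

theorem chk_pow4_2_11 : tab.minOKc [1, 3] 2 275520 6720 = true := by decide +kernel

theorem chk_pow4_2_12 : tab.minOKc [1, 3] 2 282240 6720 = true := by decide +kernel

theorem chk_pow4_2_13 : tab.minOKc [1, 3] 2 288960 6720 = true := by decide +kernel

theorem chk_pow4_2_14 : tab.minOKc [1, 3] 2 295680 6720 = true := by decide +kernel

theorem chk_pow4_2 : tab.minOKc [1, 3] 2 201600 100800 = true := by
  refine tab.minOKc_of_chunks [1, 3] 2 201600 6720 15 (by norm_num) ?_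
  intro i hi
  interval_cases i
  · exact chk_pow4_2_0
  · exact chk_pow4_2_1
  · exact chk_pow4_2_2
  · exact chk_pow4_2_3
  · exact chk_pow4_2_4
  · exact chk_pow4_2_5
  · exact chk_pow4_2_6
  · exact chk_pow4_2_7
  · exact chk_pow4_2_8
  · exact chk_pow4_2_9
  · exact chk_pow4_2_10
  · exact chk_pow4_2_11
  · exact chk_pow4_2_12
  · exact chk_pow4_2_13
  · exact chk_pow4_2_14

theorem chk_pow4_3_0 : tab.minOKc [1, 3] 2 302400 6720 = true := by decide +kernel

theorem chk_pow4_3_1 : tab.minOKc [1, 3] 2 309120 6720 = true := by decide +kernel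

theorem chk_pow4_3_2 : tab.minOKc [1, 3] 2 315840 6720 = true := by decide +kernel

theorem chk_pow4_3_3 : tab.minOKc [1, 3] 2 322560 6720 = true := by decide +kernel

theorem chk_pow4_3_4 : tab.minOKc [1, 3] 2 329280 6720 = true := by decide +kernel

theorem chk_pow4_3_5 : tab.minOKc [1, 3] 2 336000 6720 = true := by decide +kernel

theorem chk_pow4_3_6 : tab.minOKc [1, 3] 2 342720 6720 = true := by decide +kernel

theorem chk_pow4_3_7 : tab.minOKc [1, 3] 2 349440 6720 = true := by decide +kernel

theorem chk_pow4_3_8 : tab.minOKc [1, 3] 2 356160 6720 = true := by decide +kernel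

theorem chk_pow4_3_9 : tab.minOKc [1, 3] 2 362880 6720 = true := by decide +kernel

theorem chk_pow4_3_10 : tab.minOKc [1, 3] 2 369600 6720 = true := by decide +kernel

theorem chk_pow4_3_11 : tab.minOKc [1, 3] 2 376320 6720 = true := by decide +kernel

theorem chk_pow4_3_12 : tab.minOKc [1, 3] 2 383040 6720 = true := by decide +kernel

theorem chk_pow4_3_13 : tab.minOKc [1, 3] 2 389760 6720 = true := by decide +kernel

theorem chk_pow4_3_14 : tab.minOKc [1, 3] 2 396480 6720 = true := by decide +kernel

theorem chk_pow4_3 : tab.minOKc [1, 3] 2 302400 100800 = true := by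
  refine tab.minOKc_of_chunks [1, 3] 2 302400 6720 15 (by norm_num) ?_
  intro i hi
  interval_cases i
  · exact chk_pow4_3_0
  · exact chk_pow4_3_1
  · exact chk_pow4_3_2
  · exact chk_pow4_3_3
  · exact chk_pow4_3_4
  · exact chk_pow4_3_5
  · exact chk_pow4_3_6
  · exact chk_pow4_3_7
  · exact chk_pow4_3_8
  · exact chk_pow4_3_9
  · exact chk_pow4_3_10
  · exact chk_pow4_3_11
  · exact chk_pow4_3_12
  · exact chk_pow4_3_13
  · exact chk_pow4_3_14

end Cfsg.Agent.Lib.Helper6.Fi24TC
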