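import Cfsg.Agent.Lib.Helper6.Fi24TCData
import Cfsg.Agent.Lib.Helper6.TCRel3
import Cfsg.Agent.Lib.Helper6.Fi24TCRel21

/-! # Fi24: the kernel check of a part of the relators on the coset table -/

set_option autoImplicit false

namespace Cfsg.Agent.Lib.Helper6.Fi24TC

open Cfsg.Agent.Lib.Helper6.TC

theorem chk_pow16_2_0 : tab.minOKc [1, 6] 2 202050 6735 = true := by decide +kernel

theorem chk_pow16_2_1 : tab.minOKc [1, 6] 2 208785 6735 = true := by decide +kernel

theorem chk_pow16_2_2 : tab.minOKc [1, 6] 2 215520 6735 = true := by decide +kernel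

theorem chk_pow16_2_3 : tab.minOKc [1, 6] 2 222255 6735 = true := by decide +kernel

theorem chk_pow16_2_4 : tab.minOKc [1, 6] 2 228990 6735 = true := by decide +kernel

theorem chk_pow16_2_5 : tab.minOKc [1, 6] 2 235725 6735 = true := by decide +kernel

theorem chk_pow16_2_6 : tab.minOKc [1, 6] 2 242460 6735 = true := by decide +kernel

theorem chk_pow16_2_7 : tab.minOKc [1, 6] 2 249195 6735 = true := by decide +kernel

theorem chk_pow16_2_8 : tab.minOKc [1, 6] 2 255930 6735 = true := by decide +kernel

theorem chk_pow16_2_9 : tab.minOKc [1, 6] 2 262665 6735 = true := by decide +kernel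

theorem chk_pow16_2_10 : tab.minOKc [1, 6] 2 269400 6735 = true := by decide +kernel

theorem chk_pow16_2_11 : tab.minOKc [1, 6] 2 276135 6735 = true := by decide +kernel

theorem chk_pow16_2_12 : tab.minOKc [1, 6] 2 282870 6735 = true := by decide +kernel

theorem chk_pow16_2_13 : tab.minOKc [1, 6] 2 289605 6735 = true := by decide +kernel

theorem chk_pow16_2_14 : tab.minOKc [1, 6] 2 296340 6735 = true := by decide +kernel

theorem chk_pow16_2 : tab.minOKc [1, 6] 2 202050 101025 = true := by
  refine tab.minOKc_of_chunks [1, 6] 2 202050 6735 15 (by norm_num) ?_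
  intro i hi
  interval_cases i
  · exact chk_pow16_2_0
  · exact chk_pow16_2_1
  · exact chk_pow16_2_2
  · exact chk_pow16_2_3
  · exact chk_pow16_2_4
  · exact chk_pow16_2_5
  · exact chk_pow16_2_6
  · exact chk_pow16_2_7
  · exact chk_pow16_2_8
  · exact chk_pow16_2_9
  · exact chk_pow16_2_10
  · exact chk_pow16_2_11
  · exact chk_pow16_2_12
  · exact chk_pow16_2_13
  · exact chk_pow16_2_14

theorem chk_pow16_3_0 : tab.minOKc [1, 6] 2 303075 6735 = true := by decide +kernel

theorem chk_pow16_3_1 : tab.minOKc [1, 6] 2 309810 6735 = true := by decide +kernel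

theorem chk_pow16_3_2 : tab.minOKc [1, 6] 2 316545 6735 = true := by decide +kernel

theorem chk_pow16_3_3 : tab.minOKc [1, 6] 2 323280 6735 = true := by decide +kernel

theorem chk_pow16_3_4 : tab.minOKc [1, 6] 2 330015 6735 = true := by decide +kernel

theorem chk_pow16_3_5 : tab.minOKc [1, 6] 2 336750 6735 = true := by decide +kernel

theorem chk_pow16_3_6 : tab.minOKc [1, 6] 2 343485 6735 = true := by decide +kernel

theorem chk_pow16_3_7 : tab.minOKc [1, 6] 2 350220 6735 = true := by decide +kernel

theorem chk_pow16_3_8 : tab.minOKc [1, 6] 2 356955 6735 = true := by decide +kernel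

theorem chk_pow16_3_9 : tab.minOKc [1, 6] 2 363690 6735 = true := by decide +kernel

theorem chk_pow16_3_10 : tab.minOKc [1, 6] 2 370425 6735 = true := by decide +kernel

theorem chk_pow16_3_11 : tab.minOKc [1, 6] 2 377160 6735 = true := by decide +kernel

theorem chk_pow16_3_12 : tab.minOKc [1, 6] 2 383895 6735 = true := by decide +kernel

theorem chk_pow16_3_13 : tab.minOKc [1, 6] 2 390630 6735 = true := by decide +kernel

theorem chk_pow16_3_14 : tab.minOKc [1, 6] 2 397365 6735 = true := by decide +kernel

theorem chk_pow16_3 : tab.minOKc [1, 6] 2 303075 101025 = true := by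
  refine tab.minOKc_of_chunks [1, 6] 2 303075 6735 15 (by norm_num) ?_
  intro i hi
  interval_cases i
  · exact chk_pow16_3_0
  · exact chk_pow16_3_1
  · exact chk_pow16_3_2
  · exact chk_pow16_3_3
  · exact chk_pow16_3_4
  · exact chk_pow16_3_5
  · exact chk_pow16_3_6
  · exact chk_pow16_3_7
  · exact chk_pow16_3_8
  · exact chk_pow16_3_9
  · exact chk_pow16_3_10
  · exact chk_pow16_3_11
  · exact chk_pow16_3_12
  · exact chk_pow16_3_13
  · exact chk_pow16_3_14

end Cfsg.Agent.Lib.Helper6.Fi24TC
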