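import Cfsg.Agent.Lib.Helper6.Fi24TCData
import Cfsg.Agent.Lib.Helper6.TCRel3
import Cfsg.Agent.Lib.Helper6.Fi24TCRel33

/-! # Fi24: the kernel check of a part of the relators on the coset table -/

set_option autoImplicit false

namespace Cfsg.Agent.Lib.Helper6.Fi24TC

open Cfsg.Agent.Lib.Helper6.TC

theorem chk_pow22_2_0 : tab.minOKc [1, 7] 2 201240 6708 = true := by decide +kernel

theorem chk_pow22_2_1 : tab.minOKc [1, 7] 2 207948 6708 = true := by decide +kernel

theorem chk_pow22_2_2 : tab.minOKc [1, 7] 2 214656 6708 = true := by decide +kernel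

theorem chk_pow22_2_3 : tab.minOKc [1, 7] 2 221364 6708 = true := by decide +kernel

theorem chk_pow22_2_4 : tab.minOKc [1, 7] 2 228072 6708 = true := by decide +kernel

theorem chk_pow22_2_5 : tab.minOKc [1, 7] 2 234780 6708 = true := by decide +kernel

theorem chk_pow22_2_6 : tab.minOKc [1, 7] 2 241488 6708 = true := by decide +kernel

theorem chk_pow22_2_7 : tab.minOKc [1, 7] 2 248196 6708 = true := by decide +kernel

theorem chk_pow22_2_8 : tab.minOKc [1, 7] 2 254904 6708 = true := by decide +kernel

theorem chk_pow22_2_9 : tab.minOKc [1, 7] 2 261612 6708 = true := by decide +kernel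

theorem chk_pow22_2_10 : tab.minOKc [1, 7] 2 268320 6708 = true := by decide +kernel

theorem chk_pow22_2_11 : tab.minOKc [1, 7] 2 275028 6708 = true := by decide +kernel

theorem chk_pow22_2_12 : tab.minOKc [1, 7] 2 281736 6708 = true := by decide +kernel

theorem chk_pow22_2_13 : tab.minOKc [1, 7] 2 288444 6708 = true := by decide +kernel

theorem chk_pow22_2_14 : tab.minOKc [1, 7] 2 295152 6708 = true := by decide +kernel

theorem chk_pow22_2 : tab.minOKc [1, 7] 2 201240 100620 = true := by
  refine tab.minOKc_of_chunks [1, 7] 2 201240 6708 15 (by norm_num) ?_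
  intro i hi
  interval_cases i
  · exact chk_pow22_2_0
  · exact chk_pow22_2_1
  · exact chk_pow22_2_2
  · exact chk_pow22_2_3
  · exact chk_pow22_2_4
  · exact chk_pow22_2_5
  · exact chk_pow22_2_6
  · exact chk_pow22_2_7
  · exact chk_pow22_2_8
  · exact chk_pow22_2_9
  · exact chk_pow22_2_10
  · exact chk_pow22_2_11
  · exact chk_pow22_2_12
  · exact chk_pow22_2_13
  · exact chk_pow22_2_14

theorem chk_pow22_3_0 : tab.minOKc [1, 7] 2 301860 6708 = true := by decide +kernel

theorem chk_pow22_3_1 : tab.minOKc [1, 7] 2 308568 6708 = true := by decide +kernel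

theorem chk_pow22_3_2 : tab.minOKc [1, 7] 2 315276 6708 = true := by decide +kernel

theorem chk_pow22_3_3 : tab.minOKc [1, 7] 2 321984 6708 = true := by decide +kernel

theorem chk_pow22_3_4 : tab.minOKc [1, 7] 2 328692 6708 = true := by decide +kernel

theorem chk_pow22_3_5 : tab.minOKc [1, 7] 2 335400 6708 = true := by decide +kernel

theorem chk_pow22_3_6 : tab.minOKc [1, 7] 2 342108 6708 = true := by decide +kernel

theorem chk_pow22_3_7 : tab.minOKc [1, 7] 2 348816 6708 = true := by decide +kernel

theorem chk_pow22_3_8 : tab.minOKc [1, 7] 2 355524 6708 = true := by decide +kernel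

theorem chk_pow22_3_9 : tab.minOKc [1, 7] 2 362232 6708 = true := by decide +kernel

theorem chk_pow22_3_10 : tab.minOKc [1, 7] 2 368940 6708 = true := by decide +kernel

theorem chk_pow22_3_11 : tab.minOKc [1, 7] 2 375648 6708 = true := by decide +kernel

theorem chk_pow22_3_12 : tab.minOKc [1, 7] 2 382356 6708 = true := by decide +kernel

theorem chk_pow22_3_13 : tab.minOKc [1, 7] 2 389064 6708 = true := by decide +kernel

theorem chk_pow22_3_14 : tab.minOKc [1, 7] 2 395772 6708 = true := by decide +kernel

theorem chk_pow22_3 : tab.minOKc [1, 7] 2 301860 100620 = true := by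
  refine tab.minOKc_of_chunks [1, 7] 2 301860 6708 15 (by norm_num) ?_
  intro i hi
  interval_cases i
  · exact chk_pow22_3_0
  · exact chk_pow22_3_1
  · exact chk_pow22_3_2
  · exact chk_pow22_3_3
  · exact chk_pow22_3_4
  · exact chk_pow22_3_5
  · exact chk_pow22_3_6
  · exact chk_pow22_3_7
  · exact chk_pow22_3_8
  · exact chk_pow22_3_9
  · exact chk_pow22_3_10
  · exact chk_pow22_3_11
  · exact chk_pow22_3_12
  · exact chk_pow22_3_13
  · exact chk_pow22_3_14

end Cfsg.Agent.Lib.Helper6.Fi24TC
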