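import Cfsg.Agent.Lib.Helper6.Fi24TCData
import Cfsg.Agent.Lib.Helper6.TCRel3
import Cfsg.Agent.Lib.Helper6.Fi24TCRel45

/-! # Fi24: the kernel check of a part of the relators on the coset table -/

set_option autoImplicit false

namespace Cfsg.Agent.Lib.Helper6.Fi24TC

open Cfsg.Agent.Lib.Helper6.TC

theorem chk_pow28_2_0 : tab.minOKc [0, 8] 2 201060 6702 = true := by decide +kernel

theorem chk_pow28_2_1 : tab.minOKc [0, 8] 2 207762 6702 = true := by decide +kernel

theorem chk_pow28_2_2 : tab.minOKc [0, 8] 2 214464 6702 = true := by decide +kernel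

theorem chk_pow28_2_3 : tab.minOKc [0, 8] 2 221166 6702 = true := by decide +kernel

theorem chk_pow28_2_4 : tab.minOKc [0, 8] 2 227868 6702 = true := by decide +kernel

theorem chk_pow28_2_5 : tab.minOKc [0, 8] 2 234570 6702 = true := by decide +kernel

theorem chk_pow28_2_6 : tab.minOKc [0, 8] 2 241272 6702 = true := by decide +kernel

theorem chk_pow28_2_7 : tab.minOKc [0, 8] 2 247974 6702 = true := by decide +kernel

theorem chk_pow28_2_8 : tab.minOKc [0, 8] 2 254676 6702 = true := by decide +kernel

theorem chk_pow28_2_9 : tab.minOKc [0, 8] 2 261378 6702 = true := by decide +kernel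

theorem chk_pow28_2_10 : tab.minOKc [0, 8] 2 268080 6702 = true := by decide +kernel

theorem chk_pow28_2_11 : tab.minOKc [0, 8] 2 274782 6702 = true := by decide +kernel

theorem chk_pow28_2_12 : tab.minOKc [0, 8] 2 281484 6702 = true := by decide +kernel

theorem chk_pow28_2_13 : tab.minOKc [0, 8] 2 288186 6702 = true := by decide +kernel

theorem chk_pow28_2_14 : tab.minOKc [0, 8] 2 294888 6702 = true := by decide +kernel

theorem chk_pow28_2 : tab.minOKc [0, 8] 2 201060 100530 = true := by
  refine tab.minOKc_of_chunks [0, 8] 2 201060 6702 15 (by norm_num) ?_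
  intro i hi
  interval_cases i
  · exact chk_pow28_2_0
  · exact chk_pow28_2_1
  · exact chk_pow28_2_2
  · exact chk_pow28_2_3
  · exact chk_pow28_2_4
  · exact chk_pow28_2_5
  · exact chk_pow28_2_6
  · exact chk_pow28_2_7
  · exact chk_pow28_2_8
  · exact chk_pow28_2_9
  · exact chk_pow28_2_10
  · exact chk_pow28_2_11
  · exact chk_pow28_2_12
  · exact chk_pow28_2_13
  · exact chk_pow28_2_14

theorem chk_pow28_3_0 : tab.minOKc [0, 8] 2 301590 6702 = true := by decide +kernel

theorem chk_pow28_3_1 : tab.minOKc [0, 8] 2 308292 6702 = true := by decide +kernel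

theorem chk_pow28_3_2 : tab.minOKc [0, 8] 2 314994 6702 = true := by decide +kernel

theorem chk_pow28_3_3 : tab.minOKc [0, 8] 2 321696 6702 = true := by decide +kernel

theorem chk_pow28_3_4 : tab.minOKc [0, 8] 2 328398 6702 = true := by decide +kernel

theorem chk_pow28_3_5 : tab.minOKc [0, 8] 2 335100 6702 = true := by decide +kernel

theorem chk_pow28_3_6 : tab.minOKc [0, 8] 2 341802 6702 = true := by decide +kernel

theorem chk_pow28_3_7 : tab.minOKc [0, 8] 2 348504 6702 = true := by decide +kernel

theorem chk_pow28_3_8 : tab.minOKc [0, 8] 2 355206 6702 = true := by decide +kernel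

theorem chk_pow28_3_9 : tab.minOKc [0, 8] 2 361908 6702 = true := by decide +kernel

theorem chk_pow28_3_10 : tab.minOKc [0, 8] 2 368610 6702 = true := by decide +kernel

theorem chk_pow28_3_11 : tab.minOKc [0, 8] 2 375312 6702 = true := by decide +kernel

theorem chk_pow28_3_12 : tab.minOKc [0, 8] 2 382014 6702 = true := by decide +kernel

theorem chk_pow28_3_13 : tab.minOKc [0, 8] 2 388716 6702 = true := by decide +kernel

theorem chk_pow28_3_14 : tab.minOKc [0, 8] 2 395418 6702 = true := by decide +kernel

theorem chk_pow28_3 : tab.minOKc [0, 8] 2 301590 100530 = true := by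
  refine tab.minOKc_of_chunks [0, 8] 2 301590 6702 15 (by norm_num) ?_
  intro i hi
  interval_cases i
  · exact chk_pow28_3_0
  · exact chk_pow28_3_1
  · exact chk_pow28_3_2
  · exact chk_pow28_3_3
  · exact chk_pow28_3_4
  · exact chk_pow28_3_5
  · exact chk_pow28_3_6
  · exact chk_pow28_3_7
  · exact chk_pow28_3_8
  · exact chk_pow28_3_9
  · exact chk_pow28_3_10
  · exact chk_pow28_3_11
  · exact chk_pow28_3_12
  · exact chk_pow28_3_13
  · exact chk_pow28_3_14

end Cfsg.Agent.Lib.Helper6.Fi24TC
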