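import Cfsg.Agent.Lib.Helper6.Fi24TCData
import Cfsg.Agent.Lib.Helper6.TCRel3
import Cfsg.Agent.Lib.Helper6.Fi24TCRel57

/-! # Fi24: the kernel check of a part of the relators on the coset table -/

set_option autoImplicit false

namespace Cfsg.Agent.Lib.Helper6.Fi24TC

open Cfsg.Agent.Lib.Helper6.TC

theorem chk_pow34_2_0 : tab.minOKc [6, 8] 2 201510 6717 = true := by decide +kernel

theorem chk_pow34_2_1 : tab.minOKc [6, 8] 2 208227 6717 = true := by decide +kernel

theorem chk_pow34_2_2 : tab.minOKc [6, 8] 2 214944 6717 = true := by decide +kernel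

theorem chk_pow34_2_3 : tab.minOKc [6, 8] 2 221661 6717 = true := by decide +kernel

theorem chk_pow34_2_4 : tab.minOKc [6, 8] 2 228378 6717 = true := by decide +kernel

theorem chk_pow34_2_5 : tab.minOKc [6, 8] 2 235095 6717 = true := by decide +kernel

theorem chk_pow34_2_6 : tab.minOKc [6, 8] 2 241812 6717 = true := by decide +kernel

theorem chk_pow34_2_7 : tab.minOKc [6, 8] 2 248529 6717 = true := by decide +kernel

theorem chk_pow34_2_8 : tab.minOKc [6, 8] 2 255246 6717 = true := by decide +kernel

theorem chk_pow34_2_9 : tab.minOKc [6, 8] 2 261963 6717 = true := by decide +kernel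

theorem chk_pow34_2_10 : tab.minOKc [6, 8] 2 268680 6717 = true := by decide +kernel

theorem chk_pow34_2_11 : tab.minOKc [6, 8] 2 275397 6717 = true := by decide +kernel

theorem chk_pow34_2_12 : tab.minOKc [6, 8] 2 282114 6717 = true := by decide +kernel

theorem chk_pow34_2_13 : tab.minOKc [6, 8] 2 288831 6717 = true := by decide +kernel

theorem chk_pow34_2_14 : tab.minOKc [6, 8] 2 295548 6717 = true := by decide +kernel

theorem chk_pow34_2 : tab.minOKc [6, 8] 2 201510 100755 = true := by
  refine tab.minOKc_of_chunks [6, 8] 2 201510 6717 15 (by norm_num) ?_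
  intro i hi
  interval_cases i
  · exact chk_pow34_2_0
  · exact chk_pow34_2_1
  · exact chk_pow34_2_2
  · exact chk_pow34_2_3
  · exact chk_pow34_2_4
  · exact chk_pow34_2_5
  · exact chk_pow34_2_6
  · exact chk_pow34_2_7
  · exact chk_pow34_2_8
  · exact chk_pow34_2_9
  · exact chk_pow34_2_10
  · exact chk_pow34_2_11
  · exact chk_pow34_2_12
  · exact chk_pow34_2_13
  · exact chk_pow34_2_14

theorem chk_pow34_3_0 : tab.minOKc [6, 8] 2 302265 6717 = true := by decide +kernel

theorem chk_pow34_3_1 : tab.minOKc [6, 8] 2 308982 6717 = true := by decide +kernel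

theorem chk_pow34_3_2 : tab.minOKc [6, 8] 2 315699 6717 = true := by decide +kernel

theorem chk_pow34_3_3 : tab.minOKc [6, 8] 2 322416 6717 = true := by decide +kernel

theorem chk_pow34_3_4 : tab.minOKc [6, 8] 2 329133 6717 = true := by decide +kernel

theorem chk_pow34_3_5 : tab.minOKc [6, 8] 2 335850 6717 = true := by decide +kernel

theorem chk_pow34_3_6 : tab.minOKc [6, 8] 2 342567 6717 = true := by decide +kernel

theorem chk_pow34_3_7 : tab.minOKc [6, 8] 2 349284 6717 = true := by decide +kernel

theorem chk_pow34_3_8 : tab.minOKc [6, 8] 2 356001 6717 = true := by decide +kernel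

theorem chk_pow34_3_9 : tab.minOKc [6, 8] 2 362718 6717 = true := by decide +kernel

theorem chk_pow34_3_10 : tab.minOKc [6, 8] 2 369435 6717 = true := by decide +kernel

theorem chk_pow34_3_11 : tab.minOKc [6, 8] 2 376152 6717 = true := by decide +kernel

theorem chk_pow34_3_12 : tab.minOKc [6, 8] 2 382869 6717 = true := by decide +kernel

theorem chk_pow34_3_13 : tab.minOKc [6, 8] 2 389586 6717 = true := by decide +kernel

theorem chk_pow34_3_14 : tab.minOKc [6, 8] 2 396303 6717 = true := by decide +kernel

theorem chk_pow34_3 : tab.minOKc [6, 8] 2 302265 100755 = true := by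
  refine tab.minOKc_of_chunks [6, 8] 2 302265 6717 15 (by norm_num) ?_
  intro i hi
  interval_cases i
  · exact chk_pow34_3_0
  · exact chk_pow34_3_1
  · exact chk_pow34_3_2
  · exact chk_pow34_3_3
  · exact chk_pow34_3_4
  · exact chk_pow34_3_5
  · exact chk_pow34_3_6
  · exact chk_pow34_3_7
  · exact chk_pow34_3_8
  · exact chk_pow34_3_9
  · exact chk_pow34_3_10
  · exact chk_pow34_3_11
  · exact chk_pow34_3_12
  · exact chk_pow34_3_13
  · exact chk_pow34_3_14

end Cfsg.Agent.Lib.Helper6.Fi24TC
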