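import Cfsg.Agent.Lib.Helper6.Fi24TCData
import Cfsg.Agent.Lib.Helper6.TCRel3
import Cfsg.Agent.Lib.Helper6.Fi24TCRel69

/-! # Fi24: the kernel check of a part of the relators on the coset table -/

set_option autoImplicit false

namespace Cfsg.Agent.Lib.Helper6.Fi24TC

open Cfsg.Agent.Lib.Helper6.TC

theorem chk_pow40_2_0 : tab.minOKc [4, 9] 2 199620 6654 = true := by decide +kernel

theorem chk_pow40_2_1 : tab.minOKc [4, 9] 2 206274 6654 = true := by decide +kernel

theorem chk_pow40_2_2 : tab.minOKc [4, 9] 2 212928 6654 = true := by decide +kernel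

theorem chk_pow40_2_3 : tab.minOKc [4, 9] 2 219582 6654 = true := by decide +kernel

theorem chk_pow40_2_4 : tab.minOKc [4, 9] 2 226236 6654 = true := by decide +kernel

theorem chk_pow40_2_5 : tab.minOKc [4, 9] 2 232890 6654 = true := by decide +kernel

theorem chk_pow40_2_6 : tab.minOKc [4, 9] 2 239544 6654 = true := by decide +kernel

theorem chk_pow40_2_7 : tab.minOKc [4, 9] 2 246198 6654 = true := by decide +kernel

theorem chk_pow40_2_8 : tab.minOKc [4, 9] 2 252852 6654 = true := by decide +kernel

theorem chk_pow40_2_9 : tab.minOKc [4, 9] 2 259506 6654 = true := by decide +kernel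

theorem chk_pow40_2_10 : tab.minOKc [4, 9] 2 266160 6654 = true := by decide +kernel

theorem chk_pow40_2_11 : tab.minOKc [4, 9] 2 272814 6654 = true := by decide +kernel

theorem chk_pow40_2_12 : tab.minOKc [4, 9] 2 279468 6654 = true := by decide +kernel

theorem chk_pow40_2_13 : tab.minOKc [4, 9] 2 286122 6654 = true := by decide +kernel

theorem chk_pow40_2_14 : tab.minOKc [4, 9] 2 292776 6654 = true := by decide +kernel

theorem chk_pow40_2 : tab.minOKc [4, 9] 2 199620 99810 = true := by
  refine tab.minOKc_of_chunks [4, 9] 2 199620 6654 15 (by norm_num) ?_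
  intro i hi
  interval_cases i
  · exact chk_pow40_2_0
  · exact chk_pow40_2_1
  · exact chk_pow40_2_2
  · exact chk_pow40_2_3
  · exact chk_pow40_2_4
  · exact chk_pow40_2_5
  · exact chk_pow40_2_6
  · exact chk_pow40_2_7
  · exact chk_pow40_2_8
  · exact chk_pow40_2_9
  · exact chk_pow40_2_10
  · exact chk_pow40_2_11
  · exact chk_pow40_2_12
  · exact chk_pow40_2_13
  · exact chk_pow40_2_14

theorem chk_pow40_3_0 : tab.minOKc [4, 9] 2 299430 6654 = true := by decide +kernel

theorem chk_pow40_3_1 : tab.minOKc [4, 9] 2 306084 6654 = true := by decide +kernel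

theorem chk_pow40_3_2 : tab.minOKc [4, 9] 2 312738 6654 = true := by decide +kernel

theorem chk_pow40_3_3 : tab.minOKc [4, 9] 2 319392 6654 = true := by decide +kernel

theorem chk_pow40_3_4 : tab.minOKc [4, 9] 2 326046 6654 = true := by decide +kernel

theorem chk_pow40_3_5 : tab.minOKc [4, 9] 2 332700 6654 = true := by decide +kernel

theorem chk_pow40_3_6 : tab.minOKc [4, 9] 2 339354 6654 = true := by decide +kernel

theorem chk_pow40_3_7 : tab.minOKc [4, 9] 2 346008 6654 = true := by decide +kernel

theorem chk_pow40_3_8 : tab.minOKc [4, 9] 2 352662 6654 = true := by decide +kernel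

theorem chk_pow40_3_9 : tab.minOKc [4, 9] 2 359316 6654 = true := by decide +kernel

theorem chk_pow40_3_10 : tab.minOKc [4, 9] 2 365970 6654 = true := by decide +kernel

theorem chk_pow40_3_11 : tab.minOKc [4, 9] 2 372624 6654 = true := by decide +kernel

theorem chk_pow40_3_12 : tab.minOKc [4, 9] 2 379278 6654 = true := by decide +kernel

theorem chk_pow40_3_13 : tab.minOKc [4, 9] 2 385932 6654 = true := by decide +kernel

theorem chk_pow40_3_14 : tab.minOKc [4, 9] 2 392586 6654 = true := by decide +kernel

theorem chk_pow40_3 : tab.minOKc [4, 9] 2 299430 99810 = true := by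
  refine tab.minOKc_of_chunks [4, 9] 2 299430 6654 15 (by norm_num) ?_
  intro i hi
  interval_cases i
  · exact chk_pow40_3_0
  · exact chk_pow40_3_1
  · exact chk_pow40_3_2
  · exact chk_pow40_3_3
  · exact chk_pow40_3_4
  · exact chk_pow40_3_5
  · exact chk_pow40_3_6
  · exact chk_pow40_3_7
  · exact chk_pow40_3_8
  · exact chk_pow40_3_9
  · exact chk_pow40_3_10
  · exact chk_pow40_3_11
  · exact chk_pow40_3_12
  · exact chk_pow40_3_13
  · exact chk_pow40_3_14

end Cfsg.Agent.Lib.Helper6.Fi24TC
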