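import Cfsg.Agent.Lib.Helper6.Fi24TCData
import Cfsg.Agent.Lib.Helper6.TCRel3
import Cfsg.Agent.Lib.Helper6.Fi24TCRel81

/-! # Fi24: the kernel check of a part of the relators on the coset table -/

set_option autoImplicit false

namespace Cfsg.Agent.Lib.Helper6.Fi24TC

open Cfsg.Agent.Lib.Helper6.TC

theorem chk_pow46_2_0 : tab.minOKc [1, 10] 2 203100 6770 = true := by decide +kernel

theorem chk_pow46_2_1 : tab.minOKc [1, 10] 2 209870 6770 = true := by decide +kernel

theorem chk_pow46_2_2 : tab.minOKc [1, 10] 2 216640 6770 = true := by decide +kernel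

theorem chk_pow46_2_3 : tab.minOKc [1, 10] 2 223410 6770 = true := by decide +kernel

theorem chk_pow46_2_4 : tab.minOKc [1, 10] 2 230180 6770 = true := by decide +kernel

theorem chk_pow46_2_5 : tab.minOKc [1, 10] 2 236950 6770 = true := by decide +kernel

theorem chk_pow46_2_6 : tab.minOKc [1, 10] 2 243720 6770 = true := by decide +kernel

theorem chk_pow46_2_7 : tab.minOKc [1, 10] 2 250490 6770 = true := by decide +kernel

theorem chk_pow46_2_8 : tab.minOKc [1, 10] 2 257260 6770 = true := by decide +kernel

theorem chk_pow46_2_9 : tab.minOKc [1, 10] 2 264030 6770 = true := by decide +kernel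

theorem chk_pow46_2_10 : tab.minOKc [1, 10] 2 270800 6770 = true := by decide +kernel

theorem chk_pow46_2_11 : tab.minOKc [1, 10] 2 277570 6770 = true := by decide +kernel

theorem chk_pow46_2_12 : tab.minOKc [1, 10] 2 284340 6770 = true := by decide +kernel

theorem chk_pow46_2_13 : tab.minOKc [1, 10] 2 291110 6770 = true := by decide +kernel

theorem chk_pow46_2_14 : tab.minOKc [1, 10] 2 297880 6770 = true := by decide +kernel

theorem chk_pow46_2 : tab.minOKc [1, 10] 2 203100 101550 = true := by
  refine tab.minOKc_of_chunks [1, 10] 2 203100 6770 15 (by norm_num) ?_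
  intro i hi
  interval_cases i
  · exact chk_pow46_2_0
  · exact chk_pow46_2_1
  · exact chk_pow46_2_2
  · exact chk_pow46_2_3
  · exact chk_pow46_2_4
  · exact chk_pow46_2_5
  · exact chk_pow46_2_6
  · exact chk_pow46_2_7
  · exact chk_pow46_2_8
  · exact chk_pow46_2_9
  · exact chk_pow46_2_10
  · exact chk_pow46_2_11
  · exact chk_pow46_2_12
  · exact chk_pow46_2_13
  · exact chk_pow46_2_14

theorem chk_pow46_3_0 : tab.minOKc [1, 10] 2 304650 6770 = true := by decide +kernel

theorem chk_pow46_3_1 : tab.minOKc [1, 10] 2 311420 6770 = true := by decide +kernel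

theorem chk_pow46_3_2 : tab.minOKc [1, 10] 2 318190 6770 = true := by decide +kernel

theorem chk_pow46_3_3 : tab.minOKc [1, 10] 2 324960 6770 = true := by decide +kernel

theorem chk_pow46_3_4 : tab.minOKc [1, 10] 2 331730 6770 = true := by decide +kernel

theorem chk_pow46_3_5 : tab.minOKc [1, 10] 2 338500 6770 = true := by decide +kernel

theorem chk_pow46_3_6 : tab.minOKc [1, 10] 2 345270 6770 = true := by decide +kernel

theorem chk_pow46_3_7 : tab.minOKc [1, 10] 2 352040 6770 = true := by decide +kernel

theorem chk_pow46_3_8 : tab.minOKc [1, 10] 2 358810 6770 = true := by decide +kernel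

theorem chk_pow46_3_9 : tab.minOKc [1, 10] 2 365580 6770 = true := by decide +kernel

theorem chk_pow46_3_10 : tab.minOKc [1, 10] 2 372350 6770 = true := by decide +kernel

theorem chk_pow46_3_11 : tab.minOKc [1, 10] 2 379120 6770 = true := by decide +kernel

theorem chk_pow46_3_12 : tab.minOKc [1, 10] 2 385890 6770 = true := by decide +kernel

theorem chk_pow46_3_13 : tab.minOKc [1, 10] 2 392660 6770 = true := by decide +kernel

theorem chk_pow46_3_14 : tab.minOKc [1, 10] 2 399430 6770 = true := by decide +kernel

theorem chk_pow46_3 : tab.minOKc [1, 10] 2 304650 101550 = true := by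
  refine tab.minOKc_of_chunks [1, 10] 2 304650 6770 15 (by norm_num) ?_
  intro i hi
  interval_cases i
  · exact chk_pow46_3_0
  · exact chk_pow46_3_1
  · exact chk_pow46_3_2
  · exact chk_pow46_3_3
  · exact chk_pow46_3_4
  · exact chk_pow46_3_5
  · exact chk_pow46_3_6
  · exact chk_pow46_3_7
  · exact chk_pow46_3_8
  · exact chk_pow46_3_9
  · exact chk_pow46_3_10
  · exact chk_pow46_3_11
  · exact chk_pow46_3_12
  · exact chk_pow46_3_13
  · exact chk_pow46_3_14

end Cfsg.Agent.Lib.Helper6.Fi24TC
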