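import Cfsg.Agent.Lib.Helper6.Fi24TCData
import Cfsg.Agent.Lib.Helper6.TCRel3
import Cfsg.Agent.Lib.Helper6.Fi24TCRel93

/-! # Fi24: the kernel check of a part of the relators on the coset table -/

set_option autoImplicit false

namespace Cfsg.Agent.Lib.Helper6.Fi24TC

open Cfsg.Agent.Lib.Helper6.TC

theorem chk_pow52_2_0 : tab.minOKc [7, 10] 2 203370 6779 = true := by decide +kernel

theorem chk_pow52_2_1 : tab.minOKc [7, 10] 2 210149 6779 = true := by decide +kernel

theorem chk_pow52_2_2 : tab.minOKc [7, 10] 2 216928 6779 = true := by decide +kernel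

theorem chk_pow52_2_3 : tab.minOKc [7, 10] 2 223707 6779 = true := by decide +kernel

theorem chk_pow52_2_4 : tab.minOKc [7, 10] 2 230486 6779 = true := by decide +kernel

theorem chk_pow52_2_5 : tab.minOKc [7, 10] 2 237265 6779 = true := by decide +kernel

theorem chk_pow52_2_6 : tab.minOKc [7, 10] 2 244044 6779 = true := by decide +kernel

theorem chk_pow52_2_7 : tab.minOKc [7, 10] 2 250823 6779 = true := by decide +kernel

theorem chk_pow52_2_8 : tab.minOKc [7, 10] 2 257602 6779 = true := by decide +kernel

theorem chk_pow52_2_9 : tab.minOKc [7, 10] 2 264381 6779 = true := by decide +kernel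

theorem chk_pow52_2_10 : tab.minOKc [7, 10] 2 271160 6779 = true := by decide +kernel

theorem chk_pow52_2_11 : tab.minOKc [7, 10] 2 277939 6779 = true := by decide +kernel

theorem chk_pow52_2_12 : tab.minOKc [7, 10] 2 284718 6779 = true := by decide +kernel

theorem chk_pow52_2_13 : tab.minOKc [7, 10] 2 291497 6779 = true := by decide +kernel

theorem chk_pow52_2_14 : tab.minOKc [7, 10] 2 298276 6779 = true := by decide +kernel

theorem chk_pow52_2 : tab.minOKc [7, 10] 2 203370 101685 = true := by
  refine tab.minOKc_of_chunks [7, 10] 2 203370 6779 15 (by norm_num) ?_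
  intro i hi
  interval_cases i
  · exact chk_pow52_2_0
  · exact chk_pow52_2_1
  · exact chk_pow52_2_2
  · exact chk_pow52_2_3
  · exact chk_pow52_2_4
  · exact chk_pow52_2_5
  · exact chk_pow52_2_6
  · exact chk_pow52_2_7
  · exact chk_pow52_2_8
  · exact chk_pow52_2_9
  · exact chk_pow52_2_10
  · exact chk_pow52_2_11
  · exact chk_pow52_2_12
  · exact chk_pow52_2_13
  · exact chk_pow52_2_14

theorem chk_pow52_3_0 : tab.minOKc [7, 10] 2 305055 6779 = true := by decide +kernel

theorem chk_pow52_3_1 : tab.minOKc [7, 10] 2 311834 6779 = true := by decide +kernel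

theorem chk_pow52_3_2 : tab.minOKc [7, 10] 2 318613 6779 = true := by decide +kernel

theorem chk_pow52_3_3 : tab.minOKc [7, 10] 2 325392 6779 = true := by decide +kernel

theorem chk_pow52_3_4 : tab.minOKc [7, 10] 2 332171 6779 = true := by decide +kernel

theorem chk_pow52_3_5 : tab.minOKc [7, 10] 2 338950 6779 = true := by decide +kernel

theorem chk_pow52_3_6 : tab.minOKc [7, 10] 2 345729 6779 = true := by decide +kernel

theorem chk_pow52_3_7 : tab.minOKc [7, 10] 2 352508 6779 = true := by decide +kernel

theorem chk_pow52_3_8 : tab.minOKc [7, 10] 2 359287 6779 = true := by decide +kernel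

theorem chk_pow52_3_9 : tab.minOKc [7, 10] 2 366066 6779 = true := by decide +kernel

theorem chk_pow52_3_10 : tab.minOKc [7, 10] 2 372845 6779 = true := by decide +kernel

theorem chk_pow52_3_11 : tab.minOKc [7, 10] 2 379624 6779 = true := by decide +kernel

theorem chk_pow52_3_12 : tab.minOKc [7, 10] 2 386403 6779 = true := by decide +kernel

theorem chk_pow52_3_13 : tab.minOKc [7, 10] 2 393182 6779 = true := by decide +kernel

theorem chk_pow52_3_14 : tab.minOKc [7, 10] 2 399961 6779 = true := by decide +kernel

theorem chk_pow52_3 : tab.minOKc [7, 10] 2 305055 101685 = true := by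
  refine tab.minOKc_of_chunks [7, 10] 2 305055 6779 15 (by norm_num) ?_
  intro i hi
  interval_cases i
  · exact chk_pow52_3_0
  · exact chk_pow52_3_1
  · exact chk_pow52_3_2
  · exact chk_pow52_3_3
  · exact chk_pow52_3_4
  · exact chk_pow52_3_5
  · exact chk_pow52_3_6
  · exact chk_pow52_3_7
  · exact chk_pow52_3_8
  · exact chk_pow52_3_9
  · exact chk_pow52_3_10
  · exact chk_pow52_3_11
  · exact chk_pow52_3_12
  · exact chk_pow52_3_13
  · exact chk_pow52_3_14

end Cfsg.Agent.Lib.Helper6.Fi24TC
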