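import Cfsg.Agent.Lib.Helper6.Fi24TCData
import Cfsg.Agent.Lib.Helper6.TCRel3
import Cfsg.Agent.Lib.Helper6.Fi24TCRel105

/-! # Fi24: the kernel check of a part of the relators on the coset table -/

set_option autoImplicit false

namespace Cfsg.Agent.Lib.Helper6.Fi24TC

open Cfsg.Agent.Lib.Helper6.TC

theorem chk_pow58_2_0 : tab.minOKc [3, 11] 2 200370 6679 = true := by decide +kernel

theorem chk_pow58_2_1 : tab.minOKc [3, 11] 2 207049 6679 = true := by decide +kernel

theorem chk_pow58_2_2 : tab.minOKc [3, 11] 2 213728 6679 = true := by decide +kernel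

theorem chk_pow58_2_3 : tab.minOKc [3, 11] 2 220407 6679 = true := by decide +kernel

theorem chk_pow58_2_4 : tab.minOKc [3, 11] 2 227086 6679 = true := by decide +kernel

theorem chk_pow58_2_5 : tab.minOKc [3, 11] 2 233765 6679 = true := by decide +kernel

theorem chk_pow58_2_6 : tab.minOKc [3, 11] 2 240444 6679 = true := by decide +kernel

theorem chk_pow58_2_7 : tab.minOKc [3, 11] 2 247123 6679 = true := by decide +kernel

theorem chk_pow58_2_8 : tab.minOKc [3, 11] 2 253802 6679 = true := by decide +kernel

theorem chk_pow58_2_9 : tab.minOKc [3, 11] 2 260481 6679 = true := by decide +kernel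

theorem chk_pow58_2_10 : tab.minOKc [3, 11] 2 267160 6679 = true := by decide +kernel

theorem chk_pow58_2_11 : tab.minOKc [3, 11] 2 273839 6679 = true := by decide +kernel

theorem chk_pow58_2_12 : tab.minOKc [3, 11] 2 280518 6679 = true := by decide +kernel

theorem chk_pow58_2_13 : tab.minOKc [3, 11] 2 287197 6679 = true := by decide +kernel

theorem chk_pow58_2_14 : tab.minOKc [3, 11] 2 293876 6679 = true := by decide +kernel

theorem chk_pow58_2 : tab.minOKc [3, 11] 2 200370 100185 = true := by
  refine tab.minOKc_of_chunks [3, 11] 2 200370 6679 15 (by norm_num) ?_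
  intro i hi
  interval_cases i
  · exact chk_pow58_2_0
  · exact chk_pow58_2_1
  · exact chk_pow58_2_2
  · exact chk_pow58_2_3
  · exact chk_pow58_2_4
  · exact chk_pow58_2_5
  · exact chk_pow58_2_6
  · exact chk_pow58_2_7
  · exact chk_pow58_2_8
  · exact chk_pow58_2_9
  · exact chk_pow58_2_10
  · exact chk_pow58_2_11
  · exact chk_pow58_2_12
  · exact chk_pow58_2_13
  · exact chk_pow58_2_14

theorem chk_pow58_3_0 : tab.minOKc [3, 11] 2 300555 6679 = true := by decide +kernel

theorem chk_pow58_3_1 : tab.minOKc [3, 11] 2 307234 6679 = true := by decide +kernel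

theorem chk_pow58_3_2 : tab.minOKc [3, 11] 2 313913 6679 = true := by decide +kernel

theorem chk_pow58_3_3 : tab.minOKc [3, 11] 2 320592 6679 = true := by decide +kernel

theorem chk_pow58_3_4 : tab.minOKc [3, 11] 2 327271 6679 = true := by decide +kernel

theorem chk_pow58_3_5 : tab.minOKc [3, 11] 2 333950 6679 = true := by decide +kernel

theorem chk_pow58_3_6 : tab.minOKc [3, 11] 2 340629 6679 = true := by decide +kernel

theorem chk_pow58_3_7 : tab.minOKc [3, 11] 2 347308 6679 = true := by decide +kernel

theorem chk_pow58_3_8 : tab.minOKc [3, 11] 2 353987 6679 = true := by decide +kernel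

theorem chk_pow58_3_9 : tab.minOKc [3, 11] 2 360666 6679 = true := by decide +kernel

theorem chk_pow58_3_10 : tab.minOKc [3, 11] 2 367345 6679 = true := by decide +kernel

theorem chk_pow58_3_11 : tab.minOKc [3, 11] 2 374024 6679 = true := by decide +kernel

theorem chk_pow58_3_12 : tab.minOKc [3, 11] 2 380703 6679 = true := by decide +kernel

theorem chk_pow58_3_13 : tab.minOKc [3, 11] 2 387382 6679 = true := by decide +kernel

theorem chk_pow58_3_14 : tab.minOKc [3, 11] 2 394061 6679 = true := by decide +kernel

theorem chk_pow58_3 : tab.minOKc [3, 11] 2 300555 100185 = true := by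
  refine tab.minOKc_of_chunks [3, 11] 2 300555 6679 15 (by norm_num) ?_
  intro i hi
  interval_cases i
  · exact chk_pow58_3_0
  · exact chk_pow58_3_1
  · exact chk_pow58_3_2
  · exact chk_pow58_3_3
  · exact chk_pow58_3_4
  · exact chk_pow58_3_5
  · exact chk_pow58_3_6
  · exact chk_pow58_3_7
  · exact chk_pow58_3_8
  · exact chk_pow58_3_9
  · exact chk_pow58_3_10
  · exact chk_pow58_3_11
  · exact chk_pow58_3_12
  · exact chk_pow58_3_13
  · exact chk_pow58_3_14

end Cfsg.Agent.Lib.Helper6.Fi24TC
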