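import Cfsg.Agent.Lib.Helper6.Fi24TCData
import Cfsg.Agent.Lib.Helper6.TCRel3
import Cfsg.Agent.Lib.Helper6.Fi24TCRel153

/-! # Fi24: the kernel check of a part of the relators on the coset table -/

set_option autoImplicit false

namespace Cfsg.Agent.Lib.Helper6.Fi24TC

open Cfsg.Agent.Lib.Helper6.TC

theorem chk_pow67_0_0 : tab.minOKc [5, 4, 3, 2, 1, 0, 5, 6, 7, 8, 9, 5, 10, 11] 17 0 355 = true := by decide +kernel

theorem chk_pow67_0_1 : tab.minOKc [5, 4, 3, 2, 1, 0, 5, 6, 7, 8, 9, 5, 10, 11] 17 355 355 = true := by decide +kernel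

theorem chk_pow67_0_2 : tab.minOKc [5, 4, 3, 2, 1, 0, 5, 6, 7, 8, 9, 5, 10, 11] 17 710 355 = true := by decide +kernel

theorem chk_pow67_0_3 : tab.minOKc [5, 4, 3, 2, 1, 0, 5, 6, 7, 8, 9, 5, 10, 11] 17 1065 355 = true := by decide +kernel

theorem chk_pow67_0_4 : tab.minOKc [5, 4, 3, 2, 1, 0, 5, 6, 7, 8, 9, 5, 10, 11] 17 1420 355 = true := by decide +kernel

theorem chk_pow67_0_5 : tab.minOKc [5, 4, 3, 2, 1, 0, 5, 6, 7, 8, 9, 5, 10, 11] 17 1775 355 = true := by decide +kernel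

theorem chk_pow67_0_6 : tab.minOKc [5, 4, 3, 2, 1, 0, 5, 6, 7, 8, 9, 5, 10, 11] 17 2130 355 = true := by decide +kernel

theorem chk_pow67_0_7 : tab.minOKc [5, 4, 3, 2, 1, 0, 5, 6, 7, 8, 9, 5, 10, 11] 17 2485 355 = true := by decide +kernel

theorem chk_pow67_0_8 : tab.minOKc [5, 4, 3, 2, 1, 0, 5, 6, 7, 8, 9, 5, 10, 11] 17 2840 355 = true := by decide +kernel

theorem chk_pow67_0_9 : tab.minOKc [5, 4, 3, 2, 1, 0, 5, 6, 7, 8, 9, 5, 10, 11] 17 3195 355 = true := by decide +kernel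

theorem chk_pow67_0_10 : tab.minOKc [5, 4, 3, 2, 1, 0, 5, 6, 7, 8, 9, 5, 10, 11] 17 3550 355 = true := by decide +kernel

theorem chk_pow67_0_11 : tab.minOKc [5, 4, 3, 2, 1, 0, 5, 6, 7, 8, 9, 5, 10, 11] 17 3905 355 = true := by decide +kernel

theorem chk_pow67_0_12 : tab.minOKc [5, 4, 3, 2, 1, 0, 5, 6, 7, 8, 9, 5, 10, 11] 17 4260 355 = true := by decide +kernel

theorem chk_pow67_0_13 : tab.minOKc [5, 4, 3, 2, 1, 0, 5, 6, 7, 8, 9, 5, 10, 11] 17 4615 355 = true := by decide +kernel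

theorem chk_pow67_0_14 : tab.minOKc [5, 4, 3, 2, 1, 0, 5, 6, 7, 8, 9, 5, 10, 11] 17 4970 355 = true := by decide +kernel

theorem chk_pow67_0 : tab.minOKc [5, 4, 3, 2, 1, 0, 5, 6, 7, 8, 9, 5, 10, 11] 17 0 5325 = true := by
  refine tab.minOKc_of_chunks [5, 4, 3, 2, 1, 0, 5, 6, 7, 8, 9, 5, 10, 11] 17 0 355 15 (by norm_num) ?_
  intro i hi
  interval_cases i
  · exact chk_pow67_0_0
  · exact chk_pow67_0_1
  · exact chk_pow67_0_2
  · exact chk_pow67_0_3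
  · exact chk_pow67_0_4
  · exact chk_pow67_0_5
  · exact chk_pow67_0_6
  · exact chk_pow67_0_7
  · exact chk_pow67_0_8
  · exact chk_pow67_0_9
  · exact chk_pow67_0_10
  · exact chk_pow67_0_11
  · exact chk_pow67_0_12
  · exact chk_pow67_0_13
  · exact chk_pow67_0_14

theorem chk_pow67_1_0 : tab.minOKc [5, 4, 3, 2, 1, 0, 5, 6, 7, 8, 9, 5, 10, 11] 17 5325 355 = true := by decide +kernel

theorem chk_pow67_1_1 : tab.minOKc [5, 4, 3, 2, 1, 0, 5, 6, 7, 8, 9, 5, 10, 11] 17 5680 355 = true := by decide +kernel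

theorem chk_pow67_1_2 : tab.minOKc [5, 4, 3, 2, 1, 0, 5, 6, 7, 8, 9, 5, 10, 11] 17 6035 355 = true := by decide +kernel

theorem chk_pow67_1_3 : tab.minOKc [5, 4, 3, 2, 1, 0, 5, 6, 7, 8, 9, 5, 10, 11] 17 6390 355 = true := by decide +kernel

theorem chk_pow67_1_4 : tab.minOKc [5, 4, 3, 2, 1, 0, 5, 6, 7, 8, 9, 5, 10, 11] 17 6745 355 = true := by decide +kernel

theorem chk_pow67_1_5 : tab.minOKc [5, 4, 3, 2, 1, 0, 5, 6, 7, 8, 9, 5, 10, 11] 17 7100 355 = true := by decide +kernel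

theorem chk_pow67_1_6 : tab.minOKc [5, 4, 3, 2, 1, 0, 5, 6, 7, 8, 9, 5, 10, 11] 17 7455 355 = true := by decide +kernel

theorem chk_pow67_1_7 : tab.minOKc [5, 4, 3, 2, 1, 0, 5, 6, 7, 8, 9, 5, 10, 11] 17 7810 355 = true := by decide +kernel

theorem chk_pow67_1_8 : tab.minOKc [5, 4, 3, 2, 1, 0, 5, 6, 7, 8, 9, 5, 10, 11] 17 8165 355 = true := by decide +kernel

theorem chk_pow67_1_9 : tab.minOKc [5, 4, 3, 2, 1, 0, 5, 6, 7, 8, 9, 5, 10, 11] 17 8520 355 = true := by decide +kernel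

theorem chk_pow67_1_10 : tab.minOKc [5, 4, 3, 2, 1, 0, 5, 6, 7, 8, 9, 5, 10, 11] 17 8875 355 = true := by decide +kernel

theorem chk_pow67_1_11 : tab.minOKc [5, 4, 3, 2, 1, 0, 5, 6, 7, 8, 9, 5, 10, 11] 17 9230 355 = true := by decide +kernel

theorem chk_pow67_1_12 : tab.minOKc [5, 4, 3, 2, 1, 0, 5, 6, 7, 8, 9, 5, 10, 11] 17 9585 355 = true := by decide +kernel

theorem chk_pow67_1_13 : tab.minOKc [5, 4, 3, 2, 1, 0, 5, 6, 7, 8, 9, 5, 10, 11] 17 9940 355 = true := by decide +kernel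

theorem chk_pow67_1_14 : tab.minOKc [5, 4, 3, 2, 1, 0, 5, 6, 7, 8, 9, 5, 10, 11] 17 10295 355 = true := by decide +kernel

theorem chk_pow67_1 : tab.minOKc [5, 4, 3, 2, 1, 0, 5, 6, 7, 8, 9, 5, 10, 11] 17 5325 5325 = true := by
  refine tab.minOKc_of_chunks [5, 4, 3, 2, 1, 0, 5, 6, 7, 8, 9, 5, 10, 11] 17 5325 355 15 (by norm_num) ?_
  intro i hi
  interval_cases i
  · exact chk_pow67_1_0
  · exact chk_pow67_1_1
  · exact chk_pow67_1_2
  · exact chk_pow67_1_3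
  · exact chk_pow67_1_4
  · exact chk_pow67_1_5
  · exact chk_pow67_1_6
  · exact chk_pow67_1_7
  · exact chk_pow67_1_8
  · exact chk_pow67_1_9
  · exact chk_pow67_1_10
  · exact chk_pow67_1_11
  · exact chk_pow67_1_12
  · exact chk_pow67_1_13
  · exact chk_pow67_1_14

end Cfsg.Agent.Lib.Helper6.Fi24TC
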