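import Cfsg.Agent.Lib.Helper6.Fi24TCData
import Cfsg.Agent.Lib.Helper6.TCRel3
import Cfsg.Agent.Lib.Helper6.Fi24TCRel165

/-! # Fi24: the kernel check of a part of the relators on the coset table -/

set_option autoImplicit false

namespace Cfsg.Agent.Lib.Helper6.Fi24TC

open Cfsg.Agent.Lib.Helper6.TC

theorem chk_pow67_24_0 : tab.minOKc [5, 4, 3, 2, 1, 0, 5, 6, 7, 8, 9, 5, 10, 11] 17 127800 355 = true := by decide +kernel

theorem chk_pow67_24_1 : tab.minOKc [5, 4, 3, 2, 1, 0, 5, 6, 7, 8, 9, 5, 10, 11] 17 128155 355 = true := by decide +kernel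

theorem chk_pow67_24_2 : tab.minOKc [5, 4, 3, 2, 1, 0, 5, 6, 7, 8, 9, 5, 10, 11] 17 128510 355 = true := by decide +kernel

theorem chk_pow67_24_3 : tab.minOKc [5, 4, 3, 2, 1, 0, 5, 6, 7, 8, 9, 5, 10, 11] 17 128865 355 = true := by decide +kernel

theorem chk_pow67_24_4 : tab.minOKc [5, 4, 3, 2, 1, 0, 5, 6, 7, 8, 9, 5, 10, 11] 17 129220 355 = true := by decide +kernel

theorem chk_pow67_24_5 : tab.minOKc [5, 4, 3, 2, 1, 0, 5, 6, 7, 8, 9, 5, 10, 11] 17 129575 355 = true := by decide +kernel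

theorem chk_pow67_24_6 : tab.minOKc [5, 4, 3, 2, 1, 0, 5, 6, 7, 8, 9, 5, 10, 11] 17 129930 355 = true := by decide +kernel

theorem chk_pow67_24_7 : tab.minOKc [5, 4, 3, 2, 1, 0, 5, 6, 7, 8, 9, 5, 10, 11] 17 130285 355 = true := by decide +kernel

theorem chk_pow67_24_8 : tab.minOKc [5, 4, 3, 2, 1, 0, 5, 6, 7, 8, 9, 5, 10, 11] 17 130640 355 = true := by decide +kernel

theorem chk_pow67_24_9 : tab.minOKc [5, 4, 3, 2, 1, 0, 5, 6, 7, 8, 9, 5, 10, 11] 17 130995 355 = true := by decide +kernel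

theorem chk_pow67_24_10 : tab.minOKc [5, 4, 3, 2, 1, 0, 5, 6, 7, 8, 9, 5, 10, 11] 17 131350 355 = true := by decide +kernel

theorem chk_pow67_24_11 : tab.minOKc [5, 4, 3, 2, 1, 0, 5, 6, 7, 8, 9, 5, 10, 11] 17 131705 355 = true := by decide +kernel

theorem chk_pow67_24_12 : tab.minOKc [5, 4, 3, 2, 1, 0, 5, 6, 7, 8, 9, 5, 10, 11] 17 132060 355 = true := by decide +kernel

theorem chk_pow67_24_13 : tab.minOKc [5, 4, 3, 2, 1, 0, 5, 6, 7, 8, 9, 5, 10, 11] 17 132415 355 = true := by decide +kernel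

theorem chk_pow67_24_14 : tab.minOKc [5, 4, 3, 2, 1, 0, 5, 6, 7, 8, 9, 5, 10, 11] 17 132770 355 = true := by decide +kernel

theorem chk_pow67_24 : tab.minOKc [5, 4, 3, 2, 1, 0, 5, 6, 7, 8, 9, 5, 10, 11] 17 127800 5325 = true := by
  refine tab.minOKc_of_chunks [5, 4, 3, 2, 1, 0, 5, 6, 7, 8, 9, 5, 10, 11] 17 127800 355 15 (by norm_num) ?_
  intro i hi
  interval_cases i
  · exact chk_pow67_24_0
  · exact chk_pow67_24_1
  · exact chk_pow67_24_2
  · exact chk_pow67_24_3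
  · exact chk_pow67_24_4
  · exact chk_pow67_24_5
  · exact chk_pow67_24_6
  · exact chk_pow67_24_7
  · exact chk_pow67_24_8
  · exact chk_pow67_24_9
  · exact chk_pow67_24_10
  · exact chk_pow67_24_11
  · exact chk_pow67_24_12
  · exact chk_pow67_24_13
  · exact chk_pow67_24_14

theorem chk_pow67_25_0 : tab.minOKc [5, 4, 3, 2, 1, 0, 5, 6, 7, 8, 9, 5, 10, 11] 17 133125 355 = true := by decide +kernel

theorem chk_pow67_25_1 : tab.minOKc [5, 4, 3, 2, 1, 0, 5, 6, 7, 8, 9, 5, 10, 11] 17 133480 355 = true := by decide +kernel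

theorem chk_pow67_25_2 : tab.minOKc [5, 4, 3, 2, 1, 0, 5, 6, 7, 8, 9, 5, 10, 11] 17 133835 355 = true := by decide +kernel

theorem chk_pow67_25_3 : tab.minOKc [5, 4, 3, 2, 1, 0, 5, 6, 7, 8, 9, 5, 10, 11] 17 134190 355 = true := by decide +kernel

theorem chk_pow67_25_4 : tab.minOKc [5, 4, 3, 2, 1, 0, 5, 6, 7, 8, 9, 5, 10, 11] 17 134545 355 = true := by decide +kernel

theorem chk_pow67_25_5 : tab.minOKc [5, 4, 3, 2, 1, 0, 5, 6, 7, 8, 9, 5, 10, 11] 17 134900 355 = true := by decide +kernel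

theorem chk_pow67_25_6 : tab.minOKc [5, 4, 3, 2, 1, 0, 5, 6, 7, 8, 9, 5, 10, 11] 17 135255 355 = true := by decide +kernel

theorem chk_pow67_25_7 : tab.minOKc [5, 4, 3, 2, 1, 0, 5, 6, 7, 8, 9, 5, 10, 11] 17 135610 355 = true := by decide +kernel

theorem chk_pow67_25_8 : tab.minOKc [5, 4, 3, 2, 1, 0, 5, 6, 7, 8, 9, 5, 10, 11] 17 135965 355 = true := by decide +kernel

theorem chk_pow67_25_9 : tab.minOKc [5, 4, 3, 2, 1, 0, 5, 6, 7, 8, 9, 5, 10, 11] 17 136320 355 = true := by decide +kernel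

theorem chk_pow67_25_10 : tab.minOKc [5, 4, 3, 2, 1, 0, 5, 6, 7, 8, 9, 5, 10, 11] 17 136675 355 = true := by decide +kernel

theorem chk_pow67_25_11 : tab.minOKc [5, 4, 3, 2, 1, 0, 5, 6, 7, 8, 9, 5, 10, 11] 17 137030 355 = true := by decide +kernel

theorem chk_pow67_25_12 : tab.minOKc [5, 4, 3, 2, 1, 0, 5, 6, 7, 8, 9, 5, 10, 11] 17 137385 355 = true := by decide +kernel

theorem chk_pow67_25_13 : tab.minOKc [5, 4, 3, 2, 1, 0, 5, 6, 7, 8, 9, 5, 10, 11] 17 137740 355 = true := by decide +kernel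

theorem chk_pow67_25_14 : tab.minOKc [5, 4, 3, 2, 1, 0, 5, 6, 7, 8, 9, 5, 10, 11] 17 138095 355 = true := by decide +kernel

theorem chk_pow67_25 : tab.minOKc [5, 4, 3, 2, 1, 0, 5, 6, 7, 8, 9, 5, 10, 11] 17 133125 5325 = true := by
  refine tab.minOKc_of_chunks [5, 4, 3, 2, 1, 0, 5, 6, 7, 8, 9, 5, 10, 11] 17 133125 355 15 (by norm_num) ?_
  intro i hi
  interval_cases i
  · exact chk_pow67_25_0
  · exact chk_pow67_25_1
  · exact chk_pow67_25_2
  · exact chk_pow67_25_3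
  · exact chk_pow67_25_4
  · exact chk_pow67_25_5
  · exact chk_pow67_25_6
  · exact chk_pow67_25_7
  · exact chk_pow67_25_8
  · exact chk_pow67_25_9
  · exact chk_pow67_25_10
  · exact chk_pow67_25_11
  · exact chk_pow67_25_12
  · exact chk_pow67_25_13
  · exact chk_pow67_25_14

end Cfsg.Agent.Lib.Helper6.Fi24TC
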