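import Cfsg.Agent.Lib.Helper6.Fi24TCData
import Cfsg.Agent.Lib.Helper6.TCRel3
import Cfsg.Agent.Lib.Helper6.Fi24TCRel177

/-! # Fi24: the kernel check of a part of the relators on the coset table -/

set_option autoImplicit false

namespace Cfsg.Agent.Lib.Helper6.Fi24TC

open Cfsg.Agent.Lib.Helper6.TC

theorem chk_pow67_48_0 : tab.minOKc [5, 4, 3, 2, 1, 0, 5, 6, 7, 8, 9, 5, 10, 11] 17 255600 355 = true := by decide +kernel

theorem chk_pow67_48_1 : tab.minOKc [5, 4, 3, 2, 1, 0, 5, 6, 7, 8, 9, 5, 10, 11] 17 255955 355 = true := by decide +kernel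

theorem chk_pow67_48_2 : tab.minOKc [5, 4, 3, 2, 1, 0, 5, 6, 7, 8, 9, 5, 10, 11] 17 256310 355 = true := by decide +kernel

theorem chk_pow67_48_3 : tab.minOKc [5, 4, 3, 2, 1, 0, 5, 6, 7, 8, 9, 5, 10, 11] 17 256665 355 = true := by decide +kernel

theorem chk_pow67_48_4 : tab.minOKc [5, 4, 3, 2, 1, 0, 5, 6, 7, 8, 9, 5, 10, 11] 17 257020 355 = true := by decide +kernel

theorem chk_pow67_48_5 : tab.minOKc [5, 4, 3, 2, 1, 0, 5, 6, 7, 8, 9, 5, 10, 11] 17 257375 355 = true := by decide +kernel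

theorem chk_pow67_48_6 : tab.minOKc [5, 4, 3, 2, 1, 0, 5, 6, 7, 8, 9, 5, 10, 11] 17 257730 355 = true := by decide +kernel

theorem chk_pow67_48_7 : tab.minOKc [5, 4, 3, 2, 1, 0, 5, 6, 7, 8, 9, 5, 10, 11] 17 258085 355 = true := by decide +kernel

theorem chk_pow67_48_8 : tab.minOKc [5, 4, 3, 2, 1, 0, 5, 6, 7, 8, 9, 5, 10, 11] 17 258440 355 = true := by decide +kernel

theorem chk_pow67_48_9 : tab.minOKc [5, 4, 3, 2, 1, 0, 5, 6, 7, 8, 9, 5, 10, 11] 17 258795 355 = true := by decide +kernel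

theorem chk_pow67_48_10 : tab.minOKc [5, 4, 3, 2, 1, 0, 5, 6, 7, 8, 9, 5, 10, 11] 17 259150 355 = true := by decide +kernel

theorem chk_pow67_48_11 : tab.minOKc [5, 4, 3, 2, 1, 0, 5, 6, 7, 8, 9, 5, 10, 11] 17 259505 355 = true := by decide +kernel

theorem chk_pow67_48_12 : tab.minOKc [5, 4, 3, 2, 1, 0, 5, 6, 7, 8, 9, 5, 10, 11] 17 259860 355 = true := by decide +kernel

theorem chk_pow67_48_13 : tab.minOKc [5, 4, 3, 2, 1, 0, 5, 6, 7, 8, 9, 5, 10, 11] 17 260215 355 = true := by decide +kernel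

theorem chk_pow67_48_14 : tab.minOKc [5, 4, 3, 2, 1, 0, 5, 6, 7, 8, 9, 5, 10, 11] 17 260570 355 = true := by decide +kernel

theorem chk_pow67_48 : tab.minOKc [5, 4, 3, 2, 1, 0, 5, 6, 7, 8, 9, 5, 10, 11] 17 255600 5325 = true := by
  refine tab.minOKc_of_chunks [5, 4, 3, 2, 1, 0, 5, 6, 7, 8, 9, 5, 10, 11] 17 255600 355 15 (by norm_num) ?_
  intro i hi
  interval_cases i
  · exact chk_pow67_48_0
  · exact chk_pow67_48_1
  · exact chk_pow67_48_2
  · exact chk_pow67_48_3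
  · exact chk_pow67_48_4
  · exact chk_pow67_48_5
  · exact chk_pow67_48_6
  · exact chk_pow67_48_7
  · exact chk_pow67_48_8
  · exact chk_pow67_48_9
  · exact chk_pow67_48_10
  · exact chk_pow67_48_11
  · exact chk_pow67_48_12
  · exact chk_pow67_48_13
  · exact chk_pow67_48_14

theorem chk_pow67_49_0 : tab.minOKc [5, 4, 3, 2, 1, 0, 5, 6, 7, 8, 9, 5, 10, 11] 17 260925 355 = true := by decide +kernel

theorem chk_pow67_49_1 : tab.minOKc [5, 4, 3, 2, 1, 0, 5, 6, 7, 8, 9, 5, 10, 11] 17 261280 355 = true := by decide +kernel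

theorem chk_pow67_49_2 : tab.minOKc [5, 4, 3, 2, 1, 0, 5, 6, 7, 8, 9, 5, 10, 11] 17 261635 355 = true := by decide +kernel

theorem chk_pow67_49_3 : tab.minOKc [5, 4, 3, 2, 1, 0, 5, 6, 7, 8, 9, 5, 10, 11] 17 261990 355 = true := by decide +kernel

theorem chk_pow67_49_4 : tab.minOKc [5, 4, 3, 2, 1, 0, 5, 6, 7, 8, 9, 5, 10, 11] 17 262345 355 = true := by decide +kernel

theorem chk_pow67_49_5 : tab.minOKc [5, 4, 3, 2, 1, 0, 5, 6, 7, 8, 9, 5, 10, 11] 17 262700 355 = true := by decide +kernel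

theorem chk_pow67_49_6 : tab.minOKc [5, 4, 3, 2, 1, 0, 5, 6, 7, 8, 9, 5, 10, 11] 17 263055 355 = true := by decide +kernel

theorem chk_pow67_49_7 : tab.minOKc [5, 4, 3, 2, 1, 0, 5, 6, 7, 8, 9, 5, 10, 11] 17 263410 355 = true := by decide +kernel

theorem chk_pow67_49_8 : tab.minOKc [5, 4, 3, 2, 1, 0, 5, 6, 7, 8, 9, 5, 10, 11] 17 263765 355 = true := by decide +kernel

theorem chk_pow67_49_9 : tab.minOKc [5, 4, 3, 2, 1, 0, 5, 6, 7, 8, 9, 5, 10, 11] 17 264120 355 = true := by decide +kernel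

theorem chk_pow67_49_10 : tab.minOKc [5, 4, 3, 2, 1, 0, 5, 6, 7, 8, 9, 5, 10, 11] 17 264475 355 = true := by decide +kernel

theorem chk_pow67_49_11 : tab.minOKc [5, 4, 3, 2, 1, 0, 5, 6, 7, 8, 9, 5, 10, 11] 17 264830 355 = true := by decide +kernel

theorem chk_pow67_49_12 : tab.minOKc [5, 4, 3, 2, 1, 0, 5, 6, 7, 8, 9, 5, 10, 11] 17 265185 355 = true := by decide +kernel

theorem chk_pow67_49_13 : tab.minOKc [5, 4, 3, 2, 1, 0, 5, 6, 7, 8, 9, 5, 10, 11] 17 265540 355 = true := by decide +kernel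

theorem chk_pow67_49_14 : tab.minOKc [5, 4, 3, 2, 1, 0, 5, 6, 7, 8, 9, 5, 10, 11] 17 265895 355 = true := by decide +kernel

theorem chk_pow67_49 : tab.minOKc [5, 4, 3, 2, 1, 0, 5, 6, 7, 8, 9, 5, 10, 11] 17 260925 5325 = true := by
  refine tab.minOKc_of_chunks [5, 4, 3, 2, 1, 0, 5, 6, 7, 8, 9, 5, 10, 11] 17 260925 355 15 (by norm_num) ?_
  intro i hi
  interval_cases i
  · exact chk_pow67_49_0
  · exact chk_pow67_49_1
  · exact chk_pow67_49_2
  · exact chk_pow67_49_3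
  · exact chk_pow67_49_4
  · exact chk_pow67_49_5
  · exact chk_pow67_49_6
  · exact chk_pow67_49_7
  · exact chk_pow67_49_8
  · exact chk_pow67_49_9
  · exact chk_pow67_49_10
  · exact chk_pow67_49_11
  · exact chk_pow67_49_12
  · exact chk_pow67_49_13
  · exact chk_pow67_49_14

end Cfsg.Agent.Lib.Helper6.Fi24TC
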