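import Cfsg.Agent.Lib.Helper6.Fi24TCData
import Cfsg.Agent.Lib.Helper6.TCChunk
import Cfsg.Agent.Lib.Helper6.Fi24TCRel191

/-! # Fi24: the kernel check of the coset table, part 9 -/

set_option autoImplicit false

namespace Cfsg.Agent.Lib.Helper6.Fi24TC

open Cfsg.Agent.Lib.Helper6.TC Cfsg.Agent.Lib.Helper6.TCS

theorem chk_tab81 : tab.tabOKc 162000 2000 = true := by decide +kernel

theorem chk_tab82 : tab.tabOKc 164000 2000 = true := by decide +kernel

theorem chk_tab83 : tab.tabOKc 166000 2000 = true := by decide +kernel

theorem chk_tab84 : tab.tabOKc 168000 2000 = true := by decide +kernel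

theorem chk_tab85 : tab.tabOKc 170000 2000 = true := by decide +kernel

theorem chk_tab86 : tab.tabOKc 172000 2000 = true := by decide +kernel

theorem chk_tab87 : tab.tabOKc 174000 2000 = true := by decide +kernel

theorem chk_tab88 : tab.tabOKc 176000 2000 = true := by decide +kernel

theorem chk_tab89 : tab.tabOKc 178000 2000 = true := by decide +kernel

end Cfsg.Agent.Lib.Helper6.Fi24TC
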