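import Cfsg.Agent.Lib.Helper6.Fi24TCData
import Cfsg.Agent.Lib.Helper6.TCChunk
import Cfsg.Agent.Lib.Helper6.Fi24TCRel190

/-! # Fi24: the kernel check of the coset table, part 8 -/

set_option autoImplicit false

namespace Cfsg.Agent.Lib.Helper6.Fi24TC

open Cfsg.Agent.Lib.Helper6.TC Cfsg.Agent.Lib.Helper6.TCS

theorem chk_tab72 : tab.tabOKc 144000 2000 = true := by decide +kernel

theorem chk_tab73 : tab.tabOKc 146000 2000 = true := by decide +kernel

theorem chk_tab74 : tab.tabOKc 148000 2000 = true := by decide +kernel

theorem chk_tab75 : tab.tabOKc 150000 2000 = true := by decide +kernel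

theorem chk_tab76 : tab.tabOKc 152000 2000 = true := by decide +kernel

theorem chk_tab77 : tab.tabOKc 154000 2000 = true := by decide +kernel

theorem chk_tab78 : tab.tabOKc 156000 2000 = true := by decide +kernel

theorem chk_tab79 : tab.tabOKc 158000 2000 = true := by decide +kernel

theorem chk_tab80 : tab.tabOKc 160000 2000 = true := by decide +kernel

end Cfsg.Agent.Lib.Helper6.Fi24TC
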