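import Cfsg.Agent.Lib.Helper6.Fi24TCData
import Cfsg.Agent.Lib.Helper6.TCChunk
import Cfsg.Agent.Lib.Helper6.Fi24TCTab11

/-! # Fi24: the kernel check that the coset table is connected, part 5 -/

set_option autoImplicit false

namespace Cfsg.Agent.Lib.Helper6.Fi24TC

open Cfsg.Agent.Lib.Helper6.TC Cfsg.Agent.Lib.Helper6.TCS

theorem chk_tree135 : tab.treeOKc 270000 2000 = true := by decide +kernel

theorem chk_tree136 : tab.treeOKc 272000 2000 = true := by decide +kernel

theorem chk_tree137 : tab.treeOKc 274000 2000 = true := by decide +kernel

theorem chk_tree138 : tab.treeOKc 276000 2000 = true := by decide +kernel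

theorem chk_tree139 : tab.treeOKc 278000 2000 = true := by decide +kernel

theorem chk_tree140 : tab.treeOKc 280000 2000 = true := by decide +kernel

theorem chk_tree141 : tab.treeOKc 282000 2000 = true := by decide +kernel

theorem chk_tree142 : tab.treeOKc 284000 2000 = true := by decide +kernel

theorem chk_tree143 : tab.treeOKc 286000 2000 = true := by decide +kernel

theorem chk_tree144 : tab.treeOKc 288000 2000 = true := by decide +kernel

theorem chk_tree145 : tab.treeOKc 290000 2000 = true := by decide +kernel

theorem chk_tree146 : tab.treeOKc 292000 2000 = true := by decide +kernel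

theorem chk_tree147 : tab.treeOKc 294000 2000 = true := by decide +kernel

theorem chk_tree148 : tab.treeOKc 296000 2000 = true := by decide +kernel

theorem chk_tree149 : tab.treeOKc 298000 2000 = true := by decide +kernel

theorem chk_tree150 : tab.treeOKc 300000 2000 = true := by decide +kernel

theorem chk_tree151 : tab.treeOKc 302000 2000 = true := by decide +kernel

theorem chk_tree152 : tab.treeOKc 304000 2000 = true := by decide +kernel

theorem chk_tree153 : tab.treeOKc 306000 2000 = true := by decide +kernel

end Cfsg.Agent.Lib.Helper6.Fi24TC
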