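import Cfsg.Agent.Lib.Helper6.Fi24TCData
import Cfsg.Agent.Lib.Helper6.TCInst
import Cfsg.Agent.Lib.Helper6.TCRel3
import Cfsg.Prelude.Def_Spor_Fi24
import Cfsg.Agent.Lib.Helper6.Fi24TCChk3
import Cfsg.Agent.Lib.Helper6.Fi24TCTab0
import Cfsg.Agent.Lib.Helper6.Fi24TCTab1
import Cfsg.Agent.Lib.Helper6.Fi24TCTab2
import Cfsg.Agent.Lib.Helper6.Fi24TCTab3
import Cfsg.Agent.Lib.Helper6.Fi24TCTab4
import Cfsg.Agent.Lib.Helper6.Fi24TCTab5
import Cfsg.Agent.Lib.Helper6.Fi24TCTab6
import Cfsg.Agent.Lib.Helper6.Fi24TCTab7
import Cfsg.Agent.Lib.Helper6.Fi24TCTab8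
import Cfsg.Agent.Lib.Helper6.Fi24TCTab9
import Cfsg.Agent.Lib.Helper6.Fi24TCTab10
import Cfsg.Agent.Lib.Helper6.Fi24TCTab11
import Cfsg.Agent.Lib.Helper6.Fi24TCTab12
import Cfsg.Agent.Lib.Helper6.Fi24TCTab13
import Cfsg.Agent.Lib.Helper6.Fi24TCTab14
import Cfsg.Agent.Lib.Helper6.Fi24TCTab15
import Cfsg.Agent.Lib.Helper6.Fi24TCTab16
import Cfsg.Agent.Lib.Helper6.Fi24TCTab17
import Cfsg.Agent.Lib.Helper6.Fi24TCTree0
import Cfsg.Agent.Lib.Helper6.Fi24TCTree1
import Cfsg.Agent.Lib.Helper6.Fi24TCTree2
import Cfsg.Agent.Lib.Helper6.Fi24TCTree3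
import Cfsg.Agent.Lib.Helper6.Fi24TCTree4
import Cfsg.Agent.Lib.Helper6.Fi24TCTree5

/-! # Fi24: the checks of the words, the coset table and the relators -/

set_option autoImplicit false

namespace Cfsg.Agent.Lib.Helper6.Fi24TC

open Cfsg.Agent.Lib.Helper6.TC Cfsg.Spor

/-- the generator with a given code -/
def gen : ℕ → Fi24.Gen
  | 0 => .l
  | 1 => .k
  | 2 => .a
  | 3 => .b
  | 4 => .c
  | 5 => .d
  | 6 => .e
  | 7 => .f
  | 8 => .g
  | 9 => .j
  | 10 => .h
  | _ => .i

/-- the code of a generator -/
def code : Fi24.Gen → ℕ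
  | .l => 0
  | .k => 1
  | .a => 2
  | .b => 3
  | .c => 4
  | .d => 5
  | .e => 6
  | .f => 7
  | .g => 8
  | .j => 9
  | .h => 10
  | .i => 11

theorem chk_words : wordsSrcOK cfg (coxWordsL Fi24.edges gen cfg.g ++ extraWords) nw srcs = true := by
  decide +kernel

theorem chk_tab : tab.tabOK = true := by
  refine tab.tabOK_of_chunks 2000 154 (by norm_num) (by show 306936 ≤ 154 * 2000; norm_num) ?_
  intro k hk
  interval_cases k
  · exact chk_tab0
  · exact chk_tab1
  · exact chk_tab2
  · exact chk_tab3
  · exact chk_tab4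
  · exact chk_tab5
  · exact chk_tab6
  · exact chk_tab7
  · exact chk_tab8
  · exact chk_tab9
  · exact chk_tab10
  · exact chk_tab11
  · exact chk_tab12
  · exact chk_tab13
  · exact chk_tab14
  · exact chk_tab15
  · exact chk_tab16
  · exact chk_tab17
  · exact chk_tab18
  · exact chk_tab19
  · exact chk_tab20
  · exact chk_tab21
  · exact chk_tab22
  · exact chk_tab23
  · exact chk_tab24
  · exact chk_tab25
  · exact chk_tab26
  · exact chk_tab27
  · exact chk_tab28
  · exact chk_tab29
  · exact chk_tab30
  · exact chk_tab31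
  · exact chk_tab32
  · exact chk_tab33
  · exact chk_tab34
  · exact chk_tab35
  · exact chk_tab36
  · exact chk_tab37
  · exact chk_tab38
  · exact chk_tab39
  · exact chk_tab40
  · exact chk_tab41
  · exact chk_tab42
  · exact chk_tab43
  · exact chk_tab44
  · exact chk_tab45
  · exact chk_tab46
  · exact chk_tab47
  · exact chk_tab48
  · exact chk_tab49
  · exact chk_tab50
  · exact chk_tab51
  · exact chk_tab52
  · exact chk_tab53
  · exact chk_tab54
  · exact chk_tab55
  · exact chk_tab56
  · exact chk_tab57
  · exact chk_tab58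
  · exact chk_tab59
  · exact chk_tab60
  · exact chk_tab61
  · exact chk_tab62
  · exact chk_tab63
  · exact chk_tab64
  · exact chk_tab65
  · exact chk_tab66
  · exact chk_tab67
  · exact chk_tab68
  · exact chk_tab69
  · exact chk_tab70
  · exact chk_tab71
  · exact chk_tab72
  · exact chk_tab73
  · exact chk_tab74
  · exact chk_tab75
  · exact chk_tab76
  · exact chk_tab77
  · exact chk_tab78
  · exact chk_tab79
  · exact chk_tab80
  · exact chk_tab81
  · exact chk_tab82
  · exact chk_tab83
  · exact chk_tab84
  · exact chk_tab85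
  · exact chk_tab86
  · exact chk_tab87
  · exact chk_tab88
  · exact chk_tab89
  · exact chk_tab90
  · exact chk_tab91
  · exact chk_tab92
  · exact chk_tab93
  · exact chk_tab94
  · exact chk_tab95
  · exact chk_tab96
  · exact chk_tab97
  · exact chk_tab98
  · exact chk_tab99
  · exact chk_tab100
  · exact chk_tab101
  · exact chk_tab102
  · exact chk_tab103
  · exact chk_tab104
  · exact chk_tab105
  · exact chk_tab106
  · exact chk_tab107
  · exact chk_tab108
  · exact chk_tab109
  · exact chk_tab110
  · exact chk_tab111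
  · exact chk_tab112
  · exact chk_tab113
  · exact chk_tab114
  · exact chk_tab115
  · exact chk_tab116
  · exact chk_tab117
  · exact chk_tab118
  · exact chk_tab119
  · exact chk_tab120
  · exact chk_tab121
  · exact chk_tab122
  · exact chk_tab123
  · exact chk_tab124
  · exact chk_tab125
  · exact chk_tab126
  · exact chk_tab127
  · exact chk_tab128
  · exact chk_tab129
  · exact chk_tab130
  · exact chk_tab131
  · exact chk_tab132
  · exact chk_tab133
  · exact chk_tab134
  · exact chk_tab135
  · exact chk_tab136
  · exact chk_tab137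
  · exact chk_tab138
  · exact chk_tab139
  · exact chk_tab140
  · exact chk_tab141
  · exact chk_tab142
  · exact chk_tab143
  · exact chk_tab144
  · exact chk_tab145
  · exact chk_tab146
  · exact chk_tab147
  · exact chk_tab148
  · exact chk_tab149
  · exact chk_tab150
  · exact chk_tab151
  · exact chk_tab152
  · exact chk_tab153

theorem chk_tree : tab.treeOK = true := by
  refine tab.treeOK_of_chunks 2000 154 (by norm_num) (by show 306936 ≤ 154 * 2000; norm_num) ?_
  intro k hk
  interval_cases k
  · exact chk_tree0
  · exact chk_tree1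
  · exact chk_tree2
  · exact chk_tree3
  · exact chk_tree4
  · exact chk_tree5
  · exact chk_tree6
  · exact chk_tree7
  · exact chk_tree8
  · exact chk_tree9
  · exact chk_tree10
  · exact chk_tree11
  · exact chk_tree12
  · exact chk_tree13
  · exact chk_tree14
  · exact chk_tree15
  · exact chk_tree16
  · exact chk_tree17
  · exact chk_tree18
  · exact chk_tree19
  · exact chk_tree20
  · exact chk_tree21
  · exact chk_tree22
  · exact chk_tree23
  · exact chk_tree24
  · exact chk_tree25
  · exact chk_tree26
  · exact chk_tree27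
  · exact chk_tree28
  · exact chk_tree29
  · exact chk_tree30
  · exact chk_tree31
  · exact chk_tree32
  · exact chk_tree33
  · exact chk_tree34
  · exact chk_tree35
  · exact chk_tree36
  · exact chk_tree37
  · exact chk_tree38
  · exact chk_tree39
  · exact chk_tree40
  · exact chk_tree41
  · exact chk_tree42
  · exact chk_tree43
  · exact chk_tree44
  · exact chk_tree45
  · exact chk_tree46
  · exact chk_tree47
  · exact chk_tree48
  · exact chk_tree49
  · exact chk_tree50
  · exact chk_tree51
  · exact chk_tree52
  · exact chk_tree53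
  · exact chk_tree54
  · exact chk_tree55
  · exact chk_tree56
  · exact chk_tree57
  · exact chk_tree58
  · exact chk_tree59
  · exact chk_tree60
  · exact chk_tree61
  · exact chk_tree62
  · exact chk_tree63
  · exact chk_tree64
  · exact chk_tree65
  · exact chk_tree66
  · exact chk_tree67
  · exact chk_tree68
  · exact chk_tree69
  · exact chk_tree70
  · exact chk_tree71
  · exact chk_tree72
  · exact chk_tree73
  · exact chk_tree74
  · exact chk_tree75
  · exact chk_tree76
  · exact chk_tree77
  · exact chk_tree78
  · exact chk_tree79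
  · exact chk_tree80
  · exact chk_tree81
  · exact chk_tree82
  · exact chk_tree83
  · exact chk_tree84
  · exact chk_tree85
  · exact chk_tree86
  · exact chk_tree87
  · exact chk_tree88
  · exact chk_tree89
  · exact chk_tree90
  · exact chk_tree91
  · exact chk_tree92
  · exact chk_tree93
  · exact chk_tree94
  · exact chk_tree95
  · exact chk_tree96
  · exact chk_tree97
  · exact chk_tree98
  · exact chk_tree99
  · exact chk_tree100
  · exact chk_tree101
  · exact chk_tree102
  · exact chk_tree103
  · exact chk_tree104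
  · exact chk_tree105
  · exact chk_tree106
  · exact chk_tree107
  · exact chk_tree108
  · exact chk_tree109
  · exact chk_tree110
  · exact chk_tree111
  · exact chk_tree112
  · exact chk_tree113
  · exact chk_tree114
  · exact chk_tree115
  · exact chk_tree116
  · exact chk_tree117
  · exact chk_tree118
  · exact chk_tree119
  · exact chk_tree120
  · exact chk_tree121
  · exact chk_tree122
  · exact chk_tree123
  · exact chk_tree124
  · exact chk_tree125
  · exact chk_tree126
  · exact chk_tree127
  · exact chk_tree128
  · exact chk_tree129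
  · exact chk_tree130
  · exact chk_tree131
  · exact chk_tree132
  · exact chk_tree133
  · exact chk_tree134
  · exact chk_tree135
  · exact chk_tree136
  · exact chk_tree137
  · exact chk_tree138
  · exact chk_tree139
  · exact chk_tree140
  · exact chk_tree141
  · exact chk_tree142
  · exact chk_tree143
  · exact chk_tree144
  · exact chk_tree145
  · exact chk_tree146
  · exact chk_tree147
  · exact chk_tree148
  · exact chk_tree149
  · exact chk_tree150
  · exact chk_tree151
  · exact chk_tree152
  · exact chk_tree153

theorem extraWords_eq : (extraPow.map fun p => (List.replicate p.2 p.1).flatten) = extraWords := by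
  decide +kernel

theorem pows_eq : coxPairs Fi24.edges gen tab.g ++ extraPow = allPow := by
  decide +kernel

theorem chk_pows : tab.minsOK (coxPairs Fi24.edges gen tab.g ++ extraPow) = true := by
  rw [pows_eq]
  simp only [allPow, Tab.minsOK_cons, Tab.minsOK_nil, Bool.and_eq_true, and_true]
  exact ⟨chk_pow0, chk_pow1, chk_pow2, chk_pow3, chk_pow4, chk_pow5, chk_pow6, chk_pow7, chk_pow8, chk_pow9, chk_pow10, chk_pow11, chk_pow12, chk_pow13, chk_pow14, chk_pow15, chk_pow16, chk_pow17, chk_pow18, chk_pow19, chk_pow20, chk_pow21, chk_pow22, chk_pow23, chk_pow24, chk_pow25, chk_pow26, chk_pow27, chk_pow28, chk_pow29, chk_pow30, chk_pow31, chk_pow32, chk_pow33, chk_pow34, chk_pow35, chk_pow36, chk_pow37, chk_pow38, chk_pow39, chk_pow40, chk_pow41, chk_pow42, chk_pow43, chk_pow44, chk_pow45, chk_pow46, chk_pow47, chk_pow48, chk_pow49, chk_pow50, chk_pow51, chk_pow52, chk_pow53, chk_pow54, chk_pow55, chk_pow56, chk_pow57, chk_pow58, chk_pow59, chk_pow60, chk_pow61, chk_pow62, chk_pow63, chk_pow64, chk_pow65, chk_pow66, chk_pow67⟩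

theorem chk_rels : tab.relsOK (coxWordsL Fi24.edges gen cfg.g ++ extraWords) = true := by
  rw [← extraWords_eq]
  exact Tab.relsOK_of_minsOK chk_tab Fi24.edges gen extraPow chk_pows

theorem chk_sub : subOK cfg tab subW = true := by decide +kernel

end Cfsg.Agent.Lib.Helper6.Fi24TC
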