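import Cfsg.Agent.Lib.Helper6.Fi24YSpider
import Cfsg.Agent.Lib.Helper6.Fi24TC
import Cfsg.Agent.Lib.Helper6.Fi23Simple
import Cfsg.Agent.Lib.Helper6.SimpWPC
import Cfsg.Agent.Lib.Helper6.T3Gen

/-! # The presented Fischer group Fi24: the subgroup of index 306936 is an extension of a group of
order two by the presented group Fi23, and the order of Fi24

The subgroup `H` generated by `a, …, j` (which contains `l`) modulo the central subgroup generated
by `l` satisfies the relators of the presented group Fi23 (the spider relation holds in Fi24, and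
`(a b c d e f h)^9 = l`). The presented group Fi23 being simple of order 4089470473293004800,
`H` has order twice as much, and Fi24 has order `306936 * 2 * 4089470473293004800`. The action on
the 306936 cosets is faithful. -/

set_option autoImplicit false
set_option maxRecDepth 100000

noncomputable section

namespace Cfsg.Agent.Lib.Helper6.Fi24H

open Cfsg.Spor Cfsg.Agent.Lib.Helper6.TC Cfsg.Agent.Lib.Helper6.Simp
  Cfsg.Agent.Lib.Helper6.SimpWPC

/-! ### general lemmas -/

/-- the elements of the subgroup generated by an involution -/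
theorem mem_zpowers_of_mul_self {G : Type*} [Group G] {l x : G} (hl : l * l = 1) :
    x ∈ Subgroup.zpowers l ↔ x = 1 ∨ x = l := by
  constructor
  · rintro ⟨k, rfl⟩
    have h2 : l ^ (2 : ℤ) = 1 := by
      rw [zpow_ofNat, pow_two, hl]
    have hk : k = 2 * (k / 2) + k % 2 := (Int.mul_ediv_add_emod k 2).symm
    have e : l ^ k = l ^ (k % 2) := by
      conv_lhs => rw [hk]
      rw [zpow_add, zpow_mul, h2, one_zpow, one_mul]
    rcases Int.emod_two_eq_zero_or_one k with h | h
    · left
      show l ^ k = 1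
      rw [e, h, zpow_zero]
    · right
      show l ^ k = l
      rw [e, h, zpow_one]
  · rintro (rfl | rfl)
    · exact Subgroup.one_mem _
    · exact Subgroup.mem_zpowers _

/-- the subgroup generated by an involution has at most two elements -/
theorem card_zpowers_le_two {G : Type*} [Group G] {l : G} (hl : l * l = 1) :
    Nat.card (Subgroup.zpowers l) ≤ 2 := by
  rw [Nat.card_zpowers]
  apply Nat.le_of_dvd (by norm_num)
  apply orderOf_dvd_of_pow_eq_one
  rw [pow_two, hl]

/-- the subgroup generated by a non-trivial involution has two elements -/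
theorem card_zpowers_eq_two {G : Type*} [Group G] {l : G} (hl : l * l = 1) (h1 : l ≠ 1) :
    Nat.card (Subgroup.zpowers l) = 2 := by
  rw [Nat.card_zpowers]
  exact orderOf_eq_prime (by rw [pow_two, hl]) h1

/-! ### the generators -/

/-- the inclusion of the generators of Fi23 -/
def j : Fi23.Gen → Fi24.Gen
  | .a => .a
  | .b => .b
  | .c => .c
  | .d => .d
  | .e => .e
  | .f => .f
  | .g => .g
  | .j => .j
  | .h => .h
  | .i => .i

/-- the images of the generators of Fi23 -/
def gx (x : Fi23.Gen) : Fi24 := PresentedGroup.of (j x)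

/-- the generator `l` -/
def lG : Fi24 := PresentedGroup.of Fi24.Gen.l

/-- the Coxeter relators of Fi23 hold in Fi24 -/
def subC : SubPres Fi24.edges Fi24.extra Fi23.edges [] where
  ι := j
  hnode := by decide
  hlabel := by decide
  hextra := by
    intro r hr
    simp at hr

theorem of_mul_self24 (x : Fi24.Gen) :
    (PresentedGroup.of x : Fi24) * PresentedGroup.of x = 1 :=
  SimpWPC.of_mul_self Fi24TC.data x

theorem lG_mul_self : lG * lG = 1 := of_mul_self24 _

theorem gx_mul_self (x : Fi23.Gen) : gx x * gx x = 1 := of_mul_self24 _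

/-- the generator `l` commutes with the generators `a, …, j` -/
theorem lG_comm (x : Fi23.Gen) : lG * gx x = gx x * lG := by
  have hm : (FreeGroup.of Fi24.Gen.l * FreeGroup.of (j x)) ^ coxLabel Fi24.edges Fi24.Gen.l (j x) ∈
      coxRelators Fi24.edges ∪ {r | r ∈ Fi24.extra} :=
    Or.inl ⟨Fi24.Gen.l, Fi24TC.data.hnode _, j x, Fi24TC.data.hnode _, rfl⟩
  have h1 := PresentedGroup.one_of_mem hm
  have e : coxLabel Fi24.edges Fi24.Gen.l (j x) = 2 := by
    cases x <;> decide
  rw [e, map_pow, map_mul] at h1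
  have h2 : (lG * gx x) * (lG * gx x) = 1 := by
    rw [← pow_two]
    exact h1
  have h3 : lG * gx x = (lG * gx x)⁻¹ := eq_inv_of_mul_eq_one_left h2
  rw [h3, mul_inv_rev]
  congr 1
  · exact inv_eq_of_mul_eq_one_left (gx_mul_self x)
  · exact inv_eq_of_mul_eq_one_left lG_mul_self

/-- the homomorphism of the free group -/
def φ : FreeGroup Fi23.Gen →* Fi24 := FreeGroup.lift gx

theorem φ_of (x : Fi23.Gen) : φ (FreeGroup.of x) = gx x := FreeGroup.lift_apply_of

/-- the Coxeter relators are trivial in Fi24 -/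
theorem φ_cox (r : FreeGroup Fi23.Gen) (hr : r ∈ coxRelators Fi23.edges) : φ r = 1 := by
  have h1 := subC.map_mem r (Or.inl hr)
  have h2 := SubPres.lift_of_comp (coxRelators Fi24.edges ∪ {r | r ∈ Fi24.extra}) j r
  show FreeGroup.lift gx r = 1
  have h3 : (fun z => (PresentedGroup.of (j z) : PresentedGroup
      (coxRelators Fi24.edges ∪ {r | r ∈ Fi24.extra}))) = gx := rfl
  rw [h3] at h2
  rw [h2]
  exact PresentedGroup.one_of_mem h1

/-- the spider relator is trivial in Fi24 -/
theorem φ_spider : φ ((Fi23.d * Fi23.c * Fi23.b * Fi23.d * Fi23.e * Fi23.f * Fi23.d * Fi23.h *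
    Fi23.i) ^ 10) = 1 := by
  rw [map_pow]
  simp only [map_mul, φ_of]
  exact Fi24YSpider.spider_Fi24

/-- the second relator is mapped to `l` -/
theorem φ_e7 : φ ((Fi23.a * Fi23.b * Fi23.c * Fi23.d * Fi23.e * Fi23.f * Fi23.h) ^ 9) = lG := by
  rw [map_pow]
  simp only [map_mul, φ_of]
  have hm : Fi24.l * (((Fi24.a * Fi24.b * Fi24.c * Fi24.d * Fi24.e * Fi24.f * Fi24.h) ^ 9)⁻¹) ∈
      coxRelators Fi24.edges ∪ {r | r ∈ Fi24.extra} := by
    right
    show _ ∈ Fi24.extra
    simp [Fi24.extra]
  have h1 := PresentedGroup.one_of_mem hm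
  rw [map_mul, map_inv, map_pow] at h1
  simp only [map_mul] at h1
  have h2 := eq_of_mul_inv_eq_one h1
  exact h2.symm

/-- every relator of Fi23 is mapped into the subgroup generated by `l` -/
theorem φ_rel (r : FreeGroup Fi23.Gen) (hr : r ∈ coxRelators Fi23.edges ∪ {r | r ∈ Fi23.extra}) :
    φ r ∈ Subgroup.zpowers lG := by
  rcases hr with hr | hr
  · rw [φ_cox r hr]
    exact Subgroup.one_mem _
  · have hr' : r ∈ Fi23.extra := hr
    simp only [Fi23.extra, List.mem_cons, List.not_mem_nil, or_false] at hr'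
    rcases hr' with rfl | rfl
    · rw [φ_spider]
      exact Subgroup.one_mem _
    · rw [φ_e7]
      exact Subgroup.mem_zpowers _

/-! ### the subgroup `H` -/

/-- the subgroup generated by `a, …, j` -/
abbrev H0 : Subgroup Fi24 := φ.range

theorem gx_mem (x : Fi23.Gen) : gx x ∈ H0 := ⟨FreeGroup.of x, φ_of x⟩

theorem lG_mem : lG ∈ H0 := ⟨_, φ_e7⟩

/-- `l` is central in `H` -/
theorem lG_central : ∀ h ∈ H0, lG * h = h * lG := by
  rintro _ ⟨w, rfl⟩
  induction w using FreeGroup.induction_on with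
  | C1 => simp
  | of x => rw [φ_of]; exact lG_comm x
  | inv_of x hx =>
    rw [map_inv]
    have := hx
    calc lG * (φ (FreeGroup.of x))⁻¹
        = (φ (FreeGroup.of x))⁻¹ * (φ (FreeGroup.of x) * lG) * (φ (FreeGroup.of x))⁻¹ := by group
      _ = (φ (FreeGroup.of x))⁻¹ * (lG * φ (FreeGroup.of x)) * (φ (FreeGroup.of x))⁻¹ := by rw [this]
      _ = (φ (FreeGroup.of x))⁻¹ * lG := by group
  | mul x y hx hy =>
    rw [map_mul, ← mul_assoc, hx, mul_assoc, hy, mul_assoc]

/-- the subgroup of `H` generated by `l` -/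
def Z : Subgroup H0 := (Subgroup.zpowers lG).subgroupOf H0

theorem mem_Z {h : H0} : h ∈ Z ↔ (h : Fi24) = 1 ∨ (h : Fi24) = lG := by
  rw [Z, Subgroup.mem_subgroupOf, mem_zpowers_of_mul_self lG_mul_self]

instance Z_normal : Z.Normal := by
  refine ⟨fun n hn g => ?_⟩
  rw [mem_Z] at hn ⊢
  rcases hn with h | h
  · left
    rw [Subgroup.coe_mul, Subgroup.coe_mul, h, mul_one, Subgroup.coe_inv, mul_inv_cancel]
  · right
    rw [Subgroup.coe_mul, Subgroup.coe_mul, h, Subgroup.coe_inv, ← lG_central _ g.2, mul_assoc,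
      mul_inv_cancel, mul_one]

theorem card_Z_le : Nat.card Z ≤ 2 := by
  have h : Subgroup.zpowers lG ≤ H0 := by
    rw [Subgroup.zpowers_le]
    exact lG_mem
  rw [Z, Nat.card_congr (Subgroup.subgroupOfEquivOfLe h).toEquiv]
  exact card_zpowers_le_two lG_mul_self

/-- the homomorphism of the free group to the quotient -/
def Ψ0 : FreeGroup Fi23.Gen →* H0 ⧸ Z := (QuotientGroup.mk' Z).comp φ.rangeRestrict

theorem Ψ0_rel (r : FreeGroup Fi23.Gen)
    (hr : r ∈ coxRelators Fi23.edges ∪ {r | r ∈ Fi23.extra}) : Ψ0 r = 1 := by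
  show (QuotientGroup.mk' Z) (φ.rangeRestrict r) = 1
  rw [QuotientGroup.mk'_apply, QuotientGroup.eq_one_iff, Z, Subgroup.mem_subgroupOf]
  exact φ_rel r hr

/-- **the homomorphism** from the presented group Fi23 -/
def ψ : Fi23 →* H0 ⧸ Z :=
  QuotientGroup.lift _ Ψ0 (by
    intro x hx
    have hle : Subgroup.normalClosure (coxRelators Fi23.edges ∪ {r | r ∈ Fi23.extra}) ≤ Ψ0.ker :=
      Subgroup.normalClosure_le_normal (fun r hr => MonoidHom.mem_ker.2 (Ψ0_rel r hr))
    exact MonoidHom.mem_ker.1 (hle hx))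

theorem ψ_mk (w : FreeGroup Fi23.Gen) : ψ (PresentedGroup.mk _ w) = Ψ0 w := rfl

theorem ψ_surj : Function.Surjective ψ := by
  intro q
  obtain ⟨h, rfl⟩ := QuotientGroup.mk'_surjective Z q
  obtain ⟨w, hw⟩ := φ.rangeRestrict_surjective h
  exact ⟨PresentedGroup.mk _ w, by rw [ψ_mk]; show (QuotientGroup.mk' Z) (φ.rangeRestrict w) = _; rw [hw]⟩

instance finiteFi23 : Finite Fi23 := Fi23UB.ub.1

instance finiteQ : Finite (H0 ⧸ Z) := Finite.of_surjective ψ ψ_surj

theorem card_Q_le : Nat.card (H0 ⧸ Z) ≤ 4089470473293004800 := by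
  rw [← Fi23Simple.main.2]
  exact Nat.card_le_card_of_surjective ψ ψ_surj

/-! ### the action on the cosets separates `1`, `l` and `a` -/

/-- the action on the 306936 cosets -/
abbrev ρ : Fi24 →* Equiv.Perm (Fin 306936) := Fi24TC.data.cert.ρ

theorem lG_eq : lG = Simp.wordG Fi24TC.data [0] := by
  unfold Simp.wordG
  rw [List.map_cons, List.map_nil, List.prod_cons, List.prod_nil, mul_one]
  rfl

theorem gxa_eq : gx Fi23.Gen.a = Simp.wordG Fi24TC.data [2] := by
  unfold Simp.wordG
  rw [List.map_cons, List.map_nil, List.prod_cons, List.prod_nil, mul_one]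
  rfl

theorem ρ_lG_one : (ρ lG ⟨1, by norm_num⟩).val = 2 := by
  rw [lG_eq]
  have h := ρ_wordG_apply Fi24TC.data (w := [0]) (by show ∀ x ∈ [0], x < 12; decide) 1
    (by show 1 < 306936; norm_num)
  refine h.trans ?_
  show Fi24TC.tab.trace 1 [0] = 2
  decide +kernel

theorem ρ_gxa_one : (ρ (gx Fi23.Gen.a) ⟨1, by norm_num⟩).val = 3 := by
  rw [gxa_eq]
  have h := ρ_wordG_apply Fi24TC.data (w := [2]) (by show ∀ x ∈ [2], x < 12; decide) 1
    (by show 1 < 306936; norm_num)
  refine h.trans ?_
  show Fi24TC.tab.trace 1 [2] = 3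
  decide +kernel

theorem ρ_lG_ne_one : ρ lG ≠ 1 := by
  intro h
  have h1 := ρ_lG_one
  rw [h] at h1
  simp at h1

theorem lG_ne_one : lG ≠ 1 := by
  intro h
  apply ρ_lG_ne_one
  rw [h, map_one]

theorem ρ_gxa_ne_one : ρ (gx Fi23.Gen.a) ≠ 1 := by
  intro h
  have h1 := ρ_gxa_one
  rw [h] at h1
  simp at h1

theorem ρ_gxa_ne_lG : ρ (gx Fi23.Gen.a) ≠ ρ lG := by
  intro h
  have h1 := ρ_gxa_one
  rw [h, ρ_lG_one] at h1
  simp at h1

/-! ### the orders -/

theorem ψ_inj : Function.Injective ψ := by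
  have : IsSimpleGroup Fi23 := Fi23Simple.main.1
  refine T3Gen.injective_of_simple ψ (x := PresentedGroup.of Fi23.Gen.a) ?_
  intro h
  have h1 : ψ (PresentedGroup.of Fi23.Gen.a) = Ψ0 (FreeGroup.of Fi23.Gen.a) := rfl
  rw [h1] at h
  have h2 : φ.rangeRestrict (FreeGroup.of Fi23.Gen.a) ∈ Z := by
    rw [← QuotientGroup.eq_one_iff]
    exact h
  rw [mem_Z] at h2
  have h3 : ((φ.rangeRestrict (FreeGroup.of Fi23.Gen.a) : H0) : Fi24) = gx Fi23.Gen.a := φ_of _
  rw [h3] at h2
  rcases h2 with h2 | h2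
  · apply ρ_gxa_ne_one
    rw [h2, map_one]
  · apply ρ_gxa_ne_lG
    rw [h2]

/-- the quotient of `H` by the subgroup generated by `l` is isomorphic to the presented Fi23 -/
def ψEquiv : Fi23 ≃* H0 ⧸ Z := MulEquiv.ofBijective ψ ⟨ψ_inj, ψ_surj⟩

theorem card_Q : Nat.card (H0 ⧸ Z) = 4089470473293004800 := by
  rw [← Fi23Simple.main.2]
  exact (Nat.card_congr ψEquiv.toEquiv).symm

theorem card_Z : Nat.card Z = 2 := by
  have h : Subgroup.zpowers lG ≤ H0 := by
    rw [Subgroup.zpowers_le]
    exact lG_mem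
  rw [Z, Nat.card_congr (Subgroup.subgroupOfEquivOfLe h).toEquiv]
  exact card_zpowers_eq_two lG_mul_self lG_ne_one

theorem card_H0 : Nat.card H0 = 8178940946586009600 := by
  rw [Subgroup.card_eq_card_quotient_mul_card_subgroup Z, card_Q, card_Z]

instance finiteZ : Finite Z := Nat.finite_of_card_ne_zero (by rw [card_Z]; norm_num)

instance finiteH0 : Finite H0 := Nat.finite_of_card_ne_zero (by rw [card_H0]; norm_num)

/-- the subgroup of the enumeration is the subgroup generated by `a, …, j` -/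
theorem H_eq : Fi24TC.data.cert.H = H0 := by
  apply le_antisymm
  · show (Subgroup.closure Fi24TC.S).map _ ≤ H0
    rw [Subgroup.map_le_iff_le_comap, Subgroup.closure_le]
    intro s hs
    simp only [Fi24TC.S, Set.mem_insert_iff, Set.mem_singleton_iff] at hs
    rcases hs with rfl | rfl | rfl | rfl | rfl | rfl | rfl | rfl | rfl | rfl | rfl
    · exact gx_mem .a
    · exact gx_mem .b
    · exact gx_mem .c
    · exact gx_mem .d
    · exact gx_mem .e
    · exact gx_mem .f
    · exact gx_mem .g
    · exact gx_mem .h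
    · exact gx_mem .i
    · exact gx_mem .j
    · exact lG_mem
  · rintro _ ⟨w, rfl⟩
    induction w using FreeGroup.induction_on with
    | C1 => simp
    | of x =>
      rw [φ_of]
      show _ ∈ (Subgroup.closure Fi24TC.S).map _
      refine ⟨FreeGroup.of (j x), Subgroup.subset_closure ?_, rfl⟩
      cases x <;> simp [Fi24TC.S, j]
    | inv_of x hx =>
      rw [map_inv]
      exact Subgroup.inv_mem _ hx
    | mul x y hx hy =>
      rw [map_mul]
      exact Subgroup.mul_mem _ hx hy

theorem index_H0 : H0.index = 306936 := by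
  rw [← H_eq]
  exact Fi24TC.data.cert.index_eq

/-- **the order of the presented group Fi24** -/
theorem card_Fi24 : Nat.card Fi24 = 2510411418381323442585600 := by
  rw [← Subgroup.card_mul_index H0, card_H0, index_H0]

instance finiteFi24 : Finite Fi24 := Nat.finite_of_card_ne_zero (by rw [card_Fi24]; norm_num)

/-! ### the action on the cosets is faithful -/

theorem isSimple_Q : IsSimpleGroup (H0 ⧸ Z) := by
  have : IsSimpleGroup Fi23 := Fi23Simple.main.1
  exact ψEquiv.symm.isSimpleGroup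

theorem ker_le_H0 : ρ.ker ≤ H0 := by
  rw [← H_eq, eq_stab (ρ := Fi24TC.data.cert.ρ) Fi24TC.data.cert.trans Fi24TC.data.cert.fix
    Fi24TC.data.cert.index_eq Fi24TC.data.cert.hTn]
  intro x hx
  rw [mem_stab]
  have h1 : Fi24TC.data.cert.ρ x = 1 := MonoidHom.mem_ker.1 hx
  rw [h1]
  rfl

theorem ρ_inj : Function.Injective ρ := by
  rw [← MonoidHom.ker_eq_bot_iff]
  have hs := isSimple_Q
  set M : Subgroup H0 := ρ.ker.subgroupOf H0 with hM
  have hMn : M.Normal := Subgroup.Normal.subgroupOf inferInstance H0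
  have hMn' : (M.map (QuotientGroup.mk' Z)).Normal :=
    Subgroup.Normal.map hMn _ (QuotientGroup.mk'_surjective Z)
  rcases hs.eq_bot_or_eq_top_of_normal _ hMn' with h | h
  · -- the kernel lies in the subgroup generated by `l`
    rw [Subgroup.eq_bot_iff_forall]
    intro x hx
    have hxH : x ∈ H0 := ker_le_H0 hx
    have h1 : (QuotientGroup.mk' Z) ⟨x, hxH⟩ ∈ M.map (QuotientGroup.mk' Z) :=
      Subgroup.mem_map_of_mem _ (by rw [hM, Subgroup.mem_subgroupOf]; exact hx)
    rw [h, Subgroup.mem_bot, QuotientGroup.mk'_apply, QuotientGroup.eq_one_iff, mem_Z] at h1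
    rcases h1 with h1 | h1
    · exact h1
    · exfalso
      apply ρ_lG_ne_one
      have h2 : x = lG := h1
      rw [← h2]
      exact MonoidHom.mem_ker.1 hx
  · -- impossible: `a` would act as `1` or as `l`
    exfalso
    have h1 : (QuotientGroup.mk' Z) ⟨gx Fi23.Gen.a, gx_mem _⟩ ∈ M.map (QuotientGroup.mk' Z) := by
      rw [h]
      exact Subgroup.mem_top _
    obtain ⟨m, hm, hm2⟩ := h1
    rw [QuotientGroup.mk'_apply, QuotientGroup.mk'_apply, QuotientGroup.eq, mem_Z] at hm2
    have hm' : ρ (m : Fi24) = 1 := by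
      have hm1 : m ∈ ρ.ker.subgroupOf H0 := hm
      rw [Subgroup.mem_subgroupOf] at hm1
      exact MonoidHom.mem_ker.1 hm1
    rw [Subgroup.coe_mul, Subgroup.coe_inv] at hm2
    rcases hm2 with h2 | h2
    · apply ρ_gxa_ne_one
      have h3 := congrArg ρ h2
      rw [map_mul, map_inv, hm', inv_one, one_mul, map_one] at h3
      exact h3
    · apply ρ_gxa_ne_lG
      have h3 := congrArg ρ h2
      rw [map_mul, map_inv, hm', inv_one, one_mul] at h3
      exact h3

end Cfsg.Agent.Lib.Helper6.Fi24H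

end
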