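import Cfsg.Agent.Lib.Helper6.Fi24SE0
import Cfsg.Agent.Lib.Helper6.Fi24SE1
import Cfsg.Agent.Lib.Helper6.Fi24SE2
import Cfsg.Agent.Lib.Helper6.Fi24SE3
import Cfsg.Agent.Lib.Helper6.Fi24SE4
import Cfsg.Agent.Lib.Helper6.Fi24SE5
import Cfsg.Agent.Lib.Helper6.Fi24SE6
import Cfsg.Agent.Lib.Helper6.Fi24SE7

/-! # Coset enumeration data for Fi24: the entries of the table with their times (generated) -/

set_option autoImplicit false
set_option maxRecDepth 1000000
set_option maxHeartbeats 40000000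

namespace Cfsg.Agent.Lib.Helper6.Fi24TC

open Cfsg.Agent.Lib.Helper6.TC Cfsg.Agent.Lib.Helper6.TCS

/-- the entries of the table with their times -/
noncomputable def arrE : BT :=
  (.node (.node (.node arrE_0 arrE_1) (.node arrE_2 arrE_3)) (.node (.node arrE_4 arrE_5) (.node arrE_6 arrE_7)))

end Cfsg.Agent.Lib.Helper6.Fi24TC
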