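import Cfsg.Agent.Lib.Helper6.Fi24SJ0
import Cfsg.Agent.Lib.Helper6.Fi24SJ1
import Cfsg.Agent.Lib.Helper6.Fi24SJ2
import Cfsg.Agent.Lib.Helper6.Fi24SJ3
import Cfsg.Agent.Lib.Helper6.Fi24SJ4
import Cfsg.Agent.Lib.Helper6.Fi24SJ5
import Cfsg.Agent.Lib.Helper6.Fi24SJ6
import Cfsg.Agent.Lib.Helper6.Fi24SJ7

/-! # Coset enumeration data for Fi24: the reasons for the entries of the table (generated) -/

set_option autoImplicit false
set_option maxRecDepth 1000000
set_option maxHeartbeats 40000000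

namespace Cfsg.Agent.Lib.Helper6.Fi24TC

open Cfsg.Agent.Lib.Helper6.TC Cfsg.Agent.Lib.Helper6.TCS

/-- the reasons for the entries of the table -/
noncomputable def arrJ : BT :=
  (.node (.node (.node arrJ_0 arrJ_1) (.node arrJ_2 arrJ_3)) (.node (.node arrJ_4 arrJ_5) (.node arrJ_6 arrJ_7)))

end Cfsg.Agent.Lib.Helper6.Fi24TC
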