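import Cfsg.Agent.Lib.Helper6.Fi24TCData
import Cfsg.Agent.Lib.Helper6.Fi24SE
import Cfsg.Agent.Lib.Helper6.Fi24SJ
import Cfsg.Agent.Lib.Helper6.Fi24SM

/-! # Fi24: the table with a proof for every entry -/

set_option autoImplicit false

namespace Cfsg.Agent.Lib.Helper6.Fi24TC

open Cfsg.Agent.Lib.Helper6.TC Cfsg.Agent.Lib.Helper6.TCS

/-- the table with a proof for every entry -/
noncomputable def cert : SCert := ⟨cfg, 23, 354060, arrE, arrM, arrJ, arrJM, arrP⟩

end Cfsg.Agent.Lib.Helper6.Fi24TC
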