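import Cfsg.Agent.Lib.Helper6.Fi24SimpO0B

/-! # Fi24: orbit 0 of the subgroup on the rows: the number of rows (generated) -/

set_option autoImplicit false
set_option maxRecDepth 1000000
set_option maxHeartbeats 4000000

namespace Cfsg.Agent.Lib.Helper6.Fi24Simp

open Cfsg.Agent.Lib.Helper6.TC Cfsg.Agent.Lib.Helper6.Simp Cfsg.Agent.Lib.Helper6.SimpG Cfsg.Agent.Lib.Helper6.NatArr Cfsg.Agent.Lib.Helper6.Fi24TC

theorem orb0_cnt0 : cnt (Nat.shiftRight orb0_B 0) 20000 = 14987 := by decide +kernel

theorem orb0_cnt1 : cnt (Nat.shiftRight orb0_B 20000) 20000 = 16448 := by decide +kernel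

theorem orb0_cnt2 : cnt (Nat.shiftRight orb0_B 40000) 20000 = 16596 := by decide +kernel

theorem orb0_cnt3 : cnt (Nat.shiftRight orb0_B 60000) 20000 = 17972 := by decide +kernel

theorem orb0_cnt4 : cnt (Nat.shiftRight orb0_B 80000) 20000 = 17546 := by decide +kernel

theorem orb0_cnt5 : cnt (Nat.shiftRight orb0_B 100000) 20000 = 18005 := by decide +kernel

theorem orb0_cnt6 : cnt (Nat.shiftRight orb0_B 120000) 20000 = 18216 := by decide +kernel

theorem orb0_cnt7 : cnt (Nat.shiftRight orb0_B 140000) 20000 = 18412 := by decide +kernel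

theorem orb0_cnt8 : cnt (Nat.shiftRight orb0_B 160000) 20000 = 18786 := by decide +kernel

theorem orb0_cnt9 : cnt (Nat.shiftRight orb0_B 180000) 20000 = 18736 := by decide +kernel

theorem orb0_cnt10 : cnt (Nat.shiftRight orb0_B 200000) 20000 = 19815 := by decide +kernel

theorem orb0_cnt11 : cnt (Nat.shiftRight orb0_B 220000) 20000 = 18824 := by decide +kernel

theorem orb0_cnt12 : cnt (Nat.shiftRight orb0_B 240000) 20000 = 18813 := by decide +kernel

theorem orb0_cnt13 : cnt (Nat.shiftRight orb0_B 260000) 20000 = 18815 := by decide +kernel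

theorem orb0_cnt14 : cnt (Nat.shiftRight orb0_B 280000) 20000 = 18138 := by decide +kernel

theorem orb0_cnt15 : cnt (Nat.shiftRight orb0_B 300000) 6936 = 5155 := by decide +kernel

end Cfsg.Agent.Lib.Helper6.Fi24Simp
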