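import Cfsg.Agent.Lib.Helper6.Fi24SimpO0S0
import Cfsg.Agent.Lib.Helper6.Fi24SimpO0S1
import Cfsg.Agent.Lib.Helper6.Fi24SimpO0S2
import Cfsg.Agent.Lib.Helper6.Fi24SimpO0S3
import Cfsg.Agent.Lib.Helper6.Fi24SimpO0S4
import Cfsg.Agent.Lib.Helper6.Fi24SimpO0S5
import Cfsg.Agent.Lib.Helper6.Fi24SimpO0S6
import Cfsg.Agent.Lib.Helper6.Fi24SimpO0C

/-! # Fi24: orbit 0 of the subgroup on the rows, of length 275264 (generated) -/

set_option autoImplicit false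
set_option maxRecDepth 1000000
set_option maxHeartbeats 4000000

namespace Cfsg.Agent.Lib.Helper6.Fi24Simp

open Cfsg.Agent.Lib.Helper6.TC Cfsg.Agent.Lib.Helper6.Simp Cfsg.Agent.Lib.Helper6.SimpG Cfsg.Agent.Lib.Helper6.NatArr Cfsg.Agent.Lib.Helper6.Fi24TC

theorem orb0_run : RunsTo tab subW (bset 0 orb0_root) orb0_B := by
  rw [← orb0_B0_eq]
  exact RunsTo.step orb0_S49 orb0_I49 (RunsTo.step orb0_S48 orb0_I48 (RunsTo.step orb0_S47 orb0_I47 (RunsTo.step orb0_S46 orb0_I46 (RunsTo.step orb0_S45 orb0_I45 (RunsTo.step orb0_S44 orb0_I44 (RunsTo.step orb0_S43 orb0_I43 (RunsTo.step orb0_S42 orb0_I42 (RunsTo.step orb0_S41 orb0_I41 (RunsTo.step orb0_S40 orb0_I40 (RunsTo.step orb0_S39 orb0_I39 (RunsTo.step orb0_S38 orb0_I38 (RunsTo.step orb0_S37 orb0_I37 (RunsTo.step orb0_S36 orb0_I36 (RunsTo.step orb0_S35 orb0_I35 (RunsTo.step orb0_S34 orb0_I34 (RunsTo.step orb0_S33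 orb0_I33 (RunsTo.step orb0_S32 orb0_I32 (RunsTo.step orb0_S31 orb0_I31 (RunsTo.step orb0_S30 orb0_I30 (RunsTo.step orb0_S29 orb0_I29 (RunsTo.step orb0_S28 orb0_I28 (RunsTo.step orb0_S27 orb0_I27 (RunsTo.step orb0_S26 orb0_I26 (RunsTo.step orb0_S25 orb0_I25 (RunsTo.step orb0_S24 orb0_I24 (RunsTo.step orb0_S23 orb0_I23 (RunsTo.step orb0_S22 orb0_I22 (RunsTo.step orb0_S21 orb0_I21 (RunsTo.step orb0_S20 orb0_I20 (RunsTo.step orb0_S19 orb0_I19 (RunsTo.step orb0_S18 orb0_I18 (RunsTo.step orb0_S17 orb0_I17 (RunsTo.step orb0_S16 orb0_I16 (RunsTo.step orb0_S15 orb0_I15 (RunsTo.step orb0_S14 orb0_I14 (RunsTo.step orb0_S13 orb0_I13 (RunsTo.step orb0_S12 orb0_I12 (RunsTo.step orb0_S11 orb0_I11 (RunsTo.step orb0_S10 orb0_I10 (RunsTo.step orb0_S9 orb0_I9 (RunsTo.step orb0_S8 orb0_I8 (RunsTo.step orb0_S7 orb0_I7 (RunsTo.step orb0_S6 orb0_I6 (RunsTo.step orb0_S5 orb0_I5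 (RunsTo.step orb0_S4 orb0_I4 (RunsTo.step orb0_S3 orb0_I3 (RunsTo.step orb0_S2 orb0_I2 (RunsTo.step orb0_S1 orb0_I1 (RunsTo.refl _) orb0_seg1) orb0_seg2) orb0_seg3) orb0_seg4) orb0_seg5) orb0_seg6) orb0_seg7) orb0_seg8) orb0_seg9) orb0_seg10) orb0_seg11) orb0_seg12) orb0_seg13) orb0_seg14) orb0_seg15) orb0_seg16) orb0_seg17) orb0_seg18) orb0_seg19) orb0_seg20) orb0_seg21) orb0_seg22) orb0_seg23) orb0_seg24) orb0_seg25) orb0_seg26) orb0_seg27) orb0_seg28) orb0_seg29) orb0_seg30) orb0_seg31) orb0_seg32) orb0_seg33) orb0_seg34) orb0_seg35) orb0_seg36) orb0_seg37) orb0_seg38) orb0_seg39) orb0_seg40) orb0_seg41) orb0_seg42) orb0_seg43) orb0_seg44) orb0_seg45) orb0_seg46) orb0_seg47) orb0_seg48) orb0_seg49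

end Cfsg.Agent.Lib.Helper6.Fi24Simp
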