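import Cfsg.Agent.Lib.Helper6.Fi24SimpO1B

/-! # Fi24: orbit 1 of the subgroup on the rows: the number of rows (generated) -/

set_option autoImplicit false
set_option maxRecDepth 1000000
set_option maxHeartbeats 4000000

namespace Cfsg.Agent.Lib.Helper6.Fi24Simp

open Cfsg.Agent.Lib.Helper6.TC Cfsg.Agent.Lib.Helper6.Simp Cfsg.Agent.Lib.Helper6.SimpG Cfsg.Agent.Lib.Helper6.NatArr Cfsg.Agent.Lib.Helper6.Fi24TC

theorem orb1_cnt0 : cnt (Nat.shiftRight orb1_B 0) 20000 = 5012 := by decide +kernel

theorem orb1_cnt1 : cnt (Nat.shiftRight orb1_B 20000) 20000 = 3552 := by decide +kernel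

theorem orb1_cnt2 : cnt (Nat.shiftRight orb1_B 40000) 20000 = 3404 := by decide +kernel

theorem orb1_cnt3 : cnt (Nat.shiftRight orb1_B 60000) 20000 = 2028 := by decide +kernel

theorem orb1_cnt4 : cnt (Nat.shiftRight orb1_B 80000) 20000 = 2454 := by decide +kernel

theorem orb1_cnt5 : cnt (Nat.shiftRight orb1_B 100000) 20000 = 1995 := by decide +kernel

theorem orb1_cnt6 : cnt (Nat.shiftRight orb1_B 120000) 20000 = 1784 := by decide +kernel

theorem orb1_cnt7 : cnt (Nat.shiftRight orb1_B 140000) 20000 = 1588 := by decide +kernel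

theorem orb1_cnt8 : cnt (Nat.shiftRight orb1_B 160000) 20000 = 1214 := by decide +kernel

theorem orb1_cnt9 : cnt (Nat.shiftRight orb1_B 180000) 20000 = 1264 := by decide +kernel

theorem orb1_cnt10 : cnt (Nat.shiftRight orb1_B 200000) 20000 = 185 := by decide +kernel

theorem orb1_cnt11 : cnt (Nat.shiftRight orb1_B 220000) 20000 = 1176 := by decide +kernel

theorem orb1_cnt12 : cnt (Nat.shiftRight orb1_B 240000) 20000 = 1187 := by decide +kernel

theorem orb1_cnt13 : cnt (Nat.shiftRight orb1_B 260000) 20000 = 1185 := by decide +kernel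

theorem orb1_cnt14 : cnt (Nat.shiftRight orb1_B 280000) 20000 = 1862 := by decide +kernel

theorem orb1_cnt15 : cnt (Nat.shiftRight orb1_B 300000) 6936 = 1781 := by decide +kernel

end Cfsg.Agent.Lib.Helper6.Fi24Simp
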