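import Cfsg.Agent.Lib.Helper6.Fi24SimpO1S0
import Cfsg.Agent.Lib.Helper6.Fi24SimpO1C

/-! # Fi24: orbit 1 of the subgroup on the rows, of length 31671 (generated) -/

set_option autoImplicit false
set_option maxRecDepth 1000000
set_option maxHeartbeats 4000000

namespace Cfsg.Agent.Lib.Helper6.Fi24Simp

open Cfsg.Agent.Lib.Helper6.TC Cfsg.Agent.Lib.Helper6.Simp Cfsg.Agent.Lib.Helper6.SimpG Cfsg.Agent.Lib.Helper6.NatArr Cfsg.Agent.Lib.Helper6.Fi24TC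

theorem orb1_run : RunsTo tab subW (bset 0 orb1_root) orb1_B := by
  rw [← orb1_B0_eq]
  exact RunsTo.step orb1_S7 orb1_I7 (RunsTo.step orb1_S6 orb1_I6 (RunsTo.step orb1_S5 orb1_I5 (RunsTo.step orb1_S4 orb1_I4 (RunsTo.step orb1_S3 orb1_I3 (RunsTo.step orb1_S2 orb1_I2 (RunsTo.step orb1_S1 orb1_I1 (RunsTo.refl _) orb1_seg1) orb1_seg2) orb1_seg3) orb1_seg4) orb1_seg5) orb1_seg6) orb1_seg7

end Cfsg.Agent.Lib.Helper6.Fi24Simp
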