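import Cfsg.Agent.Lib.Helper6.SimpCO

/-! # Groups with a simple subgroup of index two, by a primitive action

A finite group with a faithful primitive action whose point stabilizer is a central extension of
a simple group by a group of order two generated by `l`: every non-trivial normal subgroup meets
every coset of the subgroup generated by `l`. A subgroup of index two which lies in every
non-trivial normal subgroup and whose order is not a square is simple. -/

set_option autoImplicit false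

noncomputable section

namespace Cfsg.Agent.Lib.Helper6.SimpIdx2

open Cfsg.Agent.Lib.Helper6.SimpCO Cfsg.Agent.Lib.Helper6

open scoped Pointwise

/-- every non-trivial normal subgroup contains `g` or `g * l` -/
theorem mem_or_mul_mem_of_normal {G : Type*} [Group G] {n : ℕ} [Finite G]
    (ρ : G →* Equiv.Perm (Fin n))
    (hinj : Function.Injective ρ) (o : Fin n) (htrans : ∀ a : Fin n, ∃ z : G, ρ z o = a)
    (H : Subgroup G) (hH : ∀ h, h ∈ H ↔ ρ h o = o)
    {r : ℕ} (Δ : Fin r → Set (Fin n))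
    (hΔ : ∀ i, ∀ b ∈ Δ i, ∀ c ∈ Δ i, ∃ h ∈ H, ρ h b = c)
    (hcover : ∀ b, b = o ∨ ∃ i, b ∈ Δ i)
    (hdisj : ∀ i j, i ≠ j → ∀ b, b ∈ Δ i → b ∉ Δ j) (ho : ∀ i, o ∉ Δ i)
    (s : Fin r → ℕ) (hs : ∀ i, (Δ i).ncard = s i)
    (harith : ∀ I : Finset (Fin r), I.Nonempty → (1 + ∑ i ∈ I, s i) ∣ n → 1 + ∑ i ∈ I, s i = n)
    (p : Fin (r + 1) → ℕ) (hp : ∀ i, (p i).Prime) (hpn : ∀ i, p i ∣ n)
    (hpinj : Function.Injective p)
    (l : G)
    (hdich : ∀ M : Subgroup G, M ≤ H → (∀ h ∈ H, ∀ m ∈ M, h * m * h⁻¹ ∈ M) →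
      (∀ m ∈ M, m = 1 ∨ m = l) ∨ (∀ h ∈ H, h ∈ M ∨ h * l ∈ M))
    (hconj : ∀ N : Subgroup G, N.Normal → l ∈ N → N = ⊤)
    (N : Subgroup G) (hN : N.Normal) (hbot : N ≠ ⊥) (g : G) : g ∈ N ∨ g * l ∈ N := by
  have htr := transitive_of_normal ρ hinj o htrans H (fun h hh => (hH h).1 hh) Δ hΔ hcover hdisj
    ho s hs harith N hN hbot
  rcases hdich (N ⊓ H) inf_le_right (fun h hh m hm =>
    ⟨hN.conj_mem m hm.1 h, H.mul_mem (H.mul_mem hh hm.2) (H.inv_mem hh)⟩) with hA | hB
  · by_cases hl : l ∈ N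
    · left
      rw [hconj N hN hl]
      exact Subgroup.mem_top g
    · exfalso
      have htriv : ∀ m ∈ N, m ∈ H → m = 1 := by
        intro m hm hmH
        rcases hA m ⟨hm, hmH⟩ with h | h
        · exact h
        · exact absurd (h ▸ hm) hl
      have hreg : ∀ x ∈ N, ∀ y ∈ N, ρ x o = ρ y o → x = y := by
        intro x hx y hy hxy
        have h1 : y⁻¹ * x ∈ H := by
          rw [hH, map_mul, map_inv, Equiv.Perm.mul_apply, hxy, Simp.perm_inv_apply_self]
        have h2 := htriv _ (N.mul_mem (N.inv_mem hy) hx) h1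
        exact (inv_mul_eq_one.1 h2).symm
      have hconjO : ∀ x ∈ N, ∀ y ∈ N, ∀ h ∈ H, ρ h (ρ x o) = ρ y o → h * x * h⁻¹ = y := by
        intro x hx y hy h hh hxy
        apply hreg _ (hN.conj_mem x hx h) y hy
        rw [map_mul, map_mul, map_inv, Equiv.Perm.mul_apply, Equiv.Perm.mul_apply]
        have h1 : (ρ h)⁻¹ o = o := by
          rw [Equiv.Perm.inv_eq_iff_eq]
          exact ((hH h).1 hh).symm
        rw [h1, hxy]
      have hcardN : Nat.card N = n := by
        have hbij : Function.Bijective (fun x : N => ρ x.1 o) :=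
          ⟨fun x y hxy => Subtype.ext (hreg x.1 x.2 y.1 y.2 hxy), fun b => by
            obtain ⟨x, hx, hxb⟩ := htr b
            exact ⟨⟨x, hx⟩, hxb⟩⟩
        rw [Nat.card_eq_of_bijective _ hbij, Nat.card_fin]
      have hx : ∀ i, ∃ x : N, orderOf x = p i := fun i => by
        have : Fact (p i).Prime := ⟨hp i⟩
        exact exists_prime_orderOf_dvd_card' (p i) (by rw [hcardN]; exact hpn i)
      choose x hx using hx
      have hbox : ∀ i, ∃ k, ρ (x i).1 o ∈ Δ k := by
        intro i
        rcases hcover (ρ (x i).1 o) with h | h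
        · exfalso
          have h1 : (x i).1 = 1 := htriv _ (x i).2 ((hH _).2 h)
          have h2 : x i = 1 := Subtype.ext h1
          have h3 := hx i
          rw [h2, orderOf_one] at h3
          exact (hp i).ne_one h3.symm
        · exact h
      choose box hbox using hbox
      obtain ⟨i, j, hij, hbij⟩ := Fintype.exists_ne_map_eq_of_card_lt box (by simp)
      obtain ⟨h, hh, hhe⟩ := hΔ (box i) _ (hbox i) _ (hbij ▸ hbox j)
      have hc := hconjO _ (x i).2 _ (x j).2 h hh hhe
      have hsc : SemiconjBy h (x i).1 (x j).1 := by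
        show h * (x i).1 = (x j).1 * h
        rw [← hc]
        group
      have hoo : orderOf (x i).1 = orderOf (x j).1 := SemiconjBy.orderOf_eq h hsc
      rw [Subgroup.orderOf_coe, Subgroup.orderOf_coe, hx i, hx j] at hoo
      exact hij (hpinj hoo)
  · obtain ⟨x, hx, hxg⟩ := htr (ρ g o)
    have hh : x⁻¹ * g ∈ H := by
      rw [hH, map_mul, map_inv, Equiv.Perm.mul_apply, ← hxg, Simp.perm_inv_apply_self]
    rcases hB _ hh with h | h
    · left
      have h1 := N.mul_mem hx h.1
      rwa [mul_inv_cancel_left] at h1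
    · right
      have h1 := N.mul_mem hx h.1
      rwa [mul_assoc, mul_inv_cancel_left] at h1

/-- a normal subgroup that meets every coset of the subgroup generated by `l` contains the
commutator subgroup -/
theorem commutator_le_of_mem_or {G : Type*} [Group G] (l : G) (N : Subgroup G) (hN : N.Normal)
    (h : ∀ g, g ∈ N ∨ g * l ∈ N) : commutator G ≤ N := by
  rw [commutator_def, Subgroup.commutator_le]
  intro a _ b _
  have key : ∀ g : G, (g : G ⧸ N) = 1 ∨ (g : G ⧸ N) = (l : G ⧸ N)⁻¹ := by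
    intro g
    rcases h g with h1 | h1
    · left
      exact (QuotientGroup.eq_one_iff g).2 h1
    · right
      have h2 : ((g * l : G) : G ⧸ N) = 1 := (QuotientGroup.eq_one_iff _).2 h1
      rw [QuotientGroup.mk_mul] at h2
      exact eq_inv_of_mul_eq_one_left h2
  rw [← QuotientGroup.eq_one_iff, commutatorElement_def, QuotientGroup.mk_mul,
    QuotientGroup.mk_mul, QuotientGroup.mk_mul, QuotientGroup.mk_inv, QuotientGroup.mk_inv]
  rcases key a with ha | ha <;> rcases key b with hb | hb <;> rw [ha, hb] <;> group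

/-- a subgroup that meets every coset of the subgroup generated by `l`, without `l`, has index
two -/
theorem index_eq_two_of_mem_or {G : Type*} [Group G] (l : G) (K : Subgroup G) (hl : l ∉ K)
    (h : ∀ g, g ∈ K ∨ g * l ∈ K) : K.index = 2 := by
  rw [Subgroup.index_eq_two_iff]
  refine ⟨l, fun b => ?_⟩
  by_cases hb : b ∈ K
  · right
    refine ⟨hb, fun hbl => hl ?_⟩
    have h1 := K.mul_mem (K.inv_mem hb) hbl
    rwa [inv_mul_cancel_left] at h1
  · left
    rcases h b with h1 | h1
    · exact absurd h1 hb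
    · exact ⟨h1, hb⟩

/-- **a subgroup of index two** which lies in every non-trivial normal subgroup and whose order is
not a square is simple -/
theorem isSimpleGroup_of_index_two {G : Type*} [Group G] [Finite G] (K : Subgroup G)
    (hK : K.index = 2) (hmin : ∀ N : Subgroup G, N.Normal → N ≠ ⊥ → K ≤ N)
    (hsq : ∀ m : ℕ, Nat.card K ≠ m * m) : IsSimpleGroup K := by
  have hKn : K.Normal := Subgroup.normal_of_index_eq_two hK
  have hnt : Nontrivial K := by
    by_contra hcon
    rw [not_nontrivial_iff_subsingleton] at hcon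
    apply hsq 1
    rw [Nat.card_eq_one_iff_unique.2 ⟨hcon, ⟨1⟩⟩]
  refine { exists_pair_ne := hnt.exists_pair_ne, eq_bot_or_eq_top_of_normal := ?_ }
  intro N1 hN1
  by_cases hbot : N1 = ⊥
  · exact Or.inl hbot
  right
  -- an element outside `K`
  have htop : K ≠ ⊤ := by
    intro h
    rw [h, Subgroup.index_top] at hK
    norm_num at hK
  obtain ⟨t, -, ht⟩ : ∃ t ∈ (⊤ : Subgroup G), t ∉ K := by
    by_contra hcon
    push Not at hcon
    exact htop (eq_top_iff.2 fun x hx => hcon x hx)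
  have htt : t * t ∈ K := Subgroup.mul_self_mem_of_index_two hK t
  -- the two subgroups
  set A : Subgroup G := N1.map K.subtype with hA
  set B : Subgroup G := A.map (MulAut.conj t).toMonoidHom with hB
  have hAK : A ≤ K := by
    rintro _ ⟨x, -, rfl⟩
    exact x.2
  have hmemB : ∀ x, x ∈ B ↔ ∃ a ∈ A, t * a * t⁻¹ = x := by
    intro x
    rw [hB, Subgroup.mem_map]
    rfl
  have hBK : B ≤ K := by
    intro x hx
    obtain ⟨a, ha, rfl⟩ := (hmemB x).1 hx
    exact hKn.conj_mem a (hAK ha) t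
  have hAk : ∀ k ∈ K, ∀ a ∈ A, k * a * k⁻¹ ∈ A := by
    rintro k hk _ ⟨x, hx, rfl⟩
    refine ⟨⟨k, hk⟩ * x * ⟨k, hk⟩⁻¹, hN1.conj_mem x hx _, rfl⟩
  have hBk : ∀ k ∈ K, ∀ b ∈ B, k * b * k⁻¹ ∈ B := by
    intro k hk b hb
    obtain ⟨a, ha, rfl⟩ := (hmemB b).1 hb
    refine (hmemB _).2 ⟨(t⁻¹ * k * t) * a * (t⁻¹ * k * t)⁻¹, hAk _ ?_ a ha, by group⟩
    have h1 := hKn.conj_mem k hk t⁻¹
    rwa [inv_inv] at h1
  have hAt : ∀ a ∈ A, t * a * t⁻¹ ∈ B := fun a ha => (hmemB _).2 ⟨a, ha, rfl⟩
  have hBt : ∀ b ∈ B, t * b * t⁻¹ ∈ A := by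
    intro b hb
    obtain ⟨a, ha, rfl⟩ := (hmemB b).1 hb
    have h1 := hAk _ htt a ha
    have h2 : t * (t * a * t⁻¹) * t⁻¹ = t * t * a * (t * t)⁻¹ := by group
    rw [h2]
    exact h1
  have hdec : ∀ g : G, g ∈ K ∨ ∃ k ∈ K, g = k * t := by
    intro g
    by_cases hg : g ∈ K
    · exact Or.inl hg
    · right
      refine ⟨g * t⁻¹, ?_, by group⟩
      rw [Subgroup.mul_mem_iff_of_index_two hK]
      constructor
      · intro h
        exact absurd h hg
      · intro h
        exact absurd (K.inv_mem_iff.1 h) ht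
  -- the intersection and the join are normal
  have hIn : (A ⊓ B).Normal := by
    refine ⟨fun n hn g => ?_⟩
    rcases hdec g with hg | ⟨k, hk, rfl⟩
    · exact ⟨hAk g hg n hn.1, hBk g hg n hn.2⟩
    · have h2 : k * t * n * (k * t)⁻¹ = k * (t * n * t⁻¹) * k⁻¹ := by group
      rw [h2]
      exact ⟨hAk k hk _ (hBt n hn.2), hBk k hk _ (hAt n hn.1)⟩
  have hJn : (A ⊔ B).Normal := by
    refine ⟨fun n hn g => ?_⟩
    have h1 : (A ⊔ B).map (MulAut.conj g).toMonoidHom ≤ A ⊔ B := by
      rw [Subgroup.map_sup]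
      apply sup_le
      · rintro _ ⟨a, ha, rfl⟩
        show g * a * g⁻¹ ∈ A ⊔ B
        rcases hdec g with hg | ⟨k, hk, rfl⟩
        · exact (le_sup_left : A ≤ A ⊔ B) (hAk g hg a ha)
        · have h2 : k * t * a * (k * t)⁻¹ = k * (t * a * t⁻¹) * k⁻¹ := by group
          rw [h2]
          exact (le_sup_right : B ≤ A ⊔ B) (hBk k hk _ (hAt a ha))
      · rintro _ ⟨b, hb, rfl⟩
        show g * b * g⁻¹ ∈ A ⊔ B
        rcases hdec g with hg | ⟨k, hk, rfl⟩
        · exact (le_sup_right : B ≤ A ⊔ B) (hBk g hg b hb)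
        · have h2 : k * t * b * (k * t)⁻¹ = k * (t * b * t⁻¹) * k⁻¹ := by group
          rw [h2]
          exact (le_sup_left : A ≤ A ⊔ B) (hAk k hk _ (hBt b hb))
    exact h1 ⟨n, hn, rfl⟩
  have hAbot : A ≠ ⊥ := by
    intro h
    apply hbot
    rw [Subgroup.eq_bot_iff_forall]
    intro x hx
    have h1 : (x : G) ∈ A := ⟨x, hx, rfl⟩
    rw [h, Subgroup.mem_bot] at h1
    exact Subtype.ext h1
  have hJ : A ⊔ B = K := by
    apply le_antisymm (sup_le hAK hBK)
    apply hmin _ hJn
    intro h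
    apply hAbot
    rw [eq_bot_iff, ← h]
    exact le_sup_left
  by_cases hI : A ⊓ B = ⊥
  · -- the order would be a square
    exfalso
    have e1 : A.subgroupOf K = N1 := by
      rw [hA, Subgroup.subgroupOf, Subgroup.comap_map_eq_self_of_injective K.subtype_injective]
    have hBn : (B.subgroupOf K).Normal := by
      refine ⟨fun n hn g => ?_⟩
      rw [Subgroup.mem_subgroupOf] at hn ⊢
      exact hBk g.1 g.2 n.1 hn
    have hdisj : Disjoint N1 (B.subgroupOf K) := by
      rw [Subgroup.disjoint_def]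
      intro x hx1 hx2
      have h1 : (x : G) ∈ A ⊓ B := ⟨⟨x, hx1, rfl⟩, Subgroup.mem_subgroupOf.1 hx2⟩
      rw [hI, Subgroup.mem_bot] at h1
      exact Subtype.ext h1
    have hsup : N1 ⊔ B.subgroupOf K = ⊤ := by
      rw [← e1, ← Subgroup.subgroupOf_sup hAK hBK, hJ, Subgroup.subgroupOf_self]
    have hmul : (N1 : Set K) * (B.subgroupOf K : Set K) = Set.univ := by
      rw [← Subgroup.mul_normal, hsup, Subgroup.coe_top]
    have hc := (Subgroup.isComplement'_of_disjoint_and_mul_eq_univ hdisj hmul).card_mul_card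
    have hcA : Nat.card A = Nat.card N1 :=
      (Nat.card_congr (N1.equivMapOfInjective K.subtype K.subtype_injective).toEquiv).symm
    have hcB : Nat.card B = Nat.card A :=
      (Nat.card_congr (A.equivMapOfInjective (MulAut.conj t).toMonoidHom
        (MulAut.conj t).injective).toEquiv).symm
    have hcB' : Nat.card (B.subgroupOf K) = Nat.card B :=
      Nat.card_congr (Subgroup.subgroupOfEquivOfLe hBK).toEquiv
    rw [hcB', hcB, hcA] at hc
    exact hsq _ hc.symm
  · have h1 : K ≤ A ⊓ B := hmin _ hIn hI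
    rw [eq_top_iff]
    intro x _
    obtain ⟨y, hy, hyx⟩ := (h1.trans inf_le_left) x.2
    have : y = x := Subtype.ext hyx
    rwa [this] at hy

section

open Cfsg.Agent.Lib.Helper6.TC Cfsg.Agent.Lib.Helper6.NatArr Cfsg.Agent.Lib.Helper6.Simp
  Cfsg.Agent.Lib.Helper6.SimpG Cfsg.Spor

variable {α : Type} [DecidableEq α] {edges : List (α × ℕ × α)} {extra : List (FreeGroup α)}
  {S : Set (FreeGroup α)} (D : CoxData edges extra S)

/-- every non-trivial normal subgroup contains `g` or `g * l`, with sets of rows each of which lies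
in one orbit of the subgroup -/
theorem mem_or_mul_mem_cox [Finite (CoxPresented α edges extra)]
    (hinj : Function.Injective D.cert.ρ)
    {r : ℕ} (orbs : Fin r → OrbSC D) (s : Fin r → ℕ) (hs : ∀ i, cnt (orbs i).B D.T.n = s i)
    (hcover : ∀ b, b < D.T.n → b = 0 ∨ ∃ i, (orbs i).B.testBit b = true)
    (hdisj : ∀ i j, i ≠ j → Nat.land (orbs i).B (orbs j).B = 0)
    (ho : ∀ i, (orbs i).B.testBit 0 = false)
    (harith : ∀ I : Finset (Fin r), I.Nonempty → (1 + ∑ i ∈ I, s i) ∣ D.T.n →
      1 + ∑ i ∈ I, s i = D.T.n)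
    (p : Fin (r + 1) → ℕ) (hp : ∀ i, (p i).Prime) (hpn : ∀ i, p i ∣ D.T.n)
    (hpinj : Function.Injective p)
    (l : CoxPresented α edges extra)
    (hdich : ∀ M : Subgroup (CoxPresented α edges extra), M ≤ D.cert.H →
      (∀ h ∈ D.cert.H, ∀ m ∈ M, h * m * h⁻¹ ∈ M) →
      (∀ m ∈ M, m = 1 ∨ m = l) ∨ (∀ h ∈ D.cert.H, h ∈ M ∨ h * l ∈ M))
    (hconj : ∀ N : Subgroup (CoxPresented α edges extra), N.Normal → l ∈ N → N = ⊤)
    (N : Subgroup (CoxPresented α edges extra)) (hN : N.Normal) (hbot : N ≠ ⊥)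
    (g : CoxPresented α edges extra) : g ∈ N ∨ g * l ∈ N := by
  have hHs := eq_stab (ρ := D.cert.ρ) D.cert.trans D.cert.fix D.cert.index_eq D.cert.hTn
  refine mem_or_mul_mem_of_normal D.cert.ρ hinj D.cert.o D.cert.trans D.cert.H ?_
    (fun i => {b : Fin D.T.n | (orbs i).B.testBit b.val = true}) ?_ ?_ ?_ ?_ s ?_ harith p hp hpn
    hpinj l hdich hconj N hN hbot g
  · intro h
    constructor
    · exact D.cert.fix h
    · intro hh
      rw [hHs]
      exact (mem_stab _ _).2 hh
  · intro i b hb c hc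
    exact (orbs i).conn hb hc
  · intro b
    rcases hcover b.val b.isLt with hb | ⟨i, hi⟩
    · left
      exact Fin.ext hb
    · right
      exact ⟨i, hi⟩
  · intro i j hij b hbi hbj
    have h1 : (Nat.land (orbs i).B (orbs j).B).testBit b.val = true := by
      show ((orbs i).B &&& (orbs j).B).testBit b.val = true
      rw [Nat.testBit_and, Bool.and_eq_true]
      exact ⟨hbi, hbj⟩
    rw [hdisj i j hij] at h1
    simp at h1
  · intro i hi
    have h1 : (orbs i).B.testBit 0 = true := hi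
    rw [ho i] at h1
    exact Bool.false_ne_true h1
  · intro i
    rw [← hs i]
    exact ncard_testBit _ _

end

end Cfsg.Agent.Lib.Helper6.SimpIdx2

end
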