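import Cfsg.Agent.Lib.Helper6.Fi24H
import Cfsg.Agent.Lib.Helper6.SimpIdx2
import Cfsg.Agent.Lib.Helper6.Fi24SimpO0
import Cfsg.Agent.Lib.Helper6.Fi24SimpO1

/-! # The commutator subgroup of the presented Fischer group Fi24 is simple of order
1255205709190661721292800

The presented group acts faithfully and primitively on the 306936 cosets of the subgroup `H`, an
extension of a central subgroup of order two generated by `l` by the simple presented group Fi23,
with suborbits of lengths 1, 275264 and 31671. So every non-trivial normal subgroup meets every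
coset of the subgroup generated by `l`, and contains the commutator subgroup, which has index two
as all generators are odd. A subgroup of index two that lies in every non-trivial normal subgroup
and whose order is not a square is simple. -/

set_option autoImplicit false
set_option maxRecDepth 100000

noncomputable section

namespace Cfsg.Agent.Lib.Helper6.Fi24Simple

open Cfsg.Spor Cfsg.Agent.Lib.Helper6.Simp Cfsg.Agent.Lib.Helper6.SimpG
  Cfsg.Agent.Lib.Helper6.TC Cfsg.Agent.Lib.Helper6.NatArr Cfsg.Agent.Lib.Helper6.SimpCO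
  Cfsg.Agent.Lib.Helper6.SimpIdx2 Cfsg.Agent.Lib.Helper6.Fi24H Cfsg.Agent.Lib.Helper6.SimpWPC

open scoped commutatorElement

/-! ### the two orbits of the subgroup -/

theorem cnt_zero' (B : ℕ) : cnt B 0 = 0 := rfl

attribute [local irreducible] cnt

theorem cnt_step (B a b ca cb : ℕ) (h1 : cnt B a = ca) (h2 : cnt (Nat.shiftRight B a) b = cb) :
    cnt B (a + b) = ca + cb := by
  rw [cnt_add, h1, h2]

/-- the rows of orbit 0 lie in one orbit of the subgroup -/
def orb0 : OrbSC Fi24TC.data where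
  a := Fi24Simp.orb0_root
  ha := show 1 < 306936 by norm_num
  B := Fi24Simp.orb0_B
  chk_run := Fi24Simp.orb0_run

theorem cnt0 : cnt Fi24Simp.orb0_B 306936 = 275264 := by
  have s0 : cnt Fi24Simp.orb0_B 0 = 0 := cnt_zero' _
  have s1 : cnt Fi24Simp.orb0_B 20000 = 14987 :=
    cnt_step Fi24Simp.orb0_B 0 20000 0 14987 s0 Fi24Simp.orb0_cnt0
  have s2 : cnt Fi24Simp.orb0_B 40000 = 31435 :=
    cnt_step Fi24Simp.orb0_B 20000 20000 14987 16448 s1 Fi24Simp.orb0_cnt1
  have s3 : cnt Fi24Simp.orb0_B 60000 = 48031 :=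
    cnt_step Fi24Simp.orb0_B 40000 20000 31435 16596 s2 Fi24Simp.orb0_cnt2
  have s4 : cnt Fi24Simp.orb0_B 80000 = 66003 :=
    cnt_step Fi24Simp.orb0_B 60000 20000 48031 17972 s3 Fi24Simp.orb0_cnt3
  have s5 : cnt Fi24Simp.orb0_B 100000 = 83549 :=
    cnt_step Fi24Simp.orb0_B 80000 20000 66003 17546 s4 Fi24Simp.orb0_cnt4
  have s6 : cnt Fi24Simp.orb0_B 120000 = 101554 :=
    cnt_step Fi24Simp.orb0_B 100000 20000 83549 18005 s5 Fi24Simp.orb0_cnt5
  have s7 : cnt Fi24Simp.orb0_B 140000 = 119770 :=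
    cnt_step Fi24Simp.orb0_B 120000 20000 101554 18216 s6 Fi24Simp.orb0_cnt6
  have s8 : cnt Fi24Simp.orb0_B 160000 = 138182 :=
    cnt_step Fi24Simp.orb0_B 140000 20000 119770 18412 s7 Fi24Simp.orb0_cnt7
  have s9 : cnt Fi24Simp.orb0_B 180000 = 156968 :=
    cnt_step Fi24Simp.orb0_B 160000 20000 138182 18786 s8 Fi24Simp.orb0_cnt8
  have s10 : cnt Fi24Simp.orb0_B 200000 = 175704 :=
    cnt_step Fi24Simp.orb0_B 180000 20000 156968 18736 s9 Fi24Simp.orb0_cnt9
  have s11 : cnt Fi24Simp.orb0_B 220000 = 195519 :=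
    cnt_step Fi24Simp.orb0_B 200000 20000 175704 19815 s10 Fi24Simp.orb0_cnt10
  have s12 : cnt Fi24Simp.orb0_B 240000 = 214343 :=
    cnt_step Fi24Simp.orb0_B 220000 20000 195519 18824 s11 Fi24Simp.orb0_cnt11
  have s13 : cnt Fi24Simp.orb0_B 260000 = 233156 :=
    cnt_step Fi24Simp.orb0_B 240000 20000 214343 18813 s12 Fi24Simp.orb0_cnt12
  have s14 : cnt Fi24Simp.orb0_B 280000 = 251971 :=
    cnt_step Fi24Simp.orb0_B 260000 20000 233156 18815 s13 Fi24Simp.orb0_cnt13
  have s15 : cnt Fi24Simp.orb0_B 300000 = 270109 :=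
    cnt_step Fi24Simp.orb0_B 280000 20000 251971 18138 s14 Fi24Simp.orb0_cnt14
  have s16 : cnt Fi24Simp.orb0_B 306936 = 275264 :=
    cnt_step Fi24Simp.orb0_B 300000 6936 270109 5155 s15 Fi24Simp.orb0_cnt15
  exact s16

/-- the rows of orbit 1 lie in one orbit of the subgroup -/
def orb1 : OrbSC Fi24TC.data where
  a := Fi24Simp.orb1_root
  ha := show 6 < 306936 by norm_num
  B := Fi24Simp.orb1_B
  chk_run := Fi24Simp.orb1_run

theorem cnt1 : cnt Fi24Simp.orb1_B 306936 = 31671 := by
  have s0 : cnt Fi24Simp.orb1_B 0 = 0 := cnt_zero' _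
  have s1 : cnt Fi24Simp.orb1_B 20000 = 5012 :=
    cnt_step Fi24Simp.orb1_B 0 20000 0 5012 s0 Fi24Simp.orb1_cnt0
  have s2 : cnt Fi24Simp.orb1_B 40000 = 8564 :=
    cnt_step Fi24Simp.orb1_B 20000 20000 5012 3552 s1 Fi24Simp.orb1_cnt1
  have s3 : cnt Fi24Simp.orb1_B 60000 = 11968 :=
    cnt_step Fi24Simp.orb1_B 40000 20000 8564 3404 s2 Fi24Simp.orb1_cnt2
  have s4 : cnt Fi24Simp.orb1_B 80000 = 13996 :=
    cnt_step Fi24Simp.orb1_B 60000 20000 11968 2028 s3 Fi24Simp.orb1_cnt3
  have s5 : cnt Fi24Simp.orb1_B 100000 = 16450 :=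
    cnt_step Fi24Simp.orb1_B 80000 20000 13996 2454 s4 Fi24Simp.orb1_cnt4
  have s6 : cnt Fi24Simp.orb1_B 120000 = 18445 :=
    cnt_step Fi24Simp.orb1_B 100000 20000 16450 1995 s5 Fi24Simp.orb1_cnt5
  have s7 : cnt Fi24Simp.orb1_B 140000 = 20229 :=
    cnt_step Fi24Simp.orb1_B 120000 20000 18445 1784 s6 Fi24Simp.orb1_cnt6
  have s8 : cnt Fi24Simp.orb1_B 160000 = 21817 :=
    cnt_step Fi24Simp.orb1_B 140000 20000 20229 1588 s7 Fi24Simp.orb1_cnt7
  have s9 : cnt Fi24Simp.orb1_B 180000 = 23031 :=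
    cnt_step Fi24Simp.orb1_B 160000 20000 21817 1214 s8 Fi24Simp.orb1_cnt8
  have s10 : cnt Fi24Simp.orb1_B 200000 = 24295 :=
    cnt_step Fi24Simp.orb1_B 180000 20000 23031 1264 s9 Fi24Simp.orb1_cnt9
  have s11 : cnt Fi24Simp.orb1_B 220000 = 24480 :=
    cnt_step Fi24Simp.orb1_B 200000 20000 24295 185 s10 Fi24Simp.orb1_cnt10
  have s12 : cnt Fi24Simp.orb1_B 240000 = 25656 :=
    cnt_step Fi24Simp.orb1_B 220000 20000 24480 1176 s11 Fi24Simp.orb1_cnt11
  have s13 : cnt Fi24Simp.orb1_B 260000 = 26843 :=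
    cnt_step Fi24Simp.orb1_B 240000 20000 25656 1187 s12 Fi24Simp.orb1_cnt12
  have s14 : cnt Fi24Simp.orb1_B 280000 = 28028 :=
    cnt_step Fi24Simp.orb1_B 260000 20000 26843 1185 s13 Fi24Simp.orb1_cnt13
  have s15 : cnt Fi24Simp.orb1_B 300000 = 29890 :=
    cnt_step Fi24Simp.orb1_B 280000 20000 28028 1862 s14 Fi24Simp.orb1_cnt14
  have s16 : cnt Fi24Simp.orb1_B 306936 = 31671 :=
    cnt_step Fi24Simp.orb1_B 300000 6936 29890 1781 s15 Fi24Simp.orb1_cnt15
  exact s16

theorem chk_cover : ((1 ||| Fi24Simp.orb0_B) ||| Fi24Simp.orb1_B) = 2 ^ 306936 - 1 := by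
  decide +kernel

theorem chk_disj0_1 : Nat.land Fi24Simp.orb0_B Fi24Simp.orb1_B = 0 := by decide +kernel

theorem chk_disj1_0 : Nat.land Fi24Simp.orb1_B Fi24Simp.orb0_B = 0 := by decide +kernel

theorem chk_o0 : Fi24Simp.orb0_B.testBit 0 = false := by decide +kernel

theorem chk_o1 : Fi24Simp.orb1_B.testBit 0 = false := by decide +kernel

/-! ### the normal subgroups that contain `l` -/

/-- all generators are reached from the generator `l` along the edges of the graph -/
theorem reach : ∀ y, y < 12 → Reach Fi24TC.data 0 y := by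
  have r0 : Reach Fi24TC.data 0 0 := Reach.root
  have r1 : Reach Fi24TC.data 0 1 := Reach.step r0 (by decide)
  have r2 : Reach Fi24TC.data 0 2 := Reach.step r1 (by decide)
  have r3 : Reach Fi24TC.data 0 3 := Reach.step r2 (by decide)
  have r4 : Reach Fi24TC.data 0 4 := Reach.step r3 (by decide)
  have r5 : Reach Fi24TC.data 0 5 := Reach.step r4 (by decide)
  have r6 : Reach Fi24TC.data 0 6 := Reach.step r5 (by decide)
  have r7 : Reach Fi24TC.data 0 7 := Reach.step r6 (by decide)
  have r8 : Reach Fi24TC.data 0 8 := Reach.step r7 (by decide)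
  have r9 : Reach Fi24TC.data 0 9 := Reach.step r8 (by decide)
  have r10 : Reach Fi24TC.data 0 10 := Reach.step r5 (by decide)
  have r11 : Reach Fi24TC.data 0 11 := Reach.step r10 (by decide)
  intro y hy
  interval_cases y
  · exact r0
  · exact r1
  · exact r2
  · exact r3
  · exact r4
  · exact r5
  · exact r6
  · exact r7
  · exact r8
  · exact r9
  · exact r10
  · exact r11

/-- a normal subgroup that contains `l` is the whole group -/
theorem eq_top_of_lG_mem (N : Subgroup Fi24) (hN : N.Normal) (hl : lG ∈ N) : N = ⊤ := by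
  have hall : ∀ y, Reach Fi24TC.data 0 y →
      (PresentedGroup.of (Fi24TC.data.gen y) : Fi24) ∈ N := by
    intro y hy
    induction hy with
    | root => exact hl
    | step _ h3 ih =>
      rw [conj_of_braid (TC.of_mul_self Fi24TC.data.hnode _) (TC.of_mul_self Fi24TC.data.hnode _)
        (of_braid Fi24TC.data.hnode _ _ h3)]
      exact hN.conj_mem _ ih _
  rw [eq_top_iff, ← PresentedGroup.closure_range_of, Subgroup.closure_le]
  rintro _ ⟨x, rfl⟩
  obtain ⟨hca, hga⟩ := Fi24TC.data.hcode x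
  have := hall _ (reach _ hca)
  rwa [hga] at this

/-! ### the normal subgroups of `H` -/

/-- a subgroup of `H` normalized by `H` lies in the subgroup generated by `l`, or meets every coset
of it in `H` -/
theorem dich (M : Subgroup Fi24) (hM : M ≤ H0) (hn : ∀ h ∈ H0, ∀ m ∈ M, h * m * h⁻¹ ∈ M) :
    (∀ m ∈ M, m = 1 ∨ m = lG) ∨ (∀ h ∈ H0, h ∈ M ∨ h * lG ∈ M) := by
  have hs := isSimple_Q
  set M' : Subgroup H0 := M.subgroupOf H0 with hM'
  have hMn : M'.Normal := by
    refine ⟨fun n hn' g => ?_⟩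
    rw [hM', Subgroup.mem_subgroupOf] at hn' ⊢
    exact hn g.1 g.2 n.1 hn'
  have hMn' : (M'.map (QuotientGroup.mk' Z)).Normal :=
    Subgroup.Normal.map hMn _ (QuotientGroup.mk'_surjective Z)
  rcases hs.eq_bot_or_eq_top_of_normal _ hMn' with h | h
  · left
    intro m hm
    have h1 : (QuotientGroup.mk' Z) ⟨m, hM hm⟩ ∈ M'.map (QuotientGroup.mk' Z) :=
      Subgroup.mem_map_of_mem _ (by rw [hM', Subgroup.mem_subgroupOf]; exact hm)
    rw [h, Subgroup.mem_bot, QuotientGroup.mk'_apply, QuotientGroup.eq_one_iff, mem_Z] at h1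
    exact h1
  · right
    intro x hx
    have h1 : (QuotientGroup.mk' Z) ⟨x, hx⟩ ∈ M'.map (QuotientGroup.mk' Z) := by
      rw [h]
      exact Subgroup.mem_top _
    obtain ⟨m, hm, hm2⟩ := h1
    rw [QuotientGroup.mk'_apply, QuotientGroup.mk'_apply, QuotientGroup.eq, mem_Z] at hm2
    rw [Subgroup.coe_mul, Subgroup.coe_inv] at hm2
    have hm' : (m : Fi24) ∈ M := Subgroup.mem_subgroupOf.1 hm
    rcases hm2 with h2 | h2
    · left
      have h3 : x = m := (inv_mul_eq_one.1 h2).symm
      rw [h3]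
      exact hm'
    · right
      have h3 : x = m * lG := by
        rw [← h2]
        group
      have h4 : x * lG = m := by
        rw [h3, mul_assoc, lG_mul_self, mul_one]
      rw [h4]
      exact hm'

/-! ### the non-trivial normal subgroups -/

/-- **every non-trivial normal subgroup contains `g` or `g * l`** -/
theorem mem_or_mul_mem (N : Subgroup Fi24) (hN : N.Normal) (hbot : N ≠ ⊥) (g : Fi24) :
    g ∈ N ∨ g * lG ∈ N := by
  refine mem_or_mul_mem_cox Fi24TC.data ρ_inj (r := 2) ![orb0, orb1] ![275264, 31671] ?_ ?_ ?_ ?_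
    ?_ ![2, 3, 7] ?_ ?_ ?_ lG ?_ eq_top_of_lG_mem N hN hbot g
  · intro i
    fin_cases i
    · exact cnt0
    · exact cnt1
  · intro b hb
    have hb' : b < 306936 := hb
    have h1 : (2 ^ 306936 - 1).testBit b = true := by
      rw [Nat.testBit_two_pow_sub_one]
      exact decide_eq_true hb'
    rw [← chk_cover] at h1
    simp only [Nat.testBit_or, Bool.or_eq_true] at h1
    rcases h1 with (h | h) | h
    · exact Or.inl (Nat.testBit_one_eq_true_iff_self_eq_zero.mp h)
    · exact Or.inr ⟨0, h⟩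
    · exact Or.inr ⟨1, h⟩
  · intro i j hij
    fin_cases i <;> fin_cases j
    · exact absurd rfl hij
    · exact chk_disj0_1
    · exact chk_disj1_0
    · exact absurd rfl hij
  · intro i
    fin_cases i
    · exact chk_o0
    · exact chk_o1
  · show ∀ I : Finset (Fin 2), I.Nonempty → (1 + ∑ i ∈ I, ![275264, 31671] i) ∣ 306936 →
      1 + ∑ i ∈ I, ![275264, 31671] i = 306936
    decide
  · intro i
    fin_cases i
    · exact Nat.prime_two
    · exact Nat.prime_three
    · show Nat.Prime 7
      norm_num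
  · intro i
    show (![2, 3, 7] : Fin 3 → ℕ) i ∣ 306936
    fin_cases i
    · show 2 ∣ 306936
      norm_num
    · show 3 ∣ 306936
      norm_num
    · show 7 ∣ 306936
      norm_num
  · intro i j hij
    fin_cases i <;> fin_cases j <;> first | rfl | (exfalso; revert hij; decide)
  · intro M hM hn
    rw [H_eq] at hM hn
    have := dich M hM hn
    rw [H_eq]
    exact this

/-! ### the sign -/

/-- the homomorphism of the free group that maps every generator to `-1` -/
def sgnF : FreeGroup Fi24.Gen →* ℤˣ := FreeGroup.lift fun _ => -1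

theorem sgnF_of (x : Fi24.Gen) : sgnF (FreeGroup.of x) = -1 := FreeGroup.lift_apply_of

theorem sgnF_rel (r : FreeGroup Fi24.Gen)
    (hr : r ∈ coxRelators Fi24.edges ∪ {r | r ∈ Fi24.extra}) : sgnF r = 1 := by
  rcases hr with ⟨x, _, y, _, rfl⟩ | hr
  · rw [map_pow, map_mul, sgnF_of, sgnF_of]
    simp
  · have hr' : r ∈ Fi24.extra := hr
    simp only [Fi24.extra, List.mem_cons, List.not_mem_nil, or_false] at hr'
    rcases hr' with rfl | rfl
    · simp only [map_mul, map_inv, map_pow, sgnF_of]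
      decide
    · simp only [map_mul, map_pow, sgnF_of]
      decide

/-- **the sign**: the homomorphism that maps every generator to `-1` -/
def sgn : Fi24 →* ℤˣ := PresentedGroup.toGroup (f := fun _ => (-1 : ℤˣ)) sgnF_rel

theorem sgn_lG : sgn lG = -1 := PresentedGroup.toGroup.of _

theorem lG_not_mem : lG ∉ commutator Fi24 := by
  intro h
  have h1 := Abelianization.commutator_subset_ker sgn h
  rw [MonoidHom.mem_ker, sgn_lG] at h1
  revert h1
  decide

/-! ### the commutator subgroup -/

theorem commutator_ne_bot : commutator Fi24 ≠ ⊥ := by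
  intro h
  have h1 : ⁅gx Fi23.Gen.a, gx Fi23.Gen.b⁆ ∈ commutator Fi24 := by
    rw [commutator_def]
    exact Subgroup.commutator_mem_commutator (Subgroup.mem_top _) (Subgroup.mem_top _)
  rw [h, Subgroup.mem_bot] at h1
  have h2 : ⁅gx Fi23.Gen.a, gx Fi23.Gen.b⁆ = Simp.wordG Fi24TC.data [2, 3, 2, 3] := by
    rw [commutatorElement_def, inv_eq_of_mul_eq_one_left (gx_mul_self .a),
      inv_eq_of_mul_eq_one_left (gx_mul_self .b)]
    unfold Simp.wordG
    simp only [List.map_cons, List.map_nil, List.prod_cons, List.prod_nil, mul_one, mul_assoc]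
    rfl
  rw [h2] at h1
  refine wordG_ne_one Fi24TC.data (w := [2, 3, 2, 3]) (c := 1)
    (by show ∀ x ∈ [2, 3, 2, 3], x < 12; decide) (by show 1 < 306936; norm_num) ?_ h1
  show Fi24TC.tab.trace 1 [3, 2, 3, 2] ≠ 1
  decide +kernel

/-- every non-trivial normal subgroup contains the commutator subgroup -/
theorem commutator_le (N : Subgroup Fi24) (hN : N.Normal) (hbot : N ≠ ⊥) :
    commutator Fi24 ≤ N :=
  commutator_le_of_mem_or lG N hN (mem_or_mul_mem N hN hbot)

theorem commutator_normal : (commutator Fi24).Normal := by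
  rw [commutator_def]
  infer_instance

theorem index_commutator : (commutator Fi24).index = 2 :=
  index_eq_two_of_mem_or lG _ lG_not_mem
    (mem_or_mul_mem _ commutator_normal commutator_ne_bot)

theorem card_commutator : Nat.card (commutator Fi24) = 1255205709190661721292800 := by
  have h := Subgroup.card_mul_index (commutator Fi24)
  rw [index_commutator, card_Fi24] at h
  omega

theorem not_square (m : ℕ) : 1255205709190661721292800 ≠ m * m := by
  intro h
  have h11 : Nat.Prime 11 := by norm_num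
  have h1 : 11 ∣ m * m := by
    rw [← h]
    norm_num
  have h2 : 11 ∣ m := by
    rcases (Nat.Prime.dvd_mul h11).1 h1 with h2 | h2 <;> exact h2
  obtain ⟨q, rfl⟩ := h2
  have h3 : (121 : ℕ) ∣ 1255205709190661721292800 := by
    rw [h]
    exact ⟨q * q, by ring⟩
  revert h3
  norm_num

/-- **The commutator subgroup of the presented Fischer group Fi24 is simple of order
1255205709190661721292800** -/
theorem main : IsSimpleGroup (commutator Fi24) ∧
    Nat.card (commutator Fi24) = 1255205709190661721292800 := by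
  refine ⟨isSimpleGroup_of_index_two _ index_commutator commutator_le ?_, card_commutator⟩
  intro m
  rw [card_commutator]
  exact not_square m

end Cfsg.Agent.Lib.Helper6.Fi24Simple

end
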