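import Cfsg.Agent.Lib.Helper6.TCRel3
import Cfsg.Agent.Lib.Helper6.Fi24SRows0
import Cfsg.Agent.Lib.Helper6.Fi24SRows1
import Cfsg.Agent.Lib.Helper6.Fi24SRows2
import Cfsg.Agent.Lib.Helper6.Fi24SRows3
import Cfsg.Agent.Lib.Helper6.Fi24SRows4
import Cfsg.Agent.Lib.Helper6.Fi24SRows5
import Cfsg.Agent.Lib.Helper6.Fi24SRows6
import Cfsg.Agent.Lib.Helper6.Fi24SRows7
import Cfsg.Agent.Lib.Helper6.Fi24SRows8
import Cfsg.Agent.Lib.Helper6.Fi24SRows9
import Cfsg.Agent.Lib.Helper6.Fi24SRows10
import Cfsg.Agent.Lib.Helper6.Fi24SRows11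
import Cfsg.Agent.Lib.Helper6.Fi24SRows12
import Cfsg.Agent.Lib.Helper6.Fi24SRows13
import Cfsg.Agent.Lib.Helper6.Fi24SRows14
import Cfsg.Agent.Lib.Helper6.Fi24SRows15
import Cfsg.Agent.Lib.Helper6.Fi24SRows16
import Cfsg.Agent.Lib.Helper6.Fi24SRows17
import Cfsg.Agent.Lib.Helper6.Fi24SRows18
import Cfsg.Agent.Lib.Helper6.Fi24SRows19
import Cfsg.Agent.Lib.Helper6.Fi24SRows20
import Cfsg.Agent.Lib.Helper6.Fi24SRows21
import Cfsg.Agent.Lib.Helper6.Fi24SRows22
import Cfsg.Agent.Lib.Helper6.Fi24SRows23
import Cfsg.Agent.Lib.Helper6.Fi24SRows24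
import Cfsg.Agent.Lib.Helper6.Fi24SRows25
import Cfsg.Agent.Lib.Helper6.Fi24SRows26
import Cfsg.Agent.Lib.Helper6.Fi24SRows27
import Cfsg.Agent.Lib.Helper6.Fi24SRows28
import Cfsg.Agent.Lib.Helper6.Fi24SRows29
import Cfsg.Agent.Lib.Helper6.Fi24SRows30
import Cfsg.Agent.Lib.Helper6.Fi24SRows31
import Cfsg.Agent.Lib.Helper6.Fi24SRows32
import Cfsg.Agent.Lib.Helper6.Fi24SRows33
import Cfsg.Agent.Lib.Helper6.Fi24SRows34
import Cfsg.Agent.Lib.Helper6.Fi24SRows35
import Cfsg.Agent.Lib.Helper6.Fi24SRows36
import Cfsg.Agent.Lib.Helper6.Fi24SRows37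
import Cfsg.Agent.Lib.Helper6.Fi24SRows38
import Cfsg.Agent.Lib.Helper6.Fi24SRows39
import Cfsg.Agent.Lib.Helper6.Fi24SRows40
import Cfsg.Agent.Lib.Helper6.Fi24SRows41
import Cfsg.Agent.Lib.Helper6.Fi24SRows42
import Cfsg.Agent.Lib.Helper6.Fi24SRows43
import Cfsg.Agent.Lib.Helper6.Fi24SRows44
import Cfsg.Agent.Lib.Helper6.Fi24SRows45
import Cfsg.Agent.Lib.Helper6.Fi24SRows46
import Cfsg.Agent.Lib.Helper6.Fi24SRows47
import Cfsg.Agent.Lib.Helper6.Fi24SRows48
import Cfsg.Agent.Lib.Helper6.Fi24SRows49
import Cfsg.Agent.Lib.Helper6.Fi24SRows50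
import Cfsg.Agent.Lib.Helper6.Fi24SRows51
import Cfsg.Agent.Lib.Helper6.Fi24SRows52
import Cfsg.Agent.Lib.Helper6.Fi24SRows53
import Cfsg.Agent.Lib.Helper6.Fi24SRows54
import Cfsg.Agent.Lib.Helper6.Fi24SRows55
import Cfsg.Agent.Lib.Helper6.Fi24SRows56
import Cfsg.Agent.Lib.Helper6.Fi24SRows57
import Cfsg.Agent.Lib.Helper6.Fi24SRows58
import Cfsg.Agent.Lib.Helper6.Fi24SRows59
import Cfsg.Agent.Lib.Helper6.Fi24SRows60

/-! # Fi24: the rows of the coset enumeration are checked -/

set_option autoImplicit false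

namespace Cfsg.Agent.Lib.Helper6.Fi24TC

open Cfsg.Agent.Lib.Helper6.TC Cfsg.Agent.Lib.Helper6.TCS

theorem chk_rows : ∀ a < cert.N, ∀ x < cert.c.g, cert.slotOK a x = true := by
  have r0 : ∀ a, a < 0 → ∀ x < cert.c.g, cert.slotOK a x = true := upto_zero
  have r1 := upto_step (P := fun a => ∀ x < cert.c.g, cert.slotOK a x = true) r0 chk_range0
  have r2 := upto_step (P := fun a => ∀ x < cert.c.g, cert.slotOK a x = true) r1 chk_range1
  have r3 := upto_step (P := fun a => ∀ x < cert.c.g, cert.slotOK a x = true) r2 chk_range2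
  have r4 := upto_step (P := fun a => ∀ x < cert.c.g, cert.slotOK a x = true) r3 chk_range3
  have r5 := upto_step (P := fun a => ∀ x < cert.c.g, cert.slotOK a x = true) r4 chk_range4
  have r6 := upto_step (P := fun a => ∀ x < cert.c.g, cert.slotOK a x = true) r5 chk_range5
  have r7 := upto_step (P := fun a => ∀ x < cert.c.g, cert.slotOK a x = true) r6 chk_range6
  have r8 := upto_step (P := fun a => ∀ x < cert.c.g, cert.slotOK a x = true) r7 chk_range7
  have r9 := upto_step (P := fun a => ∀ x < cert.c.g, cert.slotOK a x = true) r8 chk_range8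
  have r10 := upto_step (P := fun a => ∀ x < cert.c.g, cert.slotOK a x = true) r9 chk_range9
  have r11 := upto_step (P := fun a => ∀ x < cert.c.g, cert.slotOK a x = true) r10 chk_range10
  have r12 := upto_step (P := fun a => ∀ x < cert.c.g, cert.slotOK a x = true) r11 chk_range11
  have r13 := upto_step (P := fun a => ∀ x < cert.c.g, cert.slotOK a x = true) r12 chk_range12
  have r14 := upto_step (P := fun a => ∀ x < cert.c.g, cert.slotOK a x = true) r13 chk_range13
  have r15 := upto_step (P := fun a => ∀ x < cert.c.g, cert.slotOK a x = true) r14 chk_range14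
  have r16 := upto_step (P := fun a => ∀ x < cert.c.g, cert.slotOK a x = true) r15 chk_range15
  have r17 := upto_step (P := fun a => ∀ x < cert.c.g, cert.slotOK a x = true) r16 chk_range16
  have r18 := upto_step (P := fun a => ∀ x < cert.c.g, cert.slotOK a x = true) r17 chk_range17
  have r19 := upto_step (P := fun a => ∀ x < cert.c.g, cert.slotOK a x = true) r18 chk_range18
  have r20 := upto_step (P := fun a => ∀ x < cert.c.g, cert.slotOK a x = true) r19 chk_range19
  have r21 := upto_step (P := fun a => ∀ x < cert.c.g, cert.slotOK a x = true) r20 chk_range20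
  have r22 := upto_step (P := fun a => ∀ x < cert.c.g, cert.slotOK a x = true) r21 chk_range21
  have r23 := upto_step (P := fun a => ∀ x < cert.c.g, cert.slotOK a x = true) r22 chk_range22
  have r24 := upto_step (P := fun a => ∀ x < cert.c.g, cert.slotOK a x = true) r23 chk_range23
  have r25 := upto_step (P := fun a => ∀ x < cert.c.g, cert.slotOK a x = true) r24 chk_range24
  have r26 := upto_step (P := fun a => ∀ x < cert.c.g, cert.slotOK a x = true) r25 chk_range25
  have r27 := upto_step (P := fun a => ∀ x < cert.c.g, cert.slotOK a x = true) r26 chk_range26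
  have r28 := upto_step (P := fun a => ∀ x < cert.c.g, cert.slotOK a x = true) r27 chk_range27
  have r29 := upto_step (P := fun a => ∀ x < cert.c.g, cert.slotOK a x = true) r28 chk_range28
  have r30 := upto_step (P := fun a => ∀ x < cert.c.g, cert.slotOK a x = true) r29 chk_range29
  have r31 := upto_step (P := fun a => ∀ x < cert.c.g, cert.slotOK a x = true) r30 chk_range30
  have r32 := upto_step (P := fun a => ∀ x < cert.c.g, cert.slotOK a x = true) r31 chk_range31
  have r33 := upto_step (P := fun a => ∀ x < cert.c.g, cert.slotOK a x = true) r32 chk_range32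
  have r34 := upto_step (P := fun a => ∀ x < cert.c.g, cert.slotOK a x = true) r33 chk_range33
  have r35 := upto_step (P := fun a => ∀ x < cert.c.g, cert.slotOK a x = true) r34 chk_range34
  have r36 := upto_step (P := fun a => ∀ x < cert.c.g, cert.slotOK a x = true) r35 chk_range35
  have r37 := upto_step (P := fun a => ∀ x < cert.c.g, cert.slotOK a x = true) r36 chk_range36
  have r38 := upto_step (P := fun a => ∀ x < cert.c.g, cert.slotOK a x = true) r37 chk_range37
  have r39 := upto_step (P := fun a => ∀ x < cert.c.g, cert.slotOK a x = true) r38 chk_range38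
  have r40 := upto_step (P := fun a => ∀ x < cert.c.g, cert.slotOK a x = true) r39 chk_range39
  have r41 := upto_step (P := fun a => ∀ x < cert.c.g, cert.slotOK a x = true) r40 chk_range40
  have r42 := upto_step (P := fun a => ∀ x < cert.c.g, cert.slotOK a x = true) r41 chk_range41
  have r43 := upto_step (P := fun a => ∀ x < cert.c.g, cert.slotOK a x = true) r42 chk_range42
  have r44 := upto_step (P := fun a => ∀ x < cert.c.g, cert.slotOK a x = true) r43 chk_range43
  have r45 := upto_step (P := fun a => ∀ x < cert.c.g, cert.slotOK a x = true) r44 chk_range44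
  have r46 := upto_step (P := fun a => ∀ x < cert.c.g, cert.slotOK a x = true) r45 chk_range45
  have r47 := upto_step (P := fun a => ∀ x < cert.c.g, cert.slotOK a x = true) r46 chk_range46
  have r48 := upto_step (P := fun a => ∀ x < cert.c.g, cert.slotOK a x = true) r47 chk_range47
  have r49 := upto_step (P := fun a => ∀ x < cert.c.g, cert.slotOK a x = true) r48 chk_range48
  have r50 := upto_step (P := fun a => ∀ x < cert.c.g, cert.slotOK a x = true) r49 chk_range49
  have r51 := upto_step (P := fun a => ∀ x < cert.c.g, cert.slotOK a x = true) r50 chk_range50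
  have r52 := upto_step (P := fun a => ∀ x < cert.c.g, cert.slotOK a x = true) r51 chk_range51
  have r53 := upto_step (P := fun a => ∀ x < cert.c.g, cert.slotOK a x = true) r52 chk_range52
  have r54 := upto_step (P := fun a => ∀ x < cert.c.g, cert.slotOK a x = true) r53 chk_range53
  have r55 := upto_step (P := fun a => ∀ x < cert.c.g, cert.slotOK a x = true) r54 chk_range54
  have r56 := upto_step (P := fun a => ∀ x < cert.c.g, cert.slotOK a x = true) r55 chk_range55
  have r57 := upto_step (P := fun a => ∀ x < cert.c.g, cert.slotOK a x = true) r56 chk_range56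
  have r58 := upto_step (P := fun a => ∀ x < cert.c.g, cert.slotOK a x = true) r57 chk_range57
  have r59 := upto_step (P := fun a => ∀ x < cert.c.g, cert.slotOK a x = true) r58 chk_range58
  have r60 := upto_step (P := fun a => ∀ x < cert.c.g, cert.slotOK a x = true) r59 chk_range59
  have r61 := upto_step (P := fun a => ∀ x < cert.c.g, cert.slotOK a x = true) r60 chk_range60
  intro a ha
  exact r61 a (lt_of_lt_of_le ha (by show 354060 ≤ 359568; norm_num))

end Cfsg.Agent.Lib.Helper6.Fi24TC
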