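import Cfsg.Agent.Lib.Helper6.Fi24TCChk0
import Cfsg.Agent.Lib.Helper6.Fi24SMRows0
import Cfsg.Agent.Lib.Helper6.Fi24SMRows1
import Cfsg.Agent.Lib.Helper6.Fi24SMRows2
import Cfsg.Agent.Lib.Helper6.Fi24SMRows3
import Cfsg.Agent.Lib.Helper6.Fi24SMRows4
import Cfsg.Agent.Lib.Helper6.Fi24SMRows5
import Cfsg.Agent.Lib.Helper6.Fi24SMRows6
import Cfsg.Agent.Lib.Helper6.Fi24SMRows7
import Cfsg.Agent.Lib.Helper6.Fi24SMRows8
import Cfsg.Agent.Lib.Helper6.Fi24SMRows9
import Cfsg.Agent.Lib.Helper6.Fi24SMRows10
import Cfsg.Agent.Lib.Helper6.Fi24SMRows11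
import Cfsg.Agent.Lib.Helper6.Fi24SMRows12
import Cfsg.Agent.Lib.Helper6.Fi24SMRows13
import Cfsg.Agent.Lib.Helper6.Fi24SMRows14
import Cfsg.Agent.Lib.Helper6.Fi24SMRows15
import Cfsg.Agent.Lib.Helper6.Fi24SMRows16
import Cfsg.Agent.Lib.Helper6.Fi24SMRows17
import Cfsg.Agent.Lib.Helper6.Fi24SMRows18
import Cfsg.Agent.Lib.Helper6.Fi24SMRows19
import Cfsg.Agent.Lib.Helper6.Fi24SMRows20
import Cfsg.Agent.Lib.Helper6.Fi24SMRows21
import Cfsg.Agent.Lib.Helper6.Fi24SMRows22
import Cfsg.Agent.Lib.Helper6.Fi24SFin0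
import Cfsg.Agent.Lib.Helper6.Fi24SFin1
import Cfsg.Agent.Lib.Helper6.Fi24SFin2
import Cfsg.Agent.Lib.Helper6.Fi24SFin3
import Cfsg.Agent.Lib.Helper6.Fi24SFin4
import Cfsg.Agent.Lib.Helper6.Fi24SFin5
import Cfsg.Agent.Lib.Helper6.Fi24SFin6
import Cfsg.Agent.Lib.Helper6.Fi24SFin7
import Cfsg.Agent.Lib.Helper6.Fi24SFin8
import Cfsg.Agent.Lib.Helper6.Fi24SFin9
import Cfsg.Agent.Lib.Helper6.Fi24SFin10
import Cfsg.Agent.Lib.Helper6.Fi24SFin11
import Cfsg.Agent.Lib.Helper6.Fi24SFin12
import Cfsg.Agent.Lib.Helper6.Fi24SFin13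
import Cfsg.Agent.Lib.Helper6.Fi24SFin14
import Cfsg.Agent.Lib.Helper6.Fi24SFin15
import Cfsg.Agent.Lib.Helper6.Fi24SFin16
import Cfsg.Agent.Lib.Helper6.Fi24SFin17

/-! # Fi24: the coset enumeration is checked -/

set_option autoImplicit false

namespace Cfsg.Agent.Lib.Helper6.Fi24TC

open Cfsg.Agent.Lib.Helper6.TC Cfsg.Agent.Lib.Helper6.TCS

theorem chk_mrows : ∀ b < cert.N, cert.mslotOK b = true := by
  refine cert.mrows_of_ranges 16000 23 (by norm_num) (by show 354060 ≤ 23 * 16000; norm_num) ?_
  intro f hf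
  interval_cases f
  · exact chk_mrange0
  · exact chk_mrange1
  · exact chk_mrange2
  · exact chk_mrange3
  · exact chk_mrange4
  · exact chk_mrange5
  · exact chk_mrange6
  · exact chk_mrange7
  · exact chk_mrange8
  · exact chk_mrange9
  · exact chk_mrange10
  · exact chk_mrange11
  · exact chk_mrange12
  · exact chk_mrange13
  · exact chk_mrange14
  · exact chk_mrange15
  · exact chk_mrange16
  · exact chk_mrange17
  · exact chk_mrange18
  · exact chk_mrange19
  · exact chk_mrange20
  · exact chk_mrange21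
  · exact chk_mrange22

theorem chk_fin : cert.finalOK 306936 = true := by
  refine cert.finalOK_of_chunks 306936 2000 154 (by norm_num) (by show 306936 ≤ 154 * 2000; norm_num) ?_
  intro k hk
  interval_cases k
  · exact chk_fin0
  · exact chk_fin1
  · exact chk_fin2
  · exact chk_fin3
  · exact chk_fin4
  · exact chk_fin5
  · exact chk_fin6
  · exact chk_fin7
  · exact chk_fin8
  · exact chk_fin9
  · exact chk_fin10
  · exact chk_fin11
  · exact chk_fin12
  · exact chk_fin13
  · exact chk_fin14
  · exact chk_fin15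
  · exact chk_fin16
  · exact chk_fin17
  · exact chk_fin18
  · exact chk_fin19
  · exact chk_fin20
  · exact chk_fin21
  · exact chk_fin22
  · exact chk_fin23
  · exact chk_fin24
  · exact chk_fin25
  · exact chk_fin26
  · exact chk_fin27
  · exact chk_fin28
  · exact chk_fin29
  · exact chk_fin30
  · exact chk_fin31
  · exact chk_fin32
  · exact chk_fin33
  · exact chk_fin34
  · exact chk_fin35
  · exact chk_fin36
  · exact chk_fin37
  · exact chk_fin38
  · exact chk_fin39
  · exact chk_fin40
  · exact chk_fin41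
  · exact chk_fin42
  · exact chk_fin43
  · exact chk_fin44
  · exact chk_fin45
  · exact chk_fin46
  · exact chk_fin47
  · exact chk_fin48
  · exact chk_fin49
  · exact chk_fin50
  · exact chk_fin51
  · exact chk_fin52
  · exact chk_fin53
  · exact chk_fin54
  · exact chk_fin55
  · exact chk_fin56
  · exact chk_fin57
  · exact chk_fin58
  · exact chk_fin59
  · exact chk_fin60
  · exact chk_fin61
  · exact chk_fin62
  · exact chk_fin63
  · exact chk_fin64
  · exact chk_fin65
  · exact chk_fin66
  · exact chk_fin67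
  · exact chk_fin68
  · exact chk_fin69
  · exact chk_fin70
  · exact chk_fin71
  · exact chk_fin72
  · exact chk_fin73
  · exact chk_fin74
  · exact chk_fin75
  · exact chk_fin76
  · exact chk_fin77
  · exact chk_fin78
  · exact chk_fin79
  · exact chk_fin80
  · exact chk_fin81
  · exact chk_fin82
  · exact chk_fin83
  · exact chk_fin84
  · exact chk_fin85
  · exact chk_fin86
  · exact chk_fin87
  · exact chk_fin88
  · exact chk_fin89
  · exact chk_fin90
  · exact chk_fin91
  · exact chk_fin92
  · exact chk_fin93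
  · exact chk_fin94
  · exact chk_fin95
  · exact chk_fin96
  · exact chk_fin97
  · exact chk_fin98
  · exact chk_fin99
  · exact chk_fin100
  · exact chk_fin101
  · exact chk_fin102
  · exact chk_fin103
  · exact chk_fin104
  · exact chk_fin105
  · exact chk_fin106
  · exact chk_fin107
  · exact chk_fin108
  · exact chk_fin109
  · exact chk_fin110
  · exact chk_fin111
  · exact chk_fin112
  · exact chk_fin113
  · exact chk_fin114
  · exact chk_fin115
  · exact chk_fin116
  · exact chk_fin117
  · exact chk_fin118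
  · exact chk_fin119
  · exact chk_fin120
  · exact chk_fin121
  · exact chk_fin122
  · exact chk_fin123
  · exact chk_fin124
  · exact chk_fin125
  · exact chk_fin126
  · exact chk_fin127
  · exact chk_fin128
  · exact chk_fin129
  · exact chk_fin130
  · exact chk_fin131
  · exact chk_fin132
  · exact chk_fin133
  · exact chk_fin134
  · exact chk_fin135
  · exact chk_fin136
  · exact chk_fin137
  · exact chk_fin138
  · exact chk_fin139
  · exact chk_fin140
  · exact chk_fin141
  · exact chk_fin142
  · exact chk_fin143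
  · exact chk_fin144
  · exact chk_fin145
  · exact chk_fin146
  · exact chk_fin147
  · exact chk_fin148
  · exact chk_fin149
  · exact chk_fin150
  · exact chk_fin151
  · exact chk_fin152
  · exact chk_fin153

theorem hrun : RunCert cfg tab.n :=
  RunCert.of_static cert 306936 (by norm_num) chk_rows chk_mrows chk_fin

end Cfsg.Agent.Lib.Helper6.Fi24TC
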