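import Cfsg.Agent.Lib.Helper6.Fi24Y10TCData
import Cfsg.Agent.Lib.Helper6.Fi24Y10SE
import Cfsg.Agent.Lib.Helper6.Fi24Y10SJ
import Cfsg.Agent.Lib.Helper6.Fi24Y10SM

/-! # Fi24Y10: the table with a proof for every entry -/

set_option autoImplicit false

namespace Cfsg.Agent.Lib.Helper6.Fi24Y10TC

open Cfsg.Agent.Lib.Helper6.TC Cfsg.Agent.Lib.Helper6.TCS

/-- the table with a proof for every entry -/
def cert : SCert := ⟨cfg, 19, 37408, arrE, arrM, arrJ, arrJM, arrP⟩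

end Cfsg.Agent.Lib.Helper6.Fi24Y10TC
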