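import Cfsg.Agent.Lib.Helper6.Fi24Y10SCert
import Cfsg.Agent.Lib.Helper6.TCChunk
import Cfsg.Agent.Lib.Helper6.Fi24Y10SRows2

/-! # Fi24Y10: the kernel check that the first rows are closed, part 1 -/

set_option autoImplicit false

namespace Cfsg.Agent.Lib.Helper6.Fi24Y10TC

open Cfsg.Agent.Lib.Helper6.TC Cfsg.Agent.Lib.Helper6.TCS

theorem chk_fin6 : cert.finalOKc 28431 18000 3000 = true := by decide +kernel

theorem chk_fin7 : cert.finalOKc 28431 21000 3000 = true := by decide +kernel

theorem chk_fin8 : cert.finalOKc 28431 24000 3000 = true := by decide +kernel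

theorem chk_fin9 : cert.finalOKc 28431 27000 3000 = true := by decide +kernel

end Cfsg.Agent.Lib.Helper6.Fi24Y10TC
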