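import Cfsg.Agent.Lib.Helper6.SimpUB
import Cfsg.Prelude.Def_Spor_Fi24

/-! # Sub-presentations of the presented Fischer group Fi24 on the generators l, k, a, b, c, d, e, f, h, i -/

set_option autoImplicit false
set_option linter.unusedSimpArgs false

namespace Cfsg.Agent.Lib.Helper6.Fi24YSub

open Cfsg.Spor Cfsg.Agent.Lib.Helper6.Simp

namespace Y10

/-- the generators l, k, a, b, c, d, e, f, h, i -/
inductive Gen
  | l
  | k
  | a
  | b
  | c
  | d
  | e
  | f
  | h
  | i
  deriving DecidableEq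

abbrev l : FreeGroup Gen := FreeGroup.of Gen.l
abbrev k : FreeGroup Gen := FreeGroup.of Gen.k
abbrev a : FreeGroup Gen := FreeGroup.of Gen.a
abbrev b : FreeGroup Gen := FreeGroup.of Gen.b
abbrev c : FreeGroup Gen := FreeGroup.of Gen.c
abbrev d : FreeGroup Gen := FreeGroup.of Gen.d
abbrev e : FreeGroup Gen := FreeGroup.of Gen.e
abbrev f : FreeGroup Gen := FreeGroup.of Gen.f
abbrev h : FreeGroup Gen := FreeGroup.of Gen.h
abbrev i : FreeGroup Gen := FreeGroup.of Gen.i

/-- the Coxeter graph -/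
def edges : List (Gen × ℕ × Gen) :=
  [(.l, 3, .k), (.k, 3, .a), (.a, 3, .b), (.b, 3, .c), (.c, 3, .d), (.d, 3, .e), (.d, 3, .h), (.e, 3, .f), (.h, 3, .i)]

/-- the further relators -/
def extra : List (FreeGroup Gen) := [  l * ((a * b * c * d * e * f * h) ^ 9)⁻¹]

/-- the inclusion of the generators -/
def ι : Gen → Fi24.Gen
  | .l => .l
  | .k => .k
  | .a => .a
  | .b => .b
  | .c => .c
  | .d => .d
  | .e => .e
  | .f => .f
  | .h => .h
  | .i => .i

end Y10

/-- the group of the sub-presentation on l, k, a, b, c, d, e, f, h, i -/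
abbrev Y10 : Type := CoxPresented Y10.Gen Y10.edges Y10.extra

namespace Y9

/-- the generators l, k, a, b, c, d, e, f, h -/
inductive Gen
  | l
  | k
  | a
  | b
  | c
  | d
  | e
  | f
  | h
  deriving DecidableEq

abbrev l : FreeGroup Gen := FreeGroup.of Gen.l
abbrev k : FreeGroup Gen := FreeGroup.of Gen.k
abbrev a : FreeGroup Gen := FreeGroup.of Gen.a
abbrev b : FreeGroup Gen := FreeGroup.of Gen.b
abbrev c : FreeGroup Gen := FreeGroup.of Gen.c
abbrev d : FreeGroup Gen := FreeGroup.of Gen.d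
abbrev e : FreeGroup Gen := FreeGroup.of Gen.e
abbrev f : FreeGroup Gen := FreeGroup.of Gen.f
abbrev h : FreeGroup Gen := FreeGroup.of Gen.h

/-- the Coxeter graph -/
def edges : List (Gen × ℕ × Gen) :=
  [(.l, 3, .k), (.k, 3, .a), (.a, 3, .b), (.b, 3, .c), (.c, 3, .d), (.d, 3, .e), (.d, 3, .h), (.e, 3, .f)]

/-- the further relators -/
def extra : List (FreeGroup Gen) := [  l * ((a * b * c * d * e * f * h) ^ 9)⁻¹]

/-- the inclusion of the generators -/
def ι : Gen → Y10.Gen
  | .l => .l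
  | .k => .k
  | .a => .a
  | .b => .b
  | .c => .c
  | .d => .d
  | .e => .e
  | .f => .f
  | .h => .h

end Y9

/-- the group of the sub-presentation on l, k, a, b, c, d, e, f, h -/
abbrev Y9 : Type := CoxPresented Y9.Gen Y9.edges Y9.extra

namespace Y7

/-- the generators a, b, c, d, e, f, h -/
inductive Gen
  | a
  | b
  | c
  | d
  | e
  | f
  | h
  deriving DecidableEq

abbrev a : FreeGroup Gen := FreeGroup.of Gen.a
abbrev b : FreeGroup Gen := FreeGroup.of Gen.b
abbrev c : FreeGroup Gen := FreeGroup.of Gen.c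
abbrev d : FreeGroup Gen := FreeGroup.of Gen.d
abbrev e : FreeGroup Gen := FreeGroup.of Gen.e
abbrev f : FreeGroup Gen := FreeGroup.of Gen.f
abbrev h : FreeGroup Gen := FreeGroup.of Gen.h

/-- the Coxeter graph -/
def edges : List (Gen × ℕ × Gen) :=
  [(.a, 3, .b), (.b, 3, .c), (.c, 3, .d), (.d, 3, .e), (.d, 3, .h), (.e, 3, .f)]

/-- the further relators -/
def extra : List (FreeGroup Gen) := []

/-- the inclusion of the generators -/
def ι : Gen → Y9.Gen
  | .a => .a
  | .b => .b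
  | .c => .c
  | .d => .d
  | .e => .e
  | .f => .f
  | .h => .h

end Y7

/-- the group of the sub-presentation on a, b, c, d, e, f, h -/
abbrev Y7 : Type := CoxPresented Y7.Gen Y7.edges Y7.extra

namespace Y6

/-- the generators b, c, d, e, f, h -/
inductive Gen
  | b
  | c
  | d
  | e
  | f
  | h
  deriving DecidableEq

abbrev b : FreeGroup Gen := FreeGroup.of Gen.b
abbrev c : FreeGroup Gen := FreeGroup.of Gen.c
abbrev d : FreeGroup Gen := FreeGroup.of Gen.d
abbrev e : FreeGroup Gen := FreeGroup.of Gen.e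
abbrev f : FreeGroup Gen := FreeGroup.of Gen.f
abbrev h : FreeGroup Gen := FreeGroup.of Gen.h

/-- the Coxeter graph -/
def edges : List (Gen × ℕ × Gen) :=
  [(.b, 3, .c), (.c, 3, .d), (.d, 3, .e), (.d, 3, .h), (.e, 3, .f)]

/-- the further relators -/
def extra : List (FreeGroup Gen) := []

/-- the inclusion of the generators -/
def ι : Gen → Y7.Gen
  | .b => .b
  | .c => .c
  | .d => .d
  | .e => .e
  | .f => .f
  | .h => .h

end Y6

/-- the group of the sub-presentation on b, c, d, e, f, h -/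
abbrev Y6 : Type := CoxPresented Y6.Gen Y6.edges Y6.extra

namespace Y5

/-- the generators b, c, d, e, h -/
inductive Gen
  | b
  | c
  | d
  | e
  | h
  deriving DecidableEq

abbrev b : FreeGroup Gen := FreeGroup.of Gen.b
abbrev c : FreeGroup Gen := FreeGroup.of Gen.c
abbrev d : FreeGroup Gen := FreeGroup.of Gen.d
abbrev e : FreeGroup Gen := FreeGroup.of Gen.e
abbrev h : FreeGroup Gen := FreeGroup.of Gen.h

/-- the Coxeter graph -/
def edges : List (Gen × ℕ × Gen) :=
  [(.b, 3, .c), (.c, 3, .d), (.d, 3, .e), (.d, 3, .h)]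

/-- the further relators -/
def extra : List (FreeGroup Gen) := []

/-- the inclusion of the generators -/
def ι : Gen → Y6.Gen
  | .b => .b
  | .c => .c
  | .d => .d
  | .e => .e
  | .h => .h

end Y5

/-- the group of the sub-presentation on b, c, d, e, h -/
abbrev Y5 : Type := CoxPresented Y5.Gen Y5.edges Y5.extra

namespace Y4

/-- the generators b, c, d, e -/
inductive Gen
  | b
  | c
  | d
  | e
  deriving DecidableEq

abbrev b : FreeGroup Gen := FreeGroup.of Gen.b
abbrev c : FreeGroup Gen := FreeGroup.of Gen.c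
abbrev d : FreeGroup Gen := FreeGroup.of Gen.d
abbrev e : FreeGroup Gen := FreeGroup.of Gen.e

/-- the Coxeter graph -/
def edges : List (Gen × ℕ × Gen) :=
  [(.b, 3, .c), (.c, 3, .d), (.d, 3, .e)]

/-- the further relators -/
def extra : List (FreeGroup Gen) := []

/-- the inclusion of the generators -/
def ι : Gen → Y5.Gen
  | .b => .b
  | .c => .c
  | .d => .d
  | .e => .e

end Y4

/-- the group of the sub-presentation on b, c, d, e -/
abbrev Y4 : Type := CoxPresented Y4.Gen Y4.edges Y4.extra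

/-- `Y10` maps to `Fi24` -/
def subY10 : SubPres Fi24.edges Fi24.extra Y10.edges Y10.extra where
  ι := Y10.ι
  hnode := by decide
  hlabel := by decide
  hextra := by
    intro r hr
    simp only [Y10.extra, List.mem_cons, List.not_mem_nil, or_false] at hr
    rcases hr with rfl
    simp only [map_mul, map_inv, map_pow, FreeGroup.map.of, Y10.ι, Fi24.extra, List.mem_cons,
      true_or, or_true]

/-- `Y9` maps to `Y10` -/
def subY9 : SubPres Y10.edges Y10.extra Y9.edges Y9.extra where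
  ι := Y9.ι
  hnode := by decide
  hlabel := by decide
  hextra := by
    intro r hr
    simp only [Y9.extra, List.mem_cons, List.not_mem_nil, or_false] at hr
    rcases hr with rfl
    simp only [map_mul, map_inv, map_pow, FreeGroup.map.of, Y9.ι, Y10.extra, List.mem_cons,
      true_or, or_true]

/-- `Y7` maps to `Y9` -/
def subY7 : SubPres Y9.edges Y9.extra Y7.edges Y7.extra where
  ι := Y7.ι
  hnode := by decide
  hlabel := by decide
  hextra := by
    intro r hr
    simp [Y7.extra] at hr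

/-- `Y6` maps to `Y7` -/
def subY6 : SubPres Y7.edges Y7.extra Y6.edges Y6.extra where
  ι := Y6.ι
  hnode := by decide
  hlabel := by decide
  hextra := by
    intro r hr
    simp [Y6.extra] at hr

/-- `Y5` maps to `Y6` -/
def subY5 : SubPres Y6.edges Y6.extra Y5.edges Y5.extra where
  ι := Y5.ι
  hnode := by decide
  hlabel := by decide
  hextra := by
    intro r hr
    simp [Y5.extra] at hr

/-- `Y4` maps to `Y5` -/
def subY4 : SubPres Y5.edges Y5.extra Y4.edges Y4.extra where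
  ι := Y4.ι
  hnode := by decide
  hlabel := by decide
  hextra := by
    intro r hr
    simp [Y4.extra] at hr

theorem rangeY10 : (Set.range fun y => FreeGroup.of (subY10.ι y)) =
    ({Fi24.l, Fi24.k, Fi24.a, Fi24.b, Fi24.c, Fi24.d, Fi24.e, Fi24.f, Fi24.h, Fi24.i} : Set (FreeGroup Fi24.Gen)) := by
  ext z
  constructor
  · rintro ⟨y, rfl⟩
    cases y <;> simp [subY10, Y10.ι]
  · intro hz
    simp only [Set.mem_insert_iff, Set.mem_singleton_iff] at hz
    rcases hz with rfl | rfl | rfl | rfl | rfl | rfl | rfl | rfl | rfl | rfl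
    · exact ⟨.l, rfl⟩
    · exact ⟨.k, rfl⟩
    · exact ⟨.a, rfl⟩
    · exact ⟨.b, rfl⟩
    · exact ⟨.c, rfl⟩
    · exact ⟨.d, rfl⟩
    · exact ⟨.e, rfl⟩
    · exact ⟨.f, rfl⟩
    · exact ⟨.h, rfl⟩
    · exact ⟨.i, rfl⟩

theorem rangeY9 : (Set.range fun y => FreeGroup.of (subY9.ι y)) =
    ({Y10.l, Y10.k, Y10.a, Y10.b, Y10.c, Y10.d, Y10.e, Y10.f, Y10.h} : Set (FreeGroup Y10.Gen)) := by
  ext z
  constructor
  · rintro ⟨y, rfl⟩
    cases y <;> simp [subY9, Y9.ι]
  · intro hz
    simp only [Set.mem_insert_iff, Set.mem_singleton_iff] at hz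
    rcases hz with rfl | rfl | rfl | rfl | rfl | rfl | rfl | rfl | rfl
    · exact ⟨.l, rfl⟩
    · exact ⟨.k, rfl⟩
    · exact ⟨.a, rfl⟩
    · exact ⟨.b, rfl⟩
    · exact ⟨.c, rfl⟩
    · exact ⟨.d, rfl⟩
    · exact ⟨.e, rfl⟩
    · exact ⟨.f, rfl⟩
    · exact ⟨.h, rfl⟩

theorem rangeY7 : (Set.range fun y => FreeGroup.of (subY7.ι y)) =
    ({Y9.a, Y9.b, Y9.c, Y9.d, Y9.e, Y9.f, Y9.h} : Set (FreeGroup Y9.Gen)) := by
  ext z
  constructor
  · rintro ⟨y, rfl⟩
    cases y <;> simp [subY7, Y7.ι]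
  · intro hz
    simp only [Set.mem_insert_iff, Set.mem_singleton_iff] at hz
    rcases hz with rfl | rfl | rfl | rfl | rfl | rfl | rfl
    · exact ⟨.a, rfl⟩
    · exact ⟨.b, rfl⟩
    · exact ⟨.c, rfl⟩
    · exact ⟨.d, rfl⟩
    · exact ⟨.e, rfl⟩
    · exact ⟨.f, rfl⟩
    · exact ⟨.h, rfl⟩

theorem rangeY6 : (Set.range fun y => FreeGroup.of (subY6.ι y)) =
    ({Y7.b, Y7.c, Y7.d, Y7.e, Y7.f, Y7.h} : Set (FreeGroup Y7.Gen)) := by
  ext z
  constructor
  · rintro ⟨y, rfl⟩
    cases y <;> simp [subY6, Y6.ι]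
  · intro hz
    simp only [Set.mem_insert_iff, Set.mem_singleton_iff] at hz
    rcases hz with rfl | rfl | rfl | rfl | rfl | rfl
    · exact ⟨.b, rfl⟩
    · exact ⟨.c, rfl⟩
    · exact ⟨.d, rfl⟩
    · exact ⟨.e, rfl⟩
    · exact ⟨.f, rfl⟩
    · exact ⟨.h, rfl⟩

theorem rangeY5 : (Set.range fun y => FreeGroup.of (subY5.ι y)) =
    ({Y6.b, Y6.c, Y6.d, Y6.e, Y6.h} : Set (FreeGroup Y6.Gen)) := by
  ext z
  constructor
  · rintro ⟨y, rfl⟩
    cases y <;> simp [subY5, Y5.ι]
  · intro hz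
    simp only [Set.mem_insert_iff, Set.mem_singleton_iff] at hz
    rcases hz with rfl | rfl | rfl | rfl | rfl
    · exact ⟨.b, rfl⟩
    · exact ⟨.c, rfl⟩
    · exact ⟨.d, rfl⟩
    · exact ⟨.e, rfl⟩
    · exact ⟨.h, rfl⟩

theorem rangeY4 : (Set.range fun y => FreeGroup.of (subY4.ι y)) =
    ({Y5.b, Y5.c, Y5.d, Y5.e} : Set (FreeGroup Y5.Gen)) := by
  ext z
  constructor
  · rintro ⟨y, rfl⟩
    cases y <;> simp [subY4, Y4.ι]
  · intro hz
    simp only [Set.mem_insert_iff, Set.mem_singleton_iff] at hz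
    rcases hz with rfl | rfl | rfl | rfl
    · exact ⟨.b, rfl⟩
    · exact ⟨.c, rfl⟩
    · exact ⟨.d, rfl⟩
    · exact ⟨.e, rfl⟩

end Cfsg.Agent.Lib.Helper6.Fi24YSub
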