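import Cfsg.Agent.Lib.Helper6.Fi24Y10TCData
import Cfsg.Agent.Lib.Helper6.TCInst
import Cfsg.Agent.Lib.Helper6.TCChunk
import Cfsg.Agent.Lib.Helper6.Fi24YSub
import Cfsg.Agent.Lib.Helper6.Fi24Y10TCRel0
import Cfsg.Agent.Lib.Helper6.Fi24Y10TCRel1
import Cfsg.Agent.Lib.Helper6.Fi24Y10TCRel2
import Cfsg.Agent.Lib.Helper6.Fi24Y10TCRel3
import Cfsg.Agent.Lib.Helper6.Fi24Y10TCRel4
import Cfsg.Agent.Lib.Helper6.Fi24Y10TCRel5
import Cfsg.Agent.Lib.Helper6.Fi24Y10TCRel6
import Cfsg.Agent.Lib.Helper6.Fi24Y10TCRel7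
import Cfsg.Agent.Lib.Helper6.Fi24Y10TCRel8
import Cfsg.Agent.Lib.Helper6.Fi24Y10TCRel9
import Cfsg.Agent.Lib.Helper6.Fi24Y10TCRel10
import Cfsg.Agent.Lib.Helper6.Fi24Y10TCRel11
import Cfsg.Agent.Lib.Helper6.Fi24Y10TCTab0
import Cfsg.Agent.Lib.Helper6.Fi24Y10TCTab1
import Cfsg.Agent.Lib.Helper6.Fi24Y10TCTree0
import Cfsg.Agent.Lib.Helper6.Fi24Y10TCTree1

/-! # Fi24Y10: the checks of the words, the coset table and the relators -/

set_option autoImplicit false

namespace Cfsg.Agent.Lib.Helper6.Fi24Y10TC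

open Cfsg.Agent.Lib.Helper6.TC Cfsg.Spor Cfsg.Agent.Lib.Helper6.Fi24YSub

/-- the generator with a given code -/
def gen : ℕ → Y10.Gen
  | 0 => .l
  | 1 => .k
  | 2 => .a
  | 3 => .b
  | 4 => .c
  | 5 => .d
  | 6 => .e
  | 7 => .f
  | 8 => .h
  | _ => .i

/-- the code of a generator -/
def code : Y10.Gen → ℕ
  | .l => 0
  | .k => 1
  | .a => 2
  | .b => 3
  | .c => 4
  | .d => 5
  | .e => 6
  | .f => 7
  | .h => 8
  | .i => 9

theorem chk_words : wordsSrcOK cfg (coxWordsL Y10.edges gen cfg.g ++ extraWords) nw srcs = true := by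
  decide +kernel

theorem chk_tab : tab.tabOK = true := by
  refine tab.tabOK_of_chunks 3000 10 (by norm_num) (by show 28431 ≤ 10 * 3000; norm_num) ?_
  intro k hk
  interval_cases k
  · exact chk_tab0
  · exact chk_tab1
  · exact chk_tab2
  · exact chk_tab3
  · exact chk_tab4
  · exact chk_tab5
  · exact chk_tab6
  · exact chk_tab7
  · exact chk_tab8
  · exact chk_tab9

theorem chk_tree : tab.treeOK = true := by
  refine tab.treeOK_of_chunks 3000 10 (by norm_num) (by show 28431 ≤ 10 * 3000; norm_num) ?_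
  intro k hk
  interval_cases k
  · exact chk_tree0
  · exact chk_tree1
  · exact chk_tree2
  · exact chk_tree3
  · exact chk_tree4
  · exact chk_tree5
  · exact chk_tree6
  · exact chk_tree7
  · exact chk_tree8
  · exact chk_tree9

theorem extraWords_eq : (extraPow.map fun p => (List.replicate p.2 p.1).flatten) = extraWords := by
  decide +kernel

theorem pows_eq : coxPairs Y10.edges gen tab.g ++ extraPow = allPow := by
  decide +kernel

theorem chk_pows : tab.powsOK (coxPairs Y10.edges gen tab.g ++ extraPow) = true := by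
  rw [pows_eq]
  simp only [allPow, Tab.powsOK_cons, Tab.powsOK_nil, Bool.and_eq_true, and_true]
  exact ⟨chk_pow0, chk_pow1, chk_pow2, chk_pow3, chk_pow4, chk_pow5, chk_pow6, chk_pow7, chk_pow8, chk_pow9, chk_pow10, chk_pow11, chk_pow12, chk_pow13, chk_pow14, chk_pow15, chk_pow16, chk_pow17, chk_pow18, chk_pow19, chk_pow20, chk_pow21, chk_pow22, chk_pow23, chk_pow24, chk_pow25, chk_pow26, chk_pow27, chk_pow28, chk_pow29, chk_pow30, chk_pow31, chk_pow32, chk_pow33, chk_pow34, chk_pow35, chk_pow36, chk_pow37, chk_pow38, chk_pow39, chk_pow40, chk_pow41, chk_pow42, chk_pow43, chk_pow44, chk_pow45⟩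

theorem chk_rels : tab.relsOK (coxWordsL Y10.edges gen cfg.g ++ extraWords) = true := by
  rw [← extraWords_eq]
  exact Tab.relsOK_of_powsOK chk_tab Y10.edges gen extraPow chk_pows

theorem chk_sub : subOK cfg tab subW = true := by decide +kernel

end Cfsg.Agent.Lib.Helper6.Fi24Y10TC
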