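import Cfsg.Agent.Lib.Helper6.TCPerm

/-! # Coset enumeration data for Fi24Y4: configuration, table, words (generated) -/

set_option autoImplicit false
set_option maxRecDepth 1000000
set_option maxHeartbeats 4000000

namespace Cfsg.Agent.Lib.Helper6.Fi24Y4TC

open Cfsg.Agent.Lib.Helper6.TC

/-- the configuration of the enumeration -/
def cfg : Cfg := ⟨4, 7, 1000000, 0, 32, 0x3302232323063232320600002202001313040031310412121206212121060000110200030304003030040002020400202004010101061010100600000002⟩

/-- the number of words -/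
def nw : ℕ := 16

/-- the words of the further relators -/
def extraWords : List (List ℕ) := []

/-- where the words come from -/
def srcs : List ℕ := [0, 512, 514, 1024, 1026, 1536, 1538, 2560, 3072, 3074, 3584, 3586, 5120, 5632, 5634, 7680]

/-- the coset table -/
def tab : Tab := ⟨4, 7, 120, .leaf 0x77edd7a78e7cb8f0f1bf772dbe3671ddafc6aefa7475cfdf374d197bf6d5931e4c5db0e3e983b5feb8af66bd77ae5b9d2ef3e16ed5bb3cec5ae35f9d6e566aecab5396ba7c6a6fa5c28eeb54384fdfb67519d377d099ba6edad3e5cbd92b6d493b35c8d7324e98faa368c717544d39e1c6870b4c583a2167bf12040ccff3dd7d9b2bdcb05f3cc91dde176eb260738dd62797dc38c2df13a6d87035c171b5e80d2fb46779bb2bacee5c7ad5931b74985860bedd75d697d963596adb0b2caf5762baaaf4d5d596a6b295155627a8a29d390a93d29ec5326a29694d4946823a0b924e4c8a7a2433a5209a8664c472104a3f2d11e95250c94e7a44788f0e9d8c723c2371a29a8ae4dc33a66219310df9784620c134f4bbf2d00c957ef8c3e6455ebb7051e1426ece12744dcb96a6893722e1a106ed99b62441a8f68588b31ec88305a3988e1ac128c5e3572e548c62c16b548a58ad42b1829509527c5a8129c52510987074a906a4401d1864420fa10c80f1f3c2431c0a74a04386c99b2e10d033214b18065ca962a3c1822844293044821120087811c2c40d023038b14044880e18085080c100⟩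

/-- the words of the generators of the subgroup -/
def subW : List (List ℕ) := []


end Cfsg.Agent.Lib.Helper6.Fi24Y4TC
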