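import Cfsg.Agent.Lib.Helper6.TCCheck

/-! # Coset enumeration data for Fi24Y6: the trace (generated) -/

set_option autoImplicit false
set_option maxRecDepth 1000000
set_option maxHeartbeats 4000000

namespace Cfsg.Agent.Lib.Helper6.Fi24Y6TC

open Cfsg.Agent.Lib.Helper6.TC

/-- the operations of the enumeration -/
def trace : List (List ℕ) := [[268435456, 201326596, 134217736, 67108876, 335544332, 16, 335544336, 335544344, 134217756, 134217760, 201326628, 67108904, 201326632, 268435500, 201326640, 268435508, 134217788, 268435516, 268435524, 335544388, 201326668, 335544396, 335544404, 134217820, 67108960, 100, 551299317773, 550695338001, 275481886749, 275616104485, 551030882345, 275750322221, 276354302005, 551634862141, 552305950789, 552104624205, 0, 274877906946, 550561120257, 550426902533, 550292684809, 825036374029, 550695337997, 551299317785, 825774571553, 826378551345, 826848313413, 552104624197, 552305950805, 551701971037, 551232208993, 550628229221, 67108864, 274945015810, 551165100033, 551030882309, 825774571529, 550359793681, 826646986769, 826646986777, 552171733029, 551366426665, 552171733033, 552373059629, 552171733041, 552373059637, 826714095677, 552373059645, 551634862161, 826378551385, 551097991265, 550494011493, 134217728, 275012124674, 551634862081, 826378551301, 551097991181,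 552104624141, 550494011409, 552104624145, 552104624153, 826445660189, 826445660193, 551634862125, 825841680437, 551634862133, 551165100101, 551299317829, 551030882381, 551299317837, 551299317845, 825774571613, 550359793765, 201326592, 275079233538, 826848313345, 551701970953, 551232208909, 552305950733, 550628229137, 552305950737, 552305950745, 551701970973, 551701970977, 826915422245, 551232208937, 826915422249, 826915422257, 826445660233, 826646986837, 551366426721, 550762446949, 335544320, 275146342402, 552373059585, 552171732997, 826714095625, 825841680405, 825103482917, 551030882341, 550426902577, 551165100077, 550292684861, 550561120317, 550561120325, 550695338053, 550426902605, 550695338061, 550695338069, 550292684893, 825036374113]]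

end Cfsg.Agent.Lib.Helper6.Fi24Y6TC
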