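import Cfsg.Agent.Lib.Helper6.TCPerm

/-! # Coset enumeration data for Fi24Y7: configuration, table, words (generated) -/

set_option autoImplicit false
set_option maxRecDepth 1000000
set_option maxHeartbeats 4000000

namespace Cfsg.Agent.Lib.Helper6.Fi24Y7TC

open Cfsg.Agent.Lib.Helper6.TC

/-- the configuration of the enumeration -/
def cfg : Cfg := ⟨7, 6, 1000000, 6, 32, 0x6602005656040065650400005502004646040064640445454506545454060000440236363606636363060035350400535304343434064343430600003302002626040062620400252504005252040024240400424204232323063232320600002202001616040061610400151504005151040014140400414104001313040031310412121206212121060000110200060604006060040005050400505004000404040040400400030304003030040002020400202004010101061010100600000002000006010000050100000401000003010000020100000101⟩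

/-- the number of words -/
def nw : ℕ := 55

/-- the words of the further relators -/
def extraWords : List (List ℕ) := []

/-- where the words come from -/
def srcs : List ℕ := [0, 512, 514, 1024, 1026, 1536, 1538, 2048, 2050, 2560, 2562, 3072, 3074, 4096, 4608, 4610, 5120, 5122, 5632, 5634, 6144, 6146, 6656, 6658, 8192, 8704, 8706, 9216, 9218, 9728, 9730, 10240, 10242, 12288, 12800, 12802, 13312, 13314, 13824, 13826, 16384, 16896, 16898, 17408, 17410, 20480, 20992, 20994, 24576]

/-- the coset table -/
def tab : Tab := ⟨7, 6, 56, .leaf 0x38e38e38e37df7df7df6e36db6db5df6d75d74db5d72d33d74d34c31d33cf3cf4cb0cb2cb2bb3c71c71c73bb2bf0c30becbf0b6fbf1c2eb2ebaeb6ab6dbebb6cbe9baab2cae7aebaeda2ab66aac9eaa69b299a9a68968a28a2b9eb9279ea9669aa8e99269688a59659e49278649a28238e68e18e28a57e28a47618647a37e38208207606df7e271f85a79e7a179c85d75d6a06d871c71f65e7db6db61b75e69a5dd69859965965c65c61855b59a5d751a5d75595964966165554585525d44d75145114d44d34d341248e58f55245055144e5104504103533cf30f48f3ce35238c44e34e34d2d034c2cf28e30c2cc2c934b2c824a30a28a18a1cb24924a1882082081472471c71c92051861861c51841451441041431040c30c31020c20820820c1041041041080⟩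

/-- the words of the generators of the subgroup -/
def subW : List (List ℕ) := [[1], [2], [3], [4], [5], [6]]


end Cfsg.Agent.Lib.Helper6.Fi24Y7TC
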