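import Cfsg.Agent.Lib.Helper6.Fi24YSub
import Cfsg.Agent.Lib.Helper6.Fi24Y10TC
import Cfsg.Agent.Lib.Helper6.Fi24Y9TC
import Cfsg.Agent.Lib.Helper6.Fi24Y7TC
import Cfsg.Agent.Lib.Helper6.Fi24Y6TC
import Cfsg.Agent.Lib.Helper6.Fi24Y5TC
import Cfsg.Agent.Lib.Helper6.Fi24Y4TC
import Cfsg.Agent.Lib.Helper6.Fi24Y10Simp
import Cfsg.Agent.Lib.Helper6.SimpWPC

/-! # The spider relation holds in the presented Fischer group Fi24

The sub-presentation on the generators `l, k, a, b, c, d, e, f, h, i` defines a finite group of
order 9904359628800, in which the word problem is solved by the action on 28431 cosets; the tenth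
power of the spider word is trivial there, hence in the presented group Fi24. -/

set_option autoImplicit false
set_option maxRecDepth 100000

noncomputable section

namespace Cfsg.Agent.Lib.Helper6.Fi24YSpider

open Cfsg.Spor Cfsg.Agent.Lib.Helper6.TC Cfsg.Agent.Lib.Helper6.Simp
  Cfsg.Agent.Lib.Helper6.SimpWP Cfsg.Agent.Lib.Helper6.SimpWPC Cfsg.Agent.Lib.Helper6.Fi24YSub

/-- the upper bound for the order, along the chain of sub-presentations -/
theorem ub : Finite Y10 ∧ Nat.card Y10 ≤ 9904359628800 := by
  have h5 := finite_card_of_index_empty Fi24Y4TC.main (by norm_num)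
  have h4 := subY4.finite_card_le Fi24Y5TC.S rangeY4.symm Fi24Y5TC.main (by norm_num) h5.1
    (le_of_eq h5.2)
  have h3 := subY5.finite_card_le Fi24Y6TC.S rangeY5.symm Fi24Y6TC.main (by norm_num) h4.1 h4.2
  have h2 := subY6.finite_card_le Fi24Y7TC.S rangeY6.symm Fi24Y7TC.main (by norm_num) h3.1 h3.2
  have h1 := subY7.finite_card_le Fi24Y9TC.S rangeY7.symm Fi24Y9TC.main (by norm_num) h2.1 h2.2
  have h0 := subY9.finite_card_le Fi24Y10TC.S rangeY9.symm Fi24Y10TC.main (by norm_num) h1.1 h1.2
  exact ⟨h0.1, h0.2.trans (by norm_num)⟩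

section

variable {α : Type} [DecidableEq α] {edges : List (α × ℕ × α)} {extra : List (FreeGroup α)}
  {S : Set (FreeGroup α)} (D : CoxData edges extra S)

/-- the order, and the action on the cosets is faithful, from an upper bound and a chain of
stabilizers -/
theorem card_eq_and_injective_cox {N : ℕ}
    (hub : Finite (CoxPresented α edges extra) ∧ Nat.card (CoxPresented α edges extra) ≤ N)
    (Ls : List Level) (hchain : ChainOK D.T [] Ls) (hprod : chainProd Ls = N) :
    Nat.card (CoxPresented α edges extra) = N ∧ Function.Injective D.cert.ρ := by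
  obtain ⟨hfin, hle⟩ := hub
  set ρ := D.cert.ρ with hρ
  have hΓ : ∀ x, x < D.T.g → D.T.perm D.chk_tab x ∈ ρ.range := by
    intro x hx
    rw [D.hTg] at hx
    exact ⟨PresentedGroup.of (D.gen x), ρ_of_gen D hx⟩
  have hlow : N ≤ Nat.card ρ.range := by
    rw [← hprod]
    exact chainProd_le_card D.chk_tab hΓ hchain
  have hsurj : Function.Surjective ρ.rangeRestrict := ρ.rangeRestrict_surjective
  have hbij : Function.Bijective ρ.rangeRestrict :=
    hsurj.bijective_of_nat_card_le (hle.trans hlow)
  refine ⟨le_antisymm hle (hlow.trans (Nat.card_le_card_of_surjective _ hsurj)), ?_⟩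
  intro x y hxy
  apply hbij.1
  exact Subtype.ext hxy

end

/-- the order of the group of the sub-presentation, and its action on the cosets is faithful -/
theorem card_inj : Nat.card Y10 = 9904359628800 ∧ Function.Injective Fi24Y10TC.data.cert.ρ :=
  card_eq_and_injective_cox Fi24Y10TC.data ub Fi24Y10Simp.levels Fi24Y10Simp.chain_ok
    Fi24Y10Simp.chain_prod

instance finiteY10 : Finite Y10 := ub.1

/-- the base points -/
def base : List ℕ := [13, 1177, 169, 0]

theorem base_eq : allFixed Fi24Y10Simp.levels [] = base := by decide +kernel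

/-- **the word problem** of the group of the sub-presentation -/
theorem wp (w : List ℕ) (h : SimpWPC.fixOK Fi24Y10TC.tab base w = true) :
    Simp.wordG Fi24Y10TC.data w = 1 := by
  refine wordG_eq_one_of_fixOK Fi24Y10TC.data card_inj.1 card_inj.2 Fi24Y10Simp.levels
    Fi24Y10Simp.chain_ok Fi24Y10Simp.chain_prod (by norm_num) w ?_
  rw [base_eq]
  exact h

/-- the spider word `d c b d e f d h i` -/
def spider : List ℕ := [5, 4, 3, 5, 6, 7, 5, 8, 9]

theorem chk_spider : SimpWPC.fixOK Fi24Y10TC.tab base ((List.replicate 10 spider).flatten) = true := by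
  decide +kernel

/-- the tenth power of the spider word is trivial in the group of the sub-presentation -/
theorem spider_Y10 : Simp.wordG Fi24Y10TC.data ((List.replicate 10 spider).flatten) = 1 :=
  wp _ chk_spider

/-- the image of a word in the presented group Fi24 -/
theorem hom_wordG (w : List ℕ) : subY10.hom (Simp.wordG Fi24Y10TC.data w) =
    (w.map fun x => (PresentedGroup.of (Y10.ι (Fi24Y10TC.gen x)) : Fi24)).prod := by
  unfold Simp.wordG
  rw [map_list_prod, List.map_map]
  have h : (⇑subY10.hom ∘ fun y => (PresentedGroup.of (Fi24Y10TC.data.gen y) : Y10)) =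
      fun x => (PresentedGroup.of (Y10.ι (Fi24Y10TC.gen x)) : Fi24) := by
    funext x
    exact subY10.hom_of _
  rw [h]

/-- **the spider relation** in the presented group Fi24 -/
theorem spider_Fi24 :
    ((PresentedGroup.of Fi24.Gen.d * PresentedGroup.of Fi24.Gen.c * PresentedGroup.of Fi24.Gen.b *
      PresentedGroup.of Fi24.Gen.d * PresentedGroup.of Fi24.Gen.e * PresentedGroup.of Fi24.Gen.f *
      PresentedGroup.of Fi24.Gen.d * PresentedGroup.of Fi24.Gen.h *
      PresentedGroup.of Fi24.Gen.i : Fi24)) ^ 10 = 1 := by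
  have h := congrArg subY10.hom spider_Y10
  rw [map_one, hom_wordG, List.map_flatten, List.prod_flatten, List.map_replicate,
    List.map_replicate, List.prod_replicate] at h
  rw [← h]
  simp only [spider, List.map_cons, List.map_nil, List.prod_cons, List.prod_nil, mul_one,
    mul_assoc]
  rfl

end Cfsg.Agent.Lib.Helper6.Fi24YSpider

end
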