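import Cfsg.Agent.Lib.Helper6.ChevMatL

/-! # Square matrices indexed by `Fin n`, given by the lists of their rows or columns -/

set_option autoImplicit false

namespace Cfsg.Agent.Lib.Helper6.FinMatL

open Cfsg.Agent.Lib.Helper6.ChevMatL

variable {F : Type*} [Field F] (n : ℕ)

/-- the matrix with the given rows -/
def toF (X : List (List F)) : Matrix (Fin n) (Fin n) F :=
  Matrix.of fun i j => entry X i.val j.val

/-- the matrix with the given columns -/
def toFt (Yt : List (List F)) : Matrix (Fin n) (Fin n) F :=
  Matrix.of fun i j => entry Yt j.val i.val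

theorem toF_apply (X : List (List F)) (i j : Fin n) : toF n X i j = entry X i.val j.val := rfl

theorem toFt_apply (Yt : List (List F)) (i j : Fin n) : toFt n Yt i j = entry Yt j.val i.val := rfl

theorem toF_mulT (X Yt : List (List F)) (h : colsOK n Yt) :
    toF n X * toFt n Yt = toF n (mulT X Yt) := by
  ext i j
  rw [Matrix.mul_apply, toF_apply, entry_mulT X Yt h,
    ← Fin.sum_univ_eq_sum_range (fun k => entry X i.val k * entry Yt j.val k) n]
  rfl

theorem toF_one : (1 : Matrix (Fin n) (Fin n) F) = toF n (idL n) := by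
  ext i j
  rw [toF_apply, entry_idL i.isLt j.isLt, Matrix.one_apply]
  by_cases h : i = j
  · rw [if_pos h, if_pos (congrArg _ h)]
  · rw [if_neg h, if_neg (fun h' => h (Fin.ext h'))]

theorem toF_foldl (Ms : List (List (List F))) (h : ∀ Yt ∈ Ms, colsOK n Yt) :
    ∀ A : List (List F), toF n (Ms.foldl mulT A) = toF n A * (Ms.map (toFt n)).prod := by
  induction Ms with
  | nil =>
    intro A
    simp
  | cons Y Ms ih =>
    intro A
    rw [List.foldl_cons, ih (fun Yt hY => h Yt (List.mem_cons_of_mem _ hY)), List.map_cons,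
      List.prod_cons, ← mul_assoc, toF_mulT n A Y (h Y List.mem_cons_self)]

theorem toF_prodT (Ms : List (List (List F))) (h : ∀ Yt ∈ Ms, colsOK n Yt) :
    toF n (prodT n Ms) = (Ms.map (toFt n)).prod := by
  unfold prodT
  rw [toF_foldl n Ms h, ← toF_one, one_mul]

end Cfsg.Agent.Lib.Helper6.FinMatL
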