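import Cfsg.Agent.Lib.Helper6.SimpUB

/-! # A presentation of the unitary group U3(3) on four involutions -/

set_option autoImplicit false
set_option linter.unusedSimpArgs false

namespace Cfsg.Agent.Lib.Helper6.U33Sub

open Cfsg.Spor Cfsg.Agent.Lib.Helper6.Simp

namespace P4

/-- the generators a, b, c, d -/
inductive Gen
  | a
  | b
  | c
  | d
  deriving DecidableEq

abbrev a : FreeGroup Gen := FreeGroup.of Gen.a
abbrev b : FreeGroup Gen := FreeGroup.of Gen.b
abbrev c : FreeGroup Gen := FreeGroup.of Gen.c
abbrev d : FreeGroup Gen := FreeGroup.of Gen.d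

/-- the Coxeter graph -/
def edges : List (Gen × ℕ × Gen) :=
  [(.a, 4, .b), (.a, 3, .d), (.b, 3, .c), (.b, 3, .d), (.c, 4, .d)]

/-- the further relators -/
def extra : List (FreeGroup Gen) := [  d * a * c * d * c * a * d * c * a,
  (a * d * a * b) ^ 3,
  (b * d * b * c) ^ 3]

end P4

/-- the presented group -/
abbrev P4 : Type := CoxPresented P4.Gen P4.edges P4.extra

end Cfsg.Agent.Lib.Helper6.U33Sub
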