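import Cfsg.Agent.Lib.Helper6.U33PSimp
import Cfsg.Agent.Lib.Helper6.U33PTC
import Cfsg.Agent.Lib.Helper6.U33P0TC

/-! # The presented group `P4` (that is `U3(3)`) is simple of order 6048 -/

set_option autoImplicit false

namespace Cfsg.Agent.Lib.Helper6.U33Simple

open Cfsg.Spor Cfsg.Agent.Lib.Helper6.Simp Cfsg.Agent.Lib.Helper6.U33Sub
  Cfsg.Agent.Lib.Helper6.TC Cfsg.Agent.Lib.Helper6.NatArr

/-- the order is at most 6048 -/
theorem ub : Finite P4 ∧ Nat.card P4 ≤ 6048 := by
  have h := finite_card_of_index_empty U33P0TC.main (by norm_num)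
  exact ⟨h.1, le_of_eq h.2⟩

theorem chk_cover : allBelow 28 (fun b => Nat.beq b 0 || btest U33PTC.orbB1 b) = true := by
  decide +kernel

theorem chk_o : U33PTC.orbB1.testBit 0 = false := by decide +kernel

/-- **the presented group is simple of order 6048** -/
theorem main : IsSimpleGroup P4 ∧ Nat.card P4 = 6048 := by
  refine simple_card U33PTC.data ub U33PSimp.levels U33PSimp.chain_ok U33PSimp.chain_prod
    (r := 1) ![U33PTC.orb1] ![27]
    ?_ ?_ ?_ ?_ ?_ 7 ?_ U33PSimp.us U33PSimp.chk_pow ?_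
  · intro i
    fin_cases i
    exact U33PTC.chk_cnt1
  · intro b hb
    have h := allBelow_spec _ _ chk_cover b hb
    simp only [Bool.or_eq_true, btest_eq] at h
    rcases h with h | h
    · exact Or.inl (Nat.eq_of_beq_eq_true h)
    · exact Or.inr ⟨0, h⟩
  · intro i j hij
    fin_cases i
    fin_cases j
    exact absurd rfl hij
  · intro i
    fin_cases i
    exact chk_o
  · show ∀ I : Finset (Fin 1), I.Nonempty → (1 + ∑ i ∈ I, ![27] i) ∣ 28 →
      1 + ∑ i ∈ I, ![27] i = 28
    decide
  · show (6048 / 28).Coprime 7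
    norm_num
  · show 1 < 28
    norm_num

end Cfsg.Agent.Lib.Helper6.U33Simple
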