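import Cfsg.Agent.Lib.Helper6.G22Mat
import Cfsg.Agent.Lib.Helper6.U33Simple
import Cfsg.Agent.Lib.Helper6.CommCyc
import Cfsg.Agent.Lib.Helper6.CoxLift

/-! # The derived subgroup of `G₂(2)` is the presented group `P4`, simple of order 6048

The presented group `P4` maps to the group of matrices; its image `N` lies in `G₂(2)`, is
normalized by the root element `g0` of a short root, and every root element is an element of `N`
times a power of `g0`. So the derived subgroup of `G₂(2)` lies in `N`; it is all of `N` since `P4`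
is perfect. -/

set_option autoImplicit false
set_option linter.constructorNameAsVariable false

namespace Cfsg.Agent.Lib.Helper6.G22Iso

open scoped commutatorElement

open Cfsg.Agent.Lib.Helper6.ChevMatL Cfsg.Agent.Lib.Helper6.TC Cfsg.Agent.Lib.Helper6.U33Sub
  Cfsg.Agent.Lib.Helper6.G22Mat Cfsg.Lie Cfsg.Spor Cfsg.Agent.Lib.Helper6.Simp

/-- the field -/
abbrev F : Type := ZMod 2

/-- the set of indices -/
abbrev I : Type := chevG2.Idx

/-- the matrices -/
abbrev M : Type := Matrix I I F

/-- the matrix with the given columns -/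
def mt (Y : List (List F)) : M := toMt chevG2.rank chevG2.nroots Y

/-- the matrix with the given rows -/
def mr (X : List (List F)) : M := toM chevG2.rank chevG2.nroots X

theorem mr_transp (Y : List (List F)) : mr (transp 14 Y) = mt Y := by
  ext i j
  exact entry_transp Y (code_lt chevG2.rank chevG2.nroots i) _

theorem mr_idL : mr (idL 14) = 1 :=
  (toM_one chevG2.rank chevG2.nroots).symm

theorem chk_transp_id : transp 14 (idL 14 : List (List F)) = idL 14 := by decide +kernel

theorem mt_idL : mt (idL 14) = 1 := by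
  rw [← mr_transp, chk_transp_id, mr_idL]

theorem mt_prod (Ms : List (List (List F))) (h : ∀ Y ∈ Ms, colsOK 14 Y) :
    (Ms.map mt).prod = mr (prodT 14 Ms) :=
  (toM_prodT chevG2.rank chevG2.nroots Ms h).symm

/-! ### the root elements -/

theorem xLt_cols (r : ℕ) (t : F) : colsOK 14 (xLt r t) := by
  unfold xLt
  by_cases hr : r < xTbl.length
  · rw [List.getD_eq_getElem _ _ hr]
    by_cases ht : ZMod.val t < (xTbl[r]).length
    · rw [List.getD_eq_getElem _ _ ht]
      exact chk_xcols _ (List.getElem_mem hr) _ (List.getElem_mem ht)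
    · rw [List.getD_eq_default _ _ (Nat.le_of_not_gt ht)]
      exact chk_idcols
  · rw [List.getD_eq_default _ _ (Nat.le_of_not_gt hr)]
    exact chk_idcols

theorem xLt_ge {r : ℕ} (hr : 12 ≤ r) (t : F) : xLt r t = idL 14 := by
  unfold xLt
  have h1 : xTbl.getD r [] = [] := List.getD_eq_default _ _ (by simpa [xTbl] using hr)
  rw [h1]
  rfl

/-- the matrix of a root element -/
def xMt (r : ℕ) (t : F) : M := mt (xLt r t)

theorem xMt_eq (r : ℕ) (t : F) : xMt r t = chevG2.x F r t := by
  by_cases hr : r < 12
  · ext i j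
    exact (chk_x r hr t i j).symm
  · unfold xMt ChevalleyDatum.x
    rw [xLt_ge (Nat.le_of_not_gt hr), mt_idL, dif_neg (show ¬r < chevG2.nroots from hr)]

theorem xMt_mul_self (r : ℕ) (t : F) : xMt r t * xMt r t = 1 := by
  unfold xMt
  by_cases hr : r < 12
  · have h1 := mt_prod [xLt r t, xLt r t] (by
      intro Z hZ
      simp only [List.mem_cons, List.not_mem_nil, or_false, or_self] at hZ
      rw [hZ]
      exact xLt_cols _ _)
    rw [chk_xinv r hr t, mr_idL] at h1
    rw [← h1]
    simp
  · rw [xLt_ge (Nat.le_of_not_gt hr), mt_idL, one_mul]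

/-- the matrix of a root element, as a unit -/
def xU (r : ℕ) (t : F) : GL I F :=
  ⟨xMt r t, xMt r t, xMt_mul_self r t, xMt_mul_self r t⟩

/-- the unit of a word in the root elements -/
def wU (w : List (ℕ × F)) : GL I F := (w.map fun p => xU p.1 p.2).prod

theorem coe_wU (w : List (ℕ × F)) : (wU w).val = chevG2.wordMat F w := by
  unfold wU ChevalleyDatum.wordMat
  induction w with
  | nil => rfl
  | cons p w ih =>
    rw [List.map_cons, List.prod_cons, Units.val_mul, ih, List.map_cons, List.prod_cons]
    congr 1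
    exact xMt_eq p.1 p.2

theorem wordMat_eq (w : List (ℕ × F)) : chevG2.wordMat F w = mr (wL w) := by
  unfold ChevalleyDatum.wordMat wL
  have h := mt_prod (w.map fun p => xLt p.1 p.2) (by
    intro Y hY
    obtain ⟨p, _, rfl⟩ := List.mem_map.1 hY
    exact xLt_cols p.1 p.2)
  rw [← h, List.map_map]
  congr 1
  apply List.map_congr_left
  intro p _
  exact (xMt_eq p.1 p.2).symm

/-! ### the group `G₂(2)` -/

/-- the group `G₂(2)` -/
abbrev G : Subgroup (GL I F) := chevG2.group F

/-- the generators of `G₂(2)` -/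
abbrev T : Set (GL I F) :=
  {g | ∃ (r : Fin chevG2.nroots) (t : F), (g : M) = chevG2.xMat F r t}

theorem G_eq : G = Subgroup.closure T := rfl

theorem xU_mem (r : ℕ) (t : F) : xU r t ∈ G := by
  by_cases hr : r < 12
  · apply Subgroup.subset_closure
    refine ⟨⟨r, hr⟩, t, ?_⟩
    show xMt r t = _
    rw [xMt_eq]
    unfold ChevalleyDatum.x
    rw [dif_pos (show r < chevG2.nroots from hr)]
  · have h : xU r t = 1 := by
      apply Units.ext
      show xMt r t = 1
      unfold xMt
      rw [xLt_ge (Nat.le_of_not_gt hr), mt_idL]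
    rw [h]
    exact Subgroup.one_mem _

theorem wU_mem (w : List (ℕ × F)) : wU w ∈ G := by
  apply Subgroup.list_prod_mem
  intro g hg
  obtain ⟨p, _, rfl⟩ := List.mem_map.1 hg
  exact xU_mem p.1 p.2

/-! ### the images of the generators -/

/-- the matrix of a generator -/
def gMt (x : ℕ) : M := mt (genLt x)

theorem genLt_mem (x : ℕ) : genLt x ∈ genTbl := by
  unfold genLt
  by_cases h : x < genTbl.length
  · rw [List.getD_eq_getElem _ _ h]
    exact List.getElem_mem h
  · rw [List.getD_eq_default _ _ (Nat.le_of_not_gt h)]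
    simp [genTbl]

theorem mt_mul_self {Y : List (List F)} (hc : colsOK 14 Y) (h : prodT 14 [Y, Y] = idL 14) :
    mt Y * mt Y = 1 := by
  have h1 := mt_prod [Y, Y] (by
    intro Z hZ
    simp only [List.mem_cons, List.not_mem_nil, or_false, or_self] at hZ
    rw [hZ]
    exact hc)
  rw [h, mr_idL] at h1
  rw [← h1]
  simp

theorem gMt_mul_self (x : ℕ) : gMt x * gMt x = 1 :=
  mt_mul_self (chk_gcols _ (genLt_mem x)) (chk_ginv _ (genLt_mem x))

/-- the matrix of a generator, as a unit -/
def gU (x : ℕ) : GL I F := ⟨gMt x, gMt x, gMt_mul_self x, gMt_mul_self x⟩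

theorem gU_mul_self (x : ℕ) : gU x * gU x = 1 := Units.ext (gMt_mul_self x)

theorem coe_prod_gU (w : List ℕ) : ((w.map gU).prod : GL I F).val = (w.map gMt).prod := by
  induction w with
  | nil => rfl
  | cons x w ih =>
    rw [List.map_cons, List.prod_cons, Units.val_mul, ih, List.map_cons, List.prod_cons]
    rfl

theorem genLt_cols (w : List ℕ) : ∀ Y ∈ w.map genLt, colsOK 14 Y := by
  intro Y hY
  obtain ⟨x, _, rfl⟩ := List.mem_map.1 hY
  exact chk_gcols _ (genLt_mem x)

theorem prod_gMt (w : List ℕ) : (w.map gMt).prod = mr (prodT 14 (w.map genLt)) := by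
  have h := mt_prod (w.map genLt) (genLt_cols w)
  rw [List.map_map] at h
  exact h

/-- the matrix of the root element of the short root -/
def g0M : M := mt g0Lt

theorem g0M_sq : g0M * g0M = 1 := mt_mul_self chk_g0cols chk_g0inv

/-- the root element of the short root, as a unit -/
def g0U : GL I F := ⟨g0M, g0M, g0M_sq, g0M_sq⟩

theorem g0U_inv : g0U⁻¹ = g0U := by
  apply Units.ext
  rfl

/-! ### the homomorphism -/

/-- the images of the generators -/
def fgen (a : P4.Gen) : GL I F := gU (U33PTC.code a)

theorem code_lt4 (a : P4.Gen) : U33PTC.code a < 4 := by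
  cases a <;> decide

theorem fgen_gen {x : ℕ} (hx : x < 4) : fgen (U33PTC.gen x) = gU x := by
  interval_cases x <;> rfl

theorem word_eq_one {w : List ℕ}
    (hw : w ∈ coxWordsL P4.edges U33PTC.gen 4 ++ U33PTC.extraWords) :
    (w.map fun x => fgen (U33PTC.gen x)).prod = 1 := by
  have h1 := List.all_eq_true.1 chk_rels w hw
  have h2 := List.all_eq_true.1 chk_rels_lt w hw
  have h3 : w.map (fun x => fgen (U33PTC.gen x)) = w.map gU :=
    List.map_congr_left fun x hx => fgen_gen (of_decide_eq_true (List.all_eq_true.1 h2 x hx))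
  rw [h3]
  apply Units.ext
  rw [coe_prod_gU, prod_gMt, of_decide_eq_true h1, mr_idL]
  rfl

theorem lift_rel : ∀ r ∈ coxRelators P4.edges ∪ {r | r ∈ P4.extra}, FreeGroup.lift fgen r = 1 :=
  CoxLift.lift_eq_one_of_words U33PTC.gen U33PTC.code 4 U33PTC.extraWords
    (by intro a; cases a <;> exact ⟨by decide, rfl⟩) fgen
    (U33PTC.extra_iff fgen fun a => gU_mul_self _) fun _ hw => word_eq_one hw

/-- the homomorphism from the presented group to the group of matrices -/
noncomputable def ψ : P4 →* GL I F := PresentedGroup.toGroup lift_rel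

theorem ψ_of (a : P4.Gen) : ψ (PresentedGroup.of a) = fgen a := PresentedGroup.toGroup.of _

/-- the image of the presented group -/
noncomputable abbrev N : Subgroup (GL I F) := ψ.range

theorem N_eq : N = Subgroup.closure (Set.range fgen) := by
  unfold N
  rw [MonoidHom.range_eq_map, ← PresentedGroup.closure_range_of, MonoidHom.map_closure,
    ← Set.range_comp]
  congr 2
  funext a
  exact ψ_of a

theorem fgen_mem (a : P4.Gen) : fgen a ∈ N := ⟨PresentedGroup.of a, ψ_of a⟩

theorem genLt_ge {x : ℕ} (hx : 4 ≤ x) : genLt x = genLt 3 := by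
  unfold genLt
  rw [List.getD_eq_default _ _ (by simpa [genTbl] using hx)]
  rfl

theorem gU_mem (x : ℕ) : gU x ∈ N := by
  by_cases hx : x < 4
  · rw [← fgen_gen hx]
    exact fgen_mem _
  · have h : gU x = gU 3 := by
      apply Units.ext
      show mt (genLt x) = mt (genLt 3)
      rw [genLt_ge (Nat.le_of_not_gt hx)]
    rw [h, ← fgen_gen (show 3 < 4 by norm_num)]
    exact fgen_mem _

theorem prod_gU_mem (w : List ℕ) : (w.map gU).prod ∈ N := by
  apply Subgroup.list_prod_mem
  intro g hg
  obtain ⟨x, _, rfl⟩ := List.mem_map.1 hg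
  exact gU_mem x

/-! ### the image lies in `G₂(2)` -/

theorem gU_eq_of_chk {i : ℕ} {w : List (ℕ × F)}
    (h : wL w = transp 14 (genLt i)) : gU i = wU w := by
  apply Units.ext
  rw [coe_wU, wordMat_eq, h, mr_transp]
  rfl

theorem fgen_mem_G (a : P4.Gen) : fgen a ∈ G := by
  cases a
  · show gU 0 ∈ G
    rw [gU_eq_of_chk (i := 0) chk_a]
    exact wU_mem _
  · show gU 1 ∈ G
    rw [gU_eq_of_chk (i := 1) chk_b]
    exact wU_mem _
  · show gU 2 ∈ G
    rw [gU_eq_of_chk (i := 2) chk_c]
    exact wU_mem _
  · show gU 3 ∈ G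
    rw [gU_eq_of_chk (i := 3) chk_d]
    exact wU_mem _

theorem N_le_G : N ≤ G := by
  rw [N_eq, Subgroup.closure_le]
  rintro _ ⟨a, rfl⟩
  exact fgen_mem_G a

/-! ### the root element of the short root normalizes the image -/

theorem conj_eq {i : ℕ} (hi : i < 4) :
    g0U * gU i * g0U⁻¹ = ((conjW.getD i []).map gU).prod := by
  rw [g0U_inv]
  apply Units.ext
  rw [coe_prod_gU, prod_gMt, ← chk_conj i hi]
  have h1 := mt_prod [g0Lt, genLt i, g0Lt] (by
    intro Z hZ
    simp only [List.mem_cons, List.not_mem_nil, or_false] at hZ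
    rcases hZ with rfl | rfl | rfl
    · exact chk_g0cols
    · exact chk_gcols _ (genLt_mem i)
    · exact chk_g0cols)
  rw [← h1]
  simp only [List.map_cons, List.map_nil, List.prod_cons, List.prod_nil, mul_one]
  show g0M * gMt i * g0M = _
  rw [mul_assoc]
  rfl

theorem hconj : ∀ n ∈ N, g0U * n * g0U⁻¹ ∈ N := by
  apply CommCyc.conj_mem_of_closure _ _ N_eq
  rintro _ ⟨a, rfl⟩
  show g0U * gU (U33PTC.code a) * g0U⁻¹ ∈ N
  rw [conj_eq (code_lt4 a)]
  exact prod_gU_mem _

theorem hconj' : ∀ n ∈ N, g0U⁻¹ * n * g0U ∈ N := by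
  intro n hn
  have := hconj n hn
  rw [g0U_inv] at this
  rw [g0U_inv]
  exact this

/-! ### the generators of `G₂(2)` -/

theorem gen_eq {nw : List ℕ} {k : ℕ} {w : List (ℕ × F)}
    (h : prodT 14 (nw.map genLt ++ List.replicate k g0Lt) = wL w) (g : GL I F)
    (hg : (g : M) = chevG2.wordMat F w) : g = (nw.map gU).prod * g0U ^ k := by
  apply Units.ext
  rw [hg, wordMat_eq, ← h, Units.val_mul, Units.val_pow_eq_pow_val, coe_prod_gU]
  have h1 := mt_prod (nw.map genLt ++ List.replicate k g0Lt) (by
    intro Y hY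
    rcases List.mem_append.1 hY with hY | hY
    · exact genLt_cols nw Y hY
    · rw [List.eq_of_mem_replicate hY]
      exact chk_g0cols)
  rw [← h1, List.map_append, List.prod_append, List.map_map, List.map_replicate,
    List.prod_replicate]
  rfl

theorem T_sub : T ⊆ CommCyc.prodSet N g0U := by
  rintro g ⟨r, t, hg⟩
  have hg' : (g : M) = chevG2.wordMat F [(r.val, t)] := by
    rw [hg]
    unfold ChevalleyDatum.wordMat ChevalleyDatum.x
    simp only [List.map_cons, List.map_nil, List.prod_cons, List.prod_nil, mul_one]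
    rw [dif_pos r.isLt]
  have h := gen_eq (chk_gen r.val r.isLt t) g hg'
  exact ⟨_, prod_gU_mem _, _, by rw [zpow_natCast]; exact h⟩

theorem comm_le : ⁅G, G⁆ ≤ N :=
  CommCyc.commutator_le N G g0U T G_eq hconj hconj' T_sub

/-! ### the presented group is perfect and the homomorphism is injective -/

theorem gMt_ne : gMt 0 ≠ 1 := by
  intro h2
  obtain ⟨i, j, hij⟩ := chk_ne
  apply hij
  have h3 := congrFun (congrFun h2 i) j
  rw [Matrix.one_apply] at h3
  exact h3

theorem ψ_injective : Function.Injective ψ := by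
  have hs := U33Simple.main.1
  rcases (MonoidHom.normal_ker ψ).eq_bot_or_eq_top with h | h
  · exact (MonoidHom.ker_eq_bot_iff ψ).1 h
  · exfalso
    have h1 : ψ (PresentedGroup.of P4.Gen.a) = 1 := by
      have : PresentedGroup.of P4.Gen.a ∈ ψ.ker := by
        rw [h]
        trivial
      exact this
    rw [ψ_of] at h1
    exact gMt_ne (congrArg Units.val h1)

theorem chk_nc' : ∃ i j : I, entry (prodT 14 [genLt 0, genLt 1])
    (code chevG2.rank chevG2.nroots i) (code chevG2.rank chevG2.nroots j) ≠
    entry (prodT 14 [genLt 1, genLt 0]) (code chevG2.rank chevG2.nroots i)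
      (code chevG2.rank chevG2.nroots j) := by decide +kernel

theorem not_comm : gU 0 * gU 1 ≠ gU 1 * gU 0 := by
  intro h
  have h1 : gMt 0 * gMt 1 = gMt 1 * gMt 0 := congrArg Units.val h
  have e1 := prod_gMt [0, 1]
  have e2 := prod_gMt [1, 0]
  simp only [List.map_cons, List.map_nil, List.prod_cons, List.prod_nil, mul_one] at e1 e2
  rw [e1, e2] at h1
  obtain ⟨i, j, hij⟩ := chk_nc'
  exact hij (congrFun (congrFun h1 i) j)

/-- the presented group is perfect -/
theorem comm_top : commutator P4 = ⊤ := by
  have hs := U33Simple.main.1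
  rcases (inferInstance : (commutator P4).Normal).eq_bot_or_eq_top with h | h
  · exfalso
    apply not_comm
    have hc : ∀ x y : P4, x * y = y * x := by
      intro x y
      have : ⁅x, y⁆ ∈ commutator P4 :=
        Subgroup.commutator_mem_commutator (Subgroup.mem_top x) (Subgroup.mem_top y)
      rw [h, Subgroup.mem_bot, commutatorElement_eq_one_iff_mul_comm] at this
      exact this
    have := congrArg ψ (hc (PresentedGroup.of P4.Gen.a) (PresentedGroup.of P4.Gen.b))
    rw [map_mul, map_mul, ψ_of, ψ_of] at this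
    exact this
  · exact h

theorem N_le_comm : N ≤ ⁅G, G⁆ := by
  have h1 : N = (commutator P4).map ψ := by
    rw [comm_top, ← MonoidHom.range_eq_map]
  rw [h1, commutator_def, Subgroup.map_commutator, ← MonoidHom.range_eq_map]
  exact Subgroup.commutator_mono N_le_G N_le_G

theorem comm_eq : ⁅G, G⁆ = N := le_antisymm comm_le N_le_comm

/-- the derived subgroup of `G₂(2)` is the presented group -/
noncomputable def isoD : commutator ↥G ≃* P4 :=
  ((commutator ↥G).equivMapOfInjective G.subtype G.subtype_injective).trans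
    ((MulEquiv.subgroupCongr (by rw [Subgroup.map_subtype_commutator, comm_eq])).trans
      (MonoidHom.ofInjective ψ_injective).symm)

end Cfsg.Agent.Lib.Helper6.G22Iso
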