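import Cfsg.Agent.Lib.Helper6.ChevMatL
import Cfsg.Agent.Lib.Helper6.U33PTCChk2
import Cfsg.Prelude.Def_ChevG2
import Cfsg.Prelude.Def_ChevWords

/-! # Matrices of the group `G₂(2)`: the root elements, four involutions that satisfy the relators
of the presentation `P4` of `U₃(3)`, and words that express the root elements by these involutions
and one root element of a short root (generated; the words were found by a search in the matrix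
group). All matrices are given by the lists of their columns. -/

set_option autoImplicit false
set_option maxRecDepth 1000000
set_option maxHeartbeats 4000000

namespace Cfsg.Agent.Lib.Helper6.G22Mat

open Cfsg.Agent.Lib.Helper6.ChevMatL Cfsg.Agent.Lib.Helper6.TC Cfsg.Agent.Lib.Helper6.U33Sub
  Cfsg.Lie

/-- an entry of a root element of the Chevalley group -/
def xE2 (r : ℕ) (t : ZMod 2) (i j : chevG2.Idx) : ZMod 2 := chevG2.x (ZMod 2) r t i j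

/-- the root element of root 0 with parameter 1 -/
def x0_1 : List (List (ZMod 2)) :=
  [[1, 0, 0, 0, 0, 0, 0, 0, 0, 0, 0, 0, 0, 0],
    [0, 1, 1, 0, 0, 0, 0, 0, 0, 0, 0, 0, 0, 0],
    [0, 0, 1, 0, 0, 0, 0, 0, 0, 0, 0, 0, 0, 0],
    [0, 0, 0, 1, 0, 0, 0, 0, 0, 0, 0, 0, 0, 0],
    [0, 0, 0, 0, 1, 0, 0, 0, 0, 0, 0, 0, 0, 0],
    [0, 0, 0, 0, 0, 1, 0, 0, 0, 0, 0, 0, 0, 0],
    [0, 0, 0, 0, 0, 0, 1, 0, 0, 0, 0, 0, 0, 0],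
    [0, 0, 0, 0, 0, 0, 0, 1, 0, 0, 0, 0, 0, 0],
    [0, 0, 0, 1, 0, 0, 0, 0, 1, 0, 0, 0, 0, 0],
    [0, 0, 0, 0, 0, 0, 0, 0, 0, 1, 0, 0, 0, 0],
    [0, 0, 0, 0, 1, 0, 0, 0, 0, 0, 1, 0, 0, 0],
    [0, 0, 0, 0, 0, 1, 0, 0, 0, 0, 0, 1, 0, 0],
    [0, 0, 0, 0, 0, 0, 0, 1, 0, 0, 0, 0, 1, 0],
    [1, 0, 1, 0, 0, 0, 0, 0, 0, 0, 0, 0, 0, 1]]

/-- the root element of root 1 with parameter 1 -/
def x1_1 : List (List (ZMod 2)) :=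
  [[1, 0, 0, 1, 0, 0, 0, 0, 0, 0, 0, 0, 0, 0],
    [0, 1, 0, 1, 0, 0, 0, 0, 0, 0, 0, 0, 0, 0],
    [0, 0, 1, 0, 0, 0, 0, 0, 0, 0, 0, 0, 0, 0],
    [0, 0, 0, 1, 0, 0, 0, 0, 0, 0, 0, 0, 0, 0],
    [0, 0, 0, 0, 1, 0, 0, 0, 0, 0, 0, 0, 0, 0],
    [0, 0, 0, 0, 0, 1, 0, 0, 0, 0, 0, 0, 0, 0],
    [0, 0, 0, 0, 0, 0, 1, 0, 0, 0, 0, 0, 0, 0],
    [0, 0, 1, 0, 0, 0, 0, 1, 0, 0, 0, 0, 0, 0],
    [0, 0, 0, 0, 0, 0, 0, 0, 1, 0, 0, 0, 0, 0],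
    [0, 0, 0, 0, 1, 0, 0, 0, 0, 1, 0, 0, 0, 0],
    [0, 0, 0, 0, 0, 0, 0, 0, 0, 0, 1, 0, 0, 0],
    [0, 0, 0, 0, 0, 0, 1, 0, 0, 0, 0, 1, 0, 0],
    [1, 1, 0, 1, 0, 0, 0, 0, 0, 0, 0, 0, 1, 0],
    [0, 0, 0, 0, 0, 0, 0, 0, 1, 0, 0, 0, 0, 1]]

/-- the root element of root 2 with parameter 1 -/
def x2_1 : List (List (ZMod 2)) :=
  [[1, 0, 0, 0, 1, 0, 0, 0, 0, 0, 0, 0, 0, 0],
    [0, 1, 0, 0, 0, 0, 0, 0, 0, 0, 0, 0, 0, 0],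
    [0, 0, 1, 0, 0, 0, 0, 0, 0, 0, 0, 0, 0, 0],
    [0, 0, 0, 1, 0, 0, 0, 0, 0, 0, 0, 0, 0, 0],
    [0, 0, 0, 0, 1, 0, 0, 0, 0, 0, 0, 0, 0, 0],
    [0, 0, 1, 0, 0, 1, 0, 0, 0, 0, 0, 0, 0, 0],
    [0, 0, 0, 1, 0, 0, 1, 0, 0, 0, 0, 0, 0, 0],
    [0, 0, 0, 0, 0, 0, 0, 1, 0, 0, 0, 0, 0, 0],
    [0, 0, 0, 0, 0, 0, 0, 0, 1, 0, 0, 0, 0, 0],
    [0, 0, 1, 0, 0, 0, 0, 0, 0, 1, 0, 0, 0, 0],
    [0, 0, 0, 1, 0, 0, 0, 0, 0, 0, 1, 0, 0, 0],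
    [0, 1, 0, 0, 1, 0, 0, 0, 0, 0, 0, 1, 0, 0],
    [0, 0, 1, 0, 0, 1, 0, 0, 0, 1, 0, 0, 1, 0],
    [0, 0, 0, 1, 0, 0, 1, 0, 0, 0, 1, 0, 0, 1]]

/-- the root element of root 3 with parameter 1 -/
def x3_1 : List (List (ZMod 2)) :=
  [[1, 0, 0, 0, 0, 1, 0, 0, 0, 0, 0, 0, 0, 0],
    [0, 1, 0, 0, 0, 1, 0, 0, 0, 0, 0, 0, 0, 0],
    [0, 0, 1, 0, 0, 0, 0, 0, 0, 0, 0, 0, 0, 0],
    [0, 0, 0, 1, 0, 0, 0, 0, 0, 0, 0, 0, 0, 0],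
    [0, 0, 1, 0, 1, 0, 0, 0, 0, 0, 0, 0, 0, 0],
    [0, 0, 0, 0, 0, 1, 0, 0, 0, 0, 0, 0, 0, 0],
    [0, 0, 1, 0, 0, 0, 1, 0, 0, 0, 0, 0, 0, 0],
    [0, 0, 0, 0, 0, 0, 0, 1, 0, 0, 0, 0, 0, 0],
    [0, 0, 1, 0, 1, 0, 1, 0, 1, 0, 0, 0, 0, 0],
    [0, 0, 0, 0, 0, 0, 0, 1, 0, 1, 0, 0, 0, 0],
    [1, 1, 0, 0, 0, 1, 0, 0, 0, 0, 1, 0, 0, 0],
    [0, 0, 0, 0, 0, 0, 0, 1, 0, 0, 0, 1, 0, 0],
    [0, 0, 0, 0, 0, 0, 0, 0, 0, 0, 0, 0, 1, 0],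
    [0, 0, 0, 0, 0, 0, 0, 1, 0, 1, 0, 1, 0, 1]]

/-- the root element of root 4 with parameter 1 -/
def x4_1 : List (List (ZMod 2)) :=
  [[1, 0, 0, 0, 0, 0, 0, 0, 0, 0, 0, 0, 0, 0],
    [0, 1, 0, 0, 0, 0, 1, 0, 0, 0, 0, 0, 0, 0],
    [0, 0, 1, 0, 0, 0, 0, 0, 0, 0, 0, 0, 0, 0],
    [0, 0, 0, 1, 0, 0, 0, 0, 0, 0, 0, 0, 0, 0],
    [0, 0, 0, 1, 1, 0, 0, 0, 0, 0, 0, 0, 0, 0],
    [0, 0, 0, 1, 0, 1, 0, 0, 0, 0, 0, 0, 0, 0],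
    [0, 0, 0, 0, 0, 0, 1, 0, 0, 0, 0, 0, 0, 0],
    [0, 0, 0, 1, 1, 1, 0, 1, 0, 0, 0, 0, 0, 0],
    [0, 0, 0, 0, 0, 0, 0, 0, 1, 0, 0, 0, 0, 0],
    [1, 0, 0, 0, 0, 0, 1, 0, 0, 1, 0, 0, 0, 0],
    [0, 0, 0, 0, 0, 0, 0, 0, 1, 0, 1, 0, 0, 0],
    [0, 0, 0, 0, 0, 0, 0, 0, 1, 0, 0, 1, 0, 0],
    [0, 0, 0, 0, 0, 0, 0, 0, 1, 0, 1, 1, 1, 0],
    [0, 0, 0, 0, 0, 0, 0, 0, 0, 0, 0, 0, 0, 1]]

/-- the root element of root 5 with parameter 1 -/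
def x5_1 : List (List (ZMod 2)) :=
  [[1, 0, 0, 0, 0, 0, 0, 1, 0, 0, 0, 0, 0, 0],
    [0, 1, 0, 0, 0, 0, 0, 0, 0, 0, 0, 0, 0, 0],
    [0, 0, 1, 0, 0, 0, 0, 0, 0, 0, 0, 0, 0, 0],
    [0, 0, 1, 1, 0, 0, 0, 0, 0, 0, 0, 0, 0, 0],
    [0, 0, 0, 0, 1, 0, 0, 0, 0, 0, 0, 0, 0, 0],
    [0, 0, 0, 0, 0, 1, 0, 0, 0, 0, 0, 0, 0, 0],
    [0, 0, 0, 0, 0, 1, 1, 0, 0, 0, 0, 0, 0, 0],
    [0, 0, 0, 0, 0, 0, 0, 1, 0, 0, 0, 0, 0, 0],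
    [0, 1, 0, 0, 0, 0, 0, 1, 1, 0, 0, 0, 0, 0],
    [0, 0, 0, 0, 0, 0, 0, 0, 0, 1, 0, 0, 0, 0],
    [0, 0, 0, 0, 0, 0, 0, 0, 0, 1, 1, 0, 0, 0],
    [0, 0, 0, 0, 0, 0, 0, 0, 0, 0, 0, 1, 0, 0],
    [0, 0, 0, 0, 0, 0, 0, 0, 0, 0, 0, 0, 1, 0],
    [0, 0, 0, 0, 0, 0, 0, 0, 0, 0, 0, 0, 1, 1]]

/-- the root element of root 6 with parameter 1 -/
def x6_1 : List (List (ZMod 2)) :=
  [[1, 0, 0, 0, 0, 0, 0, 0, 1, 0, 0, 0, 0, 0],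
    [0, 1, 0, 0, 0, 0, 0, 0, 0, 0, 0, 0, 0, 0],
    [0, 0, 1, 1, 0, 0, 0, 0, 0, 0, 0, 0, 0, 0],
    [0, 0, 0, 1, 0, 0, 0, 0, 0, 0, 0, 0, 0, 0],
    [0, 0, 0, 0, 1, 0, 0, 0, 0, 0, 0, 0, 0, 0],
    [0, 0, 0, 0, 0, 1, 1, 0, 0, 0, 0, 0, 0, 0],
    [0, 0, 0, 0, 0, 0, 1, 0, 0, 0, 0, 0, 0, 0],
    [0, 1, 0, 0, 0, 0, 0, 1, 1, 0, 0, 0, 0, 0],
    [0, 0, 0, 0, 0, 0, 0, 0, 1, 0, 0, 0, 0, 0],
    [0, 0, 0, 0, 0, 0, 0, 0, 0, 1, 1, 0, 0, 0],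
    [0, 0, 0, 0, 0, 0, 0, 0, 0, 0, 1, 0, 0, 0],
    [0, 0, 0, 0, 0, 0, 0, 0, 0, 0, 0, 1, 0, 0],
    [0, 0, 0, 0, 0, 0, 0, 0, 0, 0, 0, 0, 1, 1],
    [0, 0, 0, 0, 0, 0, 0, 0, 0, 0, 0, 0, 0, 1]]

/-- the root element of root 7 with parameter 1 -/
def x7_1 : List (List (ZMod 2)) :=
  [[1, 0, 0, 0, 0, 0, 0, 0, 0, 0, 0, 0, 0, 0],
    [0, 1, 0, 0, 0, 0, 0, 0, 0, 1, 0, 0, 0, 0],
    [0, 0, 1, 0, 0, 0, 0, 0, 0, 0, 0, 0, 0, 0],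
    [0, 0, 0, 1, 1, 1, 0, 1, 0, 0, 0, 0, 0, 0],
    [0, 0, 0, 0, 1, 0, 0, 1, 0, 0, 0, 0, 0, 0],
    [0, 0, 0, 0, 0, 1, 0, 1, 0, 0, 0, 0, 0, 0],
    [1, 0, 0, 0, 0, 0, 1, 0, 0, 1, 0, 0, 0, 0],
    [0, 0, 0, 0, 0, 0, 0, 1, 0, 0, 0, 0, 0, 0],
    [0, 0, 0, 0, 0, 0, 0, 0, 1, 0, 1, 1, 1, 0],
    [0, 0, 0, 0, 0, 0, 0, 0, 0, 1, 0, 0, 0, 0],
    [0, 0, 0, 0, 0, 0, 0, 0, 0, 0, 1, 0, 1, 0],
    [0, 0, 0, 0, 0, 0, 0, 0, 0, 0, 0, 1, 1, 0],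
    [0, 0, 0, 0, 0, 0, 0, 0, 0, 0, 0, 0, 1, 0],
    [0, 0, 0, 0, 0, 0, 0, 0, 0, 0, 0, 0, 0, 1]]

/-- the root element of root 8 with parameter 1 -/
def x8_1 : List (List (ZMod 2)) :=
  [[1, 0, 0, 0, 0, 0, 0, 0, 0, 0, 1, 0, 0, 0],
    [0, 1, 0, 0, 0, 0, 0, 0, 0, 0, 1, 0, 0, 0],
    [0, 0, 1, 0, 1, 0, 1, 0, 1, 0, 0, 0, 0, 0],
    [0, 0, 0, 1, 0, 0, 0, 0, 0, 0, 0, 0, 0, 0],
    [0, 0, 0, 0, 1, 0, 0, 0, 1, 0, 0, 0, 0, 0],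
    [1, 1, 0, 0, 0, 1, 0, 0, 0, 0, 1, 0, 0, 0],
    [0, 0, 0, 0, 0, 0, 1, 0, 1, 0, 0, 0, 0, 0],
    [0, 0, 0, 0, 0, 0, 0, 1, 0, 1, 0, 1, 0, 1],
    [0, 0, 0, 0, 0, 0, 0, 0, 1, 0, 0, 0, 0, 0],
    [0, 0, 0, 0, 0, 0, 0, 0, 0, 1, 0, 0, 0, 1],
    [0, 0, 0, 0, 0, 0, 0, 0, 0, 0, 1, 0, 0, 0],
    [0, 0, 0, 0, 0, 0, 0, 0, 0, 0, 0, 1, 0, 1],
    [0, 0, 0, 0, 0, 0, 0, 0, 0, 0, 0, 0, 1, 0],
    [0, 0, 0, 0, 0, 0, 0, 0, 0, 0, 0, 0, 0, 1]]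

/-- the root element of root 9 with parameter 1 -/
def x9_1 : List (List (ZMod 2)) :=
  [[1, 0, 0, 0, 0, 0, 0, 0, 0, 0, 0, 1, 0, 0],
    [0, 1, 0, 0, 0, 0, 0, 0, 0, 0, 0, 0, 0, 0],
    [0, 0, 1, 0, 0, 1, 0, 0, 0, 1, 0, 0, 1, 0],
    [0, 0, 0, 1, 0, 0, 1, 0, 0, 0, 1, 0, 0, 1],
    [0, 1, 0, 0, 1, 0, 0, 0, 0, 0, 0, 1, 0, 0],
    [0, 0, 0, 0, 0, 1, 0, 0, 0, 0, 0, 0, 1, 0],
    [0, 0, 0, 0, 0, 0, 1, 0, 0, 0, 0, 0, 0, 1],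
    [0, 0, 0, 0, 0, 0, 0, 1, 0, 0, 0, 0, 0, 0],
    [0, 0, 0, 0, 0, 0, 0, 0, 1, 0, 0, 0, 0, 0],
    [0, 0, 0, 0, 0, 0, 0, 0, 0, 1, 0, 0, 1, 0],
    [0, 0, 0, 0, 0, 0, 0, 0, 0, 0, 1, 0, 0, 1],
    [0, 0, 0, 0, 0, 0, 0, 0, 0, 0, 0, 1, 0, 0],
    [0, 0, 0, 0, 0, 0, 0, 0, 0, 0, 0, 0, 1, 0],
    [0, 0, 0, 0, 0, 0, 0, 0, 0, 0, 0, 0, 0, 1]]

/-- the root element of root 10 with parameter 1 -/
def x10_1 : List (List (ZMod 2)) :=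
  [[1, 0, 0, 0, 0, 0, 0, 0, 0, 0, 0, 0, 1, 0],
    [0, 1, 0, 0, 0, 0, 0, 0, 0, 0, 0, 0, 1, 0],
    [0, 0, 1, 0, 0, 0, 0, 1, 0, 0, 0, 0, 0, 0],
    [1, 1, 0, 1, 0, 0, 0, 0, 0, 0, 0, 0, 1, 0],
    [0, 0, 0, 0, 1, 0, 0, 0, 0, 1, 0, 0, 0, 0],
    [0, 0, 0, 0, 0, 1, 0, 0, 0, 0, 0, 0, 0, 0],
    [0, 0, 0, 0, 0, 0, 1, 0, 0, 0, 0, 1, 0, 0],
    [0, 0, 0, 0, 0, 0, 0, 1, 0, 0, 0, 0, 0, 0],
    [0, 0, 0, 0, 0, 0, 0, 0, 1, 0, 0, 0, 0, 1],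
    [0, 0, 0, 0, 0, 0, 0, 0, 0, 1, 0, 0, 0, 0],
    [0, 0, 0, 0, 0, 0, 0, 0, 0, 0, 1, 0, 0, 0],
    [0, 0, 0, 0, 0, 0, 0, 0, 0, 0, 0, 1, 0, 0],
    [0, 0, 0, 0, 0, 0, 0, 0, 0, 0, 0, 0, 1, 0],
    [0, 0, 0, 0, 0, 0, 0, 0, 0, 0, 0, 0, 0, 1]]

/-- the root element of root 11 with parameter 1 -/
def x11_1 : List (List (ZMod 2)) :=
  [[1, 0, 0, 0, 0, 0, 0, 0, 0, 0, 0, 0, 0, 0],
    [0, 1, 0, 0, 0, 0, 0, 0, 0, 0, 0, 0, 0, 1],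
    [1, 0, 1, 0, 0, 0, 0, 0, 0, 0, 0, 0, 0, 1],
    [0, 0, 0, 1, 0, 0, 0, 0, 1, 0, 0, 0, 0, 0],
    [0, 0, 0, 0, 1, 0, 0, 0, 0, 0, 1, 0, 0, 0],
    [0, 0, 0, 0, 0, 1, 0, 0, 0, 0, 0, 1, 0, 0],
    [0, 0, 0, 0, 0, 0, 1, 0, 0, 0, 0, 0, 0, 0],
    [0, 0, 0, 0, 0, 0, 0, 1, 0, 0, 0, 0, 1, 0],
    [0, 0, 0, 0, 0, 0, 0, 0, 1, 0, 0, 0, 0, 0],
    [0, 0, 0, 0, 0, 0, 0, 0, 0, 1, 0, 0, 0, 0],
    [0, 0, 0, 0, 0, 0, 0, 0, 0, 0, 1, 0, 0, 0],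
    [0, 0, 0, 0, 0, 0, 0, 0, 0, 0, 0, 1, 0, 0],
    [0, 0, 0, 0, 0, 0, 0, 0, 0, 0, 0, 0, 1, 0],
    [0, 0, 0, 0, 0, 0, 0, 0, 0, 0, 0, 0, 0, 1]]

/-- the table of the root elements -/
def xTbl : List (List (List (List (ZMod 2)))) :=
  [[idL 14, x0_1],
    [idL 14, x1_1],
    [idL 14, x2_1],
    [idL 14, x3_1],
    [idL 14, x4_1],
    [idL 14, x5_1],
    [idL 14, x6_1],
    [idL 14, x7_1],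
    [idL 14, x8_1],
    [idL 14, x9_1],
    [idL 14, x10_1],
    [idL 14, x11_1]]

/-- the root elements -/
def xLt (r : ℕ) (t : ZMod 2) : List (List (ZMod 2)) := (xTbl.getD r []).getD (ZMod.val t) (idL 14)

/-- the matrix of the generator a -/
def gA : List (List (ZMod 2)) :=
  [[1, 0, 0, 1, 0, 0, 0, 0, 0, 0, 0, 0, 0, 0],
    [0, 1, 0, 1, 0, 0, 0, 0, 0, 0, 0, 0, 0, 0],
    [0, 0, 1, 0, 0, 0, 0, 0, 0, 0, 0, 0, 0, 0],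
    [0, 0, 0, 1, 0, 0, 0, 0, 0, 0, 0, 0, 0, 0],
    [0, 0, 0, 0, 1, 0, 0, 0, 0, 0, 0, 0, 0, 0],
    [0, 0, 0, 0, 0, 1, 0, 0, 0, 0, 0, 0, 0, 0],
    [0, 0, 0, 0, 0, 0, 1, 0, 0, 0, 0, 0, 0, 0],
    [0, 0, 1, 0, 0, 0, 0, 1, 0, 0, 0, 0, 0, 0],
    [0, 0, 0, 0, 0, 0, 0, 0, 1, 0, 0, 0, 0, 0],
    [0, 0, 0, 0, 1, 0, 0, 0, 0, 1, 0, 0, 0, 0],
    [0, 0, 0, 0, 0, 0, 0, 0, 0, 0, 1, 0, 0, 0],
    [0, 0, 0, 0, 0, 0, 1, 0, 0, 0, 0, 1, 0, 0],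
    [1, 1, 0, 1, 0, 0, 0, 0, 0, 0, 0, 0, 1, 0],
    [0, 0, 0, 0, 0, 0, 0, 0, 1, 0, 0, 0, 0, 1]]

/-- the matrix of the generator b -/
def gB : List (List (ZMod 2)) :=
  [[1, 0, 0, 0, 0, 0, 0, 1, 0, 0, 0, 0, 0, 0],
    [0, 1, 0, 0, 0, 0, 0, 0, 0, 0, 0, 0, 0, 0],
    [0, 0, 1, 0, 0, 0, 0, 0, 0, 0, 0, 0, 0, 0],
    [0, 0, 1, 1, 0, 0, 0, 0, 0, 0, 0, 0, 0, 0],
    [0, 0, 0, 0, 1, 0, 0, 0, 0, 0, 0, 0, 0, 0],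
    [0, 0, 0, 0, 0, 1, 0, 0, 0, 0, 0, 0, 0, 0],
    [0, 0, 0, 0, 0, 1, 1, 0, 0, 0, 0, 0, 0, 0],
    [0, 0, 0, 0, 0, 0, 0, 1, 0, 0, 0, 0, 0, 0],
    [0, 1, 0, 0, 0, 0, 0, 1, 1, 0, 0, 0, 0, 0],
    [0, 0, 0, 0, 0, 0, 0, 0, 0, 1, 0, 0, 0, 0],
    [0, 0, 0, 0, 0, 0, 0, 0, 0, 1, 1, 0, 0, 0],
    [0, 0, 0, 0, 0, 0, 0, 0, 0, 0, 0, 1, 0, 0],
    [0, 0, 0, 0, 0, 0, 0, 0, 0, 0, 0, 0, 1, 0],
    [0, 0, 0, 0, 0, 0, 0, 0, 0, 0, 0, 0, 1, 1]]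

/-- the matrix of the generator c -/
def gC : List (List (ZMod 2)) :=
  [[1, 0, 0, 0, 0, 0, 0, 0, 1, 0, 0, 0, 0, 0],
    [0, 1, 0, 0, 0, 0, 0, 0, 0, 0, 0, 0, 0, 0],
    [0, 0, 1, 1, 0, 0, 0, 0, 0, 0, 0, 0, 0, 0],
    [0, 0, 0, 1, 0, 0, 0, 0, 0, 0, 0, 0, 0, 0],
    [0, 0, 0, 0, 1, 0, 0, 0, 0, 0, 0, 0, 0, 0],
    [0, 0, 0, 0, 0, 1, 1, 0, 0, 0, 0, 0, 0, 0],
    [0, 0, 0, 0, 0, 0, 1, 0, 0, 0, 0, 0, 0, 0],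
    [0, 1, 0, 0, 0, 0, 0, 1, 1, 0, 0, 0, 0, 0],
    [0, 0, 0, 0, 0, 0, 0, 0, 1, 0, 0, 0, 0, 0],
    [0, 0, 0, 0, 0, 0, 0, 0, 0, 1, 1, 0, 0, 0],
    [0, 0, 0, 0, 0, 0, 0, 0, 0, 0, 1, 0, 0, 0],
    [0, 0, 0, 0, 0, 0, 0, 0, 0, 0, 0, 1, 0, 0],
    [0, 0, 0, 0, 0, 0, 0, 0, 0, 0, 0, 0, 1, 1],
    [0, 0, 0, 0, 0, 0, 0, 0, 0, 0, 0, 0, 0, 1]]

/-- the matrix of the generator d -/
def gD : List (List (ZMod 2)) :=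
  [[1, 0, 0, 0, 0, 0, 0, 0, 1, 0, 1, 1, 1, 0],
    [0, 1, 0, 0, 0, 0, 0, 0, 0, 0, 1, 0, 1, 0],
    [0, 0, 1, 1, 1, 1, 0, 1, 0, 0, 0, 0, 0, 0],
    [1, 1, 0, 1, 0, 0, 1, 0, 1, 0, 1, 1, 1, 0],
    [0, 1, 0, 0, 1, 0, 0, 0, 1, 1, 1, 1, 1, 0],
    [1, 1, 0, 0, 0, 1, 1, 0, 1, 0, 1, 1, 1, 0],
    [0, 0, 0, 0, 0, 0, 1, 0, 1, 0, 0, 1, 0, 0],
    [0, 1, 0, 0, 0, 0, 0, 1, 1, 1, 1, 1, 1, 0],
    [0, 0, 0, 0, 0, 0, 0, 0, 1, 0, 0, 0, 0, 1],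
    [0, 0, 0, 0, 0, 0, 0, 0, 0, 1, 1, 0, 1, 0],
    [0, 0, 0, 0, 0, 0, 0, 0, 0, 0, 1, 0, 0, 1],
    [0, 0, 0, 0, 0, 0, 0, 0, 0, 0, 0, 1, 0, 1],
    [0, 0, 0, 0, 0, 0, 0, 0, 0, 0, 0, 0, 1, 1],
    [0, 0, 0, 0, 0, 0, 0, 0, 0, 0, 0, 0, 0, 1]]

/-- the table of the matrices of the generators -/
def genTbl : List (List (List (ZMod 2))) := [gA, gB, gC, gD]

/-- the matrices of the generators -/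
def genLt (x : ℕ) : List (List (ZMod 2)) := genTbl.getD x gD

/-- the root element of the short root 9, that is not in the derived subgroup -/
def g0Lt : List (List (ZMod 2)) := x9_1

/-- the words of the root elements -/
def nwTbl : List (List ℕ) :=
  [[],
    [0, 1, 0, 1],
    [],
    [0],
    [],
    [0, 1, 3, 2, 1, 0, 3, 1, 0, 1, 2],
    [],
    [0, 1, 0, 3, 2, 1, 3, 0, 2, 1, 0],
    [],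
    [0, 1, 2, 3, 2, 1, 3, 1, 0],
    [],
    [1],
    [],
    [2],
    [],
    [1, 2, 3, 1, 2, 3],
    [],
    [1, 2, 3, 2, 3, 1, 2, 3],
    [],
    [],
    [],
    [1, 2, 1, 3, 2, 3, 1, 2],
    [],
    [2, 3, 2, 3]]

/-- the exponents of the root elements -/
def kTbl : List ℕ := [0, 0, 0, 0, 0, 1, 0, 1, 0, 1, 0, 0, 0, 0, 0, 1, 0, 1, 0, 1, 0, 0, 0, 0]

/-- the place of a root element in the tables -/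
def tix (r : ℕ) (t : ZMod 2) : ℕ := 2 * r + ZMod.val t

/-- the conjugates of the generators by the root element of the short root -/
def conjW : List (List ℕ) := [[1, 0, 3, 1, 0, 2, 1, 3, 0, 1],
    [1],
    [2],
    [2, 3, 2]]

/-- the matrix of a word in the root elements, by its rows -/
def wL (w : List (ℕ × ZMod 2)) : List (List (ZMod 2)) := prodT 14 (w.map fun p => xLt p.1 p.2)

theorem chk_x0 : ∀ t : ZMod 2, ∀ i j : chevG2.Idx, xE2 0 t i j =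
    entry (xLt 0 t) (code chevG2.rank chevG2.nroots j) (code chevG2.rank chevG2.nroots i) := by
  decide +kernel

theorem chk_x1 : ∀ t : ZMod 2, ∀ i j : chevG2.Idx, xE2 1 t i j =
    entry (xLt 1 t) (code chevG2.rank chevG2.nroots j) (code chevG2.rank chevG2.nroots i) := by
  decide +kernel

theorem chk_x2 : ∀ t : ZMod 2, ∀ i j : chevG2.Idx, xE2 2 t i j =
    entry (xLt 2 t) (code chevG2.rank chevG2.nroots j) (code chevG2.rank chevG2.nroots i) := by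
  decide +kernel

theorem chk_x3 : ∀ t : ZMod 2, ∀ i j : chevG2.Idx, xE2 3 t i j =
    entry (xLt 3 t) (code chevG2.rank chevG2.nroots j) (code chevG2.rank chevG2.nroots i) := by
  decide +kernel

theorem chk_x4 : ∀ t : ZMod 2, ∀ i j : chevG2.Idx, xE2 4 t i j =
    entry (xLt 4 t) (code chevG2.rank chevG2.nroots j) (code chevG2.rank chevG2.nroots i) := by
  decide +kernel

theorem chk_x5 : ∀ t : ZMod 2, ∀ i j : chevG2.Idx, xE2 5 t i j =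
    entry (xLt 5 t) (code chevG2.rank chevG2.nroots j) (code chevG2.rank chevG2.nroots i) := by
  decide +kernel

theorem chk_x6 : ∀ t : ZMod 2, ∀ i j : chevG2.Idx, xE2 6 t i j =
    entry (xLt 6 t) (code chevG2.rank chevG2.nroots j) (code chevG2.rank chevG2.nroots i) := by
  decide +kernel

theorem chk_x7 : ∀ t : ZMod 2, ∀ i j : chevG2.Idx, xE2 7 t i j =
    entry (xLt 7 t) (code chevG2.rank chevG2.nroots j) (code chevG2.rank chevG2.nroots i) := by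
  decide +kernel

theorem chk_x8 : ∀ t : ZMod 2, ∀ i j : chevG2.Idx, xE2 8 t i j =
    entry (xLt 8 t) (code chevG2.rank chevG2.nroots j) (code chevG2.rank chevG2.nroots i) := by
  decide +kernel

theorem chk_x9 : ∀ t : ZMod 2, ∀ i j : chevG2.Idx, xE2 9 t i j =
    entry (xLt 9 t) (code chevG2.rank chevG2.nroots j) (code chevG2.rank chevG2.nroots i) := by
  decide +kernel

theorem chk_x10 : ∀ t : ZMod 2, ∀ i j : chevG2.Idx, xE2 10 t i j =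
    entry (xLt 10 t) (code chevG2.rank chevG2.nroots j) (code chevG2.rank chevG2.nroots i) := by
  decide +kernel

theorem chk_x11 : ∀ t : ZMod 2, ∀ i j : chevG2.Idx, xE2 11 t i j =
    entry (xLt 11 t) (code chevG2.rank chevG2.nroots j) (code chevG2.rank chevG2.nroots i) := by
  decide +kernel

theorem chk_x : ∀ r, r < 12 → ∀ t : ZMod 2, ∀ i j : chevG2.Idx, xE2 r t i j =
    entry (xLt r t) (code chevG2.rank chevG2.nroots j) (code chevG2.rank chevG2.nroots i) := by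
  intro r hr
  interval_cases r
  · exact chk_x0
  · exact chk_x1
  · exact chk_x2
  · exact chk_x3
  · exact chk_x4
  · exact chk_x5
  · exact chk_x6
  · exact chk_x7
  · exact chk_x8
  · exact chk_x9
  · exact chk_x10
  · exact chk_x11

theorem chk_xcols : ∀ l ∈ xTbl, ∀ Y ∈ l, colsOK 14 Y := by decide +kernel

theorem chk_idcols : colsOK 14 (idL 14 : List (List (ZMod 2))) := by decide +kernel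

theorem chk_xinv : ∀ r, r < 12 → ∀ t : ZMod 2, prodT 14 [xLt r t, xLt r t] = idL 14 := by
  decide +kernel

theorem chk_gcols : ∀ Y ∈ genTbl, colsOK 14 Y := by decide +kernel

theorem chk_ginv : ∀ Y ∈ genTbl, prodT 14 [Y, Y] = idL 14 := by decide +kernel

theorem chk_g0cols : colsOK 14 g0Lt := by decide +kernel

theorem chk_g0inv : prodT 14 [g0Lt, g0Lt] = idL 14 := by decide +kernel

theorem chk_g0 : wL [(9, 1)] = transp 14 g0Lt := by decide +kernel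

theorem chk_a : wL [(1, 1)] = transp 14 gA := by decide +kernel

theorem chk_b : wL [(5, 1)] = transp 14 gB := by decide +kernel

theorem chk_c : wL [(6, 1)] = transp 14 gC := by decide +kernel

theorem chk_d : wL [(4, 1), (10, 1), (4, 1)] = transp 14 gD := by decide +kernel

theorem chk_gen : ∀ r, r < 12 → ∀ t : ZMod 2, prodT 14 ((nwTbl.getD (tix r t) []).map genLt ++
    List.replicate (kTbl.getD (tix r t) 0) g0Lt) = wL [(r, t)] := by decide +kernel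

theorem chk_conj : ∀ i, i < 4 → prodT 14 [g0Lt, genLt i, g0Lt] =
    prodT 14 ((conjW.getD i []).map genLt) := by decide +kernel

theorem chk_rels : (coxWordsL P4.edges U33PTC.gen 4 ++ U33PTC.extraWords).all
    (fun w => decide (prodT 14 (w.map genLt) = idL 14)) = true := by decide +kernel

theorem chk_rels_lt : (coxWordsL P4.edges U33PTC.gen 4 ++ U33PTC.extraWords).all
    (fun w => w.all fun x => decide (x < 4)) = true := by decide +kernel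

theorem chk_ne : ∃ i j : chevG2.Idx, entry (genLt 0) (code chevG2.rank chevG2.nroots j)
    (code chevG2.rank chevG2.nroots i) ≠ if i = j then 1 else 0 := by decide +kernel

theorem chk_nc : prodT 14 [gA, gB] ≠ prodT 14 [gB, gA] := by decide +kernel

end Cfsg.Agent.Lib.Helper6.G22Mat
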