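import Cfsg.Agent.Lib.Helper6.SuzSub

/-! # Further sub-presentations of the presented Suzuki group

`E6` on the generators `a, b, c, d, e, f` and `E5` on `a, b, c, d, e`, with the relators of the
presentation of `Suz` that involve only these generators. -/

set_option autoImplicit false
set_option linter.unusedSimpArgs false

namespace Cfsg.Agent.Lib.Helper6.SuzESub

open Cfsg.Spor Cfsg.Agent.Lib.Helper6.Simp Cfsg.Agent.Lib.Helper6.SuzSub

namespace E6

/-- the generators a, b, c, d, e, f -/
inductive Gen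
  | a
  | b
  | c
  | d
  | e
  | f
  deriving DecidableEq

abbrev a : FreeGroup Gen := FreeGroup.of Gen.a
abbrev b : FreeGroup Gen := FreeGroup.of Gen.b
abbrev c : FreeGroup Gen := FreeGroup.of Gen.c
abbrev d : FreeGroup Gen := FreeGroup.of Gen.d
abbrev e : FreeGroup Gen := FreeGroup.of Gen.e
abbrev f : FreeGroup Gen := FreeGroup.of Gen.f

/-- the Coxeter graph -/
def edges : List (Gen × ℕ × Gen) :=
  [(.a, 5, .b), (.b, 3, .c), (.c, 8, .d), (.d, 3, .e), (.b, 3, .f)]

/-- the further relators -/
def extra : List (FreeGroup Gen) := [  a * ((c * d) ^ 4)⁻¹,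
  (a * b * c * f) ^ 5,
  ((b * c * d * c * d) ^ 5 * e) ^ 3]

/-- the inclusion of the generators -/
def ι : Gen → Suz.Gen
  | .a => .a
  | .b => .b
  | .c => .c
  | .d => .d
  | .e => .e
  | .f => .f

end E6

/-- the group of the sub-presentation on a, b, c, d, e, f -/
abbrev E6 : Type := CoxPresented E6.Gen E6.edges E6.extra

namespace E5

/-- the generators a, b, c, d, e -/
inductive Gen
  | a
  | b
  | c
  | d
  | e
  deriving DecidableEq

abbrev a : FreeGroup Gen := FreeGroup.of Gen.a
abbrev b : FreeGroup Gen := FreeGroup.of Gen.b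
abbrev c : FreeGroup Gen := FreeGroup.of Gen.c
abbrev d : FreeGroup Gen := FreeGroup.of Gen.d
abbrev e : FreeGroup Gen := FreeGroup.of Gen.e

/-- the Coxeter graph -/
def edges : List (Gen × ℕ × Gen) :=
  [(.a, 5, .b), (.b, 3, .c), (.c, 8, .d), (.d, 3, .e)]

/-- the further relators -/
def extra : List (FreeGroup Gen) := [  a * ((c * d) ^ 4)⁻¹,
  ((b * c * d * c * d) ^ 5 * e) ^ 3]

/-- the inclusion of the generators -/
def ι : Gen → E6.Gen
  | .a => .a
  | .b => .b
  | .c => .c
  | .d => .d
  | .e => .e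

end E5

/-- the group of the sub-presentation on a, b, c, d, e -/
abbrev E5 : Type := CoxPresented E5.Gen E5.edges E5.extra

/-- the inclusion of the generators a, b, c, d -/
def ι4 : Q4.Gen → E5.Gen
  | .a => .a
  | .b => .b
  | .c => .c
  | .d => .d

/-- `E6` maps to `Suz` -/
def subE6 : SubPres Suz.edges Suz.extra E6.edges E6.extra where
  ι := E6.ι
  hnode := by decide
  hlabel := by decide
  hextra := by
    intro r hr
    simp only [E6.extra, List.mem_cons, List.not_mem_nil, or_false] at hr
    rcases hr with rfl | rfl | rfl <;>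
      simp only [map_mul, map_inv, map_pow, FreeGroup.map.of, E6.ι, Suz.extra, List.mem_cons,
        true_or, or_true]

/-- `E5` maps to `E6` -/
def subE5 : SubPres E6.edges E6.extra E5.edges E5.extra where
  ι := E5.ι
  hnode := by decide
  hlabel := by decide
  hextra := by
    intro r hr
    simp only [E5.extra, List.mem_cons, List.not_mem_nil, or_false] at hr
    rcases hr with rfl | rfl <;>
      simp only [map_mul, map_inv, map_pow, FreeGroup.map.of, E5.ι, E6.extra, List.mem_cons,
        true_or, or_true]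

/-- `Q4` maps to `E5` -/
def subE4 : SubPres E5.edges E5.extra Q4.edges Q4.extra where
  ι := ι4
  hnode := by decide
  hlabel := by decide
  hextra := by
    intro r hr
    simp only [Q4.extra, List.mem_cons, List.not_mem_nil, or_false] at hr
    rcases hr with rfl
    simp only [map_mul, map_inv, map_pow, FreeGroup.map.of, ι4, E5.extra, List.mem_cons,
      true_or, or_true]

theorem rangeE6 : (Set.range fun y => FreeGroup.of (subE6.ι y)) =
    ({Suz.a, Suz.b, Suz.c, Suz.d, Suz.e, Suz.f} : Set (FreeGroup Suz.Gen)) := by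
  ext z
  constructor
  · rintro ⟨y, rfl⟩
    cases y <;> simp [subE6, E6.ι]
  · intro hz
    simp only [Set.mem_insert_iff, Set.mem_singleton_iff] at hz
    rcases hz with rfl | rfl | rfl | rfl | rfl | rfl
    · exact ⟨.a, rfl⟩
    · exact ⟨.b, rfl⟩
    · exact ⟨.c, rfl⟩
    · exact ⟨.d, rfl⟩
    · exact ⟨.e, rfl⟩
    · exact ⟨.f, rfl⟩

theorem rangeE5 : (Set.range fun y => FreeGroup.of (subE5.ι y)) =
    ({E6.a, E6.b, E6.c, E6.d, E6.e} : Set (FreeGroup E6.Gen)) := by
  ext z
  constructor
  · rintro ⟨y, rfl⟩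
    cases y <;> simp [subE5, E5.ι]
  · intro hz
    simp only [Set.mem_insert_iff, Set.mem_singleton_iff] at hz
    rcases hz with rfl | rfl | rfl | rfl | rfl
    · exact ⟨.a, rfl⟩
    · exact ⟨.b, rfl⟩
    · exact ⟨.c, rfl⟩
    · exact ⟨.d, rfl⟩
    · exact ⟨.e, rfl⟩

theorem rangeE4 : (Set.range fun y => FreeGroup.of (subE4.ι y)) =
    ({E5.a, E5.b, E5.c, E5.d} : Set (FreeGroup E5.Gen)) := by
  ext z
  constructor
  · rintro ⟨y, rfl⟩
    cases y <;> simp [subE4, ι4]
  · intro hz
    simp only [Set.mem_insert_iff, Set.mem_singleton_iff] at hz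
    rcases hz with rfl | rfl | rfl | rfl
    · exact ⟨.a, rfl⟩
    · exact ⟨.b, rfl⟩
    · exact ⟨.c, rfl⟩
    · exact ⟨.d, rfl⟩

end Cfsg.Agent.Lib.Helper6.SuzESub
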