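import Cfsg.Agent.Lib.Helper6.SuzE6TCData
import Cfsg.Agent.Lib.Helper6.TCInst
import Cfsg.Agent.Lib.Helper6.SuzESub

/-! # SuzE6: the kernel checks of the words, the coset table and the orbits -/

set_option autoImplicit false

namespace Cfsg.Agent.Lib.Helper6.SuzE6TC

open Cfsg.Agent.Lib.Helper6.TC Cfsg.Spor Cfsg.Agent.Lib.Helper6.SuzSub Cfsg.Agent.Lib.Helper6.SuzESub

/-- the generator with a given code -/
def gen : ℕ → E6.Gen
  | 0 => .a
  | 1 => .b
  | 2 => .c
  | 3 => .d
  | 4 => .e
  | _ => .f

/-- the code of a generator -/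
def code : E6.Gen → ℕ
  | .a => 0
  | .b => 1
  | .c => 2
  | .d => 3
  | .e => 4
  | .f => 5

theorem chk_words : wordsSrcOK cfg (coxWordsL E6.edges gen cfg.g ++ extraWords) nw srcs = true := by
  decide +kernel

theorem chk_tab : tab.tabOK = true := by decide +kernel

theorem chk_rels : tab.relsOK (coxWordsL E6.edges gen cfg.g ++ extraWords) = true := by
  decide +kernel

theorem chk_tree : tab.treeOK = true := by decide +kernel

theorem chk_sub : subOK cfg tab subW = true := by decide +kernel

theorem chk_orb1 : tab.orbRun subW orbInstr1 [orbRoot1] (bset 0 orbRoot1) = some orbB1 := by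
  decide +kernel

theorem chk_closed1 : tab.closedOK subW orbB1 = true := by decide +kernel

theorem chk_cnt1 : cnt orbB1 tab.n = 315 := by decide +kernel

theorem chk_orb2 : tab.orbRun subW orbInstr2 [orbRoot2] (bset 0 orbRoot2) = some orbB2 := by
  decide +kernel

theorem chk_closed2 : tab.closedOK subW orbB2 = true := by decide +kernel

theorem chk_cnt2 : cnt orbB2 tab.n = 100 := by decide +kernel


end Cfsg.Agent.Lib.Helper6.SuzE6TC
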