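import Cfsg.Agent.Lib.Helper6.SuzE6TCChk1
import Cfsg.Agent.Lib.Helper6.SuzE6TCChk2

/-! # The sub-presentation of Suz on a, b, c, d, e, f: the subgroup generated by a, b, c, d, e has index 416 -/

set_option autoImplicit false
set_option linter.constructorNameAsVariable false
set_option linter.unusedSimpArgs false

namespace Cfsg.Agent.Lib.Helper6.SuzE6TC

open Cfsg.Agent.Lib.Helper6.TC Cfsg.Spor Cfsg.Agent.Lib.Helper6.SuzSub Cfsg.Agent.Lib.Helper6.SuzESub

theorem extra_iff {K : Type} [Group K] (f : E6.Gen → K) (hf : ∀ a, f a * f a = 1) :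
    (∀ r ∈ E6.extra, FreeGroup.lift f r = 1) ↔
      ∀ w ∈ extraWords, (w.map (fun x => f (gen x))).prod = 1 := by
  have hi : ∀ a, (f a)⁻¹ = f a := fun a => inv_eq_of_mul_eq_one_left (hf a)
  simp only [E6.extra, extraWords, List.forall_mem_cons, List.not_mem_nil, false_imp_iff,
    implies_true, and_true, IsEmpty.forall_iff]
  simp only [E6.a, E6.b, E6.c, E6.d, E6.e, E6.f, map_mul, map_inv, map_pow,
    FreeGroup.lift_apply_of, List.map_cons, List.map_nil, List.prod_cons, List.prod_nil, gen,
    mul_inv_rev, inv_pow, hi, pow_succ, pow_zero, one_mul, mul_one, mul_assoc]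

/-- the generating set of the subgroup -/
abbrev S : Set (FreeGroup E6.Gen) :=
  {E6.a, E6.b, E6.c, E6.d, E6.e}

theorem hS (s : FreeGroup E6.Gen) : s ∈ S ↔ ∃ w ∈ subW, s = fgWord gen w := by
  simp only [S, subW, fgWord, Set.mem_insert_iff, Set.mem_singleton_iff, List.mem_cons,
    List.not_mem_nil, or_false, exists_eq_or_imp, exists_eq_left, List.map_cons, List.map_nil,
    List.prod_cons, List.prod_nil, mul_one, gen, pow_succ, pow_zero, one_mul, mul_assoc]

/-- the data of the enumeration -/
def data : CoxData E6.edges E6.extra S where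
  gen := gen
  code := code
  c := cfg
  extraWords := extraWords
  nw := nw
  srcs := srcs
  T := tab
  subW := subW
  hnode := by intro a; cases a <;> decide
  hcode := by intro a; cases a <;> exact ⟨by decide, rfl⟩
  hgen := by
    intro x hx
    have hx' : x < 6 := hx
    interval_cases x <;> rfl
  hTg := rfl
  hTn := show 0 < 416 by norm_num
  hw := show 1 < 2 ^ 10 by norm_num
  chk_words := chk_words
  hrun := RunCert.of_run (show 1 < 2 ^ 10 by norm_num) (show 0 < 416 by norm_num) chk_run
  chk_tab := chk_tab
  chk_rels := chk_rels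
  chk_tree := chk_tree
  hextra := fun f hf => extra_iff f hf
  hS := hS
  chk_sub := chk_sub

theorem tab_n : tab.n = 416 := rfl

/-- orbit 1 -/
def orb1 : data.Orb where
  a := orbRoot1
  ha := show 1 < 416 by norm_num
  instrs := orbInstr1
  B := orbB1
  chk_orb := chk_orb1
  chk_closed := chk_closed1

/-- orbit 2 -/
def orb2 : data.Orb where
  a := orbRoot2
  ha := show 38 < 416 by norm_num
  instrs := orbInstr2
  B := orbB2
  chk_orb := chk_orb2
  chk_closed := chk_closed2


theorem main : ((Subgroup.closure S).map (PresentedGroup.mk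
      (coxRelators E6.edges ∪ {r | r ∈ E6.extra}))).index = 416 :=
  data.index_eq

end Cfsg.Agent.Lib.Helper6.SuzE6TC
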