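import Cfsg.Agent.Lib.Helper6.SuzE6Simp
import Cfsg.Agent.Lib.Helper6.SuzE6TC
import Cfsg.Agent.Lib.Helper6.SuzE5TC
import Cfsg.Agent.Lib.Helper6.SuzQ4TC
import Cfsg.Agent.Lib.Helper6.SuzQ2TC

/-! # The sub-presentation of the presented Suzuki group on `a, …, f` is simple of order
251596800 -/

set_option autoImplicit false

namespace Cfsg.Agent.Lib.Helper6.SuzE6Simple

open Cfsg.Spor Cfsg.Agent.Lib.Helper6.Simp Cfsg.Agent.Lib.Helper6.SuzSub
  Cfsg.Agent.Lib.Helper6.SuzESub Cfsg.Agent.Lib.Helper6.TC Cfsg.Agent.Lib.Helper6.NatArr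

/-- the order is at most `416 * 280 * 216 * 10` -/
theorem ub : Finite E6 ∧ Nat.card E6 ≤ 251596800 := by
  have h2 := finite_card_of_index_empty SuzQ2TC.main (by norm_num)
  have h4 := sub2.finite_card_le SuzQ4TC.S range2.symm SuzQ4TC.main (by norm_num) h2.1
    (le_of_eq h2.2)
  have h5 := subE4.finite_card_le SuzE5TC.S rangeE4.symm SuzE5TC.main (by norm_num) h4.1 h4.2
  have h6 := subE5.finite_card_le SuzE6TC.S rangeE5.symm SuzE6TC.main (by norm_num) h5.1 h5.2
  exact ⟨h6.1, h6.2.trans (by norm_num)⟩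

theorem chk_cover : allBelow 416 (fun b => Nat.beq b 0 ||
    (btest SuzE6TC.orbB1 b || btest SuzE6TC.orbB2 b)) = true := by decide +kernel

theorem chk_disj : Nat.land SuzE6TC.orbB1 SuzE6TC.orbB2 = 0 := by decide +kernel

theorem chk_disj' : Nat.land SuzE6TC.orbB2 SuzE6TC.orbB1 = 0 := by decide +kernel

theorem chk_o1 : SuzE6TC.orbB1.testBit 0 = false := by decide +kernel

theorem chk_o2 : SuzE6TC.orbB2.testBit 0 = false := by decide +kernel

/-- **the sub-presentation on `a, …, f` is simple of order 251596800** -/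
theorem main : IsSimpleGroup E6 ∧ Nat.card E6 = 251596800 := by
  refine simple_card SuzE6TC.data ub SuzE6Simp.levels SuzE6Simp.chain_ok SuzE6Simp.chain_prod
    (r := 2) ![SuzE6TC.orb1, SuzE6TC.orb2] ![315, 100] ?_ ?_ ?_ ?_ ?_ 13 ?_ SuzE6Simp.us
    SuzE6Simp.chk_pow ?_
  · intro i
    fin_cases i
    · exact SuzE6TC.chk_cnt1
    · exact SuzE6TC.chk_cnt2
  · intro b hb
    have h := allBelow_spec _ _ chk_cover b hb
    simp only [Bool.or_eq_true, btest_eq] at h
    rcases h with h | h | h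
    · exact Or.inl (Nat.eq_of_beq_eq_true h)
    · exact Or.inr ⟨0, h⟩
    · exact Or.inr ⟨1, h⟩
  · intro i j hij
    fin_cases i <;> fin_cases j
    · exact absurd rfl hij
    · exact chk_disj
    · exact chk_disj'
    · exact absurd rfl hij
  · intro i
    fin_cases i
    · exact chk_o1
    · exact chk_o2
  · show ∀ I : Finset (Fin 2), I.Nonempty → (1 + ∑ i ∈ I, ![315, 100] i) ∣ 416 →
      1 + ∑ i ∈ I, ![315, 100] i = 416
    decide
  · show (251596800 / 416).Coprime 13
    norm_num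
  · show 1 < 416
    norm_num

end Cfsg.Agent.Lib.Helper6.SuzE6Simple
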