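import Cfsg.Agent.Lib.Helper6.G24Mat
import Cfsg.Agent.Lib.Helper6.SuzE6Simple
import Cfsg.Agent.Lib.Helper6.SuzSimple

/-! # In the presented Suzuki group, `⟨a, …, f⟩` is the Chevalley group of type G2 over the field
with four elements

The sub-presentation `E6` on `a, …, f` is simple of order `251596800`, and it maps to the group of
matrices, with image the Chevalley group: the images of the generators are words in the root
elements and the root elements are words in the images of the generators. -/

set_option autoImplicit false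
set_option linter.constructorNameAsVariable false

namespace Cfsg.Agent.Lib.Helper6.G24Iso

open Cfsg.Agent.Lib.Helper6.ChevMatL Cfsg.Agent.Lib.Helper6.ChevMatL4 Cfsg.Agent.Lib.Helper6.M21
  Cfsg.Agent.Lib.Helper6.TC Cfsg.Agent.Lib.Helper6.SuzESub Cfsg.Agent.Lib.Helper6.G24Mat Cfsg.Lie
  Cfsg.Spor Cfsg.Agent.Lib.Helper6.Simp

/-- the words of the relators are trivial, so the relators are -/
theorem lift_eq_one_of_words {α : Type} [DecidableEq α] {edges : List (α × ℕ × α)}
    {extra : List (FreeGroup α)} {K : Type} [Group K] (gen : ℕ → α) (code : α → ℕ) (g : ℕ)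
    (extraWords : List (List ℕ)) (hcode : ∀ a, code a < g ∧ gen (code a) = a) (f : α → K)
    (hextra : (∀ r ∈ extra, FreeGroup.lift f r = 1) ↔
      ∀ w ∈ extraWords, (w.map fun x => f (gen x)).prod = 1)
    (hw : ∀ w ∈ coxWordsL edges gen g ++ extraWords, (w.map fun x => f (gen x)).prod = 1) :
    ∀ r ∈ coxRelators edges ∪ {r | r ∈ extra}, FreeGroup.lift f r = 1 := by
  intro r hr
  rcases hr with ⟨x, _, y, _, rfl⟩ | hr
  · rw [map_pow, map_mul, FreeGroup.lift_apply_of, FreeGroup.lift_apply_of]
    have hx := hcode x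
    have hy := hcode y
    have hm := mem_coxWordsL edges gen hx.1 hy.1
    have := hw _ (List.mem_append_left _ hm)
    rw [prod_rep2 (fun x => f (gen x)), hx.2, hy.2] at this
    exact this
  · exact hextra.2 (fun w hw' => hw w (List.mem_append_right _ hw')) r hr

theorem getD_mem {α : Type*} {l : List α} {d : α} (hd : d ∈ l) (i : ℕ) : l.getD i d ∈ l := by
  by_cases h : i < l.length
  · rw [List.getD_eq_getElem _ _ h]
    exact List.getElem_mem h
  · rw [List.getD_eq_default _ _ (Nat.le_of_not_gt h)]
    exact hd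

/-- the set of indices -/
abbrev I : Type := chevG2.Idx

/-- the matrices -/
abbrev M : Type := Matrix I I F4c

/-- the matrix with the given columns -/
def mt (Y : List (List F4c)) : M := toMt chevG2.rank chevG2.nroots Y

/-- the matrix with the given rows -/
def mr (X : List (List F4c)) : M := toM chevG2.rank chevG2.nroots X

theorem mt_apply (Y : List (List F4c)) (i j : I) :
    mt Y i j = entry Y (code chevG2.rank chevG2.nroots j) (code chevG2.rank chevG2.nroots i) := rfl

theorem mr_transp4 (Y : List (List F4c)) : mr (transp4 14 Y) = mt Y := by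
  ext i j
  rw [transp4_eq]
  exact entry_transp Y (code_lt chevG2.rank chevG2.nroots i) _

theorem mr_idL4 : mr (idL4 14) = 1 := by
  rw [idL4_eq]
  exact (toM_one chevG2.rank chevG2.nroots).symm

theorem mt_prod (Ms : List (List (List F4c))) (h : ∀ Y ∈ Ms, colsOK 14 Y) :
    (Ms.map mt).prod = mr (prodT4 14 Ms) := by
  rw [prodT4_eq]
  exact (toM_prodT chevG2.rank chevG2.nroots Ms h).symm

theorem mt_mul_self {Y : List (List F4c)} (hc : colsOK 14 Y) (h : prodT4 14 [Y, Y] = idL4 14) :
    mt Y * mt Y = 1 := by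
  have h1 := mt_prod [Y, Y] (by
    intro Z hZ
    simp only [List.mem_cons, List.not_mem_nil, or_false, or_self] at hZ
    rw [hZ]
    exact hc)
  rw [h, mr_idL4] at h1
  rw [← h1]
  simp

/-! ### the images of the generators -/

/-- the matrix of a generator -/
def gMt (x : ℕ) : M := mt (genLt x)

theorem genLt_mem (x : ℕ) : genLt x ∈ genTbl :=
  getD_mem (by simp [genTbl]) x

theorem gMt_mul_self (x : ℕ) : gMt x * gMt x = 1 :=
  mt_mul_self (chk_gcols _ (genLt_mem x)) (chk_ginv _ (genLt_mem x))

/-- the matrix of a generator, as a unit -/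
def gU (x : ℕ) : GL I F4c := ⟨gMt x, gMt x, gMt_mul_self x, gMt_mul_self x⟩

theorem gU_mul_self (x : ℕ) : gU x * gU x = 1 := Units.ext (gMt_mul_self x)

theorem coe_prod_gU (w : List ℕ) : ((w.map gU).prod : GL I F4c).val = (w.map gMt).prod := by
  induction w with
  | nil => rfl
  | cons x w ih =>
    rw [List.map_cons, List.prod_cons, Units.val_mul, ih, List.map_cons, List.prod_cons]
    rfl

theorem prod_gMt (w : List ℕ) : (w.map gMt).prod = mr (prodT4 14 (w.map genLt)) := by
  have h := mt_prod (w.map genLt) (by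
    intro Y hY
    obtain ⟨x, _, rfl⟩ := List.mem_map.1 hY
    exact chk_gcols _ (genLt_mem x))
  rw [List.map_map] at h
  exact h

/-! ### the root elements -/

/-- the matrix of a root element -/
def xMt (r : ℕ) (t : F4c) : M := mt (xLt r t)

theorem xLt_mem (r : ℕ) : xTbl.getD r xDef ∈ xDef :: xTbl := by
  by_cases h : r < xTbl.length
  · rw [List.getD_eq_getElem _ _ h]
    exact List.mem_cons_of_mem _ (List.getElem_mem h)
  · rw [List.getD_eq_default _ _ (Nat.le_of_not_gt h)]
    exact List.mem_cons_self

theorem xMt_mul_self (r : ℕ) (t : F4c) : xMt r t * xMt r t = 1 :=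
  mt_mul_self (chk_xcols _ (xLt_mem r) t) (chk_xinv _ (xLt_mem r) t)

/-- the matrix of a root element, as a unit -/
def xU (r : ℕ) (t : F4c) : GL I F4c := ⟨xMt r t, xMt r t, xMt_mul_self r t, xMt_mul_self r t⟩

theorem xMt_eq {r : ℕ} (hr : r < 12) (t : F4c) : xMt r t = chevG2.x F4c r t := by
  ext i j
  exact (chk_x r hr t i j).symm

theorem x_eq (r : Fin chevG2.nroots) (t : F4c) : chevG2.x F4c r.val t = chevG2.xMat F4c r t := by
  unfold ChevalleyDatum.x
  rw [dif_pos r.isLt]

theorem xU_mem {r : ℕ} (hr : r < 12) (t : F4c) : xU r t ∈ chevG2.group F4c := by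
  refine Subgroup.subset_closure ⟨⟨r, hr⟩, t, ?_⟩
  show xMt r t = _
  rw [xMt_eq hr]
  exact x_eq ⟨r, hr⟩ t

theorem coe_prod_xU (l : List (ℕ × F4c)) :
    ((l.map fun p => xU p.1 p.2).prod : GL I F4c).val = (l.map fun p => xMt p.1 p.2).prod := by
  induction l with
  | nil => rfl
  | cons x w ih =>
    rw [List.map_cons, List.prod_cons, Units.val_mul, ih, List.map_cons, List.prod_cons]
    rfl

theorem prod_xMt (l : List (ℕ × F4c)) :
    (l.map fun p => xMt p.1 p.2).prod = mr (prodT4 14 (l.map fun p => xLt p.1 p.2)) := by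
  have h := mt_prod (l.map fun p => xLt p.1 p.2) (by
    intro Y hY
    obtain ⟨p, _, rfl⟩ := List.mem_map.1 hY
    exact chk_xcols _ (xLt_mem p.1) p.2)
  rw [List.map_map] at h
  exact h

/-! ### the homomorphism -/

/-- the images of the generators -/
def fgen (a : E6.Gen) : GL I F4c := gU (SuzE6TC.code a)

theorem code_lt6 (a : E6.Gen) : SuzE6TC.code a < 6 := by
  cases a <;> decide

theorem fgen_gen {x : ℕ} (hx : x < 6) : fgen (SuzE6TC.gen x) = gU x := by
  interval_cases x <;> rfl

theorem word_eq_one {w : List ℕ}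
    (hw : w ∈ coxWordsL E6.edges SuzE6TC.gen 6 ++ SuzE6TC.extraWords) :
    (w.map fun x => fgen (SuzE6TC.gen x)).prod = 1 := by
  have h1 := List.all_eq_true.1 chk_rels w hw
  have h2 := List.all_eq_true.1 chk_rels_lt w hw
  have h3 : w.map (fun x => fgen (SuzE6TC.gen x)) = w.map gU :=
    List.map_congr_left fun x hx => fgen_gen (of_decide_eq_true (List.all_eq_true.1 h2 x hx))
  rw [h3]
  apply Units.ext
  rw [coe_prod_gU, prod_gMt, of_decide_eq_true h1, mr_idL4]
  rfl

theorem lift_rel : ∀ r ∈ coxRelators E6.edges ∪ {r | r ∈ E6.extra}, FreeGroup.lift fgen r = 1 :=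
  lift_eq_one_of_words SuzE6TC.gen SuzE6TC.code 6 SuzE6TC.extraWords
    (by intro a; cases a <;> exact ⟨by decide, rfl⟩) fgen
    (SuzE6TC.extra_iff fgen fun a => gU_mul_self _) fun _ hw => word_eq_one hw

/-- the homomorphism from the sub-presentation to the group of matrices -/
noncomputable def ψ : E6 →* GL I F4c := PresentedGroup.toGroup lift_rel

theorem ψ_of (a : E6.Gen) : ψ (PresentedGroup.of a) = fgen a := PresentedGroup.toGroup.of _

theorem chk_memb_lt : ∀ i, i < 6 → ∀ p ∈ memW i, p.1 < 12 := by decide +kernel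

theorem gU_mem {i : ℕ} (hi : i < 6) : gU i ∈ chevG2.group F4c := by
  have h : gU i = ((memW i).map fun p => xU p.1 p.2).prod := by
    apply Units.ext
    rw [coe_prod_xU, prod_xMt, chk_memb i hi, mr_transp4]
    rfl
  rw [h]
  apply Subgroup.list_prod_mem
  intro g hg
  obtain ⟨p, hp, rfl⟩ := List.mem_map.1 hg
  exact xU_mem (chk_memb_lt i hi p hp) p.2

theorem range_le : ψ.range ≤ chevG2.group F4c := by
  rw [MonoidHom.range_eq_map, ← PresentedGroup.closure_range_of, MonoidHom.map_closure,
    Subgroup.closure_le]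
  rintro _ ⟨_, ⟨a, rfl⟩, rfl⟩
  show ψ (PresentedGroup.of a) ∈ _
  rw [ψ_of]
  exact gU_mem (code_lt6 a)

theorem le_range : chevG2.group F4c ≤ ψ.range := by
  unfold ChevalleyDatum.group
  rw [Subgroup.closure_le]
  rintro g ⟨r, t, hg⟩
  have hr : r.val < 12 := r.isLt
  have h1 : g = xU r.val t := Units.ext (by
    rw [hg, ← x_eq r t, ← xMt_eq hr]
    rfl)
  have h2 : xU r.val t = ((rootW r.val t).map gU).prod := by
    apply Units.ext
    rw [coe_prod_gU, prod_gMt, chk_root r.val hr t, mr_transp4]
    rfl
  have h3 : ((rootW r.val t).map gU).prod =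
      ψ (((rootW r.val t).map fun x => PresentedGroup.of (SuzE6TC.gen x)).prod) := by
    rw [map_list_prod, List.map_map]
    congr 1
    apply List.map_congr_left
    intro x hx
    rw [Function.comp_apply, ψ_of, fgen_gen (chk_root_lt r.val hr t x hx)]
  rw [h1, h2, h3]
  exact ⟨_, rfl⟩

theorem ψ_injective : Function.Injective ψ := by
  have hs := SuzE6Simple.main.1
  rcases (MonoidHom.normal_ker ψ).eq_bot_or_eq_top with h | h
  · exact (MonoidHom.ker_eq_bot_iff ψ).1 h
  · exfalso
    have h1 : ψ (PresentedGroup.of E6.Gen.a) = 1 := by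
      have : PresentedGroup.of E6.Gen.a ∈ ψ.ker := by
        rw [h]
        trivial
      exact this
    rw [ψ_of] at h1
    have h2 : gMt 0 = 1 := congrArg Units.val h1
    obtain ⟨i, j, hij⟩ := chk_ne
    apply hij
    have h3 := congrFun (congrFun h2 i) j
    rw [Matrix.one_apply] at h3
    exact h3

/-- the sub-presentation is the Chevalley group -/
noncomputable def isoE6 : E6 ≃* chevG2.group F4c :=
  (MonoidHom.ofInjective ψ_injective).trans
    (MulEquiv.subgroupCongr (le_antisymm range_le le_range))

/-! ### the subgroup of the Suzuki group -/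

/-- the subgroup generated by `a, …, f` -/
abbrev H : Subgroup Suz :=
  (Subgroup.closure ({Suz.a, Suz.b, Suz.c, Suz.d, Suz.e, Suz.f} : Set (FreeGroup Suz.Gen))).map
    (PresentedGroup.mk (coxRelators Suz.edges ∪ {r | r ∈ Suz.extra}))

theorem range_eq : subE6.hom.range = H := by
  rw [subE6.range_hom, rangeE6]

theorem card_H : Nat.card H = 251596800 := by
  have h1 := Subgroup.card_mul_index H
  have h2 : H.index = 1782 := SuzTC.main.1
  have h3 : Nat.card Suz = 448345497600 := SuzSimple.main.2
  rw [h2, h3] at h1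
  have h4 : Nat.card H * 1782 = 251596800 * 1782 := h1.trans (by norm_num)
  exact Nat.eq_of_mul_eq_mul_right (by norm_num) h4

/-- the map from the sub-presentation onto the subgroup -/
noncomputable def π : E6 →* H :=
  subE6.hom.codRestrict H (fun q => by rw [← range_eq]; exact ⟨q, rfl⟩)

theorem π_surjective : Function.Surjective π := by
  rintro ⟨h, hh⟩
  rw [← range_eq] at hh
  obtain ⟨q, rfl⟩ := hh
  exact ⟨q, Subtype.ext rfl⟩

theorem π_bijective : Function.Bijective π := by
  have hc : Nat.card E6 = 251596800 := SuzE6Simple.main.2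
  have : Finite E6 := Nat.finite_of_card_ne_zero (by rw [hc]; norm_num)
  exact π_surjective.bijective_of_nat_card_le (by rw [card_H, hc])

/-- **`⟨a, …, f⟩ ≤ Suz` is the Chevalley group of type G2 over the field with four elements** -/
theorem main : Nonempty (H ≃* chevG2.group F4c) :=
  ⟨(MulEquiv.ofBijective π π_bijective).symm.trans isoE6⟩

end Cfsg.Agent.Lib.Helper6.G24Iso
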