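import Cfsg.Agent.Lib.Helper6.ChevMatL4
import Cfsg.Agent.Lib.Helper6.SuzE6TCChk2
import Cfsg.Prelude.Def_ChevG2
import Cfsg.Prelude.Def_ChevWords

/-! # Matrices of the Chevalley group of type G2 over the field with four elements: the root
elements, six involutions that satisfy the relators of the sub-presentation of the Suzuki group on
`a, …, f`, and words that express the ones by the others (generated; the words were found by a
search in the matrix group). All matrices are given by the lists of their columns. -/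

set_option autoImplicit false
set_option maxRecDepth 1000000
set_option maxHeartbeats 4000000

namespace Cfsg.Agent.Lib.Helper6.G24Mat

open Cfsg.Agent.Lib.Helper6.ChevMatL Cfsg.Agent.Lib.Helper6.ChevMatL4 Cfsg.Agent.Lib.Helper6.M21
  Cfsg.Agent.Lib.Helper6.M21.F4c Cfsg.Agent.Lib.Helper6.TC Cfsg.Agent.Lib.Helper6.SuzESub Cfsg.Lie

/-- an entry of a root element of a Chevalley group -/
def xE (D : ChevalleyDatum) (F : Type) [Field F] (r : ℕ) (t : F) (i j : D.Idx) : F := D.x F r t i j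

/-- the root element of root 0 with parameter e -/
def x0_e : List (List F4c) :=
  [[e, o, o, o, o, o, o, o, o, o, o, o, o, o],
    [o, e, e, o, o, o, o, o, o, o, o, o, o, o],
    [o, o, e, o, o, o, o, o, o, o, o, o, o, o],
    [o, o, o, e, o, o, o, o, o, o, o, o, o, o],
    [o, o, o, o, e, o, o, o, o, o, o, o, o, o],
    [o, o, o, o, o, e, o, o, o, o, o, o, o, o],
    [o, o, o, o, o, o, e, o, o, o, o, o, o, o],
    [o, o, o, o, o, o, o, e, o, o, o, o, o, o],
    [o, o, o, e, o, o, o, o, e, o, o, o, o, o],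
    [o, o, o, o, o, o, o, o, o, e, o, o, o, o],
    [o, o, o, o, e, o, o, o, o, o, e, o, o, o],
    [o, o, o, o, o, e, o, o, o, o, o, e, o, o],
    [o, o, o, o, o, o, o, e, o, o, o, o, e, o],
    [e, o, e, o, o, o, o, o, o, o, o, o, o, e]]

/-- the root element of root 0 with parameter w -/
def x0_w : List (List F4c) :=
  [[e, o, o, o, o, o, o, o, o, o, o, o, o, o],
    [o, e, w, o, o, o, o, o, o, o, o, o, o, o],
    [o, o, e, o, o, o, o, o, o, o, o, o, o, o],
    [o, o, o, e, o, o, o, o, o, o, o, o, o, o],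
    [o, o, o, o, e, o, o, o, o, o, o, o, o, o],
    [o, o, o, o, o, e, o, o, o, o, o, o, o, o],
    [o, o, o, o, o, o, e, o, o, o, o, o, o, o],
    [o, o, o, o, o, o, o, e, o, o, o, o, o, o],
    [o, o, o, w, o, o, o, o, e, o, o, o, o, o],
    [o, o, o, o, o, o, o, o, o, e, o, o, o, o],
    [o, o, o, o, w, o, o, o, o, o, e, o, o, o],
    [o, o, o, o, o, w, o, o, o, o, o, e, o, o],
    [o, o, o, o, o, o, o, w, o, o, o, o, e, o],
    [w, o, v, o, o, o, o, o, o, o, o, o, o, e]]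

/-- the root element of root 0 with parameter v -/
def x0_v : List (List F4c) :=
  [[e, o, o, o, o, o, o, o, o, o, o, o, o, o],
    [o, e, v, o, o, o, o, o, o, o, o, o, o, o],
    [o, o, e, o, o, o, o, o, o, o, o, o, o, o],
    [o, o, o, e, o, o, o, o, o, o, o, o, o, o],
    [o, o, o, o, e, o, o, o, o, o, o, o, o, o],
    [o, o, o, o, o, e, o, o, o, o, o, o, o, o],
    [o, o, o, o, o, o, e, o, o, o, o, o, o, o],
    [o, o, o, o, o, o, o, e, o, o, o, o, o, o],
    [o, o, o, v, o, o, o, o, e, o, o, o, o, o],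
    [o, o, o, o, o, o, o, o, o, e, o, o, o, o],
    [o, o, o, o, v, o, o, o, o, o, e, o, o, o],
    [o, o, o, o, o, v, o, o, o, o, o, e, o, o],
    [o, o, o, o, o, o, o, v, o, o, o, o, e, o],
    [v, o, w, o, o, o, o, o, o, o, o, o, o, e]]

/-- the root elements of root 0 -/
def xF0 : F4c → List (List F4c)
  | o => idL4 14
  | e => x0_e
  | w => x0_w
  | v => x0_v

/-- the root element of root 1 with parameter e -/
def x1_e : List (List F4c) :=
  [[e, o, o, e, o, o, o, o, o, o, o, o, o, o],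
    [o, e, o, e, o, o, o, o, o, o, o, o, o, o],
    [o, o, e, o, o, o, o, o, o, o, o, o, o, o],
    [o, o, o, e, o, o, o, o, o, o, o, o, o, o],
    [o, o, o, o, e, o, o, o, o, o, o, o, o, o],
    [o, o, o, o, o, e, o, o, o, o, o, o, o, o],
    [o, o, o, o, o, o, e, o, o, o, o, o, o, o],
    [o, o, e, o, o, o, o, e, o, o, o, o, o, o],
    [o, o, o, o, o, o, o, o, e, o, o, o, o, o],
    [o, o, o, o, e, o, o, o, o, e, o, o, o, o],
    [o, o, o, o, o, o, o, o, o, o, e, o, o, o],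
    [o, o, o, o, o, o, e, o, o, o, o, e, o, o],
    [e, e, o, e, o, o, o, o, o, o, o, o, e, o],
    [o, o, o, o, o, o, o, o, e, o, o, o, o, e]]

/-- the root element of root 1 with parameter w -/
def x1_w : List (List F4c) :=
  [[e, o, o, w, o, o, o, o, o, o, o, o, o, o],
    [o, e, o, w, o, o, o, o, o, o, o, o, o, o],
    [o, o, e, o, o, o, o, o, o, o, o, o, o, o],
    [o, o, o, e, o, o, o, o, o, o, o, o, o, o],
    [o, o, o, o, e, o, o, o, o, o, o, o, o, o],
    [o, o, o, o, o, e, o, o, o, o, o, o, o, o],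
    [o, o, o, o, o, o, e, o, o, o, o, o, o, o],
    [o, o, w, o, o, o, o, e, o, o, o, o, o, o],
    [o, o, o, o, o, o, o, o, e, o, o, o, o, o],
    [o, o, o, o, w, o, o, o, o, e, o, o, o, o],
    [o, o, o, o, o, o, o, o, o, o, e, o, o, o],
    [o, o, o, o, o, o, w, o, o, o, o, e, o, o],
    [w, w, o, v, o, o, o, o, o, o, o, o, e, o],
    [o, o, o, o, o, o, o, o, w, o, o, o, o, e]]

/-- the root element of root 1 with parameter v -/
def x1_v : List (List F4c) :=
  [[e, o, o, v, o, o, o, o, o, o, o, o, o, o],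
    [o, e, o, v, o, o, o, o, o, o, o, o, o, o],
    [o, o, e, o, o, o, o, o, o, o, o, o, o, o],
    [o, o, o, e, o, o, o, o, o, o, o, o, o, o],
    [o, o, o, o, e, o, o, o, o, o, o, o, o, o],
    [o, o, o, o, o, e, o, o, o, o, o, o, o, o],
    [o, o, o, o, o, o, e, o, o, o, o, o, o, o],
    [o, o, v, o, o, o, o, e, o, o, o, o, o, o],
    [o, o, o, o, o, o, o, o, e, o, o, o, o, o],
    [o, o, o, o, v, o, o, o, o, e, o, o, o, o],
    [o, o, o, o, o, o, o, o, o, o, e, o, o, o],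
    [o, o, o, o, o, o, v, o, o, o, o, e, o, o],
    [v, v, o, w, o, o, o, o, o, o, o, o, e, o],
    [o, o, o, o, o, o, o, o, v, o, o, o, o, e]]

/-- the root elements of root 1 -/
def xF1 : F4c → List (List F4c)
  | o => idL4 14
  | e => x1_e
  | w => x1_w
  | v => x1_v

/-- the root element of root 2 with parameter e -/
def x2_e : List (List F4c) :=
  [[e, o, o, o, e, o, o, o, o, o, o, o, o, o],
    [o, e, o, o, o, o, o, o, o, o, o, o, o, o],
    [o, o, e, o, o, o, o, o, o, o, o, o, o, o],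
    [o, o, o, e, o, o, o, o, o, o, o, o, o, o],
    [o, o, o, o, e, o, o, o, o, o, o, o, o, o],
    [o, o, e, o, o, e, o, o, o, o, o, o, o, o],
    [o, o, o, e, o, o, e, o, o, o, o, o, o, o],
    [o, o, o, o, o, o, o, e, o, o, o, o, o, o],
    [o, o, o, o, o, o, o, o, e, o, o, o, o, o],
    [o, o, e, o, o, o, o, o, o, e, o, o, o, o],
    [o, o, o, e, o, o, o, o, o, o, e, o, o, o],
    [o, e, o, o, e, o, o, o, o, o, o, e, o, o],
    [o, o, e, o, o, e, o, o, o, e, o, o, e, o],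
    [o, o, o, e, o, o, e, o, o, o, e, o, o, e]]

/-- the root element of root 2 with parameter w -/
def x2_w : List (List F4c) :=
  [[e, o, o, o, w, o, o, o, o, o, o, o, o, o],
    [o, e, o, o, o, o, o, o, o, o, o, o, o, o],
    [o, o, e, o, o, o, o, o, o, o, o, o, o, o],
    [o, o, o, e, o, o, o, o, o, o, o, o, o, o],
    [o, o, o, o, e, o, o, o, o, o, o, o, o, o],
    [o, o, w, o, o, e, o, o, o, o, o, o, o, o],
    [o, o, o, w, o, o, e, o, o, o, o, o, o, o],
    [o, o, o, o, o, o, o, e, o, o, o, o, o, o],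
    [o, o, o, o, o, o, o, o, e, o, o, o, o, o],
    [o, o, v, o, o, o, o, o, o, e, o, o, o, o],
    [o, o, o, v, o, o, o, o, o, o, e, o, o, o],
    [o, w, o, o, v, o, o, o, o, o, o, e, o, o],
    [o, o, e, o, o, v, o, o, o, w, o, o, e, o],
    [o, o, o, e, o, o, v, o, o, o, w, o, o, e]]

/-- the root element of root 2 with parameter v -/
def x2_v : List (List F4c) :=
  [[e, o, o, o, v, o, o, o, o, o, o, o, o, o],
    [o, e, o, o, o, o, o, o, o, o, o, o, o, o],
    [o, o, e, o, o, o, o, o, o, o, o, o, o, o],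
    [o, o, o, e, o, o, o, o, o, o, o, o, o, o],
    [o, o, o, o, e, o, o, o, o, o, o, o, o, o],
    [o, o, v, o, o, e, o, o, o, o, o, o, o, o],
    [o, o, o, v, o, o, e, o, o, o, o, o, o, o],
    [o, o, o, o, o, o, o, e, o, o, o, o, o, o],
    [o, o, o, o, o, o, o, o, e, o, o, o, o, o],
    [o, o, w, o, o, o, o, o, o, e, o, o, o, o],
    [o, o, o, w, o, o, o, o, o, o, e, o, o, o],
    [o, v, o, o, w, o, o, o, o, o, o, e, o, o],
    [o, o, e, o, o, w, o, o, o, v, o, o, e, o],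
    [o, o, o, e, o, o, w, o, o, o, v, o, o, e]]

/-- the root elements of root 2 -/
def xF2 : F4c → List (List F4c)
  | o => idL4 14
  | e => x2_e
  | w => x2_w
  | v => x2_v

/-- the root element of root 3 with parameter e -/
def x3_e : List (List F4c) :=
  [[e, o, o, o, o, e, o, o, o, o, o, o, o, o],
    [o, e, o, o, o, e, o, o, o, o, o, o, o, o],
    [o, o, e, o, o, o, o, o, o, o, o, o, o, o],
    [o, o, o, e, o, o, o, o, o, o, o, o, o, o],
    [o, o, e, o, e, o, o, o, o, o, o, o, o, o],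
    [o, o, o, o, o, e, o, o, o, o, o, o, o, o],
    [o, o, e, o, o, o, e, o, o, o, o, o, o, o],
    [o, o, o, o, o, o, o, e, o, o, o, o, o, o],
    [o, o, e, o, e, o, e, o, e, o, o, o, o, o],
    [o, o, o, o, o, o, o, e, o, e, o, o, o, o],
    [e, e, o, o, o, e, o, o, o, o, e, o, o, o],
    [o, o, o, o, o, o, o, e, o, o, o, e, o, o],
    [o, o, o, o, o, o, o, o, o, o, o, o, e, o],
    [o, o, o, o, o, o, o, e, o, e, o, e, o, e]]

/-- the root element of root 3 with parameter w -/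
def x3_w : List (List F4c) :=
  [[e, o, o, o, o, w, o, o, o, o, o, o, o, o],
    [o, e, o, o, o, w, o, o, o, o, o, o, o, o],
    [o, o, e, o, o, o, o, o, o, o, o, o, o, o],
    [o, o, o, e, o, o, o, o, o, o, o, o, o, o],
    [o, o, w, o, e, o, o, o, o, o, o, o, o, o],
    [o, o, o, o, o, e, o, o, o, o, o, o, o, o],
    [o, o, v, o, o, o, e, o, o, o, o, o, o, o],
    [o, o, o, o, o, o, o, e, o, o, o, o, o, o],
    [o, o, e, o, v, o, w, o, e, o, o, o, o, o],
    [o, o, o, o, o, o, o, w, o, e, o, o, o, o],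
    [w, w, o, o, o, v, o, o, o, o, e, o, o, o],
    [o, o, o, o, o, o, o, v, o, o, o, e, o, o],
    [o, o, o, o, o, o, o, o, o, o, o, o, e, o],
    [o, o, o, o, o, o, o, e, o, v, o, w, o, e]]

/-- the root element of root 3 with parameter v -/
def x3_v : List (List F4c) :=
  [[e, o, o, o, o, v, o, o, o, o, o, o, o, o],
    [o, e, o, o, o, v, o, o, o, o, o, o, o, o],
    [o, o, e, o, o, o, o, o, o, o, o, o, o, o],
    [o, o, o, e, o, o, o, o, o, o, o, o, o, o],
    [o, o, v, o, e, o, o, o, o, o, o, o, o, o],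
    [o, o, o, o, o, e, o, o, o, o, o, o, o, o],
    [o, o, w, o, o, o, e, o, o, o, o, o, o, o],
    [o, o, o, o, o, o, o, e, o, o, o, o, o, o],
    [o, o, e, o, w, o, v, o, e, o, o, o, o, o],
    [o, o, o, o, o, o, o, v, o, e, o, o, o, o],
    [v, v, o, o, o, w, o, o, o, o, e, o, o, o],
    [o, o, o, o, o, o, o, w, o, o, o, e, o, o],
    [o, o, o, o, o, o, o, o, o, o, o, o, e, o],
    [o, o, o, o, o, o, o, e, o, w, o, v, o, e]]

/-- the root elements of root 3 -/
def xF3 : F4c → List (List F4c)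
  | o => idL4 14
  | e => x3_e
  | w => x3_w
  | v => x3_v

/-- the root element of root 4 with parameter e -/
def x4_e : List (List F4c) :=
  [[e, o, o, o, o, o, o, o, o, o, o, o, o, o],
    [o, e, o, o, o, o, e, o, o, o, o, o, o, o],
    [o, o, e, o, o, o, o, o, o, o, o, o, o, o],
    [o, o, o, e, o, o, o, o, o, o, o, o, o, o],
    [o, o, o, e, e, o, o, o, o, o, o, o, o, o],
    [o, o, o, e, o, e, o, o, o, o, o, o, o, o],
    [o, o, o, o, o, o, e, o, o, o, o, o, o, o],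
    [o, o, o, e, e, e, o, e, o, o, o, o, o, o],
    [o, o, o, o, o, o, o, o, e, o, o, o, o, o],
    [e, o, o, o, o, o, e, o, o, e, o, o, o, o],
    [o, o, o, o, o, o, o, o, e, o, e, o, o, o],
    [o, o, o, o, o, o, o, o, e, o, o, e, o, o],
    [o, o, o, o, o, o, o, o, e, o, e, e, e, o],
    [o, o, o, o, o, o, o, o, o, o, o, o, o, e]]

/-- the root element of root 4 with parameter w -/
def x4_w : List (List F4c) :=
  [[e, o, o, o, o, o, o, o, o, o, o, o, o, o],
    [o, e, o, o, o, o, w, o, o, o, o, o, o, o],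
    [o, o, e, o, o, o, o, o, o, o, o, o, o, o],
    [o, o, o, e, o, o, o, o, o, o, o, o, o, o],
    [o, o, o, w, e, o, o, o, o, o, o, o, o, o],
    [o, o, o, v, o, e, o, o, o, o, o, o, o, o],
    [o, o, o, o, o, o, e, o, o, o, o, o, o, o],
    [o, o, o, e, v, w, o, e, o, o, o, o, o, o],
    [o, o, o, o, o, o, o, o, e, o, o, o, o, o],
    [w, o, o, o, o, o, v, o, o, e, o, o, o, o],
    [o, o, o, o, o, o, o, o, w, o, e, o, o, o],
    [o, o, o, o, o, o, o, o, v, o, o, e, o, o],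
    [o, o, o, o, o, o, o, o, e, o, v, w, e, o],
    [o, o, o, o, o, o, o, o, o, o, o, o, o, e]]

/-- the root element of root 4 with parameter v -/
def x4_v : List (List F4c) :=
  [[e, o, o, o, o, o, o, o, o, o, o, o, o, o],
    [o, e, o, o, o, o, v, o, o, o, o, o, o, o],
    [o, o, e, o, o, o, o, o, o, o, o, o, o, o],
    [o, o, o, e, o, o, o, o, o, o, o, o, o, o],
    [o, o, o, v, e, o, o, o, o, o, o, o, o, o],
    [o, o, o, w, o, e, o, o, o, o, o, o, o, o],
    [o, o, o, o, o, o, e, o, o, o, o, o, o, o],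
    [o, o, o, e, w, v, o, e, o, o, o, o, o, o],
    [o, o, o, o, o, o, o, o, e, o, o, o, o, o],
    [v, o, o, o, o, o, w, o, o, e, o, o, o, o],
    [o, o, o, o, o, o, o, o, v, o, e, o, o, o],
    [o, o, o, o, o, o, o, o, w, o, o, e, o, o],
    [o, o, o, o, o, o, o, o, e, o, w, v, e, o],
    [o, o, o, o, o, o, o, o, o, o, o, o, o, e]]

/-- the root elements of root 4 -/
def xF4 : F4c → List (List F4c)
  | o => idL4 14
  | e => x4_e
  | w => x4_w
  | v => x4_v

/-- the root element of root 5 with parameter e -/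
def x5_e : List (List F4c) :=
  [[e, o, o, o, o, o, o, e, o, o, o, o, o, o],
    [o, e, o, o, o, o, o, o, o, o, o, o, o, o],
    [o, o, e, o, o, o, o, o, o, o, o, o, o, o],
    [o, o, e, e, o, o, o, o, o, o, o, o, o, o],
    [o, o, o, o, e, o, o, o, o, o, o, o, o, o],
    [o, o, o, o, o, e, o, o, o, o, o, o, o, o],
    [o, o, o, o, o, e, e, o, o, o, o, o, o, o],
    [o, o, o, o, o, o, o, e, o, o, o, o, o, o],
    [o, e, o, o, o, o, o, e, e, o, o, o, o, o],
    [o, o, o, o, o, o, o, o, o, e, o, o, o, o],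
    [o, o, o, o, o, o, o, o, o, e, e, o, o, o],
    [o, o, o, o, o, o, o, o, o, o, o, e, o, o],
    [o, o, o, o, o, o, o, o, o, o, o, o, e, o],
    [o, o, o, o, o, o, o, o, o, o, o, o, e, e]]

/-- the root element of root 5 with parameter w -/
def x5_w : List (List F4c) :=
  [[e, o, o, o, o, o, o, w, o, o, o, o, o, o],
    [o, e, o, o, o, o, o, o, o, o, o, o, o, o],
    [o, o, e, o, o, o, o, o, o, o, o, o, o, o],
    [o, o, w, e, o, o, o, o, o, o, o, o, o, o],
    [o, o, o, o, e, o, o, o, o, o, o, o, o, o],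
    [o, o, o, o, o, e, o, o, o, o, o, o, o, o],
    [o, o, o, o, o, w, e, o, o, o, o, o, o, o],
    [o, o, o, o, o, o, o, e, o, o, o, o, o, o],
    [o, w, o, o, o, o, o, v, e, o, o, o, o, o],
    [o, o, o, o, o, o, o, o, o, e, o, o, o, o],
    [o, o, o, o, o, o, o, o, o, w, e, o, o, o],
    [o, o, o, o, o, o, o, o, o, o, o, e, o, o],
    [o, o, o, o, o, o, o, o, o, o, o, o, e, o],
    [o, o, o, o, o, o, o, o, o, o, o, o, w, e]]

/-- the root element of root 5 with parameter v -/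
def x5_v : List (List F4c) :=
  [[e, o, o, o, o, o, o, v, o, o, o, o, o, o],
    [o, e, o, o, o, o, o, o, o, o, o, o, o, o],
    [o, o, e, o, o, o, o, o, o, o, o, o, o, o],
    [o, o, v, e, o, o, o, o, o, o, o, o, o, o],
    [o, o, o, o, e, o, o, o, o, o, o, o, o, o],
    [o, o, o, o, o, e, o, o, o, o, o, o, o, o],
    [o, o, o, o, o, v, e, o, o, o, o, o, o, o],
    [o, o, o, o, o, o, o, e, o, o, o, o, o, o],
    [o, v, o, o, o, o, o, w, e, o, o, o, o, o],
    [o, o, o, o, o, o, o, o, o, e, o, o, o, o],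
    [o, o, o, o, o, o, o, o, o, v, e, o, o, o],
    [o, o, o, o, o, o, o, o, o, o, o, e, o, o],
    [o, o, o, o, o, o, o, o, o, o, o, o, e, o],
    [o, o, o, o, o, o, o, o, o, o, o, o, v, e]]

/-- the root elements of root 5 -/
def xF5 : F4c → List (List F4c)
  | o => idL4 14
  | e => x5_e
  | w => x5_w
  | v => x5_v

/-- the root element of root 6 with parameter e -/
def x6_e : List (List F4c) :=
  [[e, o, o, o, o, o, o, o, e, o, o, o, o, o],
    [o, e, o, o, o, o, o, o, o, o, o, o, o, o],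
    [o, o, e, e, o, o, o, o, o, o, o, o, o, o],
    [o, o, o, e, o, o, o, o, o, o, o, o, o, o],
    [o, o, o, o, e, o, o, o, o, o, o, o, o, o],
    [o, o, o, o, o, e, e, o, o, o, o, o, o, o],
    [o, o, o, o, o, o, e, o, o, o, o, o, o, o],
    [o, e, o, o, o, o, o, e, e, o, o, o, o, o],
    [o, o, o, o, o, o, o, o, e, o, o, o, o, o],
    [o, o, o, o, o, o, o, o, o, e, e, o, o, o],
    [o, o, o, o, o, o, o, o, o, o, e, o, o, o],
    [o, o, o, o, o, o, o, o, o, o, o, e, o, o],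
    [o, o, o, o, o, o, o, o, o, o, o, o, e, e],
    [o, o, o, o, o, o, o, o, o, o, o, o, o, e]]

/-- the root element of root 6 with parameter w -/
def x6_w : List (List F4c) :=
  [[e, o, o, o, o, o, o, o, w, o, o, o, o, o],
    [o, e, o, o, o, o, o, o, o, o, o, o, o, o],
    [o, o, e, w, o, o, o, o, o, o, o, o, o, o],
    [o, o, o, e, o, o, o, o, o, o, o, o, o, o],
    [o, o, o, o, e, o, o, o, o, o, o, o, o, o],
    [o, o, o, o, o, e, w, o, o, o, o, o, o, o],
    [o, o, o, o, o, o, e, o, o, o, o, o, o, o],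
    [o, w, o, o, o, o, o, e, v, o, o, o, o, o],
    [o, o, o, o, o, o, o, o, e, o, o, o, o, o],
    [o, o, o, o, o, o, o, o, o, e, w, o, o, o],
    [o, o, o, o, o, o, o, o, o, o, e, o, o, o],
    [o, o, o, o, o, o, o, o, o, o, o, e, o, o],
    [o, o, o, o, o, o, o, o, o, o, o, o, e, w],
    [o, o, o, o, o, o, o, o, o, o, o, o, o, e]]

/-- the root element of root 6 with parameter v -/
def x6_v : List (List F4c) :=
  [[e, o, o, o, o, o, o, o, v, o, o, o, o, o],
    [o, e, o, o, o, o, o, o, o, o, o, o, o, o],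
    [o, o, e, v, o, o, o, o, o, o, o, o, o, o],
    [o, o, o, e, o, o, o, o, o, o, o, o, o, o],
    [o, o, o, o, e, o, o, o, o, o, o, o, o, o],
    [o, o, o, o, o, e, v, o, o, o, o, o, o, o],
    [o, o, o, o, o, o, e, o, o, o, o, o, o, o],
    [o, v, o, o, o, o, o, e, w, o, o, o, o, o],
    [o, o, o, o, o, o, o, o, e, o, o, o, o, o],
    [o, o, o, o, o, o, o, o, o, e, v, o, o, o],
    [o, o, o, o, o, o, o, o, o, o, e, o, o, o],
    [o, o, o, o, o, o, o, o, o, o, o, e, o, o],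
    [o, o, o, o, o, o, o, o, o, o, o, o, e, v],
    [o, o, o, o, o, o, o, o, o, o, o, o, o, e]]

/-- the root elements of root 6 -/
def xF6 : F4c → List (List F4c)
  | o => idL4 14
  | e => x6_e
  | w => x6_w
  | v => x6_v

/-- the root element of root 7 with parameter e -/
def x7_e : List (List F4c) :=
  [[e, o, o, o, o, o, o, o, o, o, o, o, o, o],
    [o, e, o, o, o, o, o, o, o, e, o, o, o, o],
    [o, o, e, o, o, o, o, o, o, o, o, o, o, o],
    [o, o, o, e, e, e, o, e, o, o, o, o, o, o],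
    [o, o, o, o, e, o, o, e, o, o, o, o, o, o],
    [o, o, o, o, o, e, o, e, o, o, o, o, o, o],
    [e, o, o, o, o, o, e, o, o, e, o, o, o, o],
    [o, o, o, o, o, o, o, e, o, o, o, o, o, o],
    [o, o, o, o, o, o, o, o, e, o, e, e, e, o],
    [o, o, o, o, o, o, o, o, o, e, o, o, o, o],
    [o, o, o, o, o, o, o, o, o, o, e, o, e, o],
    [o, o, o, o, o, o, o, o, o, o, o, e, e, o],
    [o, o, o, o, o, o, o, o, o, o, o, o, e, o],
    [o, o, o, o, o, o, o, o, o, o, o, o, o, e]]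

/-- the root element of root 7 with parameter w -/
def x7_w : List (List F4c) :=
  [[e, o, o, o, o, o, o, o, o, o, o, o, o, o],
    [o, e, o, o, o, o, o, o, o, w, o, o, o, o],
    [o, o, e, o, o, o, o, o, o, o, o, o, o, o],
    [o, o, o, e, w, v, o, e, o, o, o, o, o, o],
    [o, o, o, o, e, o, o, v, o, o, o, o, o, o],
    [o, o, o, o, o, e, o, w, o, o, o, o, o, o],
    [w, o, o, o, o, o, e, o, o, v, o, o, o, o],
    [o, o, o, o, o, o, o, e, o, o, o, o, o, o],
    [o, o, o, o, o, o, o, o, e, o, w, v, e, o],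
    [o, o, o, o, o, o, o, o, o, e, o, o, o, o],
    [o, o, o, o, o, o, o, o, o, o, e, o, v, o],
    [o, o, o, o, o, o, o, o, o, o, o, e, w, o],
    [o, o, o, o, o, o, o, o, o, o, o, o, e, o],
    [o, o, o, o, o, o, o, o, o, o, o, o, o, e]]

/-- the root element of root 7 with parameter v -/
def x7_v : List (List F4c) :=
  [[e, o, o, o, o, o, o, o, o, o, o, o, o, o],
    [o, e, o, o, o, o, o, o, o, v, o, o, o, o],
    [o, o, e, o, o, o, o, o, o, o, o, o, o, o],
    [o, o, o, e, v, w, o, e, o, o, o, o, o, o],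
    [o, o, o, o, e, o, o, w, o, o, o, o, o, o],
    [o, o, o, o, o, e, o, v, o, o, o, o, o, o],
    [v, o, o, o, o, o, e, o, o, w, o, o, o, o],
    [o, o, o, o, o, o, o, e, o, o, o, o, o, o],
    [o, o, o, o, o, o, o, o, e, o, v, w, e, o],
    [o, o, o, o, o, o, o, o, o, e, o, o, o, o],
    [o, o, o, o, o, o, o, o, o, o, e, o, w, o],
    [o, o, o, o, o, o, o, o, o, o, o, e, v, o],
    [o, o, o, o, o, o, o, o, o, o, o, o, e, o],
    [o, o, o, o, o, o, o, o, o, o, o, o, o, e]]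

/-- the root elements of root 7 -/
def xF7 : F4c → List (List F4c)
  | o => idL4 14
  | e => x7_e
  | w => x7_w
  | v => x7_v

/-- the root element of root 8 with parameter e -/
def x8_e : List (List F4c) :=
  [[e, o, o, o, o, o, o, o, o, o, e, o, o, o],
    [o, e, o, o, o, o, o, o, o, o, e, o, o, o],
    [o, o, e, o, e, o, e, o, e, o, o, o, o, o],
    [o, o, o, e, o, o, o, o, o, o, o, o, o, o],
    [o, o, o, o, e, o, o, o, e, o, o, o, o, o],
    [e, e, o, o, o, e, o, o, o, o, e, o, o, o],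
    [o, o, o, o, o, o, e, o, e, o, o, o, o, o],
    [o, o, o, o, o, o, o, e, o, e, o, e, o, e],
    [o, o, o, o, o, o, o, o, e, o, o, o, o, o],
    [o, o, o, o, o, o, o, o, o, e, o, o, o, e],
    [o, o, o, o, o, o, o, o, o, o, e, o, o, o],
    [o, o, o, o, o, o, o, o, o, o, o, e, o, e],
    [o, o, o, o, o, o, o, o, o, o, o, o, e, o],
    [o, o, o, o, o, o, o, o, o, o, o, o, o, e]]

/-- the root element of root 8 with parameter w -/
def x8_w : List (List F4c) :=
  [[e, o, o, o, o, o, o, o, o, o, w, o, o, o],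
    [o, e, o, o, o, o, o, o, o, o, w, o, o, o],
    [o, o, e, o, w, o, v, o, e, o, o, o, o, o],
    [o, o, o, e, o, o, o, o, o, o, o, o, o, o],
    [o, o, o, o, e, o, o, o, v, o, o, o, o, o],
    [w, w, o, o, o, e, o, o, o, o, v, o, o, o],
    [o, o, o, o, o, o, e, o, w, o, o, o, o, o],
    [o, o, o, o, o, o, o, e, o, w, o, v, o, e],
    [o, o, o, o, o, o, o, o, e, o, o, o, o, o],
    [o, o, o, o, o, o, o, o, o, e, o, o, o, v],
    [o, o, o, o, o, o, o, o, o, o, e, o, o, o],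
    [o, o, o, o, o, o, o, o, o, o, o, e, o, w],
    [o, o, o, o, o, o, o, o, o, o, o, o, e, o],
    [o, o, o, o, o, o, o, o, o, o, o, o, o, e]]

/-- the root element of root 8 with parameter v -/
def x8_v : List (List F4c) :=
  [[e, o, o, o, o, o, o, o, o, o, v, o, o, o],
    [o, e, o, o, o, o, o, o, o, o, v, o, o, o],
    [o, o, e, o, v, o, w, o, e, o, o, o, o, o],
    [o, o, o, e, o, o, o, o, o, o, o, o, o, o],
    [o, o, o, o, e, o, o, o, w, o, o, o, o, o],
    [v, v, o, o, o, e, o, o, o, o, w, o, o, o],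
    [o, o, o, o, o, o, e, o, v, o, o, o, o, o],
    [o, o, o, o, o, o, o, e, o, v, o, w, o, e],
    [o, o, o, o, o, o, o, o, e, o, o, o, o, o],
    [o, o, o, o, o, o, o, o, o, e, o, o, o, w],
    [o, o, o, o, o, o, o, o, o, o, e, o, o, o],
    [o, o, o, o, o, o, o, o, o, o, o, e, o, v],
    [o, o, o, o, o, o, o, o, o, o, o, o, e, o],
    [o, o, o, o, o, o, o, o, o, o, o, o, o, e]]

/-- the root elements of root 8 -/
def xF8 : F4c → List (List F4c)
  | o => idL4 14
  | e => x8_e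
  | w => x8_w
  | v => x8_v

/-- the root element of root 9 with parameter e -/
def x9_e : List (List F4c) :=
  [[e, o, o, o, o, o, o, o, o, o, o, e, o, o],
    [o, e, o, o, o, o, o, o, o, o, o, o, o, o],
    [o, o, e, o, o, e, o, o, o, e, o, o, e, o],
    [o, o, o, e, o, o, e, o, o, o, e, o, o, e],
    [o, e, o, o, e, o, o, o, o, o, o, e, o, o],
    [o, o, o, o, o, e, o, o, o, o, o, o, e, o],
    [o, o, o, o, o, o, e, o, o, o, o, o, o, e],
    [o, o, o, o, o, o, o, e, o, o, o, o, o, o],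
    [o, o, o, o, o, o, o, o, e, o, o, o, o, o],
    [o, o, o, o, o, o, o, o, o, e, o, o, e, o],
    [o, o, o, o, o, o, o, o, o, o, e, o, o, e],
    [o, o, o, o, o, o, o, o, o, o, o, e, o, o],
    [o, o, o, o, o, o, o, o, o, o, o, o, e, o],
    [o, o, o, o, o, o, o, o, o, o, o, o, o, e]]

/-- the root element of root 9 with parameter w -/
def x9_w : List (List F4c) :=
  [[e, o, o, o, o, o, o, o, o, o, o, w, o, o],
    [o, e, o, o, o, o, o, o, o, o, o, o, o, o],
    [o, o, e, o, o, w, o, o, o, v, o, o, e, o],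
    [o, o, o, e, o, o, w, o, o, o, v, o, o, e],
    [o, w, o, o, e, o, o, o, o, o, o, v, o, o],
    [o, o, o, o, o, e, o, o, o, o, o, o, v, o],
    [o, o, o, o, o, o, e, o, o, o, o, o, o, v],
    [o, o, o, o, o, o, o, e, o, o, o, o, o, o],
    [o, o, o, o, o, o, o, o, e, o, o, o, o, o],
    [o, o, o, o, o, o, o, o, o, e, o, o, w, o],
    [o, o, o, o, o, o, o, o, o, o, e, o, o, w],
    [o, o, o, o, o, o, o, o, o, o, o, e, o, o],
    [o, o, o, o, o, o, o, o, o, o, o, o, e, o],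
    [o, o, o, o, o, o, o, o, o, o, o, o, o, e]]

/-- the root element of root 9 with parameter v -/
def x9_v : List (List F4c) :=
  [[e, o, o, o, o, o, o, o, o, o, o, v, o, o],
    [o, e, o, o, o, o, o, o, o, o, o, o, o, o],
    [o, o, e, o, o, v, o, o, o, w, o, o, e, o],
    [o, o, o, e, o, o, v, o, o, o, w, o, o, e],
    [o, v, o, o, e, o, o, o, o, o, o, w, o, o],
    [o, o, o, o, o, e, o, o, o, o, o, o, w, o],
    [o, o, o, o, o, o, e, o, o, o, o, o, o, w],
    [o, o, o, o, o, o, o, e, o, o, o, o, o, o],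
    [o, o, o, o, o, o, o, o, e, o, o, o, o, o],
    [o, o, o, o, o, o, o, o, o, e, o, o, v, o],
    [o, o, o, o, o, o, o, o, o, o, e, o, o, v],
    [o, o, o, o, o, o, o, o, o, o, o, e, o, o],
    [o, o, o, o, o, o, o, o, o, o, o, o, e, o],
    [o, o, o, o, o, o, o, o, o, o, o, o, o, e]]

/-- the root elements of root 9 -/
def xF9 : F4c → List (List F4c)
  | o => idL4 14
  | e => x9_e
  | w => x9_w
  | v => x9_v

/-- the root element of root 10 with parameter e -/
def x10_e : List (List F4c) :=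
  [[e, o, o, o, o, o, o, o, o, o, o, o, e, o],
    [o, e, o, o, o, o, o, o, o, o, o, o, e, o],
    [o, o, e, o, o, o, o, e, o, o, o, o, o, o],
    [e, e, o, e, o, o, o, o, o, o, o, o, e, o],
    [o, o, o, o, e, o, o, o, o, e, o, o, o, o],
    [o, o, o, o, o, e, o, o, o, o, o, o, o, o],
    [o, o, o, o, o, o, e, o, o, o, o, e, o, o],
    [o, o, o, o, o, o, o, e, o, o, o, o, o, o],
    [o, o, o, o, o, o, o, o, e, o, o, o, o, e],
    [o, o, o, o, o, o, o, o, o, e, o, o, o, o],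
    [o, o, o, o, o, o, o, o, o, o, e, o, o, o],
    [o, o, o, o, o, o, o, o, o, o, o, e, o, o],
    [o, o, o, o, o, o, o, o, o, o, o, o, e, o],
    [o, o, o, o, o, o, o, o, o, o, o, o, o, e]]

/-- the root element of root 10 with parameter w -/
def x10_w : List (List F4c) :=
  [[e, o, o, o, o, o, o, o, o, o, o, o, w, o],
    [o, e, o, o, o, o, o, o, o, o, o, o, w, o],
    [o, o, e, o, o, o, o, w, o, o, o, o, o, o],
    [w, w, o, e, o, o, o, o, o, o, o, o, v, o],
    [o, o, o, o, e, o, o, o, o, w, o, o, o, o],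
    [o, o, o, o, o, e, o, o, o, o, o, o, o, o],
    [o, o, o, o, o, o, e, o, o, o, o, w, o, o],
    [o, o, o, o, o, o, o, e, o, o, o, o, o, o],
    [o, o, o, o, o, o, o, o, e, o, o, o, o, w],
    [o, o, o, o, o, o, o, o, o, e, o, o, o, o],
    [o, o, o, o, o, o, o, o, o, o, e, o, o, o],
    [o, o, o, o, o, o, o, o, o, o, o, e, o, o],
    [o, o, o, o, o, o, o, o, o, o, o, o, e, o],
    [o, o, o, o, o, o, o, o, o, o, o, o, o, e]]

/-- the root element of root 10 with parameter v -/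
def x10_v : List (List F4c) :=
  [[e, o, o, o, o, o, o, o, o, o, o, o, v, o],
    [o, e, o, o, o, o, o, o, o, o, o, o, v, o],
    [o, o, e, o, o, o, o, v, o, o, o, o, o, o],
    [v, v, o, e, o, o, o, o, o, o, o, o, w, o],
    [o, o, o, o, e, o, o, o, o, v, o, o, o, o],
    [o, o, o, o, o, e, o, o, o, o, o, o, o, o],
    [o, o, o, o, o, o, e, o, o, o, o, v, o, o],
    [o, o, o, o, o, o, o, e, o, o, o, o, o, o],
    [o, o, o, o, o, o, o, o, e, o, o, o, o, v],
    [o, o, o, o, o, o, o, o, o, e, o, o, o, o],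
    [o, o, o, o, o, o, o, o, o, o, e, o, o, o],
    [o, o, o, o, o, o, o, o, o, o, o, e, o, o],
    [o, o, o, o, o, o, o, o, o, o, o, o, e, o],
    [o, o, o, o, o, o, o, o, o, o, o, o, o, e]]

/-- the root elements of root 10 -/
def xF10 : F4c → List (List F4c)
  | o => idL4 14
  | e => x10_e
  | w => x10_w
  | v => x10_v

/-- the root element of root 11 with parameter e -/
def x11_e : List (List F4c) :=
  [[e, o, o, o, o, o, o, o, o, o, o, o, o, o],
    [o, e, o, o, o, o, o, o, o, o, o, o, o, e],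
    [e, o, e, o, o, o, o, o, o, o, o, o, o, e],
    [o, o, o, e, o, o, o, o, e, o, o, o, o, o],
    [o, o, o, o, e, o, o, o, o, o, e, o, o, o],
    [o, o, o, o, o, e, o, o, o, o, o, e, o, o],
    [o, o, o, o, o, o, e, o, o, o, o, o, o, o],
    [o, o, o, o, o, o, o, e, o, o, o, o, e, o],
    [o, o, o, o, o, o, o, o, e, o, o, o, o, o],
    [o, o, o, o, o, o, o, o, o, e, o, o, o, o],
    [o, o, o, o, o, o, o, o, o, o, e, o, o, o],
    [o, o, o, o, o, o, o, o, o, o, o, e, o, o],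
    [o, o, o, o, o, o, o, o, o, o, o, o, e, o],
    [o, o, o, o, o, o, o, o, o, o, o, o, o, e]]

/-- the root element of root 11 with parameter w -/
def x11_w : List (List F4c) :=
  [[e, o, o, o, o, o, o, o, o, o, o, o, o, o],
    [o, e, o, o, o, o, o, o, o, o, o, o, o, w],
    [w, o, e, o, o, o, o, o, o, o, o, o, o, v],
    [o, o, o, e, o, o, o, o, w, o, o, o, o, o],
    [o, o, o, o, e, o, o, o, o, o, w, o, o, o],
    [o, o, o, o, o, e, o, o, o, o, o, w, o, o],
    [o, o, o, o, o, o, e, o, o, o, o, o, o, o],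
    [o, o, o, o, o, o, o, e, o, o, o, o, w, o],
    [o, o, o, o, o, o, o, o, e, o, o, o, o, o],
    [o, o, o, o, o, o, o, o, o, e, o, o, o, o],
    [o, o, o, o, o, o, o, o, o, o, e, o, o, o],
    [o, o, o, o, o, o, o, o, o, o, o, e, o, o],
    [o, o, o, o, o, o, o, o, o, o, o, o, e, o],
    [o, o, o, o, o, o, o, o, o, o, o, o, o, e]]

/-- the root element of root 11 with parameter v -/
def x11_v : List (List F4c) :=
  [[e, o, o, o, o, o, o, o, o, o, o, o, o, o],
    [o, e, o, o, o, o, o, o, o, o, o, o, o, v],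
    [v, o, e, o, o, o, o, o, o, o, o, o, o, w],
    [o, o, o, e, o, o, o, o, v, o, o, o, o, o],
    [o, o, o, o, e, o, o, o, o, o, v, o, o, o],
    [o, o, o, o, o, e, o, o, o, o, o, v, o, o],
    [o, o, o, o, o, o, e, o, o, o, o, o, o, o],
    [o, o, o, o, o, o, o, e, o, o, o, o, v, o],
    [o, o, o, o, o, o, o, o, e, o, o, o, o, o],
    [o, o, o, o, o, o, o, o, o, e, o, o, o, o],
    [o, o, o, o, o, o, o, o, o, o, e, o, o, o],
    [o, o, o, o, o, o, o, o, o, o, o, e, o, o],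
    [o, o, o, o, o, o, o, o, o, o, o, o, e, o],
    [o, o, o, o, o, o, o, o, o, o, o, o, o, e]]

/-- the root elements of root 11 -/
def xF11 : F4c → List (List F4c)
  | o => idL4 14
  | e => x11_e
  | w => x11_w
  | v => x11_v

/-- the table of the root elements -/
def xTbl : List (F4c → List (List F4c)) :=
  [xF0, xF1, xF2, xF3, xF4, xF5, xF6, xF7, xF8, xF9, xF10, xF11]

/-- the trivial root elements -/
def xDef : F4c → List (List F4c) := fun _ => idL4 14

/-- the root elements -/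
def xLt (r : ℕ) (t : F4c) : List (List F4c) := xTbl.getD r xDef t

/-- the matrix of the generator a -/
def gA : List (List F4c) :=
  [[e, o, o, o, o, o, o, o, o, o, o, o, o, o],
    [o, e, o, o, o, o, o, o, o, o, o, o, o, e],
    [e, o, e, o, o, o, o, o, o, o, o, o, o, e],
    [o, o, o, e, o, o, o, o, e, o, o, o, o, o],
    [o, o, o, o, e, o, o, o, o, o, e, o, o, o],
    [o, o, o, o, o, e, o, o, o, o, o, e, o, o],
    [o, o, o, o, o, o, e, o, o, o, o, o, o, o],
    [o, o, o, o, o, o, o, e, o, o, o, o, e, o],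
    [o, o, o, o, o, o, o, o, e, o, o, o, o, o],
    [o, o, o, o, o, o, o, o, o, e, o, o, o, o],
    [o, o, o, o, o, o, o, o, o, o, e, o, o, o],
    [o, o, o, o, o, o, o, o, o, o, o, e, o, o],
    [o, o, o, o, o, o, o, o, o, o, o, o, e, o],
    [o, o, o, o, o, o, o, o, o, o, o, o, o, e]]

/-- the matrix of the generator b -/
def gB : List (List F4c) :=
  [[v, w, w, o, v, w, v, w, e, v, v, v, e, e],
    [w, v, e, o, e, w, w, v, w, w, v, e, e, v],
    [v, e, v, v, e, o, w, e, e, w, v, v, e, v],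
    [e, e, v, e, o, v, e, v, o, v, e, e, w, e],
    [e, v, o, e, e, w, w, w, e, e, e, v, e, v],
    [v, v, v, o, v, v, e, v, e, w, v, e, e, v],
    [w, v, v, w, w, o, v, e, e, e, w, e, v, w],
    [w, e, w, o, e, w, v, e, w, e, e, e, o, e],
    [v, w, v, v, w, e, o, e, e, e, v, w, v, e],
    [w, v, v, o, w, e, e, o, v, v, e, w, e, w],
    [w, w, v, o, e, e, e, e, w, o, v, w, v, o],
    [e, v, e, o, v, e, w, w, e, w, v, e, o, e],
    [o, o, o, o, o, o, o, v, o, w, o, e, e, v],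
    [e, w, w, o, e, v, v, v, w, v, v, o, v, v]]

/-- the matrix of the generator c -/
def gC : List (List F4c) :=
  [[e, o, o, o, o, o, o, o, e, o, o, o, o, o],
    [o, e, o, o, o, o, o, o, o, o, o, o, o, o],
    [o, o, e, e, o, o, o, o, o, o, o, o, o, o],
    [o, o, o, e, o, o, o, o, o, o, o, o, o, o],
    [o, o, o, o, e, o, o, o, o, o, o, o, o, o],
    [o, o, o, o, o, e, e, o, o, o, o, o, o, o],
    [o, o, o, o, o, o, e, o, o, o, o, o, o, o],
    [o, e, o, o, o, o, o, e, e, o, o, o, o, o],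
    [o, o, o, o, o, o, o, o, e, o, o, o, o, o],
    [o, o, o, o, o, o, o, o, o, e, e, o, o, o],
    [o, o, o, o, o, o, o, o, o, o, e, o, o, o],
    [o, o, o, o, o, o, o, o, o, o, o, e, o, o],
    [o, o, o, o, o, o, o, o, o, o, o, o, e, e],
    [o, o, o, o, o, o, o, o, o, o, o, o, o, e]]

/-- the matrix of the generator d -/
def gD : List (List F4c) :=
  [[e, o, o, o, o, o, o, o, v, o, v, v, o, w],
    [w, e, o, o, o, o, v, o, v, w, v, e, e, v],
    [v, w, e, v, v, v, o, o, v, w, v, v, e, v],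
    [e, o, o, e, v, w, w, e, v, v, e, e, w, e],
    [e, v, o, e, e, w, w, w, e, e, e, v, e, v],
    [v, v, o, e, v, e, o, v, e, w, v, e, e, v],
    [w, o, o, o, o, o, v, o, v, e, w, e, v, w],
    [v, v, o, e, e, e, o, e, e, v, e, e, v, v],
    [o, o, o, o, o, o, o, o, e, o, v, w, e, o],
    [v, o, o, o, o, o, v, o, o, v, o, w, w, o],
    [o, o, o, o, o, o, o, o, e, o, e, w, w, v],
    [o, o, o, o, o, o, o, o, e, o, v, e, v, v],
    [o, o, o, o, o, o, o, o, e, o, e, e, e, v],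
    [o, o, o, o, o, o, o, o, o, o, o, o, o, e]]

/-- the matrix of the generator e -/
def gE : List (List F4c) :=
  [[e, o, o, o, o, o, o, o, v, o, w, w, o, v],
    [o, e, o, o, o, o, e, o, w, o, w, o, o, w],
    [w, v, e, v, w, w, w, o, o, v, e, w, e, v],
    [o, o, o, e, o, o, w, o, w, o, v, o, o, e],
    [o, w, o, e, e, o, w, o, e, o, e, v, o, w],
    [w, w, o, e, o, e, e, o, v, o, o, e, v, e],
    [o, o, o, o, o, o, e, o, w, o, o, o, o, v],
    [w, v, o, e, e, e, e, e, w, w, v, e, w, o],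
    [o, o, o, o, o, o, o, o, e, o, o, o, o, o],
    [e, o, o, o, o, o, e, o, e, e, e, w, w, w],
    [o, o, o, o, o, o, o, o, e, o, e, o, o, w],
    [o, o, o, o, o, o, o, o, e, o, o, e, o, w],
    [o, o, o, o, o, o, o, o, e, o, e, e, e, v],
    [o, o, o, o, o, o, o, o, o, o, o, o, o, e]]

/-- the matrix of the generator f -/
def gF : List (List F4c) :=
  [[e, o, o, o, o, o, o, o, o, o, o, o, o, o],
    [o, e, o, o, o, o, o, o, o, o, o, o, o, w],
    [w, o, e, o, o, o, o, o, o, o, o, o, o, v],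
    [o, o, o, e, o, o, o, o, w, o, o, o, o, o],
    [o, o, o, o, e, o, o, o, o, o, w, o, o, o],
    [o, o, o, o, o, e, o, o, o, o, o, w, o, o],
    [o, o, o, o, o, o, e, o, o, o, o, o, o, o],
    [o, o, o, o, o, o, o, e, o, o, o, o, w, o],
    [o, o, o, o, o, o, o, o, e, o, o, o, o, o],
    [o, o, o, o, o, o, o, o, o, e, o, o, o, o],
    [o, o, o, o, o, o, o, o, o, o, e, o, o, o],
    [o, o, o, o, o, o, o, o, o, o, o, e, o, o],
    [o, o, o, o, o, o, o, o, o, o, o, o, e, o],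
    [o, o, o, o, o, o, o, o, o, o, o, o, o, e]]

/-- the table of the matrices of the generators -/
def genTbl : List (List (List F4c)) := [gA, gB, gC, gD, gE, gF]

/-- the matrices of the generators -/
def genLt (x : ℕ) : List (List F4c) := genTbl.getD x gF

/-- the generators as words in the root elements -/
def memW : ℕ → List (ℕ × F4c)
  | 0 => [(11, e)]
  | 1 => [(9, e), (8, v), (3, e), (0, w), (11, e), (0, w), (3, e), (8, v), (9, e)]
  | 2 => [(6, e)]
  | 3 => [(9, w), (7, w), (6, e), (4, w), (7, w), (9, w)]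
  | 4 => [(6, e), (8, w), (11, w), (4, e), (9, w)]
  | _ => [(11, w)]

/-- the root elements as words in the generators -/
def rootW : ℕ → F4c → List ℕ
  | 0, e => [4, 5, 1, 0, 1, 2, 3, 2, 4, 3, 2, 1, 0, 1, 2, 3, 4, 1, 2, 3, 2, 1, 0, 1, 5, 4]
  | 0, w => [4, 5, 1, 0, 1, 2, 3, 2, 4, 3, 5, 1, 0, 2, 1, 5, 3, 4, 1, 2, 3, 2, 1, 0, 1, 5, 4]
  | 0, v => [0, 1, 0, 3, 2, 1, 0, 3, 2, 1, 4, 3, 2, 3, 4, 5, 0, 1, 2, 3, 0, 1, 2, 3, 0, 1, 0]
  | 1, e => [3, 4, 3, 2, 3, 4, 5, 1, 0, 2, 1, 0, 3, 2, 1, 3, 2, 0, 1, 5, 4, 3, 2, 3, 4, 3, 2]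
  | 1, w => [3, 4, 3, 2, 1, 3, 2, 1, 0, 4, 3, 2, 1, 5, 1, 2, 3, 4, 0, 1, 2, 3, 1, 2, 3, 4, 3, 2]
  | 1, v => [3, 2, 3, 4, 3, 2, 1, 3, 2, 4, 3, 2, 1, 0, 5, 1, 2, 3, 4, 2, 3, 1, 2, 3, 4, 3, 2, 3, 2]
  | 2, e => [1, 0, 2, 1, 3, 2, 1, 0, 1, 3, 2, 3, 2]
  | 2, w => [1, 0, 2, 1, 3, 2, 4, 3, 2, 1, 0, 1, 3, 2, 3, 4, 2, 3, 1, 2, 3, 0]
  | 2, v => [3, 2, 3, 2, 1, 4, 3, 2, 1, 0, 1, 3, 2, 3, 4, 3, 1, 2, 3, 0]
  | 3, e => [3, 2, 1, 0, 5, 1, 0, 2, 3, 2, 4, 3, 2, 1, 0, 5, 1, 2, 3]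
  | 3, w => [0, 1, 3, 2, 1, 0, 1, 3, 2, 5, 1, 2, 3, 2, 4, 3, 2, 1, 5, 4, 2, 3, 2, 0, 1, 0]
  | 3, v => [3, 2, 1, 3, 2, 5, 1, 0, 1, 2, 3, 2, 4, 3, 2, 1, 0, 1, 5, 4, 3, 2, 3, 1, 2, 3]
  | 4, e => [2, 1, 0, 1, 0, 3, 5, 1, 2, 3, 2, 4, 3, 2, 1, 5, 3, 0, 1, 0, 1]
  | 4, w => [3, 2, 1, 3, 2, 5, 1, 2, 3, 2, 3, 4, 3, 2, 1, 5, 3, 2, 3, 1, 2, 3]
  | 4, v => [1, 0, 1, 2, 3, 4, 5, 1, 0, 1, 2, 3, 2, 5, 1, 0, 1, 5, 4, 3, 2, 1, 0, 1]
  | 5, e => [0, 1, 0, 3, 2, 1, 3, 2, 4, 3, 2, 1, 0, 1, 2, 5, 1, 0, 1, 2, 3, 4, 2, 3, 1, 2, 3, 0, 1, 0]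
  | 5, w => [0, 1, 0, 3, 2, 1, 0, 3, 2, 1, 4, 3, 2, 3, 4, 5, 1, 2, 3, 0, 1, 2, 3, 0, 1, 0]
  | 5, v => [0, 1, 2, 3, 2, 1, 0, 3, 2, 4, 3, 2, 1, 5, 1, 2, 3, 4, 1, 2, 3, 0, 1, 2, 3, 2, 1, 0]
  | 6, e => [2]
  | 6, w => [1, 2, 1, 5, 1, 0, 1, 2, 5, 1]
  | 6, v => [1, 2, 5, 1, 0, 1, 2, 5, 1]
  | 7, e => [2, 1, 0, 3, 2, 1, 0, 4, 3, 2, 1, 3, 2, 3, 2, 4, 3, 1, 0, 1, 2, 0]
  | 7, w => [3, 2, 1, 0, 3, 4, 3, 2, 1, 0, 1, 3, 2, 1, 3, 4, 2, 3, 0, 1, 0, 1, 2, 3]
  | 7, v => [2, 1, 0, 1, 2, 3, 2, 1, 0, 3, 2, 1, 0, 1, 3, 2, 1]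
  | 8, e => [2, 1, 4, 3, 2, 3, 2, 1, 0, 4, 5, 1, 2, 3, 2, 1, 5, 4, 0, 1, 2, 3, 2, 3, 4, 1, 0, 2, 3, 5, 1, 0, 1, 2, 1, 0, 3, 4, 5, 1, 2, 3, 2, 1, 5, 4, 3, 0, 1, 2, 3, 1, 0, 1, 0]
  | 8, w => [2, 1, 4, 3, 2, 3, 2, 1, 0, 4, 5, 1, 2, 3, 2, 1, 5, 4, 0, 1, 2, 3, 2, 3, 4, 1, 0]
  | 8, v => [2, 3, 5, 1, 0, 1, 2, 1, 0, 3, 4, 5, 1, 2, 3, 2, 1, 5, 4, 3, 0, 1, 2, 3, 1, 0, 1, 0]
  | 9, e => [1, 2, 1, 0, 1, 2, 5, 1, 0, 2, 1, 3, 2, 3, 2, 4, 3, 2, 3, 1, 2, 0, 1, 5, 1, 2, 1, 0, 1]
  | 9, w => [5, 1, 2, 3, 2, 1, 0, 4, 5, 1, 2, 3, 2, 1, 4, 5, 0, 1, 2, 3, 1, 2, 1]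
  | 9, v => [1, 0, 1, 2, 1, 0, 3, 4, 5, 1, 0, 2, 3, 2, 1, 5, 4, 3, 1, 0, 1, 2, 1, 0, 1]
  | 10, e => [4, 5, 1, 2, 3, 2, 1, 4, 3, 2, 1, 3, 2, 4, 3, 2, 1, 0, 1, 2, 3, 4, 2, 3, 2, 0, 1, 0, 1]
  | 10, w => [4, 5, 1, 2, 3, 2, 1, 4, 3, 2, 1, 3, 2, 4, 3, 2, 1, 0, 1, 2, 3, 4, 2, 3, 2, 0, 1, 0, 5, 1, 2, 3, 2, 4, 3, 2, 1, 0, 1, 2, 3, 2, 4, 3, 2, 3, 1, 2, 3, 4, 2, 3, 2, 1, 5, 0, 1, 0]
  | 10, v => [1, 5, 1, 2, 3, 2, 4, 3, 2, 1, 0, 1, 2, 3, 2, 4, 3, 2, 3, 1, 2, 3, 4, 2, 3, 2, 1, 5, 0, 1, 0]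
  | 11, e => [0]
  | 11, w => [5]
  | 11, v => [0, 5]
  | _, _ => []

theorem chk_x0 : ∀ t : F4c, ∀ i j : chevG2.Idx, xE chevG2 F4c 0 t i j =
    entry (xLt 0 t) (code chevG2.rank chevG2.nroots j) (code chevG2.rank chevG2.nroots i) := by
  decide +kernel

theorem chk_x1 : ∀ t : F4c, ∀ i j : chevG2.Idx, xE chevG2 F4c 1 t i j =
    entry (xLt 1 t) (code chevG2.rank chevG2.nroots j) (code chevG2.rank chevG2.nroots i) := by
  decide +kernel

theorem chk_x2 : ∀ t : F4c, ∀ i j : chevG2.Idx, xE chevG2 F4c 2 t i j =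
    entry (xLt 2 t) (code chevG2.rank chevG2.nroots j) (code chevG2.rank chevG2.nroots i) := by
  decide +kernel

theorem chk_x3 : ∀ t : F4c, ∀ i j : chevG2.Idx, xE chevG2 F4c 3 t i j =
    entry (xLt 3 t) (code chevG2.rank chevG2.nroots j) (code chevG2.rank chevG2.nroots i) := by
  decide +kernel

theorem chk_x4 : ∀ t : F4c, ∀ i j : chevG2.Idx, xE chevG2 F4c 4 t i j =
    entry (xLt 4 t) (code chevG2.rank chevG2.nroots j) (code chevG2.rank chevG2.nroots i) := by
  decide +kernel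

theorem chk_x5 : ∀ t : F4c, ∀ i j : chevG2.Idx, xE chevG2 F4c 5 t i j =
    entry (xLt 5 t) (code chevG2.rank chevG2.nroots j) (code chevG2.rank chevG2.nroots i) := by
  decide +kernel

theorem chk_x6 : ∀ t : F4c, ∀ i j : chevG2.Idx, xE chevG2 F4c 6 t i j =
    entry (xLt 6 t) (code chevG2.rank chevG2.nroots j) (code chevG2.rank chevG2.nroots i) := by
  decide +kernel

theorem chk_x7 : ∀ t : F4c, ∀ i j : chevG2.Idx, xE chevG2 F4c 7 t i j =
    entry (xLt 7 t) (code chevG2.rank chevG2.nroots j) (code chevG2.rank chevG2.nroots i) := by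
  decide +kernel

theorem chk_x8 : ∀ t : F4c, ∀ i j : chevG2.Idx, xE chevG2 F4c 8 t i j =
    entry (xLt 8 t) (code chevG2.rank chevG2.nroots j) (code chevG2.rank chevG2.nroots i) := by
  decide +kernel

theorem chk_x9 : ∀ t : F4c, ∀ i j : chevG2.Idx, xE chevG2 F4c 9 t i j =
    entry (xLt 9 t) (code chevG2.rank chevG2.nroots j) (code chevG2.rank chevG2.nroots i) := by
  decide +kernel

theorem chk_x10 : ∀ t : F4c, ∀ i j : chevG2.Idx, xE chevG2 F4c 10 t i j =
    entry (xLt 10 t) (code chevG2.rank chevG2.nroots j) (code chevG2.rank chevG2.nroots i) := by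
  decide +kernel

theorem chk_x11 : ∀ t : F4c, ∀ i j : chevG2.Idx, xE chevG2 F4c 11 t i j =
    entry (xLt 11 t) (code chevG2.rank chevG2.nroots j) (code chevG2.rank chevG2.nroots i) := by
  decide +kernel

theorem chk_x : ∀ r, r < 12 → ∀ t : F4c, ∀ i j : chevG2.Idx, xE chevG2 F4c r t i j =
    entry (xLt r t) (code chevG2.rank chevG2.nroots j) (code chevG2.rank chevG2.nroots i) := by
  intro r hr
  interval_cases r
  · exact chk_x0
  · exact chk_x1
  · exact chk_x2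
  · exact chk_x3
  · exact chk_x4
  · exact chk_x5
  · exact chk_x6
  · exact chk_x7
  · exact chk_x8
  · exact chk_x9
  · exact chk_x10
  · exact chk_x11

theorem chk_xcols : ∀ f ∈ xDef :: xTbl, ∀ t : F4c, colsOK 14 (f t) := by decide +kernel

theorem chk_xinv : ∀ f ∈ xDef :: xTbl, ∀ t : F4c, prodT4 14 [f t, f t] = idL4 14 := by
  decide +kernel

theorem chk_gcols : ∀ Y ∈ genTbl, colsOK 14 Y := by decide +kernel

theorem chk_ginv : ∀ Y ∈ genTbl, prodT4 14 [Y, Y] = idL4 14 := by decide +kernel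

theorem chk_memb : ∀ i, i < 6 →
    prodT4 14 ((memW i).map fun p => xLt p.1 p.2) = transp4 14 (genLt i) := by decide +kernel

theorem chk_root0 : ∀ t : F4c, prodT4 14 ((rootW 0 t).map genLt) = transp4 14 (xLt 0 t) := by
  decide +kernel

theorem chk_root1 : ∀ t : F4c, prodT4 14 ((rootW 1 t).map genLt) = transp4 14 (xLt 1 t) := by
  decide +kernel

theorem chk_root2 : ∀ t : F4c, prodT4 14 ((rootW 2 t).map genLt) = transp4 14 (xLt 2 t) := by
  decide +kernel

theorem chk_root3 : ∀ t : F4c, prodT4 14 ((rootW 3 t).map genLt) = transp4 14 (xLt 3 t) := by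
  decide +kernel

theorem chk_root4 : ∀ t : F4c, prodT4 14 ((rootW 4 t).map genLt) = transp4 14 (xLt 4 t) := by
  decide +kernel

theorem chk_root5 : ∀ t : F4c, prodT4 14 ((rootW 5 t).map genLt) = transp4 14 (xLt 5 t) := by
  decide +kernel

theorem chk_root6 : ∀ t : F4c, prodT4 14 ((rootW 6 t).map genLt) = transp4 14 (xLt 6 t) := by
  decide +kernel

theorem chk_root7 : ∀ t : F4c, prodT4 14 ((rootW 7 t).map genLt) = transp4 14 (xLt 7 t) := by
  decide +kernel

theorem chk_root8 : ∀ t : F4c, prodT4 14 ((rootW 8 t).map genLt) = transp4 14 (xLt 8 t) := by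
  decide +kernel

theorem chk_root9 : ∀ t : F4c, prodT4 14 ((rootW 9 t).map genLt) = transp4 14 (xLt 9 t) := by
  decide +kernel

theorem chk_root10 : ∀ t : F4c, prodT4 14 ((rootW 10 t).map genLt) = transp4 14 (xLt 10 t) := by
  decide +kernel

theorem chk_root11 : ∀ t : F4c, prodT4 14 ((rootW 11 t).map genLt) = transp4 14 (xLt 11 t) := by
  decide +kernel

theorem chk_root : ∀ r, r < 12 → ∀ t : F4c,
    prodT4 14 ((rootW r t).map genLt) = transp4 14 (xLt r t) := by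
  intro r hr
  interval_cases r
  · exact chk_root0
  · exact chk_root1
  · exact chk_root2
  · exact chk_root3
  · exact chk_root4
  · exact chk_root5
  · exact chk_root6
  · exact chk_root7
  · exact chk_root8
  · exact chk_root9
  · exact chk_root10
  · exact chk_root11

theorem chk_root_lt : ∀ r, r < 12 → ∀ t : F4c, ∀ x ∈ rootW r t, x < 6 := by decide +kernel

theorem chk_rels : (coxWordsL E6.edges SuzE6TC.gen 6 ++ SuzE6TC.extraWords).all
    (fun w => decide (prodT4 14 (w.map genLt) = idL4 14)) = true := by decide +kernel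

theorem chk_rels_lt : (coxWordsL E6.edges SuzE6TC.gen 6 ++ SuzE6TC.extraWords).all
    (fun w => w.all fun x => decide (x < 6)) = true := by decide +kernel

theorem chk_ne : ∃ i j : chevG2.Idx, entry (genLt 0) (code chevG2.rank chevG2.nroots j)
    (code chevG2.rank chevG2.nroots i) ≠ if i = j then 1 else 0 := by decide +kernel

end Cfsg.Agent.Lib.Helper6.G24Mat
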