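import Cfsg.Agent.Lib.Helper6.GolaySixSets

/-!
# The minimal base size of `M24` on the 24 points is seven
-/

set_option autoImplicit false

namespace Cfsg.Agent.Lib.Helper6.Golay

open Cfsg
open Cfsg.Agent.Lib.Helper6.PermChain
open scoped Pointwise

theorem six_fix_nontrivial (E : Finset GolayPt) (hE : E.card = 6) :
    ∃ g ∈ M24, g ≠ 1 ∧ ∀ b ∈ E, g b = b := by
  have hcard : 1 < Nat.card {g : Equiv.Perm GolayPt // g ∈ M24 ∧ ∀ p ∈ E, g p = p} := by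
    by_cases h : ∃ o ∈ octads, E ⊆ o
    · rw [six_fix_card_in E hE h]; norm_num
    · rw [six_fix_card_out E hE h]; norm_num
  have hnt : Nontrivial {g : Equiv.Perm GolayPt // g ∈ M24 ∧ ∀ p ∈ E, g p = p} :=
    Finite.one_lt_card_iff_nontrivial.mp hcard
  obtain ⟨⟨g, hg, hgE⟩, hne⟩ := exists_ne (⟨1, M24.one_mem, fun _ _ => rfl⟩ :
    {g : Equiv.Perm GolayPt // g ∈ M24 ∧ ∀ p ∈ E, g p = p})
  refine ⟨g, hg, ?_, hgE⟩
  rintro rfl
  exact hne rfl

theorem card_Lk7 : (Lk 7).toFinset.card = 7 := by decide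

/-- **S5521** -/
theorem base_size_seven :
    (∀ B : Finset GolayPt, B.card ≤ 6 → ∃ g ∈ M24, g ≠ 1 ∧ ∀ b ∈ B, g b = b) ∧
    (∃ B : Finset GolayPt, B.card = 7 ∧ ∀ g ∈ M24, (∀ b ∈ B, g b = b) → g = 1) := by
  constructor
  · intro B hB
    obtain ⟨E, hBE, hE⟩ := Finset.exists_superset_card_eq hB (by rw [Fintype.card_option, ZMod.card]; norm_num)
    obtain ⟨g, hg, hne, hfix⟩ := six_fix_nontrivial E hE
    exact ⟨g, hg, hne, fun b hb => hfix b (hBE hb)⟩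
  · refine ⟨(Lk 7).toFinset, card_Lk7, ?_⟩
    intro g hg hfix
    have hmem : g ∈ fixL M24 (Lk 7) :=
      mem_fixL.mpr ⟨hg, fun x hx => hfix x (List.mem_toFinset.mpr hx)⟩
    rw [fixL7_eq_bot le_rfl] at hmem
    exact Subgroup.mem_bot.mp hmem

end Cfsg.Agent.Lib.Helper6.Golay
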