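import Mathlib
import Cfsg.Prelude.Def_Sporadic_a

/-!
# A computational model of the length-24 code of `Def_Sporadic_a`

Words `GolayPt → ZMod 2` are encoded as natural numbers (bit masks): bit `i < 23` is the coordinate
`some (i : ZMod 23)`, bit `23` is the coordinate `none`.
-/

set_option autoImplicit false

namespace Cfsg.Agent.Lib.Helper6.Golay

open Cfsg

/-- index of a point: `some x ↦ x.val`, `none ↦ 23`. -/
def idx : GolayPt → ℕ
  | none => 23
  | some x => x.val

/-- the point of an index. -/
def pt (i : ℕ) : GolayPt := if i = 23 then none else some (i : ZMod 23)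

theorem idx_lt (p : GolayPt) : idx p < 24 := by
  cases p with
  | none => decide
  | some x => exact lt_trans (ZMod.val_lt x) (by decide)

theorem idx_injective : Function.Injective idx := by decide

theorem pt_idx (p : GolayPt) : pt (idx p) = p := by revert p; decide

theorem idx_pt (i : ℕ) (hi : i < 24) : idx (pt i) = i := by
  revert i; decide

/-- decode a mask into a word. -/
def dec (n : ℕ) : GolayPt → ZMod 2 := fun p => if n.testBit (idx p) then 1 else 0

theorem dec_apply (n : ℕ) (p : GolayPt) : dec n p = if n.testBit (idx p) then 1 else 0 := rfl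

theorem dec_zero : dec 0 = 0 := by
  funext p; simp [dec]

theorem dec_xor (a b : ℕ) : dec (a ^^^ b) = dec a + dec b := by
  funext p
  simp only [dec, Pi.add_apply, Nat.testBit_xor]
  cases a.testBit (idx p) <;> cases b.testBit (idx p) <;> decide

theorem dec_mod (n : ℕ) : dec (n % 2 ^ 24) = dec n := by
  funext p
  simp only [dec, Nat.testBit_mod_two_pow]
  have := idx_lt p
  simp [this]

theorem dec_ones : dec (2 ^ 24 - 1) = 1 := by
  funext p
  simp only [dec, Pi.one_apply]
  have := idx_lt p
  rw [Nat.testBit_two_pow_sub_one]
  simp [this]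

theorem dec_eq_iff {a b : ℕ} (ha : a < 2 ^ 24) (hb : b < 2 ^ 24) : dec a = dec b ↔ a = b := by
  constructor
  · intro h
    apply Nat.eq_of_testBit_eq
    intro i
    by_cases hi : i < 24
    · have := congrFun h (pt i)
      simp only [dec, idx_pt i hi] at this
      cases h1 : a.testBit i <;> cases h2 : b.testBit i <;> simp_all
    · have hi' : 24 ≤ i := not_lt.mp hi
      rw [Nat.testBit_lt_two_pow (lt_of_lt_of_le ha (Nat.pow_le_pow_right (by norm_num) hi')),
        Nat.testBit_lt_two_pow (lt_of_lt_of_le hb (Nat.pow_le_pow_right (by norm_num) hi'))]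
  · rintro rfl; rfl

/-- popcount of the low `k` bits. -/
def pc : ℕ → ℕ → ℕ
  | 0, _ => 0
  | k + 1, n => n % 2 + pc k (n / 2)

theorem pc_eq_sum (k n : ℕ) : pc k n = ∑ i ∈ Finset.range k, (if n.testBit i then 1 else 0) := by
  induction k generalizing n with
  | zero => simp [pc]
  | succ k ih =>
    rw [pc, ih, Finset.sum_range_succ']
    have h0 : (if n.testBit 0 = true then 1 else 0) = n % 2 := by
      rw [Nat.testBit_zero]
      rcases Nat.mod_two_eq_zero_or_one n with h | h <;> simp [h]
    rw [h0, add_comm]
    congr 1
    apply Finset.sum_congr rfl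
    intro i _
    rw [Nat.testBit_succ]

theorem pc_eq_card (k n : ℕ) : pc k n = ((Finset.range k).filter (fun i => n.testBit i)).card := by
  rw [pc_eq_sum, Finset.card_filter]

/-- Hamming weight of a decoded mask is the popcount of its low 24 bits. -/
theorem hammingNorm_dec (n : ℕ) : hammingNorm (dec n) = pc 24 n := by
  rw [pc_eq_card, hammingNorm]
  have : (Finset.univ.filter (fun p : GolayPt => dec n p ≠ 0))
      = Finset.univ.filter (fun p : GolayPt => n.testBit (idx p)) := by
    ext p
    simp only [dec, Finset.mem_filter, Finset.mem_univ, true_and]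
    cases h : n.testBit (idx p) <;> simp [h]
  rw [this]
  apply Finset.card_bij (fun p _ => idx p)
  · intro p hp
    simp only [Finset.mem_filter, Finset.mem_univ, true_and] at hp
    simp only [Finset.mem_filter, Finset.mem_range]
    exact ⟨idx_lt p, hp⟩
  · intro p _ q _ h
    exact idx_injective h
  · intro i hi
    simp only [Finset.mem_filter, Finset.mem_range] at hi
    refine ⟨pt i, ?_, idx_pt i hi.1⟩
    simp only [Finset.mem_filter, Finset.mem_univ, true_and, idx_pt i hi.1]
    exact hi.2

end Cfsg.Agent.Lib.Helper6.Golay
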