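import Cfsg.Agent.Lib.Helper6.GolayC48Data
import Cfsg.Agent.Lib.Helper6.ElemAbGL6

/-!
# The centralizer of an involution in the stabilizer of a dodecad and a point (reference position)
-/

set_option autoImplicit false

namespace Cfsg.Agent.Lib.Helper6.Golay

open Cfsg
open Cfsg.Agent.Lib.Helper6.PermChain
open scoped Pointwise

theorem exists_z0 : ∃ z ∈ fix4, ⇑z = lfun zL ∧ wf zL = true := q8L_rep zL_mem

/-- the reference involution -/
noncomputable def z0 : Equiv.Perm GolayPt := Classical.choose exists_z0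

theorem z0_mem : z0 ∈ fix4 := (Classical.choose_spec exists_z0).1

theorem z0_fun : ⇑z0 = lfun zL := (Classical.choose_spec exists_z0).2.1

theorem wf_zL : wf zL = true := (Classical.choose_spec exists_z0).2.2

/-- an involution of the quaternion group is the reference involution -/
theorem eq_z0_of_invol {z : Equiv.Perm GolayPt} (hz : z ∈ fix4) (h2 : z * z = 1) (h1 : z ≠ 1) :
    z = z0 := by
  obtain ⟨m, hm, hzm, wm⟩ := fix4_nf hz
  have h := List.all_eq_true.mp zL_unique m hm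
  simp only [Bool.or_eq_true, bne_iff_ne, ne_eq, beq_iff_eq] at h
  have hsq : lmul m m = idl := by
    apply lfun_injective (wf_lmul wm wm) (by decide)
    rw [← lfun_mul' wm hzm hzm, h2, lfun_idl]
    rfl
  rcases h with (h | h) | h
  · exact absurd hsq h
  · exfalso
    apply h1
    apply DFunLike.coe_injective
    rw [hzm, h, lfun_idl]
    rfl
  · apply DFunLike.coe_injective
    rw [hzm, h, z0_fun]

/-- the set-level centralizer -/
def cent48 : Set (Equiv.Perm GolayPt) :=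
  {g | g ∈ M24 ∧ g • fs dodecad0 = fs dodecad0 ∧ g (pt 4) = pt 4 ∧ g * z0 = z0 * g}

theorem z0_fix {i : ℕ} (hi : i ∈ [0, 2, 3]) : z0 (pt i) = pt i := by
  obtain ⟨-, -, h0, h2, h3⟩ := mem_G72.mp z0_mem.1
  simp only [List.mem_cons, List.not_mem_nil, or_false] at hi
  rcases hi with rfl | rfl | rfl
  · exact h0
  · exact h2
  · exact h3

/-- an element of the centralizer permutes the points 0, 2, 3 -/
theorem cent48_perm {g : Equiv.Perm GolayPt} (hg : g ∈ cent48) {i : ℕ} (hi : i ∈ [0, 2, 3]) :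
    idx (g (pt i)) ∈ [0, 2, 3] := by
  obtain ⟨-, hd, h4, hc⟩ := hg
  have hzq : z0 (g (pt i)) = g (pt i) := by
    rw [← Equiv.Perm.mul_apply, ← hc, Equiv.Perm.mul_apply, z0_fix hi]
  have hiD : pt i ∈ fs dodecad0 := by
    simp only [List.mem_cons, List.not_mem_nil, or_false] at hi
    rcases hi with rfl | rfl | rfl <;> decide
  have hqD : g (pt i) ∈ fs dodecad0 := (mem_of_smul_eq hd).mpr hiD
  have hj : idx (g (pt i)) < 24 := idx_lt _
  have hbit : dodecad0.testBit (idx (g (pt i))) = true := mem_fs.mp hqD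
  have hfix : zL.getD (idx (g (pt i))) 0 = idx (g (pt i)) := by
    rw [z0_fun] at hzq
    conv at hzq => rw [← pt_idx (g (pt i))]
    rw [lfun_pt zL hj] at hzq
    exact pt_injOn (getD_lt wf_zL hj) hj hzq
  have h := List.all_eq_true.mp zL_fix (idx (g (pt i))) (List.mem_range.mpr hj)
  rw [hbit, hfix] at h
  simp only [Bool.not_true, bne_self_eq_false, Bool.false_or, List.contains_eq_mem,
    decide_eq_true_eq] at h
  have hne : idx (g (pt i)) ≠ 4 := by
    intro e
    have e1 : g (pt i) = g (pt 4) := by rw [h4, ← pt_idx (g (pt i)), e]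
    have e2 := g.injective e1
    simp only [List.mem_cons, List.not_mem_nil, or_false] at hi
    rcases hi with rfl | rfl | rfl <;> exact absurd e2 (by decide)
  simp only [List.mem_cons, List.not_mem_nil, or_false] at h ⊢
  omega

theorem idx_apply_ne' (g : Equiv.Perm GolayPt) {i j : ℕ} (h : pt i ≠ pt j) :
    idx (g (pt i)) ≠ idx (g (pt j)) := by
  intro e
  have e1 : g (pt i) = g (pt j) := by rw [← pt_idx (g (pt i)), e, pt_idx]
  exact h (g.injective e1)

/-- normal form of the elements of the centralizer -/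
theorem cent48_nf {g : Equiv.Perm GolayPt} (hg : g ∈ cent48) :
    ∃ m ∈ c48L, ⇑g = lfun m ∧ wf m = true := by
  have hx := cent48_perm hg (i := 0) (by simp)
  have hy := cent48_perm hg (i := 2) (by simp)
  have hz := cent48_perm hg (i := 3) (by simp)
  obtain ⟨hM, hd, h4, hc⟩ := hg
  have hcov := List.all_eq_true.mp (List.all_eq_true.mp (List.all_eq_true.mp c48R_cover _ hx) _ hy)
    _ hz
  simp only [Bool.or_eq_true, beq_iff_eq] at hcov
  have n1 := idx_apply_ne' g (i := 0) (j := 2) (by decide)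
  have n2 := idx_apply_ne' g (i := 0) (j := 3) (by decide)
  have n3 := idx_apply_ne' g (i := 2) (j := 3) (by decide)
  have hcov : (c48R.any fun r => r.getD 0 0 == idx (g (pt 0)) && r.getD 2 0 == idx (g (pt 2)) &&
      r.getD 3 0 == idx (g (pt 3))) = true := by
    rcases hcov with ((h | h) | h) | h
    · exact absurd h n1
    · exact absurd h n2
    · exact absurd h n3
    · exact h
  rw [List.any_eq_true] at hcov
  obtain ⟨r, hr, hagree⟩ := hcov
  simp only [Bool.and_eq_true, beq_iff_eq] at hagree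
  obtain ⟨⟨a0, a2⟩, a3⟩ := hagree
  obtain ⟨wr, u, hu, huf⟩ := rep_c48R r hr
  have hok := List.all_eq_true.mp c48R_ok r hr
  rw [Bool.and_eq_true, beq_iff_eq, beq_iff_eq] at hok
  have hud : u • fs dodecad0 = fs dodecad0 := by rw [smul_fs wr huf, hok.1]
  have hu4 : u (pt 4) = pt 4 := by rw [huf, lfun_pt r (by norm_num), hok.2]
  have hv : u⁻¹ * g ∈ fix4 := by
    refine ⟨mem_G72.mpr ⟨M24.mul_mem (M24.inv_mem hu) hM, ?_, ?_, ?_, ?_⟩, ?_⟩
    · rw [mul_smul, hd, inv_smul_eq_iff, hud]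
    · rw [Equiv.Perm.mul_apply, Equiv.Perm.inv_def, Equiv.symm_apply_eq, huf,
        lfun_pt r (by norm_num), a0, pt_idx]
    · rw [Equiv.Perm.mul_apply, Equiv.Perm.inv_def, Equiv.symm_apply_eq, huf,
        lfun_pt r (by norm_num), a2, pt_idx]
    · rw [Equiv.Perm.mul_apply, Equiv.Perm.inv_def, Equiv.symm_apply_eq, huf,
        lfun_pt r (by norm_num), a3, pt_idx]
    · rw [Equiv.Perm.mul_apply, h4, Equiv.Perm.inv_def, Equiv.symm_apply_eq, hu4]
  obtain ⟨q, hq, hvq, wq⟩ := fix4_nf hv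
  refine ⟨lmul r q, ?_, ?_, wf_lmul wr wq⟩
  · rw [c48L, List.mem_flatMap]
    exact ⟨r, hr, List.mem_map.mpr ⟨q, hq, rfl⟩⟩
  · have := lfun_mul' wq huf hvq
    rwa [mul_inv_cancel_left] at this

theorem c48L_rep {m : List ℕ} (hm : m ∈ c48L) : ∃ g ∈ cent48, ⇑g = lfun m ∧ wf m = true := by
  have hcomm := List.all_eq_true.mp c48L_comm m hm
  rw [beq_iff_eq] at hcomm
  rw [c48L, List.mem_flatMap] at hm
  obtain ⟨r, hr, hm⟩ := hm
  rw [List.mem_map] at hm
  obtain ⟨q, hq, rfl⟩ := hm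
  obtain ⟨wr, u, hu, huf⟩ := rep_c48R r hr
  have hok := List.all_eq_true.mp c48R_ok r hr
  rw [Bool.and_eq_true, beq_iff_eq, beq_iff_eq] at hok
  have hud : u • fs dodecad0 = fs dodecad0 := by rw [smul_fs wr huf, hok.1]
  have hu4 : u (pt 4) = pt 4 := by rw [huf, lfun_pt r (by norm_num), hok.2]
  obtain ⟨v, hv, hvq, wq⟩ := q8L_rep hq
  obtain ⟨hvM, hvd, -, -, -⟩ := mem_G72.mp hv.1
  have hgf : ⇑(u * v) = lfun (lmul r q) := lfun_mul' wq huf hvq
  have wm : wf (lmul r q) = true := wf_lmul wr wq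
  refine ⟨u * v, ⟨M24.mul_mem hu hvM, ?_, ?_, ?_⟩, hgf, wm⟩
  · rw [mul_smul, hvd, hud]
  · rw [Equiv.Perm.mul_apply, hv.2, hu4]
  · apply DFunLike.coe_injective
    rw [lfun_mul' wf_zL hgf z0_fun, lfun_mul' wm z0_fun hgf, hcomm]

theorem card_cent48 : Nat.card cent48 = 48 := by
  have h := card_set_of_list cent48 c48L c48L_nodup
    (fun l hl => (c48L_rep hl).choose_spec.2.2)
    (fun g hg => by
      obtain ⟨m, hm, hgm, -⟩ := cent48_nf hg
      exact ⟨m, hm, hgm⟩)
    (fun l hl => by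
      obtain ⟨g, hg, hgl, -⟩ := c48L_rep hl
      exact ⟨g, hg, hgl⟩)
  rw [c48L_length] at h
  exact h

/-- the centralizer as a subgroup -/
def C48 : Subgroup (Equiv.Perm GolayPt) where
  carrier := cent48
  mul_mem' := by
    rintro a b ⟨ha, had, ha4, hac⟩ ⟨hb, hbd, hb4, hbc⟩
    refine ⟨M24.mul_mem ha hb, ?_, ?_, ?_⟩
    · rw [mul_smul, hbd, had]
    · rw [Equiv.Perm.mul_apply, hb4, ha4]
    · rw [mul_assoc, hbc, ← mul_assoc, hac, mul_assoc]
  one_mem' := ⟨M24.one_mem, one_smul _ _, rfl, by rw [one_mul, mul_one]⟩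
  inv_mem' := by
    rintro a ⟨ha, had, ha4, hac⟩
    refine ⟨M24.inv_mem ha, ?_, ?_, ?_⟩
    · rw [inv_smul_eq_iff, had]
    · rw [Equiv.Perm.inv_def, Equiv.symm_apply_eq, ha4]
    · calc a⁻¹ * z0 = a⁻¹ * (z0 * a) * a⁻¹ := by group
        _ = a⁻¹ * (a * z0) * a⁻¹ := by rw [hac]
        _ = z0 * a⁻¹ := by group

theorem mem_C48 {g : Equiv.Perm GolayPt} : g ∈ C48 ↔ g ∈ cent48 := Iff.rfl

theorem card_C48 : Nat.card C48 = 48 := card_cent48

/-- the subgroup of order nine -/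
def N9 : Subgroup (Equiv.Perm GolayPt) where
  carrier := cube72
  mul_mem' := by
    intro a b ha hb
    exact ⟨G72.mul_mem ha.1 hb.1, cube72_mul ha hb⟩
  one_mem' := ⟨G72.one_mem, by rw [mul_one, mul_one]⟩
  inv_mem' := by
    intro a ha
    refine ⟨G72.inv_mem ha.1, ?_⟩
    rw [← mul_inv_rev, ← mul_inv_rev, mul_assoc, ha.2, inv_one]

theorem mem_N9 {g : Equiv.Perm GolayPt} : g ∈ N9 ↔ g ∈ cube72 := Iff.rfl

theorem card_N9 : Nat.card N9 = 9 := card_cube72

theorem N9_pow (x : ↥N9) : x ^ 3 = 1 := by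
  apply Subtype.ext
  show (x : Equiv.Perm GolayPt) ^ 3 = 1
  rw [pow_succ, pow_two, mul_assoc]
  exact x.2.2

theorem pt_of_idx_mem {q : GolayPt} (h : idx q ∈ [0, 2, 3]) :
    q = pt 0 ∨ q = pt 2 ∨ q = pt 3 := by
  simp only [List.mem_cons, List.not_mem_nil, or_false] at h
  rcases h with h | h | h
  · left; rw [← pt_idx q, h]
  · right; left; rw [← pt_idx q, h]
  · right; right; rw [← pt_idx q, h]

/-- the centralizer normalizes the subgroup of order nine -/
theorem conj_mem_N9 {g n : Equiv.Perm GolayPt} (hg : g ∈ C48) (hn : n ∈ N9) :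
    g * n * g⁻¹ ∈ N9 := by
  obtain ⟨hnG, hn3⟩ := hn
  obtain ⟨hnM, hnd, hn0, hn2, hn3'⟩ := mem_G72.mp hnG
  have hgi : g⁻¹ ∈ C48 := C48.inv_mem hg
  obtain ⟨hM, hd, h4, hc⟩ := hg
  have hfix : ∀ i ∈ [0, 2, 3], (g * n * g⁻¹) (pt i) = pt i := by
    intro i hi
    have h := pt_of_idx_mem (cent48_perm hgi hi)
    rw [Equiv.Perm.mul_apply, Equiv.Perm.mul_apply]
    have hn' : n (g⁻¹ (pt i)) = g⁻¹ (pt i) := by
      rcases h with h | h | h <;> rw [h]
      · exact hn0
      · exact hn2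
      · exact hn3'
    rw [hn', perm_apply_inv]
  refine ⟨mem_G72.mpr ⟨M24.mul_mem (M24.mul_mem hM hnM) (M24.inv_mem hM), ?_,
    hfix 0 (by simp), hfix 2 (by simp), hfix 3 (by simp)⟩, ?_⟩
  · rw [mul_smul, mul_smul, inv_smul_eq_iff.mpr hd.symm, hnd, hd]
  · have e : ∀ a b : Equiv.Perm GolayPt,
        a * b * a⁻¹ * (a * b * a⁻¹ * (a * b * a⁻¹)) = a * (b * (b * b)) * a⁻¹ := by
      intro a b; group
    rw [e, hn3]; group

/-- conjugation by an element of the centralizer, as an automorphism of the subgroup of order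
nine -/
def conjAut48 (g : ↥C48) : MulAut ↥N9 where
  toFun n := ⟨g.1 * n.1 * g.1⁻¹, conj_mem_N9 g.2 n.2⟩
  invFun n := ⟨g.1⁻¹ * n.1 * (g.1⁻¹)⁻¹, conj_mem_N9 (C48.inv_mem g.2) n.2⟩
  left_inv n := by
    apply Subtype.ext
    show g.1⁻¹ * (g.1 * n.1 * g.1⁻¹) * (g.1⁻¹)⁻¹ = n.1
    group
  right_inv n := by
    apply Subtype.ext
    show g.1 * (g.1⁻¹ * n.1 * (g.1⁻¹)⁻¹) * g.1⁻¹ = n.1
    group
  map_mul' a b := by
    apply Subtype.ext
    show g.1 * (a.1 * b.1) * g.1⁻¹ = g.1 * a.1 * g.1⁻¹ * (g.1 * b.1 * g.1⁻¹)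
    group

/-- the conjugation action of the centralizer on the subgroup of order nine -/
def conjHom48 : ↥C48 →* MulAut ↥N9 where
  toFun := conjAut48
  map_one' := by
    apply MulEquiv.ext
    intro n
    apply Subtype.ext
    show (1 : Equiv.Perm GolayPt) * n.1 * (1 : Equiv.Perm GolayPt)⁻¹ = n.1
    group
  map_mul' a b := by
    apply MulEquiv.ext
    intro n
    apply Subtype.ext
    show (a.1 * b.1) * n.1 * (a.1 * b.1)⁻¹ = a.1 * (b.1 * n.1 * b.1⁻¹) * a.1⁻¹
    group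

theorem conjHom48_injective : Function.Injective conjHom48 := by
  rw [injective_iff_map_eq_one]
  intro g hg
  obtain ⟨m, hm, hgm, wm⟩ := cent48_nf g.2
  have h := List.all_eq_true.mp c48L_faithful m hm
  rw [Bool.or_eq_true, beq_iff_eq, List.any_eq_true] at h
  rcases h with h | ⟨n, hn, hne⟩
  · apply Subtype.ext
    apply DFunLike.coe_injective
    rw [hgm, h, lfun_idl]
    rfl
  · exfalso
    rw [bne_iff_ne] at hne
    apply hne
    obtain ⟨n', hn', hnf, wn⟩ := m9C_rep hn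
    have h1 : conjHom48 g ⟨n', hn'⟩ = ⟨n', hn'⟩ := by rw [hg]; rfl
    have h2 : g.1 * n' * g.1⁻¹ = n' := congrArg Subtype.val h1
    have h3 : g.1 * n' = n' * g.1 := by
      calc g.1 * n' = (g.1 * n' * g.1⁻¹) * g.1 := by group
        _ = n' * g.1 := by rw [h2]
    apply lfun_injective (wf_lmul wm wn) (wf_lmul wn wm)
    rw [← lfun_mul' wn hgm hnf, ← lfun_mul' wm hnf hgm, h3]

theorem card_GL23' : Nat.card (GL (Fin 2) (ZMod 3)) = 48 := by
  rw [Matrix.card_GL_field, ZMod.card, Fin.prod_univ_two]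
  norm_num

/-- **the reference centralizer is `GL(2, 3)`** -/
theorem C48_equiv : Nonempty (↥C48 ≃* GL (Fin 2) (ZMod 3)) := by
  have : Fact (Nat.Prime 3) := ⟨by norm_num⟩
  have : Finite ↥N9 := Nat.finite_of_card_ne_zero (by rw [card_N9]; norm_num)
  have : Finite ↥C48 := Nat.finite_of_card_ne_zero (by rw [card_C48]; norm_num)
  let cg : CommGroup ↥N9 :=
    IsPGroup.commGroupOfCardEqPrimeSq (p := 3) (by rw [card_N9]; norm_num)
  obtain ⟨e⟩ := ElemAb.mulAut_equiv_gl (V := ↥N9) 3 2 N9_pow (by rw [card_N9]; norm_num)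
  have : Finite (MulAut ↥N9) := Finite.of_equiv _ e.symm.toEquiv
  have hcard : Nat.card (MulAut ↥N9) = 48 := by rw [Nat.card_congr e.toEquiv, card_GL23']
  have hbij : Function.Bijective conjHom48 := by
    rw [Nat.bijective_iff_injective_and_card]
    exact ⟨conjHom48_injective, by rw [card_C48, hcard]⟩
  exact ⟨(MulEquiv.ofBijective conjHom48 hbij).trans e⟩

end Cfsg.Agent.Lib.Helper6.Golay
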