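import Cfsg.Agent.Lib.Helper6.GolayM9

/-!
# Data for the centralizer of an involution in the stabilizer of a dodecad and a point (order 48)
-/

set_option autoImplicit false

namespace Cfsg.Agent.Lib.Helper6.Golay

open Cfsg
open Cfsg.Agent.Lib.Helper6.PermChain

def progC48 : List (ℕ × ℕ) := [(1, 1), (3, 1), (4, 0), (5, 1), (6, 2), (7, 2), (3, 0), (9, 0), (10, 0), (0, 1), (12, 2), (13, 1), (14, 2), (15, 2), (16, 2), (17, 2), (18, 0), (19, 1), (20, 0), (21, 2), (22, 0), (8, 23), (11, 24), (5, 2), (9, 25), (3, 2), (28, 2), (29, 25), (30, 25), (23, 0), (32, 1), (33, 1), (34, 0), (35, 1), (26, 36), (27, 37), (31, 38), (5, 0), (9, 2), (41, 25), (42, 0), (3, 25), (3, 39), (36, 0), (46, 2), (47, 0), (48, 0), (49, 2), (50, 0), (51, 1), (52, 1), (53, 0), (54, 1), (55, 0), (40, 56), (43, 57), (44, 58), (45, 59), (26, 25), (27, 25), (45, 39), (63, 60), (64, 39), (3, 60), (56, 0), (67, 2), (68, 2), (69, 1), (61, 70), (62, 71), (31, 72), (65, 73), (66, 74), (28, 25), (76, 39), (45, 60), (78, 39), (66, 60), (80, 60), (81, 75),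 (82, 75), (3, 75), (70, 0), (85, 0), (86, 0), (87, 0), (88, 0), (89, 0), (90, 1), (91, 1), (92, 0), (93, 2), (61, 94), (41, 95), (77, 96), (79, 97), (83, 98), (84, 99), (41, 75), (94, 0), (102, 2), (103, 0), (104, 1), (105, 1), (106, 0), (61, 107), (101, 108), (44, 109), (78, 110), (66, 111), (26, 75), (9, 39), (114, 0), (76, 112), (63, 39), (117, 39), (80, 75), (107, 1), (120, 0), (121, 0), (122, 1), (123, 0), (124, 1), (125, 1), (126, 2), (113, 127), (115, 128), (116, 129), (118, 130), (119, 131), (40, 25), (9, 60), (28, 75), (135, 100), (63, 100), (66, 75), (138, 75), (139, 100), (127, 0), (141, 2), (142, 2), (143, 2), (144, 1), (145, 0), (146, 1), (147, 1), (148, 1), (149, 1), (150, 2), (151, 1), (152, 1), (153, 1), (154, 2), (155, 0), (156, 0), (133, 157), (134, 158), (136, 159), (137, 160), (140, 161), (84, 162), (2, 0), (60, 164), (75, 164), (2, 2), (25, 2), (60, 2), (100, 2), (163, 2), (132, 25), (25, 167), (39, 39), (60, 39), (39, 174), (75, 174), (39, 175), (60, 175), (112, 175), (60, 177), (75, 60),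 (112, 60), (163, 60), (75, 182), (132, 182), (132, 183), (75, 75), (112, 100), (132, 112), (163, 189), (163, 190), (12, 0), (193, 173), (193, 172), (195, 180), (196, 184), (194, 176), (198, 184), (12, 165), (200, 171), (200, 170), (202, 175), (203, 184), (201, 181), (205, 185), (12, 166), (207, 168), (208, 178), (209, 187), (207, 169), (211, 179), (212, 186), (197, 188), (214, 163), (199, 112), (204, 189), (206, 191), (210, 75), (219, 190), (213, 75), (221, 192)]

def c48Idx : List ℕ := [215, 216, 217, 218, 220, 222]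

def c48R : List (List ℕ) := [[0, 21, 2, 3, 4, 20, 14, 9, 7, 10, 8, 6, 23, 11, 13, 22, 17, 18, 19, 16, 5, 12, 15, 1],
  [0, 19, 3, 2, 4, 15, 14, 6, 10, 7, 13, 9, 17, 11, 8, 22, 23, 16, 21, 18, 5, 12, 20, 1],
  [2, 18, 0, 3, 4, 20, 8, 11, 10, 7, 14, 6, 16, 9, 13, 22, 19, 21, 17, 23, 15, 12, 5, 1],
  [2, 17, 3, 0, 4, 5, 8, 6, 7, 10, 13, 11, 19, 9, 14, 22, 16, 23, 18, 21, 15, 12, 20, 1],
  [3, 16, 0, 2, 4, 15, 13, 11, 7, 10, 14, 9, 18, 6, 8, 22, 21, 19, 23, 17, 20, 12, 5, 1],
  [3, 23, 2, 0, 4, 5, 13, 9, 10, 7, 8, 11, 21, 6, 14, 22, 18, 17, 16, 19, 20, 12, 15, 1]]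

def zL : List ℕ := [0, 12, 2, 3, 4, 5, 13, 10, 9, 8, 7, 14, 1, 6, 11, 15, 18, 19, 16, 17, 20, 23, 22, 21]

theorem c48R_eq : c48R = c48Idx.map (fun i => (slpRun gens3 progC48).getD i idl) := by
  decide +kernel

theorem rep_c48R : ∀ l ∈ c48R, Rep M24 l := by
  intro l hl
  rw [c48R_eq, List.mem_map] at hl
  obtain ⟨i, _, rfl⟩ := hl
  exact rep_getD (rep_slpRun _ _ (rep_gens3 hasGens_M24)) i

/-- the 48 list permutations -/
def c48L : List (List ℕ) := c48R.flatMap (fun r => q8L.map (lmul r))

theorem c48L_length : c48L.length = 48 := by decide +kernel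

theorem c48L_nodup : c48L.Nodup := by decide +kernel

/-- the coset representatives stabilize the reference dodecad and fix the point 4 -/
theorem c48R_ok : c48R.all (fun r => (lmask r dodecad0 == dodecad0) && (r.getD 4 0 == 4)) = true := by
  decide +kernel

/-- the coset representatives induce all permutations of the points 0, 2, 3 -/
theorem c48R_cover : [0, 2, 3].all (fun x => [0, 2, 3].all (fun y => [0, 2, 3].all (fun z =>
    x == y || x == z || y == z ||
    c48R.any (fun r => r.getD 0 0 == x && r.getD 2 0 == y && r.getD 3 0 == z)))) = true := by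
  decide +kernel

/-- all 48 commute with the involution -/
theorem c48L_comm : c48L.all (fun m => lmul m zL == lmul zL m) = true := by decide +kernel

/-- no nontrivial one centralizes the subgroup of order nine -/
theorem c48L_faithful : c48L.all (fun m => m == idl || m9C.any (fun n => lmul m n != lmul n m)) = true := by
  decide +kernel

/-- the involution is the only one among the eight -/
theorem zL_unique : q8L.all (fun m => lmul m m != idl || m == idl || m == zL) = true := by
  decide +kernel

theorem zL_mem : zL ∈ q8L := by decide +kernel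

theorem zL_sq : lmul zL zL = idl := by decide +kernel

/-- the fixed points of the involution on the reference dodecad -/
theorem zL_fix : (List.range 24).all (fun i => !(dodecad0.testBit i) || zL.getD i 0 != i ||
    [0, 2, 3, 4].contains i) = true := by decide +kernel

end Cfsg.Agent.Lib.Helper6.Golay
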