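import Cfsg.Agent.Lib.Helper6.GolayC48

/-!
# The centralizer of an involution in the stabilizer of a dodecad and a point (general position)
-/

set_option autoImplicit false

namespace Cfsg.Agent.Lib.Helper6.Golay

open Cfsg
open Cfsg.Agent.Lib.Helper6.PermChain
open scoped Pointwise

theorem compl_mem_dodecads48 {d : Finset GolayPt} (hd : d ∈ dodecads) : dᶜ ∈ dodecads := by
  obtain ⟨n, hn, h12, rfl⟩ := (mem_dodecads_iff d).mp hd
  rw [← fs_compl]
  have hin : inCode (n ^^^ (2 ^ 24 - 1)) = true := inCode_xor hn (by decide +kernel)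
  apply fs_mem_dodecads hin
  rw [← card_fs, fs_compl, Finset.card_compl, card_fs, h12]
  decide

theorem smul_compl48 (g : Equiv.Perm GolayPt) (d : Finset GolayPt) : g • dᶜ = (g • d)ᶜ := by
  rw [Finset.compl_eq_univ_sdiff, Finset.smul_finset_sdiff, Finset.smul_finset_univ,
    ← Finset.compl_eq_univ_sdiff]

/-- an element of the stabilizer of a dodecad fixing five of its points is trivial -/
theorem eq_one_of_fix_five {d : Finset GolayPt} (hd : d ∈ dodecads) {g : Equiv.Perm GolayPt}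
    (hg : g ∈ M24) (hgd : g • d = d) {s : Finset GolayPt} (hs : s ⊆ d) (h5 : 5 ≤ s.card)
    (hfix : ∀ q ∈ s, g q = q) : g = 1 := by
  have : Nonempty (Fin 5 ↪ ↥s) := by
    apply Function.Embedding.nonempty_of_card_le
    simpa using h5
  obtain ⟨e⟩ := this
  let x : Fin 5 ↪ GolayPt := e.trans (Function.Embedding.subtype _)
  have hx : ∀ i, x i ∈ d := fun i => hs (e i).2
  obtain ⟨u, -, hu⟩ := existsUnique_stab_dodecad hd x x hx hx
  have h1 := hu g ⟨⟨hg, hgd⟩, fun i => hfix _ (e i).2⟩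
  have h2 := hu 1 ⟨⟨M24.one_mem, one_smul _ _⟩, fun i => rfl⟩
  rw [h1, h2]

/-- an involution of the stabilizer of a dodecad fixing one of its points fixes three more -/
theorem exists_fix_three {d : Finset GolayPt} (hd : d ∈ dodecads) {x : Equiv.Perm GolayPt}
    (hx : x ∈ M24) (hxd : x • d = d) (h2 : orderOf x = 2) {p : GolayPt} (hp : p ∈ d)
    (hxp : x p = p) :
    ∃ a b c : GolayPt, a ∈ d ∧ b ∈ d ∧ c ∈ d ∧ a ≠ b ∧ a ≠ c ∧ b ≠ c ∧ a ≠ p ∧ b ≠ p ∧ c ≠ p ∧
      x a = a ∧ x b = b ∧ x c = c := by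
  have hO := invol_fix_octad hx h2 hxp
  have h8 : (Finset.univ.filter fun q => x q = q).card = 8 := hO.2
  have hne : x ≠ 1 := by
    intro e
    rw [e, orderOf_one] at h2
    omega
  have hle : ((Finset.univ.filter fun q => x q = q) ∩ dᶜ).card ≤ 4 := by
    by_contra hcon
    push Not at hcon
    apply hne
    apply eq_one_of_fix_five (compl_mem_dodecads48 hd) hx (by rw [smul_compl48, hxd])
      Finset.inter_subset_right hcon
    intro q hq
    exact (Finset.mem_filter.mp (Finset.mem_inter.mp hq).1).2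
  have hsum : ((Finset.univ.filter fun q => x q = q) ∩ d).card +
      ((Finset.univ.filter fun q => x q = q) ∩ dᶜ).card = 8 := by
    rw [← h8, ← Finset.sdiff_eq_inter_compl, Finset.card_inter_add_card_sdiff]
  have hpm : p ∈ (Finset.univ.filter fun q => x q = q) ∩ d := by
    rw [Finset.mem_inter, Finset.mem_filter]
    exact ⟨⟨Finset.mem_univ _, hxp⟩, hp⟩
  have hge : 2 < (((Finset.univ.filter fun q => x q = q) ∩ d).erase p).card := by
    rw [Finset.card_erase_of_mem hpm]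
    omega
  obtain ⟨a, b, c, ha, hb, hc, hab, hac, hbc⟩ := Finset.two_lt_card_iff.mp hge
  rw [Finset.mem_erase, Finset.mem_inter, Finset.mem_filter] at ha hb hc
  exact ⟨a, b, c, ha.2.2, hb.2.2, hc.2.2, hab, hac, hbc, ha.1, hb.1, hc.1, ha.2.1.2, hb.2.1.2,
    hc.2.1.2⟩

/-- an element of `M24` carrying the reference dodecad and four of its points to a given dodecad
and four given points of it -/
theorem exists_M24_dodecad_four {d : Finset GolayPt} (hd : d ∈ dodecads) {a b c p : GolayPt}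
    (ha : a ∈ d) (hb : b ∈ d) (hc : c ∈ d) (hp : p ∈ d) (hab : a ≠ b) (hac : a ≠ c) (hbc : b ≠ c)
    (hap : a ≠ p) (hbp : b ≠ p) (hcp : c ≠ p) :
    ∃ t ∈ M24, t • fs dodecad0 = d ∧ t (pt 0) = a ∧ t (pt 2) = b ∧ t (pt 3) = c ∧
      t (pt 4) = p := by
  obtain ⟨t, ht, rfl, rfl, rfl, rfl⟩ := exists_M24_dodecad_three hd ha hb hc hab hac hbc
  have hp' : t⁻¹ p ∈ D12 := (mem_smul_iff_inv_mem t _ _).mp hp
  have e3 : bs12.take 3 = [pt 0, pt 2, pt 3] := by decide
  have hnot : t⁻¹ p ∉ bs12.take 3 := by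
    rw [e3]
    simp only [List.mem_cons, List.not_mem_nil, or_false, not_or]
    refine ⟨?_, ?_, ?_⟩
    · intro e; apply hap; rw [← e, perm_apply_inv]
    · intro e; apply hbp; rw [← e, perm_apply_inv]
    · intro e; apply hcp; rw [← e, perm_apply_inv]
  obtain ⟨h, hh, hhp⟩ := chain12 hasGens_M24 3 (by decide) _ hp' hnot
  have hh1 := mem_fixL.mp hh
  have hh2 := mem_M12in.mp hh1.1
  rw [e3] at hh1
  refine ⟨t * h, M24.mul_mem ht hh2.1, ?_, ?_, ?_, ?_, ?_⟩
  · rw [mul_smul, hh2.2]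
  · rw [Equiv.Perm.mul_apply, hh1.2 _ (by simp)]
  · rw [Equiv.Perm.mul_apply, hh1.2 _ (by simp)]
  · rw [Equiv.Perm.mul_apply, hh1.2 _ (by simp)]
  · have e : bs12[3]'(by decide) = pt 4 := by decide
    rw [e] at hhp
    rw [Equiv.Perm.mul_apply, hhp, perm_apply_inv]

theorem mem_stab2 {t : Equiv.Perm GolayPt} (g : ↥M24) :
    g ∈ (MulAction.stabilizer M24 (t • fs dodecad0) ⊓ MulAction.stabilizer M24 (t (pt 4))) ↔
    (g.1 • (t • fs dodecad0) = t • fs dodecad0 ∧ g.1 (t (pt 4)) = t (pt 4)) := by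
  simp only [Subgroup.mem_inf, MulAction.mem_stabilizer_iff]
  rfl

/-- conjugation isomorphism from a centralizer in general position to the reference group -/
def conjEquiv48 {t : Equiv.Perm GolayPt} (ht : t ∈ M24)
    (x : ↥(MulAction.stabilizer M24 (t • fs dodecad0) ⊓ MulAction.stabilizer M24 (t (pt 4))))
    (hx : t⁻¹ * x.1.1 * t = z0) :
    ↥(Subgroup.centralizer ({x} : Set ↥(MulAction.stabilizer M24 (t • fs dodecad0) ⊓
      MulAction.stabilizer M24 (t (pt 4))))) ≃* ↥C48 where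
  toFun g := ⟨t⁻¹ * g.1.1.1 * t, by
    obtain ⟨h1, h2⟩ := (mem_stab2 g.1.1).mp g.1.2
    have h3 := Subgroup.mem_centralizer_iff.mp g.2 x rfl
    have h4 : x.1.1 * g.1.1.1 = g.1.1.1 * x.1.1 := congrArg (fun y => y.1.1) h3
    rw [mem_C48]
    refine ⟨M24.mul_mem (M24.mul_mem (M24.inv_mem ht) g.1.1.2) ht, conj_smul_eq.mpr h1, ?_, ?_⟩
    · rw [Equiv.Perm.mul_apply, Equiv.Perm.mul_apply, h2, perm_inv_apply]
    · rw [← hx]
      calc t⁻¹ * g.1.1.1 * t * (t⁻¹ * x.1.1 * t) = t⁻¹ * (g.1.1.1 * x.1.1) * t := by group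
        _ = t⁻¹ * (x.1.1 * g.1.1.1) * t := by rw [h4]
        _ = t⁻¹ * x.1.1 * t * (t⁻¹ * g.1.1.1 * t) := by group⟩
  invFun h := ⟨⟨⟨t * h.1 * t⁻¹, by
      obtain ⟨hM, -⟩ := mem_C48.mp h.2
      exact M24.mul_mem (M24.mul_mem ht hM) (M24.inv_mem ht)⟩, by
    obtain ⟨hM, hd, h4, -⟩ := mem_C48.mp h.2
    rw [mem_stab2]
    refine ⟨?_, ?_⟩
    · show (t * h.1 * t⁻¹) • (t • fs dodecad0) = t • fs dodecad0
      rw [mul_smul, mul_smul, inv_smul_smul, hd]
    · show (t * h.1 * t⁻¹) (t (pt 4)) = t (pt 4)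
      rw [Equiv.Perm.mul_apply, Equiv.Perm.mul_apply, perm_inv_apply, h4]⟩, by
    obtain ⟨-, -, -, hc⟩ := mem_C48.mp h.2
    rw [Subgroup.mem_centralizer_iff]
    intro y hy
    rw [Set.mem_singleton_iff] at hy
    subst hy
    apply Subtype.ext
    apply Subtype.ext
    show y.1.1 * (t * h.1 * t⁻¹) = t * h.1 * t⁻¹ * y.1.1
    rw [← hx] at hc
    calc y.1.1 * (t * h.1 * t⁻¹) = t * ((t⁻¹ * y.1.1 * t) * h.1) * t⁻¹ := by group
      _ = t * (h.1 * (t⁻¹ * y.1.1 * t)) * t⁻¹ := by rw [hc]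
      _ = t * h.1 * t⁻¹ * y.1.1 := by group⟩
  left_inv g := by
    apply Subtype.ext
    apply Subtype.ext
    apply Subtype.ext
    show t * (t⁻¹ * g.1.1.1 * t) * t⁻¹ = g.1.1.1
    group
  right_inv h := by
    apply Subtype.ext
    show t⁻¹ * (t * h.1 * t⁻¹) * t = h.1
    group
  map_mul' a b := by
    apply Subtype.ext
    show t⁻¹ * (a.1.1.1 * b.1.1.1) * t = t⁻¹ * a.1.1.1 * t * (t⁻¹ * b.1.1.1 * t)
    group

/-- **Involution centralisers in the smallest Mathieu group are isomorphic to `GL(2, 3)`.** -/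
theorem m11_involution_centralizer (d : Finset GolayPt) (hd : d ∈ dodecads) (p : GolayPt)
    (hp : p ∈ d) (x : ↥(MulAction.stabilizer M24 d ⊓ MulAction.stabilizer M24 p))
    (hx : orderOf x = 2) :
    Nonempty (↥(Subgroup.centralizer ({x} : Set ↥(MulAction.stabilizer M24 d ⊓
      MulAction.stabilizer M24 p))) ≃* GL (Fin 2) (ZMod 3)) := by
  have hx2 : orderOf x.1.1 = 2 := by
    rw [← hx, ← Subgroup.orderOf_coe, ← Subgroup.orderOf_coe]
  have hxs := x.2
  rw [Subgroup.mem_inf, MulAction.mem_stabilizer_iff, MulAction.mem_stabilizer_iff] at hxs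
  have hxd : x.1.1 • d = d := hxs.1
  have hxp : x.1.1 p = p := hxs.2
  obtain ⟨a, b, c, ha, hb, hc, hab, hac, hbc, hap, hbp, hcp, hxa, hxb, hxc⟩ :=
    exists_fix_three hd x.1.2 hxd hx2 hp hxp
  obtain ⟨t, ht, rfl, rfl, rfl, rfl, rfl⟩ :=
    exists_M24_dodecad_four hd ha hb hc hp hab hac hbc hap hbp hcp
  have hz : t⁻¹ * x.1.1 * t = z0 := by
    obtain ⟨hsq, hne⟩ := sq_of_orderOf_two hx2
    apply eq_z0_of_invol
    · refine ⟨mem_G72.mpr ⟨M24.mul_mem (M24.mul_mem (M24.inv_mem ht) x.1.2) ht,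
        conj_smul_eq.mpr hxd, ?_, ?_, ?_⟩, ?_⟩
      · rw [Equiv.Perm.mul_apply, Equiv.Perm.mul_apply, hxa, perm_inv_apply]
      · rw [Equiv.Perm.mul_apply, Equiv.Perm.mul_apply, hxb, perm_inv_apply]
      · rw [Equiv.Perm.mul_apply, Equiv.Perm.mul_apply, hxc, perm_inv_apply]
      · rw [Equiv.Perm.mul_apply, Equiv.Perm.mul_apply, hxp, perm_inv_apply]
    · calc t⁻¹ * x.1.1 * t * (t⁻¹ * x.1.1 * t) = t⁻¹ * (x.1.1 * x.1.1) * t := by group
        _ = 1 := by rw [hsq]; group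
    · intro e
      apply hne
      calc x.1.1 = t * (t⁻¹ * x.1.1 * t) * t⁻¹ := by group
        _ = 1 := by rw [e]; group
  obtain ⟨e⟩ := C48_equiv
  exact ⟨(conjEquiv48 ht x hz).trans e⟩

end Cfsg.Agent.Lib.Helper6.Golay
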