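import Cfsg.Agent.Lib.Helper6.GolayCentData

/-!
# The centralizer of a fixed-point-free involution of `M24` has order 7680
-/

set_option autoImplicit false

namespace Cfsg.Agent.Lib.Helper6.Golay

open Cfsg
open Cfsg.Agent.Lib.Helper6.PermChain
open scoped Pointwise

/-- the centralizer of `t` in `M24` -/
def centM (t : Equiv.Perm GolayPt) : Subgroup (Equiv.Perm GolayPt) where
  carrier := {c | c ∈ M24 ∧ c * t = t * c}
  mul_mem' := by
    rintro a b ⟨ha, ha'⟩ ⟨hb, hb'⟩
    refine ⟨M24.mul_mem ha hb, ?_⟩
    rw [mul_assoc, hb', ← mul_assoc, ha', mul_assoc]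
  one_mem' := ⟨M24.one_mem, by simp⟩
  inv_mem' := by
    rintro a ⟨ha, ha'⟩
    refine ⟨M24.inv_mem ha, ?_⟩
    have : a⁻¹ * t = a⁻¹ * (t * a) * a⁻¹ := by group
    rw [this, ← ha']
    group

theorem mem_centM {t c : Equiv.Perm GolayPt} : c ∈ centM t ↔ c ∈ M24 ∧ c * t = t * c := Iff.rfl

/-- the list permutation commutes with `r2B` -/
def commB (m : List ℕ) : Bool := lmul m r2B == lmul r2B m

theorem wf_r2B : wf r2B = true := by decide

theorem commB_iff {c t : Equiv.Perm GolayPt} {m : List ℕ} (hm : wf m = true) (hc : ⇑c = lfun m)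
    (ht : ⇑t = lfun r2B) : c * t = t * c ↔ commB m = true := by
  rw [commB, beq_iff_eq]
  constructor
  · intro h
    apply lfun_injective (wf_lmul hm wf_r2B) (wf_lmul wf_r2B hm)
    rw [lfun_lmul m wf_r2B, lfun_lmul r2B hm, ← hc, ← ht]
    funext p
    have := congrArg (fun f : Equiv.Perm GolayPt => f p) h
    simpa using this
  · intro h
    apply DFunLike.coe_injective
    have h1 : lfun (lmul m r2B) = lfun (lmul r2B m) := by rw [h]
    rw [lfun_lmul m wf_r2B, lfun_lmul r2B hm, ← hc, ← ht] at h1
    funext p
    have := congrFun h1 p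
    simpa using this

/-- a group whose elements are exactly given by a duplicate-free list of list permutations -/
theorem card_of_list (K : Subgroup (Equiv.Perm GolayPt)) (Ls : List (List ℕ)) (hnd : Ls.Nodup)
    (hwf : ∀ l ∈ Ls, wf l = true) (h1 : ∀ g ∈ K, ∃ l ∈ Ls, ⇑g = lfun l)
    (h2 : ∀ l ∈ Ls, ∃ g ∈ K, ⇑g = lfun l) : Nat.card K = Ls.length := by
  classical
  have e : ↥K ≃ {l // l ∈ Ls.toFinset} :=
    { toFun := fun g => ⟨Classical.choose (h1 g.1 g.2),
        List.mem_toFinset.mpr (Classical.choose_spec (h1 g.1 g.2)).1⟩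
      invFun := fun l => ⟨Classical.choose (h2 l.1 (List.mem_toFinset.mp l.2)),
        (Classical.choose_spec (h2 l.1 (List.mem_toFinset.mp l.2))).1⟩
      left_inv := by
        intro g
        apply Subtype.ext
        apply DFunLike.coe_injective
        have s1 := (Classical.choose_spec (h1 g.1 g.2)).2
        have hmem := List.mem_toFinset.mpr (Classical.choose_spec (h1 g.1 g.2)).1
        have s2 := (Classical.choose_spec (h2 (Classical.choose (h1 g.1 g.2))
          (List.mem_toFinset.mp hmem))).2
        exact s2.trans s1.symm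
      right_inv := by
        intro l
        apply Subtype.ext
        have hl := List.mem_toFinset.mp l.2
        have s2 := (Classical.choose_spec (h2 l.1 hl)).2
        have hK := (Classical.choose_spec (h2 l.1 hl)).1
        have s1 := (Classical.choose_spec (h1 _ hK))
        exact lfun_injective (hwf _ s1.1) (hwf _ hl) (s1.2.symm.trans s2) }
  rw [Nat.card_congr e, Nat.card_eq_fintype_card, Fintype.card_coe,
    List.toFinset_card_of_nodup hnd]

/-! ### the computations -/

set_option maxHeartbeats 4000000 in
set_option maxRecDepth 100000 in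
theorem cwit_ok : (cwit0 ++ cwit1 ++ cwit2).all commB = true := by decide +kernel

theorem cwit0_cover : (List.range 24).all (fun q => cwit0.any (fun w => w.getD 23 0 == q)) = true := by
  decide +kernel

theorem cwit1_cover : cwit1.all (fun w => w.getD 23 0 == 23) = true ∧
    corb2.all (fun q => cwit1.any (fun w => w.getD 1 0 == q)) = true := by
  constructor <;> decide +kernel

theorem cwit2_cover : cwit2.all (fun w => w.getD 23 0 == 23 && w.getD 1 0 == 1) = true ∧
    [3, 5].all (fun q => cwit2.any (fun w => w.getD 3 0 == q)) = true := by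
  constructor <;> decide +kernel

set_option maxHeartbeats 4000000 in
set_option maxRecDepth 100000 in
theorem creps1_ok : creps1.all (fun t => T5.all (fun l => !commB (lmul t l))) = true := by
  decide +kernel

set_option maxHeartbeats 4000000 in
set_option maxRecDepth 100000 in
theorem creps2_ok : creps2.all (fun t => T5.all (fun l => !commB (lmul t l))) = true := by
  decide +kernel

set_option maxHeartbeats 4000000 in
set_option maxRecDepth 100000 in
theorem creps1_cover : (List.range 24).all (fun q2 => [23, 0].contains q2 || corb2.contains q2 ||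
    (List.range 24).all (fun q4 => [23, 0, q2, r2B.getD q2 0].contains q4 ||
      creps1.any (fun t => t.getD 23 0 == 23 && t.getD 0 0 == 0 && t.getD 1 0 == q2 &&
        t.getD 2 0 == r2B.getD q2 0 && t.getD 3 0 == q4))) = true := by
  decide +kernel

set_option maxHeartbeats 4000000 in
set_option maxRecDepth 100000 in
theorem creps2_cover : (List.range 24).all (fun q4 => [23, 0, 1, 2, 3, 5].contains q4 ||
      creps2.any (fun t => t.getD 23 0 == 23 && t.getD 0 0 == 0 && t.getD 1 0 == 1 &&
        t.getD 2 0 == 2 && t.getD 3 0 == q4)) = true := by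
  decide +kernel

set_option maxHeartbeats 4000000 in
set_option maxRecDepth 100000 in
theorem cfix3_ok : T5.all (fun l => !commB l || cfix3.contains l) = true ∧
    cfix3.all (fun l => T5.contains l && commB l) = true ∧ cfix3.Nodup := by
  refine ⟨?_, ?_, ?_⟩ <;> decide +kernel

theorem T5_fixes : T5.all (fun l => fixesAll l [23, 0, 1, 2, 3]) = true := by decide +kernel

/-! ### the chain of stabilizers -/

/-- the orbit of the point `1` under the stabilizer of `∞` in the centralizer -/
def orb2F : Finset GolayPt := (corb2.map pt).toFinset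

theorem card_orb2F : orb2F.card = 20 := by decide

theorem corb2_compl : ∀ p : GolayPt, p ∉ orb2F → idx p ∈ [23, 0, 14, 17] := by decide

theorem idx_ne_of_ne {x : GolayPt} {j : ℕ} (h : x ≠ pt j) : idx x ≠ j :=
  fun e => h (by rw [← e, pt_idx])

theorem centM_comm_apply {t g : Equiv.Perm GolayPt} (hg : g ∈ centM t) (p : GolayPt) :
    g (t p) = t (g p) := by
  have := congrArg (fun f : Equiv.Perm GolayPt => f p) hg.2
  simpa using this


section chain

variable {t : Equiv.Perm GolayPt} (ht : ⇑t = lfun r2B)

include ht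

theorem t_apply_pt {i : ℕ} (hi : i < 24) : t (pt i) = pt (r2B.getD i 0) := by
  rw [ht, lfun_pt r2B hi]

theorem exists_of_cwit {w : List ℕ} (hw : w ∈ cwit0 ++ cwit1 ++ cwit2) :
    ∃ g ∈ centM t, ⇑g = lfun w ∧ wf w = true := by
  have hmem : w ∈ centAll := by
    simp only [centAll, List.mem_append] at hw ⊢
    rcases hw with (hw | hw) | hw
    · exact Or.inl (Or.inl (Or.inl (Or.inl hw)))
    · exact Or.inl (Or.inl (Or.inl (Or.inr hw)))
    · exact Or.inl (Or.inl (Or.inr hw))
  obtain ⟨ww, g, hg, hgf⟩ := rep_centAll w hmem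
  have hc := List.all_eq_true.mp cwit_ok w hw
  exact ⟨g, ⟨hg, (commB_iff ww hgf ht).mpr hc⟩, hgf, ww⟩

theorem cent_level0 :
    Nat.card (centM t) = 24 * Nat.card (fixL (centM t) [pt 23]) := by
  have h := card_fixL_step (centM t) [] (pt 23) Finset.univ (by
    intro q _
    have hq := List.all_eq_true.mp cwit0_cover (idx q) (List.mem_range.mpr (idx_lt q))
    rw [List.any_eq_true] at hq
    obtain ⟨w, hw, hwq⟩ := hq
    rw [beq_iff_eq] at hwq
    obtain ⟨g, hg, hgf, -⟩ := exists_of_cwit ht (w := w) (by simp [hw])
    refine ⟨g, by rw [fixL_nil]; exact hg, ?_⟩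
    rw [hgf, lfun_pt w (by norm_num), hwq, pt_idx]) (fun g _ => Finset.mem_univ _)
  rw [fixL_nil] at h
  rw [h]
  simp [GolayPt]

theorem cent_level1 :
    Nat.card (fixL (centM t) [pt 23]) = 20 * Nat.card (fixL (centM t) [pt 23, pt 1]) := by
  have h := card_fixL_step (centM t) [pt 23] (pt 1) orb2F (by
    intro q hq
    rw [orb2F, List.mem_toFinset, List.mem_map] at hq
    obtain ⟨n, hn, rfl⟩ := hq
    have hq := List.all_eq_true.mp cwit1_cover.2 n hn
    rw [List.any_eq_true] at hq
    obtain ⟨w, hw, hwq⟩ := hq
    rw [beq_iff_eq] at hwq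
    have hw23 := List.all_eq_true.mp cwit1_cover.1 w hw
    rw [beq_iff_eq] at hw23
    obtain ⟨g, hg, hgf, -⟩ := exists_of_cwit ht (w := w) (by simp [hw])
    refine ⟨g, ?_, ?_⟩
    · rw [mem_fixL]
      refine ⟨hg, ?_⟩
      intro x hx
      rw [List.mem_singleton] at hx
      subst hx
      rw [hgf, lfun_pt w (by norm_num), hw23]
    · rw [hgf, lfun_pt w (by norm_num), hwq]) (by
    intro g hg
    obtain ⟨hgH, hfix⟩ := mem_fixL.mp hg
    have h23 : g (pt 23) = pt 23 := hfix _ (by simp)
    have h0 : g (pt 0) = pt 0 := by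
      have := centM_comm_apply hgH (pt 23)
      rw [t_apply_pt ht (by norm_num), h23, t_apply_pt ht (by norm_num)] at this
      exact this
    by_contra hcon
    have hq2 := corb2_compl _ hcon
    have hq2lt := idx_lt (g (pt 1))
    have h2 : g (pt 2) = pt (r2B.getD (idx (g (pt 1))) 0) := by
      have := centM_comm_apply hgH (pt 1)
      rw [t_apply_pt ht (by norm_num)] at this
      rw [show r2B.getD 1 0 = 2 from rfl] at this
      rw [this, ← t_apply_pt ht hq2lt, pt_idx]
    have hq2' : ¬ ([23, 0].contains (idx (g (pt 1))) = true) := by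
      simp only [List.contains_eq_mem, List.mem_cons, List.not_mem_nil, or_false,
        decide_eq_true_eq, not_or]
      refine ⟨idx_ne_of_ne ?_, idx_ne_of_ne ?_⟩
      · rw [← h23]; exact g.injective.ne (by decide)
      · rw [← h0]; exact g.injective.ne (by decide)
    have hq2'' : ¬ (corb2.contains (idx (g (pt 1))) = true) := by
      intro hmem
      apply hcon
      rw [orb2F, List.mem_toFinset, List.mem_map]
      exact ⟨idx (g (pt 1)), by simpa using hmem, pt_idx _⟩
    have hq4' : ¬ ([23, 0, idx (g (pt 1)), r2B.getD (idx (g (pt 1))) 0].contains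
        (idx (g (pt 3))) = true) := by
      simp only [List.contains_eq_mem, List.mem_cons, List.not_mem_nil, or_false,
        decide_eq_true_eq, not_or]
      refine ⟨idx_ne_of_ne ?_, idx_ne_of_ne ?_, ?_, idx_ne_of_ne ?_⟩
      · rw [← h23]; exact g.injective.ne (by decide)
      · rw [← h0]; exact g.injective.ne (by decide)
      · intro e
        have := idx_injective e
        exact absurd (g.injective this) (by decide)
      · rw [← h2]; exact g.injective.ne (by decide)
    have hc := List.all_eq_true.mp creps1_cover (idx (g (pt 1))) (List.mem_range.mpr hq2lt)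
    rw [Bool.or_eq_true, Bool.or_eq_true] at hc
    have hc := hc.resolve_left (fun h => h.elim hq2' hq2'')
    have hc2 := List.all_eq_true.mp hc (idx (g (pt 3))) (List.mem_range.mpr (idx_lt _))
    rw [Bool.or_eq_true] at hc2
    have hc2 := hc2.resolve_left hq4'
    rw [List.any_eq_true] at hc2
    obtain ⟨t', ht', hagree⟩ := hc2
    simp only [Bool.and_eq_true, beq_iff_eq] at hagree
    obtain ⟨⟨⟨⟨a23, a0⟩, a1⟩, a2⟩, a3⟩ := hagree
    have hrep : Rep M24 t' := rep_centAll t' (by
      simp only [centAll, List.mem_append]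
      exact Or.inl (Or.inr ht'))
    obtain ⟨l, hl, hlf⟩ := coset_nf hrep hgH.1 (by
      intro b hb
      simp only [List.mem_cons, List.not_mem_nil, or_false] at hb
      rcases hb with rfl | rfl | rfl | rfl | rfl
      · rw [h23, a23]
      · rw [h0, a0]
      · rw [a1, pt_idx]
      · rw [h2, a2]
      · rw [a3, pt_idx])
    have hwm : wf (lmul t' l) = true := wf_lmul hrep.1 (rep_T5 l hl).1
    have hcm := (commB_iff hwm hlf ht).mp hgH.2
    have hno := List.all_eq_true.mp (List.all_eq_true.mp creps1_ok t' ht') l hl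
    rw [hcm] at hno
    simp at hno)
  rw [h, card_orb2F]
  rfl

theorem cent_level2 :
    Nat.card (fixL (centM t) [pt 23, pt 1]) =
      2 * Nat.card (fixL (centM t) [pt 23, pt 1, pt 3]) := by
  have h := card_fixL_step (centM t) [pt 23, pt 1] (pt 3) {pt 3, pt 5} (by
    intro q hq
    have hq' : ∃ n ∈ [3, 5], q = pt n := by
      rw [Finset.mem_insert, Finset.mem_singleton] at hq
      rcases hq with rfl | rfl
      · exact ⟨3, by simp, rfl⟩
      · exact ⟨5, by simp, rfl⟩
    obtain ⟨n, hn, rfl⟩ := hq'
    have hq := List.all_eq_true.mp cwit2_cover.2 n hn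
    rw [List.any_eq_true] at hq
    obtain ⟨w, hw, hwq⟩ := hq
    rw [beq_iff_eq] at hwq
    have hw23 := List.all_eq_true.mp cwit2_cover.1 w hw
    rw [Bool.and_eq_true, beq_iff_eq, beq_iff_eq] at hw23
    obtain ⟨g, hg, hgf, -⟩ := exists_of_cwit ht (w := w) (by simp [hw])
    refine ⟨g, ?_, ?_⟩
    · rw [mem_fixL]
      refine ⟨hg, ?_⟩
      intro x hx
      simp only [List.mem_cons, List.not_mem_nil, or_false] at hx
      rcases hx with rfl | rfl
      · rw [hgf, lfun_pt w (by norm_num), hw23.1]
      · rw [hgf, lfun_pt w (by norm_num), hw23.2]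
    · rw [hgf, lfun_pt w (by norm_num), hwq]) (by
    intro g hg
    obtain ⟨hgH, hfix⟩ := mem_fixL.mp hg
    have h23 : g (pt 23) = pt 23 := hfix _ (by simp)
    have h1 : g (pt 1) = pt 1 := hfix _ (by simp)
    have h0 : g (pt 0) = pt 0 := by
      have := centM_comm_apply hgH (pt 23)
      rw [t_apply_pt ht (by norm_num), h23, t_apply_pt ht (by norm_num)] at this
      exact this
    have h2 : g (pt 2) = pt 2 := by
      have := centM_comm_apply hgH (pt 1)
      rw [t_apply_pt ht (by norm_num), h1, t_apply_pt ht (by norm_num)] at this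
      exact this
    by_contra hcon
    rw [Finset.mem_insert, Finset.mem_singleton, not_or] at hcon
    have hq4' : ¬ ([23, 0, 1, 2, 3, 5].contains (idx (g (pt 3))) = true) := by
      simp only [List.contains_eq_mem, List.mem_cons, List.not_mem_nil, or_false,
        decide_eq_true_eq, not_or]
      refine ⟨idx_ne_of_ne ?_, idx_ne_of_ne ?_, idx_ne_of_ne ?_, idx_ne_of_ne ?_,
        idx_ne_of_ne hcon.1, idx_ne_of_ne hcon.2⟩
      · rw [← h23]; exact g.injective.ne (by decide)
      · rw [← h0]; exact g.injective.ne (by decide)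
      · rw [← h1]; exact g.injective.ne (by decide)
      · rw [← h2]; exact g.injective.ne (by decide)
    have hc2 := List.all_eq_true.mp creps2_cover (idx (g (pt 3))) (List.mem_range.mpr (idx_lt _))
    rw [Bool.or_eq_true] at hc2
    have hc2 := hc2.resolve_left hq4'
    rw [List.any_eq_true] at hc2
    obtain ⟨t', ht', hagree⟩ := hc2
    simp only [Bool.and_eq_true, beq_iff_eq] at hagree
    obtain ⟨⟨⟨⟨a23, a0⟩, a1⟩, a2⟩, a3⟩ := hagree
    have hrep : Rep M24 t' := rep_centAll t' (by
      simp only [centAll, List.mem_append]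
      exact Or.inr ht')
    obtain ⟨l, hl, hlf⟩ := coset_nf hrep hgH.1 (by
      intro b hb
      simp only [List.mem_cons, List.not_mem_nil, or_false] at hb
      rcases hb with rfl | rfl | rfl | rfl | rfl
      · rw [h23, a23]
      · rw [h0, a0]
      · rw [h1, a1]
      · rw [h2, a2]
      · rw [a3, pt_idx])
    have hwm : wf (lmul t' l) = true := wf_lmul hrep.1 (rep_T5 l hl).1
    have hcm := (commB_iff hwm hlf ht).mp hgH.2
    have hno := List.all_eq_true.mp (List.all_eq_true.mp creps2_ok t' ht') l hl
    rw [hcm] at hno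
    simp at hno)
  rw [h]
  have : ({pt 3, pt 5} : Finset GolayPt).card = 2 := by decide
  rw [this]
  rfl

theorem cent_level3 : Nat.card (fixL (centM t) [pt 23, pt 1, pt 3]) = 8 := by
  have h := card_of_list (fixL (centM t) [pt 23, pt 1, pt 3]) cfix3 cfix3_ok.2.2 (by
    intro l hl
    have := List.all_eq_true.mp cfix3_ok.2.1 l hl
    rw [Bool.and_eq_true] at this
    exact (rep_T5 l (by simpa using this.1)).1) (by
    intro g hg
    obtain ⟨hgH, hfix⟩ := mem_fixL.mp hg
    have h23 : g (pt 23) = pt 23 := hfix _ (by simp)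
    have h1 : g (pt 1) = pt 1 := hfix _ (by simp)
    have h3 : g (pt 3) = pt 3 := hfix _ (by simp)
    have h0 : g (pt 0) = pt 0 := by
      have := centM_comm_apply hgH (pt 23)
      rw [t_apply_pt ht (by norm_num), h23, t_apply_pt ht (by norm_num)] at this
      exact this
    have h2 : g (pt 2) = pt 2 := by
      have := centM_comm_apply hgH (pt 1)
      rw [t_apply_pt ht (by norm_num), h1, t_apply_pt ht (by norm_num)] at this
      exact this
    have hg5 : g ∈ fixL M24 (Lk 5) := by
      rw [mem_fixL]
      refine ⟨hgH.1, ?_⟩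
      have hL : Lk 5 = [pt 23, pt 0, pt 1, pt 2, pt 3] := by decide
      intro x hx
      rw [hL] at hx
      simp only [List.mem_cons, List.not_mem_nil, or_false] at hx
      rcases hx with rfl | rfl | rfl | rfl | rfl <;> assumption
    obtain ⟨l, hl, hlf⟩ := exists_T5_of_fixL hg5
    have hcm := (commB_iff (rep_T5 l hl).1 hlf ht).mp hgH.2
    have := List.all_eq_true.mp cfix3_ok.1 l hl
    rw [hcm] at this
    exact ⟨l, by simpa using this, hlf⟩) (by
    intro l hl
    have := List.all_eq_true.mp cfix3_ok.2.1 l hl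
    rw [Bool.and_eq_true] at this
    have hl5 : l ∈ T5 := by simpa using this.1
    obtain ⟨wl, g, hg, hgf⟩ := rep_T5 l hl5
    have hfx := List.all_eq_true.mp T5_fixes l hl5
    rw [fixesAll, List.all_eq_true] at hfx
    refine ⟨g, ?_, hgf⟩
    rw [mem_fixL]
    refine ⟨⟨hg, (commB_iff wl hgf ht).mpr this.2⟩, ?_⟩
    intro x hx
    simp only [List.mem_cons, List.not_mem_nil, or_false] at hx
    rcases hx with rfl | rfl | rfl
    · have := hfx 23 (by simp)
      rw [beq_iff_eq] at this
      rw [hgf, lfun_pt l (by norm_num), this]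
    · have := hfx 1 (by simp)
      rw [beq_iff_eq] at this
      rw [hgf, lfun_pt l (by norm_num), this]
    · have := hfx 3 (by simp)
      rw [beq_iff_eq] at this
      rw [hgf, lfun_pt l (by norm_num), this])
  rw [h]
  rfl

/-- **The centralizer of the reference fixed-point-free involution has order 7680.** -/
theorem card_centM_ref : Nat.card (centM t) = 7680 := by
  rw [cent_level0 ht, cent_level1 ht, cent_level2 ht, cent_level3 ht]

end chain

end Cfsg.Agent.Lib.Helper6.Golay
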