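import Cfsg.Agent.Lib.Helper6.GolayBasic

/-!
# The length-24 code as an explicit list of 4096 masks
-/

set_option autoImplicit false

namespace Cfsg.Agent.Lib.Helper6.Golay

open Cfsg

/-- masks of the 23 generator words `qrWord t`. -/
def qrMasks : List ℕ := [340831, 681662, 1363324, 2726648, 5453296, 2517985, 5035970, 1683333, 3366666, 6733332, 5078057, 1767507, 3535014, 7070028, 5751449, 3114291, 6228582, 4068557, 8137114, 7885621, 7382635, 6376663, 4364719]

theorem qrWord_eq_aux : ∀ (t : ZMod 23) (p : GolayPt), qrWord t p = dec (qrMasks.getD t.val 0) p := by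
  decide +kernel

theorem qrWord_eq (t : ZMod 23) : qrWord t = dec (qrMasks.getD t.val 0) :=
  funext (qrWord_eq_aux t)

/-- a systematic basis (pivots at bits 0..11), all of weight 8. -/
def basis : List ℕ := [13062145, 4845570, 13938692, 7221256, 10170384, 11952160, 15515712, 2019456, 4038912, 8077824, 11654144, 14919680]

/-- xor of the members of `bs` selected by the bits `i, i+1, …` of `m`. -/
def comboAux : List ℕ → ℕ → ℕ → ℕ
  | [], _, _ => 0
  | b :: bs, i, m => (if m.testBit i then b else 0) ^^^ comboAux bs (i + 1) m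

/-- the codeword mask with information bits `m`. -/
def combo (m : ℕ) : ℕ := comboAux basis 0 m

theorem comboAux_xor (bs : List ℕ) (i a b : ℕ) :
    comboAux bs i (a ^^^ b) = comboAux bs i a ^^^ comboAux bs i b := by
  induction bs generalizing i with
  | nil => simp [comboAux]
  | cons x xs ih =>
    simp only [comboAux, ih, Nat.testBit_xor]
    cases a.testBit i <;> cases b.testBit i <;>
      simp [Nat.xor_assoc, Nat.xor_comm, Nat.xor_left_comm]

theorem combo_xor (a b : ℕ) : combo (a ^^^ b) = combo a ^^^ combo b := comboAux_xor _ _ _ _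

theorem combo_zero : combo 0 = 0 := by decide

/-- generic bounded check -/
def allBelow (f : ℕ → Bool) : ℕ → Bool
  | 0 => true
  | k + 1 => f k && allBelow f k

theorem allBelow_spec (f : ℕ → Bool) (n : ℕ) (h : allBelow f n = true) : ∀ m < n, f m = true := by
  induction n with
  | zero => intro m hm; omega
  | succ k ih =>
    simp only [allBelow, Bool.and_eq_true] at h
    intro m hm
    rcases Nat.lt_succ_iff_lt_or_eq.mp hm with h1 | h1
    · exact ih h.2 m h1
    · rw [h1]; exact h.1

theorem combo_mod_aux : allBelow (fun m => combo m % 4096 == m && decide (combo m < 2 ^ 24)) 4096 = true := by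
  decide +kernel

theorem combo_mod (m : ℕ) (hm : m < 4096) : combo m % 4096 = m := by
  have := allBelow_spec _ _ combo_mod_aux m hm
  simp only [Bool.and_eq_true, beq_iff_eq, decide_eq_true_eq] at this
  exact this.1

theorem combo_lt (m : ℕ) (hm : m < 4096) : combo m < 2 ^ 24 := by
  have := allBelow_spec _ _ combo_mod_aux m hm
  simp only [Bool.and_eq_true, beq_iff_eq, decide_eq_true_eq] at this
  exact this.2

theorem combo_injOn {a b : ℕ} (ha : a < 4096) (hb : b < 4096) (h : combo a = combo b) : a = b := by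
  rw [← combo_mod a ha, ← combo_mod b hb, h]

/-- `n` is the mask of a codeword. -/
def inCode (n : ℕ) : Bool := n < 2 ^ 24 && combo (n % 4096) == n

theorem inCode_iff (n : ℕ) : inCode n = true ↔ ∃ m < 4096, n = combo m := by
  constructor
  · intro h
    simp only [inCode, Bool.and_eq_true, decide_eq_true_eq, beq_iff_eq] at h
    exact ⟨n % 4096, Nat.mod_lt _ (by norm_num), h.2.symm⟩
  · rintro ⟨m, hm, rfl⟩
    simp only [inCode, Bool.and_eq_true, decide_eq_true_eq, beq_iff_eq]
    exact ⟨combo_lt m hm, by rw [combo_mod m hm]⟩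

theorem inCode_xor {a b : ℕ} (ha : inCode a = true) (hb : inCode b = true) : inCode (a ^^^ b) = true := by
  rw [inCode_iff] at *
  obtain ⟨m, hm, rfl⟩ := ha
  obtain ⟨k, hk, rfl⟩ := hb
  exact ⟨m ^^^ k, Nat.xor_lt_two_pow (n := 12) hm hk, (combo_xor m k).symm⟩

/-! ### the span -/

/-- certificates: each basis mask is a xor of generator masks (index 23 = all-ones word). -/
def certs : List (List ℕ) := [[0, 3, 5, 7, 9, 10, 23], [3, 4, 8], [0, 3, 4, 7, 10, 23], [3, 4, 5, 6, 8, 10], [1, 3, 4, 5, 7, 9, 10, 23], [0, 1, 2, 4, 7, 8, 9, 10, 23], [0, 2, 3, 6, 7, 8, 10, 23], [4, 6, 7, 8, 9, 10], [0, 1, 6, 8, 10], [0, 2, 5, 6], [0, 1, 5, 6, 9, 10, 23], [0, 2, 5, 9, 10, 23]]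

/-- all 24 generator masks. -/
def genMasks : List ℕ := qrMasks ++ [2 ^ 24 - 1]

theorem dec_genMask_mem (i : ℕ) (hi : i < 24) : dec (genMasks.getD i 0) ∈ golayCode := by
  apply Submodule.subset_span
  rcases Nat.lt_succ_iff_lt_or_eq.mp hi with h | h
  · left
    refine ⟨(i : ZMod 23), ?_⟩
    rw [qrWord_eq, ZMod.val_natCast, Nat.mod_eq_of_lt h]
    congr 1
    simp only [genMasks]
    rw [List.getD_append _ _ _ _ (by simpa [qrMasks] using h)]
  · right
    rw [h]
    show dec (2 ^ 24 - 1) = 1
    exact dec_ones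

theorem xorList_mem (l : List ℕ) (h : ∀ i ∈ l, i < 24) :
    dec ((l.map (fun i => genMasks.getD i 0)).foldr (· ^^^ ·) 0) ∈ golayCode := by
  induction l with
  | nil => simp only [List.map_nil, List.foldr_nil]; rw [dec_zero]; exact Submodule.zero_mem _
  | cons a l ih =>
    simp only [List.map_cons, List.foldr_cons]
    rw [dec_xor]
    exact Submodule.add_mem _ (dec_genMask_mem a (h a (List.mem_cons_self))) (ih (fun i hi => h i (List.mem_cons_of_mem _ hi)))

theorem certs_ok : (certs.map (fun l => (l.map (fun i => genMasks.getD i 0)).foldr (· ^^^ ·) 0)) = basis := by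
  decide +kernel

theorem certs_lt : ∀ l ∈ certs, ∀ i ∈ l, i < 24 := by decide

theorem dec_basis_mem : ∀ b ∈ basis, dec b ∈ golayCode := by
  intro b hb
  rw [← certs_ok, List.mem_map] at hb
  obtain ⟨l, hl, rfl⟩ := hb
  exact xorList_mem l (certs_lt l hl)

theorem dec_comboAux_mem (bs : List ℕ) (h : ∀ b ∈ bs, dec b ∈ golayCode) (i m : ℕ) :
    dec (comboAux bs i m) ∈ golayCode := by
  induction bs generalizing i with
  | nil => simp only [comboAux]; rw [dec_zero]; exact Submodule.zero_mem _
  | cons x xs ih =>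
    simp only [comboAux]
    rw [dec_xor]
    refine Submodule.add_mem _ ?_ (ih (fun b hb => h b (List.mem_cons_of_mem _ hb)) _)
    split_ifs
    · exact h x (List.mem_cons_self)
    · rw [dec_zero]; exact Submodule.zero_mem _

theorem dec_combo_mem (m : ℕ) : dec (combo m) ∈ golayCode :=
  dec_comboAux_mem basis dec_basis_mem 0 m

theorem genMasks_inCode : ∀ g ∈ genMasks, inCode g = true := by decide +kernel

/-- the submodule of decoded codeword masks -/
def codeSub : Submodule (ZMod 2) (GolayPt → ZMod 2) where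
  carrier := {w | ∃ n, inCode n = true ∧ w = dec n}
  zero_mem' := ⟨0, by decide, dec_zero.symm⟩
  add_mem' := by
    rintro _ _ ⟨a, ha, rfl⟩ ⟨b, hb, rfl⟩
    exact ⟨a ^^^ b, inCode_xor ha hb, (dec_xor a b).symm⟩
  smul_mem' := by
    rintro c _ ⟨a, ha, rfl⟩
    have hc : c = 0 ∨ c = 1 := by revert c; decide
    rcases hc with rfl | rfl
    · exact ⟨0, by decide, by rw [zero_smul, dec_zero]⟩
    · exact ⟨a, ha, by rw [one_smul]⟩

theorem golayCode_le_codeSub : golayCode ≤ codeSub := by
  apply Submodule.span_le.mpr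
  rintro w (⟨t, rfl⟩ | hw)
  · refine ⟨qrMasks.getD t.val 0, ?_, qrWord_eq t⟩
    apply genMasks_inCode
    have ht : t.val < 23 := ZMod.val_lt t
    have : qrMasks.getD t.val 0 = genMasks.getD t.val 0 := by
      simp only [genMasks]
      rw [List.getD_append _ _ _ _ (by simpa [qrMasks] using ht)]
    rw [this, List.getD_eq_getElem _ _ (by simp [genMasks, qrMasks]; omega)]
    exact List.getElem_mem _
  · rw [Set.mem_singleton_iff] at hw
    refine ⟨2 ^ 24 - 1, by decide +kernel, ?_⟩
    rw [hw, dec_ones]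

/-- **Membership in the code**: the words of the code are exactly the `dec (combo m)`, `m < 4096`. -/
theorem mem_golayCode_iff (w : GolayPt → ZMod 2) :
    w ∈ golayCode ↔ ∃ m < 4096, w = dec (combo m) := by
  constructor
  · intro hw
    obtain ⟨n, hn, rfl⟩ := golayCode_le_codeSub hw
    obtain ⟨m, hm, rfl⟩ := (inCode_iff n).mp hn
    exact ⟨m, hm, rfl⟩
  · rintro ⟨m, _, rfl⟩
    exact dec_combo_mem m

theorem mem_golayCode_iff' (w : GolayPt → ZMod 2) :
    w ∈ golayCode ↔ ∃ n, inCode n = true ∧ w = dec n := by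
  rw [mem_golayCode_iff]
  constructor
  · rintro ⟨m, hm, rfl⟩
    exact ⟨combo m, (inCode_iff _).mpr ⟨m, hm, rfl⟩, rfl⟩
  · rintro ⟨n, hn, rfl⟩
    obtain ⟨m, hm, rfl⟩ := (inCode_iff n).mp hn
    exact ⟨m, hm, rfl⟩

theorem dec_mem_golayCode_iff (n : ℕ) (hn : n < 2 ^ 24) : dec n ∈ golayCode ↔ inCode n = true := by
  rw [mem_golayCode_iff']
  constructor
  · rintro ⟨k, hk, h⟩
    have hk' : k < 2 ^ 24 := by
      simp only [inCode, Bool.and_eq_true, decide_eq_true_eq] at hk
      exact hk.1
    rw [(dec_eq_iff hn hk').mp h]; exact hk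
  · intro h; exact ⟨n, h, rfl⟩

end Cfsg.Agent.Lib.Helper6.Golay
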