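import Cfsg.Agent.Lib.Helper6.GolayCoset

/-!
# The punctured Golay code of length 23 is a perfect 3-error-correcting code
-/

set_option autoImplicit false

namespace Cfsg.Agent.Lib.Helper6.Golay

open Cfsg
open Cfsg.Agent.Lib.Helper6.PermChain
open Cfsg.Agent.Lib.Helper6.Leech
open scoped Pointwise

/-- the tetrads of a sextet cover the 24 points -/
theorem sextet_cover {S : Finset (Finset GolayPt)} (hS : S ∈ sextets) (p : GolayPt) :
    ∃ t ∈ S, p ∈ t := by
  have hdisj : ∀ t ∈ S, ∀ u ∈ S, t ≠ u → Disjoint (id t) (id u) := by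
    intro t ht u hu hne
    have hoct := hS.2.2 t ht u hu hne
    have h4t := hS.2.1 t ht
    have h4u := hS.2.1 u hu
    show Disjoint t u
    rw [Finset.disjoint_iff_inter_eq_empty, ← Finset.card_eq_zero]
    have := Finset.card_union_add_card_inter t u
    have := hoct.2
    omega
  have hcard : (S.biUnion id).card = 24 := by
    have h4 : ∀ u ∈ S, (id u).card = 4 := fun t ht => hS.2.1 t ht
    rw [Finset.card_biUnion hdisj, Finset.sum_congr rfl h4, Finset.sum_const, hS.1]; rfl
  have huniv : S.biUnion id = Finset.univ := by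
    apply Finset.eq_of_subset_of_card_le (Finset.subset_univ _)
    rw [hcard]
    simp [GolayPt]
  have : p ∈ S.biUnion id := by rw [huniv]; exact Finset.mem_univ p
  rw [Finset.mem_biUnion] at this
  exact this

/-- all tetrads of the sextet through a weight-4 leader are leaders of the same coset -/
theorem sextet_leaders {W s0 : Finset GolayPt} (hs0C : IsC (symmDiff W s0))
    {S : Finset (Finset GolayPt)} (hS : S ∈ sextets) (hs0S : s0 ∈ S) {t : Finset GolayPt}
    (ht : t ∈ S) : IsC (symmDiff W t) := by
  by_cases hts : t = s0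
  · rw [hts]; exact hs0C
  · have hoct := hS.2.2 s0 hs0S t ht (Ne.symm hts)
    have ht4 : t.card = 4 := hS.2.1 t ht
    have hs4 : s0.card = 4 := hS.2.1 s0 hs0S
    have hdisj : Disjoint s0 t := by
      rw [Finset.disjoint_iff_inter_eq_empty, ← Finset.card_eq_zero]
      have := Finset.card_union_add_card_inter s0 t
      have := hoct.2
      omega
    have e : symmDiff W t = symmDiff (symmDiff W s0) (symmDiff s0 t) := by
      ext x
      simp only [Finset.mem_symmDiff]
      tauto
    rw [e]
    apply hs0C.symmDiff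
    rw [Disjoint.symmDiff_eq_sup hdisj]
    exact hoct.1

/-- every coset has a leader that has weight at most 3 or contains a prescribed point -/
theorem exists_leader_through (W : Finset GolayPt) (p : GolayPt) :
    ∃ s : Finset GolayPt, IsC (symmDiff W s) ∧ (s.card ≤ 3 ∨ (s.card = 4 ∧ p ∈ s)) := by
  obtain ⟨s0, hs04, hs0C⟩ := exists_leader W
  by_cases h3 : s0.card ≤ 3
  · exact ⟨s0, hs0C, Or.inl h3⟩
  · have hs0 : s0.card = 4 := by omega
    obtain ⟨S, ⟨hS, hs0S⟩, -⟩ := existsUnique_sextet hs0
    obtain ⟨t, ht, hpt⟩ := sextet_cover hS p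
    exact ⟨t, sextet_leaders hs0C hS hs0S ht, Or.inr ⟨hS.2.1 t ht, hpt⟩⟩

/-- the punctured code of length 23 -/
def punctured : Set (ZMod 23 → ZMod 2) :=
  {u | ∃ w ∈ golayCode, ∀ x : ZMod 23, u x = w (some x)}

/-- extension of a word of length 23 by a zero at the extra point -/
def ext0 (u : ZMod 23 → ZMod 2) : GolayPt → ZMod 2
  | none => 0
  | some x => u x

theorem card_filter_some_le (s : Finset GolayPt) :
    (Finset.univ.filter (fun x : ZMod 23 => some x ∈ s)).card ≤ (s.erase none).card := by
  have : (Finset.univ.filter (fun x : ZMod 23 => some x ∈ s)).image some ⊆ s.erase none := by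
    intro q hq
    rw [Finset.mem_image] at hq
    obtain ⟨x, hx, rfl⟩ := hq
    rw [Finset.mem_filter] at hx
    exact Finset.mem_erase.mpr ⟨by simp, hx.2⟩
  have h1 := Finset.card_le_card this
  rwa [Finset.card_image_of_injective _ (Option.some_injective _)] at h1

theorem exists_punctured_near (u : ZMod 23 → ZMod 2) :
    ∃ c ∈ punctured, hammingDist u c ≤ 3 := by
  obtain ⟨s, hsC, hs⟩ := exists_leader_through (support₂ (ext0 u)) none
  have hv : support₂ (dec (maskOf s)) = s := by rw [support₂_dec, fs_maskOf]
  have hmem : ext0 u - dec (maskOf s) ∈ golayCode := by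
    rw [sub_mem_golayCode_iff, hv]; exact hsC
  refine ⟨fun x => (ext0 u - dec (maskOf s)) (some x), ⟨_, hmem, fun x => rfl⟩, ?_⟩
  have hsub : (Finset.univ.filter (fun x : ZMod 23 => u x ≠ (ext0 u - dec (maskOf s)) (some x))) ⊆
      Finset.univ.filter (fun x : ZMod 23 => some x ∈ s) := by
    intro x hx
    rw [Finset.mem_filter] at hx ⊢
    refine ⟨Finset.mem_univ _, ?_⟩
    rw [← hv]
    simp only [support₂, Finset.mem_filter, Finset.mem_univ, true_and]
    intro h0
    apply hx.2
    rw [Pi.sub_apply, h0, sub_zero]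
    rfl
  have h1 := (Finset.card_le_card hsub).trans (card_filter_some_le s)
  have h2 : (s.erase none).card ≤ 3 := by
    rcases hs with h3 | ⟨h4, hn⟩
    · exact (Finset.card_le_card (Finset.erase_subset _ _)).trans h3
    · rw [Finset.card_erase_of_mem hn, h4]
  exact h1.trans h2

theorem hammingNorm_le_of_punctured {w : GolayPt → ZMod 2} :
    hammingNorm w ≤ 1 + (Finset.univ.filter (fun x : ZMod 23 => w (some x) ≠ 0)).card := by
  have hsub : (Finset.univ.filter (fun p : GolayPt => w p ≠ 0)) ⊆
      insert none ((Finset.univ.filter (fun x : ZMod 23 => w (some x) ≠ 0)).image some) := by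
    intro p hp
    rw [Finset.mem_filter] at hp
    cases p with
    | none => exact Finset.mem_insert_self _ _
    | some x =>
      apply Finset.mem_insert_of_mem
      exact Finset.mem_image.mpr ⟨x, Finset.mem_filter.mpr ⟨Finset.mem_univ _, hp.2⟩, rfl⟩
  have h1 := Finset.card_le_card hsub
  have h2 := Finset.card_insert_le none
    ((Finset.univ.filter (fun x : ZMod 23 => w (some x) ≠ 0)).image some)
  rw [Finset.card_image_of_injective _ (Option.some_injective _)] at h2
  have : hammingNorm w = (Finset.univ.filter (fun p : GolayPt => w p ≠ 0)).card := rfl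
  omega

/-- **The punctured code is perfect.** -/
theorem existsUnique_punctured_near (u : ZMod 23 → ZMod 2) :
    ∃! c : ZMod 23 → ZMod 2, c ∈ punctured ∧ hammingDist u c ≤ 3 := by
  obtain ⟨c, hc, hd⟩ := exists_punctured_near u
  refine ⟨c, ⟨hc, hd⟩, ?_⟩
  rintro c' ⟨hc', hd'⟩
  obtain ⟨w, hw, hcw⟩ := hc
  obtain ⟨w', hw', hcw'⟩ := hc'
  have htri := hammingDist_triangle c' u c
  rw [hammingDist_comm c' u] at htri
  have hdist : hammingDist c' c ≤ 6 := by omega
  have hww : w' - w ∈ golayCode := golayCode.sub_mem hw' hw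
  have hnorm : hammingNorm (w' - w) ≤ 7 := by
    have h1 := hammingNorm_le_of_punctured (w := w' - w)
    have h2 : (Finset.univ.filter (fun x : ZMod 23 => (w' - w) (some x) ≠ 0)) =
        Finset.univ.filter (fun x : ZMod 23 => c' x ≠ c x) := by
      apply Finset.filter_congr
      intro x _
      rw [Pi.sub_apply, hcw x, hcw' x, sub_ne_zero]
    rw [h2] at h1
    have : hammingDist c' c = (Finset.univ.filter (fun x : ZMod 23 => c' x ≠ c x)).card := rfl
    omega
  have hzero : w' - w = 0 := by
    by_contra hne
    have := eight_le_hammingNorm _ hww hne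
    omega
  funext x
  rw [hcw x, hcw' x, sub_eq_zero.mp hzero]

end Cfsg.Agent.Lib.Helper6.Golay
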