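import Cfsg.Agent.Lib.Helper6.GolayIrred
import Cfsg.Agent.Lib.Helper6.GolayCoset

/-!
# The invariant subspaces of the permutation module of `M24` over the field with two elements
-/

set_option autoImplicit false

namespace Cfsg.Agent.Lib.Helper6.Golay

open Cfsg
open Cfsg.Agent.Lib.Helper6.Leech (IsC)
open scoped Pointwise

/-- the word with a given support -/
def ind (s : Finset GolayPt) : GolayPt → ZMod 2 := dec (maskOf s)

theorem support₂_ind (s : Finset GolayPt) : support₂ (ind s) = s := by
  rw [ind, support₂_dec, fs_maskOf]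

theorem ind_support₂ (w : GolayPt → ZMod 2) : ind (support₂ w) = w :=
  support₂_injective (support₂_ind _)

theorem add_self_word (w : GolayPt → ZMod 2) : w + w = 0 := by
  funext p
  simp only [Pi.add_apply, Pi.zero_apply]
  exact CharTwo.add_self_eq_zero (w p)

theorem support₂_zero : support₂ (0 : GolayPt → ZMod 2) = ∅ := by
  ext p; simp [support₂]

theorem support₂_one : support₂ (fun _ : GolayPt => (1 : ZMod 2)) = Finset.univ := by
  ext p; simp [support₂]

theorem support₂_add_one (w : GolayPt → ZMod 2) :
    support₂ (w + fun _ => (1 : ZMod 2)) = (support₂ w)ᶜ := by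
  ext p
  simp only [support₂, Finset.mem_filter, Finset.mem_univ, true_and, Pi.add_apply,
    Finset.mem_compl, not_not]
  generalize w p = c
  revert c
  decide

theorem smul_compl_submod (g : Equiv.Perm GolayPt) (s : Finset GolayPt) : g • sᶜ = (g • s)ᶜ := by
  rw [Finset.compl_eq_univ_sdiff, Finset.compl_eq_univ_sdiff, Finset.smul_finset_sdiff,
    Finset.smul_finset_univ]

/-- `M24` is transitive on the sets of a given size at most five -/
theorem exists_M24_finset {s t : Finset GolayPt} (h : s.card = t.card) (h5 : s.card ≤ 5) :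
    ∃ g ∈ M24, g • s = t := by
  obtain ⟨x, hx⟩ := exists_embedding_of_card (s := s) (n := s.card) rfl
  obtain ⟨y, hy⟩ := exists_embedding_of_card (s := t) (n := s.card) h.symm
  obtain ⟨g, hg, hgxy⟩ := exists_M24_map h5 x y
  refine ⟨g, hg, ?_⟩
  apply Finset.eq_of_subset_of_card_le
  · intro p hp
    rw [Finset.mem_smul_finset] at hp
    obtain ⟨q, hq, rfl⟩ := hp
    obtain ⟨i, rfl⟩ := (hx q).mp hq
    rw [Equiv.Perm.smul_def, hgxy i]
    exact (hy _).mpr ⟨i, rfl⟩
  · rw [Finset.card_smul_finset, h]

section
variable (W : Submodule (ZMod 2) (GolayPt → ZMod 2))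
  (hinv : ∀ σ ∈ M24, ∀ w ∈ W, (fun p => w (σ.symm p)) ∈ W)
include hinv

theorem submod_mem_of_card {w v : GolayPt → ZMod 2} (hw : w ∈ W)
    (h : (support₂ w).card = (support₂ v).card) (h5 : (support₂ w).card ≤ 5) : v ∈ W := by
  obtain ⟨g, hg, hgs⟩ := exists_M24_finset h h5
  exact irred_mem_of_orbit W hinv hw hg hgs

theorem submod_mem_of_card_compl {w v : GolayPt → ZMod 2} (hw : w ∈ W)
    (h : (support₂ w)ᶜ.card = (support₂ v)ᶜ.card) (h5 : (support₂ w)ᶜ.card ≤ 5) : v ∈ W := by
  obtain ⟨g, hg, hgs⟩ := exists_M24_finset h h5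
  refine irred_mem_of_orbit W hinv hw hg ?_
  have := smul_compl_submod g (support₂ w)ᶜ
  rw [compl_compl, hgs, compl_compl] at this
  exact this

/-- a word of weight 16 in an invariant subspace of the code -/
theorem irred_of_sixteen {w : GolayPt → ZMod 2} (hw : w ∈ W) (hwC : w ∈ golayCode)
    (h16 : (support₂ w).card = 16) : golayCode ≤ W := by
  have hoc : (support₂ w)ᶜ ∈ octads := by
    refine ⟨(show IsC (support₂ w) from ⟨w, hwC, rfl⟩).compl, ?_⟩
    rw [Finset.card_compl, h16]; decide
  have hca : inCode 1302533 = true := by decide +kernel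
  have hcb : inCode 13062145 = true := by decide +kernel
  have hcc : inCode 13938692 = true := by decide +kernel
  have hoa : fs 1302533 ∈ octads := fs_mem_octads hca (by decide +kernel)
  have hob : fs 13062145 ∈ octads := fs_mem_octads hcb (by decide +kernel)
  have hoc' : fs 13938692 ∈ octads := fs_mem_octads hcc (by decide +kernel)
  obtain ⟨g1, hg1, h1⟩ := exists_M24_octad hoc hoa
  obtain ⟨g2, hg2, h2⟩ := exists_M24_octad hoc hob
  have e1 : g1 • support₂ w = support₂ (dec 15474682) := by
    rw [← compl_compl (support₂ w), smul_compl_submod, h1, support₂_dec, ← fs_compl]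
    rfl
  have e2 : g2 • support₂ w = support₂ (dec 3715070) := by
    rw [← compl_compl (support₂ w), smul_compl_submod, h2, support₂_dec, ← fs_compl]
    rfl
  have m1 : dec 15474682 ∈ W := irred_mem_of_orbit W hinv hw hg1 e1
  have m2 : dec 3715070 ∈ W := irred_mem_of_orbit W hinv hw hg2 e2
  have m3 : dec 13938692 ∈ W := by
    have : (13938692 : ℕ) = 15474682 ^^^ 3715070 := by decide +kernel
    rw [this, dec_xor]
    exact W.add_mem m1 m2
  exact irred_of_octad W hinv m3 (by rw [support₂_dec]; exact hoc')

/-- an invariant subspace of the code is trivial, spanned by the all-ones word, or the code -/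
theorem submod_sub_code (hW : W ≤ golayCode) :
    (∀ w ∈ W, w = 0 ∨ w = fun _ => (1 : ZMod 2)) ∨ golayCode ≤ W := by
  by_cases hall : ∀ w ∈ W, w = 0 ∨ w = fun _ => (1 : ZMod 2)
  · exact Or.inl hall
  · right
    push Not at hall
    obtain ⟨w, hw, hw0, hw1⟩ := hall
    have hwC := hW hw
    have hsup : support₂ w ∈ supports (golayCode : Set (GolayPt → ZMod 2)) := ⟨w, hwC, rfl⟩
    rcases hammingNorm_mem w hwC with h | h | h | h | h
    · exfalso
      apply hw0
      apply support₂_injective
      rw [support₂_zero]
      exact Finset.card_eq_zero.mp (by rw [card_support₂, h])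
    · exact irred_of_octad W hinv hw ⟨hsup, by rw [card_support₂, h]⟩
    · exact irred_of_dodecad W hinv hw ⟨hsup, by rw [card_support₂, h]⟩
    · exact irred_of_sixteen W hinv hw hwC (by rw [card_support₂, h])
    · exfalso
      apply hw1
      apply support₂_injective
      rw [support₂_one]
      apply Finset.eq_univ_of_card
      rw [card_support₂, h]
      decide


omit hinv in
theorem symmDiff_insert_insert {a b : GolayPt} {t : Finset GolayPt} (hab : a ≠ b) (ha : a ∉ t)
    (hb : b ∉ t) : symmDiff (insert a t) (insert b t) = {a, b} := by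
  ext p
  simp only [Finset.mem_symmDiff, Finset.mem_insert, Finset.mem_singleton]
  constructor
  · rintro (⟨h1 | h1, h2⟩ | ⟨h1 | h1, h2⟩)
    · exact Or.inl h1
    · exact absurd (Or.inr h1) h2
    · exact Or.inr h1
    · exact absurd (Or.inr h1) h2
  · rintro (rfl | rfl)
    · left
      refine ⟨Or.inl rfl, ?_⟩
      rintro (h | h)
      · exact hab h
      · exact ha h
    · right
      refine ⟨Or.inl rfl, ?_⟩
      rintro (h | h)
      · exact hab h.symm
      · exact hb h

/-- a word of weight between 1 and 4 generates all words of weight 2 -/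
theorem pairs_of_small {l : GolayPt → ZMod 2} (hl : l ∈ W) (h1 : 1 ≤ (support₂ l).card)
    (h4 : (support₂ l).card ≤ 4) (a b : GolayPt) (hab : a ≠ b) : ind {a, b} ∈ W := by
  have hc : (support₂ l).card - 1 ≤ (({a, b} : Finset GolayPt)ᶜ).card := by
    rw [Finset.card_compl, Finset.card_pair hab]
    have : Fintype.card GolayPt = 24 := by decide
    omega
  obtain ⟨t, ht, htc⟩ := Finset.exists_subset_card_eq hc
  have hat : a ∉ t := fun h => by
    have := ht h
    simp at this
  have hbt : b ∉ t := fun h => by
    have := ht h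
    simp at this
  have m1 : ind (insert a t) ∈ W := by
    apply submod_mem_of_card W hinv hl _ (by omega)
    rw [support₂_ind, Finset.card_insert_of_notMem hat, htc]; omega
  have m2 : ind (insert b t) ∈ W := by
    apply submod_mem_of_card W hinv hl _ (by omega)
    rw [support₂_ind, Finset.card_insert_of_notMem hbt, htc]; omega
  have e : ind {a, b} = ind (insert a t) + ind (insert b t) := by
    apply support₂_injective
    rw [support₂_add, support₂_ind, support₂_ind, support₂_ind, symmDiff_insert_insert hab hat hbt]
  rw [e]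
  exact W.add_mem m1 m2

omit hinv in
/-- the words of weight 2 generate the words of even weight -/
theorem even_of_pairs (hp : ∀ a b : GolayPt, a ≠ b → ind {a, b} ∈ W) :
    ∀ n : ℕ, ∀ w : GolayPt → ZMod 2, (support₂ w).card = 2 * n → w ∈ W := by
  intro n
  induction n with
  | zero =>
    intro w hw
    have : w = 0 := by
      apply support₂_injective
      rw [support₂_zero]
      exact Finset.card_eq_zero.mp (by omega)
    rw [this]
    exact W.zero_mem
  | succ n ih =>
    intro w hw
    obtain ⟨a, ha⟩ : (support₂ w).Nonempty := Finset.card_pos.mp (by omega)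
    obtain ⟨b, hb⟩ : ((support₂ w).erase a).Nonempty := Finset.card_pos.mp (by
      rw [Finset.card_erase_of_mem ha]; omega)
    have hba : b ≠ a := Finset.ne_of_mem_erase hb
    have hbw : b ∈ support₂ w := Finset.mem_of_mem_erase hb
    have h1 : w + ind {a, b} ∈ W := by
      apply ih
      rw [support₂_add, support₂_ind]
      have h2 := card_symmDiff_add (support₂ w) {a, b}
      have h3 : support₂ w ∩ {a, b} = {a, b} := by
        apply Finset.inter_eq_right.mpr
        intro p hp
        simp only [Finset.mem_insert, Finset.mem_singleton] at hp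
        rcases hp with rfl | rfl
        · exact ha
        · exact hbw
      rw [h3, Finset.card_pair hba.symm] at h2
      omega
    have e : w = (w + ind {a, b}) + ind {a, b} := by
      rw [add_assoc, add_self_word, add_zero]
    rw [e]
    exact W.add_mem h1 (hp a b hba.symm)


omit hinv in
/-- four-point transitivity with explicit points -/
theorem exists_M24_four {a b p q r : GolayPt} (hab : a ≠ b) (hpa : p ≠ a) (hpb : p ≠ b)
    (hqa : q ≠ a) (hqb : q ≠ b) (hqp : q ≠ p) (hra : r ≠ a) (hrb : r ≠ b) (hrp : r ≠ p) :
    ∃ σ ∈ M24, σ a = a ∧ σ b = b ∧ σ p = p ∧ σ q = r := by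
  let x : Fin 4 ↪ GolayPt := ⟨![a, b, p, q], by
    intro i j hij
    fin_cases i <;> fin_cases j <;> simp_all [Ne.symm]⟩
  let y : Fin 4 ↪ GolayPt := ⟨![a, b, p, r], by
    intro i j hij
    fin_cases i <;> fin_cases j <;> simp_all [Ne.symm]⟩
  obtain ⟨σ, hσ, hxy⟩ := exists_M24_map (by norm_num : 4 ≤ 5) x y
  exact ⟨σ, hσ, hxy 0, hxy 1, hxy 2, hxy 3⟩

omit hinv in
/-- a codeword whose images under the stabilizer of two points are itself or its complement is
zero or the all-ones word -/
theorem code_zero_or_one {c : GolayPt → ZMod 2} (hc : c ∈ golayCode) {a b : GolayPt} (hab : a ≠ b)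
    (h : ∀ σ ∈ M24, σ a = a → σ b = b →
      c ∘ σ.symm = c ∨ c ∘ σ.symm = c + fun _ => (1 : ZMod 2)) :
    c = 0 ∨ c = fun _ => (1 : ZMod 2) := by
  have h24 : Fintype.card GolayPt = 24 := by decide
  rcases hammingNorm_mem c hc with h0 | hmid
  · left
    apply support₂_injective
    rw [support₂_zero]
    exact Finset.card_eq_zero.mp (by rw [card_support₂, h0])
  by_cases h24' : hammingNorm c = 24
  · right
    apply support₂_injective
    rw [support₂_one]
    apply Finset.eq_univ_of_card
    rw [card_support₂, h24', h24]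
  exfalso
  have h8 : 8 ≤ (support₂ c).card ∧ (support₂ c).card ≤ 16 := by
    rw [card_support₂]; omega
  have hpq : 1 < (support₂ c \ {a, b}).card := by
    have := Finset.le_card_sdiff ({a, b} : Finset GolayPt) (support₂ c)
    have h2 : ({a, b} : Finset GolayPt).card = 2 := Finset.card_pair hab
    omega
  obtain ⟨p, hp, q, hq, hpq'⟩ := Finset.one_lt_card.mp hpq
  have hr : 0 < ((support₂ c)ᶜ \ {a, b}).card := by
    have := Finset.le_card_sdiff ({a, b} : Finset GolayPt) (support₂ c)ᶜ
    have h2 : ({a, b} : Finset GolayPt).card = 2 := Finset.card_pair hab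
    rw [Finset.card_compl, h24] at this
    omega
  obtain ⟨r, hr⟩ := Finset.card_pos.mp hr
  simp only [Finset.mem_sdiff, Finset.mem_insert, Finset.mem_singleton, not_or,
    Finset.mem_compl] at hp hq hr
  have hrp : r ≠ p := fun h' => hr.1 (h' ▸ hp.1)
  obtain ⟨σ, hσ, hσa, hσb, hσp, hσq⟩ := exists_M24_four hab hp.2.1 hp.2.2 hq.2.1 hq.2.2
    (Ne.symm hpq') hr.2.1 hr.2.2 hrp
  have hp' : p ∈ σ • support₂ c := by
    rw [← hσp, ← Equiv.Perm.smul_def]; exact Finset.smul_mem_smul_finset hp.1
  have hr' : r ∈ σ • support₂ c := by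
    rw [← hσq, ← Equiv.Perm.smul_def]; exact Finset.smul_mem_smul_finset hq.1
  rw [smul_support₂] at hp' hr'
  rcases h σ hσ hσa hσb with h' | h'
  · rw [h'] at hr'
    exact hr.1 hr'
  · rw [h', support₂_add_one, Finset.mem_compl] at hp'
    exact hp' hp.1

omit hinv in
theorem ind_comp_of_fix {a b : GolayPt} {σ : Equiv.Perm GolayPt} (ha : σ a = a) (hb : σ b = b) :
    ind {a, b} ∘ σ.symm = ind {a, b} := by
  apply support₂_injective
  rw [← smul_support₂, support₂_ind, Finset.smul_finset_insert, Finset.smul_finset_singleton,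
    Equiv.Perm.smul_def, Equiv.Perm.smul_def, ha, hb]

omit hinv in
theorem mem_golayCode_of_isC {w : GolayPt → ZMod 2} (h : IsC (support₂ w)) : w ∈ golayCode := by
  obtain ⟨c, hc, hcw⟩ := h
  rw [← support₂_injective hcw]
  exact hc

/-- an invariant subspace not inside the code contains the words of weight 2 -/
theorem pairs_of_not_le (hne : ¬ W ≤ golayCode) (a b : GolayPt) (hab : a ≠ b) :
    ind {a, b} ∈ W := by
  obtain ⟨s, hsW, hsC⟩ : ∃ s ∈ W, s ∉ golayCode := by
    by_contra hcon
    push Not at hcon
    exact hne hcon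
  obtain ⟨l0, hl4, hlC⟩ := exists_leader (support₂ s)
  have hl0 : 1 ≤ l0.card := by
    rw [Nat.one_le_iff_ne_zero]
    intro h0
    rw [Finset.card_eq_zero.mp h0, ← Finset.bot_eq_empty, symmDiff_bot] at hlC
    exact hsC (mem_golayCode_of_isC hlC)
  -- the sum with the code
  have hV : ∀ σ ∈ M24, ∀ w ∈ W ⊔ golayCode, (fun p => w (σ.symm p)) ∈ W ⊔ golayCode := by
    intro σ hσ w hw
    obtain ⟨y, hy, z, hz, rfl⟩ := Submodule.mem_sup.mp hw
    exact Submodule.mem_sup.mpr ⟨_, hinv σ hσ y hy, _, forall_of_mem_M24 σ hσ z hz, rfl⟩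
  have hlV : ind l0 ∈ W ⊔ golayCode := by
    refine Submodule.mem_sup.mpr ⟨s, hsW, s + ind l0, ?_, ?_⟩
    · apply mem_golayCode_of_isC
      rw [support₂_add, support₂_ind]
      exact hlC
    · rw [← add_assoc, add_self_word, zero_add]
  have hpairV := pairs_of_small (W ⊔ golayCode) hV hlV (by rw [support₂_ind]; exact hl0)
    (by rw [support₂_ind]; exact hl4) a b hab
  obtain ⟨x, hx, c, hc, hxc⟩ := Submodule.mem_sup.mp hpairV
  have hx' : x = ind {a, b} + c := by
    rw [← hxc, add_assoc, add_self_word, add_zero]
  by_cases hcase : ∀ u ∈ W, u ∈ golayCode → u = 0 ∨ u = fun _ => (1 : ZMod 2)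
  · have hc01 : c = 0 ∨ c = fun _ => (1 : ZMod 2) := by
      apply code_zero_or_one hc hab
      intro σ hσ hσa hσb
      have h1 : x ∘ σ.symm + x ∈ W := W.add_mem (hinv σ hσ x hx) hx
      have h2 : x ∘ σ.symm + x = c ∘ σ.symm + c := by
        rw [hx', comp_symm_add, ind_comp_of_fix hσa hσb]
        funext p
        simp only [Pi.add_apply]
        have := CharTwo.add_self_eq_zero (ind {a, b} p)
        linear_combination this
      have h3 : c ∘ σ.symm + c ∈ golayCode := golayCode.add_mem (forall_of_mem_M24 σ hσ c hc) hc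
      rw [h2] at h1
      rcases hcase _ h1 h3 with h | h
      · left
        calc c ∘ σ.symm = (c ∘ σ.symm + c) + c := by rw [add_assoc, add_self_word, add_zero]
          _ = c := by rw [h, zero_add]
      · right
        calc c ∘ σ.symm = (c ∘ σ.symm + c) + c := by rw [add_assoc, add_self_word, add_zero]
          _ = c + fun _ => (1 : ZMod 2) := by rw [h, add_comm]
    rcases hc01 with rfl | rfl
    · rw [add_zero] at hx'
      rw [← hx']; exact hx
    · -- the complement of a pair
      obtain ⟨d, hd⟩ : ∃ d : GolayPt, d ∉ ({a, b} : Finset GolayPt) := by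
        by_contra hall
        push Not at hall
        have : (Finset.univ : Finset GolayPt) ⊆ {a, b} := fun x _ => hall x
        have := Finset.card_le_card this
        rw [Finset.card_univ, Finset.card_pair hab] at this
        have h24 : Fintype.card GolayPt = 24 := by decide
        omega
      simp only [Finset.mem_insert, Finset.mem_singleton, not_or] at hd
      have hsx : support₂ x = ({a, b} : Finset GolayPt)ᶜ := by
        rw [hx', support₂_add_one, support₂_ind]
      have m1 : ind ({a, d} : Finset GolayPt)ᶜ ∈ W := by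
        apply submod_mem_of_card_compl W hinv hx
        · rw [hsx, support₂_ind, compl_compl, compl_compl, Finset.card_pair hab,
            Finset.card_pair (Ne.symm hd.1)]
        · rw [hsx, compl_compl, Finset.card_pair hab]; norm_num
      have m2 : ind ({b, d} : Finset GolayPt)ᶜ ∈ W := by
        apply submod_mem_of_card_compl W hinv hx
        · rw [hsx, support₂_ind, compl_compl, compl_compl, Finset.card_pair hab,
            Finset.card_pair (Ne.symm hd.2)]
        · rw [hsx, compl_compl, Finset.card_pair hab]; norm_num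
      have e : ind {a, b} = ind ({a, d} : Finset GolayPt)ᶜ + ind ({b, d} : Finset GolayPt)ᶜ := by
        apply support₂_injective
        rw [support₂_add, support₂_ind, support₂_ind, support₂_ind, compl_symmDiff_compl]
        have := symmDiff_insert_insert (a := a) (b := b) (t := {d}) hab
          (by simpa using Ne.symm hd.1) (by simpa using Ne.symm hd.2)
        exact this.symm
      rw [e]
      exact W.add_mem m1 m2
  · push Not at hcase
    obtain ⟨u, huW, huC, hu0, hu1⟩ := hcase
    have hinv' : ∀ σ ∈ M24, ∀ w ∈ W ⊓ golayCode, (fun p => w (σ.symm p)) ∈ W ⊓ golayCode := by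
      intro σ hσ w hw
      exact ⟨hinv σ hσ w hw.1, forall_of_mem_M24 σ hσ w hw.2⟩
    rcases submod_sub_code (W ⊓ golayCode) hinv' inf_le_right with h | h
    · rcases h u ⟨huW, huC⟩ with h' | h'
      · exact absurd h' hu0
      · exact absurd h' hu1
    · rw [← hxc]
      exact W.add_mem hx (h hc).1

end

theorem sum_eq_card_support₂ (w : GolayPt → ZMod 2) :
    ∑ p, w p = ((support₂ w).card : ZMod 2) := by
  have h : ∀ p, w p = if p ∈ support₂ w then 1 else 0 := by
    intro p
    simp only [support₂, Finset.mem_filter, Finset.mem_univ, true_and]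
    generalize w p = c
    revert c
    decide
  rw [Finset.sum_congr rfl (fun p _ => h p), Finset.sum_boole]
  congr 2
  ext p
  simp

/-- **The invariant subspaces of the permutation module.** -/
theorem submod_main (W : Submodule (ZMod 2) (GolayPt → ZMod 2))
    (hinv : ∀ σ ∈ M24, ∀ w ∈ W, (fun p => w (σ.symm p)) ∈ W) :
    W = ⊥ ∨ W = Submodule.span (ZMod 2) {fun _ => (1 : ZMod 2)} ∨ W = golayCode ∨
      (W : Set (GolayPt → ZMod 2)) = {w | ∑ p, w p = 0} ∨ W = ⊤ := by
  by_cases hle : W ≤ golayCode
  · rcases submod_sub_code W hinv hle with h | h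
    · by_cases h1 : (fun _ => (1 : ZMod 2)) ∈ W
      · right; left
        apply le_antisymm
        · intro w hw
          rcases h w hw with rfl | rfl
          · exact Submodule.zero_mem _
          · exact Submodule.subset_span rfl
        · rw [Submodule.span_le]
          rintro _ rfl
          exact h1
      · left
        rw [eq_bot_iff]
        intro w hw
        rcases h w hw with rfl | rfl
        · exact Submodule.zero_mem _
        · exact absurd hw h1
    · right; right; left
      exact le_antisymm hle h
  · right; right; right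
    have hp := pairs_of_not_le W hinv hle
    have heven : ∀ w : GolayPt → ZMod 2, ∑ p, w p = 0 → w ∈ W := by
      intro w hw
      rw [sum_eq_card_support₂, ZMod.natCast_eq_zero_iff] at hw
      obtain ⟨n, hn⟩ := hw
      exact even_of_pairs W hp n w hn
    by_cases hall : ∀ w ∈ W, ∑ p, w p = 0
    · left
      ext w
      exact ⟨fun hw => hall w hw, fun hw => heven w hw⟩
    · right
      push Not at hall
      obtain ⟨w0, hw0, hs0⟩ := hall
      rw [eq_top_iff]
      intro v _
      by_cases hv : ∑ p, v p = 0
      · exact heven v hv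
      · have h1 : ∀ c : ZMod 2, c ≠ 0 → c = 1 := by decide
        have hsum : ∑ p, (v + w0) p = 0 := by
          simp only [Pi.add_apply, Finset.sum_add_distrib]
          rw [h1 _ hv, h1 _ hs0]
          decide
        have := W.add_mem (heven _ hsum) hw0
        rwa [add_assoc, add_self_word, add_zero] at this

end Cfsg.Agent.Lib.Helper6.Golay
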