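import Cfsg.Agent.Lib.Helper6.GolayMixedD
import Cfsg.Agent.Lib.Helper6.GolayPerfect
import Cfsg.Agent.Lib.Helper6.GolayRankGlue
import Cfsg.Agent.Lib.Helper6.GolayM12b
import Cfsg.Agent.Lib.Helper6.GolaySubmod

/-!
# The stabilizer of a codeword fixes no nonzero coset of the code
-/

set_option autoImplicit false

namespace Cfsg.Agent.Lib.Helper6.Golay

open Cfsg
open Cfsg.Agent.Lib.Helper6.Leech (IsC)
open scoped Pointwise

theorem isC_smul_fix {s : Finset GolayPt} (hs : IsC s) {t : Equiv.Perm GolayPt} (ht : t ∈ M24) :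
    IsC (t • s) := by
  have h : t • supports (golayCode : Set (GolayPt → ZMod 2)) =
      supports (golayCode : Set (GolayPt → ZMod 2)) := MulAction.mem_stabilizer_iff.mp ht
  have := Set.smul_mem_smul_set (a := t) hs
  rwa [h] at this

theorem symmDiff_four (A B L L' : Finset GolayPt) :
    symmDiff L L' = symmDiff (symmDiff A B) (symmDiff (symmDiff A L') (symmDiff B L)) := by
  ext x
  simp only [Finset.mem_symmDiff]
  tauto

theorem smul_symmDiff_fix (σ : Equiv.Perm GolayPt) (s t : Finset GolayPt) :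
    σ • symmDiff s t = symmDiff (σ • s) (σ • t) := by
  rw [Finset.symmDiff_def, Finset.symmDiff_def, Finset.smul_finset_union,
    Finset.smul_finset_sdiff, Finset.smul_finset_sdiff]

/-- a tetrad completing a tetrad of a sextet to an octad belongs to the sextet -/
theorem mem_sextet_of_octad {X : Finset (Finset GolayPt)} (hX : X ∈ sextets) {l l' : Finset GolayPt}
    (hl : l ∈ X) (hd : Disjoint l l') (ho : l ∪ l' ∈ octads) : l' ∈ X := by
  have hl4 : l.card = 4 := hX.2.1 l hl
  have hl'4 : l'.card = 4 := by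
    have := Finset.card_union_of_disjoint hd
    rw [ho.2] at this
    omega
  obtain ⟨p, hp⟩ : l'.Nonempty := Finset.card_pos.mp (by omega)
  obtain ⟨t, ht, hpt⟩ := sextet_cover hX p
  have hpl : p ∉ l := fun h => (Finset.disjoint_left.mp hd h) hp
  have htl : l ≠ t := fun h => hpl (h ▸ hpt)
  have hot := hX.2.2 l hl t ht htl
  have ht4 : t.card = 4 := hX.2.1 t ht
  have hdt : Disjoint l t := by
    rw [Finset.disjoint_iff_inter_eq_empty, ← Finset.card_eq_zero]
    have := Finset.card_union_add_card_inter l t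
    have := hot.2
    omega
  have heq : l ∪ t = l ∪ l' := by
    apply octad_unique hot ho (s := insert p l)
    · rw [Finset.card_insert_of_notMem hpl, hl4]
    · intro x hx
      rcases Finset.mem_insert.mp hx with rfl | hx
      · exact Finset.mem_union_right _ hpt
      · exact Finset.mem_union_left _ hx
    · intro x hx
      rcases Finset.mem_insert.mp hx with rfl | hx
      · exact Finset.mem_union_right _ hp
      · exact Finset.mem_union_left _ hx
  have e1 : t = (l ∪ t) \ l := (Finset.union_sdiff_cancel_left hdt).symm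
  have e2 : l' = (l ∪ l') \ l := (Finset.union_sdiff_cancel_left hd).symm
  rw [e2, ← heq, ← e1]
  exact ht

/-- the criterion: a subgroup moving every small set and every sextet fixes no nonzero coset -/
theorem exists_move_coset (H : Subgroup (Equiv.Perm GolayPt)) (hH : H ≤ M24)
    (P1 : ∀ l : Finset GolayPt, 1 ≤ l.card → l.card ≤ 3 → ∃ σ ∈ H, σ • l ≠ l)
    (P2 : ∀ X ∈ sextets, ∃ σ ∈ H, σ • X ≠ X)
    (w : GolayPt → ZMod 2) (hw : w ∉ golayCode) :
    ∃ σ ∈ H, (fun p => w (σ.symm p)) - w ∉ golayCode := by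
  obtain ⟨l, hl4, hlC⟩ := exists_leader (support₂ w)
  have hl0 : 1 ≤ l.card := by
    rw [Nat.one_le_iff_ne_zero]
    intro h0
    rw [Finset.card_eq_zero.mp h0, ← Finset.bot_eq_empty, symmDiff_bot] at hlC
    exact hw (mem_golayCode_of_isC hlC)
  -- reduction to the leader
  have hred : ∀ σ ∈ H, (fun p => w (σ.symm p)) - w ∈ golayCode → IsC (symmDiff l (σ • l)) := by
    intro σ hσ hmem
    have h1 : IsC (symmDiff (support₂ (w ∘ σ.symm)) (support₂ w)) :=
      (sub_mem_golayCode_iff _ _).mp hmem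
    rw [← smul_support₂] at h1
    have h2 : IsC (σ • symmDiff (support₂ w) l) := isC_smul_fix hlC (hH hσ)
    have e : symmDiff l (σ • l) = symmDiff (symmDiff (σ • support₂ w) (support₂ w))
        (symmDiff (σ • symmDiff (support₂ w) l) (symmDiff (support₂ w) l)) := by
      rw [smul_symmDiff_fix]
      exact symmDiff_four _ _ _ _
    rw [e]
    exact h1.symmDiff (h2.symmDiff hlC)
  by_cases h3 : l.card ≤ 3
  · obtain ⟨σ, hσ, hne⟩ := P1 l hl0 h3
    refine ⟨σ, hσ, fun hmem => ?_⟩
    have hC := hred σ hσ hmem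
    have := leaders_disjoint (W := l) (s := l) (t := σ • l) hl4
      (by rw [Finset.card_smul_finset]; exact hl4) (by rw [symmDiff_self]; exact Leech.isC_empty) hC
      (Ne.symm hne)
    omega
  · have hl4' : l.card = 4 := by omega
    obtain ⟨X, ⟨hX, hlX⟩, huniq⟩ := existsUnique_sextet hl4'
    obtain ⟨σ, hσ, hne⟩ := P2 X hX
    refine ⟨σ, hσ, fun hmem => ?_⟩
    have hC := hred σ hσ hmem
    have hσX : σ • X ∈ sextets := smul_mem_sextets (hH hσ) hX
    have hσl : σ • l ∈ σ • X := Finset.smul_mem_smul_finset hlX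
    have hσl4 : (σ • l).card = 4 := by rw [Finset.card_smul_finset]; exact hl4'
    obtain ⟨X', _, huniq'⟩ := existsUnique_sextet hσl4
    have hmemX : σ • l ∈ X := by
      by_cases heq : σ • l = l
      · rw [heq]; exact hlX
      · have := leaders_disjoint (W := l) (s := l) (t := σ • l) hl4 (le_of_eq hσl4)
          (by rw [symmDiff_self]; exact Leech.isC_empty) hC (Ne.symm heq)
        exact mem_sextet_of_octad hX hlX this.2.2.1 this.2.2.2
    have e1 := huniq' X ⟨hX, hmemX⟩
    have e2 := huniq' (σ • X) ⟨hσX, hσl⟩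
    exact hne (e2.trans e1.symm)

/-- a group with an orbit of at least two elements moves every element of the orbit -/
theorem exists_smul_ne_of_orbit {G α : Type*} [Group G] [MulAction G α] {Y X : α}
    (hX : X ∈ MulAction.orbit G Y) (h2 : 2 ≤ (MulAction.orbit G Y).ncard) : ∃ g : G, g • X ≠ X := by
  by_contra hall
  push Not at hall
  have h1 : MulAction.orbit G Y = {X} := by
    rw [← MulAction.orbit_eq_iff.mpr hX]
    ext z
    constructor
    · rintro ⟨g, rfl⟩
      exact hall g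
    · rintro rfl
      exact MulAction.mem_orbit_self _
  rw [h1, Set.ncard_singleton] at h2
  omega

/-- transitivity of a stabilizer from a reference configuration -/
theorem trans_of_ref {R D : Finset GolayPt} {r : GolayPt} {O : Finset GolayPt}
    (h : ∀ x ∈ O, ∃ t ∈ M24, t • R = D ∧ t r = x) {x x' : GolayPt} (hx : x ∈ O) (hx' : x' ∈ O) :
    ∃ σ ∈ M24, σ • D = D ∧ σ x = x' := by
  obtain ⟨t, ht, htR, htr⟩ := h x hx
  obtain ⟨t', ht', htR', htr'⟩ := h x' hx'
  refine ⟨t' * t⁻¹, M24.mul_mem ht' (M24.inv_mem ht), ?_, ?_⟩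
  · calc (t' * t⁻¹) • D = t' • (t⁻¹ • (t • R)) := by rw [mul_smul, htR]
      _ = D := by rw [inv_smul_smul, htR']
  · rw [Equiv.Perm.mul_apply, ← htr, Equiv.Perm.inv_def, Equiv.symm_apply_apply, htr']

/-- a group transitive on a set and on its complement, both with at least 8 points, moves every
small set -/
theorem move_small_of_trans {D : Finset GolayPt} (hD8 : 8 ≤ D.card) (hD16 : D.card ≤ 16)
    (hin : ∀ x ∈ D, ∀ x' ∈ D, ∃ σ ∈ M24, σ • D = D ∧ σ x = x')
    (hout : ∀ x ∈ Dᶜ, ∀ x' ∈ Dᶜ, ∃ σ ∈ M24, σ • D = D ∧ σ x = x')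
    (l : Finset GolayPt) (hl1 : 1 ≤ l.card) (hl3 : l.card ≤ 3) :
    ∃ σ ∈ M24, σ • D = D ∧ σ • l ≠ l := by
  have h24 : Fintype.card GolayPt = 24 := by decide
  obtain ⟨a, ha⟩ : l.Nonempty := Finset.card_pos.mp (by omega)
  by_cases haD : a ∈ D
  · obtain ⟨b, hb⟩ : (D \ l).Nonempty := by
      apply Finset.card_pos.mp
      have := Finset.le_card_sdiff l D
      omega
    rw [Finset.mem_sdiff] at hb
    obtain ⟨σ, hσ, hσD, hσa⟩ := hin a haD b hb.1
    refine ⟨σ, hσ, hσD, fun h => hb.2 ?_⟩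
    rw [← h, ← hσa, ← Equiv.Perm.smul_def]
    exact Finset.smul_mem_smul_finset ha
  · obtain ⟨b, hb⟩ : (Dᶜ \ l).Nonempty := by
      apply Finset.card_pos.mp
      have := Finset.le_card_sdiff l Dᶜ
      rw [Finset.card_compl, h24] at this
      omega
    rw [Finset.mem_sdiff] at hb
    obtain ⟨σ, hσ, hσD, hσa⟩ := hout a (Finset.mem_compl.mpr haD) b hb.1
    refine ⟨σ, hσ, hσD, fun h => hb.2 ?_⟩
    rw [← h, ← hσa, ← Equiv.Perm.smul_def]
    exact Finset.smul_mem_smul_finset ha

/-- the stabilizer of a set inside `M24`, as a group of permutations -/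
def stabIn (D : Finset GolayPt) : Subgroup (Equiv.Perm GolayPt) :=
  M24 ⊓ MulAction.stabilizer (Equiv.Perm GolayPt) D

theorem mem_stabIn {D : Finset GolayPt} {σ : Equiv.Perm GolayPt} :
    σ ∈ stabIn D ↔ σ ∈ M24 ∧ σ • D = D := by
  show σ ∈ M24 ⊓ MulAction.stabilizer (Equiv.Perm GolayPt) D ↔ _
  rw [Subgroup.mem_inf]
  exact Iff.rfl

theorem octad_moves_sextet {o : Finset GolayPt} (ho : o ∈ octads) (X : Finset (Finset GolayPt))
    (hX : X ∈ sextets) : ∃ σ ∈ stabIn o, σ • X ≠ X := by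
  obtain ⟨_, Y₁, _, Y₂, _, Y₃, _, h1, h2, h3, hun⟩ := octad_stab_orbits o ho
  rw [hun] at hX
  have key : ∀ Y, X ∈ MulAction.orbit ↥(MulAction.stabilizer ↥M24 o) Y →
      2 ≤ (MulAction.orbit ↥(MulAction.stabilizer ↥M24 o) Y).ncard →
      ∃ σ ∈ stabIn o, σ • X ≠ X := by
    intro Y hXY h2
    obtain ⟨g, hg⟩ := exists_smul_ne_of_orbit hXY h2
    exact ⟨g.1.1, mem_stabIn.mpr ⟨g.1.2, g.2⟩, hg⟩
  rcases hX with (hX | hX) | hX
  · exact key _ hX (by omega)
  · exact key _ hX (by omega)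
  · exact key _ hX (by omega)

theorem compl_mem_dodecads {d : Finset GolayPt} (hd : d ∈ dodecads) : dᶜ ∈ dodecads := by
  refine ⟨(show IsC d from hd.1).compl, ?_⟩
  rw [Finset.card_compl, hd.2]; decide

theorem smul_eq_of_smul_compl_eq {σ : Equiv.Perm GolayPt} {d : Finset GolayPt}
    (h : σ • dᶜ = dᶜ) : σ • d = d := by
  rw [smul_compl_submod] at h
  exact compl_injective h

theorem dodecad_moves_sextet {d : Finset GolayPt} (hd : d ∈ dodecads)
    (X : Finset (Finset GolayPt)) (hX : X ∈ sextets) : ∃ σ ∈ stabIn d, σ • X ≠ X := by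
  by_contra hall
  push Not at hall
  obtain ⟨Y₁, _, Y₂, _, Y₃, _, h1, h2, h3, hun⟩ := dodecad_pair_orbits d hd
  have hcompl : Finset.univ \ d = dᶜ := (Finset.compl_eq_univ_sdiff d).symm
  -- elements of the stabilizer of the pair fix or swap
  have hcases : ∀ g : ↥(MulAction.stabilizer ↥M24 ({d, Finset.univ \ d} : Finset (Finset GolayPt))),
      g.1.1 • d = d ∨ g.1.1 • d = dᶜ := by
    intro g
    have hg : g.1.1 • ({d, Finset.univ \ d} : Finset (Finset GolayPt)) = {d, Finset.univ \ d} := g.2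
    have hmem : g.1.1 • d ∈ g.1.1 • ({d, Finset.univ \ d} : Finset (Finset GolayPt)) :=
      Finset.smul_mem_smul_finset (by simp)
    rw [hg] at hmem
    simp only [Finset.mem_insert, Finset.mem_singleton] at hmem
    rcases hmem with h | h
    · exact Or.inl h
    · right
      rw [← hcompl]
      exact h
  have hfix : ∀ g : ↥(MulAction.stabilizer ↥M24 ({d, Finset.univ \ d} : Finset (Finset GolayPt))),
      g.1.1 • d = d → g.1.1 • X = X := fun g hg => hall g.1.1 (mem_stabIn.mpr ⟨g.1.2, hg⟩)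
  -- the orbit of X has at most two elements
  have hle : ∀ Y, X ∈ MulAction.orbit ↥(MulAction.stabilizer ↥M24
      ({d, Finset.univ \ d} : Finset (Finset GolayPt))) Y →
      (MulAction.orbit ↥(MulAction.stabilizer ↥M24
        ({d, Finset.univ \ d} : Finset (Finset GolayPt))) Y).ncard ≤ 2 := by
    intro Y hXY
    rw [← MulAction.orbit_eq_iff.mpr hXY]
    by_cases hex : ∃ g0 : ↥(MulAction.stabilizer ↥M24
        ({d, Finset.univ \ d} : Finset (Finset GolayPt))), g0.1.1 • d = dᶜ
    · obtain ⟨g0, hg0⟩ := hex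
      have hsub : MulAction.orbit ↥(MulAction.stabilizer ↥M24
          ({d, Finset.univ \ d} : Finset (Finset GolayPt))) X ⊆ {X, g0.1.1 • X} := by
        rintro _ ⟨g, rfl⟩
        rcases hcases g with hg | hg
        · left; exact hfix g hg
        · right
          show g.1.1 • X = g0.1.1 • X
          have h4 : (g0⁻¹ * g).1.1 • d = d := by
            show (g0.1.1⁻¹ * g.1.1) • d = d
            rw [mul_smul, hg, inv_smul_eq_iff, hg0]
          have h5 := hfix (g0⁻¹ * g) h4
          have h6 : (g0.1.1⁻¹ * g.1.1) • X = X := h5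
          rw [mul_smul, inv_smul_eq_iff] at h6
          exact h6
      calc _ ≤ ({X, g0.1.1 • X} : Set (Finset (Finset GolayPt))).ncard :=
            Set.ncard_le_ncard hsub (Set.toFinite _)
        _ ≤ 2 := Set.ncard_insert_le _ _ |>.trans (by rw [Set.ncard_singleton])
    · push Not at hex
      have hsub : MulAction.orbit ↥(MulAction.stabilizer ↥M24
          ({d, Finset.univ \ d} : Finset (Finset GolayPt))) X ⊆ {X} := by
        rintro _ ⟨g, rfl⟩
        rcases hcases g with hg | hg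
        · exact hfix g hg
        · exact absurd hg (hex g)
      calc _ ≤ ({X} : Set (Finset (Finset GolayPt))).ncard :=
            Set.ncard_le_ncard hsub (Set.toFinite _)
        _ ≤ 2 := by rw [Set.ncard_singleton]; norm_num
  rw [hun] at hX
  rcases hX with (hX | hX) | hX
  · have := hle _ hX; omega
  · have := hle _ hX; omega
  · have := hle _ hX; omega

theorem coset_octad {o : Finset GolayPt} (ho : o ∈ octads) (w : GolayPt → ZMod 2)
    (hw : w ∉ golayCode) :
    ∃ σ ∈ M24, σ • o = o ∧ (fun p => w (σ.symm p)) - w ∉ golayCode := by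
  have hin : ∀ x ∈ o, ∀ x' ∈ o, ∃ σ ∈ M24, σ • o = o ∧ σ x = x' := fun x hx x' hx' =>
    trans_of_ref (R := fs octad0) (r := pt 23) (O := o)
      (fun x hx => exists_M24_octad_point_in ho hx) hx hx'
  have hout : ∀ x ∈ oᶜ, ∀ x' ∈ oᶜ, ∃ σ ∈ M24, σ • o = o ∧ σ x = x' := fun x hx x' hx' =>
    trans_of_ref (R := fs octad0) (r := pt 4) (O := oᶜ)
      (fun x hx => exists_M24_octad_point_out ho (Finset.mem_compl.mp hx)) hx hx'
  obtain ⟨σ, hσ, hmove⟩ := exists_move_coset (stabIn o) inf_le_left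
    (fun l hl1 hl3 => by
      obtain ⟨σ, hσ, hσo, hne⟩ := move_small_of_trans (by rw [ho.2]) (by rw [ho.2]; norm_num)
        hin hout l hl1 hl3
      exact ⟨σ, mem_stabIn.mpr ⟨hσ, hσo⟩, hne⟩)
    (octad_moves_sextet ho) w hw
  exact ⟨σ, (mem_stabIn.mp hσ).1, (mem_stabIn.mp hσ).2, hmove⟩

theorem coset_dodecad {d : Finset GolayPt} (hd : d ∈ dodecads) (w : GolayPt → ZMod 2)
    (hw : w ∉ golayCode) :
    ∃ σ ∈ M24, σ • d = d ∧ (fun p => w (σ.symm p)) - w ∉ golayCode := by
  have hin : ∀ x ∈ d, ∀ x' ∈ d, ∃ σ ∈ M24, σ • d = d ∧ σ x = x' := fun x hx x' hx' =>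
    trans_of_ref (R := fs dodecad0) (r := pt 0) (O := d)
      (fun x hx => exists_M24_dodecad_point hd hx) hx hx'
  have hout : ∀ x ∈ dᶜ, ∀ x' ∈ dᶜ, ∃ σ ∈ M24, σ • d = d ∧ σ x = x' := by
    intro x hx x' hx'
    obtain ⟨σ, hσ, hσd, hσx⟩ := trans_of_ref (R := fs dodecad0) (r := pt 0) (O := dᶜ)
      (fun x hx => exists_M24_dodecad_point (compl_mem_dodecads hd) hx) hx hx'
    exact ⟨σ, hσ, smul_eq_of_smul_compl_eq hσd, hσx⟩
  obtain ⟨σ, hσ, hmove⟩ := exists_move_coset (stabIn d) inf_le_left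
    (fun l hl1 hl3 => by
      obtain ⟨σ, hσ, hσo, hne⟩ := move_small_of_trans (by rw [hd.2]; norm_num)
        (by rw [hd.2]; norm_num) hin hout l hl1 hl3
      exact ⟨σ, mem_stabIn.mpr ⟨hσ, hσo⟩, hne⟩)
    (dodecad_moves_sextet hd) w hw
  exact ⟨σ, (mem_stabIn.mp hσ).1, (mem_stabIn.mp hσ).2, hmove⟩

/-- **The stabilizer of a codeword fixes no nonzero coset of the code.** -/
theorem coset_fix_main (u : GolayPt → ZMod 2) (hu : u ∈ golayCode) (w : GolayPt → ZMod 2)
    (hw : w ∉ golayCode) :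
    ∃ σ ∈ M24, (fun p => u (σ.symm p)) = u ∧ (fun p => w (σ.symm p)) - w ∉ golayCode := by
  have hsup : support₂ u ∈ supports (golayCode : Set (GolayPt → ZMod 2)) := ⟨u, hu, rfl⟩
  have hfix : ∀ σ : Equiv.Perm GolayPt, σ • support₂ u = support₂ u → (fun p => u (σ.symm p)) = u := by
    intro σ h
    apply support₂_injective
    rw [← h, smul_support₂]
    rfl
  rcases hammingNorm_mem u hu with h | h | h | h | h
  · obtain ⟨σ, hσ, _, hmove⟩ := coset_octad octad0_mem w hw
    refine ⟨σ, hσ, hfix σ ?_, hmove⟩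
    have : support₂ u = ∅ := Finset.card_eq_zero.mp (by rw [card_support₂, h])
    rw [this, Finset.smul_finset_empty]
  · obtain ⟨σ, hσ, hσo, hmove⟩ := coset_octad (o := support₂ u) ⟨hsup, by rw [card_support₂, h]⟩ w hw
    exact ⟨σ, hσ, hfix σ hσo, hmove⟩
  · obtain ⟨σ, hσ, hσo, hmove⟩ := coset_dodecad (d := support₂ u)
      ⟨hsup, by rw [card_support₂, h]⟩ w hw
    exact ⟨σ, hσ, hfix σ hσo, hmove⟩
  · have hoc : (support₂ u)ᶜ ∈ octads := by
      refine ⟨(show IsC (support₂ u) from hsup).compl, ?_⟩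
      rw [Finset.card_compl, card_support₂, h]; decide
    obtain ⟨σ, hσ, hσo, hmove⟩ := coset_octad hoc w hw
    exact ⟨σ, hσ, hfix σ (smul_eq_of_smul_compl_eq hσo), hmove⟩
  · obtain ⟨σ, hσ, _, hmove⟩ := coset_octad octad0_mem w hw
    refine ⟨σ, hσ, hfix σ ?_, hmove⟩
    have : support₂ u = Finset.univ := by
      apply Finset.eq_univ_of_card
      rw [card_support₂, h]; decide
    rw [this, Finset.smul_finset_univ]

end Cfsg.Agent.Lib.Helper6.Golay
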