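import Cfsg.Agent.Lib.Helper6.GolayDodecad

/-!
# Counting codewords with a property; transfer of counts along `M24`
-/

set_option autoImplicit false

namespace Cfsg.Agent.Lib.Helper6.Golay

open Cfsg
open scoped Pointwise

theorem fs_combo_injOn : Set.InjOn (fun m => fs (combo m)) (↑(Finset.range 4096) : Set ℕ) := by
  intro a ha b hb h
  simp only [Finset.coe_range, Set.mem_Iio] at ha hb
  exact combo_injOn ha hb (fs_injOn (combo_lt a ha) (combo_lt b hb) h)

theorem inCode_combo {m : ℕ} (hm : m < 4096) : inCode (combo m) = true :=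
  (inCode_iff _).mpr ⟨m, hm, rfl⟩

/-- counting the words of weight `k` with a property that can be tested on masks -/
theorem ncard_wordsOfWeight_filter (k : ℕ) (Q : Finset GolayPt → Prop) (P : ℕ → Bool)
    (h : ∀ n, inCode n = true → (Q (fs n) ↔ P n = true)) :
    {b | b ∈ wordsOfWeight (golayCode : Set (GolayPt → ZMod 2)) k ∧ Q b}.ncard =
      countBelow (fun m => pc 24 (combo m) == k && P (combo m)) 4096 := by
  have heq : {b | b ∈ wordsOfWeight (golayCode : Set (GolayPt → ZMod 2)) k ∧ Q b} =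
      (fun m => fs (combo m)) '' (↑((Finset.range 4096).filter
        (fun m => (pc 24 (combo m) == k && P (combo m)) = true)) : Set ℕ) := by
    ext b
    simp only [Set.mem_ofPred_eq, Set.mem_image, Finset.coe_filter, Finset.mem_range,
      Bool.and_eq_true, beq_iff_eq]
    constructor
    · rintro ⟨hb, hQ⟩
      have hb' : fs (maskOf b) ∈ wordsOfWeight (golayCode : Set (GolayPt → ZMod 2)) k := by
        rw [fs_maskOf]; exact hb
      obtain ⟨h1, h2⟩ := (fs_mem_wordsOfWeight_iff (maskOf_lt b) k).mp hb'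
      obtain ⟨m, hm, hmb⟩ := (inCode_iff _).mp h1
      refine ⟨m, ⟨hm, ?_, ?_⟩, ?_⟩
      · rw [← hmb]; exact h2
      · rw [← hmb, ← h (maskOf b) h1, fs_maskOf]; exact hQ
      · rw [← hmb, fs_maskOf]
    · rintro ⟨m, ⟨hm, h1, h2⟩, rfl⟩
      refine ⟨(fs_mem_wordsOfWeight_iff (combo_lt m hm) k).mpr ⟨inCode_combo hm, h1⟩, ?_⟩
      exact (h _ (inCode_combo hm)).mpr h2
  rw [heq, countBelow_eq_card, Set.InjOn.ncard_image, Set.ncard_coe_finset]
  apply fs_combo_injOn.mono
  intro m hm
  simp only [Finset.coe_filter, Set.mem_ofPred_eq] at hm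
  simpa using hm.1

/-- transfer of a count along an element of `M24` -/
theorem ncard_smul_transfer {g : Equiv.Perm GolayPt} (hg : g ∈ M24) (X : Set (Finset GolayPt))
    (hX : ∀ g ∈ M24, ∀ x ∈ X, g • x ∈ X) (Q Q' : Finset GolayPt → Prop)
    (hQ : ∀ x, Q' (g • x) ↔ Q x) :
    {x | x ∈ X ∧ Q' x}.ncard = {x | x ∈ X ∧ Q x}.ncard := by
  have heq : {x | x ∈ X ∧ Q' x} = (fun x => g • x) '' {x | x ∈ X ∧ Q x} := by
    ext y
    simp only [Set.mem_ofPred_eq, Set.mem_image]
    constructor
    · rintro ⟨hy, hQy⟩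
      refine ⟨g⁻¹ • y, ⟨hX _ (M24.inv_mem hg) y hy, ?_⟩, smul_inv_smul g y⟩
      rw [← hQ, smul_inv_smul]; exact hQy
    · rintro ⟨x, ⟨hx, hQx⟩, rfl⟩
      exact ⟨hX g hg x hx, (hQ x).mpr hQx⟩
  rw [heq, Set.ncard_image_of_injective _ (MulAction.injective g)]

/-- an octad meets a dodecad in 2, 4 or 6 points -/
theorem card_octad_inter_dodecad {o d : Finset GolayPt} (ho : o ∈ octads) (hd : d ∈ dodecads) :
    (o ∩ d).card = 2 ∨ (o ∩ d).card = 4 ∨ (o ∩ d).card = 6 := by
  obtain ⟨⟨v, hv, rfl⟩, hvc⟩ := ho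
  obtain ⟨⟨w, hw, rfl⟩, hwc⟩ := hd
  have hvw : v + w ∈ golayCode := Submodule.add_mem _ hv hw
  have h1 := hammingNorm_mem _ hvw
  rw [← card_support₂, support₂_add] at h1
  have h2 := card_symmDiff_add (support₂ v) (support₂ w)
  have h3 : (support₂ v ∩ support₂ w).card ≤ 8 := by
    rw [← hvc]; exact Finset.card_le_card Finset.inter_subset_left
  omega

theorem smul_inter_card (g : Equiv.Perm GolayPt) (x y : Finset GolayPt) :
    (g • x ∩ g • y).card = (x ∩ y).card := by
  rw [← Finset.smul_finset_inter, Finset.card_smul_finset]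

/-- number of words of weight `j` meeting a given dodecad in `k` points, as a computation -/
theorem ncard_inter_dodecad {d : Finset GolayPt} (hd : d ∈ dodecads) (j k : ℕ) :
    {o | o ∈ wordsOfWeight (golayCode : Set (GolayPt → ZMod 2)) j ∧ (o ∩ d).card = k}.ncard =
      countBelow (fun m => pc 24 (combo m) == j && pc 24 (combo m &&& dodecad0) == k) 4096 := by
  obtain ⟨g, hg, rfl⟩ := cwReach_dodecad hd
  rw [ncard_smul_transfer hg _ (fun g hg x hx => smul_mem_wordsOfWeight hg hx)
    (fun o => (o ∩ fs dodecad0).card = k) (fun o => (o ∩ g • fs dodecad0).card = k)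
    (fun x => by rw [smul_inter_card])]
  apply ncard_wordsOfWeight_filter j _ (fun n => pc 24 (n &&& dodecad0) == k)
  intro n _
  rw [← fs_and, card_fs, beq_iff_eq]

end Cfsg.Agent.Lib.Helper6.Golay
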