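import Cfsg.Agent.Lib.Helper6.GolayOctadOrbits

/-!
# The stabilizer of an octad is transitive on the octads meeting it in a given number of points
-/

set_option autoImplicit false

namespace Cfsg.Agent.Lib.Helper6.Golay

open Cfsg
open Cfsg.Agent.Lib.Helper6.PermChain
open scoped Pointwise

/-- two octads meet in 0, 2, 4 or 8 points -/
theorem card_octad_inter_octad {o o' : Finset GolayPt} (ho : o ∈ octads) (ho' : o' ∈ octads) :
    (o ∩ o').card = 0 ∨ (o ∩ o').card = 2 ∨ (o ∩ o').card = 4 ∨ (o ∩ o').card = 8 := by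
  obtain ⟨⟨v, hv, rfl⟩, hvc⟩ := ho
  obtain ⟨⟨w, hw, rfl⟩, hwc⟩ := ho'
  have hvw : v + w ∈ golayCode := Submodule.add_mem _ hv hw
  have h1 := hammingNorm_mem _ hvw
  rw [← card_support₂, support₂_add] at h1
  have h2 := card_symmDiff_add (support₂ v) (support₂ w)
  omega

/-- general transfer: conjugacy under the stabilizer of a set, from the reference position -/
theorem exists_stab_map_of_ref {m : ℕ} {t : Equiv.Perm GolayPt} (ht : t ∈ M24)
    {a a' : Finset GolayPt} (h : ∃ g ∈ stabM M24 [m], g • (t⁻¹ • a) = t⁻¹ • a') :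
    ∃ g ∈ M24, g • (t • fs m) = t • fs m ∧ g • a = a' := by
  obtain ⟨g0, hg0, hg0a⟩ := h
  have hg0' := mem_stabM.mp hg0
  refine ⟨t * g0 * t⁻¹, M24.mul_mem (M24.mul_mem ht hg0'.1) (M24.inv_mem ht), ?_, ?_⟩
  · rw [mul_smul, mul_smul, inv_smul_smul, hg0'.2 m (by simp)]
  · rw [mul_smul, mul_smul, hg0a, smul_inv_smul]

theorem exists_stab_octad_map {o o' o'' : Finset GolayPt} (ho : o ∈ octads) (ho' : o' ∈ octads)
    (ho'' : o'' ∈ octads) (h : (o ∩ o').card = (o ∩ o'').card) :
    ∃ g ∈ M24, g • o = o ∧ g • o' = o'' := by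
  obtain ⟨t, ht, rfl⟩ := exists_M24_octad octad0_mem ho
  have hti : t⁻¹ ∈ M24 := M24.inv_mem ht
  obtain ⟨n', hn', hw', e'⟩ := (mem_octads_iff _).mp (smul_mem_octads hti ho')
  obtain ⟨n'', hn'', hw'', e''⟩ := (mem_octads_iff _).mp (smul_mem_octads hti ho'')
  have c' : pc 24 (n' &&& octad0) = (t • fs octad0 ∩ o').card := by
    rw [← card_fs, fs_and, ← e', Finset.inter_comm, ← smul_inter_card t, smul_inv_smul]
  have c'' : pc 24 (n'' &&& octad0) = (t • fs octad0 ∩ o'').card := by
    rw [← card_fs, fs_and, ← e'', Finset.inter_comm, ← smul_inter_card t, smul_inv_smul]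
  rcases card_octad_inter_octad ho ho' with hk | hk | hk | hk
  · apply exists_stab_map_of_ref ht
    rw [e', e'']
    exact exists_stabO_map_mask hn' hn'' hw' hw'' (by rw [c', c'', h]) (by rw [c', hk]; simp)
  · apply exists_stab_map_of_ref ht
    rw [e', e'']
    exact exists_stabO_map_mask hn' hn'' hw' hw'' (by rw [c', c'', h]) (by rw [c', hk]; simp)
  · apply exists_stab_map_of_ref ht
    rw [e', e'']
    exact exists_stabO_map_mask hn' hn'' hw' hw'' (by rw [c', c'', h]) (by rw [c', hk]; simp)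
  · have e1 : t • fs octad0 ∩ o' = o' :=
      Finset.eq_of_subset_of_card_le Finset.inter_subset_right (by rw [hk, ho'.2])
    have e2 : t • fs octad0 ∩ o' = t • fs octad0 :=
      Finset.eq_of_subset_of_card_le Finset.inter_subset_left (by rw [hk, ho.2])
    rw [h] at hk
    have e3 : t • fs octad0 ∩ o'' = o'' :=
      Finset.eq_of_subset_of_card_le Finset.inter_subset_right (by rw [hk, ho''.2])
    have e4 : t • fs octad0 ∩ o'' = t • fs octad0 :=
      Finset.eq_of_subset_of_card_le Finset.inter_subset_left (by rw [hk, ho.2])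
    refine ⟨1, M24.one_mem, one_smul _ _, ?_⟩
    rw [one_smul, ← e1, e2, ← e4, e3]

end Cfsg.Agent.Lib.Helper6.Golay
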