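import Cfsg.Agent.Lib.Helper6.GolayDodecadOrbits
import Cfsg.Agent.Lib.Helper6.GolayOctadOrbits2

/-!
# The stabilizer of a dodecad is transitive on the dodecads meeting it in a given number of points
-/

set_option autoImplicit false

namespace Cfsg.Agent.Lib.Helper6.Golay

open Cfsg
open Cfsg.Agent.Lib.Helper6.PermChain
open scoped Pointwise

/-- two dodecads meet in 0, 4, 6, 8 or 12 points -/
theorem card_dodecad_inter_dodecad {d d' : Finset GolayPt} (hd : d ∈ dodecads) (hd' : d' ∈ dodecads) :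
    (d ∩ d').card = 0 ∨ (d ∩ d').card = 4 ∨ (d ∩ d').card = 6 ∨ (d ∩ d').card = 8 ∨
      (d ∩ d').card = 12 := by
  obtain ⟨⟨v, hv, rfl⟩, hvc⟩ := hd
  obtain ⟨⟨w, hw, rfl⟩, hwc⟩ := hd'
  have hvw : v + w ∈ golayCode := Submodule.add_mem _ hv hw
  have h1 := hammingNorm_mem _ hvw
  rw [← card_support₂, support₂_add] at h1
  have h2 := card_symmDiff_add (support₂ v) (support₂ w)
  omega

theorem exists_stab_dodecad_map {d d' d'' : Finset GolayPt} (hd : d ∈ dodecads) (hd' : d' ∈ dodecads)
    (hd'' : d'' ∈ dodecads) (h : (d ∩ d').card = (d ∩ d'').card) :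
    ∃ g ∈ M24, g • d = d ∧ g • d' = d'' := by
  obtain ⟨t, ht, rfl⟩ := exists_M24_dodecad dodecad0_mem hd
  have hti : t⁻¹ ∈ M24 := M24.inv_mem ht
  obtain ⟨n', hn', hw', e'⟩ := (mem_dodecads_iff _).mp (smul_mem_dodecads hti hd')
  obtain ⟨n'', hn'', hw'', e''⟩ := (mem_dodecads_iff _).mp (smul_mem_dodecads hti hd'')
  have c' : pc 24 (n' &&& dodecad0) = (t • fs dodecad0 ∩ d').card := by
    rw [← card_fs, fs_and, ← e', Finset.inter_comm, ← smul_inter_card t, smul_inv_smul]
  have c'' : pc 24 (n'' &&& dodecad0) = (t • fs dodecad0 ∩ d'').card := by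
    rw [← card_fs, fs_and, ← e'', Finset.inter_comm, ← smul_inter_card t, smul_inv_smul]
  rcases card_dodecad_inter_dodecad hd hd' with hk | hk | hk | hk | hk
  · -- disjoint: both are the complement
    have hcompl : ∀ x ∈ dodecads, (t • fs dodecad0 ∩ x).card = 0 → x = (t • fs dodecad0)ᶜ := by
      intro x hx h0
      apply Finset.eq_of_subset_of_card_le
      · intro p hp
        rw [Finset.mem_compl]
        intro hp2
        have : p ∈ t • fs dodecad0 ∩ x := Finset.mem_inter.mpr ⟨hp2, hp⟩
        rw [Finset.card_eq_zero] at h0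
        rw [h0] at this
        exact absurd this (Finset.notMem_empty p)
      · rw [Finset.card_compl, hd.2, hx.2]
        decide
    refine ⟨1, M24.one_mem, one_smul _ _, ?_⟩
    rw [one_smul, hcompl d' hd' hk, hcompl d'' hd'' (by rw [← h, hk])]
  · apply exists_stab_map_of_ref ht
    rw [e', e'']
    exact exists_stabD_map_mask hn' hn'' hw' hw'' (by rw [c', c'', h]) (by rw [c', hk]; simp)
  · apply exists_stab_map_of_ref ht
    rw [e', e'']
    exact exists_stabD_map_mask hn' hn'' hw' hw'' (by rw [c', c'', h]) (by rw [c', hk]; simp)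
  · apply exists_stab_map_of_ref ht
    rw [e', e'']
    exact exists_stabD_map_mask hn' hn'' hw' hw'' (by rw [c', c'', h]) (by rw [c', hk]; simp)
  · have e1 : t • fs dodecad0 ∩ d' = d' :=
      Finset.eq_of_subset_of_card_le Finset.inter_subset_right (by rw [hk, hd'.2])
    have e2 : t • fs dodecad0 ∩ d' = t • fs dodecad0 :=
      Finset.eq_of_subset_of_card_le Finset.inter_subset_left (by rw [hk, hd.2])
    rw [h] at hk
    have e3 : t • fs dodecad0 ∩ d'' = d'' :=
      Finset.eq_of_subset_of_card_le Finset.inter_subset_right (by rw [hk, hd''.2])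
    have e4 : t • fs dodecad0 ∩ d'' = t • fs dodecad0 :=
      Finset.eq_of_subset_of_card_le Finset.inter_subset_left (by rw [hk, hd.2])
    refine ⟨1, M24.one_mem, one_smul _ _, ?_⟩
    rw [one_smul, ← e1, e2, ← e4, e3]

end Cfsg.Agent.Lib.Helper6.Golay
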