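import Mathlib

/-!
# Maximality of a point stabilizer from its suborbit lengths

If the orbit of `x₀` under a finite group `G` is `{x₀} ∪ C₁ ∪ C₂ ∪ C₃` with the stabilizer `H` of
`x₀` transitive on each `Cᵢ`, then for every subgroup `K ≥ H` the orbit of `x₀` under `K` is the
union of `{x₀}` and some of the `Cᵢ`, and its length times the index of `K` is the index of `H`.
-/

set_option autoImplicit false

namespace Cfsg.Agent.Lib.Helper6.Overgroup

open MulAction

variable {G X : Type*} [Group G] [MulAction G X]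

/-- the orbit of `x₀` under the subgroup `K`, as a set -/
def orbK (K : Subgroup G) (x0 : X) : Set X := {y | ∃ k ∈ K, k • x0 = y}

theorem orbK_eq_orbit (K : Subgroup G) (x0 : X) : orbK K x0 = orbit K x0 := by
  ext y
  constructor
  · rintro ⟨k, hk, rfl⟩; exact ⟨⟨k, hk⟩, rfl⟩
  · rintro ⟨k, rfl⟩; exact ⟨k.1, k.2, rfl⟩

theorem mem_orbK_self (K : Subgroup G) (x0 : X) : x0 ∈ orbK K x0 := ⟨1, K.one_mem, one_smul _ _⟩

theorem ncard_orbK_mul_index (K : Subgroup G) (x0 : X) (hHK : stabilizer G x0 ≤ K) :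
    (orbK K x0).ncard * K.index = (stabilizer G x0).index := by
  have h1 : stabilizer K x0 = (stabilizer G x0).subgroupOf K := by
    ext k
    rw [Subgroup.mem_subgroupOf, mem_stabilizer_iff, mem_stabilizer_iff]
    rfl
  have h2 := index_stabilizer K x0
  rw [h1] at h2
  rw [orbK_eq_orbit, ← h2]
  exact Subgroup.relIndex_mul_index hHK

theorem smul_mem_orbK {K : Subgroup G} {x0 : X} (hHK : stabilizer G x0 ≤ K) {h : G}
    (hh : h ∈ stabilizer G x0) {y : X} (hy : y ∈ orbK K x0) : h • y ∈ orbK K x0 := by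
  obtain ⟨k, hk, rfl⟩ := hy
  exact ⟨h * k, K.mul_mem (hHK hh) hk, mul_smul _ _ _⟩

theorem class_subset_or_disjoint {K : Subgroup G} {x0 : X} (hHK : stabilizer G x0 ≤ K) (C : Set X)
    (hC : ∀ a ∈ C, ∀ b ∈ C, ∃ h ∈ stabilizer G x0, h • a = b) :
    C ⊆ orbK K x0 ∨ Disjoint C (orbK K x0) := by
  by_cases h : ∃ a ∈ C, a ∈ orbK K x0
  · left
    obtain ⟨a, haC, haY⟩ := h
    intro b hb
    obtain ⟨g, hg, rfl⟩ := hC a haC b hb
    exact smul_mem_orbK hHK hg haY
  · right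
    rw [Set.disjoint_left]
    intro a haC haY
    exact h ⟨a, haC, haY⟩

theorem le_of_orbK_subset {K : Subgroup G} {x0 : X} (h : orbK K x0 ⊆ {x0}) :
    K ≤ stabilizer G x0 := by
  intro k hk
  rw [mem_stabilizer_iff]
  exact h ⟨k, hk, rfl⟩

theorem orbK_subset_orbit (K : Subgroup G) (x0 : X) : orbK K x0 ⊆ orbit G x0 := by
  rintro y ⟨k, _, rfl⟩
  exact ⟨k, rfl⟩

/-- intersection of the `K`-orbit with an `H`-transitive class: all or nothing -/
theorem ncard_inter_class [Finite X] {K : Subgroup G} {x0 : X} (hHK : stabilizer G x0 ≤ K)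
    (C : Set X) (hC : ∀ a ∈ C, ∀ b ∈ C, ∃ h ∈ stabilizer G x0, h • a = b) :
    ∃ e : Bool, (orbK K x0 ∩ C).ncard = (if e then C.ncard else 0) ∧
      (e = false → orbK K x0 ∩ C = ∅) := by
  rcases class_subset_or_disjoint hHK C hC with h | h
  · refine ⟨true, ?_, fun h => by simp at h⟩
    rw [Set.inter_eq_right.mpr h]; simp
  · refine ⟨false, ?_, fun _ => ?_⟩
    · rw [Set.inter_comm, Set.disjoint_iff_inter_eq_empty.mp h]; simp
    · rw [Set.inter_comm, Set.disjoint_iff_inter_eq_empty.mp h]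

/-- the length of the `K`-orbit, three classes -/
theorem ncard_orbK_three [Finite X] {K : Subgroup G} {x0 : X} (hHK : stabilizer G x0 ≤ K)
    (C1 C2 C3 : Set X) (hcover : orbit G x0 ⊆ {x0} ∪ C1 ∪ C2 ∪ C3)
    (h01 : x0 ∉ C1) (h02 : x0 ∉ C2) (h03 : x0 ∉ C3)
    (h12 : Disjoint C1 C2) (h13 : Disjoint C1 C3) (h23 : Disjoint C2 C3)
    (t1 : ∀ a ∈ C1, ∀ b ∈ C1, ∃ h ∈ stabilizer G x0, h • a = b)
    (t2 : ∀ a ∈ C2, ∀ b ∈ C2, ∃ h ∈ stabilizer G x0, h • a = b)
    (t3 : ∀ a ∈ C3, ∀ b ∈ C3, ∃ h ∈ stabilizer G x0, h • a = b) :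
    ∃ e1 e2 e3 : Bool, (orbK K x0).ncard = 1 + (if e1 then C1.ncard else 0) +
        (if e2 then C2.ncard else 0) + (if e3 then C3.ncard else 0) ∧
      (e1 = false → e2 = false → e3 = false → orbK K x0 ⊆ {x0}) := by
  obtain ⟨e1, hc1, hz1⟩ := ncard_inter_class hHK C1 t1
  obtain ⟨e2, hc2, hz2⟩ := ncard_inter_class hHK C2 t2
  obtain ⟨e3, hc3, hz3⟩ := ncard_inter_class hHK C3 t3
  refine ⟨e1, e2, e3, ?_, ?_⟩
  · set Y := orbK K x0 with hY
    have hYsub : Y ⊆ {x0} ∪ C1 ∪ C2 ∪ C3 := (orbK_subset_orbit K x0).trans hcover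
    have hdecomp : Y = (({x0} ∪ (Y ∩ C1)) ∪ (Y ∩ C2)) ∪ (Y ∩ C3) := by
      ext y
      simp only [Set.mem_union, Set.mem_singleton_iff, Set.mem_inter_iff]
      constructor
      · intro hy
        have := hYsub hy
        simp only [Set.mem_union, Set.mem_singleton_iff] at this
        tauto
      · rintro (((rfl | h) | h) | h)
        · exact mem_orbK_self K _
        · exact h.1
        · exact h.1
        · exact h.1
    have d1 : Disjoint ({x0} : Set X) (Y ∩ C1) := by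
      rw [Set.disjoint_left]; rintro y hy ⟨_, hy2⟩
      rw [Set.mem_singleton_iff] at hy; subst hy; exact h01 hy2
    have d2 : Disjoint (({x0} : Set X) ∪ (Y ∩ C1)) (Y ∩ C2) := by
      rw [Set.disjoint_left]; rintro y (hy | hy) ⟨_, hy2⟩
      · rw [Set.mem_singleton_iff] at hy; subst hy; exact h02 hy2
      · exact (Set.disjoint_left.mp h12) hy.2 hy2
    have d3 : Disjoint ((({x0} : Set X) ∪ (Y ∩ C1)) ∪ (Y ∩ C2)) (Y ∩ C3) := by
      rw [Set.disjoint_left]; rintro y ((hy | hy) | hy) ⟨_, hy2⟩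
      · rw [Set.mem_singleton_iff] at hy; subst hy; exact h03 hy2
      · exact (Set.disjoint_left.mp h13) hy.2 hy2
      · exact (Set.disjoint_left.mp h23) hy.2 hy2
    rw [hdecomp, Set.ncard_union_eq d3 (Set.toFinite _) (Set.toFinite _),
      Set.ncard_union_eq d2 (Set.toFinite _) (Set.toFinite _),
      Set.ncard_union_eq d1 (Set.toFinite _) (Set.toFinite _), Set.ncard_singleton, hc1, hc2, hc3]
  · intro h1 h2 h3 y hy
    have hYsub := (orbK_subset_orbit K x0).trans hcover hy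
    simp only [Set.mem_union, Set.mem_singleton_iff] at hYsub
    rcases hYsub with ((h | h) | h) | h
    · exact h
    · have : y ∈ orbK K x0 ∩ C1 := ⟨hy, h⟩
      rw [hz1 h1] at this; exact absurd this (Set.notMem_empty y)
    · have : y ∈ orbK K x0 ∩ C2 := ⟨hy, h⟩
      rw [hz2 h2] at this; exact absurd this (Set.notMem_empty y)
    · have : y ∈ orbK K x0 ∩ C3 := ⟨hy, h⟩
      rw [hz3 h3] at this; exact absurd this (Set.notMem_empty y)

/-- **Maximality criterion**, three nontrivial suborbits. -/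
theorem isCoatom_of_three_classes [Finite X] (x0 : X)
    (C1 C2 C3 : Set X) (hcover : orbit G x0 ⊆ {x0} ∪ C1 ∪ C2 ∪ C3)
    (h01 : x0 ∉ C1) (h02 : x0 ∉ C2) (h03 : x0 ∉ C3)
    (h12 : Disjoint C1 C2) (h13 : Disjoint C1 C3) (h23 : Disjoint C2 C3)
    (t1 : ∀ a ∈ C1, ∀ b ∈ C1, ∃ h ∈ stabilizer G x0, h • a = b)
    (t2 : ∀ a ∈ C2, ∀ b ∈ C2, ∃ h ∈ stabilizer G x0, h • a = b)
    (t3 : ∀ a ∈ C3, ∀ b ∈ C3, ∃ h ∈ stabilizer G x0, h • a = b)
    (harith : ∀ e1 e2 e3 : Bool, ∀ m : ℕ,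
      (1 + (if e1 then C1.ncard else 0) + (if e2 then C2.ncard else 0) +
        (if e3 then C3.ncard else 0)) * m = (stabilizer G x0).index →
      (e1 = false ∧ e2 = false ∧ e3 = false) ∨ m = 1)
    (hne : stabilizer G x0 ≠ ⊤) : IsCoatom (stabilizer G x0) := by
  refine ⟨hne, fun K hK => ?_⟩
  obtain ⟨e1, e2, e3, hcard, hsub⟩ := ncard_orbK_three (K := K) hK.le C1 C2 C3 hcover h01 h02 h03
    h12 h13 h23 t1 t2 t3
  have hmul := ncard_orbK_mul_index K x0 hK.le
  rw [hcard] at hmul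
  rcases harith e1 e2 e3 K.index hmul with ⟨h1, h2, h3⟩ | h
  · exact absurd (le_of_orbK_subset (hsub h1 h2 h3)) (not_le_of_gt hK)
  · exact Subgroup.index_eq_one.mp h

/-- the length of the `K`-orbit, two classes -/
theorem ncard_orbK_two [Finite X] {K : Subgroup G} {x0 : X} (hHK : stabilizer G x0 ≤ K)
    (C1 C2 : Set X) (hcover : orbit G x0 ⊆ {x0} ∪ C1 ∪ C2)
    (h01 : x0 ∉ C1) (h02 : x0 ∉ C2) (h12 : Disjoint C1 C2)
    (t1 : ∀ a ∈ C1, ∀ b ∈ C1, ∃ h ∈ stabilizer G x0, h • a = b)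
    (t2 : ∀ a ∈ C2, ∀ b ∈ C2, ∃ h ∈ stabilizer G x0, h • a = b) :
    ∃ e1 e2 : Bool, (orbK K x0).ncard = 1 + (if e1 then C1.ncard else 0) +
        (if e2 then C2.ncard else 0) ∧
      (e1 = false → e2 = false → orbK K x0 ⊆ {x0}) := by
  obtain ⟨e1, hc1, hz1⟩ := ncard_inter_class hHK C1 t1
  obtain ⟨e2, hc2, hz2⟩ := ncard_inter_class hHK C2 t2
  refine ⟨e1, e2, ?_, ?_⟩
  · set Y := orbK K x0 with hY
    have hYsub : Y ⊆ {x0} ∪ C1 ∪ C2 := (orbK_subset_orbit K x0).trans hcover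
    have hdecomp : Y = ({x0} ∪ (Y ∩ C1)) ∪ (Y ∩ C2) := by
      ext y
      simp only [Set.mem_union, Set.mem_singleton_iff, Set.mem_inter_iff]
      constructor
      · intro hy
        have := hYsub hy
        simp only [Set.mem_union, Set.mem_singleton_iff] at this
        tauto
      · rintro ((rfl | h) | h)
        · exact mem_orbK_self K _
        · exact h.1
        · exact h.1
    have d1 : Disjoint ({x0} : Set X) (Y ∩ C1) := by
      rw [Set.disjoint_left]; rintro y hy ⟨_, hy2⟩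
      rw [Set.mem_singleton_iff] at hy; subst hy; exact h01 hy2
    have d2 : Disjoint (({x0} : Set X) ∪ (Y ∩ C1)) (Y ∩ C2) := by
      rw [Set.disjoint_left]; rintro y (hy | hy) ⟨_, hy2⟩
      · rw [Set.mem_singleton_iff] at hy; subst hy; exact h02 hy2
      · exact (Set.disjoint_left.mp h12) hy.2 hy2
    rw [hdecomp, Set.ncard_union_eq d2 (Set.toFinite _) (Set.toFinite _),
      Set.ncard_union_eq d1 (Set.toFinite _) (Set.toFinite _), Set.ncard_singleton, hc1, hc2]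
  · intro h1 h2 y hy
    have hYsub := (orbK_subset_orbit K x0).trans hcover hy
    simp only [Set.mem_union, Set.mem_singleton_iff] at hYsub
    rcases hYsub with (h | h) | h
    · exact h
    · have : y ∈ orbK K x0 ∩ C1 := ⟨hy, h⟩
      rw [hz1 h1] at this; exact absurd this (Set.notMem_empty y)
    · have : y ∈ orbK K x0 ∩ C2 := ⟨hy, h⟩
      rw [hz2 h2] at this; exact absurd this (Set.notMem_empty y)

/-- **Maximality criterion**, two nontrivial suborbits. -/
theorem isCoatom_of_two_classes [Finite X] (x0 : X)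
    (C1 C2 : Set X) (hcover : orbit G x0 ⊆ {x0} ∪ C1 ∪ C2)
    (h01 : x0 ∉ C1) (h02 : x0 ∉ C2) (h12 : Disjoint C1 C2)
    (t1 : ∀ a ∈ C1, ∀ b ∈ C1, ∃ h ∈ stabilizer G x0, h • a = b)
    (t2 : ∀ a ∈ C2, ∀ b ∈ C2, ∃ h ∈ stabilizer G x0, h • a = b)
    (harith : ∀ e1 e2 : Bool, ∀ m : ℕ,
      (1 + (if e1 then C1.ncard else 0) + (if e2 then C2.ncard else 0)) * m =
        (stabilizer G x0).index →
      (e1 = false ∧ e2 = false) ∨ m = 1)
    (hne : stabilizer G x0 ≠ ⊤) : IsCoatom (stabilizer G x0) := by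
  refine ⟨hne, fun K hK => ?_⟩
  obtain ⟨e1, e2, hcard, hsub⟩ := ncard_orbK_two (K := K) hK.le C1 C2 hcover h01 h02 h12 t1 t2
  have hmul := ncard_orbK_mul_index K x0 hK.le
  rw [hcard] at hmul
  rcases harith e1 e2 K.index hmul with ⟨h1, h2⟩ | h
  · exact absurd (le_of_orbK_subset (hsub h1 h2)) (not_le_of_gt hK)
  · exact Subgroup.index_eq_one.mp h

end Cfsg.Agent.Lib.Helper6.Overgroup
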