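import Cfsg.Agent.Lib.Helper6.GolayDodecadOrbits2
import Cfsg.Agent.Lib.Helper6.Overgroup
import Cfsg.Agent.S1639
import Cfsg.Agent.S1560

/-!
# The stabilizer of a pair of complementary dodecads is a maximal subgroup of `M24`
-/

set_option autoImplicit false

namespace Cfsg.Agent.Lib.Helper6.Golay

open Cfsg
open Cfsg.Agent.Lib.Helper6.PermChain
open Cfsg.Agent.Lib.Helper6.Overgroup
open scoped Pointwise

/-- a set together with its complement -/
def pairOf (d : Finset GolayPt) : Finset (Finset GolayPt) := {d, dᶜ}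

theorem mem_pairOf {a d : Finset GolayPt} : a ∈ pairOf d ↔ a = d ∨ a = dᶜ := by
  simp [pairOf]

theorem pairOf_compl (d : Finset GolayPt) : pairOf dᶜ = pairOf d := by
  rw [pairOf, pairOf, compl_compl, Finset.pair_comm]

theorem pairOf_eq_iff {a d : Finset GolayPt} : pairOf a = pairOf d ↔ a = d ∨ a = dᶜ := by
  constructor
  · intro h
    have : a ∈ pairOf a := mem_pairOf.mpr (Or.inl rfl)
    rw [h] at this
    exact mem_pairOf.mp this
  · rintro (rfl | rfl)
    · rfl
    · exact pairOf_compl d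

theorem smul_compl (g : Equiv.Perm GolayPt) (d : Finset GolayPt) : g • dᶜ = (g • d)ᶜ := by
  rw [Finset.compl_eq_univ_sdiff, Finset.smul_finset_sdiff, Finset.smul_finset_univ,
    ← Finset.compl_eq_univ_sdiff]

theorem smul_pairOf (g : Equiv.Perm GolayPt) (d : Finset GolayPt) : g • pairOf d = pairOf (g • d) := by
  rw [pairOf, pairOf, Finset.smul_finset_insert, Finset.smul_finset_singleton, smul_compl]

theorem compl_mem_dodecads {d : Finset GolayPt} (hd : d ∈ dodecads) : dᶜ ∈ dodecads := by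
  obtain ⟨n, hn, h12, rfl⟩ := (mem_dodecads_iff d).mp hd
  rw [← fs_compl]
  have hin : inCode (n ^^^ (2 ^ 24 - 1)) = true := inCode_xor hn (by decide +kernel)
  apply fs_mem_dodecads hin
  rw [← card_fs, fs_compl, Finset.card_compl, card_fs, h12]
  decide

theorem card_inter_compl {d d' : Finset GolayPt} (hd : d.card = 12) :
    (d ∩ d'ᶜ).card = 12 - (d ∩ d').card := by
  have h1 : d ∩ d'ᶜ = d \ d' := by
    ext x; simp [Finset.mem_sdiff]
  have h2 := Finset.card_sdiff_add_card_inter d d'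
  rw [h1]
  omega

/-- **The stabilizer of a pair of complementary dodecads is maximal in `M24`.** -/
theorem isCoatom_stabilizer_dodecad_pair {d : Finset GolayPt} (hd : d ∈ dodecads) :
    IsCoatom (MulAction.stabilizer M24 (pairOf d)) := by
  have hd12 : d.card = 12 := hd.2
  have hself : (d ∩ d).card = 12 := by rw [Finset.inter_self, hd12]
  have hcompl0 : (d ∩ dᶜ).card = 0 := by rw [card_inter_compl hd12, hself]
  obtain ⟨p, hp⟩ : ∃ p, p ∈ d := Finset.card_pos.mp (by rw [hd12]; norm_num)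
  -- the two classes
  set C1 : Set (Finset (Finset GolayPt)) :=
    pairOf '' {d' | d' ∈ dodecads ∧ (d ∩ d').card = 4} with hC1
  set C2 : Set (Finset (Finset GolayPt)) :=
    pairOf '' {d' | d' ∈ dodecads ∧ (d ∩ d').card = 6} with hC2
  have horb : MulAction.orbit M24 (pairOf d) = pairOf '' dodecads := by
    ext x
    constructor
    · rintro ⟨g, rfl⟩
      exact ⟨g.1 • d, smul_mem_dodecads g.2 hd, (smul_pairOf g.1 d).symm⟩
    · rintro ⟨d', hd', rfl⟩
      obtain ⟨g, hg, rfl⟩ := exists_M24_dodecad hd hd'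
      exact ⟨⟨g, hg⟩, smul_pairOf g d⟩
  have hcover : MulAction.orbit M24 (pairOf d) ⊆ {pairOf d} ∪ C1 ∪ C2 := by
    rw [horb]
    rintro x ⟨d', hd', rfl⟩
    simp only [Set.mem_union, Set.mem_singleton_iff]
    rcases card_dodecad_inter_dodecad hd hd' with h | h | h | h | h
    · refine Or.inl (Or.inl ?_)
      rw [pairOf_eq_iff]
      right
      have := eq_of_full_inter hd12 (compl_mem_dodecads hd').2 hd12
        (by rw [card_inter_compl hd12, h]) hself
      rw [← this, compl_compl]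
    · exact Or.inl (Or.inr ⟨d', ⟨hd', h⟩, rfl⟩)
    · exact Or.inr ⟨d', ⟨hd', h⟩, rfl⟩
    · refine Or.inl (Or.inr ⟨d'ᶜ, ⟨compl_mem_dodecads hd', ?_⟩, pairOf_compl d'⟩)
      rw [card_inter_compl hd12, h]
    · refine Or.inl (Or.inl ?_)
      rw [pairOf_eq_iff]
      left
      exact (eq_of_full_inter hd12 hd12 hd'.2 hself h).symm
  have hne_of : ∀ k, k ≠ 0 → k ≠ 12 → ∀ d', (d ∩ d').card = k → pairOf d ≠ pairOf d' := by
    intro k hk0 hk12 d' hk h
    rcases pairOf_eq_iff.mp h with h' | h'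
    · rw [← h', hself] at hk; exact hk12 hk.symm
    · have e : d' = dᶜ := by rw [h', compl_compl]
      rw [e, hcompl0] at hk
      exact hk0 hk.symm
  have h01 : pairOf d ∉ C1 := by
    rintro ⟨d', ⟨_, h4⟩, h⟩
    exact hne_of 4 (by norm_num) (by norm_num) d' h4 h.symm
  have h02 : pairOf d ∉ C2 := by
    rintro ⟨d', ⟨_, h6⟩, h⟩
    exact hne_of 6 (by norm_num) (by norm_num) d' h6 h.symm
  have h12 : Disjoint C1 C2 := by
    rw [Set.disjoint_left]
    rintro x ⟨d1, ⟨_, h4⟩, rfl⟩ ⟨d2, ⟨_, h6⟩, h⟩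
    rcases pairOf_eq_iff.mp h with rfl | rfl
    · omega
    · rw [card_inter_compl hd12] at h6; omega
  have htrans : ∀ k, ∀ a ∈ pairOf '' {d' | d' ∈ dodecads ∧ (d ∩ d').card = k},
      ∀ b ∈ pairOf '' {d' | d' ∈ dodecads ∧ (d ∩ d').card = k},
      ∃ h ∈ MulAction.stabilizer M24 (pairOf d), h • a = b := by
    rintro k a ⟨d1, ⟨hd1, hk1⟩, rfl⟩ b ⟨d2, ⟨hd2, hk2⟩, rfl⟩
    obtain ⟨g, hg, hgd, hg12⟩ := exists_stab_dodecad_map hd hd1 hd2 (hk1.trans hk2.symm)
    refine ⟨⟨g, hg⟩, ?_, ?_⟩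
    · rw [MulAction.mem_stabilizer_iff]
      show g • pairOf d = pairOf d
      rw [smul_pairOf, hgd]
    · show g • pairOf d1 = pairOf d2
      rw [smul_pairOf, hg12]
  have hc1 : C1.ncard = 495 := by
    rw [hC1, Set.InjOn.ncard_image, (Cfsg.Agent.S1560.result d hd).2.1]
    rintro a ⟨_, ha⟩ b ⟨_, hb⟩ hab
    rcases pairOf_eq_iff.mp hab with h | h
    · exact h
    · rw [h, card_inter_compl hd12] at ha
      omega
  have hc2 : C2.ncard = 792 := by
    have himg : C2 = pairOf '' {d' | d' ∈ dodecads ∧ p ∈ d' ∧ (d ∩ d').card = 6} := by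
      rw [hC2]
      ext x
      constructor
      · rintro ⟨d', ⟨hd', h6⟩, rfl⟩
        by_cases hpd : p ∈ d'
        · exact ⟨d', ⟨hd', hpd, h6⟩, rfl⟩
        · refine ⟨d'ᶜ, ⟨compl_mem_dodecads hd', Finset.mem_compl.mpr hpd, ?_⟩, pairOf_compl d'⟩
          rw [card_inter_compl hd12, h6]
      · rintro ⟨d', ⟨hd', _, h6⟩, rfl⟩
        exact ⟨d', ⟨hd', h6⟩, rfl⟩
    rw [himg, Set.InjOn.ncard_image, (Cfsg.Agent.S1639.result p d hd hp).2.2.1]
    rintro a ⟨_, hpa, _⟩ b ⟨_, hpb, _⟩ hab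
    rcases pairOf_eq_iff.mp hab with h | h
    · exact h
    · rw [h, Finset.mem_compl] at hpa
      exact absurd hpb hpa
  have hidx : (MulAction.stabilizer M24 (pairOf d)).index = 1288 := by
    rw [MulAction.index_stabilizer]
    have heq : MulAction.orbit M24 (pairOf d) = ({pairOf d} ∪ C1) ∪ C2 := by
      apply Set.Subset.antisymm hcover
      rw [horb]
      rintro x ((hx | ⟨d', ⟨hd', _⟩, rfl⟩) | ⟨d', ⟨hd', _⟩, rfl⟩)
      · rw [Set.mem_singleton_iff] at hx; subst hx; exact ⟨d, hd, rfl⟩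
      · exact ⟨d', hd', rfl⟩
      · exact ⟨d', hd', rfl⟩
    rw [heq, Set.ncard_union_eq _ (Set.toFinite _) (Set.toFinite _),
      Set.ncard_union_eq _ (Set.toFinite _) (Set.toFinite _), Set.ncard_singleton, hc1, hc2]
    · rw [Set.disjoint_left]; intro x hx hx1
      rw [Set.mem_singleton_iff] at hx; subst hx; exact h01 hx1
    · rw [Set.disjoint_left]; rintro x (hx | hx) hx2
      · rw [Set.mem_singleton_iff] at hx; subst hx; exact h02 hx2
      · exact (Set.disjoint_left.mp h12) hx hx2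
  apply isCoatom_of_two_classes (pairOf d) C1 C2 hcover h01 h02 h12 (htrans 4) (htrans 6)
  · rw [hc1, hc2, hidx]
    intro e1 e2 m hm
    cases e1 <;> cases e2 <;> simp at hm ⊢ <;> omega
  · intro h
    rw [h, Subgroup.index_top] at hidx
    omega

end Cfsg.Agent.Lib.Helper6.Golay
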