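import Cfsg.Agent.Lib.Helper6.GolayTriad2

/-!
# The stabilizer of two points and a duad: rank 4 on the duads of the remaining 22 points
-/

set_option autoImplicit false

namespace Cfsg.Agent.Lib.Helper6.Golay

open Cfsg
open Cfsg.Agent.Lib.Helper6.PermChain
open scoped Pointwise

def progD22 : List (ℕ × ℕ) := [(1, 0), (3, 0), (3, 1), (3, 2), (4, 0), (4, 2), (5, 2), (6, 2), (7, 1), (8, 0), (9, 2), (10, 0), (12, 0), (15, 1), (1, 1), (17, 2), (18, 0), (19, 0), (20, 2), (21, 0), (22, 1), (23, 2), (24, 0), (25, 2), (14, 26), (0, 0), (28, 1), (29, 1), (30, 0), (31, 0), (32, 0), (33, 2), (34, 1), (8, 35), (28, 0), (37, 2), (38, 2), (39, 2), (40, 0), (41, 2), (42, 2), (43, 1), (44, 0), (45, 0), (46, 0), (47, 2), (48, 0), (49, 1), (50, 1), (51, 0), (8, 52), (2, 2), (54, 1), (55, 2), (56, 2), (57, 0), (58, 0), (59, 2), (60, 2), (61, 2), (1, 62), (28, 2), (64, 2), (65, 0), (66, 2), (67, 0), (68, 2), (69, 0), (70, 1), (71, 2), (72, 2), (73, 1), (74, 1), (13, 75), (17, 1), (77, 1), (78, 0), (79, 0), (80, 2), (81, 0), (82, 0), (83, 2), (84, 1), (85, 2), (86, 1), (87, 1), (88, 2),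 (89, 1), (90, 1), (91, 2), (11, 92), (0, 2), (94, 1), (95, 0), (96, 1), (97, 0), (98, 1), (99, 1), (100, 0), (101, 2), (16, 102), (94, 2), (104, 1), (105, 1), (106, 2), (107, 1), (108, 2), (109, 1), (110, 2), (111, 1), (112, 0), (113, 0), (114, 1), (115, 1), (116, 2), (117, 2), (118, 0), (119, 0), (120, 2), (121, 2), (5, 122), (27, 27), (27, 63), (27, 103), (63, 36), (76, 53), (76, 123), (129, 76), (130, 103), (131, 93), (132, 27), (133, 123), (134, 93), (135, 53), (136, 36), (137, 123), (138, 27), (139, 63), (140, 76), (141, 53), (142, 63), (143, 103), (144, 103), (145, 123), (129, 146), (36, 123), (148, 103), (149, 76), (150, 53), (151, 103), (152, 76), (153, 103), (154, 93), (155, 103), (156, 63), (128, 157), (53, 53), (159, 53), (160, 63), (161, 63), (162, 27), (163, 123), (164, 53), (165, 76), (166, 76), (63, 167), (126, 93), (169, 93), (170, 53), (171, 27), (172, 123), (173, 103), (174, 103), (175, 103), (176, 103), (125, 177), (36, 103), (179, 27), (180, 63), (181, 36), (182, 63), (183, 123), (184, 53), (185, 36), (186, 93), (187, 27), (188, 36), (189, 27), (190,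 53), (191, 36), (192, 93), (127, 193), (125, 103), (195, 53), (196, 76), (197, 93), (198, 93), (199, 123), (200, 36), (201, 36), (126, 202), (123, 123), (204, 123), (205, 76), (206, 36), (207, 53), (208, 36), (209, 93), (210, 76), (211, 123), (212, 53), (213, 27), (214, 63), (215, 93), (216, 53), (217, 27), (124, 218), (76, 36), (220, 76), (221, 93), (222, 53), (223, 93), (224, 63), (225, 93), (226, 63), (227, 63), (228, 63), (229, 103), (230, 63), (231, 63), (232, 123), (233, 93), (234, 27), (235, 27), (236, 76), (126, 237), (147, 158), (147, 203), (158, 168), (158, 238), (168, 147), (219, 147), (219, 158), (238, 178), (239, 178), (240, 219), (241, 168), (244, 219), (248, 168), (246, 203), (252, 238), (253, 203), (254, 203), (255, 158), (256, 178), (257, 158), (258, 178), (259, 238), (260, 178), (261, 203), (242, 262), (178, 147), (264, 238), (265, 203), (266, 158), (267, 158), (268, 219), (269, 178), (270, 238), (271, 168), (272, 219), (273, 203), (274, 158), (275, 219), (276, 238), (277, 219), (247, 278), (249, 168), (280, 147), (281, 168), (282, 238), (283, 168),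 (284, 238), (285, 203), (286, 168), (287, 168), (288, 147), (289, 147), (290, 158), (291, 168), (292, 219), (293, 178), (294, 178), (295, 147), (241, 296), (194, 194), (298, 178), (299, 203), (300, 194), (301, 219), (302, 168), (303, 147), (304, 203), (305, 238), (306, 219), (307, 168), (245, 308), (243, 238), (310, 168), (311, 147), (312, 168), (313, 168), (314, 168), (315, 238), (316, 158), (317, 147), (318, 203), (319, 238), (320, 158), (321, 147), (322, 178), (323, 178), (250, 324), (194, 158), (326, 238), (327, 147), (328, 158), (329, 238), (330, 203), (331, 178), (332, 194), (251, 333)]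

def rootsD22 : List ℕ := [10, 40, 24]

set_option maxRecDepth 1000000 in
def certD22A : List (ℕ × ℕ) := [(10, 263), (10, 279), (10, 297), (10, 309), (10, 325), (10, 334), (68, 263), (68, 279), (12, 263), (12, 297), (12, 309), (12, 325), (12, 334), (2097154, 263), (2097154, 279), (2097154, 309), (2097154, 325), (8196, 309), (8196, 334), (32770, 279), (32770, 297), (32770, 309), (32770, 334), (4100, 263), (4100, 279), (1048578, 263), (1048578, 279), (1048578, 297), (1048578, 309), (1048578, 325), (2050, 297), (2097156, 263), (8194, 334), (32772, 297), (32772, 309), (516, 263), (262148, 297), (1026, 263), (260, 325)]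

set_option maxRecDepth 1000000 in
def certD22B : List (ℕ × ℕ) := [(40, 263), (40, 279), (40, 309), (40, 325), (40, 334), (2097216, 263), (2097216, 279), (2097216, 297), (2097216, 309), (2097216, 334), (16392, 263), (16392, 309), (4202496, 309), (4202496, 334), (1081344, 297), (1081344, 309), (1081344, 325), (266240, 334), (1049088, 263), (1049088, 297), (1049088, 325), (264192, 297), (264192, 334), (6144, 263), (2621440, 309), (2621440, 334), (524352, 297), (524352, 334), (8208, 263)]

set_option maxRecDepth 1000000 in
def certD22C : List (ℕ × ℕ) := [(24, 263), (24, 279), (24, 297), (24, 309), (24, 325), (24, 334), (131136, 263), (131136, 279), (131136, 297), (131136, 309), (131136, 325), (65544, 263), (65544, 297), (65544, 309), (65544, 325), (65544, 334), (3145728, 263), (3145728, 279), (3145728, 309), (3145728, 325), (3145728, 334), (40960, 263), (40960, 297), (40960, 309), (40960, 325), (40960, 334), (33024, 263), (33024, 279), (33024, 297), (33024, 309), (33024, 325), (33024, 334), (135168, 263), (135168, 279), (135168, 297), (135168, 309), (135168, 325), (135168,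 334), (1048704, 263), (1048704, 279), (1048704, 297), (1048704, 309), (1048704, 325), (133120, 263), (133120, 325), (133120, 334), (4224, 263), (4224, 279), (4224, 297), (4224, 334), (2162688, 263), (2162688, 279), (2162688, 297), (2162688, 309), (2162688, 325), (2162688, 334), (9216, 297), (9216, 309), (9216, 325), (9216, 334), (96, 279), (96, 297), (96, 309), (96, 325), (96, 334), (2098176, 263), (2098176, 297), (2098176, 309), (2098176, 325), (8704, 297), (8704, 325), (8704, 334), (34816, 279), (34816, 309), (34816, 325), (4104, 279), (4104, 297), (4104, 309), (4104, 334), (4194816, 263), (4194816, 297), (1310720, 297), (526336, 297), (526336, 309), (526336, 325), (4194432, 263), (4194432, 297), (4194432, 309), (4194432, 325), (4194432, 334), (2097664, 263), (2097664, 325), (2097664, 334), (8200, 263), (8200, 297), (8200, 334), (1280, 279), (1280, 297), (1280, 334), (2359296, 263), (2359296, 297), (2359296, 325), (16512, 263), (16512, 279), (16512, 309), (16512, 334), (12288, 263), (12288, 279), (1152, 263), (1152, 325), (1152, 334), (4194336, 263), (4194336, 325),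 (4194336, 334), (131328, 279), (131328, 309), (131328, 325), (131328, 334), (2228224, 263), (2228224, 297), (2228224, 334), (144, 309), (144, 334), (262272, 279), (262272, 325), (262272, 334), (655360, 325), (8320, 325), (8320, 334), (1032, 263), (1032, 297), (1032, 325), (4195328, 279), (4195328, 334), (1048832, 297), (1048832, 334), (65664, 325), (65664, 334), (384, 297), (384, 334), (524544, 263), (270336, 297), (270336, 325), (5242880, 297), (262160, 325), (524800, 279), (4196352, 325), (32776, 263), (786432, 279), (18432, 334), (1056768, 297), (2056, 263), (528384, 309), (4718592, 325), (262208, 279), (262208, 325), (262208, 334), (16448, 279), (264, 309)]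

/-- the octads through the four reference points `∞, 0, 1, 2` -/
def oct5 : List ℕ := [8536111, 8657159, 9471495, 11010247, 12656663]

/-- the reference 4-set `{∞, 0, 1, 2}` -/
def refD22 : ℕ := 8388615

/-- the masks of `{∞}`, `{0}`, `{1, 2}` -/
def masksD22 : List ℕ := [8388608, 1, 6]

def ED22 : List (List ℕ) := stabFilter (slpRun gens3 progD22) masksD22

theorem rep_ED22 : ∀ l ∈ ED22, Rep (stabM M24 masksD22) l :=
  rep_stabFilter (rep_slpRun _ _ (rep_gens3 hasGens_M24)) _

/-- do the reference 4-set and the set with mask `u` lie in a common octad? -/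
def inHex (u : ℕ) : Bool := oct5.any (fun o => (refD22 ||| u) &&& o == (refD22 ||| u))

set_option maxHeartbeats 4000000 in
theorem oct5_sound : oct5.all (fun o => inCode o && (pc 24 o == 8)) = true := by decide +kernel

set_option maxHeartbeats 4000000 in
theorem oct5_complete : allBelow (fun m => !(pc 24 (combo m) == 8 && (refD22 &&& combo m == refD22))
    || oct5.contains (combo m)) 4096 = true := by decide +kernel

theorem inHex_iff {u : ℕ} (hu : u < 2 ^ 24) : InOct (fs refD22) (fs u) ↔ inHex u = true := by
  have hTu : refD22 ||| u < 2 ^ 24 := Nat.or_lt_two_pow (by decide) hu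
  rw [inHex, List.any_eq_true]
  constructor
  · rintro ⟨o, ho, h⟩
    obtain ⟨n, hn, h8, rfl⟩ := (mem_octads_iff o).mp ho
    rw [← fs_or, fs_subset_iff hTu] at h
    refine ⟨n, ?_, by rw [h]; exact beq_self_eq_true _⟩
    obtain ⟨m, hm, rfl⟩ := (inCode_iff n).mp hn
    have := allBelow_spec _ _ oct5_complete m hm
    have hT : refD22 &&& combo m = refD22 := by
      apply Nat.eq_of_testBit_eq
      intro i
      have := congrArg (fun z => z.testBit i) h
      simp only [Nat.testBit_and, Nat.testBit_or] at this ⊢
      cases h1 : refD22.testBit i <;> cases h2 : (combo m).testBit i <;> simp_all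
    rw [h8, hT] at this
    simpa using this
  · rintro ⟨o, ho, h⟩
    have hs := List.all_eq_true.mp oct5_sound o ho
    rw [Bool.and_eq_true, beq_iff_eq] at hs
    rw [beq_iff_eq] at h
    refine ⟨fs o, fs_mem_octads hs.1 hs.2, ?_⟩
    rw [← fs_or, fs_subset_iff hTu]
    exact h

/-- the class of a duad relative to the reference configuration -/
def kindD22 (u : ℕ) : ℕ := if pc 24 (6 &&& u) == 1 then 0 else if inHex u then 1 else 2

/-- class lists -/
def clsD22 (k : ℕ) : List ℕ :=
  (gen 24 2).filter (fun n => (8388609 &&& n == 0) && (n != 6) && (kindD22 n == k))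

set_option maxRecDepth 1000000 in
set_option maxHeartbeats 4000000 in
theorem orbD22A_ok : mtCheck (clsD22 0) (mtRun ED22 (rootsD22.getD 0 0) certD22A) = true := by
  decide +kernel

set_option maxRecDepth 1000000 in
set_option maxHeartbeats 4000000 in
theorem orbD22B_ok : mtCheck (clsD22 1) (mtRun ED22 (rootsD22.getD 1 0) certD22B) = true := by
  decide +kernel

set_option maxRecDepth 1000000 in
set_option maxHeartbeats 4000000 in
theorem orbD22C_ok : mtCheck (clsD22 2) (mtRun ED22 (rootsD22.getD 2 0) certD22C) = true := by
  decide +kernel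

set_option maxRecDepth 1000000 in
set_option maxHeartbeats 4000000 in
theorem cntD22B : ((gen 24 2).filter (fun n => (8388609 &&& n == 0) && ((6 &&& n == 0) &&
    (inHex n == true)))).length = 30 := by decide +kernel

set_option maxRecDepth 1000000 in
set_option maxHeartbeats 4000000 in
theorem cntD22C : ((gen 24 2).filter (fun n => (8388609 &&& n == 0) && ((6 &&& n == 0) &&
    (inHex n == false)))).length = 160 := by decide +kernel

set_option maxRecDepth 1000000 in
set_option maxHeartbeats 4000000 in
theorem kindD22_lt : (gen 24 2).all (fun n => kindD22 n < 3) = true := by decide +kernel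

/-- transitivity on each class, mask form -/
theorem exists_stabD22_map {u u' : ℕ} (hu : u < 2 ^ 24) (hu' : u' < 2 ^ 24) (h2 : pc 24 u = 2)
    (h2' : pc 24 u' = 2) (hd : 8388609 &&& u = 0) (hd' : 8388609 &&& u' = 0) (h6 : u ≠ 6)
    (h6' : u' ≠ 6) (h : kindD22 u = kindD22 u') : ∃ g ∈ stabM M24 masksD22, g • fs u = fs u' := by
  have hg : u ∈ gen 24 2 := (mem_gen 24 2 u).mpr ⟨hu, h2⟩
  have hg' : u' ∈ gen 24 2 := (mem_gen 24 2 u').mpr ⟨hu', h2'⟩
  have hk : kindD22 u < 3 := by
    have := List.all_eq_true.mp kindD22_lt u hg
    simpa using this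
  have hm : u ∈ clsD22 (kindD22 u) := by
    rw [clsD22, List.mem_filter]; exact ⟨hg, by simp [hd, h6]⟩
  have hm' : u' ∈ clsD22 (kindD22 u) := by
    rw [clsD22, List.mem_filter]; exact ⟨hg', by simp [hd', h6', h]⟩
  generalize kindD22 u = k at hk hm hm'
  interval_cases k
  · exact (cwReach_of_mtCheck rep_ED22 _ _ _ orbD22A_ok u hm).trans_symm
      (cwReach_of_mtCheck rep_ED22 _ _ _ orbD22A_ok u' hm')
  · exact (cwReach_of_mtCheck rep_ED22 _ _ _ orbD22B_ok u hm).trans_symm
      (cwReach_of_mtCheck rep_ED22 _ _ _ orbD22B_ok u' hm')
  · exact (cwReach_of_mtCheck rep_ED22 _ _ _ orbD22C_ok u hm).trans_symm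
      (cwReach_of_mtCheck rep_ED22 _ _ _ orbD22C_ok u' hm')

end Cfsg.Agent.Lib.Helper6.Golay
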