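import Mathlib

/-!
# A simplicity criterion for multiply transitive groups whose degree (or degree minus one) is a
prime dividing the order exactly once
-/

set_option autoImplicit false

namespace Cfsg.Agent.Lib.Helper6.SimpleCrit

variable {G : Type*} [Group G]

/-- If `p` divides `|G|` exactly once, `σ` has order `p` and normally generates `G`, and every
nontrivial normal subgroup has order divisible by `p`, then `G` is simple. -/
theorem isSimpleGroup_of_prime [Finite G] (p : ℕ) [hp : Fact p.Prime]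
    (hcard : (Nat.card G).factorization p = 1) (σ : G) (hσ : orderOf σ = p)
    (hcl : Subgroup.normalClosure {σ} = ⊤)
    (hN : ∀ N : Subgroup G, N.Normal → N ≠ ⊥ → p ∣ Nat.card N) : IsSimpleGroup G := by
  have hnt : Nontrivial G := by
    refine ⟨⟨σ, 1, ?_⟩⟩
    rintro rfl
    rw [orderOf_one] at hσ
    exact hp.out.one_lt.ne hσ
  refine { exists_pair_ne := hnt.exists_pair_ne, eq_bot_or_eq_top_of_normal := ?_ }
  intro N hNn
  by_cases hbot : N = ⊥
  · exact Or.inl hbot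
  right
  have hdvd := hN N hNn hbot
  obtain ⟨τ, hτ⟩ := exists_prime_orderOf_dvd_card' p hdvd
  have hτ' : orderOf (τ : G) = p := by rw [Subgroup.orderOf_coe]; exact hτ
  let P : Sylow p G := Sylow.ofCard (Subgroup.zpowers (τ : G))
    (by rw [Nat.card_zpowers, hτ', hcard, pow_one])
  let Q : Sylow p G := Sylow.ofCard (Subgroup.zpowers σ)
    (by rw [Nat.card_zpowers, hσ, hcard, pow_one])
  obtain ⟨g, hg⟩ := MulAction.exists_smul_eq G P Q
  have hσQ : σ ∈ (Q : Subgroup G) := Subgroup.mem_zpowers σ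
  rw [← hg, Sylow.coe_subgroup_smul, Subgroup.mem_pointwise_smul_iff_inv_smul_mem] at hσQ
  have hPN : (P : Subgroup G) ≤ N := by
    show Subgroup.zpowers (τ : G) ≤ N
    rw [Subgroup.zpowers_le]
    exact τ.2
  have h1 : (MulAut.conj g)⁻¹ • σ ∈ N := hPN hσQ
  have h2 : σ ∈ N := by
    have h3 : (MulAut.conj g)⁻¹ • σ = g⁻¹ * σ * g := by
      rw [← map_inv, MulAut.smul_def, MulAut.conj_apply, inv_inv]
    rw [h3] at h1
    have := hNn.conj_mem _ h1 g
    simpa [mul_assoc] using this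
  rw [eq_top_iff, ← hcl]
  exact Subgroup.normalClosure_le_normal (Set.singleton_subset_iff.mpr h2)

variable {Ω : Type*} [MulAction G Ω]

/-- A nontrivial normal subgroup of a group acting faithfully and 2-transitively on an invariant
set `X` is transitive on `X`; in particular `|X|` divides its order. -/
theorem dvd_card_of_normal [Finite G] (X : Set Ω)
    (hfaith : ∀ g : G, (∀ x ∈ X, g • x = x) → g = 1)
    (hinv : ∀ g : G, ∀ x ∈ X, g • x ∈ X)
    (h2 : ∀ a ∈ X, ∀ b ∈ X, ∀ c ∈ X, a ≠ b → a ≠ c → ∃ g : G, g • a = a ∧ g • b = c)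
    (N : Subgroup G) (hNn : N.Normal) (hN : N ≠ ⊥) : X.ncard ∣ Nat.card N := by
  obtain ⟨n, hn, hn1⟩ : ∃ n : G, n ∈ N ∧ n ≠ 1 := by
    obtain ⟨a, h⟩ := (Subgroup.ne_bot_iff_exists_ne_one (H := N)).mp hN
    exact ⟨a.1, a.2, fun h' => h (Subtype.ext h')⟩
  have hex : ∃ a ∈ X, n • a ≠ a := by
    by_contra hcon
    push Not at hcon
    exact hn1 (hfaith n hcon)
  obtain ⟨a, haX, hna⟩ := hex
  have horb : MulAction.orbit N a = X := by
    ext c
    constructor
    · rintro ⟨m, rfl⟩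
      exact hinv m.1 a haX
    · intro hc
      by_cases hca : c = a
      · rw [hca]; exact MulAction.mem_orbit_self a
      · obtain ⟨g, hga, hgb⟩ := h2 a haX (n • a) (hinv n a haX) c hc (Ne.symm hna) (Ne.symm hca)
        refine ⟨⟨g * n * g⁻¹, hNn.conj_mem n hn g⟩, ?_⟩
        show (g * n * g⁻¹) • a = c
        have hga' : g⁻¹ • a = a := by rw [inv_smul_eq_iff, hga]
        rw [mul_smul, mul_smul, hga', hgb]
  rw [← horb, ← MulAction.index_stabilizer]
  exact Subgroup.index_dvd_card _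

/-- A nontrivial normal subgroup of a group acting faithfully and 4-transitively on an invariant
set `X` of at least 5 points contains a nontrivial element fixing a point of `X`. -/
theorem exists_fixing_of_normal (X : Set Ω)
    (hfaith : ∀ g : G, (∀ x ∈ X, g • x = x) → g = 1)
    (hinv : ∀ g : G, ∀ x ∈ X, g • x ∈ X)
    (h3 : ∀ a ∈ X, ∀ b ∈ X, ∀ c ∈ X, ∀ c' ∈ X, a ≠ b → a ≠ c → b ≠ c → a ≠ c' → b ≠ c' →
      ∃ g : G, g • a = a ∧ g • b = b ∧ g • c = c')
    (h4 : ∀ a ∈ X, ∀ b ∈ X, ∀ e ∈ X, ∀ f ∈ X, ∀ f' ∈ X, a ≠ b → a ≠ e → b ≠ e → a ≠ f → b ≠ f →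
      e ≠ f → a ≠ f' → b ≠ f' → e ≠ f' → ∃ g : G, g • a = a ∧ g • b = b ∧ g • e = e ∧ g • f = f')
    (hX4 : ∀ a ∈ X, ∀ b ∈ X, ∀ c ∈ X, ∀ e ∈ X, ∃ f ∈ X, f ≠ a ∧ f ≠ b ∧ f ≠ c ∧ f ≠ e)
    (N : Subgroup G) (hNn : N.Normal) (hN : N ≠ ⊥) : ∃ a ∈ X, ∃ n ∈ N, n ≠ 1 ∧ n • a = a := by
  obtain ⟨n, hn, hn1⟩ : ∃ n : G, n ∈ N ∧ n ≠ 1 := by
    obtain ⟨a, h⟩ := (Subgroup.ne_bot_iff_exists_ne_one (H := N)).mp hN
    exact ⟨a.1, a.2, fun h' => h (Subtype.ext h')⟩
  by_cases hfix : ∃ a ∈ X, n • a = a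
  · obtain ⟨a, haX, hna⟩ := hfix
    exact ⟨a, haX, n, hn, hn1, hna⟩
  push Not at hfix
  have hex : ∃ a, a ∈ X := by
    by_contra hcon
    push Not at hcon
    exact hn1 (hfaith n (fun x hx => (hcon x hx).elim))
  obtain ⟨a, haX⟩ := hex
  have hbX : n • a ∈ X := hinv n a haX
  have hab : a ≠ n • a := fun h => hfix a haX h.symm
  -- the key computation: for `g` fixing `a` and `n • a`, the commutator fixes `a`
  have key : ∀ g : G, g • a = a → g • (n • a) = n • a → (n⁻¹ * (g⁻¹ * n * g)) • a = a := by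
    intro g hga hgb
    have hgb' : g⁻¹ • (n • a) = n • a := by rw [inv_smul_eq_iff, hgb]
    rw [mul_smul, mul_smul, mul_smul, hga, hgb', inv_smul_smul]
  have hmem : ∀ g : G, n⁻¹ * (g⁻¹ * n * g) ∈ N := by
    intro g
    apply N.mul_mem (N.inv_mem hn)
    have := hNn.conj_mem n hn g⁻¹
    simpa using this
  have hcomm : ∀ g : G, n⁻¹ * (g⁻¹ * n * g) = 1 → ∀ y : Ω, n • (g • y) = g • (n • y) := by
    intro g h y
    have h' : g⁻¹ * n * g = n := by
      have := congrArg (fun z => n * z) h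
      simpa using this
    have h'' : n * g = g * n := by
      have := congrArg (fun z => g * z) h'
      simpa [mul_assoc] using this
    rw [← mul_smul, ← mul_smul, h'']
  by_cases hc : n • (n • a) = a
  · -- `n` swaps `a` and `b`
    obtain ⟨e, heX, hea, heb, -, -⟩ := hX4 a haX (n • a) hbX a haX a haX
    have hfX : n • e ∈ X := hinv n e heX
    have hef : e ≠ n • e := fun h => hfix e heX h.symm
    have haf : a ≠ n • e := by
      intro h
      apply heb
      have h1 : n • e = n • (n • a) := by rw [hc]; exact h.symm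
      exact MulAction.injective n h1
    have hbf : n • a ≠ n • e := by
      intro h
      exact hea (MulAction.injective n h).symm
    obtain ⟨f', hf'X, hf'a, hf'b, hf'e, hf'f⟩ := hX4 a haX (n • a) hbX e heX (n • e) hfX
    obtain ⟨g, hga, hgb, hge, hgf⟩ := h4 a haX (n • a) hbX e heX (n • e) hfX f' hf'X hab
      (Ne.symm hea) (Ne.symm heb) haf hbf hef (Ne.symm hf'a) (Ne.symm hf'b) (Ne.symm hf'e)
    refine ⟨a, haX, n⁻¹ * (g⁻¹ * n * g), hmem g, ?_, key g hga hgb⟩
    intro h1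
    have h2 := hcomm g h1 e
    rw [hge, hgf] at h2
    exact hf'f h2.symm
  · have hcX : n • (n • a) ∈ X := hinv n _ hbX
    have hbc : n • a ≠ n • (n • a) := fun h => hfix (n • a) hbX h.symm
    obtain ⟨c', hc'X, hc'a, hc'b, hc'c, -⟩ := hX4 a haX (n • a) hbX (n • (n • a)) hcX a haX
    obtain ⟨g, hga, hgb, hgc⟩ := h3 a haX (n • a) hbX (n • (n • a)) hcX c' hc'X hab
      (Ne.symm hc) hbc (Ne.symm hc'a) (Ne.symm hc'b)
    refine ⟨a, haX, n⁻¹ * (g⁻¹ * n * g), hmem g, ?_, key g hga hgb⟩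
    intro h1
    have h2 := hcomm g h1 (n • a)
    rw [hgb, hgc] at h2
    exact hc'c h2.symm

/-- first form of the criterion: 2-transitive of degree divisible by the prime -/
theorem isSimpleGroup_of_two_transitive [Finite G] (p : ℕ) [hp : Fact p.Prime]
    (hcard : (Nat.card G).factorization p = 1) (σ : G) (hσ : orderOf σ = p)
    (hcl : Subgroup.normalClosure {σ} = ⊤) (X : Set Ω) (hXp : p ∣ X.ncard)
    (hfaith : ∀ g : G, (∀ x ∈ X, g • x = x) → g = 1)
    (hinv : ∀ g : G, ∀ x ∈ X, g • x ∈ X)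
    (h2 : ∀ a ∈ X, ∀ b ∈ X, ∀ c ∈ X, a ≠ b → a ≠ c → ∃ g : G, g • a = a ∧ g • b = c) :
    IsSimpleGroup G :=
  isSimpleGroup_of_prime p hcard σ hσ hcl
    (fun N hNn hN => hXp.trans (dvd_card_of_normal X hfaith hinv h2 N hNn hN))

/-- second form of the criterion: 4-transitive of degree one more than the prime -/
theorem isSimpleGroup_of_four_transitive [Finite G] (p : ℕ) [hp : Fact p.Prime]
    (hcard : (Nat.card G).factorization p = 1) (σ : G) (hσ : orderOf σ = p)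
    (hcl : Subgroup.normalClosure {σ} = ⊤) (X : Set Ω) [Finite X] (hXp : X.ncard = p + 1)
    (hfaith : ∀ g : G, (∀ x ∈ X, g • x = x) → g = 1)
    (hinv : ∀ g : G, ∀ x ∈ X, g • x ∈ X)
    (h3 : ∀ a ∈ X, ∀ b ∈ X, ∀ c ∈ X, ∀ c' ∈ X, a ≠ b → a ≠ c → b ≠ c → a ≠ c' → b ≠ c' →
      ∃ g : G, g • a = a ∧ g • b = b ∧ g • c = c')
    (h4 : ∀ a ∈ X, ∀ b ∈ X, ∀ e ∈ X, ∀ f ∈ X, ∀ f' ∈ X, a ≠ b → a ≠ e → b ≠ e → a ≠ f → b ≠ f →
      e ≠ f → a ≠ f' → b ≠ f' → e ≠ f' → ∃ g : G, g • a = a ∧ g • b = b ∧ g • e = e ∧ g • f = f')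
    (hX4 : ∀ a ∈ X, ∀ b ∈ X, ∀ c ∈ X, ∀ e ∈ X, ∃ f ∈ X, f ≠ a ∧ f ≠ b ∧ f ≠ c ∧ f ≠ e) :
    IsSimpleGroup G := by
  apply isSimpleGroup_of_prime p hcard σ hσ hcl
  intro N hNn hN
  obtain ⟨a, haX, n, hn, hn1, hna⟩ := exists_fixing_of_normal X hfaith hinv h3 h4 hX4 N hNn hN
  -- the stabilizer of `a` acting on the other points of `X`
  have hB := dvd_card_of_normal (G := MulAction.stabilizer G a) (X \ {a})
    (by
      intro g hg
      apply Subtype.ext
      apply hfaith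
      intro x hx
      by_cases hxa : x = a
      · rw [hxa]; exact g.2
      · exact hg x ⟨hx, hxa⟩)
    (by
      intro g x hx
      refine ⟨hinv g.1 x hx.1, ?_⟩
      intro h
      apply hx.2
      have h1 : g.1 • x = g.1 • a := by rw [g.2]; exact h
      exact MulAction.injective g.1 h1)
    (by
      intro b hb c hc c' hc' hbc hbc'
      obtain ⟨g, hga, hgb, hgc⟩ := h3 a haX b hb.1 c hc.1 c' hc'.1 (Ne.symm hb.2) (Ne.symm hc.2) hbc
        (Ne.symm hc'.2) hbc'
      exact ⟨⟨g, hga⟩, hgb, hgc⟩)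
    (N.subgroupOf (MulAction.stabilizer G a)) inferInstance
    (by
      intro h
      have h1 : (⟨n, hna⟩ : MulAction.stabilizer G a) ∈ N.subgroupOf (MulAction.stabilizer G a) :=
        Subgroup.mem_subgroupOf.mpr hn
      rw [h, Subgroup.mem_bot] at h1
      exact hn1 (congrArg Subtype.val h1))
  have hcardX : (X \ {a}).ncard = p := by
    rw [Set.ncard_sdiff_singleton_of_mem haX, hXp, Nat.add_sub_cancel]
  rw [hcardX] at hB
  refine hB.trans ?_
  rw [← Subgroup.inf_subgroupOf_right, Nat.card_congr (Subgroup.subgroupOfEquivOfLe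
    (inf_le_right : N ⊓ MulAction.stabilizer G a ≤ _)).toEquiv]
  exact Subgroup.card_dvd_of_le inf_le_left

end Cfsg.Agent.Lib.Helper6.SimpleCrit
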