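import Cfsg.Agent.Lib.Helper6.GolayM12c
import Cfsg.Agent.Lib.Helper6.SimpleCrit

/-!
# Normal closure certificates (pair straight-line programs) and the simplicity wrapper
-/

set_option autoImplicit false

namespace Cfsg.Agent.Lib.Helper6.Golay

open Cfsg
open Cfsg.Agent.Lib.Helper6.PermChain

/-! ### filtering by fixed points -/

/-- replace the elements not fixing the given indices by the identity -/
def fixFilter (E : List (List ℕ)) (fixed : List ℕ) : List (List ℕ) :=
  E.map (fun s => if fixesAll s fixed then s else idl)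

theorem mem_fixL_of_fixesAll {H : Subgroup (Equiv.Perm GolayPt)} {s : List ℕ} {fixed : List ℕ}
    {h : Equiv.Perm GolayPt} (hh : h ∈ H) (ws : wf s = true) (hhs : ⇑h = lfun s)
    (hfix : fixesAll s fixed = true) : h ∈ fixL H (fixed.map pt) := by
  rw [mem_fixL]
  refine ⟨hh, ?_⟩
  intro x hx
  rw [List.mem_map] at hx
  obtain ⟨b, hb, rfl⟩ := hx
  rw [fixesAll, List.all_eq_true] at hfix
  have := hfix b hb
  rw [beq_iff_eq] at this
  rw [hhs, lfun]
  by_cases hb24 : b < 24
  · rw [idx_pt b hb24, this]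
  · have hws := (wf_iff s).mp ws
    have : s.getD b 0 = 0 := by
      rw [List.getD_eq_default]; omega
    omega

theorem rep_fixFilter {H : Subgroup (Equiv.Perm GolayPt)} {E : List (List ℕ)}
    (hE : ∀ l ∈ E, Rep H l) (fixed : List ℕ) :
    ∀ l ∈ fixFilter E fixed, Rep (fixL H (fixed.map pt)) l := by
  intro l hl
  rw [fixFilter, List.mem_map] at hl
  obtain ⟨s, hs, rfl⟩ := hl
  split_ifs with h
  · obtain ⟨ws, g, hg, hgs⟩ := hE s hs
    exact ⟨ws, g, mem_fixL_of_fixesAll hg ws hgs h, hgs⟩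
  · exact Rep.one _

/-! ### pairs -/

/-- `l` and `l'` represent elements `a`, `b` of `K` with `a * b⁻¹ ∈ N` -/
def Rep2 (K N : Subgroup (Equiv.Perm GolayPt)) (l l' : List ℕ) : Prop :=
  wf l = true ∧ wf l' = true ∧ ∃ a ∈ K, ∃ b ∈ K, a * b⁻¹ ∈ N ∧ ⇑a = lfun l ∧ ⇑b = lfun l'

theorem Rep2.one (K N : Subgroup (Equiv.Perm GolayPt)) : Rep2 K N idl idl :=
  ⟨wf_idl, wf_idl, 1, K.one_mem, 1, K.one_mem, by simp [N.one_mem],
    by rw [lfun_idl]; rfl, by rw [lfun_idl]; rfl⟩

theorem Rep2.of_rep {K : Subgroup (Equiv.Perm GolayPt)} (N : Subgroup (Equiv.Perm GolayPt))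
    {l : List ℕ} (h : Rep K l) : Rep2 K N l l := by
  obtain ⟨wl, g, hg, hgl⟩ := h
  exact ⟨wl, wl, g, hg, g, hg, by simp [N.one_mem], hgl, hgl⟩

theorem Rep2.of_repN {K N : Subgroup (Equiv.Perm GolayPt)} (hNK : N ≤ K)
    {l : List ℕ} (h : Rep N l) : Rep2 K N l idl := by
  obtain ⟨wl, g, hg, hgl⟩ := h
  exact ⟨wl, wf_idl, g, hNK hg, 1, K.one_mem, by simpa using hg, hgl, by rw [lfun_idl]; rfl⟩

theorem Rep2.mul {K N : Subgroup (Equiv.Perm GolayPt)}
    (hnorm : ∀ g ∈ K, ∀ n ∈ N, g * n * g⁻¹ ∈ N) {a a' b b' : List ℕ}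
    (h1 : Rep2 K N a a') (h2 : Rep2 K N b b') : Rep2 K N (lmul a b) (lmul a' b') := by
  obtain ⟨wa, wa', x, hx, x', hx', hxx, hxa, hxa'⟩ := h1
  obtain ⟨wb, wb', y, hy, y', hy', hyy, hyb, hyb'⟩ := h2
  refine ⟨wf_lmul wa wb, wf_lmul wa' wb', x * y, K.mul_mem hx hy, x' * y', K.mul_mem hx' hy', ?_,
    ?_, ?_⟩
  · have e : x * y * (x' * y')⁻¹ = (x * (y * y'⁻¹) * x⁻¹) * (x * x'⁻¹) := by group
    rw [e]
    exact N.mul_mem (hnorm x hx _ hyy) hxx
  · rw [lfun_lmul a wb, ← hxa, ← hyb]; rfl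
  · rw [lfun_lmul a' wb', ← hxa', ← hyb']; rfl

theorem getD_append_singleton {α : Type*} (E : List α) (z d : α) (i : ℕ) :
    (E ++ [z]).getD i d = if i < E.length then E.getD i d else if i = E.length then z else d := by
  split_ifs with h1 h2
  · rw [List.getD_eq_getElem _ _ (by simp; omega), List.getElem_append_left h1,
      List.getD_eq_getElem _ _ h1]
  · subst h2
    rw [List.getD_eq_getElem _ _ (by simp), List.getElem_append_right (le_refl _)]
    simp
  · rw [List.getD_eq_default _ _ (by simp; omega)]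

/-- the pair invariant for two parallel lists -/
def Rep2All (K N : Subgroup (Equiv.Perm GolayPt)) (E E' : List (List ℕ)) : Prop :=
  E.length = E'.length ∧ ∀ i, Rep2 K N (E.getD i idl) (E'.getD i idl)

theorem rep2_slpRun {K N : Subgroup (Equiv.Perm GolayPt)}
    (hnorm : ∀ g ∈ K, ∀ n ∈ N, g * n * g⁻¹ ∈ N) (prog : List (ℕ × ℕ)) (E E' : List (List ℕ))
    (h : Rep2All K N E E') : Rep2All K N (slpRun E prog) (slpRun E' prog) := by
  induction prog generalizing E E' with
  | nil => exact h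
  | cons ij prog ih =>
    rw [slpRun, List.foldl_cons, slpRun, List.foldl_cons]
    apply ih
    obtain ⟨hlen, hall⟩ := h
    refine ⟨by simp [slpStep, hlen], ?_⟩
    intro i
    rw [slpStep, slpStep, getD_append_singleton, getD_append_singleton, ← hlen]
    split_ifs with h1 h2
    · exact hall i
    · exact Rep2.mul hnorm (hall _) (hall _)
    · exact Rep2.one K N

/-- keep the first components whose second component is the identity -/
def normFilter (E E' : List (List ℕ)) : List (List ℕ) :=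
  List.zipWith (fun s s' => if s' == idl then s else idl) E E'

theorem eq_one_of_lfun_idl {b : Equiv.Perm GolayPt} (h : ⇑b = lfun idl) : b = 1 := by
  apply Equiv.ext
  intro x
  rw [h, lfun_idl]; rfl

theorem rep_normFilter {K N : Subgroup (Equiv.Perm GolayPt)} {E E' : List (List ℕ)}
    (h : Rep2All K N E E') : ∀ l ∈ normFilter E E', Rep N l := by
  intro l hl
  rw [normFilter] at hl
  obtain ⟨i, hi, rfl⟩ := List.mem_iff_getElem.mp hl
  rw [List.getElem_zipWith]
  have hi1 : i < E.length := by simp at hi; omega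
  have hi2 : i < E'.length := by simp at hi; omega
  split_ifs with hc
  · have := h.2 i
    rw [List.getD_eq_getElem _ _ hi1, List.getD_eq_getElem _ _ hi2] at this
    obtain ⟨wl, -, a, -, b, -, hab, hal, hbl⟩ := this
    rw [beq_iff_eq] at hc
    rw [hc] at hbl
    rw [eq_one_of_lfun_idl hbl, inv_one, mul_one] at hab
    exact ⟨wl, a, hab, hal⟩
  · exact Rep.one N

/-! ### the chain argument -/

theorem le_of_chain {Ω : Type*} [DecidableEq Ω] (K N : Subgroup (Equiv.Perm Ω)) (bs : List Ω)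
    (hbot : fixL K bs = ⊥) (hNK : N ≤ K)
    (h : ∀ k (hk : k < bs.length), ∀ g ∈ fixL K (bs.take k),
      ∃ u ∈ fixL N (bs.take k), u (bs[k]) = g (bs[k])) : K ≤ N := by
  have key : ∀ j, j ≤ bs.length → fixL K (bs.take (bs.length - j)) ≤ N := by
    intro j
    induction j with
    | zero =>
      intro _
      rw [Nat.sub_zero, List.take_length, hbot]
      exact bot_le
    | succ j ih =>
      intro hj
      have ih' := ih (by omega)
      have hk : bs.length - (j + 1) < bs.length := by omega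
      have e : bs.length - j = (bs.length - (j + 1)) + 1 := by omega
      rw [e, List.take_succ_eq_append_getElem hk] at ih'
      intro g hg
      obtain ⟨u, hu, hub⟩ := h _ hk g hg
      have hu' := mem_fixL.mp hu
      have hg' := mem_fixL.mp hg
      have hmem : u⁻¹ * g ∈ fixL K (bs.take (bs.length - (j + 1)) ++ [bs[bs.length - (j + 1)]]) := by
        rw [mem_fixL]
        refine ⟨K.mul_mem (K.inv_mem (hNK hu'.1)) hg'.1, ?_⟩
        intro x hx
        rw [List.mem_append, List.mem_singleton] at hx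
        rw [Equiv.Perm.mul_apply]
        rcases hx with hx | rfl
        · rw [hg'.2 x hx, Equiv.Perm.inv_eq_iff_eq, hu'.2 x hx]
        · rw [← hub]; exact Equiv.symm_apply_apply u _
      have := N.mul_mem hu'.1 (ih' hmem)
      simpa using this
  have := key bs.length le_rfl
  rw [Nat.sub_self, List.take_zero, fixL_nil] at this
  exact this

/-- **The normal closure certificate.** -/
theorem le_of_cert (K : Subgroup (Equiv.Perm GolayPt)) (gensK : List (List ℕ))
    (hK : ∀ l ∈ gensK, Rep K l) (isig : ℕ) (prog : List (ℕ × ℕ)) (bs : List ℕ)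
    (trees : List (List (ℕ × ℕ))) (orbs : List (List ℕ))
    (hchain : chainCheck (normFilter (slpRun (gensK ++ [gensK.getD isig idl]) prog)
        (slpRun (gensK ++ [idl]) prog)) bs trees orbs = true)
    (hbot : fixL K (bs.map pt) = ⊥)
    (horb : ∀ k, k < bs.length → ∀ g ∈ fixL K ((bs.take k).map pt),
        idx (g (pt (bs.getD k 0))) ∈ orbs.getD k [])
    (N : Subgroup (Equiv.Perm GolayPt)) (hNK : N ≤ K)
    (hnorm : ∀ g ∈ K, ∀ n ∈ N, g * n * g⁻¹ ∈ N)
    (hsig : Rep N (gensK.getD isig idl)) : K ≤ N := by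
  have h0 : Rep2All K N (gensK ++ [gensK.getD isig idl]) (gensK ++ [idl]) := by
    refine ⟨by simp, ?_⟩
    intro i
    rw [getD_append_singleton, getD_append_singleton]
    split_ifs with h1 h2
    · exact Rep2.of_rep N (rep_getD hK i)
    · exact Rep2.of_repN hNK hsig
    · exact Rep2.one K N
  have hE := rep_normFilter (rep2_slpRun hnorm prog _ _ h0)
  apply le_of_chain K N (bs.map pt) hbot hNK
  intro k hk g hg
  have hk' : k < bs.length := by simpa using hk
  rw [← List.map_take] at hg ⊢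
  have hq := horb k hk' g hg
  obtain ⟨_, u, hu, huq⟩ := reach_of_chainCheck hE hchain k hk' _ hq
  refine ⟨u, hu, ?_⟩
  rw [List.getElem_map, ← List.getD_eq_getElem bs 0 hk', huq, pt_idx]

theorem normalClosure_eq_top_of_le {K : Subgroup (Equiv.Perm GolayPt)} (σ : ↥K)
    (h : ∀ N : Subgroup (Equiv.Perm GolayPt), N ≤ K → (∀ g ∈ K, ∀ n ∈ N, g * n * g⁻¹ ∈ N) →
      σ.1 ∈ N → K ≤ N) : Subgroup.normalClosure {σ} = ⊤ := by
  have hle := h ((Subgroup.normalClosure {σ}).map K.subtype) (Subgroup.map_subtype_le _)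
    (by
      intro g hg n hn
      obtain ⟨n0, hn0, rfl⟩ := Subgroup.mem_map.mp hn
      refine Subgroup.mem_map.mpr ⟨⟨g, hg⟩ * n0 * ⟨g, hg⟩⁻¹, ?_, rfl⟩
      exact Subgroup.normalClosure_normal.conj_mem n0 hn0 _)
    (Subgroup.mem_map.mpr ⟨σ, Subgroup.subset_normalClosure rfl, rfl⟩)
  rw [eq_top_iff]
  intro x _
  obtain ⟨y, hy, hyx⟩ := Subgroup.mem_map.mp (hle x.2)
  have : y = x := Subtype.ext hyx
  rw [← this]; exact hy

/-! ### orders of elements -/

/-- powers of a list permutation -/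
def lpow (l : List ℕ) : ℕ → List ℕ
  | 0 => idl
  | n + 1 => lmul (lpow l n) l

theorem lfun_lpow {g : Equiv.Perm GolayPt} {l : List ℕ} (wl : wf l = true) (h : ⇑g = lfun l)
    (n : ℕ) : ⇑(g ^ n) = lfun (lpow l n) := by
  induction n with
  | zero => rw [pow_zero, lpow, lfun_idl]; rfl
  | succ n ih => rw [pow_succ, lpow, lfun_lmul _ wl, ← ih, ← h]; rfl

theorem orderOf_eq_of_lpow {g : Equiv.Perm GolayPt} {l : List ℕ} (wl : wf l = true)
    (h : ⇑g = lfun l) (p : ℕ) [Fact p.Prime] (hp : lpow l p = idl) (j : ℕ)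
    (hj : lfun l (pt j) ≠ pt j) : orderOf g = p := by
  apply orderOf_eq_prime
  · apply eq_one_of_lfun_idl
    rw [← hp]
    exact lfun_lpow wl h p
  · intro h1
    apply hj
    rw [← h, h1]; rfl

theorem factorization_eq_one {n p m : ℕ} (hp : p.Prime) (h : n = p * m) (hm : ¬ p ∣ m)
    (hm0 : m ≠ 0) : n.factorization p = 1 := by
  rw [h, Nat.factorization_mul hp.ne_zero hm0, Finsupp.add_apply, hp.factorization_self,
    Nat.factorization_eq_zero_of_not_dvd hm]

/-! ### the wrappers -/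

/-- simplicity of a permutation group on the 24 points, 2-transitive case -/
theorem isSimpleGroup_two {K : Subgroup (Equiv.Perm GolayPt)} (p : ℕ) [hp : Fact p.Prime] (m : ℕ)
    (hcard : Nat.card K = p * m) (hm : ¬ p ∣ m) (hm0 : m ≠ 0)
    (σ : ↥K) (hσ : orderOf σ = p) (hcl : Subgroup.normalClosure {σ} = ⊤)
    (X : Set GolayPt) (hXp : p ∣ X.ncard)
    (hfaith : ∀ g ∈ K, (∀ x ∈ X, g x = x) → g = 1) (hinv : ∀ g ∈ K, ∀ x ∈ X, g x ∈ X)
    (h2 : ∀ a ∈ X, ∀ b ∈ X, ∀ c ∈ X, a ≠ b → a ≠ c → ∃ g ∈ K, g a = a ∧ g b = c) :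
    IsSimpleGroup ↥K := by
  apply SimpleCrit.isSimpleGroup_of_two_transitive (Ω := GolayPt) p
    (factorization_eq_one hp.out hcard hm hm0) σ hσ hcl X hXp
  · intro g hg
    exact Subtype.ext (hfaith g.1 g.2 hg)
  · intro g x hx
    exact hinv g.1 g.2 x hx
  · intro a ha b hb c hc hab hac
    obtain ⟨g, hg, h1, h2⟩ := h2 a ha b hb c hc hab hac
    exact ⟨⟨g, hg⟩, h1, h2⟩

/-- three distinct points as an embedding -/
def emb3 (a b c : GolayPt) (hab : a ≠ b) (hac : a ≠ c) (hbc : b ≠ c) : Fin 3 ↪ GolayPt :=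
  ⟨![a, b, c], by intro i j h; fin_cases i <;> fin_cases j <;> simp_all⟩

/-- four distinct points as an embedding -/
def emb4 (a b c d : GolayPt) (hab : a ≠ b) (hac : a ≠ c) (had : a ≠ d) (hbc : b ≠ c) (hbd : b ≠ d)
    (hcd : c ≠ d) : Fin 4 ↪ GolayPt :=
  ⟨![a, b, c, d], by intro i j h; fin_cases i <;> fin_cases j <;> simp_all⟩

/-- simplicity of a permutation group on the 24 points, 4-transitive case -/
theorem isSimpleGroup_four {K : Subgroup (Equiv.Perm GolayPt)} (p : ℕ) [hp : Fact p.Prime] (m : ℕ)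
    (hcard : Nat.card K = p * m) (hm : ¬ p ∣ m) (hm0 : m ≠ 0)
    (σ : ↥K) (hσ : orderOf σ = p) (hcl : Subgroup.normalClosure {σ} = ⊤)
    (X : Set GolayPt) (hXp : X.ncard = p + 1) (h5 : 5 ≤ X.ncard)
    (hfaith : ∀ g ∈ K, (∀ x ∈ X, g x = x) → g = 1) (hinv : ∀ g ∈ K, ∀ x ∈ X, g x ∈ X)
    (h3 : ∀ x y : Fin 3 ↪ GolayPt, (∀ i, x i ∈ X) → (∀ i, y i ∈ X) →
      ∃ g ∈ K, ∀ i, g (x i) = y i)
    (h4 : ∀ x y : Fin 4 ↪ GolayPt, (∀ i, x i ∈ X) → (∀ i, y i ∈ X) →
      ∃ g ∈ K, ∀ i, g (x i) = y i) : IsSimpleGroup ↥K := by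
  have : Finite X := Set.toFinite X
  apply SimpleCrit.isSimpleGroup_of_four_transitive (Ω := GolayPt) p
    (factorization_eq_one hp.out hcard hm hm0) σ hσ hcl X hXp
  · intro g hg
    exact Subtype.ext (hfaith g.1 g.2 hg)
  · intro g x hx
    exact hinv g.1 g.2 x hx
  · intro a ha b hb c hc c' hc' hab hac hbc hac' hbc'
    obtain ⟨g, hg, hgxy⟩ := h3 (emb3 a b c hab hac hbc) (emb3 a b c' hab hac' hbc')
      (by intro i; fin_cases i <;> assumption) (by intro i; fin_cases i <;> assumption)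
    exact ⟨⟨g, hg⟩, hgxy 0, hgxy 1, hgxy 2⟩
  · intro a ha b hb e he f hf f' hf' hab hae hbe haf hbf hef haf' hbf' hef'
    obtain ⟨g, hg, hgxy⟩ := h4 (emb4 a b e f hab hae haf hbe hbf hef)
      (emb4 a b e f' hab hae haf' hbe hbf' hef')
      (by intro i; fin_cases i <;> assumption) (by intro i; fin_cases i <;> assumption)
    exact ⟨⟨g, hg⟩, hgxy 0, hgxy 1, hgxy 2, hgxy 3⟩
  · intro a _ b _ c _ e _
    have hlt : ({a, b, c, e} : Set GolayPt).ncard < X.ncard := by
      have h1 : ({a, b, c, e} : Set GolayPt).ncard ≤ 4 := by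
        refine (Set.ncard_insert_le _ _).trans ?_
        have h2 : ({b, c, e} : Set GolayPt).ncard ≤ 3 := by
          refine (Set.ncard_insert_le _ _).trans ?_
          have h3 : ({c, e} : Set GolayPt).ncard ≤ 2 := by
            refine (Set.ncard_insert_le _ _).trans ?_
            rw [Set.ncard_singleton]
          omega
        omega
      omega
    obtain ⟨f, hfX, hf⟩ := Set.exists_mem_notMem_of_ncard_lt_ncard hlt (Set.toFinite _)
    simp only [Set.mem_insert_iff, Set.mem_singleton_iff, not_or] at hf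
    exact ⟨f, hfX, hf.1, hf.2.1, hf.2.2.1, hf.2.2.2⟩

/-- transitivity on shorter tuples from a chain -/
theorem exists_map_of_chain_on_take (H : Subgroup (Equiv.Perm GolayPt)) (D : Set GolayPt)
    (hD : ∀ g ∈ H, ∀ p, g p ∈ D ↔ p ∈ D) (bs : List GolayPt)
    (hchain : ∀ k (hk : k < bs.length), ∀ q ∈ D, q ∉ bs.take k →
      ∃ g ∈ fixL H (bs.take k), g (bs[k]) = q) (n : ℕ) (hn : n ≤ bs.length)
    (x y : Fin n ↪ GolayPt) (hx : ∀ i, x i ∈ D) (hy : ∀ i, y i ∈ D) :
    ∃ g ∈ H, ∀ i, g (x i) = y i := by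
  have hlen : (bs.take n).length = n := by rw [List.length_take]; omega
  have hc : ∀ k (hk : k < (bs.take n).length), ∀ q ∈ D, q ∉ (bs.take n).take k →
      ∃ g ∈ fixL H ((bs.take n).take k), g ((bs.take n)[k]) = q := by
    intro k hk q hq hqn
    have hk' : k < n := hlen ▸ hk
    rw [List.take_take, min_eq_left hk'.le] at hqn ⊢
    rw [List.getElem_take]
    exact hchain k (by omega) q hq hqn
  have := exists_map_of_chain_on H D hD (bs.take n) hc
  rw [hlen] at this
  exact this x y hx hy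

/-- conjugation isomorphism from a subgroup of `M24` in general position to one in reference
position -/
def conjMulEquiv {t : Equiv.Perm GolayPt} (ht : t ∈ M24) (H : Subgroup ↥M24)
    (K : Subgroup (Equiv.Perm GolayPt)) (hK : K ≤ M24)
    (h : ∀ g : ↥M24, g ∈ H ↔ t⁻¹ * g.1 * t ∈ K) : ↥H ≃* ↥K where
  toFun g := ⟨t⁻¹ * g.1.1 * t, (h g.1).mp g.2⟩
  invFun k := ⟨⟨t * k.1 * t⁻¹, M24.mul_mem (M24.mul_mem ht (hK k.2)) (M24.inv_mem ht)⟩,
    (h _).mpr (by simp [mul_assoc])⟩
  left_inv g := by apply Subtype.ext; apply Subtype.ext; simp [mul_assoc]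
  right_inv k := by apply Subtype.ext; simp [mul_assoc]
  map_mul' g g' := by apply Subtype.ext; simp [mul_assoc]

end Cfsg.Agent.Lib.Helper6.Golay
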