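import Cfsg.Agent.Lib.Helper6.GolayDuad22
import Cfsg.Agent.Lib.Helper6.GolaySimple

/-!
# The two-point stabilizer on duads: general position
-/

set_option autoImplicit false

namespace Cfsg.Agent.Lib.Helper6.Golay

open Cfsg
open Cfsg.Agent.Lib.Helper6.PermChain
open scoped Pointwise

theorem fs_six : fs 6 = {pt 1, pt 2} := by decide
theorem fs_pq0 : fs 8388609 = {pt 23, pt 0} := by decide
theorem fs_p0 : fs 8388608 = {pt 23} := by decide
theorem fs_q0 : fs 1 = {pt 0} := by decide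
theorem fs_refD22 : fs refD22 = fs 8388609 ∪ fs 6 := by decide

theorem hx_iff (p q : GolayPt) (s x : Finset GolayPt) :
    (∃ o ∈ octads, p ∈ o ∧ q ∈ o ∧ s ∪ x ⊆ o) ↔ InOct ({p, q} ∪ s) x := by
  unfold InOct
  constructor
  · rintro ⟨o, ho, hp, hq, h⟩
    refine ⟨o, ho, ?_⟩
    intro y hy
    simp only [Finset.mem_union, Finset.mem_insert, Finset.mem_singleton] at hy
    rcases hy with ((rfl | rfl) | hy) | hy
    · exact hp
    · exact hq
    · exact h (Finset.mem_union_left _ hy)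
    · exact h (Finset.mem_union_right _ hy)
  · rintro ⟨o, ho, h⟩
    refine ⟨o, ho, h (by simp), h (by simp), ?_⟩
    intro y hy
    rw [Finset.mem_union] at hy
    rcases hy with hy | hy
    · exact h (by simp [hy])
    · exact h (by simp [hy])

theorem avoid_iff (p q : GolayPt) (x : Finset GolayPt) :
    (p ∉ x ∧ q ∉ x) ↔ Disjoint ({p, q} : Finset GolayPt) x := by
  rw [Finset.disjoint_insert_left, Finset.disjoint_singleton_left]

/-- the count of the duads disjoint from the reference points and duad, by hexad type -/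
theorem ncard_duads22 {t : Equiv.Perm GolayPt} (ht : t ∈ M24) (e : Bool) :
    {x : Finset GolayPt | x.card = 2 ∧ (Disjoint (t • fs 8388609) x ∧ Disjoint (t • fs 6) x ∧
      (InOct (t • fs refD22) x ↔ e = true))}.ncard =
    ((gen 24 2).filter (fun n => (8388609 &&& n == 0) && ((6 &&& n == 0) &&
      (inHex n == e)))).length := by
  have h1 := ncard_smul_transfer ht {x : Finset GolayPt | x.card = 2}
    (fun g _ x hx => by
      rw [Set.mem_ofPred_eq] at hx ⊢
      rw [Finset.card_smul_finset]; exact hx)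
    (fun U => Disjoint (fs 8388609) U ∧ Disjoint (fs 6) U ∧ (InOct (fs refD22) U ↔ e = true))
    (fun U => Disjoint (t • fs 8388609) U ∧ Disjoint (t • fs 6) U ∧
      (InOct (t • fs refD22) U ↔ e = true))
    (fun x => by rw [disjoint_smul_iff, disjoint_smul_iff, inOct_smul ht])
  have h2 := ncard_subsets_filter 2
    (fun U => Disjoint (fs 8388609) U ∧ Disjoint (fs 6) U ∧ (InOct (fs refD22) U ↔ e = true))
    (fun n => (8388609 &&& n == 0) && ((6 &&& n == 0) && (inHex n == e)))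
    (fun n hn => by
      rw [fs_disjoint_iff (by decide), fs_disjoint_iff (by decide), inHex_iff hn, Bool.and_eq_true,
        Bool.and_eq_true, beq_iff_eq, beq_iff_eq, beq_iff_eq]
      cases e <;> cases inHex n <;> simp)
  exact h1.trans h2

/-- **The stabilizer of two points and a duad of the other 22 points: counts and transitivity.** -/
theorem duad22_main (p q : GolayPt) (hpq : p ≠ q) (s : Finset GolayPt)
    (hs : s.card = 2 ∧ p ∉ s ∧ q ∉ s) :
    {t : Finset GolayPt | (t.card = 2 ∧ p ∉ t ∧ q ∉ t) ∧ Disjoint s t ∧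
      (∃ o ∈ octads, p ∈ o ∧ q ∈ o ∧ s ∪ t ⊆ o)}.ncard = 30 ∧
    {t : Finset GolayPt | (t.card = 2 ∧ p ∉ t ∧ q ∉ t) ∧ Disjoint s t ∧
      ¬ (∃ o ∈ octads, p ∈ o ∧ q ∈ o ∧ s ∪ t ⊆ o)}.ncard = 160 ∧
    ∀ t t' : Finset GolayPt, (t.card = 2 ∧ p ∉ t ∧ q ∉ t) → (t'.card = 2 ∧ p ∉ t' ∧ q ∉ t') →
      t ≠ s → t' ≠ s → (s ∩ t).card = (s ∩ t').card →
      ((∃ o ∈ octads, p ∈ o ∧ q ∈ o ∧ s ∪ t ⊆ o) ↔ (∃ o ∈ octads, p ∈ o ∧ q ∈ o ∧ s ∪ t' ⊆ o)) →
      ∃ g : Equiv.Perm GolayPt, g ∈ M24 ∧ g p = p ∧ g q = q ∧ g • s = s ∧ g • t = t' := by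
  obtain ⟨hs2, hps, hqs⟩ := hs
  obtain ⟨a, b, hab, rfl⟩ := Finset.card_eq_two.mp hs2
  have hpa : p ≠ a := fun h => hps (by simp [h])
  have hpb : p ≠ b := fun h => hps (by simp [h])
  have hqa : q ≠ a := fun h => hqs (by simp [h])
  have hqb : q ≠ b := fun h => hqs (by simp [h])
  obtain ⟨τ, hτ, hτx⟩ := exists_M24_map (n := 4) (by norm_num)
    (emb4 (pt 23) (pt 0) (pt 1) (pt 2) (by decide) (by decide) (by decide) (by decide) (by decide)
      (by decide))
    (emb4 p q a b hpq hpa hpb hqa hqb hab)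
  have h23 : τ (pt 23) = p := hτx 0
  have h0 : τ (pt 0) = q := hτx 1
  have h1 : τ (pt 1) = a := hτx 2
  have h2 : τ (pt 2) = b := hτx 3
  have hs' : τ • fs 6 = {a, b} := by
    rw [fs_six, Finset.smul_finset_insert, Finset.smul_finset_singleton, Equiv.Perm.smul_def,
      Equiv.Perm.smul_def, h1, h2]
  have hpq' : τ • fs 8388609 = {p, q} := by
    rw [fs_pq0, Finset.smul_finset_insert, Finset.smul_finset_singleton, Equiv.Perm.smul_def,
      Equiv.Perm.smul_def, h23, h0]
  have hp' : τ • fs 8388608 = {p} := by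
    rw [fs_p0, Finset.smul_finset_singleton, Equiv.Perm.smul_def, h23]
  have hq' : τ • fs 1 = {q} := by
    rw [fs_q0, Finset.smul_finset_singleton, Equiv.Perm.smul_def, h0]
  have href : τ • fs refD22 = {p, q} ∪ {a, b} := by
    rw [fs_refD22, Finset.smul_finset_union, hpq', hs']
  refine ⟨?_, ?_, ?_⟩
  · have := ncard_duads22 hτ true
    rw [cntD22B, hpq', hs', href] at this
    rw [← this]
    congr 1
    ext x
    simp only [Set.mem_ofPred_eq]
    rw [avoid_iff, hx_iff]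
    simp [and_assoc]
  · have := ncard_duads22 hτ false
    rw [cntD22C, hpq', hs', href] at this
    rw [← this]
    congr 1
    ext x
    simp only [Set.mem_ofPred_eq]
    rw [avoid_iff, hx_iff]
    simp [and_assoc]
  · intro V V' hV hV' hVs hV's hcard hiff
    have key : ∀ W : Finset GolayPt, (W.card = 2 ∧ p ∉ W ∧ q ∉ W) → W ≠ {a, b} →
        maskOf (τ⁻¹ • W) < 2 ^ 24 ∧ pc 24 (maskOf (τ⁻¹ • W)) = 2 ∧
        8388609 &&& maskOf (τ⁻¹ • W) = 0 ∧ maskOf (τ⁻¹ • W) ≠ 6 ∧
        pc 24 (6 &&& maskOf (τ⁻¹ • W)) = (({a, b} : Finset GolayPt) ∩ W).card ∧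
        (inHex (maskOf (τ⁻¹ • W)) = true ↔ (∃ o ∈ octads, p ∈ o ∧ q ∈ o ∧ {a, b} ∪ W ⊆ o)) ∧
        fs (maskOf (τ⁻¹ • W)) = τ⁻¹ • W := by
      intro W hW hWs
      refine ⟨maskOf_lt _, ?_, ?_, ?_, ?_, ?_, fs_maskOf _⟩
      · rw [← card_fs, fs_maskOf, Finset.card_smul_finset, hW.1]
      · rw [← fs_disjoint_iff (by decide), fs_maskOf, ← disjoint_smul_iff τ, smul_inv_smul, hpq',
          ← avoid_iff]
        exact hW.2
      · intro h6
        apply hWs
        have : fs 6 = τ⁻¹ • W := by rw [← h6, fs_maskOf]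
        rw [← hs', this, smul_inv_smul]
      · rw [← card_fs, fs_and, fs_maskOf, ← hs', ← Finset.card_smul_finset τ,
          Finset.smul_finset_inter, smul_inv_smul]
      · rw [← inHex_iff (maskOf_lt _), fs_maskOf, ← inOct_smul hτ, smul_inv_smul, href, ← hx_iff]
    obtain ⟨a1, a2, a3, a4, a5, a6, a7⟩ := key V hV hVs
    obtain ⟨b1, b2, b3, b4, b5, b6, b7⟩ := key V' hV' hV's
    have hio : inHex (maskOf (τ⁻¹ • V)) = inHex (maskOf (τ⁻¹ • V')) := by
      have : inHex (maskOf (τ⁻¹ • V)) = true ↔ inHex (maskOf (τ⁻¹ • V')) = true := by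
        rw [a6, b6, hiff]
      cases h1 : inHex (maskOf (τ⁻¹ • V)) <;> cases h2 : inHex (maskOf (τ⁻¹ • V')) <;> simp_all
    have hkind : kindD22 (maskOf (τ⁻¹ • V)) = kindD22 (maskOf (τ⁻¹ • V')) := by
      rw [kindD22, kindD22, a5, b5, hcard, hio]
    obtain ⟨g0, hg0, hg0u⟩ := exists_stabD22_map a1 b1 a2 b2 a3 b3 a4 b4 hkind
    rw [a7, b7] at hg0u
    obtain ⟨g, hg, hgR, hgU⟩ := stab_transfer hτ ⟨g0, hg0, hg0u⟩
    refine ⟨g, hg, ?_, ?_, ?_, hgU⟩
    · have := hgR 8388608 (by simp [masksD22])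
      rw [hp', Finset.smul_finset_singleton, Finset.singleton_inj] at this
      exact this
    · have := hgR 1 (by simp [masksD22])
      rw [hq', Finset.smul_finset_singleton, Finset.singleton_inj] at this
      exact this
    · have := hgR 6 (by simp [masksD22])
      rw [hs'] at this
      exact this

end Cfsg.Agent.Lib.Helper6.Golay
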