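import Cfsg.Agent.Lib.Helper6.GolayFlag

/-!
# Transitivity of `M24` on three-step flags `A₁ ⊆ A₂ ⊆ B` of small subsets
-/

set_option autoImplicit false

namespace Cfsg.Agent.Lib.Helper6.Golay

open Cfsg
open Cfsg.Agent.Lib.Helper6.PermChain
open scoped Pointwise

theorem exists_M24_flag3 {A₁ A₂ B A₁' A₂' B' : Finset GolayPt} (h12 : A₁ ⊆ A₂) (h2B : A₂ ⊆ B)
    (h12' : A₁' ⊆ A₂') (h2B' : A₂' ⊆ B') (hA1 : A₁.card = A₁'.card) (hA2 : A₂.card = A₂'.card)
    (hB : B.card = B'.card) (hB5 : B.card ≤ 5) :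
    ∃ g ∈ M24, g • A₁ = A₁' ∧ g • A₂ = A₂' ∧ g • B = B' := by
  classical
  have hc2 : (A₂' \ A₁').card = (A₂ \ A₁).card := by
    rw [Finset.card_sdiff_of_subset h12', ← hA1, ← hA2, Finset.card_sdiff_of_subset h12]
  have hc3 : (B' \ A₂').card = (B \ A₂).card := by
    rw [Finset.card_sdiff_of_subset h2B', ← hA2, ← hB, Finset.card_sdiff_of_subset h2B]
  have hac : A₁.card + (A₂ \ A₁).card + (B \ A₂).card ≤ 5 := by
    rw [Finset.card_sdiff_of_subset h12, Finset.card_sdiff_of_subset h2B]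
    have := Finset.card_le_card h12
    have := Finset.card_le_card h2B
    omega
  obtain ⟨x1, hx1⟩ := exists_embedding_of_card (s := A₁) (n := A₁.card) rfl
  obtain ⟨x2, hx2⟩ := exists_embedding_of_card (s := A₂ \ A₁) (n := (A₂ \ A₁).card) rfl
  obtain ⟨x3, hx3⟩ := exists_embedding_of_card (s := B \ A₂) (n := (B \ A₂).card) rfl
  obtain ⟨y1, hy1⟩ := exists_embedding_of_card (s := A₁') (n := A₁.card) hA1.symm
  obtain ⟨y2, hy2⟩ := exists_embedding_of_card (s := A₂' \ A₁') (n := (A₂ \ A₁).card) hc2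
  obtain ⟨y3, hy3⟩ := exists_embedding_of_card (s := B' \ A₂') (n := (B \ A₂).card) hc3
  have hx12 : Function.Injective (Fin.append x1 x2) :=
    Fin.append_injective_iff.mpr ⟨x1.injective, x2.injective, fun i j h => by
      have h1 : x1 i ∈ A₁ := (hx1 _).mpr ⟨i, rfl⟩
      have h2 : x2 j ∈ A₂ \ A₁ := (hx2 _).mpr ⟨j, rfl⟩
      rw [← h, Finset.mem_sdiff] at h2
      exact h2.2 h1⟩
  have hy12 : Function.Injective (Fin.append y1 y2) :=
    Fin.append_injective_iff.mpr ⟨y1.injective, y2.injective, fun i j h => by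
      have h1 : y1 i ∈ A₁' := (hy1 _).mpr ⟨i, rfl⟩
      have h2 : y2 j ∈ A₂' \ A₁' := (hy2 _).mpr ⟨j, rfl⟩
      rw [← h, Finset.mem_sdiff] at h2
      exact h2.2 h1⟩
  have hx12mem : ∀ i, Fin.append x1 x2 i ∈ A₂ := by
    intro i
    refine Fin.addCases (fun l => ?_) (fun r => ?_) i
    · rw [Fin.append_left]; exact h12 ((hx1 _).mpr ⟨l, rfl⟩)
    · rw [Fin.append_right]; exact (Finset.mem_sdiff.mp ((hx2 _).mpr ⟨r, rfl⟩)).1
  have hy12mem : ∀ i, Fin.append y1 y2 i ∈ A₂' := by
    intro i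
    refine Fin.addCases (fun l => ?_) (fun r => ?_) i
    · rw [Fin.append_left]; exact h12' ((hy1 _).mpr ⟨l, rfl⟩)
    · rw [Fin.append_right]; exact (Finset.mem_sdiff.mp ((hy2 _).mpr ⟨r, rfl⟩)).1
  let x : Fin (A₁.card + (A₂ \ A₁).card + (B \ A₂).card) ↪ GolayPt :=
    ⟨Fin.append (Fin.append x1 x2) x3,
      Fin.append_injective_iff.mpr ⟨hx12, x3.injective, fun i j h => by
        have h2 : x3 j ∈ B \ A₂ := (hx3 _).mpr ⟨j, rfl⟩
        rw [← h, Finset.mem_sdiff] at h2
        exact h2.2 (hx12mem i)⟩⟩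
  let y : Fin (A₁.card + (A₂ \ A₁).card + (B \ A₂).card) ↪ GolayPt :=
    ⟨Fin.append (Fin.append y1 y2) y3,
      Fin.append_injective_iff.mpr ⟨hy12, y3.injective, fun i j h => by
        have h2 : y3 j ∈ B' \ A₂' := (hy3 _).mpr ⟨j, rfl⟩
        rw [← h, Finset.mem_sdiff] at h2
        exact h2.2 (hy12mem i)⟩⟩
  obtain ⟨g, hg, hgxy⟩ := exists_M24_map hac x y
  have e1 : g • A₁ = A₁' := by
    apply smul_eq_of_embeddings hx1 hy1
    intro i
    have := hgxy (Fin.castAdd _ (Fin.castAdd _ i))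
    simpa [x, y] using this
  have e2 : g • (A₂ \ A₁) = A₂' \ A₁' := by
    apply smul_eq_of_embeddings hx2 hy2
    intro i
    have := hgxy (Fin.castAdd _ (Fin.natAdd _ i))
    simpa [x, y] using this
  have e3 : g • (B \ A₂) = B' \ A₂' := by
    apply smul_eq_of_embeddings hx3 hy3
    intro i
    have := hgxy (Fin.natAdd _ i)
    simpa [x, y] using this
  have e12 : g • A₂ = A₂' := by
    rw [← Finset.union_sdiff_of_subset h12, Finset.smul_finset_union, e1, e2,
      Finset.union_sdiff_of_subset h12']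
  refine ⟨g, hg, e1, e12, ?_⟩
  rw [← Finset.union_sdiff_of_subset h2B, Finset.smul_finset_union, e12, e3,
    Finset.union_sdiff_of_subset h2B']

/-- two points and a 5-set containing them -/
theorem exists_M24_two_points {p q p' q' : GolayPt} (hpq : p ≠ q) (hpq' : p' ≠ q')
    {B B' : Finset GolayPt} (hp : p ∈ B) (hq : q ∈ B) (hp' : p' ∈ B') (hq' : q' ∈ B')
    (hB : B.card = 5) (hB' : B'.card = 5) :
    ∃ g ∈ M24, g p = p' ∧ g q = q' ∧ g • B = B' := by
  obtain ⟨g, hg, h1, h2, h3⟩ := exists_M24_flag3 (A₁ := {p}) (A₂ := {p, q}) (B := B)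
    (A₁' := {p'}) (A₂' := {p', q'}) (B' := B') (by simp)
    (by intro z hz; simp only [Finset.mem_insert, Finset.mem_singleton] at hz; rcases hz with rfl | rfl <;> assumption)
    (by simp)
    (by intro z hz; simp only [Finset.mem_insert, Finset.mem_singleton] at hz; rcases hz with rfl | rfl <;> assumption)
    (by simp) (by rw [Finset.card_pair hpq, Finset.card_pair hpq']) (by rw [hB, hB']) (by rw [hB])
  have hgp : g p = p' := by
    rw [Finset.smul_finset_singleton] at h1
    exact Finset.singleton_injective h1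
  refine ⟨g, hg, hgp, ?_, h3⟩
  have : g q ∈ ({p', q'} : Finset GolayPt) := by
    rw [← h2, Finset.mem_smul_finset]
    exact ⟨q, by simp, rfl⟩
  simp only [Finset.mem_insert, Finset.mem_singleton] at this
  rcases this with h | h
  · exact absurd (g.injective (h.trans hgp.symm)) (Ne.symm hpq)
  · exact h

/-- `M24` is 2-transitive, in the form used below -/
theorem exists_M24_pair {p q p' q' : GolayPt} (hpq : p ≠ q) (hpq' : p' ≠ q') :
    ∃ g ∈ M24, g p = p' ∧ g q = q' := by
  obtain ⟨g, hg, h1, h2⟩ := exists_M24_flag (A := {p}) (B := {p, q}) (A' := {p'}) (B' := {p', q'})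
    (by simp) (by simp) (by simp) (by rw [Finset.card_pair hpq, Finset.card_pair hpq'])
    (by rw [Finset.card_pair hpq]; norm_num)
  have hgp : g p = p' := by
    rw [Finset.smul_finset_singleton] at h1
    exact Finset.singleton_injective h1
  refine ⟨g, hg, hgp, ?_⟩
  have : g q ∈ ({p', q'} : Finset GolayPt) := by
    rw [← h2, Finset.mem_smul_finset]
    exact ⟨q, by simp, rfl⟩
  simp only [Finset.mem_insert, Finset.mem_singleton] at this
  rcases this with h | h
  · exact absurd (g.injective (h.trans hgp.symm)) (Ne.symm hpq)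
  · exact h

/-- an element of `M24` carrying the reference octad and its points `∞`, `0` to a given octad and
two given points of it -/
theorem exists_M24_octad_two_points_in {o : Finset GolayPt} (ho : o ∈ octads) {p q : GolayPt}
    (hpq : p ≠ q) (hp : p ∈ o) (hq : q ∈ o) :
    ∃ t ∈ M24, t (pt 23) = p ∧ t (pt 0) = q ∧ t • fs octad0 = o := by
  have hsub : ({p, q} : Finset GolayPt) ⊆ o := by
    intro z hz
    simp only [Finset.mem_insert, Finset.mem_singleton] at hz
    rcases hz with rfl | rfl <;> assumption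
  obtain ⟨B, hpqB, hBo, hBc⟩ := Finset.exists_subsuperset_card_eq (n := 5) hsub
    (by rw [Finset.card_pair hpq]; norm_num) (by rw [ho.2]; norm_num)
  have hB0o : fs 8388623 ⊆ fs octad0 := by decide
  have hB0c : (fs 8388623).card = 5 := by rw [card_fs]; decide
  obtain ⟨t, ht, h1, h2, h3⟩ := exists_M24_two_points (p := pt 23) (q := pt 0) (by decide) hpq
    (B := fs 8388623) (by decide) (by decide) (hpqB (by simp)) (hpqB (by simp)) hB0c hBc
  refine ⟨t, ht, h1, h2, ?_⟩
  apply octad_unique (smul_mem_octads ht octad0_mem) ho hBc _ hBo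
  rw [← h3]
  exact Finset.smul_finset_subset_smul_finset hB0o

end Cfsg.Agent.Lib.Helper6.Golay
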