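import Cfsg.Agent.Lib.Helper6.GolaySubsets
import Cfsg.Agent.Lib.Helper6.GolayFlag3
import Cfsg.Agent.Lib.Helper6.GolayRankGlue
import Cfsg.Agent.Lib.Helper6.Overgroup

/-!
# Stabilizers of small subsets: transitivity on nearby subsets; the duad stabilizer is maximal
-/

set_option autoImplicit false

namespace Cfsg.Agent.Lib.Helper6.Golay

open Cfsg
open Cfsg.Agent.Lib.Helper6.PermChain
open Cfsg.Agent.Lib.Helper6.Overgroup
open scoped Pointwise

theorem finset_parts (s a : Finset GolayPt) : a = (s ∩ a) ∪ ((s ∪ a) \ s) := by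
  ext x
  simp only [Finset.mem_union, Finset.mem_inter, Finset.mem_sdiff]
  tauto

theorem smul_eq_of_parts {g : Equiv.Perm GolayPt} {s a b : Finset GolayPt}
    (h1 : g • (s ∩ a) = s ∩ b) (h2 : g • s = s) (h3 : g • (s ∪ a) = s ∪ b) : g • a = b := by
  rw [finset_parts s a, Finset.smul_finset_union, Finset.smul_finset_sdiff, h1, h2, h3,
    ← finset_parts s b]

/-- the stabilizer of a small set `s` is transitive on the sets `a` of given size and given
intersection size with `s`, as long as `s ∪ a` has at most five points -/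
theorem exists_M24_stab_small {s a b : Finset GolayPt} (hab : a.card = b.card)
    (hi : (s ∩ a).card = (s ∩ b).card) (h5 : (s ∪ a).card ≤ 5) :
    ∃ g ∈ M24, g • s = s ∧ g • a = b := by
  have hu : (s ∪ a).card = (s ∪ b).card := by
    have h1 := Finset.card_union_add_card_inter s a
    have h2 := Finset.card_union_add_card_inter s b
    omega
  obtain ⟨g, hg, h1, h2, h3⟩ := exists_M24_flag3 (A₁ := s ∩ a) (A₂ := s) (B := s ∪ a)
    (A₁' := s ∩ b) (A₂' := s) (B' := s ∪ b) Finset.inter_subset_left Finset.subset_union_left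
    Finset.inter_subset_left Finset.subset_union_left hi rfl hu h5
  exact ⟨g, hg, h2, smul_eq_of_parts h1 h2 h3⟩

theorem exists_M24_small {s s' : Finset GolayPt} (h : s.card = s'.card) (h5 : s.card ≤ 5) :
    ∃ g ∈ M24, g • s = s' := by
  obtain ⟨g, hg, h1, _⟩ := exists_M24_flag (A := s) (B := s) (A' := s') (B' := s')
    (Finset.Subset.refl _) (Finset.Subset.refl _) h h h5
  exact ⟨g, hg, h1⟩

/-- transfer of counts of `k`-subsets by intersection size with a set -/
theorem ncard_subsets_inter {s : Finset GolayPt} (s0 : ℕ) {t : Equiv.Perm GolayPt} (ht : t ∈ M24)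
    (hs : t • fs s0 = s) (k j : ℕ) :
    {x : Finset GolayPt | x.card = k ∧ (s ∩ x).card = j}.ncard =
      ((gen 24 k).filter (fun n => pc 24 (s0 &&& n) == j)).length := by
  subst hs
  have h1 := ncard_smul_transfer ht {x : Finset GolayPt | x.card = k}
    (fun g _ x hx => by
      rw [Set.mem_ofPred_eq] at hx ⊢
      rw [Finset.card_smul_finset]; exact hx)
    (fun x => (fs s0 ∩ x).card = j) (fun x => (t • fs s0 ∩ x).card = j)
    (fun x => by rw [smul_inter_card])
  have h2 := ncard_subsets_filter k (fun x => (fs s0 ∩ x).card = j)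
    (fun n => pc 24 (s0 &&& n) == j) (fun n _ => by rw [← fs_and, card_fs, beq_iff_eq])
  exact h1.trans h2

theorem ncard_subsets (k : ℕ) : {x : Finset GolayPt | x.card = k}.ncard = (gen 24 k).length := by
  have := ncard_subsets_filter k (fun _ => True) (fun _ => true) (fun n _ => by simp)
  simpa using this

set_option maxHeartbeats 4000000 in
theorem cntDuad1 : ((gen 24 2).filter (fun n => pc 24 (8388609 &&& n) == 1)).length = 44 := by
  decide +kernel

set_option maxHeartbeats 4000000 in
theorem cntDuad0 : ((gen 24 2).filter (fun n => pc 24 (8388609 &&& n) == 0)).length = 231 := by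
  decide +kernel

set_option maxHeartbeats 4000000 in
theorem cntDuads : (gen 24 2).length = 276 := by decide +kernel

theorem orbit_M24_subset {s : Finset GolayPt} (h5 : s.card ≤ 5) :
    MulAction.orbit M24 s = {x : Finset GolayPt | x.card = s.card} := by
  ext x
  constructor
  · rintro ⟨g, rfl⟩
    show (g • s).card = s.card
    exact Finset.card_smul_finset _ _
  · intro hx
    obtain ⟨g, hg, rfl⟩ := exists_M24_small (Eq.symm hx) h5
    exact ⟨⟨g, hg⟩, rfl⟩

/-- **The stabilizer of a duad is maximal in `M24`.** -/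
theorem isCoatom_stabilizer_duad {s : Finset GolayPt} (hs : s.card = 2) :
    IsCoatom (MulAction.stabilizer M24 s) := by
  have hs0 : (fs 8388609).card = 2 := by rw [card_fs]; decide
  obtain ⟨t, ht, hts⟩ := exists_M24_small (hs0.trans hs.symm) (by rw [hs0]; norm_num)
  have hidx : (MulAction.stabilizer M24 s).index = 276 := by
    rw [MulAction.index_stabilizer, orbit_M24_subset (by rw [hs]; norm_num), hs, ncard_subsets,
      cntDuads]
  have htrans : ∀ j : ℕ, ∀ a ∈ {x : Finset GolayPt | x.card = 2 ∧ (s ∩ x).card = j},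
      ∀ b ∈ {x : Finset GolayPt | x.card = 2 ∧ (s ∩ x).card = j},
      ∃ h ∈ MulAction.stabilizer M24 s, h • a = b := by
    intro j a ha b hb
    obtain ⟨g, hg, hgs, hgab⟩ := exists_M24_stab_small (s := s) (ha.1.trans hb.1.symm)
      (ha.2.trans hb.2.symm) (by
        have := Finset.card_union_le s a
        rw [hs, ha.1] at this
        omega)
    exact ⟨⟨g, hg⟩, MulAction.mem_stabilizer_iff.mpr hgs, hgab⟩
  apply isCoatom_of_two_classes s
    {x | x.card = 2 ∧ (s ∩ x).card = 1} {x | x.card = 2 ∧ (s ∩ x).card = 0}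
  · rw [orbit_M24_subset (by rw [hs]; norm_num), hs]
    intro x hx
    rw [Set.mem_ofPred_eq] at hx
    simp only [Set.mem_union, Set.mem_singleton_iff, Set.mem_ofPred_eq]
    have hle : (s ∩ x).card ≤ 2 := by
      rw [← hs]; exact Finset.card_le_card Finset.inter_subset_left
    rcases Nat.lt_or_ge (s ∩ x).card 2 with h | h
    · rcases Nat.lt_or_ge (s ∩ x).card 1 with h' | h'
      · exact Or.inr ⟨hx, by omega⟩
      · exact Or.inl (Or.inr ⟨hx, by omega⟩)
    · refine Or.inl (Or.inl ?_)
      have hself : (s ∩ s).card = 2 := by rw [Finset.inter_self, hs]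
      exact (eq_of_full_inter hs hs hx hself (by omega)).symm
  · intro h; have := h.2; rw [Finset.inter_self, hs] at this; omega
  · intro h; have := h.2; rw [Finset.inter_self, hs] at this; omega
  · rw [Set.disjoint_left]; intro x h1 h2; have := h1.2; have := h2.2; omega
  · exact htrans 1
  · exact htrans 0
  · rw [ncard_subsets_inter 8388609 ht hts 2 1, ncard_subsets_inter 8388609 ht hts 2 0, cntDuad1,
      cntDuad0, hidx]
    intro e1 e2 m hm
    cases e1 <;> cases e2 <;> simp at hm ⊢ <;> omega
  · intro h
    rw [h, Subgroup.index_top] at hidx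
    omega

end Cfsg.Agent.Lib.Helper6.Golay
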