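import Cfsg.Agent.Lib.Helper6.GolaySetSys
import Cfsg.Agent.Lib.Helper6.GolayCount

/-!
# Counting the systems of sets fixed by a permutation, from an explicit enumeration
-/

set_option autoImplicit false

namespace Cfsg.Agent.Lib.Helper6.Golay

open Cfsg
open Cfsg.Agent.Lib.Helper6.PermChain
open scoped Pointwise

/-- decode `k` chunks of 24 bits -/
def decodeL : ℕ → ℕ → List ℕ
  | 0, _ => []
  | k + 1, n => (n % 2 ^ 24) :: decodeL k (n / 2 ^ 24)

/-- strictly increasing list of numbers -/
def incrB : List ℕ → Bool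
  | [] => true
  | [_] => true
  | a :: b :: l => decide (a < b) && incrB (b :: l)

theorem incrB_spec : ∀ (l : List ℕ), incrB l = true → l.Pairwise (· < ·)
  | [], _ => List.Pairwise.nil
  | [a], _ => List.pairwise_singleton _ _
  | a :: b :: l, h => by
    simp only [incrB, Bool.and_eq_true, decide_eq_true_eq] at h
    have ih := incrB_spec (b :: l) h.2
    rw [List.pairwise_cons]
    refine ⟨?_, ih⟩
    intro c hc
    rw [List.mem_cons] at hc
    rcases hc with rfl | hc
    · exact h.1
    · exact lt_trans h.1 ((List.pairwise_cons.mp ih).1 c hc)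

theorem nodup_of_incrKey (key : List ℕ → ℕ) (R : List (List ℕ))
    (h : incrB (R.map key) = true) : R.Nodup :=
  List.Nodup.of_map key ((incrB_spec _ h).imp ne_of_lt)

theorem fss_injOn_canon {R : List (List ℕ)} (hc : R.all canonB = true) :
    Set.InjOn fss {L | L ∈ R} := by
  intro a ha b hb hab
  exact eq_of_fss_eq (List.all_eq_true.mp hc a ha) (List.all_eq_true.mp hc b hb) hab

/-- a duplicate-free list of canonical codes of members of `X`, as long as `X` is large,
enumerates `X` -/
theorem enum_of_card {X : Set (Finset (Finset GolayPt))} {R : List (List ℕ)}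
    (hRX : ∀ L ∈ R, fss L ∈ X) (hc : R.all canonB = true) (hnd : R.Nodup)
    (hN : X.ncard = R.length) : ∀ Y ∈ X, ∃ L ∈ R, Y = fss L := by
  classical
  have hinj : Set.InjOn fss (↑R.toFinset : Set (List ℕ)) := by
    intro a ha b hb hab
    rw [Finset.mem_coe, List.mem_toFinset] at ha hb
    exact fss_injOn_canon hc ha hb hab
  have hsub : (↑(R.toFinset.image fss) : Set (Finset (Finset GolayPt))) ⊆ X := by
    intro Y hY
    rw [Finset.mem_coe, Finset.mem_image] at hY
    obtain ⟨q, hq, rfl⟩ := hY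
    exact hRX q (List.mem_toFinset.mp hq)
  have hcard : (R.toFinset.image fss).card = R.length := by
    rw [Finset.card_image_of_injOn hinj, List.toFinset_card_of_nodup hnd]
  have heq : (↑(R.toFinset.image fss) : Set (Finset (Finset GolayPt))) = X := by
    apply Set.eq_of_subset_of_ncard_le hsub _ (Set.toFinite X)
    rw [Set.ncard_coe_finset, hcard, hN]
  intro Y hY
  rw [← heq, Finset.mem_coe, Finset.mem_image] at hY
  obtain ⟨L, hL, rfl⟩ := hY
  exact ⟨L, List.mem_toFinset.mp hL, rfl⟩

/-- the list permutation `r` maps the system coded by `L` into itself -/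
def fixB (r : List ℕ) (L : List ℕ) : Bool := (L.map (lmask r)).all (fun a => L.contains a)

theorem smul_fss_eq_iff {g : Equiv.Perm GolayPt} {r : List ℕ} (hr : wf r = true)
    (hg : ⇑g = lfun r) {L : List ℕ} (hL : canonB L = true) :
    g • fss L = fss L ↔ fixB r L = true := by
  obtain ⟨-, hb⟩ := canonB_spec L hL
  rw [fixB, List.all_eq_true]
  constructor
  · intro h a ha
    rw [List.mem_map] at ha
    obtain ⟨a', ha', rfl⟩ := ha
    have h1 : fs (lmask r a') ∈ fss L := by
      rw [← h, ← smul_fs hr hg]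
      exact Finset.smul_mem_smul_finset (mem_fss.mpr ⟨a', ha', rfl⟩)
    obtain ⟨b, hbL, hab⟩ := mem_fss.mp h1
    rw [fs_injOn (lmask_lt r hr a') (hb b hbL) hab]
    simpa using hbL
  · intro h
    apply Finset.eq_of_subset_of_card_le
    · intro t ht
      rw [Finset.mem_smul_finset] at ht
      obtain ⟨u, hu, rfl⟩ := ht
      obtain ⟨a, ha, rfl⟩ := mem_fss.mp hu
      rw [smul_fs hr hg]
      have := h (lmask r a) (List.mem_map.mpr ⟨a, ha, rfl⟩)
      exact mem_fss.mpr ⟨lmask r a, by simpa using this, rfl⟩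
    · rw [Finset.card_smul_finset]

/-- **Counting fixed systems** from an enumeration -/
theorem ncard_fixed_of_enum {X : Set (Finset (Finset GolayPt))} {R : List (List ℕ)}
    (hRX : ∀ L ∈ R, fss L ∈ X) (hXR : ∀ Y ∈ X, ∃ L ∈ R, Y = fss L) (hc : R.all canonB = true)
    (hnd : R.Nodup) {g : Equiv.Perm GolayPt} {r : List ℕ} (hr : wf r = true) (hg : ⇑g = lfun r) :
    {Y | Y ∈ X ∧ g • Y = Y}.ncard = (R.filter (fixB r)).length := by
  classical
  have hinj : Set.InjOn fss (↑(R.filter (fixB r)).toFinset : Set (List ℕ)) := by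
    intro a ha b hb hab
    rw [Finset.mem_coe, List.mem_toFinset, List.mem_filter] at ha hb
    exact fss_injOn_canon hc ha.1 hb.1 hab
  have heq : {Y | Y ∈ X ∧ g • Y = Y} = ↑(((R.filter (fixB r)).toFinset).image fss) := by
    ext Y
    rw [Finset.mem_coe, Finset.mem_image]
    constructor
    · rintro ⟨hY, hgY⟩
      obtain ⟨L, hL, rfl⟩ := hXR Y hY
      have hfix : fixB r L = true :=
        (smul_fss_eq_iff hr hg (List.all_eq_true.mp hc L hL)).mp hgY
      exact ⟨L, List.mem_toFinset.mpr (List.mem_filter.mpr ⟨hL, hfix⟩), rfl⟩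
    · rintro ⟨L, hL, rfl⟩
      rw [List.mem_toFinset, List.mem_filter] at hL
      exact ⟨hRX L hL.1, (smul_fss_eq_iff hr hg (List.all_eq_true.mp hc L hL.1)).mpr hL.2⟩
  rw [heq, Set.ncard_coe_finset, Finset.card_image_of_injOn hinj,
    List.toFinset_card_of_nodup (hnd.filter _)]

/-- the number of fixed members of an invariant set only depends on the conjugacy class -/
theorem ncard_fixed_conj {α : Type*} [MulAction (Equiv.Perm GolayPt) α] (X : Set α)
    (hX : ∀ g ∈ M24, ∀ Y ∈ X, g • Y ∈ X) (g : Equiv.Perm GolayPt) {k : Equiv.Perm GolayPt}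
    (hk : k ∈ M24) :
    {Y | Y ∈ X ∧ g • Y = Y}.ncard = {Y | Y ∈ X ∧ (k * g * k⁻¹) • Y = Y}.ncard := by
  have heq : {Y | Y ∈ X ∧ (k * g * k⁻¹) • Y = Y} = (fun Y => k • Y) '' {Y | Y ∈ X ∧ g • Y = Y} := by
    ext Z
    simp only [Set.mem_ofPred_eq, Set.mem_image]
    constructor
    · rintro ⟨hZ, hgZ⟩
      refine ⟨k⁻¹ • Z, ⟨hX _ (M24.inv_mem hk) Z hZ, ?_⟩, smul_inv_smul k Z⟩
      have : g • k⁻¹ • Z = k⁻¹ • (k * g * k⁻¹) • Z := by
        simp only [mul_smul, inv_smul_smul]
      rw [this, hgZ]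
    · rintro ⟨Y, ⟨hY, hgY⟩, rfl⟩
      refine ⟨hX k hk Y hY, ?_⟩
      simp only [mul_smul, inv_smul_smul, hgY]
  rw [heq, Set.ncard_image_of_injective _ (MulAction.injective k)]

/-- counting the fixed words of weight `w` -/
theorem ncard_fixed_words (w : ℕ) {g : Equiv.Perm GolayPt} {r : List ℕ} (hr : wf r = true)
    (hg : ⇑g = lfun r) :
    {b | b ∈ wordsOfWeight (golayCode : Set (GolayPt → ZMod 2)) w ∧ g • b = b}.ncard =
      countBelow (fun m => pc 24 (combo m) == w && (lmask r (combo m) == combo m)) 4096 := by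
  apply ncard_wordsOfWeight_filter w (fun b => g • b = b) (fun n => lmask r n == n)
  intro n hn
  have hlt : n < 2 ^ 24 := by
    simp only [inCode, Bool.and_eq_true, decide_eq_true_eq] at hn
    exact hn.1
  rw [smul_fs hr hg, beq_iff_eq]
  constructor
  · intro h
    exact fs_injOn (lmask_lt r hr n) hlt h
  · intro h
    rw [h]

end Cfsg.Agent.Lib.Helper6.Golay
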