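import Cfsg.Agent.Lib.Helper6.GolayNF3

/-!
# Subgroups of order three of `M24`
-/

set_option autoImplicit false

namespace Cfsg.Agent.Lib.Helper6.Golay

open Cfsg
open Cfsg.Agent.Lib.Helper6.PermChain
open scoped Pointwise

theorem fixA3_card : (fs 8788224).card = 6 := by rw [card_fs]; decide

/-- an element of order three of `M24` with a fixed point has exactly six fixed points -/
theorem ord3_fix_card {g : Equiv.Perm GolayPt} (hg : g ∈ M24) (h3 : orderOf g = 3)
    {p : GolayPt} (hp : g p = p) : (Finset.univ.filter fun p => g p = p).card = 6 := by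
  obtain ⟨hcube, hne⟩ := cube_of_orderOf_three h3
  obtain ⟨k, hk, hk'⟩ := ord3_fix_conj hg hcube hne hp
  rw [fix_eq_smul hk', fix_r3A, Finset.card_smul_finset, fixA3_card]

theorem fix_card_zero_of_fpf {g : Equiv.Perm GolayPt} (h : ∀ p, g p ≠ p) :
    (Finset.univ.filter fun p => g p = p).card = 0 := by
  rw [Finset.card_eq_zero, Finset.filter_eq_empty_iff]
  intro p _
  exact h p

/-- two elements of order three of `M24` which both have, or both do not have, a fixed point
are conjugate -/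
theorem ord3_conj {g h : Equiv.Perm GolayPt} (hg : g ∈ M24) (hh : h ∈ M24) (hg3 : orderOf g = 3)
    (hh3 : orderOf h = 3) (hiff : (∀ p, g p ≠ p) ↔ (∀ p, h p ≠ p)) :
    ∃ k ∈ M24, k * g * k⁻¹ = h := by
  obtain ⟨gc, gne⟩ := cube_of_orderOf_three hg3
  obtain ⟨hc, hne⟩ := cube_of_orderOf_three hh3
  by_cases hfp : ∀ p, g p ≠ p
  · exact (ord3_fpf_conj hg gc hfp).exists_conj (ord3_fpf_conj hh hc (hiff.mp hfp))
  · have hfp' : ¬ ∀ p, h p ≠ p := fun hx => hfp (hiff.mpr hx)
    push Not at hfp hfp'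
    obtain ⟨p, hp⟩ := hfp
    obtain ⟨p', hp'⟩ := hfp'
    exact (ord3_fix_conj hg gc gne hp).exists_conj (ord3_fix_conj hh hc hne hp')

theorem exists_gen_of_card_three (X : Subgroup ↥M24) (hX : Nat.card X = 3) :
    ∃ x : ↥M24, orderOf x = 3 ∧ X = Subgroup.zpowers x := by
  have hne : X ≠ ⊥ := by
    intro e
    rw [e, Subgroup.card_bot] at hX
    omega
  obtain ⟨a, ha⟩ := Subgroup.ne_bot_iff_exists_ne_one.mp hne
  have hdvd : orderOf (a : ↥M24) ∣ 3 := hX ▸ Subgroup.orderOf_dvd_natCard X a.2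
  have h3 : orderOf (a : ↥M24) = 3 := by
    rcases (Nat.dvd_prime Nat.prime_three).mp hdvd with h | h
    · exfalso
      apply ha
      rw [orderOf_eq_one_iff] at h
      exact Subtype.ext h
    · exact h
  refine ⟨a, h3, ?_⟩
  symm
  apply Subgroup.eq_of_le_of_card_ge (Subgroup.zpowers_le.mpr a.2)
  rw [Nat.card_zpowers, h3, hX]

theorem fixset_zpowers (x : ↥M24) :
    {p : GolayPt | ∀ y ∈ Subgroup.zpowers x, ((y : ↥M24) : Equiv.Perm GolayPt) p = p} =
      ↑(Finset.univ.filter fun p => (x : Equiv.Perm GolayPt) p = p) := by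
  ext p
  simp only [Set.mem_ofPred_eq, Finset.coe_filter, Finset.mem_univ, true_and]
  constructor
  · intro h
    exact h x (Subgroup.mem_zpowers x)
  · intro h y hy
    obtain ⟨k, rfl⟩ := Subgroup.mem_zpowers_iff.mp hy
    rw [Subgroup.coe_zpow]
    exact Equiv.Perm.zpow_apply_eq_self_of_apply_eq_self h k

theorem conj_smul_zpowers (k x : ↥M24) :
    MulAut.conj k • Subgroup.zpowers x = Subgroup.zpowers (k * x * k⁻¹) := by
  rw [Subgroup.pointwise_smul_def]
  exact MonoidHom.map_zpowers (MulAut.conj k).toMonoidHom x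

end Cfsg.Agent.Lib.Helper6.Golay
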