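import Cfsg.Agent.Lib.Helper6.GolaySextetList
import Cfsg.Agent.Lib.Helper6.GolayNF4

/-!
# The numbers of octads, dodecads, trios and sextets fixed by elements of order two and three
-/

set_option autoImplicit false

namespace Cfsg.Agent.Lib.Helper6.Golay

open Cfsg
open Cfsg.Agent.Lib.Helper6.PermChain
open scoped Pointwise

theorem count_trios {g : Equiv.Perm GolayPt} {r : List ℕ} (h : ConjTo g r) (hr : wf r = true) :
    {T | T ∈ trios ∧ g • T = T}.ncard = (triosR.filter (fixB r)).length := by
  obtain ⟨k, hk, hk'⟩ := h
  rw [ncard_fixed_conj trios trios_smul g hk]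
  exact ncard_fixed_of_enum triosR_mem triosR_enum triosR_canon triosR_nodup hr hk'

theorem count_sextets {g : Equiv.Perm GolayPt} {r : List ℕ} (h : ConjTo g r) (hr : wf r = true) :
    {S | S ∈ sextets ∧ g • S = S}.ncard = (sextetsR.filter (fixB r)).length := by
  obtain ⟨k, hk, hk'⟩ := h
  rw [ncard_fixed_conj sextets sextets_smul g hk]
  exact ncard_fixed_of_enum sextetsR_mem sextetsR_enum sextetsR_canon sextetsR_nodup hr hk'

theorem count_words (w : ℕ) {g : Equiv.Perm GolayPt} {r : List ℕ} (h : ConjTo g r)
    (hr : wf r = true) :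
    {b | b ∈ wordsOfWeight (golayCode : Set (GolayPt → ZMod 2)) w ∧ g • b = b}.ncard =
      countBelow (fun m => pc 24 (combo m) == w && (lmask r (combo m) == combo m)) 4096 := by
  obtain ⟨k, hk, hk'⟩ := h
  rw [ncard_fixed_conj _ (fun g hg b hb => smul_mem_wordsOfWeight hg hb) g hk]
  exact ncard_fixed_words w hr hk'

set_option maxHeartbeats 4000000 in
set_option maxRecDepth 100000 in
theorem num_trios : [r2A, r2B, r3A, r3B].map (fun r => (triosR.filter (fixB r)).length) =
    [99, 75, 15, 15] := by decide +kernel

set_option maxHeartbeats 4000000 in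
set_option maxRecDepth 100000 in
theorem num_sextets : [r2A, r2B, r3A, r3B].map (fun r => (sextetsR.filter (fixB r)).length) =
    [91, 51, 16, 7] := by decide +kernel

set_option maxHeartbeats 4000000 in
set_option maxRecDepth 100000 in
theorem num_octads : [r2A, r2B, r3A].map (fun r =>
    countBelow (fun m => pc 24 (combo m) == 8 && (lmask r (combo m) == combo m)) 4096) =
    [71, 15, 21] := by decide +kernel

set_option maxHeartbeats 4000000 in
set_option maxRecDepth 100000 in
theorem num_dodecads :
    countBelow (fun m => pc 24 (combo m) == 12 && (lmask r3A (combo m) == combo m)) 4096 = 20 := by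
  decide +kernel

theorem wf_refs : wf r2A = true ∧ wf r2B = true ∧ wf r3A = true ∧ wf r3B = true := by decide

end Cfsg.Agent.Lib.Helper6.Golay
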