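import Cfsg.Agent.Lib.Helper6.GolayCount

/-!
# Transitivity of `M24` on flags `A ⊆ B` of small subsets
-/

set_option autoImplicit false

namespace Cfsg.Agent.Lib.Helper6.Golay

open Cfsg
open Cfsg.Agent.Lib.Helper6.PermChain
open scoped Pointwise

theorem smul_eq_of_embeddings {g : Equiv.Perm GolayPt} {n : ℕ} {A A' : Finset GolayPt}
    {x y : Fin n → GolayPt} (hx : ∀ p, p ∈ A ↔ ∃ i, x i = p) (hy : ∀ p, p ∈ A' ↔ ∃ i, y i = p)
    (h : ∀ i, g (x i) = y i) : g • A = A' := by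
  ext p
  rw [Finset.mem_smul_finset]
  constructor
  · rintro ⟨q, hq, rfl⟩
    obtain ⟨i, rfl⟩ := (hx q).mp hq
    rw [Equiv.Perm.smul_def, h i]
    exact (hy _).mpr ⟨i, rfl⟩
  · intro hp
    obtain ⟨i, rfl⟩ := (hy p).mp hp
    exact ⟨x i, (hx _).mpr ⟨i, rfl⟩, h i⟩

/-- `M24` is transitive on flags `A ⊆ B` with `|B| ≤ 5` and given cardinalities. -/
theorem exists_M24_flag {A B A' B' : Finset GolayPt} (hAB : A ⊆ B) (hAB' : A' ⊆ B')
    (hA : A.card = A'.card) (hB : B.card = B'.card) (hB5 : B.card ≤ 5) :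
    ∃ g ∈ M24, g • A = A' ∧ g • B = B' := by
  classical
  have hc' : (B' \ A').card = (B \ A).card := by
    rw [Finset.card_sdiff_of_subset hAB', ← hA, ← hB, Finset.card_sdiff_of_subset hAB]
  have hac : A.card + (B \ A).card ≤ 5 := by
    rw [Finset.card_sdiff_of_subset hAB]
    have := Finset.card_le_card hAB
    omega
  obtain ⟨x1, hx1⟩ := exists_embedding_of_card (s := A) (n := A.card) rfl
  obtain ⟨x2, hx2⟩ := exists_embedding_of_card (s := B \ A) (n := (B \ A).card) rfl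
  obtain ⟨y1, hy1⟩ := exists_embedding_of_card (s := A') (n := A.card) hA.symm
  obtain ⟨y2, hy2⟩ := exists_embedding_of_card (s := B' \ A') (n := (B \ A).card) hc'
  let x : Fin (A.card + (B \ A).card) ↪ GolayPt := ⟨Fin.append x1 x2,
    Fin.append_injective_iff.mpr ⟨x1.injective, x2.injective, fun i j h => by
      have h1 : x1 i ∈ A := (hx1 _).mpr ⟨i, rfl⟩
      have h2 : x2 j ∈ B \ A := (hx2 _).mpr ⟨j, rfl⟩
      rw [← h, Finset.mem_sdiff] at h2
      exact h2.2 h1⟩⟩
  let y : Fin (A.card + (B \ A).card) ↪ GolayPt := ⟨Fin.append y1 y2,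
    Fin.append_injective_iff.mpr ⟨y1.injective, y2.injective, fun i j h => by
      have h1 : y1 i ∈ A' := (hy1 _).mpr ⟨i, rfl⟩
      have h2 : y2 j ∈ B' \ A' := (hy2 _).mpr ⟨j, rfl⟩
      rw [← h, Finset.mem_sdiff] at h2
      exact h2.2 h1⟩⟩
  obtain ⟨g, hg, hgxy⟩ := exists_M24_map hac x y
  have e1 : g • A = A' := by
    apply smul_eq_of_embeddings hx1 hy1
    intro i
    have := hgxy (Fin.castAdd _ i)
    simpa [x, y] using this
  have e2 : g • (B \ A) = B' \ A' := by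
    apply smul_eq_of_embeddings hx2 hy2
    intro i
    have := hgxy (Fin.natAdd _ i)
    simpa [x, y] using this
  refine ⟨g, hg, e1, ?_⟩
  rw [← Finset.union_sdiff_of_subset hAB, Finset.smul_finset_union, e1, e2,
    Finset.union_sdiff_of_subset hAB']

end Cfsg.Agent.Lib.Helper6.Golay
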