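import Cfsg.Agent.Lib.Helper6.GolayM12b
import Cfsg.Prelude.Def_SporadicCombinatorics

/-!
# The stabilizer of a dodecad and a hexad on it is the symmetric group of degree 6
-/

set_option autoImplicit false

namespace Cfsg.Agent.Lib.Helper6.Golay

open Cfsg
open scoped Pointwise

/-- an element of `M24` stabilizing a dodecad and fixing five of its points is trivial -/
theorem eq_one_of_dodecad_fix {d : Finset GolayPt} (hd : d ∈ dodecads) {g : Equiv.Perm GolayPt}
    (hg : g ∈ M24) (hgd : g • d = d) {s : Finset GolayPt} (hs : s ⊆ d) (h5 : 5 ≤ s.card)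
    (hfix : ∀ p ∈ s, g p = p) : g = 1 := by
  obtain ⟨s', hs's, hs'c⟩ := Finset.exists_subset_card_eq h5
  obtain ⟨x, hx⟩ := exists_embedding_of_card hs'c
  have hxd : ∀ i, x i ∈ d := fun i => hs (hs's ((hx _).mpr ⟨i, rfl⟩))
  obtain ⟨g0, _, huniq⟩ := existsUnique_stab_dodecad hd x x hxd hxd
  have h1 := huniq g ⟨⟨hg, hgd⟩, fun i => hfix _ (hs's ((hx _).mpr ⟨i, rfl⟩))⟩
  have h2 := huniq 1 ⟨⟨M24.one_mem, one_smul _ _⟩, fun i => rfl⟩
  rw [h1, h2]

section
variable {d C : Finset GolayPt} (hd : d ∈ dodecads) (hC : C ∈ hexadsOn d)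
include hd hC

theorem hexad_subset : C ⊆ d := by
  obtain ⟨_, o, _, rfl⟩ := hC
  exact Finset.inter_subset_right

/-- the action on the hexad -/
def rhoHex (d C : Finset GolayPt) :
    ↥(MulAction.stabilizer M24 d ⊓ MulAction.stabilizer M24 C) →* Equiv.Perm ↥C where
  toFun g := (g.1.1).subtypePerm
    (fun _ => mem_of_smul_eq (show g.1.1 • C = C from (Subgroup.mem_inf.mp g.2).2))
  map_one' := rfl
  map_mul' _ _ := rfl

omit hd hC in
theorem rhoHex_apply (g : ↥(MulAction.stabilizer M24 d ⊓ MulAction.stabilizer M24 C)) (p : ↥C) :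
    ((rhoHex d C g p : ↥C) : GolayPt) = g.1.1 p := rfl

theorem rhoHex_injective : Function.Injective (rhoHex d C) := by
  rw [injective_iff_map_eq_one]
  intro g hg
  apply Subtype.ext
  apply Subtype.ext
  have hfix : ∀ p ∈ C, g.1.1 p = p := by
    intro p hp
    have := congrArg (fun e : Equiv.Perm ↥C => ((e ⟨p, hp⟩ : ↥C) : GolayPt)) hg
    exact this
  exact eq_one_of_dodecad_fix hd g.1.2 (show g.1.1 • d = d from (Subgroup.mem_inf.mp g.2).1)
    (hexad_subset hd hC) (by rw [hC.1]; norm_num) hfix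

theorem rhoHex_surjective : Function.Surjective (rhoHex d C) := by
  classical
  intro σ
  have hCd := hexad_subset hd hC
  obtain ⟨hC6, o, ho, hoC⟩ := hC
  obtain ⟨e, he⟩ := exists_embedding_of_card hC6
  have heC : ∀ j, e j ∈ C := fun j => (he _).mpr ⟨j, rfl⟩
  let s : Fin 6 → GolayPt := fun j => (σ ⟨e j, heC j⟩ : GolayPt)
  have hs_inj : Function.Injective s := by
    intro i j hij
    have h1 : σ ⟨e i, heC i⟩ = σ ⟨e j, heC j⟩ := Subtype.ext hij
    have h2 := σ.injective h1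
    exact e.injective (congrArg Subtype.val h2)
  have hsC : ∀ j, s j ∈ C := fun j => (σ ⟨e j, heC j⟩).2
  have hs_surj : ∀ p ∈ C, ∃ j, s j = p := by
    intro p hp
    obtain ⟨j, hj⟩ := (he _).mp (σ.symm ⟨p, hp⟩).2
    refine ⟨j, ?_⟩
    show ((σ ⟨e j, heC j⟩ : ↥C) : GolayPt) = p
    have h1 : (⟨e j, heC j⟩ : ↥C) = σ.symm ⟨p, hp⟩ := Subtype.ext hj
    rw [h1, Equiv.apply_symm_apply]
  let x : Fin 5 ↪ GolayPt := Fin.castSuccEmb.trans e
  let y : Fin 5 ↪ GolayPt :=
    ⟨fun i => s (Fin.castSucc i), fun i j hij => Fin.castSucc_injective _ (hs_inj hij)⟩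
  have hx : ∀ i, x i = e (Fin.castSucc i) := fun i => rfl
  have hy : ∀ i, y i = s (Fin.castSucc i) := fun i => rfl
  obtain ⟨g, ⟨⟨hg, hgd⟩, hgxy⟩, _⟩ := existsUnique_stab_dodecad hd x y
    (fun i => hCd (heC _)) (fun i => hCd (hsC _))
  -- the octad is preserved
  have hyo : ∀ i, y i ∈ o := fun i => by
    have := hsC (Fin.castSucc i)
    rw [← hoC] at this
    exact (Finset.mem_inter.mp this).1
  have hgo : g • o = o := by
    apply octad_unique (smul_mem_octads hg ho) ho (s := Finset.univ.image y)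
    · rw [Finset.card_image_of_injective _ y.injective]; simp
    · intro p hp
      obtain ⟨i, _, rfl⟩ := Finset.mem_image.mp hp
      rw [← hgxy i, ← Equiv.Perm.smul_def]
      apply Finset.smul_mem_smul_finset
      have := heC (Fin.castSucc i)
      rw [← hoC] at this
      exact (Finset.mem_inter.mp this).1
    · intro p hp
      obtain ⟨i, _, rfl⟩ := Finset.mem_image.mp hp
      exact hyo i
  have hgC : g • C = C := by
    rw [← hoC, Finset.smul_finset_inter, hgo, hgd]
  -- the last point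
  have hlast : g (e (Fin.last 5)) = s (Fin.last 5) := by
    have hmem : g (e (Fin.last 5)) ∈ C := (mem_of_smul_eq hgC).mpr (heC _)
    obtain ⟨j, hj⟩ := hs_surj _ hmem
    rcases Fin.eq_castSucc_or_eq_last j with ⟨i, rfl⟩ | rfl
    · exfalso
      rw [← hy i, ← hgxy i] at hj
      have := e.injective (g.injective hj)
      exact (Fin.castSucc_lt_last i).ne this
    · exact hj.symm
  have hmemG : (⟨g, hg⟩ : ↥M24) ∈ MulAction.stabilizer M24 d ⊓ MulAction.stabilizer M24 C :=
    Subgroup.mem_inf.mpr ⟨hgd, hgC⟩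
  refine ⟨⟨⟨g, hg⟩, hmemG⟩, ?_⟩
  refine Equiv.ext fun p => Subtype.ext ?_
  rw [rhoHex_apply]
  obtain ⟨p, hp⟩ := p
  obtain ⟨j, rfl⟩ := (he p).mp hp
  show g (e j) = s j
  rcases Fin.eq_castSucc_or_eq_last j with ⟨i, rfl⟩ | rfl
  · rw [← hx i, hgxy i]; exact hy i
  · exact hlast

theorem hexad_stab_equiv :
    Nonempty (↥(MulAction.stabilizer M24 d ⊓ MulAction.stabilizer M24 C) ≃* Equiv.Perm (Fin 6)) := by
  have e1 : ↥(MulAction.stabilizer M24 d ⊓ MulAction.stabilizer M24 C) ≃* Equiv.Perm ↥C :=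
    MulEquiv.ofBijective (rhoHex d C) ⟨rhoHex_injective hd hC, rhoHex_surjective hd hC⟩
  have hcard : Fintype.card ↥C = Fintype.card (Fin 6) := by
    rw [Fintype.card_coe, hC.1, Fintype.card_fin]
  exact ⟨e1.trans (Fintype.equivOfCardEq hcard).permCongrHom⟩

theorem hexad_stab_main :
    Nonempty (↥(MulAction.stabilizer M24 d ⊓ MulAction.stabilizer M24 C) ≃* Equiv.Perm (Fin 6)) ∧
    (∀ g ∈ MulAction.stabilizer M24 d ⊓ MulAction.stabilizer M24 C,
      (∀ p ∈ C, ((g : ↥M24) : Equiv.Perm GolayPt) p = p) → g = 1) ∧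
    ∀ g ∈ MulAction.stabilizer M24 d ⊓ MulAction.stabilizer M24 C,
      (∀ p ∈ d \ C, ((g : ↥M24) : Equiv.Perm GolayPt) p = p) → g = 1 := by
  refine ⟨hexad_stab_equiv hd hC, ?_, ?_⟩
  · intro g hg hfix
    apply Subtype.ext
    exact eq_one_of_dodecad_fix hd g.2 (show g.1 • d = d from (Subgroup.mem_inf.mp hg).1)
      (hexad_subset hd hC) (by rw [hC.1]; norm_num) hfix
  · intro g hg hfix
    apply Subtype.ext
    refine eq_one_of_dodecad_fix hd g.2 (show g.1 • d = d from (Subgroup.mem_inf.mp hg).1)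
      (Finset.sdiff_subset) ?_ hfix
    have := Finset.card_sdiff_add_card_eq_card (hexad_subset hd hC)
    rw [hd.2, hC.1] at this
    omega

end

end Cfsg.Agent.Lib.Helper6.Golay
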