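import Cfsg.Agent.Lib.Helper6.GolayDodecad

/-!
# The length-24 code modulo the all-ones word is irreducible for `M24`
-/

set_option autoImplicit false

namespace Cfsg.Agent.Lib.Helper6.Golay

open Cfsg
open scoped Pointwise

theorem one_mem_golayCode : (fun _ : GolayPt => (1 : ZMod 2)) ∈ golayCode :=
  Submodule.subset_span (Or.inr rfl)

section
variable (W : Submodule (ZMod 2) (GolayPt → ZMod 2))
  (hinv : ∀ σ ∈ M24, ∀ w ∈ W, (fun p => w (σ.symm p)) ∈ W)
include hinv

theorem irred_mem_of_orbit {w v : GolayPt → ZMod 2} (hw : w ∈ W) {σ : Equiv.Perm GolayPt}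
    (hσ : σ ∈ M24) (h : σ • support₂ w = support₂ v) : v ∈ W := by
  have h1 : support₂ (w ∘ σ.symm) = support₂ v := by rw [← smul_support₂, h]
  have h2 : w ∘ σ.symm = v := support₂_injective h1
  rw [← h2]
  exact hinv σ hσ w hw

theorem irred_of_octad {w : GolayPt → ZMod 2} (hw : w ∈ W) (ho : support₂ w ∈ octads) :
    golayCode ≤ W := by
  intro v hv
  refine golayCode_induction (fun v => v ∈ W) (Submodule.zero_mem _)
    (fun a b ha hb => Submodule.add_mem _ ha hb) ?_ v hv
  intro b hb
  obtain ⟨h1, h2⟩ := basis_octads b hb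
  have hb' : fs b ∈ octads := fs_mem_octads h1 h2
  obtain ⟨g, hg, hgo⟩ := exists_M24_octad ho hb'
  exact irred_mem_of_orbit W hinv hw hg (by rw [hgo, support₂_dec])

theorem irred_of_dodecad {w : GolayPt → ZMod 2} (hw : w ∈ W) (hd : support₂ w ∈ dodecads) :
    golayCode ≤ W := by
  have hc1 : inCode 1282008 = true := by decide +kernel
  have hc2 : inCode 1302533 = true := by decide +kernel
  have hd1 : fs 1282008 ∈ dodecads := fs_mem_dodecads hc1 (by decide +kernel)
  have ho : fs 1302533 ∈ octads := fs_mem_octads hc2 (by decide +kernel)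
  obtain ⟨g, hg, hgo⟩ := exists_M24_dodecad hd dodecad0_mem
  have h1 : dec dodecad0 ∈ W := irred_mem_of_orbit W hinv hw hg (by rw [hgo, support₂_dec])
  obtain ⟨g', hg', hgo'⟩ := exists_M24_dodecad hd hd1
  have h2 : dec 1282008 ∈ W := irred_mem_of_orbit W hinv hw hg' (by rw [hgo', support₂_dec])
  have h3 : dec 1302533 ∈ W := by
    have : (1302533 : ℕ) = dodecad0 ^^^ 1282008 := by decide +kernel
    rw [this, dec_xor]
    exact Submodule.add_mem _ h1 h2
  exact irred_of_octad W hinv h3 (by rw [support₂_dec]; exact ho)

end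

theorem irred_main (W : Submodule (ZMod 2) (GolayPt → ZMod 2))
    (h1 : (fun _ => (1 : ZMod 2)) ∈ W) (hW : W ≤ golayCode)
    (hinv : ∀ σ ∈ M24, ∀ w ∈ W, (fun p => w (σ.symm p)) ∈ W) :
    W = Submodule.span (ZMod 2) {fun _ => (1 : ZMod 2)} ∨ W = golayCode := by
  by_cases hall : ∀ w ∈ W, w = 0 ∨ w = fun _ => (1 : ZMod 2)
  · left
    apply le_antisymm
    · intro w hw
      rcases hall w hw with rfl | rfl
      · exact Submodule.zero_mem _
      · exact Submodule.subset_span rfl
    · rw [Submodule.span_le]
      rintro _ rfl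
      exact h1
  · right
    push Not at hall
    obtain ⟨w, hw, hw0, hw1⟩ := hall
    refine le_antisymm hW ?_
    have hwC := hW hw
    have hsup : support₂ w ∈ supports (golayCode : Set (GolayPt → ZMod 2)) := ⟨w, hwC, rfl⟩
    rcases hammingNorm_mem w hwC with h | h | h | h | h
    · exfalso
      apply hw0
      apply support₂_injective
      have : support₂ w = ∅ := Finset.card_eq_zero.mp (by rw [card_support₂, h])
      rw [this]
      simp [support₂]
    · exact irred_of_octad W hinv hw ⟨hsup, by rw [card_support₂, h]⟩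
    · exact irred_of_dodecad W hinv hw ⟨hsup, by rw [card_support₂, h]⟩
    · -- weight 16: add the all-ones word
      have hw' : w + (fun _ => (1 : ZMod 2)) ∈ W := Submodule.add_mem _ hw h1
      have hsup' : support₂ (w + fun _ => (1 : ZMod 2)) ∈ supports (golayCode : Set (GolayPt → ZMod 2)) :=
        ⟨_, hW hw', rfl⟩
      have hcompl : support₂ (w + fun _ => (1 : ZMod 2)) = (support₂ w)ᶜ := by
        ext p
        simp only [support₂, Finset.mem_filter, Finset.mem_univ, true_and, Pi.add_apply,
          Finset.mem_compl, not_not]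
        generalize w p = c
        revert c
        decide
      refine irred_of_octad W hinv hw' ⟨hsup', ?_⟩
      rw [hcompl, Finset.card_compl, card_support₂, h]
      simp
    · exfalso
      apply hw1
      apply support₂_injective
      have : support₂ w = Finset.univ := by
        apply Finset.eq_univ_of_card
        rw [card_support₂, h]
        simp
      rw [this]
      simp [support₂]

end Cfsg.Agent.Lib.Helper6.Golay
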