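import Cfsg.Agent.Lib.Helper6.GolayNF2

/-!
# Consequences of the classification of elements of order two and three in `M24`
-/

set_option autoImplicit false

namespace Cfsg.Agent.Lib.Helper6.Golay

open Cfsg
open Cfsg.Agent.Lib.Helper6.PermChain
open scoped Pointwise

theorem fix_eq_smul {g k : Equiv.Perm GolayPt} {r : List ℕ} (h : ⇑(k * g * k⁻¹) = lfun r) :
    (Finset.univ.filter fun p => g p = p) = k⁻¹ • (Finset.univ.filter fun p => lfun r p = p) := by
  ext p
  rw [Finset.mem_inv_smul_finset_iff]
  simp only [Finset.mem_filter, Finset.mem_univ, true_and, Equiv.Perm.smul_def]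
  rw [← h]
  simp only [Equiv.Perm.mul_apply, Equiv.Perm.inv_def, Equiv.symm_apply_apply,
    EmbeddingLike.apply_eq_iff_eq]

theorem fix_r2A : (Finset.univ.filter fun p => lfun r2A p = p) = fs 12733024 := by decide

theorem fix_r3A : (Finset.univ.filter fun p => lfun r3A p = p) = fs 8788224 := by decide

theorem fpf_r2B : ∀ p, lfun r2B p ≠ p := by decide

theorem fpf_r3B : ∀ p, lfun r3B p ≠ p := by decide

theorem fixA_mem_octads : fs 12733024 ∈ octads := fs_mem_octads (by decide +kernel) (by decide +kernel)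

theorem sq_of_orderOf_two {g : Equiv.Perm GolayPt} (h : orderOf g = 2) : g * g = 1 ∧ g ≠ 1 := by
  constructor
  · rw [← sq, ← h]; exact pow_orderOf_eq_one g
  · intro e
    rw [e, orderOf_one] at h
    omega

theorem cube_of_orderOf_three {g : Equiv.Perm GolayPt} (h : orderOf g = 3) :
    g * (g * g) = 1 ∧ g ≠ 1 := by
  constructor
  · have := pow_orderOf_eq_one g
    rw [h, pow_succ', sq] at this
    exact this
  · intro e
    rw [e, orderOf_one] at h
    omega

/-- an involution of `M24` with a fixed point fixes exactly the points of an octad -/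
theorem invol_fix_octad {g : Equiv.Perm GolayPt} (hg : g ∈ M24) (h2 : orderOf g = 2)
    {p : GolayPt} (hp : g p = p) : (Finset.univ.filter fun p => g p = p) ∈ octads := by
  obtain ⟨hsq, hne⟩ := sq_of_orderOf_two h2
  obtain ⟨k, hk, hk'⟩ := invol_fix_conj hg hsq hne hp
  rw [fix_eq_smul hk', fix_r2A]
  exact smul_mem_octads (M24.inv_mem hk) fixA_mem_octads

theorem exists_perm_of_rep {r : List ℕ} (hr : Rep M24 r) : ∃ u ∈ M24, ⇑u = lfun r := hr.2

theorem mul_self_of_lfun {u : Equiv.Perm GolayPt} {r : List ℕ} (hr : wf r = true)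
    (hu : ⇑u = lfun r) (h : lmul r r = idl) : u * u = 1 := by
  apply DFunLike.coe_injective
  have h1 : lfun (lmul r r) = lfun idl := by rw [h]
  rw [lfun_lmul r hr, ← hu, lfun_idl] at h1
  funext p
  have := congrFun h1 p
  simpa using this

theorem mul_cube_of_lfun {u : Equiv.Perm GolayPt} {r : List ℕ} (hr : wf r = true)
    (hu : ⇑u = lfun r) (h : lmul r (lmul r r) = idl) : u * (u * u) = 1 := by
  apply DFunLike.coe_injective
  have h1 : lfun (lmul r (lmul r r)) = lfun idl := by rw [h]
  rw [lfun_lmul r (wf_lmul hr hr), lfun_lmul r hr, ← hu, lfun_idl] at h1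
  funext p
  have := congrFun h1 p
  simpa using this

theorem ne_one_of_lfun {u : Equiv.Perm GolayPt} {r : List ℕ} (hu : ⇑u = lfun r) (i : ℕ)
    (hi : i < 24) (h : r.getD i 0 ≠ i) (h' : r.getD i 0 < 24) : u ≠ 1 := by
  intro e
  have := congrFun hu (pt i)
  rw [e, lfun_pt r hi] at this
  exact h (pt_injOn hi h' this).symm

end Cfsg.Agent.Lib.Helper6.Golay
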