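import Cfsg.Agent.Lib.Helper6.GolayBSGS
import Cfsg.Agent.Lib.Helper6.GolayNF3

/-!
# The subgroups `23:11` and `PSL(2,23)` of `M24`: membership and orders
-/

set_option autoImplicit false

namespace Cfsg.Agent.Lib.Helper6.GolayL23

open Cfsg
open Cfsg.Agent.Lib.Helper6.Golay
open Cfsg.Agent.Lib.Helper6.PermChain

/-- the permutation `x ↦ u x + b` of the 24 points, fixing the extra point -/
def aff (u : (ZMod 23)ˣ) (b : ZMod 23) : Equiv.Perm GolayPt :=
  Equiv.optionCongr ((Units.mulLeft u).trans (Equiv.addRight b))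

theorem aff_some (u : (ZMod 23)ˣ) (b x : ZMod 23) : aff u b (some x) = some (u * x + b) := rfl

theorem aff_none (u : (ZMod 23)ˣ) (b : ZMod 23) : aff u b none = none := rfl

theorem aff_mul (u v : (ZMod 23)ˣ) (b c : ZMod 23) :
    aff u b * aff v c = aff (u * v) (u * c + b) := by
  apply Equiv.ext
  intro p
  cases p with
  | none => rfl
  | some x =>
    rw [Equiv.Perm.mul_apply, aff_some, aff_some, aff_some, Units.val_mul]
    congr 1
    ring

theorem aff_one : aff 1 0 = 1 := by
  apply Equiv.ext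
  intro p
  cases p with
  | none => rfl
  | some x =>
    rw [aff_some, Units.val_one, one_mul, add_zero]
    rfl

theorem aff_inv (u : (ZMod 23)ˣ) (b : ZMod 23) : (aff u b)⁻¹ = aff u⁻¹ (-(↑u⁻¹ * b)) := by
  rw [inv_eq_iff_mul_eq_one, aff_mul, mul_inv_cancel]
  have : (u : ZMod 23) * -(↑u⁻¹ * b) + b = 0 := by
    rw [mul_neg, ← mul_assoc, Units.mul_inv, one_mul, neg_add_cancel]
  rw [this, aff_one]

theorem aff_injective {u v : (ZMod 23)ˣ} {b c : ZMod 23} (h : aff u b = aff v c) :
    u = v ∧ b = c := by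
  have h0 := congrArg (fun g : Equiv.Perm GolayPt => g (some 0)) h
  have h1 := congrArg (fun g : Equiv.Perm GolayPt => g (some 1)) h
  simp only [aff_some, mul_zero, zero_add, mul_one, Option.some.injEq] at h0 h1
  subst h0
  exact ⟨Units.ext (add_right_cancel h1), rfl⟩

/-- the translation `x ↦ x + 1` -/
abbrev al : Equiv.Perm GolayPt := Equiv.optionCongr (Equiv.addRight (1 : ZMod 23))

/-- the multiplication `x ↦ u x` -/
abbrev mu (u : (ZMod 23)ˣ) : Equiv.Perm GolayPt := Equiv.optionCongr (Units.mulLeft u)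

theorem al_eq : al = aff 1 1 := by
  apply Equiv.ext
  intro p
  cases p with
  | none => rfl
  | some x =>
    rw [aff_some, Units.val_one, one_mul]
    rfl

theorem mu_eq (u : (ZMod 23)ˣ) : mu u = aff u 0 := by
  apply Equiv.ext
  intro p
  cases p with
  | none => rfl
  | some x =>
    rw [aff_some, add_zero]
    rfl

theorem aff_one_natCast (n : ℕ) : aff 1 1 ^ n = aff 1 (n : ZMod 23) := by
  induction n with
  | zero => rw [pow_zero, Nat.cast_zero, aff_one]
  | succ n ih =>
    rw [pow_succ, ih, aff_mul, mul_one, Units.val_one, one_mul, Nat.cast_succ, add_comm]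

theorem aff_one_zpow (k : ℤ) : aff 1 1 ^ k = aff 1 (k : ZMod 23) := by
  cases k with
  | ofNat n => rw [Int.ofNat_eq_natCast, zpow_natCast, aff_one_natCast, Int.cast_natCast]
  | negSucc n =>
    rw [zpow_negSucc, aff_one_natCast, aff_inv, inv_one, Units.val_one, one_mul, Int.cast_negSucc]

/-- the group of the maps `x ↦ u x + b` with `u` a square -/
def Faff : Subgroup (Equiv.Perm GolayPt) where
  carrier := {g | ∃ (u : (ZMod 23)ˣ) (b : ZMod 23), IsSquare u ∧ g = aff u b}
  mul_mem' := by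
    rintro _ _ ⟨u, b, hu, rfl⟩ ⟨v, c, hv, rfl⟩
    exact ⟨u * v, _, hu.mul hv, aff_mul u v b c⟩
  one_mem' := ⟨1, 0, IsSquare.one, aff_one.symm⟩
  inv_mem' := by
    rintro _ ⟨u, b, hu, rfl⟩
    exact ⟨u⁻¹, _, hu.inv, aff_inv u b⟩

theorem mem_Faff {g : Equiv.Perm GolayPt} :
    g ∈ Faff ↔ ∃ (u : (ZMod 23)ˣ) (b : ZMod 23), IsSquare u ∧ g = aff u b := Iff.rfl

/-- the generators of `23:11` as in the statement -/
abbrev genF : Set (Equiv.Perm GolayPt) :=
  {al} ∪ {g : Equiv.Perm GolayPt | ∃ u : (ZMod 23)ˣ, IsSquare u ∧ g = mu u}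

theorem closure_genF : Subgroup.closure genF = Faff := by
  apply le_antisymm
  · rw [Subgroup.closure_le]
    rintro g (hg | ⟨u, hu, rfl⟩)
    · rw [Set.mem_singleton_iff] at hg
      subst hg
      exact ⟨1, 1, IsSquare.one, al_eq⟩
    · exact ⟨u, 0, hu, mu_eq u⟩
  · rintro _ ⟨u, b, hu, rfl⟩
    have h1 : aff 1 b ∈ Subgroup.closure genF := by
      have : aff 1 b = al ^ b.val := by
        rw [al_eq, aff_one_natCast, ZMod.natCast_zmod_val]
      rw [this]
      exact (Subgroup.closure genF).pow_mem (Subgroup.subset_closure (Set.mem_union_left _ rfl)) _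
    have h2 : aff u 0 ∈ Subgroup.closure genF := by
      rw [← mu_eq]
      exact Subgroup.subset_closure (Set.mem_union_right _ ⟨u, hu, rfl⟩)
    have : aff u b = aff 1 b * aff u 0 := by
      rw [aff_mul, one_mul, Units.val_one, one_mul, zero_add]
    rw [this]
    exact Subgroup.mul_mem _ h1 h2

theorem card_squares : Nat.card {u : (ZMod 23)ˣ // IsSquare u} = 11 := by
  rw [Nat.card_eq_fintype_card]
  decide +kernel

theorem card_Faff : Nat.card Faff = 253 := by
  have e : Faff ≃ {u : (ZMod 23)ˣ // IsSquare u} × ZMod 23 := by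
    refine Equiv.symm (Equiv.ofBijective (fun p => ⟨aff p.1.1 p.2, p.1.1, p.2, p.1.2, rfl⟩) ⟨?_, ?_⟩)
    · rintro ⟨⟨u, hu⟩, b⟩ ⟨⟨v, hv⟩, c⟩ h
      have := aff_injective (congrArg Subtype.val h)
      simp only at this
      obtain ⟨rfl, rfl⟩ := this
      rfl
    · rintro ⟨_, u, b, hu, rfl⟩
      exact ⟨⟨⟨u, hu⟩, b⟩, rfl⟩
  rw [Nat.card_congr e, Nat.card_prod, card_squares, Nat.card_eq_fintype_card, ZMod.card]


/-! ### membership in `M24` -/

theorem al_mem_M24 : al ∈ M24 := hasGens_M24.a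

theorem checkFun_mu : ∀ u : (ZMod 23)ˣ, IsSquare u → checkFun (⇑(mu u)) = true := by
  decide +kernel

theorem mu_mem_M24 {u : (ZMod 23)ˣ} (hu : IsSquare u) : mu u ∈ M24 :=
  mem_M24_of_checkFun _ (checkFun_mu u hu)

theorem Faff_le_M24 : Faff ≤ M24 := by
  rw [← closure_genF, Subgroup.closure_le]
  rintro g (hg | ⟨u, hu, rfl⟩)
  · rw [Set.mem_singleton_iff] at hg
    subst hg
    exact al_mem_M24
  · exact mu_mem_M24 hu

theorem Faff_fix_none {g : Equiv.Perm GolayPt} (hg : g ∈ Faff) : g none = none := by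
  obtain ⟨u, b, -, rfl⟩ := hg
  rfl

/-- the map `x ↦ -x` is not in `M24`: it is an involution with exactly two fixed points -/
theorem mu_neg_one_not_mem : mu (-1) ∉ M24 := by
  intro h
  have h2 : orderOf (mu (-1)) = 2 := by
    apply orderOf_eq_prime
    · apply Equiv.ext
      decide
    · intro e
      have := congrArg (fun g : Equiv.Perm GolayPt => g (some 1)) e
      revert this
      decide
  have ho := invol_fix_octad h h2 (p := none) rfl
  have hc : (Finset.univ.filter fun p : GolayPt => mu (-1) p = p).card = 2 := by decide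
  have := ho.2
  omega

theorem neg_isSquare : ∀ u : (ZMod 23)ˣ, ¬ IsSquare u → IsSquare (-u) := by decide +kernel

/-- an affine map in `M24` has a square as its multiplier -/
theorem isSquare_of_aff_mem {u : (ZMod 23)ˣ} {b : ZMod 23} (h : aff u b ∈ M24) : IsSquare u := by
  by_contra hu
  have hneg := neg_isSquare u hu
  have h1 : aff 1 (-b) ∈ M24 := by
    have : aff 1 (-b) = (aff 1 b)⁻¹ := by
      rw [aff_inv, inv_one, Units.val_one, one_mul]
    rw [this]
    apply M24.inv_mem
    apply Faff_le_M24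
    exact ⟨1, b, IsSquare.one, rfl⟩
  have h2 : aff u 0 ∈ M24 := by
    have : aff u 0 = aff 1 (-b) * aff u b := by
      rw [aff_mul, one_mul, Units.val_one, one_mul, add_neg_cancel]
    rw [this]
    exact M24.mul_mem h1 h
  have h3 : aff (-u) 0 ∈ M24 := by
    rw [← mu_eq]
    exact mu_mem_M24 hneg
  apply mu_neg_one_not_mem
  have : mu (-1) = aff (-u) 0 * (aff u 0)⁻¹ := by
    rw [mu_eq, aff_inv, aff_mul, mul_zero, neg_zero, mul_zero, add_zero, neg_mul, mul_inv_cancel]
  rw [this]
  exact M24.mul_mem h3 (M24.inv_mem h2)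

end Cfsg.Agent.Lib.Helper6.GolayL23
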