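import Cfsg.Agent.Lib.Helper6.GolayL23

/-!
# The subgroup `PSL(2,23)` of `M24`: its order and its point stabilizer
-/

set_option autoImplicit false

namespace Cfsg.Agent.Lib.Helper6.GolayL23

open Cfsg
open Cfsg.Agent.Lib.Helper6.Golay
open Cfsg.Agent.Lib.Helper6.PermChain

theorem fact23 : Fact (Nat.Prime 23) := ⟨by norm_num⟩

attribute [local instance] fact23

/-- difference of two points (`1` when one of them is the extra point) -/
def dd : GolayPt → GolayPt → ZMod 23
  | some a, some b => a - b
  | _, _ => 1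

theorem dd_some (a b : ZMod 23) : dd (some a) (some b) = a - b := rfl

theorem dd_none_left (p : GolayPt) : dd none p = 1 := rfl

theorem dd_none_right (p : GolayPt) : dd p none = 1 := by cases p <;> rfl

/-- a permutation that multiplies differences of points by a product of two weights, as the
fractional linear maps do -/
def Mob (g : Equiv.Perm GolayPt) : Prop :=
  ∃ f h : GolayPt → ZMod 23, (∀ a, f a ≠ 0) ∧ (∀ a, h a ≠ 0) ∧
    ∀ a b, a ≠ b → dd (g a) (g b) = dd a b * f a * h b

theorem mob_aff (u : (ZMod 23)ˣ) (b : ZMod 23) : Mob (aff u b) := by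
  refine ⟨fun p => p.elim 1 fun _ => (u : ZMod 23), fun p => p.elim (↑u⁻¹ : ZMod 23) fun _ => 1,
    ?_, ?_, ?_⟩
  · intro a
    cases a with
    | none => exact one_ne_zero
    | some x => exact u.ne_zero
  · intro a
    cases a with
    | none => exact (u⁻¹).ne_zero
    | some x => exact one_ne_zero
  · intro p q hpq
    cases p with
    | none =>
      cases q with
      | none => exact absurd rfl hpq
      | some y =>
        rw [aff_none, dd_none_left, dd_none_left]
        show (1 : ZMod 23) = 1 * 1 * 1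
        rw [one_mul, one_mul]
    | some x =>
      cases q with
      | none =>
        rw [aff_none, dd_none_right, dd_none_right]
        show (1 : ZMod 23) = 1 * (u : ZMod 23) * (↑u⁻¹ : ZMod 23)
        rw [one_mul, Units.mul_inv]
      | some y =>
        rw [aff_some, aff_some, dd_some, dd_some]
        simp only [Option.elim]
        ring

/-- first weight of `projInv` -/
def fInv : GolayPt → ZMod 23
  | none => 1
  | some x => if x = 0 then -1 else x ^ 21

/-- second weight of `projInv` -/
def hInv : GolayPt → ZMod 23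
  | none => -1
  | some x => if x = 0 then 1 else x ^ 21

theorem mob_projInv : Mob projInv :=
  ⟨fInv, hInv, by decide +kernel, by decide +kernel, by decide +kernel⟩

theorem mob_one : Mob 1 :=
  ⟨fun _ => 1, fun _ => 1, fun _ => one_ne_zero, fun _ => one_ne_zero, fun a b _ => by simp⟩

theorem Mob.mul {g k : Equiv.Perm GolayPt} (hg : Mob g) (hk : Mob k) : Mob (g * k) := by
  obtain ⟨f1, h1, hf1, hh1, e1⟩ := hg
  obtain ⟨f2, h2, hf2, hh2, e2⟩ := hk
  refine ⟨fun a => f2 a * f1 (k a), fun a => h2 a * h1 (k a), fun a => mul_ne_zero (hf2 a) (hf1 _),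
    fun a => mul_ne_zero (hh2 a) (hh1 _), ?_⟩
  intro a b hab
  rw [Equiv.Perm.mul_apply, Equiv.Perm.mul_apply, e1 _ _ (fun h => hab (k.injective h)),
    e2 _ _ hab]
  ring

theorem Mob.inv {g : Equiv.Perm GolayPt} (hg : Mob g) : Mob g⁻¹ := by
  obtain ⟨f, h, hf, hh, e⟩ := hg
  refine ⟨fun a => (f (g⁻¹ a))⁻¹, fun a => (h (g⁻¹ a))⁻¹, fun a => inv_ne_zero (hf _),
    fun a => inv_ne_zero (hh _), ?_⟩
  intro a b hab
  have h1 := e (g⁻¹ a) (g⁻¹ b) (fun h => hab (g⁻¹.injective h))
  rw [Equiv.Perm.inv_def, Equiv.apply_symm_apply, Equiv.apply_symm_apply] at h1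
  show dd (g⁻¹ a) (g⁻¹ b) = dd a b * (f (g⁻¹ a))⁻¹ * (h (g⁻¹ b))⁻¹
  rw [Equiv.Perm.inv_def, h1]
  have h2 := hf (g.symm a)
  have h3 := hh (g.symm b)
  field_simp

/-- a permutation with the weight property that fixes the extra point is affine -/
theorem Mob.eq_aff {g : Equiv.Perm GolayPt} (hg : Mob g) (h0 : g none = none) :
    ∃ (u : (ZMod 23)ˣ) (b : ZMod 23), g = aff u b := by
  obtain ⟨f, h, hf, hh, e⟩ := hg
  have hsome : ∀ x : ZMod 23, ∃ y, g (some x) = some y := by
    intro x
    cases hx : g (some x) with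
    | none =>
      rw [← h0] at hx
      exact absurd (g.injective hx) (by simp)
    | some y => exact ⟨y, rfl⟩
  choose τ hτ using hsome
  have hfc : ∀ x : ZMod 23, f (some x) * h none = 1 := by
    intro x
    have := e (some x) none (by simp)
    rw [h0, dd_none_right, dd_none_right, one_mul] at this
    exact this.symm
  have hhc : ∀ y : ZMod 23, f none * h (some y) = 1 := by
    intro y
    have := e none (some y) (by simp)
    rw [h0, dd_none_left, dd_none_left, one_mul] at this
    exact this.symm
  set c : ZMod 23 := (h none)⁻¹ * (f none)⁻¹ with hc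
  have hc0 : c ≠ 0 := mul_ne_zero (inv_ne_zero (hh _)) (inv_ne_zero (hf _))
  have hfx : ∀ x : ZMod 23, f (some x) = (h none)⁻¹ := fun x =>
    eq_inv_of_mul_eq_one_left (hfc x)
  have hhy : ∀ y : ZMod 23, h (some y) = (f none)⁻¹ := fun y =>
    eq_inv_of_mul_eq_one_right (hhc y)
  have key : ∀ x : ZMod 23, τ x = c * x + τ 0 := by
    intro x
    by_cases hx : x = 0
    · subst hx; simp
    · have := e (some x) (some 0) (by simpa using hx)
      rw [hτ, hτ, dd_some, dd_some, hfx, hhy, sub_zero] at this
      rw [hc]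
      linear_combination this
  refine ⟨Units.mk0 c hc0, τ 0, ?_⟩
  apply Equiv.ext
  intro p
  cases p with
  | none => rw [h0, aff_none]
  | some x => rw [hτ, aff_some, key, Units.val_mk0]

/-! ### the group `PSL(2,23)` -/

/-- the generators of `PSL(2,23)` as in the statement -/
abbrev genL : Set (Equiv.Perm GolayPt) :=
  {al, projInv} ∪ {g : Equiv.Perm GolayPt | ∃ u : (ZMod 23)ˣ, IsSquare u ∧ g = mu u}

/-- the group generated by the translation, the squares and `x ↦ -1/x` -/
abbrev L23 : Subgroup (Equiv.Perm GolayPt) := Subgroup.closure genL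

theorem L23_le_M24 : L23 ≤ M24 := by
  rw [Subgroup.closure_le]
  rintro g ((hg | hg) | ⟨u, hu, rfl⟩)
  · rw [hg]; exact al_mem_M24
  · rw [Set.mem_singleton_iff] at hg
    rw [hg]; exact hasGens_M24.c
  · exact mu_mem_M24 hu

theorem Faff_le_L23 : Faff ≤ L23 := by
  rw [← closure_genF]
  apply Subgroup.closure_mono
  rintro g (hg | hg)
  · rw [Set.mem_singleton_iff] at hg
    exact Or.inl (Or.inl hg)
  · exact Or.inr hg

theorem projInv_mem_L23 : projInv ∈ L23 :=
  Subgroup.subset_closure (Or.inl (Or.inr rfl))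

theorem mob_of_mem_L23 {g : Equiv.Perm GolayPt} (hg : g ∈ L23) : Mob g := by
  induction hg using Subgroup.closure_induction with
  | mem x hx =>
    rcases hx with (hx | hx) | ⟨u, -, rfl⟩
    · rw [hx, al_eq]; exact mob_aff _ _
    · rw [Set.mem_singleton_iff] at hx
      rw [hx]; exact mob_projInv
    · rw [mu_eq]; exact mob_aff _ _
  | one => exact mob_one
  | mul x y _ _ hx hy => exact hx.mul hy
  | inv x _ hx => exact hx.inv

/-- the stabilizer of the extra point in `PSL(2,23)` is `23:11` -/
theorem fixL_L23 : fixL L23 [none] = Faff := by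
  apply le_antisymm
  · intro g hg
    rw [mem_fixL] at hg
    obtain ⟨u, b, rfl⟩ := (mob_of_mem_L23 hg.1).eq_aff (hg.2 none (List.mem_singleton.mpr rfl))
    exact ⟨u, b, isSquare_of_aff_mem (L23_le_M24 hg.1), rfl⟩
  · intro g hg
    rw [mem_fixL]
    refine ⟨Faff_le_L23 hg, fun x hx => ?_⟩
    rw [List.mem_singleton] at hx
    rw [hx]
    exact Faff_fix_none hg

/-- every subgroup between `23:11`-with-`x ↦ -1/x` and everything is transitive: explicit
elements moving the extra point anywhere -/
theorem exists_L23_map (q : GolayPt) : ∃ g ∈ L23, g none = q := by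
  cases q with
  | none => exact ⟨1, L23.one_mem, rfl⟩
  | some x =>
    refine ⟨aff 1 x * projInv, L23.mul_mem (Faff_le_L23 ⟨1, x, IsSquare.one, rfl⟩) projInv_mem_L23, ?_⟩
    rw [Equiv.Perm.mul_apply]
    have : projInv none = some 0 := rfl
    rw [this, aff_some, mul_zero, zero_add]

/-- the order of a subgroup containing `PSL(2,23)` -/
theorem card_of_L23_le {K : Subgroup (Equiv.Perm GolayPt)} (hK : L23 ≤ K) :
    Nat.card K = 24 * Nat.card (fixL K [none]) := by
  have h := card_fixL_step K [] none Finset.univ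
    (fun q _ => by
      obtain ⟨g, hg, hgq⟩ := exists_L23_map q
      exact ⟨g, by rw [fixL_nil]; exact hK hg, hgq⟩)
    (fun g _ => Finset.mem_univ _)
  rw [fixL_nil, List.nil_append] at h
  rw [h]
  rfl

theorem card_L23 : Nat.card L23 = 6072 := by
  rw [card_of_L23_le le_rfl, fixL_L23, card_Faff]

end Cfsg.Agent.Lib.Helper6.GolayL23
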