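import Cfsg.Agent.Lib.Helper6.GolayL23b

/-!
# Maximality of `23:11` in `M23` and of `PSL(2,23)` in `M24`

Sylow counting for the primes `23` and `11` in a subgroup between `23:11` and `M23`.
-/

set_option autoImplicit false

namespace Cfsg.Agent.Lib.Helper6.GolayL23

open Cfsg
open Cfsg.Agent.Lib.Helper6.Golay
open Cfsg.Agent.Lib.Helper6.PermChain

attribute [local instance] fact23

/-! ### counting Sylow subgroups of prime order -/

theorem factorization_eq_one_of_dvd {p n N : ℕ} (hp : p.Prime) (h1 : p ∣ n) (h2 : n ∣ N)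
    (hN : N ≠ 0) (h3 : ¬ p ^ 2 ∣ N) : n.factorization p = 1 := by
  have hn : n ≠ 0 := fun h => hN (by rw [h] at h2; exact Nat.eq_zero_of_zero_dvd h2)
  have h4 : 1 ≤ n.factorization p := (hp.dvd_iff_one_le_factorization hn).mp h1
  by_contra h5
  have h6 : 2 ≤ n.factorization p := by omega
  exact h3 (((pow_dvd_pow p h6).trans (Nat.ordProj_dvd n p)).trans h2)

theorem index_normalizer_mod {G : Type*} [Group G] [Finite G] (p : ℕ) [Fact p.Prime]
    (Q : Subgroup G) (hQ : Nat.card Q = p) (hp2 : ¬ p ^ 2 ∣ Nat.card G) :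
    (Subgroup.normalizer (Q : Set G)).index % p = 1 := by
  have hp : p.Prime := Fact.out
  have hfac : (Nat.card G).factorization p = 1 :=
    factorization_eq_one_of_dvd hp (hQ ▸ Subgroup.card_subgroup_dvd_card Q) dvd_rfl
      Nat.card_pos.ne' hp2
  have hc : Nat.card Q = p ^ (Nat.card G).factorization p := by rw [hfac, pow_one, hQ]
  have h1 := card_sylow_modEq_one p G
  rw [Sylow.card_eq_index_normalizer (Sylow.ofCard Q hc)] at h1
  have h2 : (Subgroup.normalizer (Q : Set G)).index % p = 1 % p := h1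
  rw [h2, Nat.mod_eq_of_lt hp.one_lt]

theorem card_eq_normalizer_mul {G : Type*} [Group G] (J : Subgroup G) [Finite J] (p : ℕ)
    [Fact p.Prime] (Q : Subgroup G) (hQJ : Q ≤ J) (hQ : Nat.card Q = p)
    (hp2 : ¬ p ^ 2 ∣ Nat.card J) :
    ∃ i, Nat.card J = Nat.card ↥(Subgroup.normalizer (Q : Set G) ⊓ J) * i ∧ i % p = 1 := by
  have hQ' : Nat.card (Q.subgroupOf J) = p :=
    (Nat.card_congr (Subgroup.subgroupOfEquivOfLe hQJ).toEquiv).trans hQ
  refine ⟨(Subgroup.normalizer ((Q.subgroupOf J : Subgroup J) : Set J)).index, ?_,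
    index_normalizer_mod p _ hQ' hp2⟩
  rw [← Subgroup.card_mul_index (Subgroup.normalizer ((Q.subgroupOf J : Subgroup J) : Set J))]
  have e1 : Subgroup.normalizer ((Q.subgroupOf J : Subgroup J) : Set J) =
      (Subgroup.normalizer (Q : Set G) ⊓ J).subgroupOf J := by
    rw [Subgroup.inf_subgroupOf_right]
    exact (Subgroup.subgroupOf_normalizer_eq hQJ).symm
  rw [e1]
  congr 1
  exact Nat.card_congr (Subgroup.subgroupOfEquivOfLe inf_le_right).toEquiv

/-! ### the normalizer of the translations -/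

theorem exists_some_of_fix_none {g : Equiv.Perm GolayPt} (h0 : g none = none) (x : ZMod 23) :
    ∃ y, g (some x) = some y := by
  cases hx : g (some x) with
  | none =>
    rw [← h0] at hx
    exact absurd (g.injective hx) (by simp)
  | some y => exact ⟨y, rfl⟩

theorem orderOf_al : orderOf al = 23 := by
  rw [al_eq]
  apply orderOf_eq_prime
  · rw [aff_one_natCast]
    have : ((23 : ℕ) : ZMod 23) = 0 := by decide
    rw [this, aff_one]
  · intro h
    have := congrArg (fun g : Equiv.Perm GolayPt => g (some 0)) h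
    revert this
    decide

theorem mem_Faff_of_normalizes_al {g : Equiv.Perm GolayPt} (hg : g ∈ M24) (h0 : g none = none)
    (hn : g * al * g⁻¹ ∈ Subgroup.zpowers al) : g ∈ Faff := by
  obtain ⟨k, hk⟩ := Subgroup.mem_zpowers_iff.mp hn
  rw [al_eq, aff_one_zpow] at hk
  choose τ hτ using exists_some_of_fix_none h0
  have hstep : ∀ x, τ (x + 1) = τ x + k := by
    intro x
    have h1 : (aff 1 (k : ZMod 23) * g) (some x) = (g * aff 1 1) (some x) := by
      rw [hk, inv_mul_cancel_right]
    rw [Equiv.Perm.mul_apply, Equiv.Perm.mul_apply, hτ, aff_some, aff_some, hτ, Units.val_one,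
      one_mul, one_mul] at h1
    exact (Option.some.inj h1).symm
  have hlin : ∀ n : ℕ, τ n = τ 0 + n * k := by
    intro n
    induction n with
    | zero => simp
    | succ n ih =>
      rw [Nat.cast_succ, hstep, ih]
      ring
  have hlin' : ∀ x : ZMod 23, τ x = k * x + τ 0 := by
    intro x
    have := hlin x.val
    rw [ZMod.natCast_zmod_val] at this
    rw [this]
    ring
  have hk0 : (k : ZMod 23) ≠ 0 := by
    intro hk0
    have h1 := hlin' 1
    have h2 := hlin' 0
    rw [hk0, zero_mul, zero_add] at h1 h2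
    have : g (some 1) = g (some 0) := by rw [hτ, hτ, h1]
    exact absurd (g.injective this) (by decide)
  have hga : g = aff (Units.mk0 _ hk0) (τ 0) := by
    apply Equiv.ext
    intro p
    cases p with
    | none => rw [h0, aff_none]
    | some x => rw [hτ, aff_some, hlin', Units.val_mk0]
  rw [hga] at hg ⊢
  exact ⟨_, _, isSquare_of_aff_mem hg, rfl⟩

theorem aff_conj (u : (ZMod 23)ˣ) (b c : ZMod 23) :
    aff u b * aff 1 c * (aff u b)⁻¹ = aff 1 (u * c) := by
  rw [aff_inv, aff_mul, aff_mul, mul_one, mul_inv_cancel]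
  congr 1
  rw [mul_neg, ← mul_assoc, Units.mul_inv, one_mul]
  ring

theorem aff_one_mem_zpowers (c : ZMod 23) : aff 1 c ∈ Subgroup.zpowers al := by
  rw [Subgroup.mem_zpowers_iff]
  exact ⟨(c.val : ℤ), by rw [al_eq, aff_one_zpow, Int.cast_natCast, ZMod.natCast_zmod_val]⟩

theorem Faff_le_normalizer_al :
    Faff ≤ Subgroup.normalizer (Subgroup.zpowers al : Set (Equiv.Perm GolayPt)) := by
  rintro _ ⟨u, b, -, rfl⟩
  rw [Subgroup.mem_set_normalizer_iff]
  intro h
  constructor
  · intro hh
    obtain ⟨k, rfl⟩ := Subgroup.mem_zpowers_iff.mp hh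
    have e : al ^ k = aff 1 (k : ZMod 23) := by rw [al_eq, aff_one_zpow]
    rw [e, aff_conj]
    exact aff_one_mem_zpowers _
  · intro hh
    obtain ⟨k, hk⟩ := Subgroup.mem_zpowers_iff.mp hh
    have : h = (aff u b)⁻¹ * (al ^ k) * ((aff u b)⁻¹)⁻¹ := by
      rw [hk]
      group
    have e : al ^ k = aff 1 (k : ZMod 23) := by rw [al_eq, aff_one_zpow]
    rw [this, e, aff_inv, aff_conj]
    exact aff_one_mem_zpowers _

theorem normalizer_al_inf {J : Subgroup (Equiv.Perm GolayPt)} (hFJ : Faff ≤ J)
    (hJM : J ≤ fixL M24 [none]) :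
    Subgroup.normalizer (Subgroup.zpowers al : Set (Equiv.Perm GolayPt)) ⊓ J = Faff := by
  apply le_antisymm
  · rintro g ⟨hgn, hgJ⟩
    have hgM := mem_fixL.mp (hJM hgJ)
    apply mem_Faff_of_normalizes_al hgM.1 (hgM.2 none (List.mem_singleton.mpr rfl))
    exact (Subgroup.mem_set_normalizer_iff.mp hgn al).mp (Subgroup.mem_zpowers al)
  · exact le_inf Faff_le_normalizer_al hFJ

/-! ### no involution of `M23` normalizes the group of order 11 -/

/-- the unit `2` -/
def u2 : (ZMod 23)ˣ := ⟨2, 12, by decide, by decide⟩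

theorem isSquare_u2 : IsSquare u2 :=
  ⟨⟨5, 14, by decide, by decide⟩, by apply Units.ext; decide⟩

/-- the multiplications, as a homomorphism -/
def muHom : (ZMod 23)ˣ →* Equiv.Perm GolayPt where
  toFun u := aff u 0
  map_one' := aff_one
  map_mul' u v := by rw [aff_mul, mul_zero, add_zero]

theorem aff_zero_zpow (u : (ZMod 23)ˣ) (z : ℤ) : aff u 0 ^ z = aff (u ^ z) 0 :=
  (map_zpow muHom u z).symm

theorem aff_zero_pow (u : (ZMod 23)ˣ) (n : ℕ) : aff u 0 ^ n = aff (u ^ n) 0 :=
  (map_pow muHom u n).symm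

theorem orderOf_mu_u2 : orderOf (mu u2) = 11 := by
  have : Fact (Nat.Prime 11) := ⟨by norm_num⟩
  rw [mu_eq]
  apply orderOf_eq_prime
  · rw [aff_zero_pow]
    have : u2 ^ 11 = 1 := by apply Units.ext; decide
    rw [this, aff_one]
  · intro h
    have := congrArg (fun g : Equiv.Perm GolayPt => g (some 1)) h
    revert this
    decide

/-- for a nonzero residue `x`, the pair `(i, s)` with `x = 2^i` (`s = false`) or `x = 5 * 2^i`
(`s = true`) -/
def lgTab : List (ℕ × Bool) :=
  [(0, false), (0, false), (1, false), (8, false), (2, false), (0, true), (9, false), (9, true),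
   (3, false), (5, false), (1, true), (4, true), (10, false), (7, false), (10, true), (8, true),
   (4, false), (3, true), (6, false), (7, true), (2, true), (6, true), (5, true)]

def lg (x : ZMod 23) : ℕ × Bool := lgTab.getD x.val (0, false)

theorem lg_spec : ∀ x : ZMod 23, x ≠ 0 → x = 2 ^ (lg x).1 * (if (lg x).2 then 5 else 1) := by
  decide

/-- the only possible shape of a permutation fixing the extra point that conjugates
multiplication by `2` to multiplication by `c` -/
def cand (c a b : ZMod 23) : GolayPt → GolayPt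
  | none => none
  | some x => if x = 0 then some 0 else some (c ^ (lg x).1 * (if (lg x).2 then b else a))

theorem cand_no_octad : ∀ c a b : ZMod 23, (∀ p, cand c a b (cand c a b p) = p) →
    (Finset.univ.filter fun p => cand c a b p = p).card ≠ 8 := by
  decide +kernel

theorem no_invol_normalizing {t : Equiv.Perm GolayPt} (ht : t ∈ M24) (h0 : t none = none)
    (h2 : orderOf t = 2) (hn : t * mu u2 * t⁻¹ ∈ Subgroup.zpowers (mu u2)) : False := by
  obtain ⟨z, hz⟩ := Subgroup.mem_zpowers_iff.mp hn
  rw [mu_eq, aff_zero_zpow] at hz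
  set w : (ZMod 23)ˣ := u2 ^ z with hw
  choose τ hτ using exists_some_of_fix_none h0
  have hstep : ∀ x, τ (2 * x) = w * τ x := by
    intro x
    have h1 : (aff w 0 * t) (some x) = (t * aff u2 0) (some x) := by
      rw [hz, inv_mul_cancel_right]
    rw [Equiv.Perm.mul_apply, Equiv.Perm.mul_apply, hτ, aff_some, aff_some, hτ, add_zero,
      add_zero] at h1
    exact (Option.some.inj h1).symm
  have hpow : ∀ (i : ℕ) (x : ZMod 23), τ (2 ^ i * x) = (w : ZMod 23) ^ i * τ x := by
    intro i
    induction i with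
    | zero => intro x; rw [pow_zero, pow_zero, one_mul, one_mul]
    | succ i ih =>
      intro x
      rw [pow_succ, mul_assoc, ih, hstep, pow_succ, mul_assoc]
  have hinj : Function.Injective τ := fun x y h => by
    have : t (some x) = t (some y) := by rw [hτ, hτ, h]
    exact Option.some.inj (t.injective this)
  have hτ0 : τ 0 = 0 := by
    have h1 := hstep 0
    rw [mul_zero] at h1
    by_contra hne
    have hw1 : (w : ZMod 23) = 1 := by
      have : (w : ZMod 23) * τ 0 = 1 * τ 0 := by rw [one_mul]; exact h1.symm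
      exact mul_right_cancel₀ hne this
    have h3 := hstep 1
    rw [hw1, one_mul, mul_one] at h3
    exact absurd (hinj h3) (by decide)
  have hcand : ∀ p, t p = cand w (τ 1) (τ 5) p := by
    intro p
    cases p with
    | none => exact h0
    | some x =>
      rw [hτ]
      by_cases hx : x = 0
      · subst hx
        rw [hτ0]
        rfl
      · have hs := lg_spec x hx
        have h1 : cand w (τ 1) (τ 5) (some x) =
            some ((w : ZMod 23) ^ (lg x).1 * (if (lg x).2 then τ 5 else τ 1)) := by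
          rw [cand, if_neg hx]
        rw [h1]
        congr 1
        conv_lhs => rw [hs]
        rw [hpow, apply_ite τ]
  have hsq := sq_of_orderOf_two h2
  have hinv : ∀ p, cand w (τ 1) (τ 5) (cand w (τ 1) (τ 5) p) = p := by
    intro p
    rw [← hcand, ← hcand, ← Equiv.Perm.mul_apply, hsq.1]
    rfl
  have hfix := (invol_fix_octad ht h2 (p := none) h0).2
  apply cand_no_octad w (τ 1) (τ 5) hinv
  rw [← hfix]
  congr 1
  ext p
  simp only [Finset.mem_filter, Finset.mem_univ, true_and]
  rw [hcand]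

/-! ### the arithmetic -/

theorem arith_aux1 : ∀ n ∈ Nat.divisors 40320, n % 23 = 1 →
    n ∈ ({1, 24, 70, 576, 1680, 40320} : Finset ℕ) := by
  decide +kernel

theorem arith_aux2 : ∀ n ∈ ({24, 70, 576, 1680} : Finset ℕ), ∀ m ∈ Nat.divisors (23 * n),
    m % 2 = 1 → (23 * n / m) % 11 ≠ 1 := by
  decide +kernel

theorem arith_main {n m i : ℕ} (hn : n ∣ 40320) (h23 : n % 23 = 1) (hm : m % 2 = 1)
    (hmi : 23 * n = m * i) (hi : i % 11 = 1) : n = 1 ∨ n = 40320 := by
  have h1 := arith_aux1 n (Nat.mem_divisors.mpr ⟨hn, by norm_num⟩) h23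
  have hn0 : n ≠ 0 := by
    rintro rfl
    simp at h23
  have hm0 : 0 < m := by
    rcases Nat.eq_zero_or_pos m with h | h
    · rw [h] at hm; simp at hm
    · exact h
  have hdiv : 23 * n / m = i := Nat.div_eq_of_eq_mul_right hm0 hmi
  have hmem : m ∈ Nat.divisors (23 * n) :=
    Nat.mem_divisors.mpr ⟨Dvd.intro _ hmi.symm, by omega⟩
  simp only [Finset.mem_insert, Finset.mem_singleton] at h1
  rcases h1 with h | h | h | h | h | h
  · exact Or.inl h
  · exact absurd hi (hdiv ▸ arith_aux2 n (by rw [h]; decide) m hmem hm)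
  · exact absurd hi (hdiv ▸ arith_aux2 n (by rw [h]; decide) m hmem hm)
  · exact absurd hi (hdiv ▸ arith_aux2 n (by rw [h]; decide) m hmem hm)
  · exact absurd hi (hdiv ▸ arith_aux2 n (by rw [h]; decide) m hmem hm)
  · exact Or.inr h

/-! ### maximality -/

theorem card_M23 : Nat.card (fixL M24 [none]) = 10200960 := card_fixL_single none

theorem al_mem_Faff : al ∈ Faff := ⟨1, 1, IsSquare.one, al_eq⟩

theorem mu_u2_mem_Faff : mu u2 ∈ Faff := ⟨u2, 0, isSquare_u2, mu_eq u2⟩

/-- `23:11` is maximal in `M23` -/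
theorem Faff_maximal {J : Subgroup (Equiv.Perm GolayPt)} (hFJ : Faff ≤ J)
    (hJM : J ≤ fixL M24 [none]) : J = Faff ∨ J = fixL M24 [none] := by
  have hdvd : Nat.card J ∣ 10200960 := card_M23 ▸ Subgroup.card_dvd_of_le hJM
  have hP : Subgroup.zpowers al ≤ J := (Subgroup.zpowers_le.mpr al_mem_Faff).trans hFJ
  obtain ⟨i23, h23a, h23b⟩ := card_eq_normalizer_mul J 23 (Subgroup.zpowers al) hP
    (by rw [Nat.card_zpowers, orderOf_al]) (fun h => absurd (h.trans hdvd) (by norm_num))
  rw [normalizer_al_inf hFJ hJM, card_Faff] at h23a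
  have : Fact (Nat.Prime 11) := ⟨by norm_num⟩
  have hQ : Subgroup.zpowers (mu u2) ≤ J := (Subgroup.zpowers_le.mpr mu_u2_mem_Faff).trans hFJ
  obtain ⟨i11, h11a, h11b⟩ := card_eq_normalizer_mul J 11 (Subgroup.zpowers (mu u2)) hQ
    (by rw [Nat.card_zpowers, orderOf_mu_u2]) (fun h => absurd (h.trans hdvd) (by norm_num))
  have hA11 : 11 ∣ Nat.card ↥(Subgroup.normalizer
      (Subgroup.zpowers (mu u2) : Set (Equiv.Perm GolayPt)) ⊓ J) := by
    have h1 : Subgroup.zpowers (mu u2) ≤ Subgroup.normalizer
        (Subgroup.zpowers (mu u2) : Set (Equiv.Perm GolayPt)) ⊓ J :=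
      le_inf Subgroup.le_normalizer hQ
    have h2 := Subgroup.card_dvd_of_le h1
    rwa [Nat.card_zpowers, orderOf_mu_u2] at h2
  have hAodd : ¬ 2 ∣ Nat.card ↥(Subgroup.normalizer
      (Subgroup.zpowers (mu u2) : Set (Equiv.Perm GolayPt)) ⊓ J) := by
    intro h2
    have : Fact (Nat.Prime 2) := ⟨Nat.prime_two⟩
    obtain ⟨t, ht⟩ := exists_prime_orderOf_dvd_card' 2 h2
    have ht' : orderOf (t : Equiv.Perm GolayPt) = 2 := by
      rw [Subgroup.orderOf_coe]
      exact ht
    have htA := t.2
    have htM := mem_fixL.mp (hJM htA.2)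
    exact no_invol_normalizing htM.1 (htM.2 none (List.mem_singleton.mpr rfl)) ht'
      ((Subgroup.mem_set_normalizer_iff.mp htA.1 (mu u2)).mp (Subgroup.mem_zpowers _))
  obtain ⟨m, hm⟩ := hA11
  rw [hm] at h11a hAodd
  have hmodd : m % 2 = 1 := by
    have : ¬ 2 ∣ m := fun h => hAodd (Dvd.dvd.mul_left h 11)
    omega
  have hi23 : i23 ∣ 40320 := by
    have : 253 * i23 ∣ 253 * 40320 := by
      rw [← h23a]
      exact hdvd
    exact Nat.dvd_of_mul_dvd_mul_left (by norm_num) this
  have hmi : 23 * i23 = m * i11 := by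
    have : 11 * (23 * i23) = 11 * (m * i11) := by
      rw [← mul_assoc 11 m, ← h11a, h23a]
      ring
    exact Nat.eq_of_mul_eq_mul_left (by norm_num) this
  rcases arith_main hi23 h23b hmodd hmi h11b with h | h
  · left
    symm
    apply Subgroup.eq_of_le_of_card_ge hFJ
    rw [h23a, h, card_Faff]
  · right
    apply Subgroup.eq_of_le_of_card_ge hJM
    rw [h23a, h, card_M23]

/-- `PSL(2,23)` is maximal in `M24` -/
theorem L23_maximal {K : Subgroup (Equiv.Perm GolayPt)} (hLK : L23 ≤ K) (hKM : K ≤ M24) :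
    K = L23 ∨ K = M24 := by
  have hJ := Faff_maximal (J := fixL K [none]) (by rw [← fixL_L23]; exact fixL_mono hLK _)
    (fixL_mono hKM _)
  have hcK := card_of_L23_le hLK
  rcases hJ with h | h
  · left
    symm
    apply Subgroup.eq_of_le_of_card_ge hLK
    rw [hcK, h, card_Faff, card_L23]
  · right
    apply Subgroup.eq_of_le_of_card_ge hKM
    rw [hcK, h, card_M23, card_M24]

/-! ### transfer to the lattice of subgroups of a subgroup -/

theorem isCoatom_subgroupOf_of_forall {G : Type*} [Group G] {H M : Subgroup G} (hHM : H ≤ M)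
    (hne : H ≠ M) (hmax : ∀ K : Subgroup G, H ≤ K → K ≤ M → K = H ∨ K = M) :
    IsCoatom (H.subgroupOf M) := by
  constructor
  · intro h
    rw [Subgroup.subgroupOf_eq_top] at h
    exact hne (le_antisymm hHM h)
  · intro K' hK'
    have h1 : H ≤ K'.map M.subtype := by
      intro x hx
      exact ⟨⟨x, hHM hx⟩, hK'.le (Subgroup.mem_subgroupOf.mpr hx), rfl⟩
    have h2 : K'.map M.subtype ≤ M := Subgroup.map_subtype_le K'
    have h3 : K' = (K'.map M.subtype).subgroupOf M :=
      (Subgroup.comap_map_eq_self_of_injective M.subtype_injective K').symm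
    rcases hmax _ h1 h2 with h | h
    · exfalso
      rw [h] at h3
      exact hK'.ne' h3
    · rw [h3, h, Subgroup.subgroupOf_self]

theorem isCoatom_L23 : IsCoatom (L23.subgroupOf M24) := by
  apply isCoatom_subgroupOf_of_forall L23_le_M24
  · intro h
    have h1 := card_L23
    rw [h, card_M24] at h1
    omega
  · intro K h1 h2
    exact L23_maximal h1 h2

theorem subgroupOf_fixL_none :
    (fixL M24 [none]).subgroupOf M24 = MulAction.stabilizer M24 (none : GolayPt) := by
  ext g
  constructor
  · intro h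
    have h' := mem_fixL.mp (Subgroup.mem_subgroupOf.mp h)
    exact h'.2 none (List.mem_singleton.mpr rfl)
  · intro h
    apply Subgroup.mem_subgroupOf.mpr
    apply mem_fixL.mpr
    refine ⟨g.2, fun x hx => ?_⟩
    rw [List.mem_singleton] at hx
    rw [hx]
    exact h

theorem isCoatom_Faff : IsCoatom ((Faff.subgroupOf M24).subgroupOf
    (MulAction.stabilizer M24 (none : GolayPt))) := by
  have hle : Faff ≤ fixL M24 [none] := by
    rw [← fixL_L23]
    exact fixL_mono L23_le_M24 _
  apply isCoatom_subgroupOf_of_forall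
  · rw [← subgroupOf_fixL_none]
    exact Subgroup.subgroupOf_mono _ hle
  · intro h
    have h1 : Nat.card (Faff.subgroupOf M24) = 253 := by
      rw [Nat.card_congr (Subgroup.subgroupOfEquivOfLe Faff_le_M24).toEquiv, card_Faff]
    rw [h, card_stabilizer_eq, card_M23] at h1
    omega
  · intro K h1 h2
    have h3 : K = (K.map M24.subtype).subgroupOf M24 :=
      (Subgroup.comap_map_eq_self_of_injective M24.subtype_injective K).symm
    have h4 : Faff ≤ K.map M24.subtype := by
      intro x hx
      exact ⟨⟨x, Faff_le_M24 hx⟩, h1 (Subgroup.mem_subgroupOf.mpr hx), rfl⟩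
    have h5 : K.map M24.subtype ≤ fixL M24 [none] := by
      rintro _ ⟨k, hk, rfl⟩
      have := h2 hk
      rw [← subgroupOf_fixL_none] at this
      exact this
    rcases Faff_maximal h4 h5 with h | h
    · left
      rw [h3, h]
    · right
      rw [h3, h, subgroupOf_fixL_none]

end Cfsg.Agent.Lib.Helper6.GolayL23
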