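import Cfsg.Agent.Lib.Helper6.GolayM12b

/-!
# `M11` is 3-transitive on the complement of the dodecad
-/

set_option autoImplicit false

namespace Cfsg.Agent.Lib.Helper6.Golay

open Cfsg
open Cfsg.Agent.Lib.Helper6.PermChain
open scoped Pointwise

theorem fixL_fixL (H : Subgroup (Equiv.Perm GolayPt)) (l1 l2 : List GolayPt) :
    fixL (fixL H l1) l2 = fixL H (l1 ++ l2) := by
  ext g
  simp only [mem_fixL, List.mem_append]
  constructor
  · rintro ⟨⟨h1, h2⟩, h3⟩
    exact ⟨h1, fun x hx => hx.elim (h2 x) (h3 x)⟩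
  · rintro ⟨h1, h2⟩
    exact ⟨⟨h1, fun x hx => h2 x (Or.inl hx)⟩, fun x hx => h2 x (Or.inr hx)⟩

/-- `M11` in reference position: the stabilizer of the reference dodecad and of its point `0` -/
def M11in (H : Subgroup (Equiv.Perm GolayPt)) : Subgroup (Equiv.Perm GolayPt) :=
  fixL (M12in H) [pt 0]

/-- the complement of the reference dodecad -/
def C12 : Set GolayPt := {p | p ∉ fs dodecad0}

theorem M11in_mem_C {H : Subgroup (Equiv.Perm GolayPt)} :
    ∀ g ∈ M11in H, ∀ p, g p ∈ C12 ↔ p ∈ C12 := by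
  intro g hg p
  exact not_congr (M12in_mem_D g (fixL_le _ _ hg) p)

/-- base points outside the dodecad -/
def bs11 : List GolayPt := (base11.drop 1).map pt

theorem chain11 {H : Subgroup (Equiv.Perm GolayPt)} (hH : HasGens H) :
    ∀ k (hk : k < bs11.length), ∀ q ∈ C12, q ∉ bs11.take k →
      ∃ g ∈ fixL (M11in H) (bs11.take k), g (bs11[k]) = q := by
  intro k hk q hqC hq
  have hk3 : k < 3 := hk
  have e1 : (base11.take (k + 1)).map pt = [pt 0] ++ bs11.take k := by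
    interval_cases k <;> decide
  have e2 : ∀ h : k < bs11.length, bs11[k]'h = pt (base11.getD (k + 1) 0) := by
    interval_cases k <;> decide
  have hmem : idx q ∈ orbs11.getD (k + 1) [] := by
    have : ∀ q : GolayPt, q ∉ fs dodecad0 → q ∉ bs11.take k → idx q ∈ orbs11.getD (k + 1) [] := by
      interval_cases k <;> decide
    exact this q hqC hq
  obtain ⟨_, g, hg, hgq⟩ := reach_of_chainCheck (rep_E12 hH) chain11_ok (k + 1)
    (by show k + 1 < 4; omega) (idx q) hmem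
  rw [e1, ← fixL_fixL] at hg
  exact ⟨g, hg, by rw [e2 hk, hgq, pt_idx]⟩

theorem exists_M11_map {H : Subgroup (Equiv.Perm GolayPt)} (hH : HasGens H)
    (x y : Fin 3 ↪ GolayPt) (hx : ∀ i, x i ∉ fs dodecad0) (hy : ∀ i, y i ∉ fs dodecad0) :
    ∃ g ∈ M11in H, ∀ i, g (x i) = y i :=
  exists_map_of_chain_on (M11in H) C12 M11in_mem_C bs11 (chain11 hH) x y hx hy

/-- **`M11` is 3-transitive on the twelve points outside the dodecad.** -/
theorem exists_stab_dodecad_point_map {d : Finset GolayPt} (hd : d ∈ dodecads) {p : GolayPt}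
    (hp : p ∈ d) (x y : Fin 3 ↪ GolayPt) (hx : ∀ i, x i ∉ d) (hy : ∀ i, y i ∉ d) :
    ∃ g : Equiv.Perm GolayPt, (g ∈ M24 ∧ g • d = d ∧ g p = p) ∧ ∀ i, g (x i) = y i := by
  obtain ⟨t, ht, rfl, rfl⟩ := exists_M24_dodecad_point hd hp
  let x' : Fin 3 ↪ GolayPt := x.trans (t⁻¹ : Equiv.Perm GolayPt).toEmbedding
  let y' : Fin 3 ↪ GolayPt := y.trans (t⁻¹ : Equiv.Perm GolayPt).toEmbedding
  have hx' : ∀ i, x' i ∉ fs dodecad0 := fun i h => hx i ((mem_smul_iff_inv_mem t _ _).mpr h)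
  have hy' : ∀ i, y' i ∉ fs dodecad0 := fun i h => hy i ((mem_smul_iff_inv_mem t _ _).mpr h)
  obtain ⟨g', hg', hgxy⟩ := exists_M11_map hasGens_M24 x' y' hx' hy'
  have hg'1 := mem_fixL.mp hg'
  have hg'2 := mem_M12in.mp hg'1.1
  refine ⟨t * g' * t⁻¹, ⟨M24.mul_mem (M24.mul_mem ht hg'2.1) (M24.inv_mem ht), ?_, ?_⟩, ?_⟩
  · rw [mul_smul, mul_smul, inv_smul_smul, hg'2.2]
  · rw [Equiv.Perm.mul_apply, Equiv.Perm.mul_apply, perm_inv_apply,
      hg'1.2 _ (List.mem_singleton.mpr rfl)]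
  · intro i
    have := hgxy i
    simp only [x', y', Function.Embedding.trans_apply, Equiv.coe_toEmbedding] at this
    rw [Equiv.Perm.mul_apply, Equiv.Perm.mul_apply, this, perm_apply_inv]

end Cfsg.Agent.Lib.Helper6.Golay
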