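import Cfsg.Agent.Lib.Helper6.PermChain

/-!
# Stabilizer chains: multiple transitivity on an invariant subset
-/

set_option autoImplicit false

namespace Cfsg.Agent.Lib.Helper6.PermChain

open MulAction

variable {Ω : Type*}

theorem exists_map_base_on_aux [DecidableEq Ω] (H : Subgroup (Equiv.Perm Ω)) (D : Set Ω)
    (hD : ∀ g ∈ H, ∀ p, g p ∈ D ↔ p ∈ D) (bs : List Ω)
    (hchain : ∀ k (hk : k < bs.length), ∀ q ∈ D, q ∉ bs.take k →
      ∃ g ∈ fixL H (bs.take k), g (bs[k]) = q)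
    (x : Fin bs.length ↪ Ω) (hx : ∀ i, x i ∈ D) :
    ∀ m, m ≤ bs.length → ∃ g ∈ H, ∀ i : Fin bs.length, i.val < m → g (bs[i]) = x i := by
  intro m
  induction m with
  | zero => intro _; exact ⟨1, H.one_mem, fun i hi => absurd hi (Nat.not_lt_zero _)⟩
  | succ m ih =>
    intro hm
    obtain ⟨g, hg, hgx⟩ := ih (Nat.le_of_succ_le hm)
    have hmlt : m < bs.length := hm
    have hqD : g⁻¹ (x ⟨m, hmlt⟩) ∈ D := by
      rw [← hD g hg, Equiv.Perm.inv_def, Equiv.apply_symm_apply]
      exact hx _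
    have hq : g⁻¹ (x ⟨m, hmlt⟩) ∉ bs.take m := by
      intro hmem
      rw [List.mem_take_iff_getElem] at hmem
      obtain ⟨i, hi, hieq⟩ := hmem
      have hi' : i < m := lt_of_lt_of_le hi (min_le_left _ _)
      have hil : i < bs.length := lt_trans hi' hmlt
      have h1 := hgx ⟨i, hil⟩ hi'
      simp only [Fin.getElem_fin] at h1
      rw [hieq] at h1
      rw [Equiv.Perm.inv_def, Equiv.apply_symm_apply] at h1
      have := x.injective h1
      rw [Fin.mk.injEq] at this
      omega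
    obtain ⟨h, hh, hhq⟩ := hchain m hmlt _ hqD hq
    rw [mem_fixL] at hh
    refine ⟨g * h, H.mul_mem hg hh.1, ?_⟩
    intro i him
    rw [Equiv.Perm.mul_apply]
    rcases Nat.lt_succ_iff_lt_or_eq.mp him with h' | h'
    · have hmem : bs[i] ∈ bs.take m := by
        rw [List.mem_take_iff_getElem]
        exact ⟨i.val, lt_min h' i.2, rfl⟩
      rw [hh.2 _ hmem]
      exact hgx i h'
    · have hi : i = ⟨m, hmlt⟩ := Fin.ext h'
      subst hi
      simp only [Fin.getElem_fin]
      rw [hhq]; simp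

theorem exists_map_base_on [DecidableEq Ω] (H : Subgroup (Equiv.Perm Ω)) (D : Set Ω)
    (hD : ∀ g ∈ H, ∀ p, g p ∈ D ↔ p ∈ D) (bs : List Ω)
    (hchain : ∀ k (hk : k < bs.length), ∀ q ∈ D, q ∉ bs.take k →
      ∃ g ∈ fixL H (bs.take k), g (bs[k]) = q)
    (x : Fin bs.length ↪ Ω) (hx : ∀ i, x i ∈ D) :
    ∃ g ∈ H, ∀ i : Fin bs.length, g (bs[i]) = x i := by
  obtain ⟨g, hg, h⟩ := exists_map_base_on_aux H D hD bs hchain x hx bs.length le_rfl
  exact ⟨g, hg, fun i => h i i.2⟩

/-- Any two injective tuples inside the invariant subset `D` are conjugate under the subgroup. -/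
theorem exists_map_of_chain_on [DecidableEq Ω] (H : Subgroup (Equiv.Perm Ω)) (D : Set Ω)
    (hD : ∀ g ∈ H, ∀ p, g p ∈ D ↔ p ∈ D) (bs : List Ω)
    (hchain : ∀ k (hk : k < bs.length), ∀ q ∈ D, q ∉ bs.take k →
      ∃ g ∈ fixL H (bs.take k), g (bs[k]) = q)
    (x y : Fin bs.length ↪ Ω) (hx : ∀ i, x i ∈ D) (hy : ∀ i, y i ∈ D) :
    ∃ g ∈ H, ∀ i, g (x i) = y i := by
  obtain ⟨g1, hg1, h1⟩ := exists_map_base_on H D hD bs hchain x hx
  obtain ⟨g2, hg2, h2⟩ := exists_map_base_on H D hD bs hchain y hy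
  refine ⟨g2 * g1⁻¹, H.mul_mem hg2 (H.inv_mem hg1), fun i => ?_⟩
  rw [Equiv.Perm.mul_apply, ← h1 i, Equiv.Perm.inv_def, Equiv.symm_apply_apply, h2 i]

/-- the pointwise stabilizer of the image of the base under an element of the subgroup -/
theorem card_fixL_of_map [DecidableEq Ω] (H : Subgroup (Equiv.Perm Ω)) (bs : List Ω)
    {g : Equiv.Perm Ω} (hg : g ∈ H) (x : Fin bs.length → Ω) (h : ∀ i : Fin bs.length, g (bs[i]) = x i) :
    Nat.card (fixL H (List.ofFn x)) = Nat.card (fixL H bs) := by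
  have : List.ofFn x = bs.map g := by
    apply List.ext_getElem
    · simp
    · intro i h1 h2
      simp only [List.getElem_ofFn, List.getElem_map]
      have := h ⟨i, by simpa using h2⟩
      simp only [Fin.getElem_fin] at this
      rw [this]
  rw [this, card_fixL_map H hg]

end Cfsg.Agent.Lib.Helper6.PermChain
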