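import Cfsg.Agent.Lib.Helper6.GolayCount
import Cfsg.Agent.Lib.Helper6.PermChainOn

/-!
# The stabilizer of a dodecad (`M12`) and its point stabilizer (`M11`)
-/

set_option autoImplicit false

namespace Cfsg.Agent.Lib.Helper6.Golay

open Cfsg
open Cfsg.Agent.Lib.Helper6.PermChain
open scoped Pointwise

def prog12 : List (ℕ × ℕ) := [(0, 0), (0, 1), (0, 2), (1, 0), (2, 0), (2, 2), (3, 0), (3, 1), (3, 2), (4, 2), (5, 0), (6, 2), (7, 0), (8, 0), (8, 2), (9, 1), (10, 0), (11, 2), (12, 0), (13, 2), (15, 0), (15, 2), (16, 2), (17, 0), (18, 0), (19, 0), (20, 0), (21, 1), (23, 1), (24, 0), (25, 0), (26, 2), (27, 0), (28, 0), (29, 2), (30, 0), (32, 2), (33, 2), (35, 2), (36, 0), (37, 2), (39, 2), (41, 2), (42, 1), (43, 0), (45, 0), (46, 0), (1, 1), (50, 1), (51, 2), (52, 2), (53, 0), (54, 0), (55, 2), (56, 1), (57, 2), (58, 2), (59, 0), (60, 0), (61, 1), (62, 1), (63, 0), (64, 0), (38, 65), (34, 1), (67, 1), (68, 2), (69, 2), (70, 2), (71, 2), (72, 0), (73, 2), (74, 0), (75, 2), (76, 0), (77, 0), (78, 0), (79, 0),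 (80, 0), (81, 2), (49, 82), (4, 1), (84, 1), (85, 2), (86, 0), (87, 2), (88, 0), (89, 2), (90, 1), (91, 1), (92, 0), (93, 2), (94, 0), (95, 1), (96, 2), (97, 1), (98, 1), (99, 2), (100, 0), (101, 2), (48, 102), (14, 1), (104, 0), (105, 0), (106, 2), (107, 0), (108, 1), (109, 0), (110, 1), (111, 1), (112, 0), (113, 0), (44, 114), (31, 1), (116, 2), (117, 1), (118, 1), (47, 119), (22, 1), (121, 1), (122, 0), (123, 1), (124, 1), (125, 0), (126, 1), (127, 0), (128, 0), (129, 0), (130, 2), (131, 0), (132, 0), (133, 0), (40, 134), (66, 66), (66, 83), (66, 115), (83, 115), (103, 103), (115, 115), (141, 83), (142, 135), (143, 120), (144, 83), (145, 115), (146, 120), (147, 83), (148, 135), (149, 83), (150, 115), (151, 135), (152, 115), (153, 66), (154, 115), (155, 115), (156, 83), (157, 66), (158, 103), (159, 120), (140, 160), (66, 161), (103, 83), (163, 83), (164, 115), (165, 120), (166, 135), (167, 120), (168, 66), (169, 66), (135, 170), (120, 171), (171, 171), (172, 161), (174, 161), (139, 103), (176, 66), (177,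 120), (178, 103), (179, 103), (180, 115), (181, 66), (182, 66), (183, 66), (184, 83), (66, 185), (175, 186), (171, 187), (187, 187), (120, 83), (190, 66), (191, 120), (192, 103), (193, 103), (194, 120), (195, 115), (196, 83), (197, 120), (198, 115), (199, 120), (200, 83), (201, 115), (202, 83), (203, 135), (204, 83), (205, 103), (206, 83), (66, 207), (171, 208), (66, 209), (188, 209), (187, 209), (120, 135), (213, 83), (214, 83), (215, 135), (216, 135), (217, 120), (218, 83), (219, 135), (220, 115), (221, 115), (222, 120), (162, 223), (211, 224), (187, 225), (189, 226), (226, 226), (136, 66), (229, 66), (230, 66), (231, 120), (232, 103), (233, 83), (234, 135), (235, 135), (236, 115), (237, 103), (238, 115), (239, 120), (240, 115), (173, 241), (227, 242), (243, 226), (228, 243), (244, 226), (163, 135), (247, 66), (248, 83), (249, 83), (250, 115), (251, 120), (252, 135), (253, 120), (254, 120), (255, 66), (256, 103), (257, 83), (258, 83), (259, 135), (260, 66), (210, 261), (120, 262), (212, 263), (246, 264),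 (66, 120), (266, 103), (267, 135), (268, 66), (269, 135), (270, 135), (271, 135), (272, 83), (273, 103), (274, 103), (275, 66), (276, 135), (277, 115), (278, 66), (279, 115), (137, 280), (188, 281), (209, 282), (245, 283), (266, 66), (285, 120), (286, 135), (287, 115), (288, 115), (289, 120), (290, 66), (291, 120), (292, 66), (293, 66), (294, 66), (295, 135), (296, 66), (297, 103), (83, 298), (299, 299), (300, 120), (300, 299), (302, 299), (115, 103), (304, 115), (305, 135), (306, 135), (307, 120), (308, 115), (309, 115), (310, 115), (311, 120), (312, 66), (313, 120), (314, 120), (315, 66), (316, 103), (317, 120), (318, 66), (319, 115), (320, 66), (321, 83), (138, 322), (301, 323), (299, 324), (325, 299), (326, 120), (135, 115), (328, 120), (329, 135), (330, 115), (331, 103), (332, 66), (333, 103), (334, 103), (335, 83), (136, 336), (327, 337), (324, 338), (339, 324), (135, 83), (341, 120), (342, 83), (343, 103), (344, 135), (345, 115), (346, 115), (347, 83), (348, 103), (349, 115), (350, 135), (351, 103),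 (352, 83), (353, 135), (354, 115), (355, 83), (356, 83), (135, 357), (303, 358), (340, 359), (115, 120), (361, 103), (362, 83), (363, 83), (364, 83), (365, 115), (366, 103), (367, 66), (368, 135), (369, 66), (370, 103), (66, 371), (302, 372)]

def base12 : List ℕ := [0, 2, 3, 4, 6]

def trees12 : List (List (ℕ × ℕ)) := [[(0, 66), (0, 115), (0, 135), (4, 66), (4, 83), (4, 115), (4, 135), (4, 226), (8, 135), (8, 187), (8, 243)],
  [(2, 120), (2, 161), (2, 171), (14, 171), (14, 187), (14, 243), (14, 284), (9, 284), (7, 243), (7, 265)],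
  [(3, 187), (3, 209), (10, 187), (10, 209), (10, 226), (10, 243), (10, 265), (10, 284), (13, 209)],
  [(4, 226), (4, 243), (13, 226), (13, 243), (13, 265), (14, 265), (11, 265), (6, 265)],
  [(6, 265), (6, 284), (9, 265), (9, 284), (14, 265), (13, 265), (13, 284)]]

def orbs12 : List (List ℕ) := [[0, 2, 3, 4, 6, 7, 8, 9, 10, 11, 13, 14],
  [2, 3, 4, 6, 7, 8, 9, 10, 11, 13, 14],
  [3, 4, 6, 7, 8, 9, 10, 11, 13, 14],
  [4, 6, 7, 8, 9, 10, 11, 13, 14],
  [6, 7, 8, 9, 10, 11, 13, 14]]

def base11 : List ℕ := [0, 1, 5, 12]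

def trees11 : List (List (ℕ × ℕ)) := [[(0, 66), (0, 115), (0, 135), (4, 66), (4, 83), (4, 115), (4, 135), (4, 324), (8, 83), (8, 135), (10, 66)],
  [(1, 299), (15, 120), (15, 299), (15, 324), (15, 338), (15, 373), (12, 299), (17, 120), (17, 299), (17, 338), (17, 373)],
  [(5, 120), (5, 324), (5, 338), (17, 324), (17, 338), (17, 373), (16, 120), (16, 373), (12, 120), (12, 338)],
  [(12, 360), (12, 373), (17, 360), (17, 373), (15, 360), (15, 373), (16, 373), (22, 360), (19, 360)]]

def orbs11 : List (List ℕ) := [[0, 2, 3, 4, 6, 7, 8, 9, 10, 11, 13, 14],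
  [1, 5, 12, 15, 16, 17, 18, 19, 20, 21, 22, 23],
  [5, 12, 15, 16, 17, 18, 19, 20, 21, 22, 23],
  [12, 15, 16, 17, 18, 19, 20, 21, 22, 23]]

/-- the elements of the straight-line program, those not stabilizing the dodecad replaced by `1` -/
def E12 : List (List ℕ) := stabFilter (slpRun gens3 prog12) [dodecad0]

/-- the stabilizer of the reference dodecad in `H` -/
def M12in (H : Subgroup (Equiv.Perm GolayPt)) : Subgroup (Equiv.Perm GolayPt) := stabM H [dodecad0]

theorem mem_M12in {H : Subgroup (Equiv.Perm GolayPt)} {g : Equiv.Perm GolayPt} :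
    g ∈ M12in H ↔ g ∈ H ∧ g • fs dodecad0 = fs dodecad0 := by
  rw [M12in, mem_stabM]
  simp

theorem rep_E12 {H : Subgroup (Equiv.Perm GolayPt)} (hH : HasGens H) :
    ∀ l ∈ E12, Rep (M12in H) l :=
  rep_stabFilter (rep_slpRun _ _ (rep_gens3 hH)) _

set_option maxHeartbeats 4000000 in
theorem chain12_ok : chainCheck E12 base12 trees12 orbs12 = true := by decide +kernel

set_option maxHeartbeats 4000000 in
theorem chain11_ok : chainCheck E12 base11 trees11 orbs11 = true := by decide +kernel

/-- the reference dodecad as a set of points -/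
def D12 : Set GolayPt := {p | p ∈ fs dodecad0}

theorem M12in_mem_D {H : Subgroup (Equiv.Perm GolayPt)} :
    ∀ g ∈ M12in H, ∀ p, g p ∈ D12 ↔ p ∈ D12 := by
  intro g hg p
  exact mem_of_smul_eq (mem_M12in.mp hg).2

/-- base points of the `M12` chain -/
def bs12 : List GolayPt := base12.map pt

theorem chain12 {H : Subgroup (Equiv.Perm GolayPt)} (hH : HasGens H) :
    ∀ k (hk : k < bs12.length), ∀ q ∈ D12, q ∉ bs12.take k →
      ∃ g ∈ fixL (M12in H) (bs12.take k), g (bs12[k]) = q := by
  intro k hk q hqD hq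
  have hk5 : k < 5 := hk
  have e1 : bs12.take k = (base12.take k).map pt := by rw [bs12, List.map_take]
  have e2 : ∀ h : k < bs12.length, bs12[k]'h = pt (base12.getD k 0) := by
    intro h
    simp only [bs12, List.getElem_map]
    rw [List.getD_eq_getElem]
  rw [e1] at hq ⊢
  rw [e2 hk]
  have hmem : idx q ∈ orbs12.getD k [] := by
    have : ∀ q : GolayPt, q ∈ fs dodecad0 → q ∉ (base12.take k).map pt → idx q ∈ orbs12.getD k [] := by
      interval_cases k <;> decide
    exact this q hqD hq
  obtain ⟨_, g, hg, hgq⟩ := reach_of_chainCheck (rep_E12 hH) chain12_ok k hk5 (idx q) hmem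
  exact ⟨g, hg, by rw [hgq, pt_idx]⟩

/-- **`M12` is 5-transitive on the dodecad.** -/
theorem exists_M12_map {H : Subgroup (Equiv.Perm GolayPt)} (hH : HasGens H)
    (x y : Fin 5 ↪ GolayPt) (hx : ∀ i, x i ∈ fs dodecad0) (hy : ∀ i, y i ∈ fs dodecad0) :
    ∃ g ∈ M12in H, ∀ i, g (x i) = y i :=
  exists_map_of_chain_on (M12in H) D12 M12in_mem_D bs12 (chain12 hH) x y hx hy

/-- the stabilizer in the subgroup, as a subgroup of the subgroup, has the same order -/
theorem card_stabM_single (H : Subgroup (Equiv.Perm GolayPt)) (m : ℕ) :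
    Nat.card (stabM H [m]) = Nat.card (MulAction.stabilizer H (fs m)) := by
  apply Nat.card_congr
  refine ⟨fun g => ⟨⟨g.1, (mem_stabM.mp g.2).1⟩, ?_⟩, fun g => ⟨g.1.1, ?_⟩, ?_, ?_⟩
  · exact (mem_stabM.mp g.2).2 m (by simp)
  · rw [mem_stabM]
    refine ⟨g.1.2, ?_⟩
    intro m' hm'
    rw [List.mem_singleton] at hm'
    subst hm'
    exact g.2
  · intro g; rfl
  · intro g; rfl

theorem card_M12 : Nat.card (M12in M24) = 95040 := by
  rw [M12in, card_stabM_single]
  exact card_stabilizer_dodecad dodecad0_mem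

/-- the `k`-th basic orbit of the `M12` chain -/
def orb12 (k : ℕ) : Finset GolayPt := (fs dodecad0).filter (fun q => q ∉ bs12.take k)

theorem card_fixL_M12 (k : ℕ) (hk : k < 5) :
    Nat.card (fixL (M12in M24) (bs12.take k)) =
      (orb12 k).card * Nat.card (fixL (M12in M24) (bs12.take (k + 1))) := by
  have hk' : k < bs12.length := hk
  have e : bs12.take (k + 1) = bs12.take k ++ [bs12[k]] := by
    rw [List.take_succ_eq_append_getElem hk']
  rw [e]
  apply card_fixL_step
  · intro q hq
    rw [orb12, Finset.mem_filter] at hq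
    exact chain12 hasGens_M24 k hk' q hq.1 hq.2
  · intro g hg
    rw [orb12, Finset.mem_filter]
    have hb : ∀ h : k < bs12.length, bs12[k]'h ∈ fs dodecad0 ∧ bs12[k]'h ∉ bs12.take k := by
      interval_cases k <;> decide
    refine ⟨(M12in_mem_D g (fixL_le _ _ hg) _).mpr (hb hk').1, apply_not_mem_of_fixL hg (hb hk').2⟩

theorem card_fixL_M12_vals : Nat.card (fixL (M12in M24) (bs12.take 1)) = 7920 ∧
    Nat.card (fixL (M12in M24) bs12) = 1 := by
  have h0 := card_fixL_M12 0 (by norm_num)
  have h1 := card_fixL_M12 1 (by norm_num)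
  have h2 := card_fixL_M12 2 (by norm_num)
  have h3 := card_fixL_M12 3 (by norm_num)
  have h4 := card_fixL_M12 4 (by norm_num)
  have c0 : (orb12 0).card = 12 := by decide
  have c1 : (orb12 1).card = 11 := by decide
  have c2 : (orb12 2).card = 10 := by decide
  have c3 : (orb12 3).card = 9 := by decide
  have c4 : (orb12 4).card = 8 := by decide
  have e0 : fixL (M12in M24) (bs12.take 0) = M12in M24 := fixL_nil _
  have e5 : bs12.take 5 = bs12 := rfl
  rw [e0, card_M12, c0] at h0
  rw [c1] at h1; rw [c2] at h2; rw [c3] at h3; rw [c4, e5] at h4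
  simp only [zero_add, Nat.reduceAdd] at h0 h1 h2 h3 h4
  constructor <;> omega

/-- an element of `M12` fixing five points of the dodecad is trivial -/
theorem eq_one_of_M12_fix {g : Equiv.Perm GolayPt} (hg : g ∈ M12in M24) (x : Fin 5 ↪ GolayPt)
    (hx : ∀ i, x i ∈ fs dodecad0) (hgx : ∀ i, g (x i) = x i) : g = 1 := by
  obtain ⟨t, ht, htx⟩ := exists_map_base_on (M12in M24) D12 M12in_mem_D bs12 (chain12 hasGens_M24)
    x hx
  have hcard := card_fixL_of_map (M12in M24) bs12 ht x htx
  rw [card_fixL_M12_vals.2] at hcard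
  have hmem : g ∈ fixL (M12in M24) (List.ofFn x) := by
    rw [mem_fixL]
    refine ⟨hg, ?_⟩
    intro p hp
    rw [List.mem_ofFn] at hp
    obtain ⟨i, rfl⟩ := hp
    exact hgx i
  have hsub : Subsingleton (fixL (M12in M24) (List.ofFn x)) :=
    (Nat.card_eq_one_iff_unique.mp hcard).1
  have := Subsingleton.elim (⟨g, hmem⟩ : fixL (M12in M24) (List.ofFn x)) 1
  exact congrArg Subtype.val this

end Cfsg.Agent.Lib.Helper6.Golay
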