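import Cfsg.Agent.Lib.Helper6.GolayM12b

/-!
# The stabilizer of three points in `M12`: order 72, transitive on the complementary dodecad
-/

set_option autoImplicit false

namespace Cfsg.Agent.Lib.Helper6.Golay

open Cfsg
open Cfsg.Agent.Lib.Helper6.PermChain
open scoped Pointwise

def prog12b : List (ℕ × ℕ) := [(0, 0), (0, 1), (0, 2), (1, 0), (1, 2), (2, 0), (3, 0), (3, 2), (4, 0), (6, 0), (7, 0), (8, 0), (8, 1), (9, 0), (9, 1), (9, 2), (10, 2), (11, 0), (11, 2), (12, 0), (13, 0), (14, 2), (15, 0), (16, 2), (17, 0), (18, 0), (20, 2), (21, 0), (22, 2), (23, 2), (24, 0), (25, 2), (26, 0), (27, 0), (28, 0), (29, 0), (30, 1), (31, 2), (32, 0), (33, 1), (35, 2), (36, 1), (37, 2), (39, 0), (41, 0), (42, 2), (43, 2), (45, 2), (47, 0), (49, 0), (50, 2), (51, 2), (52, 2), (5, 1), (56, 2), (57, 1), (58, 1), (59, 0), (60, 1), (61, 2), (62, 0), (63, 2), (64, 2), (65, 0), (66, 0), (67, 0), (46, 68), (1, 1), (70, 0), (71, 0), (72, 0), (73, 0), (74, 2), (75, 0), (76,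 1), (77, 2), (78, 1), (79, 2), (80, 1), (81, 0), (82, 1), (83, 2), (84, 1), (85, 2), (44, 86), (38, 0), (88, 0), (89, 1), (90, 0), (91, 2), (92, 2), (93, 1), (94, 1), (95, 1), (96, 0), (97, 0), (98, 2), (99, 0), (53, 100), (40, 2), (102, 2), (103, 0), (104, 0), (105, 2), (106, 1), (55, 107), (34, 1), (109, 1), (110, 1), (111, 1), (112, 2), (113, 1), (114, 1), (115, 1), (116, 1), (117, 1), (54, 118), (19, 1), (120, 0), (121, 1), (122, 0), (123, 2), (124, 2), (48, 125), (69, 119), (126, 87), (128, 119), (129, 119), (130, 101), (131, 119), (132, 119), (133, 69), (134, 87), (135, 126), (136, 87), (137, 126), (138, 101), (139, 101), (140, 101), (141, 119), (142, 101), (127, 143), (144, 144), (145, 144), (146, 144), (147, 144), (148, 144), (87, 87), (150, 69), (151, 87), (152, 108), (153, 101), (154, 87), (155, 126), (156, 69), (157, 126), (127, 158), (149, 159), (160, 160), (161, 160), (162, 160), (126, 69), (164, 101), (165, 69), (166, 101), (167, 126), (168,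 101), (169, 69), (170, 108), (171, 87), (172, 87), (173, 108), (174, 69), (175, 101), (176, 126), (177, 87), (145, 178), (163, 179), (162, 180), (87, 126), (182, 108), (183, 69), (184, 101), (185, 87), (186, 126), (187, 119), (188, 126), (189, 108), (190, 69), (191, 87), (192, 101), (193, 87), (194, 101), (195, 119), (196, 108), (197, 108), (198, 119), (199, 108), (126, 200), (181, 201)]

def base12b : List ℕ := [0, 2, 3, 1]

def trees12b : List (List (ℕ × ℕ)) := [[(0, 69), (0, 101), (0, 108), (0, 119), (0, 126), (4, 69), (4, 101), (4, 126), (4, 180), (13, 119), (2, 69)],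
  [(2, 144), (9, 144), (9, 180), (7, 144), (7, 180), (8, 144), (8, 160), (13, 202), (14, 160), (6, 160)],
  [(3, 160), (13, 160), (13, 180), (13, 202), (8, 160), (8, 180), (8, 202), (10, 180), (10, 202)],
  [(1, 180), (1, 202), (17, 202), (23, 180), (23, 202), (16, 180), (5, 202), (12, 180), (12, 202), (21, 180), (21, 202)]]

def orbs12b : List (List ℕ) := [[0, 2, 3, 4, 6, 7, 8, 9, 10, 11, 13, 14],
  [2, 3, 4, 6, 7, 8, 9, 10, 11, 13, 14],
  [3, 4, 6, 7, 8, 9, 10, 11, 13, 14],
  [1, 5, 12, 15, 16, 17, 18, 19, 20, 21, 22, 23]]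

def E12b : List (List ℕ) := stabFilter (slpRun gens3 prog12b) [dodecad0]

theorem rep_E12b {H : Subgroup (Equiv.Perm GolayPt)} (hH : HasGens H) :
    ∀ l ∈ E12b, Rep (M12in H) l :=
  rep_stabFilter (rep_slpRun _ _ (rep_gens3 hH)) _

set_option maxHeartbeats 4000000 in
theorem chain12b_ok : chainCheck E12b base12b trees12b orbs12b = true := by decide +kernel

/-- the first three base points -/
def bs3 : List GolayPt := [pt 0, pt 2, pt 3]

theorem bs3_eq : bs3 = bs12.take 3 := by decide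

/-- the 3-point stabilizer is transitive on the complement of the dodecad -/
theorem exists_fix3_map {q : GolayPt} (hq : q ∉ fs dodecad0) :
    ∃ g ∈ fixL (M12in M24) bs3, g (pt 1) = q := by
  have hmem : idx q ∈ orbs12b.getD 3 [] := by
    have : ∀ q : GolayPt, q ∉ fs dodecad0 → idx q ∈ orbs12b.getD 3 [] := by decide
    exact this q hq
  obtain ⟨_, g, hg, hgq⟩ := reach_of_chainCheck (rep_E12b hasGens_M24) chain12b_ok 3 (by decide)
    (idx q) hmem
  have e1 : (base12b.take 3).map pt = bs3 := by decide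
  have e2 : pt (base12b.getD 3 0) = pt 1 := by decide
  rw [e1] at hg
  rw [e2, pt_idx] at hgq
  exact ⟨g, hg, hgq⟩

theorem card_fixL_M12_3 : Nat.card (fixL (M12in M24) bs3) = 72 := by
  have h0 := card_fixL_M12 0 (by norm_num)
  have h1 := card_fixL_M12 1 (by norm_num)
  have h2 := card_fixL_M12 2 (by norm_num)
  have c0 : (orb12 0).card = 12 := by decide
  have c1 : (orb12 1).card = 11 := by decide
  have c2 : (orb12 2).card = 10 := by decide
  have e0 : fixL (M12in M24) (bs12.take 0) = M12in M24 := fixL_nil _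
  rw [e0, card_M12, c0] at h0
  rw [c1] at h1; rw [c2] at h2
  simp only [zero_add, Nat.reduceAdd] at h0 h1 h2
  rw [bs3_eq]
  omega

/-- chain for the first three levels of `M12` -/
theorem chain3 : ∀ k (hk : k < bs3.length), ∀ q ∈ D12, q ∉ bs3.take k →
    ∃ g ∈ fixL (M12in M24) (bs3.take k), g (bs3[k]) = q := by
  intro k hk q hq hnot
  have hk3 : k < 3 := hk
  have hk5 : k < bs12.length := by
    have : bs12.length = 5 := rfl
    omega
  have e1 : bs3.take k = bs12.take k := by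
    rw [bs3_eq, List.take_take, min_eq_left hk3.le]
  have e2 : ∀ (h1 : k < bs3.length) (h2 : k < bs12.length), bs3[k]'h1 = bs12[k]'h2 := by
    interval_cases k <;> intros <;> rfl
  rw [e1] at hnot ⊢
  rw [e2 hk hk5]
  exact chain12 hasGens_M24 k hk5 q hq hnot

/-- an element of `M24` carrying the reference dodecad and its first three base points to a given
dodecad and three given points of it -/
theorem exists_M24_dodecad_three {d : Finset GolayPt} (hd : d ∈ dodecads) {p q r : GolayPt}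
    (hp : p ∈ d) (hq : q ∈ d) (hr : r ∈ d) (hpq : p ≠ q) (hpr : p ≠ r) (hqr : q ≠ r) :
    ∃ t ∈ M24, t • fs dodecad0 = d ∧ t (pt 0) = p ∧ t (pt 2) = q ∧ t (pt 3) = r := by
  obtain ⟨t, ht, rfl⟩ := cwReach_dodecad hd
  let x : Fin bs3.length ↪ GolayPt := ⟨![t⁻¹ p, t⁻¹ q, t⁻¹ r], by
    intro i j h
    have e : ∀ a b : GolayPt, t⁻¹ a = t⁻¹ b → a = b := fun a b hab => (t⁻¹).injective hab
    fin_cases i <;> fin_cases j <;> first | rfl | (exfalso; simp at h; first | exact hpq (e _ _ h) | exact hpr (e _ _ h) | exact hqr (e _ _ h) | exact hpq (e _ _ h).symm | exact hpr (e _ _ h).symm | exact hqr (e _ _ h).symm)⟩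
  have hx : ∀ i, x i ∈ D12 := by
    intro i
    fin_cases i
    · exact (mem_smul_iff_inv_mem t _ _).mp hp
    · exact (mem_smul_iff_inv_mem t _ _).mp hq
    · exact (mem_smul_iff_inv_mem t _ _).mp hr
  obtain ⟨h, hh, hhx⟩ := exists_map_base_on (M12in M24) D12 M12in_mem_D bs3 chain3 x hx
  have hh2 := mem_M12in.mp hh
  refine ⟨t * h, M24.mul_mem ht hh2.1, ?_, ?_, ?_, ?_⟩
  · rw [mul_smul, hh2.2]
  · have := hhx ⟨0, by decide⟩
    show t (h (pt 0)) = p
    have e : bs3[(⟨0, by decide⟩ : Fin bs3.length)] = pt 0 := rfl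
    rw [e] at this
    rw [this]; exact perm_apply_inv t p
  · have := hhx ⟨1, by decide⟩
    show t (h (pt 2)) = q
    have e : bs3[(⟨1, by decide⟩ : Fin bs3.length)] = pt 2 := rfl
    rw [e] at this
    rw [this]; exact perm_apply_inv t q
  · have := hhx ⟨2, by decide⟩
    show t (h (pt 3)) = r
    have e : bs3[(⟨2, by decide⟩ : Fin bs3.length)] = pt 3 := rfl
    rw [e] at this
    rw [this]; exact perm_apply_inv t r

/-- conjugation equivalence between a stabilizer in general position and in reference position -/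
def conjEquiv {t : Equiv.Perm GolayPt} (ht : t ∈ M24) (m : ℕ) (l : List GolayPt) :
    {g : Equiv.Perm GolayPt // g ∈ M24 ∧ g • (t • fs m) = t • fs m ∧ ∀ x ∈ l, g (t x) = t x} ≃
      fixL (stabM M24 [m]) l where
  toFun g := ⟨t⁻¹ * g.1 * t, by
    obtain ⟨h1, h2, h3⟩ := g.2
    rw [mem_fixL, mem_stabM]
    refine ⟨⟨M24.mul_mem (M24.mul_mem (M24.inv_mem ht) h1) ht, ?_⟩, ?_⟩
    · intro m' hm'
      rw [List.mem_singleton] at hm'
      subst hm'
      rw [conj_smul_eq]; exact h2
    · intro x hx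
      rw [Equiv.Perm.mul_apply, Equiv.Perm.mul_apply, h3 x hx, perm_inv_apply]⟩
  invFun h := ⟨t * h.1 * t⁻¹, by
    have hh := mem_fixL.mp h.2
    have hh1 := mem_stabM.mp hh.1
    refine ⟨M24.mul_mem (M24.mul_mem ht hh1.1) (M24.inv_mem ht), ?_, ?_⟩
    · rw [mul_smul, mul_smul, inv_smul_smul, hh1.2 m (by simp)]
    · intro x hx
      rw [Equiv.Perm.mul_apply, Equiv.Perm.mul_apply, perm_inv_apply, hh.2 x hx]⟩
  left_inv g := by apply Subtype.ext; simp [mul_assoc]
  right_inv h := by apply Subtype.ext; simp [mul_assoc]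

/-- **The stabilizer of three points in `M12`** has order 72 and is transitive on the twelve points
outside the dodecad. -/
theorem stab_dodecad_three_points {d : Finset GolayPt} (hd : d ∈ dodecads) {p q r : GolayPt}
    (hp : p ∈ d) (hq : q ∈ d) (hr : r ∈ d) (hpq : p ≠ q) (hpr : p ≠ r) (hqr : q ≠ r) :
    Nat.card ↥(MulAction.stabilizer M24 d ⊓ MulAction.stabilizer M24 p ⊓
        MulAction.stabilizer M24 q ⊓ MulAction.stabilizer M24 r) = 72 ∧
      ∀ x ∉ d, ∀ y ∉ d, ∃ g ∈ (MulAction.stabilizer M24 d ⊓ MulAction.stabilizer M24 p ⊓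
        MulAction.stabilizer M24 q ⊓ MulAction.stabilizer M24 r),
        ((g : ↥M24) : Equiv.Perm GolayPt) x = y := by
  obtain ⟨t, ht, rfl, rfl, rfl, rfl⟩ := exists_M24_dodecad_three hd hp hq hr hpq hpr hqr
  have hmem : ∀ g : M24, g ∈ (MulAction.stabilizer M24 (t • fs dodecad0) ⊓
      MulAction.stabilizer M24 (t (pt 0)) ⊓ MulAction.stabilizer M24 (t (pt 2)) ⊓
      MulAction.stabilizer M24 (t (pt 3))) ↔
      (g.1 • (t • fs dodecad0) = t • fs dodecad0 ∧ ∀ x ∈ bs3, g.1 (t x) = t x) := by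
    intro g
    simp only [Subgroup.mem_inf, MulAction.mem_stabilizer_iff, bs3, List.mem_cons,
      List.not_mem_nil, or_false, forall_eq_or_imp, forall_eq]
    constructor
    · rintro ⟨⟨⟨h1, h2⟩, h3⟩, h4⟩; exact ⟨h1, h2, h3, h4⟩
    · rintro ⟨h1, h2, h3, h4⟩; exact ⟨⟨⟨h1, h2⟩, h3⟩, h4⟩
  constructor
  · rw [← card_fixL_M12_3]
    apply Nat.card_congr
    refine Equiv.trans ?_ (conjEquiv ht dodecad0 bs3)
    refine ⟨fun g => ⟨g.1.1, g.1.2, (hmem g.1).mp g.2⟩, fun g => ⟨⟨g.1, g.2.1⟩, (hmem _).mpr g.2.2⟩,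
      fun g => rfl, fun g => rfl⟩
  · intro x hx y hy
    have hx' : t⁻¹ x ∉ fs dodecad0 := fun h => hx ((mem_smul_iff_inv_mem t _ _).mpr h)
    have hy' : t⁻¹ y ∉ fs dodecad0 := fun h => hy ((mem_smul_iff_inv_mem t _ _).mpr h)
    obtain ⟨g1, hg1, hg1x⟩ := exists_fix3_map hx'
    obtain ⟨g2, hg2, hg2y⟩ := exists_fix3_map hy'
    have hg : g2 * g1⁻¹ ∈ fixL (stabM M24 [dodecad0]) bs3 :=
      (fixL (M12in M24) bs3).mul_mem hg2 ((fixL (M12in M24) bs3).inv_mem hg1)
    let g := (conjEquiv ht dodecad0 bs3).symm ⟨g2 * g1⁻¹, hg⟩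
    refine ⟨⟨g.1, g.2.1⟩, (hmem _).mpr g.2.2, ?_⟩
    show (t * (g2 * g1⁻¹) * t⁻¹) x = y
    rw [Equiv.Perm.mul_apply, Equiv.Perm.mul_apply, Equiv.Perm.mul_apply, ← hg1x, perm_inv_apply,
      hg2y, perm_apply_inv]

end Cfsg.Agent.Lib.Helper6.Golay
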