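import Cfsg.Agent.Lib.Helper6.GolayM9Data

/-!
# The stabilizer of three points in the stabilizer of a dodecad: `3^2 : Q8`
-/

set_option autoImplicit false

namespace Cfsg.Agent.Lib.Helper6.Golay

open Cfsg
open Cfsg.Agent.Lib.Helper6.PermChain
open scoped Pointwise

/-! ### a group of order 72 with a normal subgroup of order 9 and a quaternion subgroup -/

theorem sylow_structure_72 {X : Type*} [Group X] [Finite X] (h72 : Nat.card X = 72)
    (C : Subgroup X) [hCn : C.Normal] (hC9 : Nat.card C = 9) (hC3 : ∀ x ∈ C, x ^ 3 = 1)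
    (P0 : Subgroup X) (hP8 : Nat.card P0 = 8) (e : ↥P0 ≃* QuaternionGroup 2) :
    (∀ Q : Sylow 3 X, (Q : Subgroup X).Normal ∧ Nat.card (Q : Subgroup X) = 9 ∧
      ∀ x ∈ (Q : Subgroup X), x ^ 3 = 1) ∧
    ∀ P : Sylow 2 X, Nonempty (↥(P : Subgroup X) ≃* QuaternionGroup 2) := by
  haveI : Fact (Nat.Prime 3) := ⟨by norm_num⟩
  haveI : Fact (Nat.Prime 2) := ⟨by norm_num⟩
  constructor
  · intro Q
    have hidx : C.index = 8 := by
      have := Subgroup.card_mul_index C
      rw [hC9, h72] at this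
      omega
    let SC : Sylow 3 X := IsPGroup.toSylow (IsPGroup.of_card (n := 2) (by rw [hC9]; norm_num))
      (by rw [hidx]; norm_num)
    haveI : (SC : Subgroup X).Normal := hCn
    obtain ⟨g, hg⟩ := MulAction.exists_smul_eq X SC Q
    rw [Sylow.smul_eq_of_normal] at hg
    subst hg
    exact ⟨hCn, hC9, hC3⟩
  · intro P
    have hidx : P0.index = 9 := by
      have := Subgroup.card_mul_index P0
      rw [hP8, h72] at this
      omega
    let SP : Sylow 2 X := IsPGroup.toSylow (IsPGroup.of_card (n := 3) (by rw [hP8]; norm_num))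
      (by rw [hidx]; norm_num)
    obtain ⟨g, hg⟩ := MulAction.exists_smul_eq X SP P
    subst hg
    exact ⟨(Sylow.equivSMul SP g).symm.trans e⟩

/-! ### the reference group -/

/-- the reference group of order 72 -/
abbrev G72 : Subgroup (Equiv.Perm GolayPt) := fixL (stabM M24 [dodecad0]) bs3

theorem mem_G72 {g : Equiv.Perm GolayPt} : g ∈ G72 ↔ g ∈ M24 ∧ g • fs dodecad0 = fs dodecad0 ∧
    g (pt 0) = pt 0 ∧ g (pt 2) = pt 2 ∧ g (pt 3) = pt 3 := by
  rw [mem_fixL, mem_stabM]
  constructor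
  · rintro ⟨⟨hM, hd⟩, hf⟩
    exact ⟨hM, hd _ (by simp), hf _ (by simp [bs3]), hf _ (by simp [bs3]), hf _ (by simp [bs3])⟩
  · rintro ⟨hM, hd, h0, h2, h3⟩
    refine ⟨⟨hM, ?_⟩, ?_⟩
    · intro m hm
      rw [List.mem_singleton] at hm
      rw [hm]; exact hd
    · intro x hx
      simp only [bs3, List.mem_cons, List.not_mem_nil, or_false] at hx
      rcases hx with rfl | rfl | rfl
      · exact h0
      · exact h2
      · exact h3

theorem not_mem_of_smul {g : Equiv.Perm GolayPt} {s : Finset GolayPt} (h : g • s = s)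
    {x : GolayPt} (hx : x ∉ s) : g x ∉ s := by
  intro hgx
  apply hx
  rw [← h] at hgx
  obtain ⟨y, hy, hyx⟩ := Finset.mem_smul_finset.mp hgx
  have : y = x := g.injective hyx
  rw [← this]; exact hy

/-- the points outside the reference dodecad -/
def c0bits : List ℕ := [1, 5, 12, 15, 16, 17, 18, 19, 20, 21, 22, 23]

theorem mem_c0bits {j : ℕ} (hj : j < 24) (h : ¬ dodecad0.testBit j = true) : j ∈ c0bits := by
  have : ∀ j < 24, ¬ dodecad0.testBit j = true → j ∈ c0bits := by decide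
  exact this j hj h

set_option maxHeartbeats 4000000 in
set_option maxRecDepth 100000 in
theorem m9reps_cover : c0bits.all (fun a => c0bits.all (fun b => a == b ||
    m9reps.any (fun t => t.getD 23 0 == a && t.getD 0 0 == 0 && t.getD 1 0 == b &&
      t.getD 2 0 == 2 && t.getD 3 0 == 3))) = true := by
  decide +kernel

theorem rep_m9Cand : ∀ m ∈ m9Cand, Rep M24 m := by
  intro m hm
  rw [m9Cand, List.mem_flatMap] at hm
  obtain ⟨t, ht, hm⟩ := hm
  rw [List.mem_map] at hm
  obtain ⟨l, hl, rfl⟩ := hm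
  exact Rep.mul (rep_m9reps t ht) (rep_T5 l hl)

theorem getD_eq_of_fix {g : Equiv.Perm GolayPt} {m : List ℕ} (hm : wf m = true)
    (hg : ⇑g = lfun m) {i : ℕ} (hi : i < 24) (h : g (pt i) = pt i) : m.getD i 0 = i := by
  rw [hg, lfun_pt m hi] at h
  exact pt_injOn (getD_lt hm hi) hi h

/-- normal form of the elements of the reference group -/
theorem G72_nf {g : Equiv.Perm GolayPt} (hg : g ∈ G72) :
    ∃ m ∈ m9L, ⇑g = lfun m ∧ wf m = true := by
  obtain ⟨hM, hd, h0, h2, h3⟩ := mem_G72.mp hg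
  have ha : idx (g (pt 23)) ∈ c0bits := mem_c0bits (idx_lt _) (fun h =>
    not_mem_of_smul hd (x := pt 23) (by decide) (mem_fs.mpr h))
  have hb : idx (g (pt 1)) ∈ c0bits := mem_c0bits (idx_lt _) (fun h =>
    not_mem_of_smul hd (x := pt 1) (by decide) (mem_fs.mpr h))
  have hcov := List.all_eq_true.mp (List.all_eq_true.mp m9reps_cover _ ha) _ hb
  rw [Bool.or_eq_true, beq_iff_eq] at hcov
  have hne : idx (g (pt 23)) ≠ idx (g (pt 1)) := by
    intro e
    have e1 : g (pt 23) = g (pt 1) := by rw [← pt_idx (g (pt 23)), e, pt_idx]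
    exact absurd (g.injective e1) (by decide)
  have hcov := hcov.resolve_left hne
  rw [List.any_eq_true] at hcov
  obtain ⟨t, ht, hagree⟩ := hcov
  simp only [Bool.and_eq_true, beq_iff_eq] at hagree
  obtain ⟨⟨⟨⟨a23, a0⟩, a1⟩, a2⟩, a3⟩ := hagree
  have hrep : Rep M24 t := rep_m9reps t ht
  obtain ⟨l, hl, hlf⟩ := coset_nf hrep hM (by
    intro b hb
    simp only [List.mem_cons, List.not_mem_nil, or_false] at hb
    rcases hb with rfl | rfl | rfl | rfl | rfl
    · rw [a23, pt_idx]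
    · rw [a0, h0]
    · rw [a1, pt_idx]
    · rw [a2, h2]
    · rw [a3, h3])
  have hwm : wf (lmul t l) = true := wf_lmul hrep.1 (rep_T5 l hl).1
  refine ⟨lmul t l, ?_, hlf, hwm⟩
  rw [← m9F_eq, m9F, List.mem_filter]
  refine ⟨?_, ?_⟩
  · rw [m9Cand, List.mem_flatMap]
    exact ⟨t, ht, List.mem_map.mpr ⟨l, hl, rfl⟩⟩
  · rw [Bool.and_eq_true, beq_iff_eq]
    constructor
    · rw [smul_fs hwm hlf] at hd
      exact fs_injOn (lmask_lt _ hwm _) (by decide) hd
    · rw [fixesAll, List.all_eq_true]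
      intro b hb
      rw [beq_iff_eq]
      simp only [List.mem_cons, List.not_mem_nil, or_false] at hb
      rcases hb with rfl | rfl | rfl
      · exact getD_eq_of_fix hwm hlf (by norm_num) h0
      · exact getD_eq_of_fix hwm hlf (by norm_num) h2
      · exact getD_eq_of_fix hwm hlf (by norm_num) h3

theorem m9L_rep {m : List ℕ} (hm : m ∈ m9L) : ∃ g ∈ G72, ⇑g = lfun m ∧ wf m = true := by
  rw [← m9F_eq, m9F, List.mem_filter, Bool.and_eq_true, beq_iff_eq] at hm
  obtain ⟨hc, hd, hf⟩ := hm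
  obtain ⟨wm, g, hg, hgf⟩ := rep_m9Cand m hc
  rw [fixesAll, List.all_eq_true] at hf
  have hfix : ∀ i ∈ [0, 2, 3], g (pt i) = pt i := by
    intro i hi
    have h := hf i hi
    rw [beq_iff_eq] at h
    have hi24 : i < 24 := by
      simp only [List.mem_cons, List.not_mem_nil, or_false] at hi
      omega
    rw [hgf, lfun_pt m hi24, h]
  refine ⟨g, mem_G72.mpr ⟨hg, ?_, hfix 0 (by simp), hfix 2 (by simp), hfix 3 (by simp)⟩, hgf, wm⟩
  rw [smul_fs wm hgf, hd]

/-! ### the normal subgroup of order nine -/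

/-- the list permutations of order dividing three -/
def m9C : List (List ℕ) := m9L.filter isOrd3L

theorem m9L_nodup : m9L.Nodup := by decide +kernel

theorem m9C_length : m9C.length = 9 := by decide +kernel

theorem m9C_closed : m9C.all (fun a => m9C.all (fun b => isOrd3L (lmul a b))) = true := by
  decide +kernel

/-- the elements of order dividing three of the reference group -/
def cube72 : Set (Equiv.Perm GolayPt) := {g | g ∈ G72 ∧ g * (g * g) = 1}

theorem cube72_nf {g : Equiv.Perm GolayPt} (hg : g ∈ cube72) :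
    ∃ m ∈ m9C, ⇑g = lfun m ∧ wf m = true := by
  obtain ⟨m, hm, hgm, wm⟩ := G72_nf hg.1
  exact ⟨m, List.mem_filter.mpr ⟨hm, isOrd3L_of wm hgm hg.2⟩, hgm, wm⟩

theorem m9C_rep {m : List ℕ} (hm : m ∈ m9C) : ∃ g ∈ cube72, ⇑g = lfun m ∧ wf m = true := by
  obtain ⟨hk, hi⟩ := List.mem_filter.mp hm
  obtain ⟨g, hg, hgm, wm⟩ := m9L_rep hk
  refine ⟨g, ⟨hg, mul_cube_of_lfun wm hgm ?_⟩, hgm, wm⟩
  rw [isOrd3L, beq_iff_eq] at hi
  exact hi

theorem card_cube72 : Nat.card cube72 = 9 := by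
  have h := card_set_of_list cube72 m9C (m9L_nodup.filter _)
    (fun l hl => (m9C_rep hl).choose_spec.2.2)
    (fun g hg => by
      obtain ⟨m, hm, hgm, -⟩ := cube72_nf hg
      exact ⟨m, hm, hgm⟩)
    (fun l hl => by
      obtain ⟨g, hg, hgl, -⟩ := m9C_rep hl
      exact ⟨g, hg, hgl⟩)
  rw [m9C_length] at h
  exact h

theorem lfun_mul' {a b : Equiv.Perm GolayPt} {ma mb : List ℕ} (wb : wf mb = true)
    (ha : ⇑a = lfun ma) (hb : ⇑b = lfun mb) : ⇑(a * b) = lfun (lmul ma mb) := by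
  rw [lfun_lmul ma wb, ← ha, ← hb]
  rfl

theorem cube72_mul {a b : Equiv.Perm GolayPt} (ha : a ∈ cube72) (hb : b ∈ cube72) :
    (a * b) * ((a * b) * (a * b)) = 1 := by
  obtain ⟨ma, hma, hfa, wa⟩ := cube72_nf ha
  obtain ⟨mb, hmb, hfb, wb⟩ := cube72_nf hb
  have h := List.all_eq_true.mp (List.all_eq_true.mp m9C_closed ma hma) mb hmb
  rw [isOrd3L, beq_iff_eq] at h
  exact mul_cube_of_lfun (wf_lmul wa wb) (lfun_mul' wb hfa hfb) h

/-- the subgroup of order nine -/
def C72 : Subgroup ↥G72 where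
  carrier := {x | (x : Equiv.Perm GolayPt) ∈ cube72}
  mul_mem' := by
    intro a b ha hb
    exact ⟨(a * b).2, cube72_mul ha hb⟩
  one_mem' := ⟨(1 : ↥G72).2, by
    show (1 : Equiv.Perm GolayPt) * (1 * 1) = 1
    rw [mul_one, mul_one]⟩
  inv_mem' := by
    intro a ha
    refine ⟨(a⁻¹).2, ?_⟩
    show (a : Equiv.Perm GolayPt)⁻¹ * ((a : Equiv.Perm GolayPt)⁻¹ *
      (a : Equiv.Perm GolayPt)⁻¹) = 1
    rw [← mul_inv_rev, ← mul_inv_rev, mul_assoc, ha.2, inv_one]

instance C72_normal : C72.Normal := by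
  constructor
  intro n hn x
  refine ⟨(x * n * x⁻¹).2, ?_⟩
  show ((x : Equiv.Perm GolayPt) * (n : Equiv.Perm GolayPt) * (x : Equiv.Perm GolayPt)⁻¹) *
    (((x : Equiv.Perm GolayPt) * (n : Equiv.Perm GolayPt) * (x : Equiv.Perm GolayPt)⁻¹) *
    ((x : Equiv.Perm GolayPt) * (n : Equiv.Perm GolayPt) * (x : Equiv.Perm GolayPt)⁻¹)) = 1
  have e : ∀ a b : Equiv.Perm GolayPt,
      a * b * a⁻¹ * (a * b * a⁻¹ * (a * b * a⁻¹)) = a * (b * (b * b)) * a⁻¹ := by
    intro a b; group
  rw [e, hn.2]; group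

theorem card_C72 : Nat.card C72 = 9 := by
  rw [← card_cube72]
  apply Nat.card_congr
  exact
    { toFun := fun x => ⟨(x.1 : Equiv.Perm GolayPt), x.2⟩
      invFun := fun g => ⟨⟨g.1, g.2.1⟩, g.2⟩
      left_inv := fun _ => rfl
      right_inv := fun _ => rfl }

theorem C72_pow {x : ↥G72} (hx : x ∈ C72) : x ^ 3 = 1 := by
  apply Subtype.ext
  show (x : Equiv.Perm GolayPt) ^ 3 = 1
  rw [pow_succ, pow_two, mul_assoc]
  exact hx.2

/-! ### the quaternion subgroup -/

/-- the eight list permutations also fixing the point 4 -/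
def q8L : List (List ℕ) := m9L.filter (fun m => m.getD 4 0 == 4)

theorem q8L_length : q8L.length = 8 := by decide +kernel

/-- the elements of the reference group fixing the point 4 -/
def fix4 : Set (Equiv.Perm GolayPt) := {g | g ∈ G72 ∧ g (pt 4) = pt 4}

theorem fix4_nf {g : Equiv.Perm GolayPt} (hg : g ∈ fix4) :
    ∃ m ∈ q8L, ⇑g = lfun m ∧ wf m = true := by
  obtain ⟨m, hm, hgm, wm⟩ := G72_nf hg.1
  refine ⟨m, List.mem_filter.mpr ⟨hm, ?_⟩, hgm, wm⟩
  rw [beq_iff_eq]
  exact getD_eq_of_fix wm hgm (by norm_num) hg.2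

theorem q8L_rep {m : List ℕ} (hm : m ∈ q8L) : ∃ g ∈ fix4, ⇑g = lfun m ∧ wf m = true := by
  obtain ⟨hk, hi⟩ := List.mem_filter.mp hm
  rw [beq_iff_eq] at hi
  obtain ⟨g, hg, hgm, wm⟩ := m9L_rep hk
  refine ⟨g, ⟨hg, ?_⟩, hgm, wm⟩
  rw [hgm, lfun_pt m (by norm_num), hi]

theorem card_fix4 : Nat.card fix4 = 8 := by
  have h := card_set_of_list fix4 q8L (m9L_nodup.filter _)
    (fun l hl => (q8L_rep hl).choose_spec.2.2)
    (fun g hg => by
      obtain ⟨m, hm, hgm, -⟩ := fix4_nf hg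
      exact ⟨m, hm, hgm⟩)
    (fun l hl => by
      obtain ⟨g, hg, hgl, -⟩ := q8L_rep hl
      exact ⟨g, hg, hgl⟩)
  rw [q8L_length] at h
  exact h

/-- the subgroup of order eight -/
def P8 : Subgroup ↥G72 where
  carrier := {x | (x : Equiv.Perm GolayPt) ∈ fix4}
  mul_mem' := by
    intro a b ha hb
    refine ⟨(a * b).2, ?_⟩
    show (a : Equiv.Perm GolayPt) ((b : Equiv.Perm GolayPt) (pt 4)) = pt 4
    rw [hb.2, ha.2]
  one_mem' := ⟨(1 : ↥G72).2, rfl⟩
  inv_mem' := by
    intro a ha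
    refine ⟨(a⁻¹).2, ?_⟩
    show (a : Equiv.Perm GolayPt)⁻¹ (pt 4) = pt 4
    rw [Equiv.Perm.inv_def, Equiv.symm_apply_eq]
    exact ha.2.symm

theorem card_P8 : Nat.card P8 = 8 := by
  rw [← card_fix4]
  apply Nat.card_congr
  exact
    { toFun := fun x => ⟨(x.1 : Equiv.Perm GolayPt), x.2⟩
      invFun := fun g => ⟨⟨g.1, g.2.1⟩, g.2⟩
      left_inv := fun _ => rfl
      right_inv := fun _ => rfl }

/-- powers of the element of order four -/
def upow (i : ℕ) : List ℕ :=
  [idl, m9U, lmul m9U m9U, lmul m9U (lmul m9U m9U)].getD i idl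

/-- the quaternion group in list form -/
def ql : QuaternionGroup 2 → List ℕ
  | .a i => upow i.val
  | .xa i => lmul m9V (upow i.val)

theorem ql_mul : ∀ x y : QuaternionGroup 2, ql (x * y) = lmul (ql x) (ql y) := by decide +kernel

theorem ql_mem : ∀ x : QuaternionGroup 2, ql x ∈ q8L := by decide +kernel

theorem ql_inj : ∀ x y : QuaternionGroup 2, ql x = ql y → x = y := by decide +kernel

theorem exists_P8_of_ql (x : QuaternionGroup 2) :
    ∃ g : ↥P8, ⇑((g : ↥G72) : Equiv.Perm GolayPt) = lfun (ql x) ∧ wf (ql x) = true := by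
  obtain ⟨g, hg, hgf, wm⟩ := q8L_rep (ql_mem x)
  exact ⟨⟨⟨g, hg.1⟩, hg⟩, hgf, wm⟩

/-- the isomorphism of the quaternion group with the subgroup of order eight -/
noncomputable def qlHom : QuaternionGroup 2 →* ↥P8 where
  toFun x := (exists_P8_of_ql x).choose
  map_one' := by
    apply Subtype.ext
    apply Subtype.ext
    apply DFunLike.coe_injective
    rw [(exists_P8_of_ql 1).choose_spec.1]
    have : ql 1 = idl := by decide +kernel
    rw [this, lfun_idl]
    rfl
  map_mul' := by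
    intro x y
    apply Subtype.ext
    apply Subtype.ext
    apply DFunLike.coe_injective
    rw [(exists_P8_of_ql (x * y)).choose_spec.1, ql_mul]
    exact (lfun_mul' (exists_P8_of_ql y).choose_spec.2 (exists_P8_of_ql x).choose_spec.1
      (exists_P8_of_ql y).choose_spec.1).symm

theorem qlHom_injective : Function.Injective qlHom := by
  intro x y h
  apply ql_inj
  apply lfun_injective (exists_P8_of_ql x).choose_spec.2 (exists_P8_of_ql y).choose_spec.2
  rw [← (exists_P8_of_ql x).choose_spec.1, ← (exists_P8_of_ql y).choose_spec.1]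
  exact congrArg (fun g : ↥P8 => ⇑((g : ↥G72) : Equiv.Perm GolayPt)) h

theorem P8_equiv : Nonempty (↥P8 ≃* QuaternionGroup 2) := by
  have hb : Function.Bijective qlHom := by
    rw [Nat.bijective_iff_injective_and_card]
    refine ⟨qlHom_injective, ?_⟩
    rw [card_P8, Nat.card_eq_fintype_card, QuaternionGroup.card]
  exact ⟨(MulEquiv.ofBijective qlHom hb).symm⟩

/-! ### transport along an isomorphism -/

theorem sylow_structure_72_of_equiv {X Y : Type*} [Group X] [Group Y] [Finite X] [Finite Y]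
    (e : X ≃* Y) (h72 : Nat.card Y = 72)
    (C : Subgroup Y) [hCn : C.Normal] (hC9 : Nat.card C = 9) (hC3 : ∀ x ∈ C, x ^ 3 = 1)
    (P0 : Subgroup Y) (hP8 : Nat.card P0 = 8) (e8 : ↥P0 ≃* QuaternionGroup 2) :
    (∀ Q : Sylow 3 X, (Q : Subgroup X).Normal ∧ Nat.card (Q : Subgroup X) = 9 ∧
      ∀ x ∈ (Q : Subgroup X), x ^ 3 = 1) ∧
    ∀ P : Sylow 2 X, Nonempty (↥(P : Subgroup X) ≃* QuaternionGroup 2) := by
  have eC : ↥(C.comap e.toMonoidHom) ≃ ↥C :=
    { toFun := fun x => ⟨e x.1, x.2⟩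
      invFun := fun y => ⟨e.symm y.1, by
        rw [Subgroup.mem_comap]
        show e (e.symm y.1) ∈ C
        rw [MulEquiv.apply_symm_apply]; exact y.2⟩
      left_inv := fun x => Subtype.ext (e.symm_apply_apply x.1)
      right_inv := fun y => Subtype.ext (e.apply_symm_apply y.1) }
  have eP : ↥(P0.comap e.toMonoidHom) ≃* ↥P0 :=
    { toFun := fun x => ⟨e x.1, x.2⟩
      invFun := fun y => ⟨e.symm y.1, by
        rw [Subgroup.mem_comap]
        show e (e.symm y.1) ∈ P0
        rw [MulEquiv.apply_symm_apply]; exact y.2⟩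
      left_inv := fun x => Subtype.ext (e.symm_apply_apply x.1)
      right_inv := fun y => Subtype.ext (e.apply_symm_apply y.1)
      map_mul' := fun x y => Subtype.ext (map_mul e x.1 y.1) }
  apply sylow_structure_72 (by rw [Nat.card_congr e.toEquiv, h72]) (C.comap e.toMonoidHom)
    (by rw [Nat.card_congr eC, hC9]) ?_ (P0.comap e.toMonoidHom)
    (by rw [Nat.card_congr eP.toEquiv, hP8]) (eP.trans e8)
  intro x hx
  have h := hC3 (e x) hx
  rw [← map_pow] at h
  exact e.injective (h.trans (map_one e).symm)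

end Cfsg.Agent.Lib.Helper6.Golay
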