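import Cfsg.Agent.Lib.Helper6.GolayM9

/-!
# The stabilizer of a dodecad and three of its points: Sylow subgroups
-/

set_option autoImplicit false

namespace Cfsg.Agent.Lib.Helper6.Golay

open Cfsg
open Cfsg.Agent.Lib.Helper6.PermChain
open scoped Pointwise

theorem mem_stab4 {t : Equiv.Perm GolayPt} (g : ↥M24) :
    g ∈ (MulAction.stabilizer M24 (t • fs dodecad0) ⊓ MulAction.stabilizer M24 (t (pt 0)) ⊓
      MulAction.stabilizer M24 (t (pt 2)) ⊓ MulAction.stabilizer M24 (t (pt 3))) ↔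
    (g.1 • (t • fs dodecad0) = t • fs dodecad0 ∧ g.1 (t (pt 0)) = t (pt 0) ∧
      g.1 (t (pt 2)) = t (pt 2) ∧ g.1 (t (pt 3)) = t (pt 3)) := by
  simp only [Subgroup.mem_inf, MulAction.mem_stabilizer_iff]
  constructor
  · rintro ⟨⟨⟨h1, h2⟩, h3⟩, h4⟩; exact ⟨h1, h2, h3, h4⟩
  · rintro ⟨h1, h2, h3, h4⟩; exact ⟨⟨⟨h1, h2⟩, h3⟩, h4⟩

/-- conjugation isomorphism from a stabilizer in general position to the reference group -/
def conjEquiv72 {t : Equiv.Perm GolayPt} (ht : t ∈ M24) :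
    ↥(MulAction.stabilizer M24 (t • fs dodecad0) ⊓ MulAction.stabilizer M24 (t (pt 0)) ⊓
      MulAction.stabilizer M24 (t (pt 2)) ⊓ MulAction.stabilizer M24 (t (pt 3))) ≃* ↥G72 where
  toFun g := ⟨t⁻¹ * g.1.1 * t, by
    obtain ⟨h1, h2, h3, h4⟩ := (mem_stab4 g.1).mp g.2
    rw [mem_G72]
    refine ⟨M24.mul_mem (M24.mul_mem (M24.inv_mem ht) g.1.2) ht, conj_smul_eq.mpr h1, ?_, ?_, ?_⟩
    · rw [Equiv.Perm.mul_apply, Equiv.Perm.mul_apply, h2, perm_inv_apply]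
    · rw [Equiv.Perm.mul_apply, Equiv.Perm.mul_apply, h3, perm_inv_apply]
    · rw [Equiv.Perm.mul_apply, Equiv.Perm.mul_apply, h4, perm_inv_apply]⟩
  invFun h := ⟨⟨t * h.1 * t⁻¹, by
      obtain ⟨hM, -⟩ := mem_G72.mp h.2
      exact M24.mul_mem (M24.mul_mem ht hM) (M24.inv_mem ht)⟩, by
    obtain ⟨hM, hd, h0, h2, h3⟩ := mem_G72.mp h.2
    rw [mem_stab4]
    refine ⟨?_, ?_, ?_, ?_⟩
    · show (t * h.1 * t⁻¹) • (t • fs dodecad0) = t • fs dodecad0
      rw [mul_smul, mul_smul, inv_smul_smul, hd]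
    · show (t * h.1 * t⁻¹) (t (pt 0)) = t (pt 0)
      rw [Equiv.Perm.mul_apply, Equiv.Perm.mul_apply, perm_inv_apply, h0]
    · show (t * h.1 * t⁻¹) (t (pt 2)) = t (pt 2)
      rw [Equiv.Perm.mul_apply, Equiv.Perm.mul_apply, perm_inv_apply, h2]
    · show (t * h.1 * t⁻¹) (t (pt 3)) = t (pt 3)
      rw [Equiv.Perm.mul_apply, Equiv.Perm.mul_apply, perm_inv_apply, h3]⟩
  left_inv g := by
    apply Subtype.ext
    apply Subtype.ext
    show t * (t⁻¹ * g.1.1 * t) * t⁻¹ = g.1.1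
    group
  right_inv h := by
    apply Subtype.ext
    show t⁻¹ * (t * h.1 * t⁻¹) * t = h.1
    group
  map_mul' a b := by
    apply Subtype.ext
    show t⁻¹ * (a.1.1 * b.1.1) * t = t⁻¹ * a.1.1 * t * (t⁻¹ * b.1.1 * t)
    group

/-- **The stabilizer of a dodecad and three of its points**: its Sylow 3-subgroup is normal and
elementary abelian of order nine, and its Sylow 2-subgroups are quaternion of order eight. -/
theorem m9_structure (d : Finset GolayPt) (hd : d ∈ dodecads) (p q r : GolayPt) (hp : p ∈ d)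
    (hq : q ∈ d) (hr : r ∈ d) (hpq : p ≠ q) (hpr : p ≠ r) (hqr : q ≠ r) :
    (∀ Q : Sylow 3 ↥(MulAction.stabilizer M24 d ⊓ MulAction.stabilizer M24 p ⊓
        MulAction.stabilizer M24 q ⊓ MulAction.stabilizer M24 r),
      (Q : Subgroup ↥(MulAction.stabilizer M24 d ⊓ MulAction.stabilizer M24 p ⊓
        MulAction.stabilizer M24 q ⊓ MulAction.stabilizer M24 r)).Normal ∧
      Nat.card ↥Q = 9 ∧
      ∀ x ∈ (Q : Subgroup ↥(MulAction.stabilizer M24 d ⊓ MulAction.stabilizer M24 p ⊓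
        MulAction.stabilizer M24 q ⊓ MulAction.stabilizer M24 r)), x ^ 3 = 1) ∧
    ∀ P : Sylow 2 ↥(MulAction.stabilizer M24 d ⊓ MulAction.stabilizer M24 p ⊓
        MulAction.stabilizer M24 q ⊓ MulAction.stabilizer M24 r),
      Nonempty (↥P ≃* QuaternionGroup 2) := by
  obtain ⟨t, ht, rfl, rfl, rfl, rfl⟩ := exists_M24_dodecad_three hd hp hq hr hpq hpr hqr
  obtain ⟨e8⟩ := P8_equiv
  exact sylow_structure_72_of_equiv (conjEquiv72 ht) card_fixL_M12_3 C72 card_C72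
    (fun x hx => C72_pow hx) P8 card_P8 e8

end Cfsg.Agent.Lib.Helper6.Golay
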