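import Cfsg.Agent.Lib.Helper6.GolayPerm

/-!
# Subsets of the 24 points as bit masks; the action of list-permutations on masks
-/

set_option autoImplicit false

namespace Cfsg.Agent.Lib.Helper6.Golay

open Cfsg
open scoped Pointwise

/-- the finset of a mask -/
def fs (n : ℕ) : Finset GolayPt := Finset.univ.filter (fun p => n.testBit (idx p) = true)

theorem mem_fs {n : ℕ} {p : GolayPt} : p ∈ fs n ↔ n.testBit (idx p) = true := by
  simp [fs]

theorem support₂_dec (n : ℕ) : support₂ (dec n) = fs n := by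
  ext p
  simp only [support₂, dec, mem_fs]
  by_cases h : n.testBit (idx p) = true <;> simp [h]

theorem card_fs (n : ℕ) : (fs n).card = pc 24 n := by
  rw [← support₂_dec, card_support₂, hammingNorm_dec]

theorem fs_and (a b : ℕ) : fs (a &&& b) = fs a ∩ fs b := by
  ext p; simp [mem_fs, Nat.testBit_and]

theorem fs_or (a b : ℕ) : fs (a ||| b) = fs a ∪ fs b := by
  ext p; simp [mem_fs, Nat.testBit_or]

theorem fs_xor (a b : ℕ) : fs (a ^^^ b) = symmDiff (fs a) (fs b) := by
  ext p
  simp only [mem_fs, Nat.testBit_xor, Finset.mem_symmDiff]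
  cases a.testBit (idx p) <;> cases b.testBit (idx p) <;> simp

theorem fs_zero : fs 0 = ∅ := by
  ext p; simp [mem_fs]

theorem fs_ones : fs (2 ^ 24 - 1) = Finset.univ := by
  ext p
  have := idx_lt p
  rw [mem_fs, Nat.testBit_two_pow_sub_one]
  simp [this]

theorem fs_compl (a : ℕ) : fs (a ^^^ (2 ^ 24 - 1)) = (fs a)ᶜ := by
  ext p
  have := idx_lt p
  simp only [mem_fs, Nat.testBit_xor, Nat.testBit_two_pow_sub_one, Finset.mem_compl, this,
    decide_true, Bool.xor_true, Bool.not_eq_true', Bool.not_eq_true]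

theorem fs_pow (i : ℕ) (hi : i < 24) : fs (2 ^ i) = {pt i} := by
  ext p
  simp only [mem_fs, Nat.testBit_two_pow, decide_eq_true_eq, Finset.mem_singleton]
  constructor
  · intro h; rw [h, pt_idx]
  · rintro rfl; rw [idx_pt i hi]

theorem fs_injOn {a b : ℕ} (ha : a < 2 ^ 24) (hb : b < 2 ^ 24) (h : fs a = fs b) : a = b := by
  rw [← support₂_dec, ← support₂_dec] at h
  exact (dec_eq_iff ha hb).mp (support₂_injective h)

/-- generic fold building a mask -/
theorem testBit_foldr_gen (P : ℕ → Prop) [DecidablePred P] (f : ℕ → ℕ) (L : List ℕ) (j : ℕ) :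
    (L.foldr (fun i acc => if P i then acc ||| 2 ^ (f i) else acc) 0).testBit j = true
      ↔ ∃ i ∈ L, P i ∧ f i = j := by
  induction L with
  | nil => simp
  | cons a L ih =>
    rw [List.foldr_cons]
    by_cases ha : P a
    · rw [if_pos ha, Nat.testBit_or, Bool.or_eq_true, ih, Nat.testBit_two_pow, decide_eq_true_eq]
      simp only [List.mem_cons, exists_eq_or_imp, ha, true_and]
      rw [or_comm]
    · rw [if_neg ha, ih]
      simp [ha]

/-- the mask of a finset -/
def maskOf (s : Finset GolayPt) : ℕ :=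
  (List.range 24).foldr (fun i acc => if pt i ∈ s then acc ||| 2 ^ i else acc) 0

theorem testBit_maskOf (s : Finset GolayPt) (i : ℕ) :
    (maskOf s).testBit i = true ↔ ∃ p ∈ s, idx p = i := by
  rw [maskOf, testBit_foldr_gen (fun i => pt i ∈ s) (fun i => i)]
  constructor
  · rintro ⟨k, hk, hs, rfl⟩
    exact ⟨pt k, hs, idx_pt k (List.mem_range.mp hk)⟩
  · rintro ⟨p, hp, rfl⟩
    exact ⟨idx p, List.mem_range.mpr (idx_lt p), by rwa [pt_idx], rfl⟩

theorem fs_maskOf (s : Finset GolayPt) : fs (maskOf s) = s := by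
  ext p
  rw [mem_fs, testBit_maskOf]
  constructor
  · rintro ⟨q, hq, h⟩; rwa [← idx_injective h]
  · intro h; exact ⟨p, h, rfl⟩

theorem maskOf_lt (s : Finset GolayPt) : maskOf s < 2 ^ 24 := by
  apply Nat.lt_pow_two_of_testBit
  intro i hi
  rw [Bool.eq_false_iff]
  intro h
  obtain ⟨p, _, hp⟩ := (testBit_maskOf s i).mp h
  have := idx_lt p
  omega

theorem maskOf_fs {n : ℕ} (hn : n < 2 ^ 24) : maskOf (fs n) = n :=
  fs_injOn (maskOf_lt _) hn (fs_maskOf _)

theorem fs_mem_supports_iff {n : ℕ} (hn : n < 2 ^ 24) :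
    fs n ∈ supports (golayCode : Set (GolayPt → ZMod 2)) ↔ inCode n = true := by
  rw [← dec_mem_golayCode_iff n hn, ← support₂_dec]
  constructor
  · rintro ⟨w, hw, h⟩
    rw [← support₂_injective h]; exact hw
  · intro h; exact ⟨_, h, rfl⟩

theorem fs_mem_wordsOfWeight_iff {n : ℕ} (hn : n < 2 ^ 24) (k : ℕ) :
    fs n ∈ wordsOfWeight (golayCode : Set (GolayPt → ZMod 2)) k ↔ inCode n = true ∧ pc 24 n = k := by
  rw [wordsOfWeight, Set.mem_ofPred_eq, fs_mem_supports_iff hn, card_fs]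

theorem lt_of_inCode {n : ℕ} (h : inCode n = true) : n < 2 ^ 24 := by
  simp only [inCode, Bool.and_eq_true, decide_eq_true_eq] at h
  exact h.1

theorem fs_mem_octads {n : ℕ} (h : inCode n = true) (h8 : pc 24 n = 8) : fs n ∈ octads :=
  (fs_mem_wordsOfWeight_iff (lt_of_inCode h) 8).mpr ⟨h, h8⟩

theorem fs_mem_dodecads {n : ℕ} (h : inCode n = true) (h12 : pc 24 n = 12) : fs n ∈ dodecads :=
  (fs_mem_wordsOfWeight_iff (lt_of_inCode h) 12).mpr ⟨h, h12⟩

theorem mem_octads_iff (o : Finset GolayPt) :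
    o ∈ octads ↔ ∃ n, inCode n = true ∧ pc 24 n = 8 ∧ o = fs n := by
  constructor
  · intro h
    refine ⟨maskOf o, ?_, ?_, (fs_maskOf o).symm⟩
    · have := (fs_mem_wordsOfWeight_iff (maskOf_lt o) 8).mp (by rw [fs_maskOf]; exact h)
      exact this.1
    · have := (fs_mem_wordsOfWeight_iff (maskOf_lt o) 8).mp (by rw [fs_maskOf]; exact h)
      exact this.2
  · rintro ⟨n, h1, h2, rfl⟩; exact fs_mem_octads h1 h2

theorem mem_dodecads_iff (o : Finset GolayPt) :
    o ∈ dodecads ↔ ∃ n, inCode n = true ∧ pc 24 n = 12 ∧ o = fs n := by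
  constructor
  · intro h
    refine ⟨maskOf o, ?_, ?_, (fs_maskOf o).symm⟩
    · have := (fs_mem_wordsOfWeight_iff (maskOf_lt o) 12).mp (by rw [fs_maskOf]; exact h)
      exact this.1
    · have := (fs_mem_wordsOfWeight_iff (maskOf_lt o) 12).mp (by rw [fs_maskOf]; exact h)
      exact this.2
  · rintro ⟨n, h1, h2, rfl⟩; exact fs_mem_dodecads h1 h2

/-! ### the action of list permutations on masks -/

/-- image of the mask `n` under the list permutation `l` -/
def lmask (l : List ℕ) (n : ℕ) : ℕ :=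
  (List.range 24).foldr (fun i acc => if n.testBit i then acc ||| 2 ^ (l.getD i 0) else acc) 0

theorem testBit_lmask (l : List ℕ) (n j : ℕ) :
    (lmask l n).testBit j = true ↔ ∃ i < 24, n.testBit i = true ∧ l.getD i 0 = j := by
  rw [lmask, testBit_foldr_gen (fun i => n.testBit i = true) (fun i => l.getD i 0)]
  simp only [List.mem_range]

theorem smul_fs {g : Equiv.Perm GolayPt} {l : List ℕ} (hl : wf l = true) (h : ⇑g = lfun l) (n : ℕ) :
    g • fs n = fs (lmask l n) := by
  ext p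
  rw [Finset.mem_smul_finset, mem_fs, testBit_lmask]
  constructor
  · rintro ⟨q, hq, rfl⟩
    refine ⟨idx q, idx_lt q, mem_fs.mp hq, ?_⟩
    rw [Equiv.Perm.smul_def, h, lfun, idx_pt _ (getD_lt hl (idx_lt q))]
  · rintro ⟨i, hi, hn, hj⟩
    refine ⟨pt i, ?_, ?_⟩
    · rw [mem_fs, idx_pt i hi]; exact hn
    · rw [Equiv.Perm.smul_def, h, lfun, idx_pt i hi, hj, pt_idx]

theorem lmask_lt (l : List ℕ) (hl : wf l = true) (n : ℕ) : lmask l n < 2 ^ 24 := by
  apply Nat.lt_pow_two_of_testBit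
  intro j hj
  rw [Bool.eq_false_iff]
  intro h
  obtain ⟨i, hi, _, hij⟩ := (testBit_lmask l n j).mp h
  have := getD_lt hl hi
  omega

/-! ### M24 preserves the weight classes -/

theorem smul_mem_wordsOfWeight {g : Equiv.Perm GolayPt} (hg : g ∈ M24) {b : Finset GolayPt} {k : ℕ}
    (hb : b ∈ wordsOfWeight (golayCode : Set (GolayPt → ZMod 2)) k) :
    g • b ∈ wordsOfWeight (golayCode : Set (GolayPt → ZMod 2)) k := by
  obtain ⟨⟨w, hw, rfl⟩, hc⟩ := hb
  refine ⟨⟨w ∘ g.symm, forall_of_mem_M24 g hg w hw, (smul_support₂ g w).symm⟩, ?_⟩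
  rw [Finset.card_smul_finset]; exact hc

theorem smul_mem_octads {g : Equiv.Perm GolayPt} (hg : g ∈ M24) {b : Finset GolayPt}
    (hb : b ∈ octads) : g • b ∈ octads := smul_mem_wordsOfWeight hg hb

theorem smul_mem_dodecads {g : Equiv.Perm GolayPt} (hg : g ∈ M24) {b : Finset GolayPt}
    (hb : b ∈ dodecads) : g • b ∈ dodecads := smul_mem_wordsOfWeight hg hb

/-- an element of `M24` fixing five points of an octad stabilizes the octad -/
theorem smul_octad_eq {g : Equiv.Perm GolayPt} (hg : g ∈ M24) {o : Finset GolayPt}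
    (ho : o ∈ octads) {F : Finset GolayPt} (hF : ∀ p ∈ F, g p = p) (h5 : 5 ≤ (o ∩ F).card) :
    g • o = o := by
  obtain ⟨s, hs, hsc⟩ := Finset.exists_subset_card_eq h5
  have hso : s ⊆ o := hs.trans Finset.inter_subset_left
  have hsF : s ⊆ F := hs.trans Finset.inter_subset_right
  apply octad_unique (smul_mem_octads hg ho) ho hsc _ hso
  intro p hp
  rw [Finset.mem_smul_finset]
  exact ⟨p, hso hp, hF p (hsF hp)⟩

theorem mem_of_smul_eq {g : Equiv.Perm GolayPt} {o : Finset GolayPt} (h : g • o = o) {p : GolayPt} :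
    g p ∈ o ↔ p ∈ o := by
  constructor
  · intro hp
    rw [← h, Finset.mem_smul_finset] at hp
    obtain ⟨q, hq, hqp⟩ := hp
    rw [Equiv.Perm.smul_def] at hqp
    rwa [← g.injective hqp]
  · intro hp
    rw [← h, Finset.mem_smul_finset]
    exact ⟨p, hp, rfl⟩

end Cfsg.Agent.Lib.Helper6.Golay
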