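import Cfsg.Agent.Lib.Helper6.GolayTrioOrbA
import Cfsg.Agent.Lib.Helper6.GolayTrioOrbD

/-!
# The stabilizer of a trio: orbits on trios of lengths 1, 42, 56, 1008, 2688, and maximality
-/

set_option autoImplicit false

namespace Cfsg.Agent.Lib.Helper6.Golay

open Cfsg
open Cfsg.Agent.Lib.Helper6.PermChain
open Cfsg.Agent.Lib.Helper6.Overgroup
open scoped Pointwise

/-- Boolean check that a list of masks codes a trio -/
def trioB (L : List ℕ) : Bool :=
  L.length == 3 && canonB L && L.all (fun a => inCode a && (pc 24 a == 8) &&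
    L.all (fun b => (a == b) || (a &&& b == 0)))

theorem fss_mem_trios {L : List ℕ} (h : trioB L = true) : fss L ∈ trios := by
  simp only [trioB, Bool.and_eq_true, beq_iff_eq] at h
  obtain ⟨⟨h3, hc⟩, hall⟩ := h
  obtain ⟨hpw, hlt⟩ := canonB_spec L hc
  refine ⟨?_, ?_, ?_⟩
  · have hnd : (L.map fs).Nodup := by
      apply List.Nodup.map_on
      · intro a ha b hb hab
        exact fs_injOn (hlt a ha) (hlt b hb) hab
      · exact hpw.imp (fun h => ne_of_lt h)
    rw [fss, List.toFinset_card_of_nodup hnd, List.length_map, h3]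
  · intro t ht
    obtain ⟨a, ha, rfl⟩ := mem_fss.mp ht
    have h1 := List.all_eq_true.mp hall a ha
    simp only [Bool.and_eq_true, beq_iff_eq] at h1
    exact fs_mem_octads h1.1.1 h1.1.2
  · intro t ht u hu htu
    obtain ⟨a, ha, rfl⟩ := mem_fss.mp ht
    obtain ⟨b, hb, rfl⟩ := mem_fss.mp hu
    have h1 := List.all_eq_true.mp hall a ha
    simp only [Bool.and_eq_true] at h1
    have h2 := List.all_eq_true.mp h1.2 b hb
    simp only [Bool.or_eq_true, beq_iff_eq] at h2
    rcases h2 with h2 | h2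
    · exact absurd (by rw [h2]) htu
    · rw [Finset.disjoint_iff_inter_eq_empty, ← fs_and, h2, fs_zero]

set_option maxHeartbeats 4000000 in
theorem trioData_ok : (trioB trio0C && trioB rootTrA && trioB rootTrB && trioB rootTrC &&
    trioB rootTrD) = true := by
  decide +kernel

theorem trio0_mem : trio0 ∈ trios := by
  have := trioData_ok
  simp only [Bool.and_eq_true] at this
  exact fss_mem_trios this.1.1.1.1

theorem rootTrA_mem : fss rootTrA ∈ trios := by
  have := trioData_ok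
  simp only [Bool.and_eq_true] at this
  exact fss_mem_trios this.1.1.1.2

theorem rootTrB_mem : fss rootTrB ∈ trios := by
  have := trioData_ok
  simp only [Bool.and_eq_true] at this
  exact fss_mem_trios this.1.1.2

theorem rootTrC_mem : fss rootTrC ∈ trios := by
  have := trioData_ok
  simp only [Bool.and_eq_true] at this
  exact fss_mem_trios this.1.2

theorem rootTrD_mem : fss rootTrD ∈ trios := by
  have := trioData_ok
  simp only [Bool.and_eq_true] at this
  exact fss_mem_trios this.2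

theorem disjoint_smul_iff (g : Equiv.Perm GolayPt) (s t : Finset GolayPt) :
    Disjoint (g • s) (g • t) ↔ Disjoint s t := by
  rw [Finset.disjoint_iff_inter_eq_empty, Finset.disjoint_iff_inter_eq_empty,
    ← Finset.smul_finset_inter, Finset.smul_finset_eq_empty]

theorem smul_compl (g : Equiv.Perm GolayPt) (s : Finset GolayPt) : g • sᶜ = (g • s)ᶜ := by
  rw [Finset.compl_eq_univ_sdiff, Finset.compl_eq_univ_sdiff, Finset.smul_finset_sdiff,
    Finset.smul_finset_univ]

/-- `M24` permutes the trios -/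
theorem smul_mem_trios {g : Equiv.Perm GolayPt} (hg : g ∈ M24) {T : Finset (Finset GolayPt)}
    (hT : T ∈ trios) : g • T ∈ trios := by
  obtain ⟨h3, hoct, hdis⟩ := hT
  refine ⟨by rw [Finset.card_smul_finset]; exact h3, ?_, ?_⟩
  · intro o ho
    rw [Finset.mem_smul_finset] at ho
    obtain ⟨o', ho', rfl⟩ := ho
    exact smul_mem_octads hg (hoct o' ho')
  · intro o ho u hu hne
    rw [Finset.mem_smul_finset] at ho hu
    obtain ⟨o', ho', rfl⟩ := ho
    obtain ⟨u', hu', rfl⟩ := hu
    rw [disjoint_smul_iff]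
    exact hdis o' ho' u' hu' (fun h => hne (by rw [h]))

theorem smul_trioOf (g : Equiv.Perm GolayPt) (o o' : Finset GolayPt) :
    g • trioOf (o, o') = trioOf (g • o, g • o') := by
  simp only [trioOf, Finset.smul_finset_insert, Finset.smul_finset_singleton,
    smul_compl, Finset.smul_finset_union]

/-- `M24` is transitive on trios -/
theorem exists_M24_trio {T T' : Finset (Finset GolayPt)} (hT : T ∈ trios) (hT' : T' ∈ trios) :
    ∃ g ∈ M24, g • T = T' := by
  obtain ⟨o1, ho1, o2, ho2, hne⟩ := Finset.one_lt_card.mp (show 1 < T.card by rw [hT.1]; norm_num)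
  obtain ⟨u1, hu1, u2, hu2, hne'⟩ :=
    Finset.one_lt_card.mp (show 1 < T'.card by rw [hT'.1]; norm_num)
  have hd : Disjoint o1 o2 := hT.2.2 o1 ho1 o2 ho2 hne
  have hd' : Disjoint u1 u2 := hT'.2.2 u1 hu1 u2 hu2 hne'
  obtain ⟨g1, hg1, rfl⟩ := exists_M24_octad (hT.2.1 o1 ho1) (hT'.2.1 u1 hu1)
  have hd1 : Disjoint (g1 • o1) (g1 • o2) := by rw [disjoint_smul_iff]; exact hd
  obtain ⟨g2, hg2, h21, h22⟩ := exists_stab_octad_map (hT'.2.1 _ hu1)
    (smul_mem_octads hg1 (hT.2.1 o2 ho2)) (hT'.2.1 u2 hu2)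
    (by rw [Finset.disjoint_iff_inter_eq_empty.mp hd1, Finset.disjoint_iff_inter_eq_empty.mp hd'])
  refine ⟨g2 * g1, M24.mul_mem hg2 hg1, ?_⟩
  rw [← trioOf_eq hT ho1 ho2 hne, ← trioOf_eq hT' hu1 hu2 hne', smul_trioOf, mul_smul, mul_smul,
    h21, h22]

theorem orbit_M24_trio {T : Finset (Finset GolayPt)} (hT : T ∈ trios) :
    MulAction.orbit M24 T = trios := by
  ext x
  constructor
  · rintro ⟨g, rfl⟩
    exact smul_mem_trios g.2 hT
  · intro hx
    obtain ⟨g, hg, rfl⟩ := exists_M24_trio hT hx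
    exact ⟨⟨g, hg⟩, rfl⟩

theorem index_stabilizer_trio {T : Finset (Finset GolayPt)} (hT : T ∈ trios) :
    (MulAction.stabilizer M24 T).index = 3795 := by
  rw [MulAction.index_stabilizer, orbit_M24_trio hT, ncard_trios]

theorem orbSet_subset_trios {X : Finset (Finset GolayPt)} (hX : X ∈ trios) :
    OrbSet (HSt trio0) X ⊆ trios := by
  rintro Y ⟨g, hg, rfl⟩
  exact smul_mem_trios (mem_HSt.mp hg).1 hX

theorem pkr_table :
    (pkrB trio0C 4 trio0C = false ∧ pkrB trio0C 8 trio0C = true) ∧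
    (pkrB trio0C 4 rootTrA = true ∧ pkrB trio0C 8 rootTrA = true) ∧
    (pkrB trio0C 8 rootTrB = false ∧ pkrB trio0C 2 rootTrB = false) ∧
    (pkrB trio0C 8 rootTrC = false ∧ pkrB trio0C 2 rootTrC = true ∧ pkrB trio0C 0 rootTrC = true) ∧
    (pkrB trio0C 8 rootTrD = false ∧ pkrB trio0C 2 rootTrD = true ∧
      pkrB trio0C 0 rootTrD = false) := by
  decide +kernel

theorem trDisj_0A : trio0 ∉ OrbSet (HSt trio0) (fss rootTrA) :=
  not_mem_orbSet_of_pkr 4 (by rw [pkr_table.1.1, pkr_table.2.1.1]; simp)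

theorem trDisj_0B : trio0 ∉ OrbSet (HSt trio0) (fss rootTrB) :=
  not_mem_orbSet_of_pkr 8 (by rw [pkr_table.1.2, pkr_table.2.2.1.1]; simp)

theorem trDisj_0C : trio0 ∉ OrbSet (HSt trio0) (fss rootTrC) :=
  not_mem_orbSet_of_pkr 8 (by rw [pkr_table.1.2, pkr_table.2.2.2.1.1]; simp)

theorem trDisj_0D : trio0 ∉ OrbSet (HSt trio0) (fss rootTrD) :=
  not_mem_orbSet_of_pkr 8 (by rw [pkr_table.1.2, pkr_table.2.2.2.2.1]; simp)

theorem trDisj_AB : Disjoint (OrbSet (HSt trio0) (fss rootTrA)) (OrbSet (HSt trio0) (fss rootTrB)) :=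
  orbSet_disjoint_of_pkr 8 (by rw [pkr_table.2.1.2, pkr_table.2.2.1.1]; simp)

theorem trDisj_AC : Disjoint (OrbSet (HSt trio0) (fss rootTrA)) (OrbSet (HSt trio0) (fss rootTrC)) :=
  orbSet_disjoint_of_pkr 8 (by rw [pkr_table.2.1.2, pkr_table.2.2.2.1.1]; simp)

theorem trDisj_AD : Disjoint (OrbSet (HSt trio0) (fss rootTrA)) (OrbSet (HSt trio0) (fss rootTrD)) :=
  orbSet_disjoint_of_pkr 8 (by rw [pkr_table.2.1.2, pkr_table.2.2.2.2.1]; simp)

theorem trDisj_BC : Disjoint (OrbSet (HSt trio0) (fss rootTrB)) (OrbSet (HSt trio0) (fss rootTrC)) :=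
  orbSet_disjoint_of_pkr 2 (by rw [pkr_table.2.2.1.2, pkr_table.2.2.2.1.2.1]; simp)

theorem trDisj_BD : Disjoint (OrbSet (HSt trio0) (fss rootTrB)) (OrbSet (HSt trio0) (fss rootTrD)) :=
  orbSet_disjoint_of_pkr 2 (by rw [pkr_table.2.2.1.2, pkr_table.2.2.2.2.2.1]; simp)

theorem trDisj_CD : Disjoint (OrbSet (HSt trio0) (fss rootTrC)) (OrbSet (HSt trio0) (fss rootTrD)) :=
  orbSet_disjoint_of_pkr 0 (by rw [pkr_table.2.2.2.1.2.2, pkr_table.2.2.2.2.2.2]; simp)

/-- **The five orbits of the stabilizer of the reference trio.** -/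
theorem trios_eq_union :
    trios = {trio0} ∪ OrbSet (HSt trio0) (fss rootTrA) ∪ OrbSet (HSt trio0) (fss rootTrB) ∪
      OrbSet (HSt trio0) (fss rootTrC) ∪ OrbSet (HSt trio0) (fss rootTrD) ∧
    (OrbSet (HSt trio0) (fss rootTrA)).ncard = 42 ∧ (OrbSet (HSt trio0) (fss rootTrB)).ncard = 56 ∧
    (OrbSet (HSt trio0) (fss rootTrC)).ncard = 1008 ∧
    (OrbSet (HSt trio0) (fss rootTrD)).ncard = 2688 := by
  set OA := OrbSet (HSt trio0) (fss rootTrA) with hOA
  set OB := OrbSet (HSt trio0) (fss rootTrB) with hOB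
  set OC := OrbSet (HSt trio0) (fss rootTrC) with hOC
  set OD := OrbSet (HSt trio0) (fss rootTrD) with hOD
  have hsub : {trio0} ∪ OA ∪ OB ∪ OC ∪ OD ⊆ trios := by
    intro Y hY
    simp only [Set.mem_union, Set.mem_singleton_iff] at hY
    rcases hY with (((rfl | h) | h) | h) | h
    · exact trio0_mem
    · exact orbSet_subset_trios rootTrA_mem h
    · exact orbSet_subset_trios rootTrB_mem h
    · exact orbSet_subset_trios rootTrC_mem h
    · exact orbSet_subset_trios rootTrD_mem h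
  have d1 : Disjoint ({trio0} : Set (Finset (Finset GolayPt))) OA := by
    rw [Set.disjoint_left]; intro Y hY hY2
    rw [Set.mem_singleton_iff] at hY; subst hY; exact trDisj_0A hY2
  have d2 : Disjoint (({trio0} : Set (Finset (Finset GolayPt))) ∪ OA) OB := by
    rw [Set.disjoint_left]; rintro Y (hY | hY) hY2
    · rw [Set.mem_singleton_iff] at hY; subst hY; exact trDisj_0B hY2
    · exact (Set.disjoint_left.mp trDisj_AB) hY hY2
  have d3 : Disjoint ((({trio0} : Set (Finset (Finset GolayPt))) ∪ OA) ∪ OB) OC := by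
    rw [Set.disjoint_left]; rintro Y ((hY | hY) | hY) hY2
    · rw [Set.mem_singleton_iff] at hY; subst hY; exact trDisj_0C hY2
    · exact (Set.disjoint_left.mp trDisj_AC) hY hY2
    · exact (Set.disjoint_left.mp trDisj_BC) hY hY2
  have d4 : Disjoint (((({trio0} : Set (Finset (Finset GolayPt))) ∪ OA) ∪ OB) ∪ OC) OD := by
    rw [Set.disjoint_left]; rintro Y (((hY | hY) | hY) | hY) hY2
    · rw [Set.mem_singleton_iff] at hY; subst hY; exact trDisj_0D hY2
    · exact (Set.disjoint_left.mp trDisj_AD) hY hY2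
    · exact (Set.disjoint_left.mp trDisj_BD) hY hY2
    · exact (Set.disjoint_left.mp trDisj_CD) hY hY2
  have hcard : ({trio0} ∪ OA ∪ OB ∪ OC ∪ OD).ncard =
      1 + OA.ncard + OB.ncard + OC.ncard + OD.ncard := by
    rw [Set.ncard_union_eq d4 (Set.toFinite _) (Set.toFinite _),
      Set.ncard_union_eq d3 (Set.toFinite _) (Set.toFinite _),
      Set.ncard_union_eq d2 (Set.toFinite _) (Set.toFinite _),
      Set.ncard_union_eq d1 (Set.toFinite _) (Set.toFinite _), Set.ncard_singleton]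
  have hle := Set.ncard_le_ncard hsub (Set.toFinite _)
  rw [hcard, ncard_trios] at hle
  have hA : 42 ≤ OA.ncard := le_ncard_of_runTr runTrA_ok
  have hB : 56 ≤ OB.ncard := le_ncard_of_runTr runTrB_ok
  have hC : 1008 ≤ OC.ncard := le_ncard_of_runTr runTrC_ok
  have hD : 2688 ≤ OD.ncard := le_ncard_of_runTr runTrD_ok
  refine ⟨?_, by omega, by omega, by omega, by omega⟩
  symm
  apply Set.eq_of_subset_of_ncard_le hsub _ (Set.toFinite _)
  rw [hcard, ncard_trios]
  omega

/-- **The stabilizer of the reference trio is maximal in `M24`.** -/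
theorem isCoatom_stabilizer_trio0 : IsCoatom (MulAction.stabilizer M24 trio0) := by
  obtain ⟨hU, hA, hB, hC, hD⟩ := trios_eq_union
  apply isCoatom_of_four_classes trio0 (OrbSet (HSt trio0) (fss rootTrA))
    (OrbSet (HSt trio0) (fss rootTrB)) (OrbSet (HSt trio0) (fss rootTrC))
    (OrbSet (HSt trio0) (fss rootTrD))
  · rw [orbit_M24_trio trio0_mem]
    exact hU.le
  · exact trDisj_0A
  · exact trDisj_0B
  · exact trDisj_0C
  · exact trDisj_0D
  · exact trDisj_AB
  · exact trDisj_AC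
  · exact trDisj_AD
  · exact trDisj_BC
  · exact trDisj_BD
  · exact trDisj_CD
  · intro a ha b hb; exact orbSet_HSt_trans ha hb
  · intro a ha b hb; exact orbSet_HSt_trans ha hb
  · intro a ha b hb; exact orbSet_HSt_trans ha hb
  · intro a ha b hb; exact orbSet_HSt_trans ha hb
  · rw [hA, hB, hC, hD, index_stabilizer_trio trio0_mem]
    intro e1 e2 e3 e4 m hm
    cases e1 <;> cases e2 <;> cases e3 <;> cases e4 <;> simp at hm ⊢ <;> omega
  · intro h
    have := index_stabilizer_trio trio0_mem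
    rw [h, Subgroup.index_top] at this
    omega

/-- **A trio stabiliser has five orbits on the 3795 trios, of sizes 1, 42, 56, 1008, 2688, and is
a maximal subgroup of `M24`.** -/
theorem trio_main (T : Finset (Finset GolayPt)) (hT : T ∈ trios) :
    ∃ X₁ ∈ trios, ∃ X₂ ∈ trios, ∃ X₃ ∈ trios, ∃ X₄ ∈ trios,
      (MulAction.orbit ↥(MulAction.stabilizer M24 T) X₁).ncard = 42 ∧
      (MulAction.orbit ↥(MulAction.stabilizer M24 T) X₂).ncard = 56 ∧
      (MulAction.orbit ↥(MulAction.stabilizer M24 T) X₃).ncard = 1008 ∧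
      (MulAction.orbit ↥(MulAction.stabilizer M24 T) X₄).ncard = 2688 ∧
      trios = {T} ∪ MulAction.orbit ↥(MulAction.stabilizer M24 T) X₁ ∪
        MulAction.orbit ↥(MulAction.stabilizer M24 T) X₂ ∪
        MulAction.orbit ↥(MulAction.stabilizer M24 T) X₃ ∪
        MulAction.orbit ↥(MulAction.stabilizer M24 T) X₄ ∧
      IsCoatom (MulAction.stabilizer M24 T) := by
  obtain ⟨t, ht, rfl⟩ := exists_M24_trio trio0_mem hT
  obtain ⟨hU, hA, hB, hC, hD⟩ := trios_eq_union
  refine ⟨t • fss rootTrA, smul_mem_trios ht rootTrA_mem, t • fss rootTrB,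
    smul_mem_trios ht rootTrB_mem, t • fss rootTrC, smul_mem_trios ht rootTrC_mem,
    t • fss rootTrD, smul_mem_trios ht rootTrD_mem, ?_, ?_, ?_, ?_, ?_, ?_⟩
  · rw [ncard_orbit_stabilizer_smul ht, hA]
  · rw [ncard_orbit_stabilizer_smul ht, hB]
  · rw [ncard_orbit_stabilizer_smul ht, hC]
  · rw [ncard_orbit_stabilizer_smul ht, hD]
  · rw [orbit_stabilizer_smul ht, orbit_stabilizer_smul ht, orbit_stabilizer_smul ht,
      orbit_stabilizer_smul ht]
    have h1 : ({t • trio0} : Set (Finset (Finset GolayPt))) = (fun Y => t • Y) '' {trio0} := by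
      rw [Set.image_singleton]
    rw [h1, ← Set.image_union, ← Set.image_union, ← Set.image_union, ← Set.image_union, ← hU]
    ext Y
    constructor
    · intro hY
      exact ⟨t⁻¹ • Y, smul_mem_trios (M24.inv_mem ht) hY, smul_inv_smul t Y⟩
    · rintro ⟨Z, hZ, rfl⟩
      exact smul_mem_trios ht hZ
  · exact isCoatom_stabilizer_smul ht isCoatom_stabilizer_trio0

end Cfsg.Agent.Lib.Helper6.Golay
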