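import Cfsg.Agent.Lib.Helper6.GolaySextetMax
import Cfsg.Agent.Lib.Helper6.GolayTrioMax

/-!
# Orbits of the stabilizers of an octad, a sextet and a trio on the other two kinds of objects:
generic tools
-/

set_option autoImplicit false

namespace Cfsg.Agent.Lib.Helper6.Golay

open Cfsg
open Cfsg.Agent.Lib.Helper6.PermChain
open scoped Pointwise

/-- three pairwise disjoint subsets of known minimum sizes exhausting a finite set -/
theorem squeeze3 {α : Type*} (T : Set α) (hT : T.Finite) (N : ℕ) (hN : T.ncard = N) (A B C : Set α)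
    (hA : A ⊆ T) (hB : B ⊆ T) (hC : C ⊆ T) (dAB : Disjoint A B) (dAC : Disjoint A C)
    (dBC : Disjoint B C) (a b c : ℕ) (ha : a ≤ A.ncard) (hb : b ≤ B.ncard) (hc : c ≤ C.ncard)
    (hsum : a + b + c = N) :
    T = A ∪ B ∪ C ∧ A.ncard = a ∧ B.ncard = b ∧ C.ncard = c := by
  have fA : A.Finite := hT.subset hA
  have fB : B.Finite := hT.subset hB
  have fC : C.Finite := hT.subset hC
  have hsub : A ∪ B ∪ C ⊆ T := Set.union_subset (Set.union_subset hA hB) hC
  have d2 : Disjoint (A ∪ B) C := Set.disjoint_union_left.mpr ⟨dAC, dBC⟩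
  have hcard : (A ∪ B ∪ C).ncard = A.ncard + B.ncard + C.ncard := by
    rw [Set.ncard_union_eq d2 (fA.union fB) fC, Set.ncard_union_eq dAB fA fB]
  have hle := Set.ncard_le_ncard hsub hT
  rw [hcard, hN] at hle
  refine ⟨?_, by omega, by omega, by omega⟩
  symm
  apply Set.eq_of_subset_of_ncard_le hsub _ hT
  rw [hcard, hN]
  omega

/-- four pairwise disjoint subsets of known minimum sizes exhausting a finite set -/
theorem squeeze4 {α : Type*} (T : Set α) (hT : T.Finite) (N : ℕ) (hN : T.ncard = N) (A B C D : Set α)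
    (hA : A ⊆ T) (hB : B ⊆ T) (hC : C ⊆ T) (hD : D ⊆ T) (dAB : Disjoint A B) (dAC : Disjoint A C)
    (dAD : Disjoint A D) (dBC : Disjoint B C) (dBD : Disjoint B D) (dCD : Disjoint C D)
    (a b c d : ℕ) (ha : a ≤ A.ncard) (hb : b ≤ B.ncard) (hc : c ≤ C.ncard) (hd : d ≤ D.ncard)
    (hsum : a + b + c + d = N) :
    T = A ∪ B ∪ C ∪ D ∧ A.ncard = a ∧ B.ncard = b ∧ C.ncard = c ∧ D.ncard = d := by
  have fA : A.Finite := hT.subset hA
  have fB : B.Finite := hT.subset hB
  have fC : C.Finite := hT.subset hC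
  have fD : D.Finite := hT.subset hD
  have hsub : A ∪ B ∪ C ∪ D ⊆ T :=
    Set.union_subset (Set.union_subset (Set.union_subset hA hB) hC) hD
  have d2 : Disjoint (A ∪ B) C := Set.disjoint_union_left.mpr ⟨dAC, dBC⟩
  have d3 : Disjoint (A ∪ B ∪ C) D :=
    Set.disjoint_union_left.mpr ⟨Set.disjoint_union_left.mpr ⟨dAD, dBD⟩, dCD⟩
  have hcard : (A ∪ B ∪ C ∪ D).ncard = A.ncard + B.ncard + C.ncard + D.ncard := by
    rw [Set.ncard_union_eq d3 ((fA.union fB).union fC) fD, Set.ncard_union_eq d2 (fA.union fB) fC,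
      Set.ncard_union_eq dAB fA fB]
  have hle := Set.ncard_le_ncard hsub hT
  rw [hcard, hN] at hle
  refine ⟨?_, by omega, by omega, by omega, by omega⟩
  symm
  apply Set.eq_of_subset_of_ncard_le hsub _ hT
  rw [hcard, hN]
  omega

/-- the orbit of a point under the elements of `M24` fixing `r` -/
def OrbGen {α β : Type*} [MulAction (Equiv.Perm GolayPt) α] [MulAction (Equiv.Perm GolayPt) β]
    (r : α) (X : β) : Set β := {Y | ∃ g ∈ M24, g • r = r ∧ g • X = Y}

/-- orbits of the stabilizer of a translate -/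
theorem orbit_stabilizer_smul_gen {α β : Type*} [MulAction (Equiv.Perm GolayPt) α]
    [MulAction (Equiv.Perm GolayPt) β] (r : α) {t : Equiv.Perm GolayPt} (ht : t ∈ M24) (X : β) :
    MulAction.orbit ↥(MulAction.stabilizer M24 (t • r)) (t • X) = (fun Y => t • Y) '' OrbGen r X := by
  ext Y
  constructor
  · rintro ⟨⟨⟨g, hgM⟩, hgs⟩, rfl⟩
    rw [MulAction.mem_stabilizer_iff] at hgs
    have hgs' : g • t • r = t • r := hgs
    refine ⟨(t⁻¹ * g * t) • X, ⟨t⁻¹ * g * t, M24.mul_mem (M24.mul_mem (M24.inv_mem ht) hgM) ht, ?_, rfl⟩, ?_⟩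
    · rw [mul_smul, mul_smul, hgs', inv_smul_smul]
    · show t • (t⁻¹ * g * t) • X = g • t • X
      rw [mul_smul, mul_smul, smul_inv_smul]
  · rintro ⟨_, ⟨h, hhM, hh0, rfl⟩, rfl⟩
    refine ⟨⟨⟨t * h * t⁻¹, M24.mul_mem (M24.mul_mem ht hhM) (M24.inv_mem ht)⟩, ?_⟩, ?_⟩
    · rw [MulAction.mem_stabilizer_iff]
      show (t * h * t⁻¹) • t • r = t • r
      rw [mul_smul, mul_smul, inv_smul_smul, hh0]
    · show (t * h * t⁻¹) • t • X = t • h • X
      rw [mul_smul, mul_smul, inv_smul_smul]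

theorem fss_singleton (m : ℕ) : fss [m] = {fs m} := by
  simp [fss]

theorem smul_sys_singleton_eq (g : Equiv.Perm GolayPt) (x y : Finset GolayPt) :
    g • ({x} : Finset (Finset GolayPt)) = {y} ↔ g • x = y := by
  rw [Finset.smul_finset_singleton, Finset.singleton_inj]

/-- orbits of the stabilizer of a set (as a one-element system) on systems -/
theorem orbGen_set_eq (m : ℕ) (X : Finset (Finset GolayPt)) :
    OrbGen (fs m) X = OrbSet (HSt (fss [m])) X := by
  ext Y
  simp only [OrbGen, OrbSet, Set.mem_ofPred_eq, mem_HSt, fss_singleton]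
  constructor
  · rintro ⟨g, h1, h2, h3⟩; exact ⟨g, ⟨h1, (smul_sys_singleton_eq g _ _).mpr h2⟩, h3⟩
  · rintro ⟨g, ⟨h1, h2⟩, h3⟩; exact ⟨g, h1, (smul_sys_singleton_eq g _ _).mp h2, h3⟩

/-- orbits of the stabilizer of a system on systems -/
theorem orbGen_sys_eq (R X : Finset (Finset GolayPt)) : OrbGen R X = OrbSet (HSt R) X := by
  ext Y
  simp only [OrbGen, OrbSet, Set.mem_ofPred_eq, mem_HSt]
  constructor
  · rintro ⟨g, h1, h2, h3⟩; exact ⟨g, ⟨h1, h2⟩, h3⟩
  · rintro ⟨g, ⟨h1, h2⟩, h3⟩; exact ⟨g, h1, h2, h3⟩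

/-- orbits of the stabilizer of a system on sets, via one-element systems -/
theorem orbGen_pt_image (R : Finset (Finset GolayPt)) (m : ℕ) :
    (fun Y : Finset GolayPt => ({Y} : Finset (Finset GolayPt))) '' OrbGen R (fs m) =
      OrbSet (HSt R) (fss [m]) := by
  ext Z
  simp only [OrbGen, OrbSet, Set.mem_image, Set.mem_ofPred_eq, mem_HSt, fss_singleton]
  constructor
  · rintro ⟨Y, ⟨g, h1, h2, rfl⟩, rfl⟩
    exact ⟨g, ⟨h1, h2⟩, Finset.smul_finset_singleton _⟩
  · rintro ⟨g, ⟨h1, h2⟩, rfl⟩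
    exact ⟨g • fs m, ⟨g, h1, h2, rfl⟩, (Finset.smul_finset_singleton _).symm⟩

theorem singleton_injective : Function.Injective
    (fun Y : Finset GolayPt => ({Y} : Finset (Finset GolayPt))) :=
  fun _ _ h => Finset.singleton_inj.mp h

theorem ncard_orbGen_pt (R : Finset (Finset GolayPt)) (m : ℕ) :
    (OrbGen R (fs m)).ncard = (OrbSet (HSt R) (fss [m])).ncard := by
  rw [← orbGen_pt_image, Set.ncard_image_of_injective _ singleton_injective]

/-- the octads as one-element systems -/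
def octSing : Set (Finset (Finset GolayPt)) :=
  (fun Y : Finset GolayPt => ({Y} : Finset (Finset GolayPt))) '' octads

theorem ncard_octSing : octSing.ncard = 759 := by
  rw [octSing, Set.ncard_image_of_injective _ singleton_injective, ncard_octads]

theorem octSing_finite : octSing.Finite :=
  Set.finite_of_ncard_ne_zero (by rw [ncard_octSing]; norm_num)

theorem orbSet_subset_octSing {R : Finset (Finset GolayPt)} {m : ℕ} (hm : fs m ∈ octads) :
    OrbSet (HSt R) (fss [m]) ⊆ octSing := by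
  rintro Y ⟨g, hg, rfl⟩
  rw [fss_singleton, Finset.smul_finset_singleton]
  exact ⟨g • fs m, smul_mem_octads (mem_HSt.mp hg).1 hm, rfl⟩

theorem orbSet_subset_sextets' {R X : Finset (Finset GolayPt)} (hX : X ∈ sextets) :
    OrbSet (HSt R) X ⊆ sextets := by
  rintro Y ⟨g, hg, rfl⟩
  exact smul_mem_sextets (mem_HSt.mp hg).1 hX

theorem orbSet_subset_trios' {R X : Finset (Finset GolayPt)} (hX : X ∈ trios) :
    OrbSet (HSt R) X ⊆ trios := by
  rintro Y ⟨g, hg, rfl⟩
  exact smul_mem_trios (mem_HSt.mp hg).1 hX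

theorem sextets_finite : sextets.Finite :=
  Set.finite_of_ncard_ne_zero (by rw [ncard_sextets]; norm_num)

theorem trios_finite : trios.Finite :=
  Set.finite_of_ncard_ne_zero (by rw [ncard_trios]; norm_num)

theorem octads_finite : octads.Finite :=
  Set.finite_of_ncard_ne_zero (by rw [ncard_octads]; norm_num)

/-- transport of a class of objects along an element of `M24` -/
theorem image_smul_eq {β : Type*} [MulAction (Equiv.Perm GolayPt) β] (T : Set β)
    (hT : ∀ g ∈ M24, ∀ Y ∈ T, g • Y ∈ T) {t : Equiv.Perm GolayPt} (ht : t ∈ M24) :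
    (fun Y => t • Y) '' T = T := by
  ext Y
  constructor
  · rintro ⟨Z, hZ, rfl⟩
    exact hT t ht Z hZ
  · intro hY
    exact ⟨t⁻¹ • Y, hT _ (M24.inv_mem ht) Y hY, smul_inv_smul t Y⟩

/-- from the one-element systems back to the sets -/
theorem octads_eq_of_octSing {R : Finset (Finset GolayPt)} {a b c : ℕ}
    (h : octSing = OrbSet (HSt R) (fss [a]) ∪ OrbSet (HSt R) (fss [b]) ∪ OrbSet (HSt R) (fss [c])) :
    octads = OrbGen R (fs a) ∪ OrbGen R (fs b) ∪ OrbGen R (fs c) := by
  rw [← orbGen_pt_image, ← orbGen_pt_image, ← orbGen_pt_image, ← Set.image_union, ← Set.image_union,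
    octSing] at h
  exact Set.image_injective.mpr singleton_injective h

end Cfsg.Agent.Lib.Helper6.Golay
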