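import Cfsg.Agent.Lib.Helper6.GolayMixedMain

/-!
# Orbits of octad, sextet and trio stabilizers on the other kinds of objects: final statements
-/

set_option autoImplicit false

namespace Cfsg.Agent.Lib.Helper6.Golay

open Cfsg
open Cfsg.Agent.Lib.Helper6.PermChain
open scoped Pointwise

theorem transfer3 {α β : Type*} [MulAction (Equiv.Perm GolayPt) α] [MulAction (Equiv.Perm GolayPt) β]
    (r : α) {t : Equiv.Perm GolayPt} (ht : t ∈ M24) (T : Set β) (hT : ∀ g ∈ M24, ∀ Y ∈ T, g • Y ∈ T)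
    (A B C : β) (a b c : ℕ)
    (h : T = OrbGen r A ∪ OrbGen r B ∪ OrbGen r C ∧ (OrbGen r A).ncard = a ∧ (OrbGen r B).ncard = b ∧
      (OrbGen r C).ncard = c) :
    (MulAction.orbit ↥(MulAction.stabilizer M24 (t • r)) (t • A)).ncard = a ∧
    (MulAction.orbit ↥(MulAction.stabilizer M24 (t • r)) (t • B)).ncard = b ∧
    (MulAction.orbit ↥(MulAction.stabilizer M24 (t • r)) (t • C)).ncard = c ∧
    T = MulAction.orbit ↥(MulAction.stabilizer M24 (t • r)) (t • A) ∪
      MulAction.orbit ↥(MulAction.stabilizer M24 (t • r)) (t • B) ∪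
      MulAction.orbit ↥(MulAction.stabilizer M24 (t • r)) (t • C) := by
  obtain ⟨hU, hA, hB, hC⟩ := h
  rw [orbit_stabilizer_smul_gen r ht, orbit_stabilizer_smul_gen r ht, orbit_stabilizer_smul_gen r ht]
  refine ⟨?_, ?_, ?_, ?_⟩
  · rw [Set.ncard_image_of_injective _ (MulAction.injective t), hA]
  · rw [Set.ncard_image_of_injective _ (MulAction.injective t), hB]
  · rw [Set.ncard_image_of_injective _ (MulAction.injective t), hC]
  · rw [← Set.image_union, ← Set.image_union, ← hU, image_smul_eq T hT ht]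

theorem transfer4 {α β : Type*} [MulAction (Equiv.Perm GolayPt) α] [MulAction (Equiv.Perm GolayPt) β]
    (r : α) {t : Equiv.Perm GolayPt} (ht : t ∈ M24) (T : Set β) (hT : ∀ g ∈ M24, ∀ Y ∈ T, g • Y ∈ T)
    (A B C D : β) (a b c d : ℕ)
    (h : T = OrbGen r A ∪ OrbGen r B ∪ OrbGen r C ∪ OrbGen r D ∧ (OrbGen r A).ncard = a ∧
      (OrbGen r B).ncard = b ∧ (OrbGen r C).ncard = c ∧ (OrbGen r D).ncard = d) :
    (MulAction.orbit ↥(MulAction.stabilizer M24 (t • r)) (t • A)).ncard = a ∧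
    (MulAction.orbit ↥(MulAction.stabilizer M24 (t • r)) (t • B)).ncard = b ∧
    (MulAction.orbit ↥(MulAction.stabilizer M24 (t • r)) (t • C)).ncard = c ∧
    (MulAction.orbit ↥(MulAction.stabilizer M24 (t • r)) (t • D)).ncard = d ∧
    T = MulAction.orbit ↥(MulAction.stabilizer M24 (t • r)) (t • A) ∪
      MulAction.orbit ↥(MulAction.stabilizer M24 (t • r)) (t • B) ∪
      MulAction.orbit ↥(MulAction.stabilizer M24 (t • r)) (t • C) ∪
      MulAction.orbit ↥(MulAction.stabilizer M24 (t • r)) (t • D) := by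
  obtain ⟨hU, hA, hB, hC, hD⟩ := h
  rw [orbit_stabilizer_smul_gen r ht, orbit_stabilizer_smul_gen r ht, orbit_stabilizer_smul_gen r ht,
    orbit_stabilizer_smul_gen r ht]
  refine ⟨?_, ?_, ?_, ?_, ?_⟩
  · rw [Set.ncard_image_of_injective _ (MulAction.injective t), hA]
  · rw [Set.ncard_image_of_injective _ (MulAction.injective t), hB]
  · rw [Set.ncard_image_of_injective _ (MulAction.injective t), hC]
  · rw [Set.ncard_image_of_injective _ (MulAction.injective t), hD]
  · rw [← Set.image_union, ← Set.image_union, ← Set.image_union, ← hU, image_smul_eq T hT ht]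

theorem trios_smul : ∀ g ∈ M24, ∀ Y ∈ trios, g • Y ∈ trios := fun _ hg _ hY => smul_mem_trios hg hY
theorem sextets_smul : ∀ g ∈ M24, ∀ Y ∈ sextets, g • Y ∈ sextets := fun _ hg _ hY => smul_mem_sextets hg hY
theorem octads_smul : ∀ g ∈ M24, ∀ Y ∈ octads, g • Y ∈ octads := fun _ hg _ hY => smul_mem_octads hg hY

/-- **S5610**: the orbits of an octad stabilizer on trios and on sextets -/
theorem octad_stab_orbits (o : Finset GolayPt) (ho : o ∈ octads) :
    (∃ X₁ ∈ trios, ∃ X₂ ∈ trios, ∃ X₃ ∈ trios,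
      (MulAction.orbit ↥(MulAction.stabilizer M24 o) X₁).ncard = 15 ∧
      (MulAction.orbit ↥(MulAction.stabilizer M24 o) X₂).ncard = 420 ∧
      (MulAction.orbit ↥(MulAction.stabilizer M24 o) X₃).ncard = 3360 ∧
      trios = MulAction.orbit ↥(MulAction.stabilizer M24 o) X₁ ∪
        MulAction.orbit ↥(MulAction.stabilizer M24 o) X₂ ∪
        MulAction.orbit ↥(MulAction.stabilizer M24 o) X₃) ∧
    (∃ Y₁ ∈ sextets, ∃ Y₂ ∈ sextets, ∃ Y₃ ∈ sextets,
      (MulAction.orbit ↥(MulAction.stabilizer M24 o) Y₁).ncard = 35 ∧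
      (MulAction.orbit ↥(MulAction.stabilizer M24 o) Y₂).ncard = 840 ∧
      (MulAction.orbit ↥(MulAction.stabilizer M24 o) Y₃).ncard = 896 ∧
      sextets = MulAction.orbit ↥(MulAction.stabilizer M24 o) Y₁ ∪
        MulAction.orbit ↥(MulAction.stabilizer M24 o) Y₂ ∪
        MulAction.orbit ↥(MulAction.stabilizer M24 o) Y₃) := by
  obtain ⟨t, ht, rfl⟩ := exists_M24_octad octad0_mem ho
  constructor
  · have h := mainOt
    rw [← orbGen_set_eq, ← orbGen_set_eq, ← orbGen_set_eq] at h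
    exact ⟨t • fss rootOtA, smul_mem_trios ht rootOtA_mem, t • fss rootOtB, smul_mem_trios ht rootOtB_mem,
      t • fss rootOtC, smul_mem_trios ht rootOtC_mem,
      transfer3 (fs octad0) ht trios trios_smul _ _ _ 15 420 3360 h⟩
  · have h := mainOs
    rw [← orbGen_set_eq, ← orbGen_set_eq, ← orbGen_set_eq] at h
    exact ⟨t • fss rootOsA, smul_mem_sextets ht rootOsA_mem, t • fss rootOsB,
      smul_mem_sextets ht rootOsB_mem, t • fss rootOsC, smul_mem_sextets ht rootOsC_mem,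
      transfer3 (fs octad0) ht sextets sextets_smul _ _ _ 35 840 896 h⟩

/-- from one-element systems to sets -/
theorem octads_main_of_octSing {R : Finset (Finset GolayPt)} {ma mb mc : ℕ} {a b c : ℕ}
    (h : octSing = OrbSet (HSt R) (fss [ma]) ∪ OrbSet (HSt R) (fss [mb]) ∪ OrbSet (HSt R) (fss [mc]) ∧
      (OrbSet (HSt R) (fss [ma])).ncard = a ∧ (OrbSet (HSt R) (fss [mb])).ncard = b ∧
      (OrbSet (HSt R) (fss [mc])).ncard = c) :
    octads = OrbGen R (fs ma) ∪ OrbGen R (fs mb) ∪ OrbGen R (fs mc) ∧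
      (OrbGen R (fs ma)).ncard = a ∧ (OrbGen R (fs mb)).ncard = b ∧ (OrbGen R (fs mc)).ncard = c := by
  obtain ⟨hU, hA, hB, hC⟩ := h
  exact ⟨octads_eq_of_octSing hU, by rw [ncard_orbGen_pt, hA], by rw [ncard_orbGen_pt, hB],
    by rw [ncard_orbGen_pt, hC]⟩

/-- **S5611**: the orbits of a sextet stabilizer on octads and on trios -/
theorem sextet_stab_orbits (S : Finset (Finset GolayPt)) (hS : S ∈ sextets) :
    (∃ X₁ ∈ octads, ∃ X₂ ∈ octads, ∃ X₃ ∈ octads,
      (MulAction.orbit ↥(MulAction.stabilizer M24 S) X₁).ncard = 15 ∧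
      (MulAction.orbit ↥(MulAction.stabilizer M24 S) X₂).ncard = 360 ∧
      (MulAction.orbit ↥(MulAction.stabilizer M24 S) X₃).ncard = 384 ∧
      octads = MulAction.orbit ↥(MulAction.stabilizer M24 S) X₁ ∪
        MulAction.orbit ↥(MulAction.stabilizer M24 S) X₂ ∪
        MulAction.orbit ↥(MulAction.stabilizer M24 S) X₃) ∧
    (∃ Y₁ ∈ trios, ∃ Y₂ ∈ trios, ∃ Y₃ ∈ trios, ∃ Y₄ ∈ trios,
      (MulAction.orbit ↥(MulAction.stabilizer M24 S) Y₁).ncard = 15 ∧
      (MulAction.orbit ↥(MulAction.stabilizer M24 S) Y₂).ncard = 180 ∧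
      (MulAction.orbit ↥(MulAction.stabilizer M24 S) Y₃).ncard = 720 ∧
      (MulAction.orbit ↥(MulAction.stabilizer M24 S) Y₄).ncard = 2880 ∧
      trios = MulAction.orbit ↥(MulAction.stabilizer M24 S) Y₁ ∪
        MulAction.orbit ↥(MulAction.stabilizer M24 S) Y₂ ∪
        MulAction.orbit ↥(MulAction.stabilizer M24 S) Y₃ ∪
        MulAction.orbit ↥(MulAction.stabilizer M24 S) Y₄) := by
  obtain ⟨t, ht, rfl⟩ := exists_M24_sextet sextet0_mem hS
  rw [← fss_sextet0C]
  constructor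
  · have h := mainSo
    rw [rootSoA_eq, rootSoB_eq, rootSoC_eq] at h
    have h' := octads_main_of_octSing h
    exact ⟨t • fs 416040, smul_mem_octads ht rootSoA_mem, t • fs 10558, smul_mem_octads ht rootSoB_mem,
      t • fs 5279, smul_mem_octads ht rootSoC_mem,
      transfer3 (fss sextet0C) ht octads octads_smul _ _ _ 15 360 384 h'⟩
  · have h := mainSt
    rw [← orbGen_sys_eq, ← orbGen_sys_eq, ← orbGen_sys_eq, ← orbGen_sys_eq] at h
    exact ⟨t • fss rootStA, smul_mem_trios ht rootStA_mem, t • fss rootStB, smul_mem_trios ht rootStB_mem,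
      t • fss rootStC, smul_mem_trios ht rootStC_mem, t • fss rootStD, smul_mem_trios ht rootStD_mem,
      transfer4 (fss sextet0C) ht trios trios_smul _ _ _ _ 15 180 720 2880 h⟩

/-- **S5612**: the orbits of a trio stabilizer on octads and on sextets -/
theorem trio_stab_orbits (T : Finset (Finset GolayPt)) (hT : T ∈ trios) :
    (∃ X₁ ∈ octads, ∃ X₂ ∈ octads, ∃ X₃ ∈ octads,
      (MulAction.orbit ↥(MulAction.stabilizer M24 T) X₁).ncard = 3 ∧
      (MulAction.orbit ↥(MulAction.stabilizer M24 T) X₂).ncard = 84 ∧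
      (MulAction.orbit ↥(MulAction.stabilizer M24 T) X₃).ncard = 672 ∧
      octads = MulAction.orbit ↥(MulAction.stabilizer M24 T) X₁ ∪
        MulAction.orbit ↥(MulAction.stabilizer M24 T) X₂ ∪
        MulAction.orbit ↥(MulAction.stabilizer M24 T) X₃) ∧
    (∃ Y₁ ∈ sextets, ∃ Y₂ ∈ sextets, ∃ Y₃ ∈ sextets, ∃ Y₄ ∈ sextets,
      (MulAction.orbit ↥(MulAction.stabilizer M24 T) Y₁).ncard = 7 ∧
      (MulAction.orbit ↥(MulAction.stabilizer M24 T) Y₂).ncard = 84 ∧
      (MulAction.orbit ↥(MulAction.stabilizer M24 T) Y₃).ncard = 336 ∧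
      (MulAction.orbit ↥(MulAction.stabilizer M24 T) Y₄).ncard = 1344 ∧
      sextets = MulAction.orbit ↥(MulAction.stabilizer M24 T) Y₁ ∪
        MulAction.orbit ↥(MulAction.stabilizer M24 T) Y₂ ∪
        MulAction.orbit ↥(MulAction.stabilizer M24 T) Y₃ ∪
        MulAction.orbit ↥(MulAction.stabilizer M24 T) Y₄) := by
  obtain ⟨t, ht, rfl⟩ := exists_M24_trio trio0_mem hT
  show _ ∧ _
  unfold trio0
  constructor
  · have h := mainTo
    rw [rootToA_eq, rootToB_eq, rootToC_eq] at h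
    have h' := octads_main_of_octSing h
    exact ⟨t • fs 337856, smul_mem_octads ht rootToA_mem, t • fs 18147, smul_mem_octads ht rootToB_mem,
      t • fs 5279, smul_mem_octads ht rootToC_mem,
      transfer3 (fss trio0C) ht octads octads_smul _ _ _ 3 84 672 h'⟩
  · have h := mainTs
    rw [← orbGen_sys_eq, ← orbGen_sys_eq, ← orbGen_sys_eq, ← orbGen_sys_eq] at h
    exact ⟨t • fss rootTsA, smul_mem_sextets ht rootTsA_mem, t • fss rootTsB,
      smul_mem_sextets ht rootTsB_mem, t • fss rootTsC, smul_mem_sextets ht rootTsC_mem,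
      t • fss rootTsD, smul_mem_sextets ht rootTsD_mem,
      transfer4 (fss trio0C) ht sextets sextets_smul _ _ _ _ 7 84 336 1344 h⟩

end Cfsg.Agent.Lib.Helper6.Golay
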