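import Cfsg.Agent.Lib.Helper6.GolayMixedData_Ds
import Cfsg.Agent.Lib.Helper6.GolayMixedFinal

/-!
# The stabilizer of a complementary pair of dodecads: its orbits on sextets
-/

set_option autoImplicit false

namespace Cfsg.Agent.Lib.Helper6.Golay

open Cfsg
open Cfsg.Agent.Lib.Helper6.PermChain
open scoped Pointwise

set_option maxHeartbeats 4000000 in
theorem rootsDs_ok : (sextetB rootDsA && sextetB rootDsB && sextetB rootDsC) = true := by
  decide +kernel

theorem rootDsA_mem : fss rootDsA ∈ sextets := by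
  have := rootsDs_ok
  simp only [Bool.and_eq_true] at this
  exact fss_mem_sextets this.1.1

theorem rootDsB_mem : fss rootDsB ∈ sextets := by
  have := rootsDs_ok
  simp only [Bool.and_eq_true] at this
  exact fss_mem_sextets this.1.2

theorem rootDsC_mem : fss rootDsC ∈ sextets := by
  have := rootsDs_ok
  simp only [Bool.and_eq_true] at this
  exact fss_mem_sextets this.2

theorem mainDs :
    sextets = OrbSet (HSt (fss pairC)) (fss rootDsA) ∪ OrbSet (HSt (fss pairC)) (fss rootDsB) ∪
      OrbSet (HSt (fss pairC)) (fss rootDsC) ∧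
    (OrbSet (HSt (fss pairC)) (fss rootDsA)).ncard = 396 ∧
    (OrbSet (HSt (fss pairC)) (fss rootDsB)).ncard = 495 ∧
    (OrbSet (HSt (fss pairC)) (fss rootDsC)).ncard = 880 :=
  squeeze3 sextets sextets_finite 1771 ncard_sextets _ _ _ (orbSet_subset_sextets' rootDsA_mem)
    (orbSet_subset_sextets' rootDsB_mem) (orbSet_subset_sextets' rootDsC_mem)
    (orbSet_disjoint_of_pkr 0 (by decide +kernel)) (orbSet_disjoint_of_pkr 1 (by decide +kernel))
    (orbSet_disjoint_of_pkr 0 (by decide +kernel))
    396 495 880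
    (le_ncard_of_checkRunK rep_EDp runDsA_ok) (le_ncard_of_checkRunK rep_EDp runDsB_ok)
    (le_ncard_of_checkRunK rep_EDp runDsC_ok) (by norm_num)

theorem fss_pairC : fss pairC = {fs dodecad0, Finset.univ \ fs dodecad0} := by
  have h2 : (16748578 : ℕ) = dodecad0 ^^^ (2 ^ 24 - 1) := by decide
  have h3 : fs 16748578 = Finset.univ \ fs dodecad0 := by
    rw [h2, fs_compl, Finset.compl_eq_univ_sdiff]
  have h1 : pairC = [dodecad0, 16748578] := by decide
  rw [h1, fss]
  simp only [List.map_cons, List.map_nil, List.toFinset_cons, List.toFinset_nil, insert_empty_eq]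
  rw [h3]

theorem smul_pair (t : Equiv.Perm GolayPt) (d : Finset GolayPt) :
    t • ({d, Finset.univ \ d} : Finset (Finset GolayPt)) = {t • d, Finset.univ \ t • d} := by
  rw [Finset.smul_finset_insert, Finset.smul_finset_singleton]
  congr 2
  rw [← Finset.compl_eq_univ_sdiff, ← Finset.compl_eq_univ_sdiff, smul_compl]

/-- **S5617**: the orbits of the stabilizer of a complementary pair of dodecads on sextets -/
theorem dodecad_pair_orbits (d : Finset GolayPt) (hd : d ∈ dodecads) :
    ∃ X₁ ∈ sextets, ∃ X₂ ∈ sextets, ∃ X₃ ∈ sextets,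
      (MulAction.orbit ↥(MulAction.stabilizer M24 ({d, Finset.univ \ d} : Finset (Finset GolayPt))) X₁).ncard = 396 ∧
      (MulAction.orbit ↥(MulAction.stabilizer M24 ({d, Finset.univ \ d} : Finset (Finset GolayPt))) X₂).ncard = 495 ∧
      (MulAction.orbit ↥(MulAction.stabilizer M24 ({d, Finset.univ \ d} : Finset (Finset GolayPt))) X₃).ncard = 880 ∧
      sextets = MulAction.orbit ↥(MulAction.stabilizer M24 ({d, Finset.univ \ d} : Finset (Finset GolayPt))) X₁ ∪
        MulAction.orbit ↥(MulAction.stabilizer M24 ({d, Finset.univ \ d} : Finset (Finset GolayPt))) X₂ ∪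
        MulAction.orbit ↥(MulAction.stabilizer M24 ({d, Finset.univ \ d} : Finset (Finset GolayPt))) X₃ := by
  obtain ⟨t, ht, rfl⟩ := exists_M24_dodecad dodecad0_mem hd
  rw [← smul_pair, ← fss_pairC]
  have h := mainDs
  rw [← orbGen_sys_eq, ← orbGen_sys_eq, ← orbGen_sys_eq] at h
  exact ⟨t • fss rootDsA, smul_mem_sextets ht rootDsA_mem, t • fss rootDsB,
    smul_mem_sextets ht rootDsB_mem, t • fss rootDsC, smul_mem_sextets ht rootDsC_mem,
    transfer3 (fss pairC) ht sextets sextets_smul _ _ _ 396 495 880 h⟩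

end Cfsg.Agent.Lib.Helper6.Golay
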