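import Cfsg.Agent.Lib.Helper6.GolayMixed
import Cfsg.Agent.Lib.Helper6.GolayOctadOrbits

/-!
# Generators of the stabilizers of the reference octad, sextet and trio
-/

set_option autoImplicit false

namespace Cfsg.Agent.Lib.Helper6.Golay

open Cfsg
open Cfsg.Agent.Lib.Helper6.PermChain

/-- elements of the stabilizer of the reference octad -/
def EOc : List (List ℕ) := stFilter [octad0] (slpRun gens3 progO)

theorem rep_EOc : ∀ l ∈ EOc, Rep (HSt (fss [octad0])) l :=
  rep_stFilter (rep_slpRun _ _ (rep_gens3 hasGens_M24))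

/-- elements of the stabilizer of the reference sextet -/
def ESxK : List (List ℕ) := stFilter sextet0C (slpRun gens3 progSx)

theorem rep_ESxK : ∀ l ∈ ESxK, Rep (HSt (fss sextet0C)) l :=
  rep_stFilter (rep_slpRun _ _ (rep_gens3 hasGens_M24))

theorem rep_ETr' : ∀ l ∈ ETr, Rep (HSt (fss trio0C)) l := rep_ETr

end Cfsg.Agent.Lib.Helper6.Golay
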