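import Cfsg.Agent.Lib.Helper6.GolayMixedData_Os
import Cfsg.Agent.Lib.Helper6.GolayMixedData_Ot
import Cfsg.Agent.Lib.Helper6.GolayMixedData_So
import Cfsg.Agent.Lib.Helper6.GolayMixedData_St
import Cfsg.Agent.Lib.Helper6.GolayMixedData_To
import Cfsg.Agent.Lib.Helper6.GolayMixedData_Ts

/-!
# Orbits of the stabilizers of the reference octad, sextet and trio on the other kinds of objects
-/

set_option autoImplicit false

namespace Cfsg.Agent.Lib.Helper6.Golay

open Cfsg
open Cfsg.Agent.Lib.Helper6.PermChain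
open scoped Pointwise

set_option maxHeartbeats 4000000 in
theorem rootsOs_ok : (sextetB rootOsA && sextetB rootOsB && sextetB rootOsC) = true := by
  decide +kernel

theorem rootOsA_mem : fss rootOsA ∈ sextets := by
  have := rootsOs_ok
  simp only [Bool.and_eq_true] at this
  exact fss_mem_sextets this.1.1

theorem subOsA : OrbSet (HSt (fss [octad0])) (fss rootOsA) ⊆ sextets := orbSet_subset_sextets' rootOsA_mem

theorem rootOsB_mem : fss rootOsB ∈ sextets := by
  have := rootsOs_ok
  simp only [Bool.and_eq_true] at this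
  exact fss_mem_sextets this.1.2

theorem subOsB : OrbSet (HSt (fss [octad0])) (fss rootOsB) ⊆ sextets := orbSet_subset_sextets' rootOsB_mem

theorem rootOsC_mem : fss rootOsC ∈ sextets := by
  have := rootsOs_ok
  simp only [Bool.and_eq_true] at this
  exact fss_mem_sextets this.2

theorem subOsC : OrbSet (HSt (fss [octad0])) (fss rootOsC) ⊆ sextets := orbSet_subset_sextets' rootOsC_mem

theorem disjOsAB : Disjoint (OrbSet (HSt (fss [octad0])) (fss rootOsA)) (OrbSet (HSt (fss [octad0])) (fss rootOsB)) :=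
  orbSet_disjoint_of_pkr 2 (by decide +kernel)

theorem disjOsAC : Disjoint (OrbSet (HSt (fss [octad0])) (fss rootOsA)) (OrbSet (HSt (fss [octad0])) (fss rootOsC)) :=
  orbSet_disjoint_of_pkr 0 (by decide +kernel)

theorem disjOsBC : Disjoint (OrbSet (HSt (fss [octad0])) (fss rootOsB)) (OrbSet (HSt (fss [octad0])) (fss rootOsC)) :=
  orbSet_disjoint_of_pkr 0 (by decide +kernel)

/-- the orbits: case Os -/
theorem mainOs :
    sextets = OrbSet (HSt (fss [octad0])) (fss rootOsA) ∪ OrbSet (HSt (fss [octad0])) (fss rootOsB) ∪ OrbSet (HSt (fss [octad0])) (fss rootOsC) ∧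
    (OrbSet (HSt (fss [octad0])) (fss rootOsA)).ncard = 35 ∧ (OrbSet (HSt (fss [octad0])) (fss rootOsB)).ncard = 840 ∧ (OrbSet (HSt (fss [octad0])) (fss rootOsC)).ncard = 896 :=
  squeeze3 sextets sextets_finite 1771 ncard_sextets _ _ _ subOsA subOsB subOsC disjOsAB disjOsAC disjOsBC
    35 840 896
    (le_ncard_of_checkRunK rep_EOc runOsA_ok) (le_ncard_of_checkRunK rep_EOc runOsB_ok) (le_ncard_of_checkRunK rep_EOc runOsC_ok) (by norm_num)

set_option maxHeartbeats 4000000 in
theorem rootsOt_ok : (trioB rootOtA && trioB rootOtB && trioB rootOtC) = true := by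
  decide +kernel

theorem rootOtA_mem : fss rootOtA ∈ trios := by
  have := rootsOt_ok
  simp only [Bool.and_eq_true] at this
  exact fss_mem_trios this.1.1

theorem subOtA : OrbSet (HSt (fss [octad0])) (fss rootOtA) ⊆ trios := orbSet_subset_trios' rootOtA_mem

theorem rootOtB_mem : fss rootOtB ∈ trios := by
  have := rootsOt_ok
  simp only [Bool.and_eq_true] at this
  exact fss_mem_trios this.1.2

theorem subOtB : OrbSet (HSt (fss [octad0])) (fss rootOtB) ⊆ trios := orbSet_subset_trios' rootOtB_mem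

theorem rootOtC_mem : fss rootOtC ∈ trios := by
  have := rootsOt_ok
  simp only [Bool.and_eq_true] at this
  exact fss_mem_trios this.2

theorem subOtC : OrbSet (HSt (fss [octad0])) (fss rootOtC) ⊆ trios := orbSet_subset_trios' rootOtC_mem

theorem disjOtAB : Disjoint (OrbSet (HSt (fss [octad0])) (fss rootOtA)) (OrbSet (HSt (fss [octad0])) (fss rootOtB)) :=
  orbSet_disjoint_of_pkr 4 (by decide +kernel)

theorem disjOtAC : Disjoint (OrbSet (HSt (fss [octad0])) (fss rootOtA)) (OrbSet (HSt (fss [octad0])) (fss rootOtC)) :=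
  orbSet_disjoint_of_pkr 0 (by decide +kernel)

theorem disjOtBC : Disjoint (OrbSet (HSt (fss [octad0])) (fss rootOtB)) (OrbSet (HSt (fss [octad0])) (fss rootOtC)) :=
  orbSet_disjoint_of_pkr 0 (by decide +kernel)

/-- the orbits: case Ot -/
theorem mainOt :
    trios = OrbSet (HSt (fss [octad0])) (fss rootOtA) ∪ OrbSet (HSt (fss [octad0])) (fss rootOtB) ∪ OrbSet (HSt (fss [octad0])) (fss rootOtC) ∧
    (OrbSet (HSt (fss [octad0])) (fss rootOtA)).ncard = 15 ∧ (OrbSet (HSt (fss [octad0])) (fss rootOtB)).ncard = 420 ∧ (OrbSet (HSt (fss [octad0])) (fss rootOtC)).ncard = 3360 :=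
  squeeze3 trios trios_finite 3795 ncard_trios _ _ _ subOtA subOtB subOtC disjOtAB disjOtAC disjOtBC
    15 420 3360
    (le_ncard_of_checkRunK rep_EOc runOtA_ok) (le_ncard_of_checkRunK rep_EOc runOtB_ok) (le_ncard_of_checkRunK rep_EOc runOtC_ok) (by norm_num)

theorem rootSoA_eq : rootSoA = [416040] := rfl

theorem rootSoA_mem : fs 416040 ∈ octads := fs_mem_octads (by decide +kernel) (by decide +kernel)

theorem subSoA : OrbSet (HSt (fss sextet0C)) (fss rootSoA) ⊆ octSing := by
  rw [rootSoA_eq]; exact orbSet_subset_octSing rootSoA_mem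

theorem rootSoB_eq : rootSoB = [10558] := rfl

theorem rootSoB_mem : fs 10558 ∈ octads := fs_mem_octads (by decide +kernel) (by decide +kernel)

theorem subSoB : OrbSet (HSt (fss sextet0C)) (fss rootSoB) ⊆ octSing := by
  rw [rootSoB_eq]; exact orbSet_subset_octSing rootSoB_mem

theorem rootSoC_eq : rootSoC = [5279] := rfl

theorem rootSoC_mem : fs 5279 ∈ octads := fs_mem_octads (by decide +kernel) (by decide +kernel)

theorem subSoC : OrbSet (HSt (fss sextet0C)) (fss rootSoC) ⊆ octSing := by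
  rw [rootSoC_eq]; exact orbSet_subset_octSing rootSoC_mem

theorem disjSoAB : Disjoint (OrbSet (HSt (fss sextet0C)) (fss rootSoA)) (OrbSet (HSt (fss sextet0C)) (fss rootSoB)) :=
  orbSet_disjoint_of_pkr 2 (by decide +kernel)

theorem disjSoAC : Disjoint (OrbSet (HSt (fss sextet0C)) (fss rootSoA)) (OrbSet (HSt (fss sextet0C)) (fss rootSoC)) :=
  orbSet_disjoint_of_pkr 0 (by decide +kernel)

theorem disjSoBC : Disjoint (OrbSet (HSt (fss sextet0C)) (fss rootSoB)) (OrbSet (HSt (fss sextet0C)) (fss rootSoC)) :=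
  orbSet_disjoint_of_pkr 0 (by decide +kernel)

/-- the orbits: case So -/
theorem mainSo :
    octSing = OrbSet (HSt (fss sextet0C)) (fss rootSoA) ∪ OrbSet (HSt (fss sextet0C)) (fss rootSoB) ∪ OrbSet (HSt (fss sextet0C)) (fss rootSoC) ∧
    (OrbSet (HSt (fss sextet0C)) (fss rootSoA)).ncard = 15 ∧ (OrbSet (HSt (fss sextet0C)) (fss rootSoB)).ncard = 360 ∧ (OrbSet (HSt (fss sextet0C)) (fss rootSoC)).ncard = 384 :=
  squeeze3 octSing octSing_finite 759 ncard_octSing _ _ _ subSoA subSoB subSoC disjSoAB disjSoAC disjSoBC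
    15 360 384
    (le_ncard_of_checkRunK rep_ESxK runSoA_ok) (le_ncard_of_checkRunK rep_ESxK runSoB_ok) (le_ncard_of_checkRunK rep_ESxK runSoC_ok) (by norm_num)

set_option maxHeartbeats 4000000 in
theorem rootsSt_ok : (trioB rootStA && trioB rootStB && trioB rootStC && trioB rootStD) = true := by
  decide +kernel

theorem rootStA_mem : fss rootStA ∈ trios := by
  have := rootsSt_ok
  simp only [Bool.and_eq_true] at this
  exact fss_mem_trios this.1.1.1

theorem subStA : OrbSet (HSt (fss sextet0C)) (fss rootStA) ⊆ trios := orbSet_subset_trios' rootStA_mem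

theorem rootStB_mem : fss rootStB ∈ trios := by
  have := rootsSt_ok
  simp only [Bool.and_eq_true] at this
  exact fss_mem_trios this.1.1.2

theorem subStB : OrbSet (HSt (fss sextet0C)) (fss rootStB) ⊆ trios := orbSet_subset_trios' rootStB_mem

theorem rootStC_mem : fss rootStC ∈ trios := by
  have := rootsSt_ok
  simp only [Bool.and_eq_true] at this
  exact fss_mem_trios this.1.2

theorem subStC : OrbSet (HSt (fss sextet0C)) (fss rootStC) ⊆ trios := orbSet_subset_trios' rootStC_mem

theorem rootStD_mem : fss rootStD ∈ trios := by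
  have := rootsSt_ok
  simp only [Bool.and_eq_true] at this
  exact fss_mem_trios this.2

theorem subStD : OrbSet (HSt (fss sextet0C)) (fss rootStD) ⊆ trios := orbSet_subset_trios' rootStD_mem

theorem disjStAB : Disjoint (OrbSet (HSt (fss sextet0C)) (fss rootStA)) (OrbSet (HSt (fss sextet0C)) (fss rootStB)) :=
  orbSet_disjoint_of_pkr 2 (by decide +kernel)

theorem disjStAC : Disjoint (OrbSet (HSt (fss sextet0C)) (fss rootStA)) (OrbSet (HSt (fss sextet0C)) (fss rootStC)) :=
  orbSet_disjoint_of_pkr 2 (by decide +kernel)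

theorem disjStAD : Disjoint (OrbSet (HSt (fss sextet0C)) (fss rootStA)) (OrbSet (HSt (fss sextet0C)) (fss rootStD)) :=
  orbSet_disjoint_of_pkr 1 (by decide +kernel)

theorem disjStBC : Disjoint (OrbSet (HSt (fss sextet0C)) (fss rootStB)) (OrbSet (HSt (fss sextet0C)) (fss rootStC)) :=
  orbSet_disjoint_of_pkr 4 (by decide +kernel)

theorem disjStBD : Disjoint (OrbSet (HSt (fss sextet0C)) (fss rootStB)) (OrbSet (HSt (fss sextet0C)) (fss rootStD)) :=
  orbSet_disjoint_of_pkr 1 (by decide +kernel)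

theorem disjStCD : Disjoint (OrbSet (HSt (fss sextet0C)) (fss rootStC)) (OrbSet (HSt (fss sextet0C)) (fss rootStD)) :=
  orbSet_disjoint_of_pkr 1 (by decide +kernel)

/-- the orbits: case St -/
theorem mainSt :
    trios = OrbSet (HSt (fss sextet0C)) (fss rootStA) ∪ OrbSet (HSt (fss sextet0C)) (fss rootStB) ∪ OrbSet (HSt (fss sextet0C)) (fss rootStC) ∪ OrbSet (HSt (fss sextet0C)) (fss rootStD) ∧
    (OrbSet (HSt (fss sextet0C)) (fss rootStA)).ncard = 15 ∧ (OrbSet (HSt (fss sextet0C)) (fss rootStB)).ncard = 180 ∧ (OrbSet (HSt (fss sextet0C)) (fss rootStC)).ncard = 720 ∧ (OrbSet (HSt (fss sextet0C)) (fss rootStD)).ncard = 2880 :=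
  squeeze4 trios trios_finite 3795 ncard_trios _ _ _ _ subStA subStB subStC subStD disjStAB disjStAC disjStAD disjStBC disjStBD disjStCD
    15 180 720 2880
    (le_ncard_of_checkRunK rep_ESxK runStA_ok) (le_ncard_of_checkRunK rep_ESxK runStB_ok) (le_ncard_of_checkRunK rep_ESxK runStC_ok) (le_ncard_of_checkRunK rep_ESxK runStD_ok) (by norm_num)

theorem rootToA_eq : rootToA = [337856] := rfl

theorem rootToA_mem : fs 337856 ∈ octads := fs_mem_octads (by decide +kernel) (by decide +kernel)

theorem subToA : OrbSet (HSt (fss trio0C)) (fss rootToA) ⊆ octSing := by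
  rw [rootToA_eq]; exact orbSet_subset_octSing rootToA_mem

theorem rootToB_eq : rootToB = [18147] := rfl

theorem rootToB_mem : fs 18147 ∈ octads := fs_mem_octads (by decide +kernel) (by decide +kernel)

theorem subToB : OrbSet (HSt (fss trio0C)) (fss rootToB) ⊆ octSing := by
  rw [rootToB_eq]; exact orbSet_subset_octSing rootToB_mem

theorem rootToC_eq : rootToC = [5279] := rfl

theorem rootToC_mem : fs 5279 ∈ octads := fs_mem_octads (by decide +kernel) (by decide +kernel)

theorem subToC : OrbSet (HSt (fss trio0C)) (fss rootToC) ⊆ octSing := by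
  rw [rootToC_eq]; exact orbSet_subset_octSing rootToC_mem

theorem disjToAB : Disjoint (OrbSet (HSt (fss trio0C)) (fss rootToA)) (OrbSet (HSt (fss trio0C)) (fss rootToB)) :=
  orbSet_disjoint_of_pkr 4 (by decide +kernel)

theorem disjToAC : Disjoint (OrbSet (HSt (fss trio0C)) (fss rootToA)) (OrbSet (HSt (fss trio0C)) (fss rootToC)) :=
  orbSet_disjoint_of_pkr 0 (by decide +kernel)

theorem disjToBC : Disjoint (OrbSet (HSt (fss trio0C)) (fss rootToB)) (OrbSet (HSt (fss trio0C)) (fss rootToC)) :=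
  orbSet_disjoint_of_pkr 0 (by decide +kernel)

/-- the orbits: case To -/
theorem mainTo :
    octSing = OrbSet (HSt (fss trio0C)) (fss rootToA) ∪ OrbSet (HSt (fss trio0C)) (fss rootToB) ∪ OrbSet (HSt (fss trio0C)) (fss rootToC) ∧
    (OrbSet (HSt (fss trio0C)) (fss rootToA)).ncard = 3 ∧ (OrbSet (HSt (fss trio0C)) (fss rootToB)).ncard = 84 ∧ (OrbSet (HSt (fss trio0C)) (fss rootToC)).ncard = 672 :=
  squeeze3 octSing octSing_finite 759 ncard_octSing _ _ _ subToA subToB subToC disjToAB disjToAC disjToBC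
    3 84 672
    (le_ncard_of_checkRunK rep_ETr' runToA_ok) (le_ncard_of_checkRunK rep_ETr' runToB_ok) (le_ncard_of_checkRunK rep_ETr' runToC_ok) (by norm_num)

set_option maxHeartbeats 4000000 in
theorem rootsTs_ok : (sextetB rootTsA && sextetB rootTsB && sextetB rootTsC && sextetB rootTsD) = true := by
  decide +kernel

theorem rootTsA_mem : fss rootTsA ∈ sextets := by
  have := rootsTs_ok
  simp only [Bool.and_eq_true] at this
  exact fss_mem_sextets this.1.1.1

theorem subTsA : OrbSet (HSt (fss trio0C)) (fss rootTsA) ⊆ sextets := orbSet_subset_sextets' rootTsA_mem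

theorem rootTsB_mem : fss rootTsB ∈ sextets := by
  have := rootsTs_ok
  simp only [Bool.and_eq_true] at this
  exact fss_mem_sextets this.1.1.2

theorem subTsB : OrbSet (HSt (fss trio0C)) (fss rootTsB) ⊆ sextets := orbSet_subset_sextets' rootTsB_mem

theorem rootTsC_mem : fss rootTsC ∈ sextets := by
  have := rootsTs_ok
  simp only [Bool.and_eq_true] at this
  exact fss_mem_sextets this.1.2

theorem subTsC : OrbSet (HSt (fss trio0C)) (fss rootTsC) ⊆ sextets := orbSet_subset_sextets' rootTsC_mem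

theorem rootTsD_mem : fss rootTsD ∈ sextets := by
  have := rootsTs_ok
  simp only [Bool.and_eq_true] at this
  exact fss_mem_sextets this.2

theorem subTsD : OrbSet (HSt (fss trio0C)) (fss rootTsD) ⊆ sextets := orbSet_subset_sextets' rootTsD_mem

theorem disjTsAB : Disjoint (OrbSet (HSt (fss trio0C)) (fss rootTsA)) (OrbSet (HSt (fss trio0C)) (fss rootTsB)) :=
  orbSet_disjoint_of_pkr 2 (by decide +kernel)

theorem disjTsAC : Disjoint (OrbSet (HSt (fss trio0C)) (fss rootTsA)) (OrbSet (HSt (fss trio0C)) (fss rootTsC)) :=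
  orbSet_disjoint_of_pkr 2 (by decide +kernel)

theorem disjTsAD : Disjoint (OrbSet (HSt (fss trio0C)) (fss rootTsA)) (OrbSet (HSt (fss trio0C)) (fss rootTsD)) :=
  orbSet_disjoint_of_pkr 1 (by decide +kernel)

theorem disjTsBC : Disjoint (OrbSet (HSt (fss trio0C)) (fss rootTsB)) (OrbSet (HSt (fss trio0C)) (fss rootTsC)) :=
  orbSet_disjoint_of_pkr 4 (by decide +kernel)

theorem disjTsBD : Disjoint (OrbSet (HSt (fss trio0C)) (fss rootTsB)) (OrbSet (HSt (fss trio0C)) (fss rootTsD)) :=
  orbSet_disjoint_of_pkr 1 (by decide +kernel)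

theorem disjTsCD : Disjoint (OrbSet (HSt (fss trio0C)) (fss rootTsC)) (OrbSet (HSt (fss trio0C)) (fss rootTsD)) :=
  orbSet_disjoint_of_pkr 1 (by decide +kernel)

/-- the orbits: case Ts -/
theorem mainTs :
    sextets = OrbSet (HSt (fss trio0C)) (fss rootTsA) ∪ OrbSet (HSt (fss trio0C)) (fss rootTsB) ∪ OrbSet (HSt (fss trio0C)) (fss rootTsC) ∪ OrbSet (HSt (fss trio0C)) (fss rootTsD) ∧
    (OrbSet (HSt (fss trio0C)) (fss rootTsA)).ncard = 7 ∧ (OrbSet (HSt (fss trio0C)) (fss rootTsB)).ncard = 84 ∧ (OrbSet (HSt (fss trio0C)) (fss rootTsC)).ncard = 336 ∧ (OrbSet (HSt (fss trio0C)) (fss rootTsD)).ncard = 1344 :=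
  squeeze4 sextets sextets_finite 1771 ncard_sextets _ _ _ _ subTsA subTsB subTsC subTsD disjTsAB disjTsAC disjTsAD disjTsBC disjTsBD disjTsCD
    7 84 336 1344
    (le_ncard_of_checkRunK rep_ETr' runTsA_ok) (le_ncard_of_checkRunK rep_ETr' runTsB_ok) (le_ncard_of_checkRunK rep_ETr' runTsC_ok) (le_ncard_of_checkRunK rep_ETr' runTsD_ok) (by norm_num)

end Cfsg.Agent.Lib.Helper6.Golay
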