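import Cfsg.Agent.Lib.Helper6.GolayMixedData_Ys

/-!
# The stabilizer of a 3-set: its orbits on sextets
-/

set_option autoImplicit false

namespace Cfsg.Agent.Lib.Helper6.Golay

open Cfsg
open Cfsg.Agent.Lib.Helper6.PermChain
open scoped Pointwise

/-- the number of members of a system meeting a set -/
def meetCount (Y : Finset GolayPt) (S : Finset (Finset GolayPt)) : ℕ :=
  (S.filter fun t => (t ∩ Y).Nonempty).card

theorem meetCount_smul (g : Equiv.Perm GolayPt) (Y : Finset GolayPt) (S : Finset (Finset GolayPt)) :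
    meetCount (g • Y) (g • S) = meetCount Y S := by
  classical
  unfold meetCount
  have h1 : g • S = S.image (fun t => g • t) := rfl
  rw [h1, Finset.filter_image, Finset.card_image_of_injective _ (MulAction.injective g)]
  congr 1
  apply Finset.filter_congr
  intro t _
  show (g • t ∩ g • Y).Nonempty ↔ (t ∩ Y).Nonempty
  rw [← Finset.smul_finset_inter, Finset.smul_finset_nonempty]

set_option maxHeartbeats 4000000 in
theorem rootsYs_ok : (sextetB rootYsA && sextetB rootYsB && sextetB rootYsC) = true := by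
  decide +kernel

theorem rootYsA_mem : fss rootYsA ∈ sextets := by
  have := rootsYs_ok
  simp only [Bool.and_eq_true] at this
  exact fss_mem_sextets this.1.1

theorem rootYsB_mem : fss rootYsB ∈ sextets := by
  have := rootsYs_ok
  simp only [Bool.and_eq_true] at this
  exact fss_mem_sextets this.1.2

theorem rootYsC_mem : fss rootYsC ∈ sextets := by
  have := rootsYs_ok
  simp only [Bool.and_eq_true] at this
  exact fss_mem_sextets this.2

theorem mainYs :
    sextets = OrbSet (HSt (fss [triad0])) (fss rootYsA) ∪ OrbSet (HSt (fss [triad0])) (fss rootYsB) ∪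
      OrbSet (HSt (fss [triad0])) (fss rootYsC) ∧
    (OrbSet (HSt (fss [triad0])) (fss rootYsA)).ncard = 21 ∧
    (OrbSet (HSt (fss [triad0])) (fss rootYsB)).ncard = 630 ∧
    (OrbSet (HSt (fss [triad0])) (fss rootYsC)).ncard = 1120 :=
  squeeze3 sextets sextets_finite 1771 ncard_sextets _ _ _ (orbSet_subset_sextets' rootYsA_mem)
    (orbSet_subset_sextets' rootYsB_mem) (orbSet_subset_sextets' rootYsC_mem)
    (orbSet_disjoint_of_pkr 1 (by decide +kernel)) (orbSet_disjoint_of_pkr 1 (by decide +kernel))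
    (orbSet_disjoint_of_pkr 2 (by decide +kernel))
    21 630 1120
    (le_ncard_of_checkRunK rep_EY3 runYsA_ok) (le_ncard_of_checkRunK rep_EY3 runYsB_ok)
    (le_ncard_of_checkRunK rep_EY3 runYsC_ok) (by norm_num)

set_option maxHeartbeats 4000000 in
theorem meetCount_roots : meetCount (fs triad0) (fss rootYsA) = 1 ∧ meetCount (fs triad0) (fss rootYsB) = 2 ∧
    meetCount (fs triad0) (fss rootYsC) = 3 := by
  decide +kernel

theorem meetCount_orbSet {X Y : Finset (Finset GolayPt)} (hY : Y ∈ OrbSet (HSt (fss [triad0])) X) :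
    meetCount (fs triad0) Y = meetCount (fs triad0) X := by
  obtain ⟨g, hg, rfl⟩ := hY
  have h2 : g • fs triad0 = fs triad0 := by
    have := (mem_HSt.mp hg).2
    rw [fss_singleton] at this
    exact (smul_sys_singleton_eq g _ _).mp this
  conv_lhs => rw [← h2]
  exact meetCount_smul g _ _

/-- the level sets of the count are the orbits -/
theorem level_eq_orbit :
    {S | S ∈ sextets ∧ meetCount (fs triad0) S = 1} = OrbSet (HSt (fss [triad0])) (fss rootYsA) ∧
    {S | S ∈ sextets ∧ meetCount (fs triad0) S = 2} = OrbSet (HSt (fss [triad0])) (fss rootYsB) ∧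
    {S | S ∈ sextets ∧ meetCount (fs triad0) S = 3} = OrbSet (HSt (fss [triad0])) (fss rootYsC) := by
  obtain ⟨hU, -, -, -⟩ := mainYs
  obtain ⟨c1, c2, c3⟩ := meetCount_roots
  have key : ∀ S ∈ sextets, (S ∈ OrbSet (HSt (fss [triad0])) (fss rootYsA) ∧ meetCount (fs triad0) S = 1) ∨
      (S ∈ OrbSet (HSt (fss [triad0])) (fss rootYsB) ∧ meetCount (fs triad0) S = 2) ∨
      (S ∈ OrbSet (HSt (fss [triad0])) (fss rootYsC) ∧ meetCount (fs triad0) S = 3) := by
    intro S hS
    rw [hU] at hS
    rcases hS with (h | h) | h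
    · exact Or.inl ⟨h, (meetCount_orbSet h).trans c1⟩
    · exact Or.inr (Or.inl ⟨h, (meetCount_orbSet h).trans c2⟩)
    · exact Or.inr (Or.inr ⟨h, (meetCount_orbSet h).trans c3⟩)
  refine ⟨?_, ?_, ?_⟩
  · ext S
    constructor
    · rintro ⟨hS, hc⟩
      rcases key S hS with h | h | h
      · exact h.1
      · omega
      · omega
    · intro h
      exact ⟨orbSet_subset_sextets' rootYsA_mem h, (meetCount_orbSet h).trans c1⟩
  · ext S
    constructor
    · rintro ⟨hS, hc⟩
      rcases key S hS with h | h | h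
      · omega
      · exact h.1
      · omega
    · intro h
      exact ⟨orbSet_subset_sextets' rootYsB_mem h, (meetCount_orbSet h).trans c2⟩
  · ext S
    constructor
    · rintro ⟨hS, hc⟩
      rcases key S hS with h | h | h
      · omega
      · omega
      · exact h.1
    · intro h
      exact ⟨orbSet_subset_sextets' rootYsC_mem h, (meetCount_orbSet h).trans c3⟩

theorem orbSet_conj {H : Subgroup (Equiv.Perm GolayPt)} {X a b : Finset (Finset GolayPt)}
    (ha : a ∈ OrbSet H X) (hb : b ∈ OrbSet H X) : ∃ h ∈ H, h • a = b := by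
  obtain ⟨g, hg, rfl⟩ := ha
  obtain ⟨g', hg', rfl⟩ := hb
  refine ⟨g' * g⁻¹, H.mul_mem hg' (H.inv_mem hg), ?_⟩
  rw [mul_smul, inv_smul_smul]

/-- the reference position -/
theorem triad_sextets_ref :
    {S | S ∈ sextets ∧ meetCount (fs triad0) S = 1}.ncard = 21 ∧
    {S | S ∈ sextets ∧ meetCount (fs triad0) S = 2}.ncard = 630 ∧
    {S | S ∈ sextets ∧ meetCount (fs triad0) S = 3}.ncard = 1120 ∧
    ∀ S S' : Finset (Finset GolayPt), S ∈ sextets → S' ∈ sextets →
      meetCount (fs triad0) S = meetCount (fs triad0) S' →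
      ∃ g ∈ M24, g • fs triad0 = fs triad0 ∧ g • S = S' := by
  obtain ⟨hU, n1, n2, n3⟩ := mainYs
  obtain ⟨e1, e2, e3⟩ := level_eq_orbit
  obtain ⟨c1, c2, c3⟩ := meetCount_roots
  refine ⟨by rw [e1, n1], by rw [e2, n2], by rw [e3, n3], ?_⟩
  intro S S' hS hS' hc
  have fin : ∀ {X : Finset (Finset GolayPt)}, S ∈ OrbSet (HSt (fss [triad0])) X →
      S' ∈ OrbSet (HSt (fss [triad0])) X → ∃ g ∈ M24, g • fs triad0 = fs triad0 ∧ g • S = S' := by
    intro X h h'
    obtain ⟨g, hg, hgS⟩ := orbSet_conj h h'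
    have h2 : g • fs triad0 = fs triad0 := by
      have := (mem_HSt.mp hg).2
      rw [fss_singleton] at this
      exact (smul_sys_singleton_eq g _ _).mp this
    exact ⟨g, (mem_HSt.mp hg).1, h2, hgS⟩
  have hS0 := hS
  have hS0' := hS'
  rw [hU] at hS hS'
  rcases hS with (h | h) | h <;> rcases hS' with (h' | h') | h'
  · exact fin h h'
  · have := meetCount_orbSet h; have := meetCount_orbSet h'; omega
  · have := meetCount_orbSet h; have := meetCount_orbSet h'; omega
  · have := meetCount_orbSet h; have := meetCount_orbSet h'; omega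
  · exact fin h h'
  · have := meetCount_orbSet h; have := meetCount_orbSet h'; omega
  · have := meetCount_orbSet h; have := meetCount_orbSet h'; omega
  · have := meetCount_orbSet h; have := meetCount_orbSet h'; omega
  · exact fin h h'

/-- **S5616**: sextets by the number of tetrads meeting a 3-set -/
theorem triad_sextets (Y : Finset GolayPt) (hY : Y.card = 3) :
    {S : Finset (Finset GolayPt) | S ∈ sextets ∧ (S.filter fun t => (t ∩ Y).Nonempty).card = 1}.ncard = 21 ∧
    {S : Finset (Finset GolayPt) | S ∈ sextets ∧ (S.filter fun t => (t ∩ Y).Nonempty).card = 2}.ncard = 630 ∧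
    {S : Finset (Finset GolayPt) | S ∈ sextets ∧ (S.filter fun t => (t ∩ Y).Nonempty).card = 3}.ncard = 1120 ∧
    ∀ S S' : Finset (Finset GolayPt), S ∈ sextets → S' ∈ sextets →
      (S.filter fun t => (t ∩ Y).Nonempty).card = (S'.filter fun t => (t ∩ Y).Nonempty).card →
      ∃ g ∈ M24, g • Y = Y ∧ g • S = S' := by
  have h3 : (fs triad0).card = 3 := by rw [card_fs]; decide
  obtain ⟨t, ht, rfl⟩ := exists_M24_small (h3.trans hY.symm) (by rw [h3]; norm_num)
  obtain ⟨n1, n2, n3, htr⟩ := triad_sextets_ref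
  have hlev : ∀ i : ℕ, {S : Finset (Finset GolayPt) | S ∈ sextets ∧ meetCount (t • fs triad0) S = i} =
      (fun S => t • S) '' {S | S ∈ sextets ∧ meetCount (fs triad0) S = i} := by
    intro i
    ext S
    constructor
    · rintro ⟨hS, hc⟩
      refine ⟨t⁻¹ • S, ⟨smul_mem_sextets (M24.inv_mem ht) hS, ?_⟩, smul_inv_smul t S⟩
      rw [← meetCount_smul t, smul_inv_smul]
      exact hc
    · rintro ⟨S0, ⟨hS0, hc⟩, rfl⟩
      exact ⟨smul_mem_sextets ht hS0, (meetCount_smul t _ _).trans hc⟩
  refine ⟨?_, ?_, ?_, ?_⟩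
  · show {S : Finset (Finset GolayPt) | S ∈ sextets ∧ meetCount (t • fs triad0) S = 1}.ncard = 21
    rw [hlev, Set.ncard_image_of_injective _ (MulAction.injective t), n1]
  · show {S : Finset (Finset GolayPt) | S ∈ sextets ∧ meetCount (t • fs triad0) S = 2}.ncard = 630
    rw [hlev, Set.ncard_image_of_injective _ (MulAction.injective t), n2]
  · show {S : Finset (Finset GolayPt) | S ∈ sextets ∧ meetCount (t • fs triad0) S = 3}.ncard = 1120
    rw [hlev, Set.ncard_image_of_injective _ (MulAction.injective t), n3]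
  · intro S S' hS hS' hc
    have hc' : meetCount (t • fs triad0) S = meetCount (t • fs triad0) S' := hc
    have e1 : meetCount (fs triad0) (t⁻¹ • S) = meetCount (t • fs triad0) S := by
      rw [← meetCount_smul t, smul_inv_smul]
    have e2 : meetCount (fs triad0) (t⁻¹ • S') = meetCount (t • fs triad0) S' := by
      rw [← meetCount_smul t, smul_inv_smul]
    obtain ⟨g, hg, hgY, hgS⟩ := htr (t⁻¹ • S) (t⁻¹ • S') (smul_mem_sextets (M24.inv_mem ht) hS)
      (smul_mem_sextets (M24.inv_mem ht) hS') (by rw [e1, e2, hc'])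
    refine ⟨t * g * t⁻¹, M24.mul_mem (M24.mul_mem ht hg) (M24.inv_mem ht), ?_, ?_⟩
    · rw [mul_smul, mul_smul, inv_smul_smul, hgY]
    · rw [mul_smul, mul_smul, hgS, smul_inv_smul]

end Cfsg.Agent.Lib.Helper6.Golay
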