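import Cfsg.Agent.Lib.Helper6.GolayNF4

/-!
# Commuting elements of order two and three in `M24`
-/

set_option autoImplicit false

namespace Cfsg.Agent.Lib.Helper6.Golay

open Cfsg
open Cfsg.Agent.Lib.Helper6.PermChain
open scoped Pointwise

/-- a permutation of prime-power order leaving invariant a set of cardinality prime to `q` has
a fixed point in the set -/
theorem exists_fix_of_invariant {α : Type*} [DecidableEq α] (x : Equiv.Perm α) (F : Finset α)
    (hF : ∀ p, x p ∈ F ↔ p ∈ F) (q n : ℕ) [hq : Fact q.Prime] (hx : x ^ q ^ n = 1)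
    (hcard : ¬ q ∣ F.card) : ∃ p ∈ F, x p = p := by
  have h1 : ¬ q ∣ Fintype.card {p // p ∈ F} := by rwa [Fintype.card_coe]
  have h2 : (x.subtypePerm hF) ^ q ^ n = 1 := by
    rw [Equiv.Perm.subtypePerm_pow]
    ext a
    simp [hx]
  obtain ⟨a, ha⟩ := Equiv.Perm.exists_fixed_point_of_prime h1 h2
  refine ⟨a.1, a.2, ?_⟩
  have := congrArg Subtype.val ha
  simpa using this

theorem exists_mem_not_mem_list (F : Finset GolayPt) (l : List GolayPt) (h : l.length < F.card) :
    ∃ c ∈ F, c ∉ l := by
  by_contra hcon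
  push Not at hcon
  have h1 : F ⊆ l.toFinset := fun t ht => List.mem_toFinset.mpr (hcon t ht)
  have h2 := Finset.card_le_card h1
  have h4 := List.toFinset_card_le l
  omega

set_option maxHeartbeats 4000000 in
set_option maxRecDepth 100000 in
theorem check_comm : (cosetL tC ++ cosetL tD).all (fun m => !(isInvL m && !hasFix m) ||
    T5.all (fun y => !(isOrd3L y && (y != idl) && (lmul m y == lmul y m)))) = true := by
  decide +kernel

/-- no fixed-point-free involution of `M24` commutes with an element of order three having a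
fixed point -/
theorem no_fpf_invol_comm {x s : Equiv.Perm GolayPt} (hx : x ∈ M24) (hs : s ∈ M24)
    (h3 : orderOf x = 3) (h2 : orderOf s = 2) (hc : Commute x s) {p : GolayPt} (hp : x p = p)
    (h0 : ∀ p, s p ≠ p) : False := by
  obtain ⟨hsq, -⟩ := sq_of_orderOf_two h2
  obtain ⟨hcube, hne⟩ := cube_of_orderOf_three h3
  have hss : ∀ y, s (s y) = y := fun y => by
    have := congrArg (fun f : Equiv.Perm GolayPt => f y) hsq
    simpa using this
  set F := Finset.univ.filter fun p => x p = p with hF
  have hFc : F.card = 6 := ord3_fix_card hx h3 hp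
  have hmem : ∀ y, y ∈ F ↔ x y = y := fun y => by simp [hF]
  have hsF : ∀ y, x y = y → x (s y) = s y := by
    intro y hy
    have := congrArg (fun f : Equiv.Perm GolayPt => f y) hc.eq
    simp only [Equiv.Perm.mul_apply] at this
    rw [this, hy]
  obtain ⟨a, haF, -⟩ := exists_mem_not_mem_list F [] (by simp [hFc])
  obtain ⟨c, hcF, hc'⟩ := exists_mem_not_mem_list F [a, s a] (by simp [hFc])
  simp only [List.mem_cons, List.not_mem_nil, or_false, not_or] at hc'
  obtain ⟨hca, hcb⟩ := hc'
  obtain ⟨e, heF, he'⟩ := exists_mem_not_mem_list F [a, s a, c, s c] (by simp [hFc])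
  simp only [List.mem_cons, List.not_mem_nil, or_false, not_or] at he'
  obtain ⟨hea, heb, hec, hed⟩ := he'
  have hab : a ≠ s a := (h0 a).symm
  have had : a ≠ s c := fun e' => hcb ((hss c).symm.trans (congrArg s e'.symm))
  have haf : a ≠ s e := fun e' => heb ((hss e).symm.trans (congrArg s e'.symm))
  have hbd : s a ≠ s c := fun e' => hca (s.injective e').symm
  have hbf : s a ≠ s e := fun e' => hea (s.injective e').symm
  have hcd : c ≠ s c := (h0 c).symm
  have hcf : c ≠ s e := fun e' => hed ((hss e).symm.trans (congrArg s e'.symm))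
  have hdf : s c ≠ s e := fun e' => hec (s.injective e').symm
  have hef : e ≠ s e := (h0 e).symm
  obtain ⟨k, hk, ⟨k0, k1, k2, k3, k4⟩, k5⟩ := exists_to_base6
    (nodup6 hab (Ne.symm hca) had (Ne.symm hea) haf (Ne.symm hcb) hbd (Ne.symm heb) hbf hcd
      (Ne.symm hec) hcf (Ne.symm hed) hdf hef)
  have xa := (hmem a).mp haF
  have xc := (hmem c).mp hcF
  have xe := (hmem e).mp heF
  have xb := hsF a xa
  have xd := hsF c xc
  -- the conjugate of `x` fixes the five base points
  have hx' : k * x * k⁻¹ ∈ M24 := M24.mul_mem (M24.mul_mem hk hx) (M24.inv_mem hk)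
  have hs' : k * s * k⁻¹ ∈ M24 := M24.mul_mem (M24.mul_mem hk hs) (M24.inv_mem hk)
  have hx5 : k * x * k⁻¹ ∈ fixL M24 (Lk 5) := by
    rw [mem_fixL]
    refine ⟨hx', ?_⟩
    have hL : Lk 5 = [pt 23, pt 0, pt 1, pt 2, pt 3] := by decide
    intro y hy
    rw [hL] at hy
    simp only [List.mem_cons, List.not_mem_nil, or_false] at hy
    rcases hy with rfl | rfl | rfl | rfl | rfl
    · exact conj_apply_of_eq k0 k0 xa
    · exact conj_apply_of_eq k1 k1 xb
    · exact conj_apply_of_eq k2 k2 xc
    · exact conj_apply_of_eq k3 k3 xd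
    · exact conj_apply_of_eq k4 k4 xe
  obtain ⟨y, hy, hyf⟩ := exists_T5_of_fixL hx5
  have hwy : wf y = true := (rep_T5 y hy).1
  have hy3 : isOrd3L y = true := isOrd3L_of hwy hyf (conj_mul_cube hcube)
  have hyne : (y != idl) = true := by
    rw [bne_iff_ne]
    intro e'
    apply hne
    have h1 : k * x * k⁻¹ = 1 := by
      apply DFunLike.coe_injective
      rw [hyf, e', lfun_idl]
      rfl
    have h2 : x = k⁻¹ * (k * x * k⁻¹) * k := by group
    rw [h2, h1]
    group
  have hcomm : (k * s * k⁻¹) * (k * x * k⁻¹) = (k * x * k⁻¹) * (k * s * k⁻¹) := by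
    have h1 : (k * s * k⁻¹) * (k * x * k⁻¹) = k * (s * x) * k⁻¹ := by group
    have h2 : (k * x * k⁻¹) * (k * s * k⁻¹) = k * (x * s) * k⁻¹ := by group
    rw [h1, h2, hc.eq]
  have fin : ∀ (t : List ℕ), Rep M24 t → t ∈ [tC, tD] →
      (∀ b ∈ [23, 0, 1, 2, 3], (k * s * k⁻¹) (pt b) = pt (t.getD b 0)) → False := by
    intro t ht htm hbase
    obtain ⟨l, hl, hlf⟩ := coset_nf ht hs' hbase
    have hwm : wf (lmul t l) = true := wf_lmul ht.1 (rep_T5 l hl).1
    have hmem' : lmul t l ∈ cosetL tC ++ cosetL tD := by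
      simp only [List.mem_cons, List.not_mem_nil, or_false] at htm
      rw [List.mem_append]
      rcases htm with rfl | rfl
      · exact Or.inl (List.mem_map.mpr ⟨l, hl, rfl⟩)
      · exact Or.inr (List.mem_map.mpr ⟨l, hl, rfl⟩)
    have h1 := List.all_eq_true.mp check_comm _ hmem'
    rw [isInvL_of hwm hlf (conj_mul_self hsq), hasFix_false_of hlf (conj_fpf h0)] at h1
    simp only [Bool.not_false, Bool.and_self, Bool.not_true, Bool.false_or] at h1
    have h2 := List.all_eq_true.mp h1 y hy
    rw [hy3, hyne] at h2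
    have h3 : lmul (lmul t l) y = lmul y (lmul t l) := by
      apply lfun_injective (wf_lmul hwm hwy) (wf_lmul hwy hwm)
      rw [lfun_lmul _ hwy, lfun_lmul _ hwm, ← hlf, ← hyf]
      funext z
      have := congrArg (fun f : Equiv.Perm GolayPt => f z) hcomm
      simpa using this
    rw [h3] at h2
    simp at h2
  rcases k5 with k5 | k5
  · apply fin tC (rep_cosReps tC (by simp)) (by simp)
    intro b hb
    simp only [List.mem_cons, List.not_mem_nil, or_false] at hb
    rcases hb with rfl | rfl | rfl | rfl | rfl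
    · exact conj_apply_of_eq k0 k1 rfl
    · exact conj_apply_of_eq k1 k0 (hss a)
    · exact conj_apply_of_eq k2 k3 rfl
    · exact conj_apply_of_eq k3 k2 (hss c)
    · exact conj_apply_of_eq k4 k5 rfl
  · apply fin tD (rep_cosReps tD (by simp)) (by simp)
    intro b hb
    simp only [List.mem_cons, List.not_mem_nil, or_false] at hb
    rcases hb with rfl | rfl | rfl | rfl | rfl
    · exact conj_apply_of_eq k0 k1 rfl
    · exact conj_apply_of_eq k1 k0 (hss a)
    · exact conj_apply_of_eq k2 k3 rfl
    · exact conj_apply_of_eq k3 k2 (hss c)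
    · exact conj_apply_of_eq k4 k5 rfl

end Cfsg.Agent.Lib.Helper6.Golay
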