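import Cfsg.Agent.Lib.Helper6.GolayNorm7Data
import Cfsg.Agent.Lib.Helper6.GolayCent2B

/-!
# The normalizer and the centralizer of a subgroup of order seven of `M24`
-/

set_option autoImplicit false

namespace Cfsg.Agent.Lib.Helper6.Golay

open Cfsg
open Cfsg.Agent.Lib.Helper6.PermChain
open scoped Pointwise

/-- membership in the normalizer of a cyclic subgroup of a finite group -/
theorem mem_normalizer_zpowers_iff {G : Type*} [Group G] [Finite G] (u ν : G) :
    ν ∈ Subgroup.normalizer (Subgroup.zpowers u : Set G) ↔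
      ∃ j < orderOf u, ν * u = u ^ j * ν := by
  classical
  constructor
  · intro h
    have h1 := (Subgroup.mem_normalizer_iff.mp h u).mp (Subgroup.mem_zpowers u)
    rw [mem_zpowers_iff_mem_range_orderOf, Finset.mem_image] at h1
    obtain ⟨j, hj, hju⟩ := h1
    refine ⟨j, Finset.mem_range.mp hj, ?_⟩
    rw [hju]
    group
  · rintro ⟨j, -, hj⟩
    apply Subgroup.mem_normalizer_fintype
    intro n hn
    rw [SetLike.mem_coe, Subgroup.mem_zpowers_iff] at hn
    obtain ⟨k, rfl⟩ := hn
    have h1 : ν * u * ν⁻¹ = u ^ j := by rw [hj]; group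
    have h2 : ν * u ^ k * ν⁻¹ = (ν * u * ν⁻¹) ^ k := (conj_zpow).symm
    rw [h2, h1]
    exact Subgroup.zpow_mem _ (Subgroup.pow_mem _ (Subgroup.mem_zpowers u) j) k

/-- the normalizer of `⟨u⟩` in `M24` -/
def normM (u : Equiv.Perm GolayPt) : Subgroup (Equiv.Perm GolayPt) :=
  M24 ⊓ Subgroup.normalizer (Subgroup.zpowers u : Set (Equiv.Perm GolayPt))

theorem mem_normM {u ν : Equiv.Perm GolayPt} :
    ν ∈ normM u ↔ ν ∈ M24 ∧ ∃ j < orderOf u, ν * u = u ^ j * ν := by
  rw [normM, Subgroup.mem_inf, mem_normalizer_zpowers_iff]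

theorem lfun_lpw {g : Equiv.Perm GolayPt} {l : List ℕ} (wl : wf l = true) (h : ⇑g = lfun l)
    (n : ℕ) : ⇑(g ^ n) = lfun (lpw l n) := by
  induction n with
  | zero => rw [pow_zero, lpw, lfun_idl]; rfl
  | succ n ih => rw [pow_succ, lpw, lfun_lmul _ wl, ← ih, ← h]; rfl

theorem wf_lpw {l : List ℕ} (wl : wf l = true) (n : ℕ) : wf (lpw l n) = true := by
  induction n with
  | zero => exact wf_idl
  | succ n ih => exact wf_lmul ih wl

theorem wf_x7 : wf x7 = true := by decide

theorem x7pows_getD (j : ℕ) (hj : j < 7) : x7pows.getD j idl = lpw x7 j := by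
  rw [x7pows_eq]
  interval_cases j <;> rfl

/-- the list permutation normalizes `⟨x7⟩` -/
def normB (m : List ℕ) : Bool :=
  (List.range 7).any (fun j => lmul m x7 == lmul (x7pows.getD j idl) m)

/-- the list permutation commutes with `x7` -/
def commB7 (m : List ℕ) : Bool := lmul m x7 == lmul x7 m

theorem lpw7 : lpw x7 7 = idl := by decide +kernel

section ref

variable {u : Equiv.Perm GolayPt} (hu : ⇑u = lfun x7)

include hu

theorem u7_pow : u ^ 7 = 1 := by
  apply DFunLike.coe_injective
  rw [lfun_lpw wf_x7 hu 7, lpw7, lfun_idl]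
  rfl

theorem u7_ne : u ≠ 1 := ne_one_of_lfun hu 2 (by norm_num) (by decide) (by decide)

theorem u7_order : orderOf u = 7 := by
  have : Fact (Nat.Prime 7) := ⟨by norm_num⟩
  exact orderOf_eq_prime (u7_pow hu) (u7_ne hu)

theorem mul_eq_iff_list {ν : Equiv.Perm GolayPt} {m : List ℕ} (hm : wf m = true)
    (hν : ⇑ν = lfun m) (j : ℕ) :
    ν * u = u ^ j * ν ↔ lmul m x7 = lmul (lpw x7 j) m := by
  have hwj := wf_lpw wf_x7 j
  constructor
  · intro h
    apply lfun_injective (wf_lmul hm wf_x7) (wf_lmul hwj hm)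
    rw [lfun_lmul m wf_x7, lfun_lmul _ hm, ← hν, ← hu, ← lfun_lpw wf_x7 hu j]
    funext p
    have := congrArg (fun f : Equiv.Perm GolayPt => f p) h
    simpa using this
  · intro h
    apply DFunLike.coe_injective
    have h1 : lfun (lmul m x7) = lfun (lmul (lpw x7 j) m) := by rw [h]
    rw [lfun_lmul m wf_x7, lfun_lmul _ hm, ← hν, ← hu, ← lfun_lpw wf_x7 hu j] at h1
    funext p
    have := congrFun h1 p
    simpa using this

theorem normM_iff_normB {ν : Equiv.Perm GolayPt} {m : List ℕ} (hm : wf m = true)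
    (hν : ⇑ν = lfun m) (hν24 : ν ∈ M24) : ν ∈ normM u ↔ normB m = true := by
  rw [mem_normM, u7_order hu, normB, List.any_eq_true]
  constructor
  · rintro ⟨-, j, hj, hjν⟩
    refine ⟨j, List.mem_range.mpr hj, ?_⟩
    rw [beq_iff_eq, x7pows_getD j hj]
    exact (mul_eq_iff_list hu hm hν j).mp hjν
  · rintro ⟨j, hj, hjm⟩
    rw [List.mem_range] at hj
    rw [beq_iff_eq, x7pows_getD j hj] at hjm
    exact ⟨hν24, j, hj, (mul_eq_iff_list hu hm hν j).mpr hjm⟩

theorem centM_iff_commB7 {ν : Equiv.Perm GolayPt} {m : List ℕ} (hm : wf m = true)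
    (hν : ⇑ν = lfun m) (hν24 : ν ∈ M24) : ν ∈ centM u ↔ commB7 m = true := by
  rw [mem_centM, commB7, beq_iff_eq]
  have h1 := mul_eq_iff_list hu hm hν 1
  rw [pow_one] at h1
  have h2 : lpw x7 1 = x7 := by decide
  rw [h2] at h1
  rw [h1]
  exact ⟨fun h => h.2, fun h => ⟨hν24, h⟩⟩

theorem centM_le_normM : centM u ≤ normM u := by
  intro ν hν
  rw [mem_normM, u7_order hu]
  exact ⟨hν.1, 1, by norm_num, by rw [pow_one]; exact hν.2⟩

end ref

/-! ### the computations -/

def cyc7 : List ℕ := [2, 3, 4, 14, 19, 21, 22]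

theorem x7_fixpts : [1, 2, 3, 4, 5, 6].all (fun j => (List.range 24).all (fun i =>
    !((x7pows.getD j idl).getD i 0 == i) || [23, 0, 1].contains i)) = true := by decide +kernel

set_option maxHeartbeats 4000000 in
set_option maxRecDepth 100000 in
theorem nreps_cover : (List.range 24).all (fun q => [23, 0, 1].contains q ||
    [1, 2, 3, 4, 5, 6].all (fun j => nreps.any (fun t => t.getD 23 0 == 23 && t.getD 0 0 == 0 &&
      t.getD 1 0 == 1 && t.getD 2 0 == q && t.getD 3 0 == (x7pows.getD j idl).getD q 0))) = true := by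
  decide +kernel

theorem nreps_sub : ∀ t ∈ nreps, t ∈ n7All := by
  intro t ht
  simp only [n7All, List.mem_append]
  exact Or.inr ht

section ref2

variable {u : Equiv.Perm GolayPt} (hu : ⇑u = lfun x7)

include hu

theorem u7_apply_pt {i : ℕ} (hi : i < 24) : u (pt i) = pt (x7.getD i 0) := by
  rw [hu, lfun_pt x7 hi]

/-- an element of the normalizer permutes the three fixed points -/
theorem normM_fixpts {ν : Equiv.Perm GolayPt} (hν : ν ∈ normM u) {i : ℕ} (hi : i ∈ [23, 0, 1]) :
    idx (ν (pt i)) ∈ [23, 0, 1] := by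
  obtain ⟨-, j, hj, hjν⟩ := mem_normM.mp hν
  rw [u7_order hu] at hj
  have hi24 : i < 24 := by
    simp only [List.mem_cons, List.not_mem_nil, or_false] at hi
    omega
  have hfix : u (pt i) = pt i := by
    rw [u7_apply_pt hu hi24]
    simp only [List.mem_cons, List.not_mem_nil, or_false] at hi
    rcases hi with rfl | rfl | rfl <;> rfl
  have hj0 : j ≠ 0 := by
    rintro rfl
    rw [pow_zero, one_mul] at hjν
    exact u7_ne hu (mul_left_cancel (hjν.trans (mul_one ν).symm))
  have h1 := congrArg (fun f : Equiv.Perm GolayPt => f (pt i)) hjν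
  simp only [Equiv.Perm.mul_apply, hfix] at h1
  rw [lfun_lpw wf_x7 hu j, ← x7pows_getD j hj] at h1
  have hq := idx_lt (ν (pt i))
  have h2 : (x7pows.getD j idl).getD (idx (ν (pt i))) 0 = idx (ν (pt i)) := by
    have h3 := congrArg idx h1
    rw [lfun, idx_pt] at h3
    · exact h3.symm
    · rw [x7pows_getD j hj]
      exact getD_lt (wf_lpw wf_x7 j) hq
  have hjm : j ∈ [1, 2, 3, 4, 5, 6] := by
    simp only [List.mem_cons, List.not_mem_nil, or_false]
    omega
  have h4 := List.all_eq_true.mp (List.all_eq_true.mp x7_fixpts j hjm) _ (List.mem_range.mpr hq)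
  rw [h2] at h4
  simpa using h4

/-- the normal form of an element of the normalizer fixing the three fixed points -/
theorem normM_nf {ν : Equiv.Perm GolayPt} (hν : ν ∈ normM u) (h23 : ν (pt 23) = pt 23)
    (h0 : ν (pt 0) = pt 0) (h1 : ν (pt 1) = pt 1) :
    ∃ t ∈ nreps, ∃ l ∈ T5, ⇑ν = lfun (lmul t l) ∧ wf (lmul t l) = true := by
  obtain ⟨hν24, j, hj, hjν⟩ := mem_normM.mp hν
  rw [u7_order hu] at hj
  have hj0 : j ≠ 0 := by
    rintro rfl
    rw [pow_zero, one_mul] at hjν
    exact u7_ne hu (mul_left_cancel (hjν.trans (mul_one ν).symm))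
  have hq := idx_lt (ν (pt 2))
  have hq' : ¬ ([23, 0, 1].contains (idx (ν (pt 2))) = true) := by
    simp only [List.contains_eq_mem, List.mem_cons, List.not_mem_nil, or_false,
      decide_eq_true_eq, not_or]
    refine ⟨idx_ne_of_ne ?_, idx_ne_of_ne ?_, idx_ne_of_ne ?_⟩
    · rw [← h23]; exact ν.injective.ne (by decide)
    · rw [← h0]; exact ν.injective.ne (by decide)
    · rw [← h1]; exact ν.injective.ne (by decide)
  have h3 : ν (pt 3) = pt ((x7pows.getD j idl).getD (idx (ν (pt 2))) 0) := by
    have h := congrArg (fun f : Equiv.Perm GolayPt => f (pt 2)) hjν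
    simp only [Equiv.Perm.mul_apply] at h
    rw [u7_apply_pt hu (by norm_num), show x7.getD 2 0 = 3 from rfl] at h
    rw [h, lfun_lpw wf_x7 hu j, ← x7pows_getD j hj, lfun]
  have hjm : j ∈ [1, 2, 3, 4, 5, 6] := by
    simp only [List.mem_cons, List.not_mem_nil, or_false]
    omega
  have hc := List.all_eq_true.mp nreps_cover _ (List.mem_range.mpr hq)
  rw [Bool.or_eq_true] at hc
  have hc := List.all_eq_true.mp (hc.resolve_left hq') j hjm
  rw [List.any_eq_true] at hc
  obtain ⟨t, ht, hagree⟩ := hc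
  simp only [Bool.and_eq_true, beq_iff_eq] at hagree
  obtain ⟨⟨⟨⟨a23, a0⟩, a1⟩, a2⟩, a3⟩ := hagree
  have hrep : Rep M24 t := rep_n7All t (nreps_sub t ht)
  obtain ⟨l, hl, hlf⟩ := coset_nf hrep hν24 (by
    intro b hb
    simp only [List.mem_cons, List.not_mem_nil, or_false] at hb
    rcases hb with rfl | rfl | rfl | rfl | rfl
    · rw [h23, a23]
    · rw [h0, a0]
    · rw [h1, a1]
    · rw [a2, pt_idx]
    · rw [h3, a3])
  exact ⟨t, ht, l, hl, hlf, wf_lmul hrep.1 (rep_T5 l hl).1⟩

end ref2

/-! ### the chain of stabilizers, for a subgroup of the normalizer given by a test on lists -/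

theorem eq_pt_of_idx {x : GolayPt} {n : ℕ} (h : idx x = n) : x = pt n := by rw [← h, pt_idx]

theorem card_chain7 {u : Equiv.Perm GolayPt} (hu : ⇑u = lfun x7)
    (H : Subgroup (Equiv.Perm GolayPt)) (P : List ℕ → Bool) (hle : H ≤ normM u)
    (hspec : ∀ ν ∈ M24, ∀ m, wf m = true → ⇑ν = lfun m → (ν ∈ H ↔ P m = true))
    (wl : List (List ℕ)) (hwl : ∀ w ∈ wl, w ∈ n7All) (hwP : wl.all P = true) (orb3 : List ℕ)
    (horb3 : ((orb3.map pt).toFinset).card = orb3.length)
    (hw0 : [23, 0, 1].all (fun q => wl.any (fun w => w.getD 23 0 == q)) = true)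
    (hw1 : [0, 1].all (fun q => wl.any (fun w => w.getD 23 0 == 23 && w.getD 0 0 == q)) = true)
    (hw2 : cyc7.all (fun q => wl.any (fun w => w.getD 23 0 == 23 && w.getD 0 0 == 0 &&
      w.getD 2 0 == q)) = true)
    (hw3 : orb3.all (fun q => wl.any (fun w => w.getD 23 0 == 23 && w.getD 0 0 == 0 &&
      w.getD 2 0 == 2 && w.getD 3 0 == q)) = true)
    (chk2 : nreps.all (fun t => T5.all (fun l => !P (lmul t l) ||
      cyc7.contains ((lmul t l).getD 2 0))) = true)
    (chk3 : nreps.all (fun t => T5.all (fun l => !P (lmul t l) || !((lmul t l).getD 2 0 == 2) ||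
      orb3.contains ((lmul t l).getD 3 0))) = true)
    (chk4 : T5.all (fun l => !P l || l == idl) = true) :
    Nat.card H = 3 * (2 * (7 * orb3.length)) := by
  have hHM : H ≤ M24 := fun ν hν => (mem_normM.mp (hle hν)).1
  have ex : ∀ w ∈ wl, ∃ g ∈ H, ⇑g = lfun w := by
    intro w hw
    obtain ⟨ww, g, hg, hgf⟩ := rep_n7All w (hwl w hw)
    exact ⟨g, (hspec g hg w ww hgf).mpr (List.all_eq_true.mp hwP w hw), hgf⟩
  -- fixing 23 and 0 forces fixing 1
  have fix1 : ∀ ν ∈ H, ν (pt 23) = pt 23 → ν (pt 0) = pt 0 → ν (pt 1) = pt 1 := by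
    intro ν hν h23 h0
    have h := normM_fixpts hu (hle hν) (i := 1) (by simp)
    simp only [List.mem_cons, List.not_mem_nil, or_false] at h
    rcases h with h | h | h
    · exfalso
      have : ν (pt 1) = ν (pt 23) := by rw [h23]; exact eq_pt_of_idx h
      exact absurd (ν.injective this) (by decide)
    · exfalso
      have : ν (pt 1) = ν (pt 0) := by rw [h0]; exact eq_pt_of_idx h
      exact absurd (ν.injective this) (by decide)
    · exact eq_pt_of_idx h
  -- level 0
  have L0 : Nat.card H = 3 * Nat.card (fixL H [pt 23]) := by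
    have h := card_fixL_step H [] (pt 23) {pt 23, pt 0, pt 1} (by
      intro q hq
      have hq' : ∃ n ∈ [23, 0, 1], q = pt n := by
        simp only [Finset.mem_insert, Finset.mem_singleton] at hq
        rcases hq with rfl | rfl | rfl
        · exact ⟨23, by simp, rfl⟩
        · exact ⟨0, by simp, rfl⟩
        · exact ⟨1, by simp, rfl⟩
      obtain ⟨n, hn, rfl⟩ := hq'
      have hc := List.all_eq_true.mp hw0 n hn
      rw [List.any_eq_true] at hc
      obtain ⟨w, hw, hwq⟩ := hc
      rw [beq_iff_eq] at hwq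
      obtain ⟨g, hg, hgf⟩ := ex w hw
      refine ⟨g, by rw [fixL_nil]; exact hg, ?_⟩
      rw [hgf, lfun_pt w (by norm_num), hwq]) (by
      intro ν hν
      rw [fixL_nil] at hν
      have h := normM_fixpts hu (hle hν) (i := 23) (by simp)
      simp only [List.mem_cons, List.not_mem_nil, or_false] at h
      simp only [Finset.mem_insert, Finset.mem_singleton]
      rcases h with h | h | h
      · left; exact eq_pt_of_idx h
      · right; left; exact eq_pt_of_idx h
      · right; right; exact eq_pt_of_idx h)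
    rw [fixL_nil] at h
    rw [h]
    have : ({pt 23, pt 0, pt 1} : Finset GolayPt).card = 3 := by decide
    rw [this]
    rfl
  -- level 1
  have L1 : Nat.card (fixL H [pt 23]) = 2 * Nat.card (fixL H [pt 23, pt 0]) := by
    have h := card_fixL_step H [pt 23] (pt 0) {pt 0, pt 1} (by
      intro q hq
      have hq' : ∃ n ∈ [0, 1], q = pt n := by
        simp only [Finset.mem_insert, Finset.mem_singleton] at hq
        rcases hq with rfl | rfl
        · exact ⟨0, by simp, rfl⟩
        · exact ⟨1, by simp, rfl⟩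
      obtain ⟨n, hn, rfl⟩ := hq'
      have hc := List.all_eq_true.mp hw1 n hn
      rw [List.any_eq_true] at hc
      obtain ⟨w, hw, hwq⟩ := hc
      rw [Bool.and_eq_true, beq_iff_eq, beq_iff_eq] at hwq
      obtain ⟨g, hg, hgf⟩ := ex w hw
      refine ⟨g, ?_, ?_⟩
      · rw [mem_fixL]
        refine ⟨hg, ?_⟩
        intro x hx
        rw [List.mem_singleton] at hx
        subst hx
        rw [hgf, lfun_pt w (by norm_num), hwq.1]
      · rw [hgf, lfun_pt w (by norm_num), hwq.2]) (by
      intro ν hν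
      obtain ⟨hνH, hfix⟩ := mem_fixL.mp hν
      have h23 : ν (pt 23) = pt 23 := hfix _ (by simp)
      have h := normM_fixpts hu (hle hνH) (i := 0) (by simp)
      simp only [List.mem_cons, List.not_mem_nil, or_false] at h
      simp only [Finset.mem_insert, Finset.mem_singleton]
      rcases h with h | h | h
      · exfalso
        have : ν (pt 0) = ν (pt 23) := by rw [h23]; exact eq_pt_of_idx h
        exact absurd (ν.injective this) (by decide)
      · left; exact eq_pt_of_idx h
      · right; exact eq_pt_of_idx h)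
    rw [h]
    have : ({pt 0, pt 1} : Finset GolayPt).card = 2 := by decide
    rw [this]
    rfl
  -- the normal form of the elements fixing the three points
  have nf : ∀ ν ∈ H, ν (pt 23) = pt 23 → ν (pt 0) = pt 0 →
      ∃ t ∈ nreps, ∃ l ∈ T5, ⇑ν = lfun (lmul t l) ∧ wf (lmul t l) = true ∧
        P (lmul t l) = true := by
    intro ν hν h23 h0
    obtain ⟨t, ht, l, hl, hlf, hwf⟩ := normM_nf hu (hle hν) h23 h0 (fix1 ν hν h23 h0)
    exact ⟨t, ht, l, hl, hlf, hwf, (hspec ν (hHM hν) _ hwf hlf).mp hν⟩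
  -- level 2
  have L2 : Nat.card (fixL H [pt 23, pt 0]) = 7 * Nat.card (fixL H [pt 23, pt 0, pt 2]) := by
    have h := card_fixL_step H [pt 23, pt 0] (pt 2) (cyc7.map pt).toFinset (by
      intro q hq
      rw [List.mem_toFinset, List.mem_map] at hq
      obtain ⟨n, hn, rfl⟩ := hq
      have hc := List.all_eq_true.mp hw2 n hn
      rw [List.any_eq_true] at hc
      obtain ⟨w, hw, hwq⟩ := hc
      simp only [Bool.and_eq_true, beq_iff_eq] at hwq
      obtain ⟨g, hg, hgf⟩ := ex w hw
      refine ⟨g, ?_, ?_⟩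
      · rw [mem_fixL]
        refine ⟨hg, ?_⟩
        intro x hx
        simp only [List.mem_cons, List.not_mem_nil, or_false] at hx
        rcases hx with rfl | rfl
        · rw [hgf, lfun_pt w (by norm_num), hwq.1.1]
        · rw [hgf, lfun_pt w (by norm_num), hwq.1.2]
      · rw [hgf, lfun_pt w (by norm_num), hwq.2]) (by
      intro ν hν
      obtain ⟨hνH, hfix⟩ := mem_fixL.mp hν
      obtain ⟨t, ht, l, hl, hlf, hwf, hP⟩ := nf ν hνH (hfix _ (by simp)) (hfix _ (by simp))
      have hc := List.all_eq_true.mp (List.all_eq_true.mp chk2 t ht) l hl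
      rw [hP] at hc
      simp only [Bool.not_true, Bool.false_or, List.contains_eq_mem, decide_eq_true_eq] at hc
      rw [List.mem_toFinset, List.mem_map]
      exact ⟨_, hc, by rw [hlf, lfun_pt _ (by norm_num)]⟩)
    rw [h]
    have : ((cyc7.map pt).toFinset).card = 7 := by decide
    rw [this]
    rfl
  -- level 3
  have L3 : Nat.card (fixL H [pt 23, pt 0, pt 2]) =
      orb3.length * Nat.card (fixL H [pt 23, pt 0, pt 2, pt 3]) := by
    have h := card_fixL_step H [pt 23, pt 0, pt 2] (pt 3) (orb3.map pt).toFinset (by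
      intro q hq
      rw [List.mem_toFinset, List.mem_map] at hq
      obtain ⟨n, hn, rfl⟩ := hq
      have hc := List.all_eq_true.mp hw3 n hn
      rw [List.any_eq_true] at hc
      obtain ⟨w, hw, hwq⟩ := hc
      simp only [Bool.and_eq_true, beq_iff_eq] at hwq
      obtain ⟨g, hg, hgf⟩ := ex w hw
      refine ⟨g, ?_, ?_⟩
      · rw [mem_fixL]
        refine ⟨hg, ?_⟩
        intro x hx
        simp only [List.mem_cons, List.not_mem_nil, or_false] at hx
        rcases hx with rfl | rfl | rfl
        · rw [hgf, lfun_pt w (by norm_num), hwq.1.1.1]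
        · rw [hgf, lfun_pt w (by norm_num), hwq.1.1.2]
        · rw [hgf, lfun_pt w (by norm_num), hwq.1.2]
      · rw [hgf, lfun_pt w (by norm_num), hwq.2]) (by
      intro ν hν
      obtain ⟨hνH, hfix⟩ := mem_fixL.mp hν
      obtain ⟨t, ht, l, hl, hlf, hwf, hP⟩ := nf ν hνH (hfix _ (by simp)) (hfix _ (by simp))
      have h2 : (lmul t l).getD 2 0 = 2 := by
        have := hfix (pt 2) (by simp)
        rw [hlf, lfun_pt _ (by norm_num)] at this
        exact pt_injOn (getD_lt hwf (by norm_num)) (by norm_num) this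
      have hc := List.all_eq_true.mp (List.all_eq_true.mp chk3 t ht) l hl
      rw [hP, h2] at hc
      simp only [Bool.not_true, Bool.false_or, beq_self_eq_true, List.contains_eq_mem,
        decide_eq_true_eq] at hc
      rw [List.mem_toFinset, List.mem_map]
      exact ⟨_, hc, by rw [hlf, lfun_pt _ (by norm_num)]⟩)
    rw [h, horb3]
    rfl
  -- level 4
  have L4 : Nat.card (fixL H [pt 23, pt 0, pt 2, pt 3]) = 1 := by
    have hbot : fixL H [pt 23, pt 0, pt 2, pt 3] = ⊥ := by
      rw [eq_bot_iff]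
      intro ν hν
      obtain ⟨hνH, hfix⟩ := mem_fixL.mp hν
      have h23 : ν (pt 23) = pt 23 := hfix _ (by simp)
      have h0 : ν (pt 0) = pt 0 := hfix _ (by simp)
      have h1 := fix1 ν hνH h23 h0
      have h2 : ν (pt 2) = pt 2 := hfix _ (by simp)
      have h3 : ν (pt 3) = pt 3 := hfix _ (by simp)
      have hν5 : ν ∈ fixL M24 (Lk 5) := by
        rw [mem_fixL]
        refine ⟨hHM hνH, ?_⟩
        have hL : Lk 5 = [pt 23, pt 0, pt 1, pt 2, pt 3] := by decide
        intro x hx
        rw [hL] at hx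
        simp only [List.mem_cons, List.not_mem_nil, or_false] at hx
        rcases hx with rfl | rfl | rfl | rfl | rfl <;> assumption
      obtain ⟨l, hl, hlf⟩ := exists_T5_of_fixL hν5
      have hP := (hspec ν (hHM hνH) l (rep_T5 l hl).1 hlf).mp hνH
      have hc := List.all_eq_true.mp chk4 l hl
      rw [hP] at hc
      simp only [Bool.not_true, Bool.false_or, beq_iff_eq] at hc
      rw [Subgroup.mem_bot]
      apply DFunLike.coe_injective
      rw [hlf, hc, lfun_idl]
      rfl
    rw [hbot]
    exact Subgroup.card_bot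
  rw [L0, L1, L2, L3, L4, mul_one]

/-! ### the two instances -/

set_option maxHeartbeats 4000000 in
set_option maxRecDepth 100000 in
theorem chkN : nwitN.all normB = true ∧
    [23, 0, 1].all (fun q => nwitN.any (fun w => w.getD 23 0 == q)) = true ∧
    [0, 1].all (fun q => nwitN.any (fun w => w.getD 23 0 == 23 && w.getD 0 0 == q)) = true ∧
    cyc7.all (fun q => nwitN.any (fun w => w.getD 23 0 == 23 && w.getD 0 0 == 0 &&
      w.getD 2 0 == q)) = true ∧
    [3, 4, 19].all (fun q => nwitN.any (fun w => w.getD 23 0 == 23 && w.getD 0 0 == 0 &&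
      w.getD 2 0 == 2 && w.getD 3 0 == q)) = true := by
  refine ⟨?_, ?_, ?_, ?_, ?_⟩ <;> decide +kernel

set_option maxHeartbeats 4000000 in
set_option maxRecDepth 100000 in
theorem chkN2 : nreps.all (fun t => T5.all (fun l => !normB (lmul t l) ||
      cyc7.contains ((lmul t l).getD 2 0))) = true := by decide +kernel

set_option maxHeartbeats 4000000 in
set_option maxRecDepth 100000 in
theorem chkN3 : nreps.all (fun t => T5.all (fun l => !normB (lmul t l) ||
    !((lmul t l).getD 2 0 == 2) || [3, 4, 19].contains ((lmul t l).getD 3 0))) = true := by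
  decide +kernel

set_option maxHeartbeats 4000000 in
set_option maxRecDepth 100000 in
theorem chkN4 : T5.all (fun l => !normB l || l == idl) = true := by decide +kernel

set_option maxHeartbeats 4000000 in
set_option maxRecDepth 100000 in
theorem chkC : nwitC.all commB7 = true ∧
    [23, 0, 1].all (fun q => nwitC.any (fun w => w.getD 23 0 == q)) = true ∧
    [0, 1].all (fun q => nwitC.any (fun w => w.getD 23 0 == 23 && w.getD 0 0 == q)) = true ∧
    cyc7.all (fun q => nwitC.any (fun w => w.getD 23 0 == 23 && w.getD 0 0 == 0 &&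
      w.getD 2 0 == q)) = true ∧
    [3].all (fun q => nwitC.any (fun w => w.getD 23 0 == 23 && w.getD 0 0 == 0 &&
      w.getD 2 0 == 2 && w.getD 3 0 == q)) = true := by
  refine ⟨?_, ?_, ?_, ?_, ?_⟩ <;> decide +kernel

set_option maxHeartbeats 4000000 in
set_option maxRecDepth 100000 in
theorem chkC2 : nreps.all (fun t => T5.all (fun l => !commB7 (lmul t l) ||
      cyc7.contains ((lmul t l).getD 2 0))) = true := by decide +kernel

set_option maxHeartbeats 4000000 in
set_option maxRecDepth 100000 in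
theorem chkC3 : nreps.all (fun t => T5.all (fun l => !commB7 (lmul t l) ||
    !((lmul t l).getD 2 0 == 2) || [3].contains ((lmul t l).getD 3 0))) = true := by
  decide +kernel

set_option maxHeartbeats 4000000 in
set_option maxRecDepth 100000 in
theorem chkC4 : T5.all (fun l => !commB7 l || l == idl) = true := by decide +kernel

theorem nwitN_sub : ∀ w ∈ nwitN, w ∈ n7All := by
  intro w hw
  simp only [n7All, List.mem_append]
  exact Or.inl (Or.inl (Or.inr hw))

theorem nwitC_sub : ∀ w ∈ nwitC, w ∈ n7All := by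
  intro w hw
  simp only [n7All, List.mem_append]
  exact Or.inl (Or.inr hw)

/-- the normalizer of the reference subgroup of order seven has order 126 -/
theorem card_normM_ref {u : Equiv.Perm GolayPt} (hu : ⇑u = lfun x7) :
    Nat.card (normM u) = 126 := by
  have h := card_chain7 hu (normM u) normB le_rfl
    (fun ν hν m hm hνm => normM_iff_normB hu hm hνm hν) nwitN nwitN_sub chkN.1 [3, 4, 19]
    (by decide) chkN.2.1 chkN.2.2.1 chkN.2.2.2.1 chkN.2.2.2.2 chkN2 chkN3 chkN4
  rw [h]
  rfl

/-- the centralizer of the reference subgroup of order seven has order 42 -/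
theorem card_centM7_ref {u : Equiv.Perm GolayPt} (hu : ⇑u = lfun x7) :
    Nat.card (centM u) = 42 := by
  have h := card_chain7 hu (centM u) commB7 (centM_le_normM hu)
    (fun ν hν m hm hνm => centM_iff_commB7 hu hm hνm hν) nwitC nwitC_sub chkC.1 [3]
    (by decide) chkC.2.1 chkC.2.2.1 chkC.2.2.2.1 chkC.2.2.2.2 chkC2 chkC3 chkC4
  rw [h]
  rfl

end Cfsg.Agent.Lib.Helper6.Golay
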