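import Cfsg.Agent.Lib.Helper6.GolayNorm7
import Cfsg.Agent.Lib.Helper6.GolayTrioList

/-!
# Subgroups of order seven of `M24`: normalizer, centralizer, invariant trio
-/

set_option autoImplicit false

namespace Cfsg.Agent.Lib.Helper6.Golay

open Cfsg
open Cfsg.Agent.Lib.Helper6.PermChain
open scoped Pointwise

/-- the trio left invariant by the normalizer of `⟨x7⟩` -/
def trioN7 : List ℕ := [1454401, 6832158, 8490656]

theorem trioN7_mem : trioN7 ∈ triosR := by decide +kernel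

set_option maxHeartbeats 4000000 in
set_option maxRecDepth 100000 in
theorem trioN7_unique : triosR.all (fun L => !(fixB x7 L) || L == trioN7) = true := by
  decide +kernel

theorem trioN7_fix : fixB x7 trioN7 = true := by decide +kernel

theorem noncomm7 : (lmul (nwitC.getD 1 idl) (nwitC.getD 2 idl) !=
    lmul (nwitC.getD 2 idl) (nwitC.getD 1 idl)) = true := by decide +kernel

section ref

variable {u : Equiv.Perm GolayPt} (hu : ⇑u = lfun x7)

include hu

theorem normM_trio : fss trioN7 ∈ trios ∧ ∀ ν ∈ normM u, ν • fss trioN7 = fss trioN7 := by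
  have hT0 : fss trioN7 ∈ trios := triosR_mem _ trioN7_mem
  have hcan0 := List.all_eq_true.mp triosR_canon _ trioN7_mem
  have hu0 : u • fss trioN7 = fss trioN7 := (smul_fss_eq_iff wf_x7 hu hcan0).mpr trioN7_fix
  refine ⟨hT0, ?_⟩
  intro ν hν
  have hν24 : ν ∈ M24 := (mem_normM.mp hν).1
  have hνT : ν • fss trioN7 ∈ trios := trios_smul ν hν24 _ hT0
  obtain ⟨L, hL, hLeq⟩ := triosR_enum _ hνT
  have hcan := List.all_eq_true.mp triosR_canon L hL
  -- `u` fixes the image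
  have hinv : ν⁻¹ ∈ normM u := (normM u).inv_mem hν
  obtain ⟨-, j, -, hj⟩ := mem_normM.mp hinv
  have hpow : (u ^ j) • fss trioN7 = fss trioN7 := by
    have : u ^ j ∈ MulAction.stabilizer (Equiv.Perm GolayPt) (fss trioN7) :=
      Subgroup.pow_mem _ (MulAction.mem_stabilizer_iff.mpr hu0) j
    exact MulAction.mem_stabilizer_iff.mp this
  have huν : u • (ν • fss trioN7) = ν • fss trioN7 := by
    have h1 : u * ν = ν * u ^ j := by
      have : ν⁻¹ * u * ν = u ^ j := by rw [hj]; group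
      rw [← this]; group
    rw [smul_smul, h1, ← smul_smul, hpow]
  rw [hLeq] at huν
  have hfix := (smul_fss_eq_iff wf_x7 hu hcan).mp huν
  have hchk := List.all_eq_true.mp trioN7_unique L hL
  rw [hfix] at hchk
  simp only [Bool.not_true, Bool.false_or, beq_iff_eq] at hchk
  rw [hLeq, hchk]

theorem centM7_noncomm : ∃ a ∈ centM u, ∃ b ∈ centM u, a * b ≠ b * a := by
  have h1 : nwitC.getD 1 idl ∈ nwitC := by decide
  have h2 : nwitC.getD 2 idl ∈ nwitC := by decide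
  obtain ⟨wa, a, ha, haf⟩ := rep_n7All _ (nwitC_sub _ h1)
  obtain ⟨wb, b, hb, hbf⟩ := rep_n7All _ (nwitC_sub _ h2)
  have hca := (centM_iff_commB7 hu wa haf ha).mpr (List.all_eq_true.mp chkC.1 _ h1)
  have hcb := (centM_iff_commB7 hu wb hbf hb).mpr (List.all_eq_true.mp chkC.1 _ h2)
  refine ⟨a, hca, b, hcb, ?_⟩
  intro hab
  have h3 := noncomm7
  rw [bne_iff_ne] at h3
  apply h3
  apply lfun_injective (wf_lmul wa wb) (wf_lmul wb wa)
  rw [lfun_lmul _ wb, lfun_lmul _ wa, ← haf, ← hbf]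
  funext p
  have := congrArg (fun f : Equiv.Perm GolayPt => f p) hab
  simpa using this

end ref

theorem normM_conj_mem {u k ν : Equiv.Perm GolayPt} (hk : k ∈ M24) (hν : ν ∈ normM u) :
    k * ν * k⁻¹ ∈ normM (k * u * k⁻¹) := by
  obtain ⟨hν24, j, hj, hjν⟩ := mem_normM.mp hν
  rw [mem_normM]
  have hord : orderOf (k * u * k⁻¹) = orderOf u :=
    orderOf_injective (MulAut.conj k).toMonoidHom (MulAut.conj k).injective u
  refine ⟨M24.mul_mem (M24.mul_mem hk hν24) (M24.inv_mem hk), j, by rw [hord]; exact hj, ?_⟩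
  have h1 : k * ν * k⁻¹ * (k * u * k⁻¹) = k * (ν * u) * k⁻¹ := by group
  have h2 : (k * u * k⁻¹) ^ j * (k * ν * k⁻¹) = k * (u ^ j * ν) * k⁻¹ := by
    rw [conj_pow]; group
  rw [h1, h2, hjν]

theorem card_normM_conj {u k : Equiv.Perm GolayPt} (hk : k ∈ M24) :
    Nat.card (normM u) = Nat.card (normM (k * u * k⁻¹)) := by
  apply Nat.card_congr
  refine ⟨fun c => ⟨k * c.1 * k⁻¹, normM_conj_mem hk c.2⟩, fun c => ⟨k⁻¹ * c.1 * k, ?_⟩, ?_, ?_⟩
  · have := normM_conj_mem (M24.inv_mem hk) c.2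
    have e : k⁻¹ * (k * u * k⁻¹) * k⁻¹⁻¹ = u := by group
    rw [e, inv_inv] at this
    exact this
  · intro c; apply Subtype.ext; simp [mul_assoc]
  · intro c; apply Subtype.ext; simp [mul_assoc]

theorem centM_conj_mem {u k c : Equiv.Perm GolayPt} (hk : k ∈ M24) (hc : c ∈ centM u) :
    k * c * k⁻¹ ∈ centM (k * u * k⁻¹) := by
  refine ⟨M24.mul_mem (M24.mul_mem hk hc.1) (M24.inv_mem hk), ?_⟩
  have h1 : k * c * k⁻¹ * (k * u * k⁻¹) = k * (c * u) * k⁻¹ := by group
  have h2 : k * u * k⁻¹ * (k * c * k⁻¹) = k * (u * c) * k⁻¹ := by group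
  rw [h1, h2, hc.2]

theorem card_centM_conj7 {u k : Equiv.Perm GolayPt} (hk : k ∈ M24) :
    Nat.card (centM u) = Nat.card (centM (k * u * k⁻¹)) := by
  apply Nat.card_congr
  refine ⟨fun c => ⟨k * c.1 * k⁻¹, centM_conj_mem hk c.2⟩, fun c => ⟨k⁻¹ * c.1 * k, ?_⟩, ?_, ?_⟩
  · have := centM_conj_mem (M24.inv_mem hk) c.2
    have e : k⁻¹ * (k * u * k⁻¹) * k⁻¹⁻¹ = u := by group
    rw [e, inv_inv] at this
    exact this
  · intro c; apply Subtype.ext; simp [mul_assoc]
  · intro c; apply Subtype.ext; simp [mul_assoc]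

/-- **Elements of order seven conjugate to the reference element.** -/
theorem norm7_main {g : Equiv.Perm GolayPt} (hg : ConjTo g x7) :
    Nat.card (normM g) = 126 ∧ Nat.card (centM g) = 42 ∧
      (∃ a ∈ centM g, ∃ b ∈ centM g, a * b ≠ b * a) ∧
      ∃ T ∈ trios, ∀ ν ∈ normM g, ν • T = T := by
  obtain ⟨k, hk, hk'⟩ := hg
  have hki := M24.inv_mem hk
  have e : k⁻¹ * (k * g * k⁻¹) * k⁻¹⁻¹ = g := by group
  refine ⟨?_, ?_, ?_, ?_⟩
  · rw [card_normM_conj hk, card_normM_ref hk']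
  · rw [card_centM_conj7 hk, card_centM7_ref hk']
  · obtain ⟨a, ha, b, hb, hab⟩ := centM7_noncomm hk'
    have ha' := centM_conj_mem hki ha
    have hb' := centM_conj_mem hki hb
    rw [e] at ha' hb'
    refine ⟨_, ha', _, hb', ?_⟩
    intro h
    apply hab
    have h1 : k⁻¹ * a * k⁻¹⁻¹ * (k⁻¹ * b * k⁻¹⁻¹) = k⁻¹ * (a * b) * k := by group
    have h2 : k⁻¹ * b * k⁻¹⁻¹ * (k⁻¹ * a * k⁻¹⁻¹) = k⁻¹ * (b * a) * k := by group
    rw [h1, h2] at h
    exact mul_left_cancel (mul_right_cancel h)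
  · obtain ⟨hT0, hfix⟩ := normM_trio hk'
    refine ⟨k⁻¹ • fss trioN7, trios_smul _ hki _ hT0, ?_⟩
    intro ν hν
    have := hfix _ (normM_conj_mem hk hν)
    have h3 : ν • k⁻¹ • fss trioN7 = k⁻¹ • (k * ν * k⁻¹) • fss trioN7 := by
      simp only [mul_smul, inv_smul_smul]
    rw [h3, this]

end Cfsg.Agent.Lib.Helper6.Golay
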