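import Cfsg.Agent.Lib.Helper6.GolayNorm7b

/-!
# Subgroups of order seven of `M24`: conjugacy and the passage to the subtype
-/

set_option autoImplicit false

namespace Cfsg.Agent.Lib.Helper6.Golay

open Cfsg
open Cfsg.Agent.Lib.Helper6.PermChain
open scoped Pointwise

theorem factorization_M24_seven : (Nat.card ↥M24).factorization 7 = 1 := by
  have h7 : Nat.Prime 7 := by norm_num
  rw [card_M24, show 244823040 = 7 * 34974720 by norm_num,
    Nat.factorization_mul (by norm_num) (by norm_num), Finsupp.add_apply, h7.factorization_self,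
    Nat.factorization_eq_zero_of_not_dvd (by norm_num)]

/-- two subgroups of order seven of `M24` are conjugate -/
theorem exists_conj_card_seven (S T : Subgroup ↥M24) (hS : Nat.card S = 7) (hT : Nat.card T = 7) :
    ∃ k : ↥M24, MulAut.conj k • S = T := by
  have : Fact (Nat.Prime 7) := ⟨by norm_num⟩
  have hS' : Nat.card S = 7 ^ (Nat.card ↥M24).factorization 7 := by
    rw [factorization_M24_seven, hS, pow_one]
  have hT' : Nat.card T = 7 ^ (Nat.card ↥M24).factorization 7 := by
    rw [factorization_M24_seven, hT, pow_one]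
  obtain ⟨k, hk⟩ := MulAction.exists_smul_eq ↥M24 (Sylow.ofCard S hS') (Sylow.ofCard T hT')
  refine ⟨k, ?_⟩
  have h2 : ((k • Sylow.ofCard S hS' : Sylow 7 ↥M24) : Subgroup ↥M24) =
      ((Sylow.ofCard T hT' : Sylow 7 ↥M24) : Subgroup ↥M24) := by rw [hk]
  rw [Sylow.coe_subgroup_smul] at h2
  exact h2

theorem bridge_norm (x n : ↥M24) :
    n ∈ Subgroup.normalizer (Subgroup.zpowers x : Set ↥M24) ↔
      (n : Equiv.Perm GolayPt) ∈ normM (x : Equiv.Perm GolayPt) := by
  rw [mem_normalizer_zpowers_iff, mem_normM, Subgroup.orderOf_coe]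
  constructor
  · rintro ⟨j, hj, h⟩
    refine ⟨n.2, j, hj, ?_⟩
    have := congrArg (fun y : ↥M24 => (y : Equiv.Perm GolayPt)) h
    simpa using this
  · rintro ⟨-, j, hj, h⟩
    refine ⟨j, hj, ?_⟩
    apply Subtype.ext
    simpa using h

theorem bridge_cent (x c : ↥M24) :
    c ∈ Subgroup.centralizer (Subgroup.zpowers x : Set ↥M24) ↔
      (c : Equiv.Perm GolayPt) ∈ centM (x : Equiv.Perm GolayPt) := by
  rw [Subgroup.mem_centralizer_iff, mem_centM]
  constructor
  · intro h
    refine ⟨c.2, ?_⟩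
    have := h x (Subgroup.mem_zpowers x)
    have h2 := congrArg (fun y : ↥M24 => (y : Equiv.Perm GolayPt)) this
    simpa using h2.symm
  · rintro ⟨-, h⟩ y hy
    rw [SetLike.mem_coe, Subgroup.mem_zpowers_iff] at hy
    obtain ⟨k, rfl⟩ := hy
    have hc : Commute x c := by
      apply Subtype.ext
      simpa using h.symm
    exact (hc.zpow_left k).eq

theorem card_bridge_norm (x : ↥M24) :
    Nat.card ↥(Subgroup.normalizer (Subgroup.zpowers x : Set ↥M24)) =
      Nat.card (normM (x : Equiv.Perm GolayPt)) := by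
  apply Nat.card_congr
  refine ⟨fun n => ⟨n.1.1, (bridge_norm x n.1).mp n.2⟩,
    fun ν => ⟨⟨ν.1, (mem_normM.mp ν.2).1⟩, (bridge_norm x _).mpr ν.2⟩, ?_, ?_⟩
  · intro n; rfl
  · intro ν; rfl

theorem card_bridge_cent (x : ↥M24) :
    Nat.card ↥(Subgroup.centralizer (Subgroup.zpowers x : Set ↥M24)) =
      Nat.card (centM (x : Equiv.Perm GolayPt)) := by
  apply Nat.card_congr
  refine ⟨fun n => ⟨n.1.1, (bridge_cent x n.1).mp n.2⟩,
    fun ν => ⟨⟨ν.1, ν.2.1⟩, (bridge_cent x _).mpr ν.2⟩, ?_, ?_⟩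
  · intro n; rfl
  · intro ν; rfl

/-- a subgroup of order seven is generated by a conjugate of the reference element -/
theorem exists_gen_card_seven (S : Subgroup ↥M24) (hS : Nat.card S = 7) :
    ∃ x : ↥M24, S = Subgroup.zpowers x ∧ ConjTo (x : Equiv.Perm GolayPt) x7 := by
  obtain ⟨w7, u, hu, huf⟩ := rep_n7All x7 (by simp [n7All])
  have hord : orderOf (⟨u, hu⟩ : ↥M24) = 7 := by
    rw [← Subgroup.orderOf_coe]
    exact u7_order huf
  obtain ⟨k, hk⟩ := exists_conj_card_seven S (Subgroup.zpowers ⟨u, hu⟩) hS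
    (by rw [Nat.card_zpowers, hord])
  refine ⟨k⁻¹ * ⟨u, hu⟩ * k, ?_, k, k.2, ?_⟩
  · have hmem : k⁻¹ * ⟨u, hu⟩ * k ∈ S := by
      have h1 : (⟨u, hu⟩ : ↥M24) ∈ MulAut.conj k • S := by
        rw [hk]; exact Subgroup.mem_zpowers _
      rw [Subgroup.mem_pointwise_smul_iff_inv_smul_mem] at h1
      simpa [MulAut.smul_def, MulAut.conj_inv_apply] using h1
    have hord2 : orderOf (k⁻¹ * ⟨u, hu⟩ * k) = 7 := by
      have := orderOf_injective (MulAut.conj k⁻¹).toMonoidHom (MulAut.conj k⁻¹).injective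
        (⟨u, hu⟩ : ↥M24)
      rw [hord] at this
      simpa [MulAut.conj_apply] using this
    symm
    apply Subgroup.eq_of_le_of_card_ge (Subgroup.zpowers_le.mpr hmem)
    rw [Nat.card_zpowers, hord2, hS]
  · have : (k : Equiv.Perm GolayPt) * ((k⁻¹ * ⟨u, hu⟩ * k : ↥M24) : Equiv.Perm GolayPt) *
        (k : Equiv.Perm GolayPt)⁻¹ = u := by
      simp only [Subgroup.coe_mul, Subgroup.coe_inv]
      group
    rw [this]
    exact huf

end Cfsg.Agent.Lib.Helper6.Golay
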