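import Cfsg.Agent.Lib.Helper6.GolayMask

/-!
# Enumerating the `k`-subsets of the 24 points as masks
-/

set_option autoImplicit false

namespace Cfsg.Agent.Lib.Helper6.Golay

open Cfsg

/-- the masks below `2 ^ b` with exactly `k` bits set -/
def gen : ℕ → ℕ → List ℕ
  | 0, 0 => [0]
  | 0, _ + 1 => []
  | b + 1, 0 => (gen b 0).map (fun m => 2 * m)
  | b + 1, k + 1 => (gen b (k + 1)).map (fun m => 2 * m) ++ (gen b k).map (fun m => 2 * m + 1)

theorem mem_gen (b k n : ℕ) : n ∈ gen b k ↔ n < 2 ^ b ∧ pc b n = k := by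
  induction b generalizing k n with
  | zero =>
    cases k with
    | zero => simp [gen, pc]
    | succ k => simp [gen, pc]
  | succ b ih =>
    have hlt : n < 2 ^ (b + 1) ↔ n / 2 < 2 ^ b := by
      rw [pow_succ, Nat.div_lt_iff_lt_mul (by norm_num)]
    have hpar := Nat.mod_two_eq_zero_or_one n
    have hdiv := Nat.div_add_mod n 2
    cases k with
    | zero =>
      simp only [gen, List.mem_map, ih, pc]
      constructor
      · rintro ⟨m, ⟨hm, hpc⟩, rfl⟩
        refine ⟨by rw [pow_succ]; omega, ?_⟩
        rw [Nat.mul_mod_right, Nat.mul_div_cancel_left m (by norm_num), hpc]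
      · rintro ⟨hn, hpc⟩
        refine ⟨n / 2, ⟨hlt.mp hn, by omega⟩, by omega⟩
    | succ k =>
      simp only [gen, List.mem_append, List.mem_map, ih, pc]
      constructor
      · rintro (⟨m, ⟨hm, hpc⟩, rfl⟩ | ⟨m, ⟨hm, hpc⟩, rfl⟩)
        · refine ⟨by rw [pow_succ]; omega, ?_⟩
          rw [Nat.mul_mod_right, Nat.mul_div_cancel_left m (by norm_num), hpc, zero_add]
        · refine ⟨by rw [pow_succ]; omega, ?_⟩
          have h1 : (2 * m + 1) % 2 = 1 := by omega
          have h2 : (2 * m + 1) / 2 = m := by omega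
          rw [h1, h2, hpc, add_comm]
      · rintro ⟨hn, hpc⟩
        rcases hpar with h0 | h1
        · left
          exact ⟨n / 2, ⟨hlt.mp hn, by omega⟩, by omega⟩
        · right
          exact ⟨n / 2, ⟨hlt.mp hn, by omega⟩, by omega⟩

theorem nodup_gen (b k : ℕ) : (gen b k).Nodup := by
  induction b generalizing k with
  | zero => cases k <;> simp [gen]
  | succ b ih =>
    cases k with
    | zero =>
      simp only [gen]
      exact (ih 0).map (fun a c h => by simpa using h)
    | succ k =>
      simp only [gen]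
      rw [List.nodup_append]
      refine ⟨(ih (k + 1)).map (fun a c h => by simpa using h),
        (ih k).map (fun a c h => by simpa using h), ?_⟩
      intro x hx y hy
      rw [List.mem_map] at hx hy
      obtain ⟨m, _, rfl⟩ := hx
      obtain ⟨m', _, rfl⟩ := hy
      omega

/-- counting the `k`-subsets with a property that can be tested on masks -/
theorem ncard_subsets_filter (k : ℕ) (Q : Finset GolayPt → Prop) (P : ℕ → Bool)
    (h : ∀ n, n < 2 ^ 24 → (Q (fs n) ↔ P n = true)) :
    {x : Finset GolayPt | x.card = k ∧ Q x}.ncard = ((gen 24 k).filter (fun n => P n)).length := by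
  have heq : {x : Finset GolayPt | x.card = k ∧ Q x} =
      fs '' (↑((gen 24 k).filter (fun n => P n)).toFinset : Set ℕ) := by
    ext x
    simp only [Set.mem_ofPred_eq, Set.mem_image, Finset.mem_coe, List.mem_toFinset, List.mem_filter,
      mem_gen]
    constructor
    · rintro ⟨hc, hQ⟩
      refine ⟨maskOf x, ⟨⟨maskOf_lt x, ?_⟩, ?_⟩, fs_maskOf x⟩
      · rw [← card_fs, fs_maskOf, hc]
      · rw [← h _ (maskOf_lt x), fs_maskOf]; exact hQ
    · rintro ⟨n, ⟨⟨hn, hpc⟩, hP⟩, rfl⟩
      exact ⟨by rw [card_fs, hpc], (h n hn).mpr hP⟩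
  rw [heq, Set.InjOn.ncard_image, Set.ncard_coe_finset, List.toFinset_card_of_nodup]
  · exact (nodup_gen 24 k).filter _
  · intro a ha b hb hab
    simp only [Finset.mem_coe, List.mem_toFinset, List.mem_filter, mem_gen] at ha hb
    exact fs_injOn ha.1.1 hb.1.1 hab

end Cfsg.Agent.Lib.Helper6.Golay
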