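import Cfsg.Agent.Lib.Helper6.GolayRank
import Cfsg.Agent.Lib.Helper6.GolaySubsets

/-!
# Orbits on arbitrary subsets (masks), certified by Schreier trees with a linear visited list
-/

set_option autoImplicit false

namespace Cfsg.Agent.Lib.Helper6.Golay

open Cfsg
open Cfsg.Agent.Lib.Helper6.PermChain
open scoped Pointwise

def mtStep (E : List (List ℕ)) (reached : List ℕ) (e : ℕ × ℕ) : List ℕ :=
  if reached.contains e.1 then lmask (E.getD e.2 idl) e.1 :: reached else reached

def mtRun (E : List (List ℕ)) (root : ℕ) (cert : List (ℕ × ℕ)) : List ℕ :=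
  cert.foldl (mtStep E) [root]

theorem mtRun_sound {H : Subgroup (Equiv.Perm GolayPt)} {E : List (List ℕ)}
    (hE : ∀ l ∈ E, Rep H l) (root : ℕ) (cert : List (ℕ × ℕ)) :
    ∀ q ∈ mtRun E root cert, CwReach H root q := by
  suffices h : ∀ (cert : List (ℕ × ℕ)) (reached : List ℕ),
      (∀ q ∈ reached, CwReach H root q) →
      ∀ q ∈ cert.foldl (mtStep E) reached, CwReach H root q by
    apply h cert [root]
    intro q hq
    rw [List.mem_singleton] at hq
    subst hq
    exact CwReach.refl H q
  intro cert
  induction cert with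
  | nil => intro reached h; exact h
  | cons e cert ih =>
    intro reached h
    rw [List.foldl_cons]
    apply ih
    intro q hq
    rw [mtStep] at hq
    split_ifs at hq with hc
    · rw [List.mem_cons] at hq
      rcases hq with rfl | hq
      · exact (h _ (by simpa using hc)).step (rep_getD hE _)
      · exact h q hq
    · exact h q hq

/-- all members of the class list are reached -/
def mtCheck (cls : List ℕ) (reached : List ℕ) : Bool := cls.all (fun q => reached.contains q)

theorem cwReach_of_mtCheck {H : Subgroup (Equiv.Perm GolayPt)} {E : List (List ℕ)}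
    (hE : ∀ l ∈ E, Rep H l) (root : ℕ) (cert : List (ℕ × ℕ)) (cls : List ℕ)
    (h : mtCheck cls (mtRun E root cert) = true) (q : ℕ) (hq : q ∈ cls) : CwReach H root q := by
  rw [mtCheck, List.all_eq_true] at h
  apply mtRun_sound hE root cert q
  simpa using h q hq

theorem fs_subset_iff {a b : ℕ} (ha : a < 2 ^ 24) : fs a ⊆ fs b ↔ a &&& b = a := by
  rw [← Finset.inter_eq_left, ← fs_and]
  constructor
  · intro h
    exact fs_injOn (lt_of_le_of_lt Nat.and_le_left ha) ha h
  · intro h; rw [h]

theorem fs_disjoint_iff {a b : ℕ} (ha : a < 2 ^ 24) : Disjoint (fs a) (fs b) ↔ a &&& b = 0 := by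
  rw [Finset.disjoint_iff_inter_eq_empty, ← fs_and, ← fs_zero]
  constructor
  · intro h
    exact fs_injOn (lt_of_le_of_lt Nat.and_le_left ha) (by norm_num) h
  · intro h; rw [h]

end Cfsg.Agent.Lib.Helper6.Golay
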