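import Cfsg.Agent.Lib.Helper6.GolayOctadMax
import Cfsg.Agent.Lib.Helper6.GolayOrbitL

/-!
# The graph of disjoint octads: connectedness and distances
-/

set_option autoImplicit false

namespace Cfsg.Agent.Lib.Helper6.Golay

open Cfsg
open Cfsg.Agent.Lib.Helper6.PermChain
open scoped Pointwise

theorem og_disjoint_smul (g : Equiv.Perm GolayPt) (s t : Finset GolayPt) :
    Disjoint (g • s) (g • t) ↔ Disjoint s t := by
  rw [Finset.disjoint_iff_inter_eq_empty, Finset.disjoint_iff_inter_eq_empty,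
    ← Finset.smul_finset_inter, Finset.smul_finset_eq_empty]

theorem og_disjoint_iff_card (s t : Finset GolayPt) : Disjoint s t ↔ (s ∩ t).card = 0 := by
  rw [Finset.disjoint_iff_inter_eq_empty, Finset.card_eq_zero]

set_option maxHeartbeats 4000000 in
theorem og_ref : (inCode 5279 && (pc 24 5279 == 8) && (pc 24 (octad0 &&& 5279) == 4) &&
    inCode 4038912 && (pc 24 4038912 == 8) && (octad0 &&& 4038912 == 0) && (5279 &&& 4038912 == 0) &&
    inCode 15777 && (pc 24 15777 == 8) && (pc 24 (octad0 &&& 15777) == 2) &&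
    inCode 337856 && (pc 24 337856 == 8) && inCode 12222476 && (pc 24 12222476 == 8) &&
    (octad0 &&& 337856 == 0) && (337856 &&& 12222476 == 0) && (12222476 &&& 15777 == 0)) = true := by
  decide +kernel

set_option maxHeartbeats 4000000 in
theorem og_none2 : allBelow (fun m => !((pc 24 (combo m) == 8) && (octad0 &&& combo m == 0) &&
    (15777 &&& combo m == 0))) 4096 = true := by decide +kernel

/-- transitivity on ordered pairs of octads with a given intersection size -/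
theorem og_pair_trans {o o' r : Finset GolayPt} (ho : o ∈ octads) (ho' : o' ∈ octads) (hr : r ∈ octads)
    (h : (fs octad0 ∩ r).card = (o ∩ o').card) : ∃ g ∈ M24, g • fs octad0 = o ∧ g • r = o' := by
  obtain ⟨t, ht, rfl⟩ := exists_M24_octad octad0_mem ho
  have hr' : t • r ∈ octads := smul_mem_octads ht hr
  have h1 : (t • fs octad0 ∩ t • r).card = (t • fs octad0 ∩ o').card := by
    rw [smul_inter_card]; exact h
  obtain ⟨g, hg, hgo, hgr⟩ := exists_stab_octad_map ho hr' ho' h1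
  refine ⟨g * t, M24.mul_mem hg ht, ?_, ?_⟩
  · rw [mul_smul, hgo]
  · rw [mul_smul, hgr]

/-- octads meeting in four points have a common disjoint octad -/
theorem og_common4 {o o' : Finset GolayPt} (ho : o ∈ octads) (ho' : o' ∈ octads)
    (h : (o ∩ o').card = 4) : ∃ o'' ∈ octads, Disjoint o o'' ∧ Disjoint o' o'' := by
  have hd := og_ref
  simp only [Bool.and_eq_true, beq_iff_eq] at hd
  obtain ⟨⟨⟨⟨⟨⟨⟨⟨⟨⟨⟨⟨⟨⟨⟨⟨a1, a2⟩, a3⟩, a4⟩, a5⟩, a6⟩, a7⟩, b1⟩, b2⟩, b3⟩, c1⟩, c2⟩, c3⟩, c4⟩, c5⟩, c6⟩, c7⟩ := hd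
  have hr : fs 5279 ∈ octads := fs_mem_octads a1 a2
  have hk : (fs octad0 ∩ fs 5279).card = (o ∩ o').card := by
    rw [← fs_and, card_fs, a3, h]
  obtain ⟨g, hg, rfl, rfl⟩ := og_pair_trans ho ho' hr hk
  refine ⟨g • fs 4038912, smul_mem_octads hg (fs_mem_octads a4 a5), ?_, ?_⟩
  · rw [og_disjoint_smul, fs_disjoint_iff (by decide)]; exact a6
  · rw [og_disjoint_smul, fs_disjoint_iff (by decide)]; exact a7

/-- octads meeting in two points are joined by a path of length three, and have no common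
disjoint octad -/
theorem og_path2 {o o' : Finset GolayPt} (ho : o ∈ octads) (ho' : o' ∈ octads)
    (h : (o ∩ o').card = 2) :
    (∃ a ∈ octads, ∃ b ∈ octads, Disjoint o a ∧ Disjoint a b ∧ Disjoint b o') ∧
    ∀ o'' ∈ octads, ¬(Disjoint o o'' ∧ Disjoint o' o'') := by
  have hd := og_ref
  simp only [Bool.and_eq_true, beq_iff_eq] at hd
  obtain ⟨⟨⟨⟨⟨⟨⟨⟨⟨⟨⟨⟨⟨⟨⟨⟨a1, a2⟩, a3⟩, a4⟩, a5⟩, a6⟩, a7⟩, b1⟩, b2⟩, b3⟩, c1⟩, c2⟩, c3⟩, c4⟩, c5⟩, c6⟩, c7⟩ := hd
  have hr : fs 15777 ∈ octads := fs_mem_octads b1 b2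
  have hk : (fs octad0 ∩ fs 15777).card = (o ∩ o').card := by
    rw [← fs_and, card_fs, b3, h]
  obtain ⟨g, hg, rfl, rfl⟩ := og_pair_trans ho ho' hr hk
  constructor
  · refine ⟨g • fs 337856, smul_mem_octads hg (fs_mem_octads c1 c2), g • fs 12222476,
      smul_mem_octads hg (fs_mem_octads c3 c4), ?_, ?_, ?_⟩
    · rw [og_disjoint_smul, fs_disjoint_iff (by decide)]; exact c5
    · rw [og_disjoint_smul, fs_disjoint_iff (by decide)]; exact c6
    · rw [og_disjoint_smul, fs_disjoint_iff (by decide)]; exact c7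
  · rintro o'' ho'' ⟨d1, d2⟩
    have h1 : g⁻¹ • o'' ∈ octads := smul_mem_octads (M24.inv_mem hg) ho''
    obtain ⟨n, hn, h8, hfs⟩ := (mem_octads_iff _).mp h1
    have e : o'' = g • fs n := by rw [← hfs, smul_inv_smul]
    rw [e, og_disjoint_smul, fs_disjoint_iff (by decide)] at d1 d2
    obtain ⟨m, hm, rfl⟩ := (inCode_iff n).mp hn
    have := allBelow_spec _ _ og_none2 m hm
    rw [h8, d1, d2] at this
    simp at this

theorem og_adj_iff (u v : ↥octads) :
    (blockGraph octads).Adj u v ↔ u ≠ v ∧ Disjoint (u : Finset GolayPt) (v : Finset GolayPt) := by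
  rw [blockGraph, SimpleGraph.fromRel_adj]
  constructor
  · rintro ⟨h, h1 | h1⟩
    · exact ⟨h, h1⟩
    · exact ⟨h, h1.symm⟩
  · rintro ⟨h, h1⟩
    exact ⟨h, Or.inl h1⟩

theorem og_ne_of_disjoint {a b : ↥octads} (h : Disjoint (a : Finset GolayPt) (b : Finset GolayPt)) :
    a ≠ b := by
  intro hab
  rw [hab, disjoint_self, Finset.bot_eq_empty] at h
  have := b.2.2
  rw [h] at this
  simp at this

theorem og_adj_of_disjoint {a b : ↥octads} (h : Disjoint (a : Finset GolayPt) (b : Finset GolayPt)) :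
    (blockGraph octads).Adj a b := (og_adj_iff a b).mpr ⟨og_ne_of_disjoint h, h⟩

/-- the three distances -/
theorem og_dist (o o' : Finset GolayPt) (ho : o ∈ octads) (ho' : o' ∈ octads) (hne : o ≠ o') :
    (blockGraph octads).Reachable ⟨o, ho⟩ ⟨o', ho'⟩ ∧
    (((o ∩ o').card = 0 ∧ (blockGraph octads).dist ⟨o, ho⟩ ⟨o', ho'⟩ = 1) ∨
     ((o ∩ o').card = 4 ∧ (blockGraph octads).dist ⟨o, ho⟩ ⟨o', ho'⟩ = 2) ∨
     ((o ∩ o').card = 2 ∧ (blockGraph octads).dist ⟨o, ho⟩ ⟨o', ho'⟩ = 3)) := by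
  set G := blockGraph octads with hG
  set u : ↥octads := ⟨o, ho⟩ with hu
  set v : ↥octads := ⟨o', ho'⟩ with hv
  have huv : u ≠ v := fun h => hne (congrArg Subtype.val h)
  rcases octad_inter_cases ho ho' with h | h | h | h
  · -- disjoint
    have hadj : G.Adj u v := og_adj_of_disjoint ((og_disjoint_iff_card o o').mpr h)
    exact ⟨hadj.reachable, Or.inl ⟨h, SimpleGraph.dist_eq_one_iff_adj.mpr hadj⟩⟩
  · -- two common points
    obtain ⟨⟨a, ha, b, hb, d1, d2, d3⟩, hnone⟩ := og_path2 ho ho' h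
    have hnadj : ¬G.Adj u v := by
      intro hadj
      have := ((og_adj_iff u v).mp hadj).2
      rw [og_disjoint_iff_card] at this
      have e : (o ∩ o').card = 0 := this
      omega
    have e1 : G.Adj u ⟨a, ha⟩ := og_adj_of_disjoint d1
    have e2 : G.Adj ⟨a, ha⟩ ⟨b, hb⟩ := og_adj_of_disjoint d2
    have e3 : G.Adj ⟨b, hb⟩ v := og_adj_of_disjoint d3
    let p : G.Walk u v := SimpleGraph.Walk.cons e1 (SimpleGraph.Walk.cons e2 (SimpleGraph.Walk.cons e3 SimpleGraph.Walk.nil))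
    have hreach : G.Reachable u v := ⟨p⟩
    have hle : G.dist u v ≤ 3 := SimpleGraph.dist_le p
    have hcn : G.commonNeighbors u v = ∅ := by
      rw [Set.eq_empty_iff_forall_notMem]
      intro w hw
      rw [SimpleGraph.mem_commonNeighbors] at hw
      exact hnone w.1 w.2 ⟨((og_adj_iff u w).mp hw.1).2, ((og_adj_iff v w).mp hw.2).2⟩
    have hlt : (2 : ℕ∞) < G.edist u v := SimpleGraph.two_lt_edist_iff.mpr ⟨huv, hnadj, hcn⟩
    rw [← hreach.coe_dist_eq_edist] at hlt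
    have hlt' : 2 < G.dist u v := by exact_mod_cast hlt
    exact ⟨hreach, Or.inr (Or.inr ⟨h, by omega⟩)⟩
  · -- four common points
    obtain ⟨w, hw, d1, d2⟩ := og_common4 ho ho' h
    have hnadj : ¬G.Adj u v := by
      intro hadj
      have := ((og_adj_iff u v).mp hadj).2
      rw [og_disjoint_iff_card] at this
      have e : (o ∩ o').card = 0 := this
      omega
    have e1 : G.Adj u ⟨w, hw⟩ := og_adj_of_disjoint d1
    have e2 : G.Adj v ⟨w, hw⟩ := og_adj_of_disjoint d2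
    have hreach : G.Reachable u v := (e1.reachable).trans (e2.symm.reachable)
    have hed : G.edist u v = 2 := SimpleGraph.edist_eq_two_iff.mpr
      ⟨huv, hnadj, ⟨⟨w, hw⟩, (SimpleGraph.mem_commonNeighbors G).mpr ⟨e1, e2⟩⟩⟩
    rw [← hreach.coe_dist_eq_edist] at hed
    have hd : G.dist u v = 2 := by exact_mod_cast hed
    exact ⟨hreach, Or.inr (Or.inl ⟨h, hd⟩)⟩
  · exfalso
    apply hne
    have e1 : o ∩ o' = o := Finset.eq_of_subset_of_card_le Finset.inter_subset_left (by rw [h, ho.2])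
    have e2 : o ∩ o' = o' := Finset.eq_of_subset_of_card_le Finset.inter_subset_right (by rw [h, ho'.2])
    rw [← e1, e2]

/-- **S5609** -/
theorem octad_graph (o o' : Finset GolayPt) (ho : o ∈ octads) (ho' : o' ∈ octads) (hne : o ≠ o') :
    (blockGraph octads).Connected ∧
    ((blockGraph octads).dist ⟨o, ho⟩ ⟨o', ho'⟩ = 1 ↔ (o ∩ o').card = 0) ∧
    ((blockGraph octads).dist ⟨o, ho⟩ ⟨o', ho'⟩ = 2 ↔ (o ∩ o').card = 4) ∧
    ((blockGraph octads).dist ⟨o, ho⟩ ⟨o', ho'⟩ = 3 ↔ (o ∩ o').card = 2) := by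
  refine ⟨?_, ?_⟩
  · rw [SimpleGraph.connected_iff]
    refine ⟨?_, ⟨⟨o, ho⟩⟩⟩
    intro u v
    by_cases huv : u = v
    · rw [huv]
    · have hne' : u.1 ≠ v.1 := fun h => huv (Subtype.ext h)
      exact (og_dist u.1 v.1 u.2 v.2 hne').1
  · obtain ⟨-, h⟩ := og_dist o o' ho ho' hne
    rcases h with ⟨h1, h2⟩ | ⟨h1, h2⟩ | ⟨h1, h2⟩
    · rw [h1, h2]; simp
    · rw [h1, h2]; simp
    · rw [h1, h2]; simp

end Cfsg.Agent.Lib.Helper6.Golay
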