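import Cfsg.Agent.Lib.Helper6.GolayOctadOrbits2
import Cfsg.Agent.Lib.Helper6.GolayRankGlue
import Cfsg.Agent.Lib.Helper6.Overgroup

/-!
# The stabilizer of an octad is a maximal subgroup of `M24`
-/

set_option autoImplicit false

namespace Cfsg.Agent.Lib.Helper6.Golay

open Cfsg
open Cfsg.Agent.Lib.Helper6.PermChain
open Cfsg.Agent.Lib.Helper6.Overgroup
open scoped Pointwise

set_option maxHeartbeats 4000000 in
theorem cntOct0 : countBelow (fun m => pc 24 (combo m) == 8 && (sig [octad0] (combo m) == [0])) 4096 = 30 := by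
  decide +kernel

set_option maxHeartbeats 4000000 in
theorem cntOct2 : countBelow (fun m => pc 24 (combo m) == 8 && (sig [octad0] (combo m) == [2])) 4096 = 448 := by
  decide +kernel

set_option maxHeartbeats 4000000 in
theorem cntOct4 : countBelow (fun m => pc 24 (combo m) == 8 && (sig [octad0] (combo m) == [4])) 4096 = 280 := by
  decide +kernel

/-- the number of octads meeting a given octad in `k` points, as a computation -/
theorem ncard_octad_inter_octad {o : Finset GolayPt} (ho : o ∈ octads) (k : ℕ) :
    {x : Finset GolayPt | x ∈ octads ∧ (o ∩ x).card = k}.ncard =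
      countBelow (fun m => pc 24 (combo m) == 8 && (sig [octad0] (combo m) == [k])) 4096 := by
  obtain ⟨t, ht, rfl⟩ := exists_M24_octad octad0_mem ho
  rw [← rank_count [octad0] 8 [k] ht]
  congr 1
  ext b
  simp only [Set.mem_ofPred_eq, sigF, List.map_cons, List.map_nil, List.cons.injEq, and_true,
    Finset.inter_comm b]
  rfl

theorem orbit_M24_octad {o : Finset GolayPt} (ho : o ∈ octads) : MulAction.orbit M24 o = octads := by
  ext x
  constructor
  · rintro ⟨g, rfl⟩
    exact smul_mem_octads g.2 ho
  · intro hx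
    obtain ⟨g, hg, rfl⟩ := exists_M24_octad ho hx
    exact ⟨⟨g, hg⟩, rfl⟩

theorem index_stabilizer_octad {o : Finset GolayPt} (ho : o ∈ octads) :
    (MulAction.stabilizer M24 o).index = 759 := by
  rw [MulAction.index_stabilizer, orbit_M24_octad ho, ncard_octads]

/-- **The stabilizer of an octad is maximal in `M24`.** -/
theorem isCoatom_stabilizer_octad {o : Finset GolayPt} (ho : o ∈ octads) :
    IsCoatom (MulAction.stabilizer M24 o) := by
  have htrans : ∀ k : ℕ, ∀ a ∈ {x : Finset GolayPt | x ∈ octads ∧ (o ∩ x).card = k},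
      ∀ b ∈ {x : Finset GolayPt | x ∈ octads ∧ (o ∩ x).card = k},
      ∃ h ∈ MulAction.stabilizer M24 o, h • a = b := by
    intro k a ha b hb
    obtain ⟨g, hg, hgo, hgab⟩ := exists_stab_octad_map ho ha.1 hb.1 (ha.2.trans hb.2.symm)
    exact ⟨⟨g, hg⟩, MulAction.mem_stabilizer_iff.mpr hgo, hgab⟩
  have hself : (o ∩ o).card = 8 := by rw [Finset.inter_self, ho.2]
  apply isCoatom_of_three_classes o
    {x | x ∈ octads ∧ (o ∩ x).card = 0} {x | x ∈ octads ∧ (o ∩ x).card = 2}
    {x | x ∈ octads ∧ (o ∩ x).card = 4}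
  · rw [orbit_M24_octad ho]
    intro x hx
    simp only [Set.mem_union, Set.mem_singleton_iff, Set.mem_ofPred_eq]
    rcases octad_inter_cases ho hx with h | h | h | h
    · exact Or.inl (Or.inl (Or.inr ⟨hx, h⟩))
    · exact Or.inl (Or.inr ⟨hx, h⟩)
    · exact Or.inr ⟨hx, h⟩
    · refine Or.inl (Or.inl (Or.inl ?_))
      exact (eq_of_full_inter ho.2 ho.2 hx.2 hself h).symm
  · intro h; have := h.2; omega
  · intro h; have := h.2; omega
  · intro h; have := h.2; omega
  · rw [Set.disjoint_left]; intro x h1 h2; have := h1.2; have := h2.2; omega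
  · rw [Set.disjoint_left]; intro x h1 h2; have := h1.2; have := h2.2; omega
  · rw [Set.disjoint_left]; intro x h1 h2; have := h1.2; have := h2.2; omega
  · exact htrans 0
  · exact htrans 2
  · exact htrans 4
  · rw [ncard_octad_inter_octad ho 0, ncard_octad_inter_octad ho 2, ncard_octad_inter_octad ho 4,
      cntOct0, cntOct2, cntOct4, index_stabilizer_octad ho]
    intro e1 e2 e3 m hm
    cases e1 <;> cases e2 <;> cases e3 <;> simp at hm ⊢ <;> omega
  · intro h
    have := index_stabilizer_octad ho
    rw [h, Subgroup.index_top] at this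
    omega

end Cfsg.Agent.Lib.Helper6.Golay
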