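import Cfsg.Agent.Lib.Helper6.GolayHexadStab

/-!
# The joint stabilizer of two octads meeting in two points is the symmetric group of degree 6
-/

set_option autoImplicit false

namespace Cfsg.Agent.Lib.Helper6.Golay

open Cfsg
open scoped Pointwise

theorem smul_symmDiff_op2 (σ : Equiv.Perm GolayPt) (s t : Finset GolayPt) :
    σ • symmDiff s t = symmDiff (σ • s) (σ • t) := by
  rw [Finset.symmDiff_def, Finset.symmDiff_def, Finset.smul_finset_union,
    Finset.smul_finset_sdiff, Finset.smul_finset_sdiff]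

section
variable {o o' : Finset GolayPt} (ho : o ∈ octads) (ho' : o' ∈ octads) (h₂ : (o ∩ o').card = 2)
include ho ho' h₂

theorem symmDiff_mem_dodecads : symmDiff o o' ∈ dodecads := by
  obtain ⟨⟨v, hv, rfl⟩, hvc⟩ := ho
  obtain ⟨⟨w, hw, rfl⟩, hwc⟩ := ho'
  refine ⟨⟨v + w, golayCode.add_mem hv hw, support₂_add v w⟩, ?_⟩
  have := card_symmDiff_add (support₂ v) (support₂ w)
  omega

theorem inter_symmDiff_eq : o ∩ symmDiff o o' = o \ o' := by
  ext x
  simp only [Finset.mem_inter, Finset.mem_symmDiff, Finset.mem_sdiff]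
  tauto

theorem sdiff_mem_hexadsOn : o \ o' ∈ hexadsOn (symmDiff o o') := by
  refine ⟨?_, o, ho, inter_symmDiff_eq ho ho' h₂⟩
  have := Finset.card_sdiff_add_card_inter o o'
  rw [ho.2] at this
  omega

theorem stab_pair_eq :
    MulAction.stabilizer M24 o ⊓ MulAction.stabilizer M24 o' =
      MulAction.stabilizer M24 (symmDiff o o') ⊓ MulAction.stabilizer M24 (o \ o') := by
  ext g
  simp only [Subgroup.mem_inf, MulAction.mem_stabilizer_iff]
  constructor
  · rintro ⟨h1, h2⟩
    have h1' : g.1 • o = o := h1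
    have h2' : g.1 • o' = o' := h2
    constructor
    · show g.1 • symmDiff o o' = symmDiff o o'
      rw [smul_symmDiff_op2, h1', h2']
    · show g.1 • (o \ o') = o \ o'
      rw [Finset.smul_finset_sdiff, h1', h2']
  · rintro ⟨h1, h2⟩
    have h1' : g.1 • symmDiff o o' = symmDiff o o' := h1
    have h2' : g.1 • (o \ o') = o \ o' := h2
    have h6 : (o \ o').card = 6 := (sdiff_mem_hexadsOn ho ho' h₂).1
    have hgo : g.1 • o = o := by
      obtain ⟨s, hs, hsc⟩ := Finset.exists_subset_card_eq (show 5 ≤ (o \ o').card by omega)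
      apply octad_unique (smul_mem_octads g.2 ho) ho hsc
      · intro p hp
        have := hs hp
        rw [← h2'] at this
        exact Finset.smul_finset_subset_smul_finset Finset.sdiff_subset this
      · exact fun p hp => Finset.sdiff_subset (hs hp)
    refine ⟨hgo, ?_⟩
    show g.1 • o' = o'
    have e : o' = symmDiff o (symmDiff o o') := by
      rw [← symmDiff_assoc, symmDiff_self, bot_symmDiff]
    rw [e, smul_symmDiff_op2, hgo, h1']

theorem octad_pair_two_equiv :
    Nonempty (↥(MulAction.stabilizer M24 o ⊓ MulAction.stabilizer M24 o') ≃* Equiv.Perm (Fin 6)) := by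
  obtain ⟨e⟩ := hexad_stab_equiv (symmDiff_mem_dodecads ho ho' h₂) (sdiff_mem_hexadsOn ho ho' h₂)
  exact ⟨(MulEquiv.subgroupCongr (stab_pair_eq ho ho' h₂)).trans e⟩

end

end Cfsg.Agent.Lib.Helper6.Golay
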