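import Cfsg.Agent.Lib.Helper6.GolayMixedFinal
import Cfsg.Agent.Lib.Helper6.GolayOctadA8
import Mathlib.GroupTheory.SpecificGroups.Alternating.Simple
import Mathlib.GroupTheory.PGroup

/-!
# The fifteen trios through an octad
-/

set_option autoImplicit false

namespace Cfsg.Agent.Lib.Helper6.Golay

open Cfsg
open Cfsg.Agent.Lib.Helper6.PermChain
open scoped Pointwise

/-- the trios containing a given octad -/
def triosAt (o : Finset GolayPt) : Set (Finset (Finset GolayPt)) := {T | T ∈ trios ∧ o ∈ T}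

theorem triosAt_exists {o : Finset GolayPt} {T : Finset (Finset GolayPt)} (hT : T ∈ triosAt o) :
    ∃ o' ∈ octads, Disjoint o o' ∧ o' ∈ T ∧ o' ≠ o ∧ T = trioOf (o, o') := by
  obtain ⟨hT, hoT⟩ := hT
  have h3 : 1 < T.card := by rw [hT.1]; norm_num
  obtain ⟨o', ho', hne⟩ := Finset.exists_mem_ne h3 o
  exact ⟨o', hT.2.1 o' ho', hT.2.2 o hoT o' ho' (Ne.symm hne), ho', hne,
    (trioOf_eq hT hoT ho' (Ne.symm hne)).symm⟩

theorem trioOf_mem_triosAt {o o' : Finset GolayPt} (ho : o ∈ octads) (ho' : o' ∈ octads)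
    (hd : Disjoint o o') : trioOf (o, o') ∈ triosAt o :=
  ⟨trioOf_mem ho ho' hd, by simp [trioOf]⟩

theorem smul_mem_triosAt {o : Finset GolayPt} {g : Equiv.Perm GolayPt} (hg : g ∈ M24)
    (hgo : g • o = o) {T : Finset (Finset GolayPt)} (hT : T ∈ triosAt o) : g • T ∈ triosAt o := by
  refine ⟨smul_mem_trios hg hT.1, ?_⟩
  rw [← hgo]
  exact Finset.smul_mem_smul_finset hT.2

/-- the stabilizer of an octad is transitive on the trios through it -/
theorem triosAt_trans {o : Finset GolayPt} (ho : o ∈ octads) {T T' : Finset (Finset GolayPt)}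
    (hT : T ∈ triosAt o) (hT' : T' ∈ triosAt o) : ∃ g ∈ M24, g • o = o ∧ g • T = T' := by
  obtain ⟨a, ha, hda, -, -, rfl⟩ := triosAt_exists hT
  obtain ⟨a', ha', hda', -, -, rfl⟩ := triosAt_exists hT'
  have h0 : (o ∩ a).card = (o ∩ a').card := by
    rw [Finset.disjoint_iff_inter_eq_empty.mp hda, Finset.disjoint_iff_inter_eq_empty.mp hda']
  obtain ⟨g, hg, hgo, hga⟩ := exists_stab_octad_map ho ha ha' h0
  refine ⟨g, hg, hgo, ?_⟩
  rw [smul_trioOf, hgo, hga]

/-- the octads disjoint from a given octad -/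
theorem ncard_disjoint_octads {o : Finset GolayPt} (ho : o ∈ octads) :
    {x : Finset GolayPt | x ∈ octads ∧ (o ∩ x).card = 0}.ncard = 30 := by
  rw [ncard_octad_inter_octad ho 0, cntOct0]

theorem exists_disjoint_octad {o : Finset GolayPt} (ho : o ∈ octads) :
    ∃ a ∈ octads, Disjoint o a := by
  have h := ncard_disjoint_octads ho
  have hne : {x : Finset GolayPt | x ∈ octads ∧ (o ∩ x).card = 0}.Nonempty := by
    rw [← Set.ncard_pos]; omega
  obtain ⟨a, ha, ha0⟩ := hne
  exact ⟨a, ha, Finset.disjoint_iff_inter_eq_empty.mpr (Finset.card_eq_zero.mp ha0)⟩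

theorem ncard_triosAt_le {o : Finset GolayPt} (ho : o ∈ octads) : (triosAt o).ncard ≤ 30 := by
  rw [← ncard_disjoint_octads ho]
  have hsub : triosAt o ⊆ (fun a => trioOf (o, a)) '' {x : Finset GolayPt | x ∈ octads ∧ (o ∩ x).card = 0} := by
    intro T hT
    obtain ⟨a, ha, hda, -, -, rfl⟩ := triosAt_exists hT
    exact ⟨a, ⟨ha, by rw [Finset.disjoint_iff_inter_eq_empty.mp hda]; rfl⟩, rfl⟩
  exact (Set.ncard_le_ncard hsub (Set.toFinite _)).trans (Set.ncard_image_le (Set.toFinite _))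

theorem triosAt_eq_orbit {o : Finset GolayPt} (ho : o ∈ octads) {T : Finset (Finset GolayPt)}
    (hT : T ∈ triosAt o) : triosAt o = MulAction.orbit ↥(MulAction.stabilizer M24 o) T := by
  ext T'
  constructor
  · intro hT'
    obtain ⟨g, hg, hgo, hgT⟩ := triosAt_trans ho hT hT'
    exact ⟨⟨⟨g, hg⟩, MulAction.mem_stabilizer_iff.mpr hgo⟩, hgT⟩
  · rintro ⟨g, rfl⟩
    exact smul_mem_triosAt g.1.2 (MulAction.mem_stabilizer_iff.mp g.2) hT

/-- **an octad lies in exactly fifteen trios** -/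
theorem ncard_triosAt {o : Finset GolayPt} (ho : o ∈ octads) : (triosAt o).ncard = 15 := by
  obtain ⟨a, ha, hda⟩ := exists_disjoint_octad ho
  have hT0 : trioOf (o, a) ∈ triosAt o := trioOf_mem_triosAt ho ha hda
  have hle := ncard_triosAt_le ho
  rw [triosAt_eq_orbit ho hT0] at hle ⊢
  obtain ⟨⟨X₁, -, X₂, -, X₃, -, h1, h2, h3, hU⟩, -⟩ := octad_stab_orbits o ho
  have hmem : trioOf (o, a) ∈ trios := hT0.1
  rw [hU] at hmem
  rcases hmem with (hm | hm) | hm
  · rw [MulAction.orbit_eq_iff.mpr hm]; exact h1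
  · rw [MulAction.orbit_eq_iff.mpr hm] at hle; omega
  · rw [MulAction.orbit_eq_iff.mpr hm] at hle; omega

/-- an octad disjoint from two members of a trio is the third -/
theorem mem_trio_of_disjoint_two {T : Finset (Finset GolayPt)} (hT : T ∈ trios) {o m c : Finset GolayPt}
    (ho : o ∈ T) (hm : m ∈ T) (hne : o ≠ m) (hc : c ∈ octads) (hco : Disjoint o c) (hcm : Disjoint m c) :
    c ∈ T := by
  have hoo := hT.2.1 o ho
  have hmo := hT.2.1 m hm
  have hd : Disjoint o m := hT.2.2 o ho m hm hne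
  have hsub : c ⊆ (o ∪ m)ᶜ := by
    intro p hp
    rw [Finset.mem_compl, Finset.mem_union]
    rintro (h | h)
    · exact (Finset.disjoint_left.mp hco) h hp
    · exact (Finset.disjoint_left.mp hcm) h hp
  have hceq : c = (o ∪ m)ᶜ :=
    Finset.eq_of_subset_of_card_le hsub (by rw [(compl_union_mem_octads hoo hmo hd).2, hc.2])
  rw [← trioOf_eq hT ho hm hne, hceq]
  simp [trioOf]

/-- the octads outside a trio that are disjoint from one of its members -/
def trioNbrs (T : Finset (Finset GolayPt)) : Set (Finset GolayPt) :=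
  {c | c ∈ octads ∧ c ∉ T ∧ ∃ m ∈ T, Disjoint m c}

theorem smul_mem_trioNbrs {T : Finset (Finset GolayPt)} {g : Equiv.Perm GolayPt} (hg : g ∈ M24)
    (hgT : g • T = T) {c : Finset GolayPt} (hc : c ∈ trioNbrs T) : g • c ∈ trioNbrs T := by
  obtain ⟨hco, hcT, m, hm, hmc⟩ := hc
  refine ⟨smul_mem_octads hg hco, ?_, g • m, ?_, ?_⟩
  · intro h
    rw [← hgT] at h
    exact hcT (Finset.smul_mem_smul_finset_iff g |>.mp h)
  · rw [← hgT]; exact Finset.smul_mem_smul_finset hm
  · rw [disjoint_smul_iff]; exact hmc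

theorem ncard_trioNbrs_le {T : Finset (Finset GolayPt)} (hT : T ∈ trios) : (trioNbrs T).ncard ≤ 90 := by
  obtain ⟨o, a, b, -, -, -, rfl⟩ := Finset.card_eq_three.mp hT.1
  have ho : o ∈ octads := hT.2.1 o (by simp)
  have ha : a ∈ octads := hT.2.1 a (by simp)
  have hb : b ∈ octads := hT.2.1 b (by simp)
  have hsub : trioNbrs {o, a, b} ⊆ ({x : Finset GolayPt | x ∈ octads ∧ (o ∩ x).card = 0} ∪
      {x : Finset GolayPt | x ∈ octads ∧ (a ∩ x).card = 0}) ∪
      {x : Finset GolayPt | x ∈ octads ∧ (b ∩ x).card = 0} := by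
    rintro c ⟨hco, -, m, hm, hmc⟩
    have h0 : (m ∩ c).card = 0 := by rw [Finset.disjoint_iff_inter_eq_empty.mp hmc]; rfl
    simp only [Finset.mem_insert, Finset.mem_singleton] at hm
    rcases hm with rfl | rfl | rfl
    · exact Or.inl (Or.inl ⟨hco, h0⟩)
    · exact Or.inl (Or.inr ⟨hco, h0⟩)
    · exact Or.inr ⟨hco, h0⟩
  have h1 := Set.ncard_le_ncard hsub (Set.toFinite _)
  have h2 := Set.ncard_union_le ({x : Finset GolayPt | x ∈ octads ∧ (o ∩ x).card = 0} ∪
      {x : Finset GolayPt | x ∈ octads ∧ (a ∩ x).card = 0})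
      {x : Finset GolayPt | x ∈ octads ∧ (b ∩ x).card = 0}
  have h3 := Set.ncard_union_le {x : Finset GolayPt | x ∈ octads ∧ (o ∩ x).card = 0}
      {x : Finset GolayPt | x ∈ octads ∧ (a ∩ x).card = 0}
  rw [ncard_disjoint_octads ho, ncard_disjoint_octads ha] at h3
  rw [ncard_disjoint_octads hb] at h2
  omega

/-- the stabilizer of a trio permutes its members transitively: the orbit of a member is the trio -/
theorem trio_orbit_member {T : Finset (Finset GolayPt)} (hT : T ∈ trios) {o : Finset GolayPt}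
    (ho : o ∈ T) : MulAction.orbit ↥(MulAction.stabilizer M24 T) o = (↑T : Set (Finset GolayPt)) := by
  have hsub : MulAction.orbit ↥(MulAction.stabilizer M24 T) o ⊆ (↑T : Set (Finset GolayPt)) := by
    rintro _ ⟨g, rfl⟩
    have hgT : (g.1 : Equiv.Perm GolayPt) • T = T := MulAction.mem_stabilizer_iff.mp g.2
    have hmem : (g.1 : Equiv.Perm GolayPt) • o ∈ (g.1 : Equiv.Perm GolayPt) • T :=
      Finset.smul_mem_smul_finset ho
    rw [hgT] at hmem
    exact Finset.mem_coe.mpr hmem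
  have hle : (MulAction.orbit ↥(MulAction.stabilizer M24 T) o).ncard ≤ 3 := by
    have := Set.ncard_le_ncard hsub (Set.toFinite _)
    rwa [Set.ncard_coe_finset, hT.1] at this
  obtain ⟨⟨X₁, -, X₂, -, X₃, -, h1, h2, h3, hU⟩, -⟩ := trio_stab_orbits T hT
  have hmem : o ∈ octads := hT.2.1 o ho
  rw [hU] at hmem
  have h3' : (MulAction.orbit ↥(MulAction.stabilizer M24 T) o).ncard = 3 := by
    rcases hmem with (hm | hm) | hm
    · rw [MulAction.orbit_eq_iff.mpr hm]; exact h1
    · rw [MulAction.orbit_eq_iff.mpr hm] at hle; omega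
    · rw [MulAction.orbit_eq_iff.mpr hm] at hle; omega
  apply Set.eq_of_subset_of_ncard_le hsub _ (Set.toFinite _)
  rw [h3', Set.ncard_coe_finset, hT.1]

/-- the stabilizer of a trio is transitive on the octads outside it that are disjoint from one
of its members -/
theorem trioNbrs_trans {T : Finset (Finset GolayPt)} (hT : T ∈ trios) {c c' : Finset GolayPt}
    (hc : c ∈ trioNbrs T) (hc' : c' ∈ trioNbrs T) : ∃ g ∈ M24, g • T = T ∧ g • c = c' := by
  obtain ⟨⟨X₁, hX₁, X₂, -, X₃, -, h1, h2, h3, hU⟩, -⟩ := trio_stab_orbits T hT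
  -- the first orbit is the trio itself
  have hX1T : MulAction.orbit ↥(MulAction.stabilizer M24 T) X₁ = (↑T : Set (Finset GolayPt)) := by
    obtain ⟨o, ho⟩ : T.Nonempty := by rw [← Finset.card_pos, hT.1]; norm_num
    have hoT := trio_orbit_member hT ho
    have hmem : o ∈ octads := hT.2.1 o ho
    rw [hU] at hmem
    have hle : (MulAction.orbit ↥(MulAction.stabilizer M24 T) o).ncard = 3 := by
      rw [hoT, Set.ncard_coe_finset, hT.1]
    rcases hmem with (hm | hm) | hm
    · rw [← MulAction.orbit_eq_iff.mpr hm]; exact hoT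
    · rw [MulAction.orbit_eq_iff.mpr hm] at hle; omega
    · rw [MulAction.orbit_eq_iff.mpr hm] at hle; omega
  have key : ∀ d ∈ trioNbrs T, d ∈ MulAction.orbit ↥(MulAction.stabilizer M24 T) X₂ := by
    intro d hd
    have hmem : d ∈ octads := hd.1
    rw [hU] at hmem
    rcases hmem with (hm | hm) | hm
    · rw [hX1T] at hm
      exact absurd (Finset.mem_coe.mp hm) hd.2.1
    · exact hm
    · exfalso
      have hsub : MulAction.orbit ↥(MulAction.stabilizer M24 T) d ⊆ trioNbrs T := by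
        rintro _ ⟨g, rfl⟩
        exact smul_mem_trioNbrs g.1.2 (MulAction.mem_stabilizer_iff.mp g.2) hd
      have := Set.ncard_le_ncard hsub (Set.toFinite _)
      rw [MulAction.orbit_eq_iff.mpr hm, h3] at this
      have := ncard_trioNbrs_le hT
      omega
  have hcc : c' ∈ MulAction.orbit ↥(MulAction.stabilizer M24 T) c := by
    rw [MulAction.orbit_eq_iff.mpr (key c hc)]
    exact key c' hc'
  obtain ⟨g, rfl⟩ := hcc
  exact ⟨g.1.1, g.1.2, MulAction.mem_stabilizer_iff.mp g.2, rfl⟩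

/-- the stabilizer of an octad and of a trio through it is transitive on the other trios through
the octad -/
theorem triosAt_trans2 {o : Finset GolayPt} (_ho : o ∈ octads) {T₁ T T' : Finset (Finset GolayPt)}
    (hT₁ : T₁ ∈ triosAt o) (hT : T ∈ triosAt o) (hT' : T' ∈ triosAt o) (hne : T ≠ T₁) (hne' : T' ≠ T₁) :
    ∃ g ∈ M24, g • o = o ∧ g • T₁ = T₁ ∧ g • T = T' := by
  obtain ⟨c, hc, hdc, -, hco, rfl⟩ := triosAt_exists hT
  obtain ⟨c', hc', hdc', -, hco', rfl⟩ := triosAt_exists hT'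
  have hcN : c ∈ trioNbrs T₁ := by
    refine ⟨hc, ?_, o, hT₁.2, hdc⟩
    intro hcT
    exact hne (trioOf_eq hT₁.1 hT₁.2 hcT (Ne.symm hco))
  have hcN' : c' ∈ trioNbrs T₁ := by
    refine ⟨hc', ?_, o, hT₁.2, hdc'⟩
    intro hcT
    exact hne' (trioOf_eq hT₁.1 hT₁.2 hcT (Ne.symm hco'))
  obtain ⟨g, hg, hgT, hgc⟩ := trioNbrs_trans hT₁.1 hcN hcN'
  have hgo : g • o = o := by
    by_contra hgo
    have hm : g • o ∈ T₁ := by
      have := Finset.smul_mem_smul_finset (a := g) hT₁.2
      rwa [hgT] at this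
    have hd : Disjoint (g • o) c' := by
      rw [← hgc, disjoint_smul_iff]; exact hdc
    exact hcN'.2.1 (mem_trio_of_disjoint_two hT₁.1 hT₁.2 hm (Ne.symm hgo) hc' hdc' hd)
  refine ⟨g, hg, hgo, hgT, ?_⟩
  rw [smul_trioOf, hgo, hgc]

/-- **the stabilizer of an octad is doubly transitive on the fifteen trios through it** -/
theorem triosAt_two_trans {o : Finset GolayPt} (ho : o ∈ octads)
    {T₁ T₂ T₁' T₂' : Finset (Finset GolayPt)}
    (h1 : T₁ ∈ triosAt o) (h2 : T₂ ∈ triosAt o) (h1' : T₁' ∈ triosAt o) (h2' : T₂' ∈ triosAt o)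
    (hne : T₁ ≠ T₂) (hne' : T₁' ≠ T₂') :
    ∃ g ∈ M24, g • o = o ∧ g • T₁ = T₁' ∧ g • T₂ = T₂' := by
  obtain ⟨g₁, hg₁, hg₁o, hg₁T⟩ := triosAt_trans ho h1 h1'
  have h2g : g₁ • T₂ ∈ triosAt o := smul_mem_triosAt hg₁ hg₁o h2
  have hneg : g₁ • T₂ ≠ T₁' := by
    rw [← hg₁T]
    intro h
    exact hne (smul_left_cancel g₁ h).symm
  obtain ⟨g₂, hg₂, hg₂o, hg₂T, hg₂e⟩ := triosAt_trans2 ho h1' h2g h2' hneg (Ne.symm hne')
  refine ⟨g₂ * g₁, M24.mul_mem hg₂ hg₁, ?_, ?_, ?_⟩
  · rw [mul_smul, hg₁o, hg₂o]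
  · rw [mul_smul, hg₁T, hg₂T]
  · rw [mul_smul, hg₂e]

/-- the action of the octad stabilizer on the trios through the octad -/
def trioSub (o : Finset GolayPt) : SubMulAction ↥(stabP o) (Finset (Finset GolayPt)) where
  carrier := triosAt o
  smul_mem' g _ hT := smul_mem_triosAt (mem_stabP.mp g.2).1 (mem_stabP.mp g.2).2 hT

theorem card_trioSub {o : Finset GolayPt} (ho : o ∈ octads) : Nat.card ↥(trioSub o) = 15 := by
  rw [← ncard_triosAt ho, ← Nat.card_coe_set_eq]
  rfl

/-- the kernel of the action on the trios through the octad -/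
def trioKer (o : Finset GolayPt) : Subgroup ↥(stabP o) where
  carrier := {g | ∀ T ∈ triosAt o, (g : Equiv.Perm GolayPt) • T = T}
  mul_mem' := by
    intro a b ha hb T hT
    rw [Subgroup.coe_mul, mul_smul, hb T hT, ha T hT]
  one_mem' := by
    intro T _
    rw [Subgroup.coe_one, one_smul]
  inv_mem' := by
    intro a ha T hT
    rw [Subgroup.coe_inv, inv_smul_eq_iff, ha T hT]

theorem mem_trioKer {o : Finset GolayPt} {g : ↥(stabP o)} :
    g ∈ trioKer o ↔ ∀ T ∈ triosAt o, (g : Equiv.Perm GolayPt) • T = T := Iff.rfl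

instance trioKer_normal (o : Finset GolayPt) : (trioKer o).Normal := by
  constructor
  intro n hn g T hT
  have hT' : ((g⁻¹ : ↥(stabP o)) : Equiv.Perm GolayPt) • T ∈ triosAt o :=
    smul_mem_triosAt (mem_stabP.mp (g⁻¹).2).1 (mem_stabP.mp (g⁻¹).2).2 hT
  have h1 := hn _ hT'
  rw [Subgroup.coe_mul, Subgroup.coe_mul, mul_smul, mul_smul, h1, Subgroup.coe_inv, smul_inv_smul]

/-- the pointwise stabilizer of the octad fixes every trio through the octad -/
theorem ker_le_trioKer {o : Finset GolayPt} (ho : o ∈ octads) : (restrictHom o).ker ≤ trioKer o := by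
  have hP : IsPGroup 2 ↥(restrictHom o).ker :=
    IsPGroup.of_card (n := 4) (by rw [card_ker_restrictHom ho]; norm_num)
  have hfix := hP.nonempty_fixed_point_of_prime_not_dvd_card (↥(trioSub o))
    (by rw [card_trioSub ho]; norm_num)
  obtain ⟨⟨T₀, hT₀⟩, hfix⟩ := hfix
  have hfix' : ∀ k ∈ (restrictHom o).ker, (k : Equiv.Perm GolayPt) • T₀ = T₀ := by
    intro k hk
    have := hfix ⟨k, hk⟩
    exact congrArg Subtype.val this
  intro k hk T hT
  obtain ⟨h, hh, hho, rfl⟩ := triosAt_trans ho hT₀ hT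
  let h' : ↥(stabP o) := ⟨h, mem_stabP.mpr ⟨hh, hho⟩⟩
  have hn : h'⁻¹ * k * h' ∈ (restrictHom o).ker := by
    have := (inferInstance : (restrictHom o).ker.Normal).conj_mem k hk h'⁻¹
    rwa [inv_inv] at this
  have h2 := hfix' _ hn
  rw [Subgroup.coe_mul, Subgroup.coe_mul, Subgroup.coe_inv] at h2
  have h3 : (h' : Equiv.Perm GolayPt) = h := rfl
  rw [h3, mul_smul, mul_smul, inv_smul_eq_iff] at h2
  exact h2

theorem isSimpleGroup_range {o : Finset GolayPt} (ho : o ∈ octads) :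
    IsSimpleGroup ↥(restrictHom o).range := by
  rw [range_restrictHom ho]
  apply alternatingGroup.isSimpleGroup
  rw [Nat.card_eq_fintype_card, Fintype.card_coe, ho.2]
  norm_num

/-- **the kernel of the action on the fifteen trios is the pointwise stabilizer of the octad** -/
theorem trioKer_eq {o : Finset GolayPt} (ho : o ∈ octads) : trioKer o = (restrictHom o).ker := by
  apply le_antisymm _ (ker_le_trioKer ho)
  have := isSimpleGroup_range ho
  have hsurj : Function.Surjective (restrictHom o).rangeRestrict :=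
    MonoidHom.rangeRestrict_surjective _
  have hN : ((trioKer o).map (restrictHom o).rangeRestrict).Normal :=
    Subgroup.Normal.map (trioKer_normal o) _ hsurj
  rcases hN.eq_bot_or_eq_top with hbot | htop
  · intro g hg
    have h1 : (restrictHom o).rangeRestrict g ∈ (trioKer o).map (restrictHom o).rangeRestrict :=
      Subgroup.mem_map_of_mem _ hg
    rw [hbot, Subgroup.mem_bot] at h1
    rw [MonoidHom.mem_ker]
    have := congrArg Subtype.val h1
    exact this
  · exfalso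
    -- then every element of the stabilizer fixes every trio through the octad
    have hall : ∀ h : ↥(stabP o), h ∈ trioKer o := by
      intro h
      have h1 : (restrictHom o).rangeRestrict h ∈ (trioKer o).map (restrictHom o).rangeRestrict := by
        rw [htop]; exact Subgroup.mem_top _
      obtain ⟨k, hk, hkh⟩ := h1
      have h2 : k⁻¹ * h ∈ (restrictHom o).ker := by
        rw [MonoidHom.mem_ker, map_mul, map_inv]
        have := congrArg Subtype.val hkh
        change restrictHom o k = restrictHom o h at this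
        rw [this, inv_mul_cancel]
      have h3 := (trioKer o).mul_mem hk (ker_le_trioKer ho h2)
      rwa [mul_inv_cancel_left] at h3
    have h15 := ncard_triosAt ho
    have h1lt : 1 < (triosAt o).ncard := by omega
    obtain ⟨T₁, hT₁, T₂, hT₂, hne⟩ := (Set.one_lt_ncard (Set.toFinite _)).mp h1lt
    obtain ⟨g, hg, hgo, hgT⟩ := triosAt_trans ho hT₁ hT₂
    have := hall ⟨g, mem_stabP.mpr ⟨hg, hgo⟩⟩ T₁ hT₁
    exact hne (this.symm.trans hgT)

/-- **S5615** -/
theorem octad_trios_main (o : Finset GolayPt) (ho : o ∈ octads) :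
    {T : Finset (Finset GolayPt) | T ∈ trios ∧ o ∈ T}.ncard = 15 ∧
    (∀ T₁ T₂ T₁' T₂' : Finset (Finset GolayPt), T₁ ∈ trios → T₂ ∈ trios → T₁' ∈ trios →
      T₂' ∈ trios → o ∈ T₁ → o ∈ T₂ → o ∈ T₁' → o ∈ T₂' → T₁ ≠ T₂ → T₁' ≠ T₂' →
      ∃ g ∈ M24, g • o = o ∧ g • T₁ = T₁' ∧ g • T₂ = T₂') ∧
    ∀ g ∈ M24, g • o = o → ((∀ T ∈ trios, o ∈ T → g • T = T) ↔ ∀ p ∈ o, g p = p) := by
  refine ⟨ncard_triosAt ho, ?_, ?_⟩
  · intro T₁ T₂ T₁' T₂' h1 h2 h1' h2' o1 o2 o1' o2' hne hne'
    exact triosAt_two_trans ho ⟨h1, o1⟩ ⟨h2, o2⟩ ⟨h1', o1'⟩ ⟨h2', o2'⟩ hne hne'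
  · intro g hg hgo
    have hmem : (⟨g, mem_stabP.mpr ⟨hg, hgo⟩⟩ : ↥(stabP o)) ∈ trioKer o ↔
        (⟨g, mem_stabP.mpr ⟨hg, hgo⟩⟩ : ↥(stabP o)) ∈ (restrictHom o).ker := by
      rw [trioKer_eq ho]
    rw [mem_trioKer, MonoidHom.mem_ker] at hmem
    constructor
    · intro h p hp
      have h1 := hmem.mp (fun T hT => h T hT.1 hT.2)
      have := congrArg (fun e : Equiv.Perm ↥o => ((e ⟨p, hp⟩ : ↥o) : GolayPt)) h1
      exact this
    · intro h T hT hoT
      have h1 : restrictHom o ⟨g, mem_stabP.mpr ⟨hg, hgo⟩⟩ = 1 := by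
        apply Equiv.ext
        intro x
        apply Subtype.ext
        exact h x.1 x.2
      exact hmem.mpr h1 T ⟨hT, hoT⟩

end Cfsg.Agent.Lib.Helper6.Golay
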