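import Cfsg.Agent.Lib.Helper6.GolayBSGS

/-!
# Orbits of subgroups of `M24` on codewords, certified by Schreier trees on masks
-/

set_option autoImplicit false

namespace Cfsg.Agent.Lib.Helper6.Golay

open Cfsg
open Cfsg.Agent.Lib.Helper6.PermChain
open scoped Pointwise

/-- the subgroup of `H` stabilizing (setwise) each of the sets given by a list of masks -/
def stabM (H : Subgroup (Equiv.Perm GolayPt)) (stab : List ℕ) : Subgroup (Equiv.Perm GolayPt) :=
  H ⊓ ⨅ m ∈ stab, MulAction.stabilizer (Equiv.Perm GolayPt) (fs m)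

theorem mem_stabM {H : Subgroup (Equiv.Perm GolayPt)} {stab : List ℕ} {g : Equiv.Perm GolayPt} :
    g ∈ stabM H stab ↔ g ∈ H ∧ ∀ m ∈ stab, g • fs m = fs m := by
  simp only [stabM, Subgroup.mem_inf, Subgroup.mem_iInf, MulAction.mem_stabilizer_iff]

theorem stabM_le (H : Subgroup (Equiv.Perm GolayPt)) (stab : List ℕ) : stabM H stab ≤ H :=
  inf_le_left

theorem stabM_nil (H : Subgroup (Equiv.Perm GolayPt)) : stabM H [] = H := by
  ext g; simp [mem_stabM]

/-- does the list permutation stabilize all the masks? -/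
def stabAll (s : List ℕ) (stab : List ℕ) : Bool := stab.all (fun m => lmask s m == m)

/-- replace the elements not stabilizing the masks by the identity -/
def stabFilter (E : List (List ℕ)) (stab : List ℕ) : List (List ℕ) :=
  E.map (fun s => if stabAll s stab then s else idl)

theorem rep_stabFilter {H : Subgroup (Equiv.Perm GolayPt)} {E : List (List ℕ)}
    (hE : ∀ l ∈ E, Rep H l) (stab : List ℕ) : ∀ l ∈ stabFilter E stab, Rep (stabM H stab) l := by
  intro l hl
  rw [stabFilter, List.mem_map] at hl
  obtain ⟨s, hs, rfl⟩ := hl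
  split_ifs with h
  · obtain ⟨ws, g, hg, hgs⟩ := hE s hs
    refine ⟨ws, g, mem_stabM.mpr ⟨hg, ?_⟩, hgs⟩
    intro m hm
    rw [stabAll, List.all_eq_true] at h
    have := h m hm
    rw [beq_iff_eq] at this
    rw [smul_fs ws hgs, this]
  · exact Rep.one _

/-- reachability of a mask from the root mask under `H` -/
def CwReach (H : Subgroup (Equiv.Perm GolayPt)) (root q : ℕ) : Prop :=
  ∃ g ∈ H, g • fs root = fs q

theorem CwReach.refl (H : Subgroup (Equiv.Perm GolayPt)) (root : ℕ) : CwReach H root root :=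
  ⟨1, H.one_mem, one_smul _ _⟩

theorem CwReach.step {H : Subgroup (Equiv.Perm GolayPt)} {root p : ℕ} (hp : CwReach H root p)
    {s : List ℕ} (hs : Rep H s) : CwReach H root (lmask s p) := by
  obtain ⟨g, hg, hgp⟩ := hp
  obtain ⟨ws, h, hh, hhs⟩ := hs
  refine ⟨h * g, H.mul_mem hh hg, ?_⟩
  rw [mul_smul, hgp, smul_fs ws hhs]

theorem combo_mod_of_inCode {n : ℕ} (h : inCode n = true) : combo (n % 4096) = n := by
  simp only [inCode, Bool.and_eq_true, decide_eq_true_eq, beq_iff_eq] at h
  exact h.2

/-- one edge of the tree: visited set as a bitmap over the twelve information bits -/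
def cwStep (E : List (List ℕ)) (V : ℕ) (e : ℕ × ℕ) : ℕ :=
  if inCode e.1 && V.testBit (e.1 % 4096) && inCode (lmask (E.getD e.2 idl) e.1) then
    V ||| 2 ^ (lmask (E.getD e.2 idl) e.1 % 4096)
  else V

def cwRun (E : List (List ℕ)) (root : ℕ) (cert : List (ℕ × ℕ)) : ℕ :=
  cert.foldl (cwStep E) (2 ^ (root % 4096))

/-- invariant of the bitmap -/
def CwInv (H : Subgroup (Equiv.Perm GolayPt)) (root V : ℕ) : Prop :=
  ∀ m, V.testBit m = true → CwReach H root (combo m)

theorem cwInv_step {H : Subgroup (Equiv.Perm GolayPt)} {E : List (List ℕ)}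
    (hE : ∀ l ∈ E, Rep H l) {root V : ℕ} (hV : CwInv H root V) (e : ℕ × ℕ) :
    CwInv H root (cwStep E V e) := by
  rw [cwStep]
  split_ifs with hc
  · simp only [Bool.and_eq_true] at hc
    obtain ⟨⟨h1, h2⟩, h3⟩ := hc
    intro m hm
    rw [Nat.testBit_or, Bool.or_eq_true, Nat.testBit_two_pow, decide_eq_true_eq] at hm
    rcases hm with hm | hm
    · exact hV m hm
    · rw [← hm, combo_mod_of_inCode h3]
      have := hV _ h2
      rw [combo_mod_of_inCode h1] at this
      exact this.step (rep_getD hE _)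
  · exact hV

theorem cwInv_run {H : Subgroup (Equiv.Perm GolayPt)} {E : List (List ℕ)}
    (hE : ∀ l ∈ E, Rep H l) {root : ℕ} (hroot : inCode root = true) (cert : List (ℕ × ℕ)) :
    CwInv H root (cwRun E root cert) := by
  have h0 : CwInv H root (2 ^ (root % 4096)) := by
    intro m hm
    rw [Nat.testBit_two_pow, decide_eq_true_eq] at hm
    rw [← hm, combo_mod_of_inCode hroot]
    exact CwReach.refl H root
  rw [cwRun]
  generalize 2 ^ (root % 4096) = V at h0
  induction cert generalizing V with
  | nil => exact h0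
  | cons e cert ih =>
    rw [List.foldl_cons]
    exact ih _ (cwInv_step hE h0 e)

/-- the final check: all codewords satisfying `P` are visited -/
def cwCheck (P : ℕ → Bool) (V : ℕ) : Bool :=
  allBelow (fun m => !(P (combo m)) || V.testBit m) 4096

theorem cwReach_of_check {H : Subgroup (Equiv.Perm GolayPt)} {E : List (List ℕ)}
    (hE : ∀ l ∈ E, Rep H l) {root : ℕ} (hroot : inCode root = true) (cert : List (ℕ × ℕ))
    (P : ℕ → Bool) (h : cwCheck P (cwRun E root cert) = true) (n : ℕ) (hn : inCode n = true)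
    (hP : P n = true) : CwReach H root n := by
  obtain ⟨m, hm, rfl⟩ := (inCode_iff n).mp hn
  have := allBelow_spec _ _ h m hm
  rw [hP] at this
  simp only [Bool.not_true, Bool.false_or] at this
  exact cwInv_run hE hroot cert m this

/-- two codewords reachable from the same root are conjugate -/
theorem CwReach.trans_symm {H : Subgroup (Equiv.Perm GolayPt)} {root a b : ℕ}
    (ha : CwReach H root a) (hb : CwReach H root b) : ∃ g ∈ H, g • fs a = fs b := by
  obtain ⟨g, hg, hga⟩ := ha
  obtain ⟨h, hh, hhb⟩ := hb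
  refine ⟨h * g⁻¹, H.mul_mem hh (H.inv_mem hg), ?_⟩
  rw [mul_smul, ← hga, inv_smul_smul, hhb]

end Cfsg.Agent.Lib.Helper6.Golay
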