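import Mathlib

/-!
# Stabilizer chains in permutation groups: orbit–stabilizer counting and multiple transitivity
-/

set_option autoImplicit false

namespace Cfsg.Agent.Lib.Helper6.PermChain

open MulAction

variable {Ω : Type*}

/-- Orbit–stabilizer for a subgroup of a permutation group, with the stabilizer taken inside
`Perm Ω`. -/
theorem card_eq_orbit_mul [Finite Ω] (H : Subgroup (Equiv.Perm Ω)) (b : Ω) (orb : Finset Ω)
    (h1 : ∀ q ∈ orb, ∃ g ∈ H, g b = q) (h2 : ∀ g ∈ H, g b ∈ orb) :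
    Nat.card H = orb.card * Nat.card ↥(H ⊓ stabilizer (Equiv.Perm Ω) b) := by
  classical
  have horb : (orbit H b) = (orb : Set Ω) := by
    ext q
    constructor
    · rintro ⟨g, rfl⟩
      exact h2 g.1 g.2
    · intro hq
      obtain ⟨g, hg, rfl⟩ := h1 q hq
      exact ⟨⟨g, hg⟩, rfl⟩
  have h3 : Nat.card (orbit H b) * Nat.card (stabilizer H b) = Nat.card H := by
    rw [← Nat.card_prod]
    exact Nat.card_congr (orbitProdStabilizerEquivGroup H b)
  have h4 : Nat.card (orbit H b) = orb.card := by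
    rw [horb]; simp
  have h5 : Nat.card (stabilizer H b) = Nat.card ↥(H ⊓ stabilizer (Equiv.Perm Ω) b) := by
    apply Nat.card_congr
    refine ⟨fun x => ⟨x.1.1, ⟨x.1.2, ?_⟩⟩, fun y => ⟨⟨y.1, y.2.1⟩, ?_⟩, ?_, ?_⟩
    · have h := x.2
      exact h
    · have h := y.2.2
      exact h
    · intro x; rfl
    · intro y; rfl
  rw [← h3, h4, h5]

/-- The subgroup of `H` fixing every point of a list. -/
def fixL (H : Subgroup (Equiv.Perm Ω)) (l : List Ω) : Subgroup (Equiv.Perm Ω) :=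
  H ⊓ fixingSubgroup (Equiv.Perm Ω) {x | x ∈ l}

theorem mem_fixL {H : Subgroup (Equiv.Perm Ω)} {l : List Ω} {g : Equiv.Perm Ω} :
    g ∈ fixL H l ↔ g ∈ H ∧ ∀ x ∈ l, g x = x := by
  rw [fixL, Subgroup.mem_inf, mem_fixingSubgroup_iff]
  rfl

theorem fixL_nil (H : Subgroup (Equiv.Perm Ω)) : fixL H [] = H := by
  ext g; simp [mem_fixL]

theorem fixL_concat (H : Subgroup (Equiv.Perm Ω)) (l : List Ω) (b : Ω) :
    fixL H (l ++ [b]) = fixL H l ⊓ stabilizer (Equiv.Perm Ω) b := by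
  ext g
  simp only [mem_fixL, Subgroup.mem_inf, mem_stabilizer_iff, List.mem_append, List.mem_singleton,
    Equiv.Perm.smul_def]
  constructor
  · rintro ⟨h1, h2⟩
    exact ⟨⟨h1, fun x hx => h2 x (Or.inl hx)⟩, h2 b (Or.inr rfl)⟩
  · rintro ⟨⟨h1, h2⟩, h3⟩
    refine ⟨h1, ?_⟩
    rintro x (hx | rfl)
    · exact h2 x hx
    · exact h3

theorem fixL_le (H : Subgroup (Equiv.Perm Ω)) (l : List Ω) : fixL H l ≤ H := inf_le_left

theorem fixL_mono {H K : Subgroup (Equiv.Perm Ω)} (h : H ≤ K) (l : List Ω) : fixL H l ≤ fixL K l :=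
  inf_le_inf_right _ h

theorem apply_not_mem_of_fixL {H : Subgroup (Equiv.Perm Ω)} {l : List Ω} {g : Equiv.Perm Ω}
    (hg : g ∈ fixL H l) {b : Ω} (hb : b ∉ l) : g b ∉ l := by
  intro h
  have := (mem_fixL.mp hg).2 _ h
  exact hb (g.injective this ▸ h)

/-- One step of the stabilizer chain. -/
theorem card_fixL_step [Finite Ω] (H : Subgroup (Equiv.Perm Ω)) (l : List Ω) (b : Ω)
    (orb : Finset Ω)
    (h1 : ∀ q ∈ orb, ∃ g ∈ fixL H l, g b = q) (h2 : ∀ g ∈ fixL H l, g b ∈ orb) :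
    Nat.card (fixL H l) = orb.card * Nat.card (fixL H (l ++ [b])) := by
  rw [fixL_concat]
  exact card_eq_orbit_mul (fixL H l) b orb h1 h2

/-- Conjugate pointwise stabilizers have the same order. -/
theorem card_fixL_map (H : Subgroup (Equiv.Perm Ω)) {g : Equiv.Perm Ω} (hg : g ∈ H) (l : List Ω) :
    Nat.card (fixL H (l.map g)) = Nat.card (fixL H l) := by
  apply Nat.card_congr
  refine ⟨fun h => ⟨g⁻¹ * h.1 * g, ?_⟩, fun h => ⟨g * h.1 * g⁻¹, ?_⟩, ?_, ?_⟩
  · have hh := mem_fixL.mp h.2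
    rw [mem_fixL]
    refine ⟨H.mul_mem (H.mul_mem (H.inv_mem hg) hh.1) hg, fun x hx => ?_⟩
    rw [Equiv.Perm.mul_apply, Equiv.Perm.mul_apply, hh.2 _ (List.mem_map.mpr ⟨x, hx, rfl⟩),
      Equiv.Perm.inv_def, Equiv.symm_apply_apply]
  · have hh := mem_fixL.mp h.2
    rw [mem_fixL]
    refine ⟨H.mul_mem (H.mul_mem hg hh.1) (H.inv_mem hg), fun x hx => ?_⟩
    obtain ⟨y, hy, rfl⟩ := List.mem_map.mp hx
    rw [Equiv.Perm.mul_apply, Equiv.Perm.mul_apply, Equiv.Perm.inv_def, Equiv.symm_apply_apply,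
      hh.2 _ hy]
  · intro h; apply Subtype.ext; simp [mul_assoc]
  · intro h; apply Subtype.ext; simp [mul_assoc]

/-- the point stabilizer inside the subgroup, as a subgroup of the subgroup -/
theorem card_stabilizer_eq (H : Subgroup (Equiv.Perm Ω)) (p : Ω) :
    Nat.card (stabilizer H p) = Nat.card (fixL H [p]) := by
  apply Nat.card_congr
  refine ⟨fun x => ⟨x.1.1, ?_⟩, fun y => ⟨⟨y.1, (mem_fixL.mp y.2).1⟩, ?_⟩, ?_, ?_⟩
  · rw [mem_fixL]
    refine ⟨x.1.2, fun q hq => ?_⟩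
    rw [List.mem_singleton] at hq
    subst hq
    exact x.2
  · exact (mem_fixL.mp y.2).2 p (List.mem_singleton.mpr rfl)
  · intro x; rfl
  · intro y; rfl

theorem card_stabilizer_inf_eq (H : Subgroup (Equiv.Perm Ω)) (p q : Ω) :
    Nat.card ↥(stabilizer H p ⊓ stabilizer H q) = Nat.card (fixL H [p, q]) := by
  apply Nat.card_congr
  refine ⟨fun x => ⟨x.1.1, ?_⟩, fun y => ⟨⟨y.1, (mem_fixL.mp y.2).1⟩, ?_⟩, ?_, ?_⟩
  · rw [mem_fixL]
    refine ⟨x.1.2, fun r hr => ?_⟩
    have hx := x.2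
    rw [Subgroup.mem_inf] at hx
    simp only [List.mem_cons, List.not_mem_nil, or_false] at hr
    rcases hr with rfl | rfl
    · exact hx.1
    · exact hx.2
  · rw [Subgroup.mem_inf]
    exact ⟨(mem_fixL.mp y.2).2 p (by simp), (mem_fixL.mp y.2).2 q (by simp)⟩
  · intro x; rfl
  · intro y; rfl

/-- Multiple transitivity from a stabilizer chain: if at each level `k < n` the subgroup fixing
the first `k` base points can move the next base point to any point outside the first `k` base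
points, then every injective `n`-tuple is the image of the base tuple. -/
theorem exists_map_base_aux [DecidableEq Ω] (H : Subgroup (Equiv.Perm Ω)) (bs : List Ω)
    (hchain : ∀ k (hk : k < bs.length), ∀ q, q ∉ bs.take k →
      ∃ g ∈ fixL H (bs.take k), g (bs[k]) = q)
    (x : Fin bs.length ↪ Ω) :
    ∀ m, m ≤ bs.length → ∃ g ∈ H, ∀ i : Fin bs.length, i.val < m → g (bs[i]) = x i := by
  intro m
  induction m with
  | zero => intro _; exact ⟨1, H.one_mem, fun i hi => absurd hi (Nat.not_lt_zero _)⟩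
  | succ m ih =>
    intro hm
    obtain ⟨g, hg, hgx⟩ := ih (Nat.le_of_succ_le hm)
    have hmlt : m < bs.length := hm
    have hq : g⁻¹ (x ⟨m, hmlt⟩) ∉ bs.take m := by
      intro hmem
      rw [List.mem_take_iff_getElem] at hmem
      obtain ⟨i, hi, hieq⟩ := hmem
      have hi' : i < m := lt_of_lt_of_le hi (min_le_left _ _)
      have hil : i < bs.length := lt_trans hi' hmlt
      have h1 := hgx ⟨i, hil⟩ hi'
      simp only [Fin.getElem_fin] at h1
      rw [hieq] at h1
      rw [Equiv.Perm.inv_def, Equiv.apply_symm_apply] at h1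
      have := x.injective h1
      rw [Fin.mk.injEq] at this
      omega
    obtain ⟨h, hh, hhq⟩ := hchain m hmlt _ hq
    rw [mem_fixL] at hh
    refine ⟨g * h, H.mul_mem hg hh.1, ?_⟩
    intro i him
    rw [Equiv.Perm.mul_apply]
    rcases Nat.lt_succ_iff_lt_or_eq.mp him with h' | h'
    · have hmem : bs[i] ∈ bs.take m := by
        rw [List.mem_take_iff_getElem]
        exact ⟨i.val, lt_min h' i.2, rfl⟩
      rw [hh.2 _ hmem]
      exact hgx i h'
    · have hi : i = ⟨m, hmlt⟩ := Fin.ext h'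
      subst hi
      simp only [Fin.getElem_fin]
      rw [hhq]; simp

theorem exists_map_base [DecidableEq Ω] (H : Subgroup (Equiv.Perm Ω)) (bs : List Ω)
    (hchain : ∀ k (hk : k < bs.length), ∀ q, q ∉ bs.take k →
      ∃ g ∈ fixL H (bs.take k), g (bs[k]) = q)
    (x : Fin bs.length ↪ Ω) : ∃ g ∈ H, ∀ i : Fin bs.length, g (bs[i]) = x i := by
  obtain ⟨g, hg, h⟩ := exists_map_base_aux H bs hchain x bs.length le_rfl
  exact ⟨g, hg, fun i => h i i.2⟩

/-- Any two injective tuples are conjugate under the subgroup, given a full chain. -/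
theorem exists_map_of_chain [DecidableEq Ω] (H : Subgroup (Equiv.Perm Ω)) (bs : List Ω)
    (hchain : ∀ k (hk : k < bs.length), ∀ q, q ∉ bs.take k →
      ∃ g ∈ fixL H (bs.take k), g (bs[k]) = q)
    (x y : Fin bs.length ↪ Ω) : ∃ g ∈ H, ∀ i, g (x i) = y i := by
  obtain ⟨g1, hg1, h1⟩ := exists_map_base H bs hchain x
  obtain ⟨g2, hg2, h2⟩ := exists_map_base H bs hchain y
  refine ⟨g2 * g1⁻¹, H.mul_mem hg2 (H.inv_mem hg1), fun i => ?_⟩
  rw [Equiv.Perm.mul_apply, ← h1 i, Equiv.Perm.inv_def, Equiv.symm_apply_apply, h2 i]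

theorem isMultiplyPretransitive_of_chain [DecidableEq Ω] (H : Subgroup (Equiv.Perm Ω))
    (bs : List Ω) (n : ℕ) (hn : bs.length = n)
    (hchain : ∀ k (hk : k < bs.length), ∀ q, q ∉ bs.take k →
      ∃ g ∈ fixL H (bs.take k), g (bs[k]) = q) :
    MulAction.IsMultiplyPretransitive H Ω n := by
  subst hn
  refine ⟨fun x y => ?_⟩
  obtain ⟨g, hg, h⟩ := exists_map_of_chain H bs hchain x y
  refine ⟨⟨g, hg⟩, ?_⟩
  ext i
  exact h i

end Cfsg.Agent.Lib.Helper6.PermChain
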