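import Cfsg.Agent.Lib.Helper6.GolaySteiner
import Cfsg.Agent.Lib.Helper6.PermChain

/-!
# Permutations of the 24 points as lists of numbers, straight-line programs, Schreier trees
-/

set_option autoImplicit false

namespace Cfsg.Agent.Lib.Helper6.Golay

open Cfsg
open Cfsg.Agent.Lib.Helper6.PermChain

/-- the function on the 24 points coded by a list: index `i` goes to index `l[i]`. -/
def lfun (l : List ℕ) (p : GolayPt) : GolayPt := pt (l.getD (idx p) 0)

/-- well-formedness of a list: length 24, entries below 24. -/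
def wf (l : List ℕ) : Bool := l.length == 24 && l.all (fun x => decide (x < 24))

/-- the identity list -/
def idl : List ℕ := List.range 24

/-- composition: `(a * b)(i) = a(b(i))`. -/
def lmul (a b : List ℕ) : List ℕ := b.map (fun i => a.getD i 0)

theorem wf_iff (l : List ℕ) : wf l = true ↔ l.length = 24 ∧ ∀ x ∈ l, x < 24 := by
  simp [wf, List.all_eq_true]

theorem wf_idl : wf idl = true := by decide

theorem lfun_idl : lfun idl = id := by
  funext p; revert p; decide

theorem getD_lt {l : List ℕ} (h : wf l = true) {i : ℕ} (hi : i < 24) : l.getD i 0 < 24 := by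
  rw [wf_iff] at h
  rw [List.getD_eq_getElem _ _ (by omega)]
  exact h.2 _ (List.getElem_mem _)

theorem wf_lmul {a b : List ℕ} (ha : wf a = true) (hb : wf b = true) : wf (lmul a b) = true := by
  rw [wf_iff] at hb ⊢
  refine ⟨by simp [lmul, hb.1], ?_⟩
  intro x hx
  simp only [lmul, List.mem_map] at hx
  obtain ⟨i, hi, rfl⟩ := hx
  exact getD_lt ha (hb.2 i hi)

theorem lfun_lmul (a : List ℕ) {b : List ℕ} (hb : wf b = true) :
    lfun (lmul a b) = lfun a ∘ lfun b := by
  funext p
  have hb' := (wf_iff b).mp hb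
  have hp := idx_lt p
  have h1 : idx p < b.length := by omega
  simp only [lfun, Function.comp, lmul]
  rw [List.getD_eq_getElem _ _ (by simpa using h1), List.getElem_map,
    List.getD_eq_getElem b 0 h1, idx_pt _ (hb'.2 _ (List.getElem_mem _))]

/-- a list represents an element of the subgroup `H`. -/
def Rep (H : Subgroup (Equiv.Perm GolayPt)) (l : List ℕ) : Prop :=
  wf l = true ∧ ∃ g ∈ H, ⇑g = lfun l

theorem Rep.one (H : Subgroup (Equiv.Perm GolayPt)) : Rep H idl :=
  ⟨wf_idl, 1, H.one_mem, by rw [lfun_idl]; rfl⟩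

theorem Rep.mul {H : Subgroup (Equiv.Perm GolayPt)} {a b : List ℕ} (ha : Rep H a) (hb : Rep H b) :
    Rep H (lmul a b) := by
  obtain ⟨wa, g, hg, hga⟩ := ha
  obtain ⟨wb, h, hh, hhb⟩ := hb
  refine ⟨wf_lmul wa wb, g * h, H.mul_mem hg hh, ?_⟩
  rw [lfun_lmul a wb, ← hga, ← hhb]; rfl

theorem Rep.mono {H K : Subgroup (Equiv.Perm GolayPt)} (h : H ≤ K) {a : List ℕ} (ha : Rep H a) :
    Rep K a := by
  obtain ⟨wa, g, hg, hga⟩ := ha
  exact ⟨wa, g, h hg, hga⟩

/-- a permutation whose function is given by a well-formed list is represented by it -/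
theorem Rep.of_mem {H : Subgroup (Equiv.Perm GolayPt)} {g : Equiv.Perm GolayPt} (hg : g ∈ H)
    (l : List ℕ) (hl : wf l = true) (h : ∀ p, g p = lfun l p) : Rep H l :=
  ⟨hl, g, hg, funext h⟩

/-! ### straight-line programs -/

def slpStep (acc : List (List ℕ)) (ij : ℕ × ℕ) : List (List ℕ) :=
  acc ++ [lmul (acc.getD ij.1 idl) (acc.getD ij.2 idl)]

def slpRun (gens : List (List ℕ)) (prog : List (ℕ × ℕ)) : List (List ℕ) :=
  prog.foldl slpStep gens

theorem rep_getD {H : Subgroup (Equiv.Perm GolayPt)} {E : List (List ℕ)}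
    (hE : ∀ l ∈ E, Rep H l) (i : ℕ) : Rep H (E.getD i idl) := by
  by_cases hi : i < E.length
  · rw [List.getD_eq_getElem _ _ hi]; exact hE _ (List.getElem_mem _)
  · rw [List.getD_eq_default _ _ (not_lt.mp hi)]; exact Rep.one H

theorem rep_slpRun {H : Subgroup (Equiv.Perm GolayPt)} (prog : List (ℕ × ℕ))
    (gens : List (List ℕ)) (hg : ∀ l ∈ gens, Rep H l) : ∀ l ∈ slpRun gens prog, Rep H l := by
  induction prog generalizing gens with
  | nil => exact hg
  | cons ij prog ih =>
    rw [slpRun, List.foldl_cons]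
    apply ih
    intro l hl
    rw [slpStep, List.mem_append, List.mem_singleton] at hl
    rcases hl with hl | rfl
    · exact hg l hl
    · exact Rep.mul (rep_getD hg _) (rep_getD hg _)

/-! ### Schreier trees -/

/-- does the list-permutation `s` fix all the indices in `fixed`? -/
def fixesAll (s : List ℕ) (fixed : List ℕ) : Bool := fixed.all (fun b => s.getD b 0 == b)

def treeStep (E : List (List ℕ)) (fixed : List ℕ) (reached : List ℕ) (e : ℕ × ℕ) : List ℕ :=
  if fixesAll (E.getD e.2 idl) fixed && reached.contains e.1 then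
    (E.getD e.2 idl).getD e.1 0 :: reached
  else reached

def treeRun (E : List (List ℕ)) (fixed : List ℕ) (root : ℕ) (cert : List (ℕ × ℕ)) : List ℕ :=
  cert.foldl (treeStep E fixed) [root]

/-- the invariant of the tree walk -/
def Reach (H : Subgroup (Equiv.Perm GolayPt)) (fixed : List ℕ) (root q : ℕ) : Prop :=
  q < 24 ∧ ∃ g ∈ fixL H (fixed.map pt), g (pt root) = pt q

theorem reach_step {H : Subgroup (Equiv.Perm GolayPt)} {fixed : List ℕ} {root p : ℕ}
    (hp : Reach H fixed root p) {s : List ℕ} (hs : Rep H s) (hfix : fixesAll s fixed = true) :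
    Reach H fixed root (s.getD p 0) := by
  obtain ⟨hp24, g, hg, hgp⟩ := hp
  obtain ⟨ws, h, hh, hhs⟩ := hs
  refine ⟨getD_lt ws hp24, h * g, ?_, ?_⟩
  · apply (fixL H (fixed.map pt)).mul_mem _ hg
    rw [mem_fixL]
    refine ⟨hh, ?_⟩
    intro x hx
    rw [List.mem_map] at hx
    obtain ⟨b, hb, rfl⟩ := hx
    rw [fixesAll, List.all_eq_true] at hfix
    have := hfix b hb
    rw [beq_iff_eq] at this
    rw [hhs, lfun]
    by_cases hb24 : b < 24
    · rw [idx_pt b hb24, this]
    · -- pt b for b ≥ 24 is `some (b : ZMod 23)`; handle through idx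
      have h2 : pt (idx (pt b)) = pt b := pt_idx _
      have hws := (wf_iff s).mp ws
      have : s.getD b 0 = 0 := by
        rw [List.getD_eq_default]; omega
      omega
  · rw [Equiv.Perm.mul_apply, hgp, hhs, lfun, idx_pt p hp24]

theorem reach_treeRun {H : Subgroup (Equiv.Perm GolayPt)} {E : List (List ℕ)}
    (hE : ∀ l ∈ E, Rep H l) (fixed : List ℕ) (root : ℕ) (hroot : root < 24)
    (cert : List (ℕ × ℕ)) : ∀ q ∈ treeRun E fixed root cert, Reach H fixed root q := by
  suffices h : ∀ (cert : List (ℕ × ℕ)) (reached : List ℕ),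
      (∀ q ∈ reached, Reach H fixed root q) →
      ∀ q ∈ cert.foldl (treeStep E fixed) reached, Reach H fixed root q by
    apply h cert [root]
    intro q hq
    rw [List.mem_singleton] at hq
    subst hq
    exact ⟨hroot, 1, (fixL H _).one_mem, rfl⟩
  intro cert
  induction cert with
  | nil => intro reached h; exact h
  | cons e cert ih =>
    intro reached h
    rw [List.foldl_cons]
    apply ih
    intro q hq
    rw [treeStep] at hq
    split_ifs at hq with hc
    · rw [Bool.and_eq_true] at hc
      rw [List.mem_cons] at hq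
      rcases hq with rfl | hq
      · apply reach_step (h _ _) (rep_getD hE _) hc.1
        simpa using hc.2
      · exact h q hq
    · exact h q hq

end Cfsg.Agent.Lib.Helper6.Golay
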