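import Cfsg.Agent.Lib.Helper6.GolayWeights

/-!
# The punctured Golay code of length 23: weight distribution
-/

set_option autoImplicit false

namespace Cfsg.Agent.Lib.Helper6.Golay

open Cfsg

/-- puncturing at the extra point -/
def punct (w : GolayPt → ZMod 2) : ZMod 23 → ZMod 2 := fun x => w (some x)

/-- the punctured word of the `m`-th codeword -/
def pun (m : ℕ) : ZMod 23 → ZMod 2 := punct (dec (combo m))

theorem hammingNorm_punct_dec (n : ℕ) : hammingNorm (punct (dec n)) = pc 23 n := by
  rw [pc_eq_card, hammingNorm]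
  have : (Finset.univ.filter (fun x : ZMod 23 => punct (dec n) x ≠ 0))
      = Finset.univ.filter (fun x : ZMod 23 => n.testBit x.val) := by
    apply Finset.filter_congr
    intro x _
    show (if n.testBit x.val then (1 : ZMod 2) else 0) ≠ 0 ↔ n.testBit x.val = true
    cases h : n.testBit x.val <;> simp
  rw [this]
  apply Finset.card_bij (fun x _ => x.val)
  · intro x hx
    simp only [Finset.mem_filter, Finset.mem_univ, true_and] at hx
    simp only [Finset.mem_filter, Finset.mem_range]
    exact ⟨ZMod.val_lt x, hx⟩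
  · intro x _ y _ h
    exact ZMod.val_injective 23 h
  · intro i hi
    simp only [Finset.mem_filter, Finset.mem_range] at hi
    refine ⟨(i : ZMod 23), ?_, ZMod.val_cast_of_lt hi.1⟩
    simp only [Finset.mem_filter, Finset.mem_univ, true_and, ZMod.val_cast_of_lt hi.1]
    exact hi.2

theorem hammingNorm_le_punct (w : GolayPt → ZMod 2) : hammingNorm w ≤ 1 + hammingNorm (punct w) := by
  have hsub : (Finset.univ.filter (fun p : GolayPt => w p ≠ 0)) ⊆
      insert none ((Finset.univ.filter (fun x : ZMod 23 => w (some x) ≠ 0)).image some) := by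
    intro p hp
    rw [Finset.mem_filter] at hp
    cases p with
    | none => exact Finset.mem_insert_self _ _
    | some x =>
      apply Finset.mem_insert_of_mem
      exact Finset.mem_image.mpr ⟨x, Finset.mem_filter.mpr ⟨Finset.mem_univ _, hp.2⟩, rfl⟩
  have h1 := Finset.card_le_card hsub
  have h2 := Finset.card_insert_le none
    ((Finset.univ.filter (fun x : ZMod 23 => w (some x) ≠ 0)).image some)
  rw [Finset.card_image_of_injective _ (Option.some_injective _)] at h2
  have e1 : hammingNorm w = (Finset.univ.filter (fun p : GolayPt => w p ≠ 0)).card := rfl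
  have e2 : hammingNorm (punct w) = (Finset.univ.filter (fun x : ZMod 23 => w (some x) ≠ 0)).card :=
    rfl
  omega

/-- puncturing is injective on the code -/
theorem punct_injOn {w w' : GolayPt → ZMod 2} (hw : w ∈ golayCode) (hw' : w' ∈ golayCode)
    (h : punct w = punct w') : w = w' := by
  have hww : w - w' ∈ golayCode := golayCode.sub_mem hw hw'
  have h0 : punct (w - w') = 0 := by
    funext x
    have := congrFun h x
    simp only [punct, Pi.sub_apply, Pi.zero_apply] at this ⊢
    rw [this, sub_self]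
  have h1 := hammingNorm_le_punct (w - w')
  rw [h0, hammingNorm_zero] at h1
  by_contra hne
  have := eight_le_hammingNorm _ hww (sub_ne_zero.mpr hne)
  omega

theorem pun_injOn : Set.InjOn pun (↑(Finset.range 4096) : Set ℕ) := by
  intro a ha b hb h
  simp only [Finset.coe_range, Set.mem_Iio] at ha hb
  have h1 := punct_injOn (dec_combo_mem a) (dec_combo_mem b) h
  exact combo_injOn ha hb ((dec_eq_iff (combo_lt a ha) (combo_lt b hb)).mp h1)

/-- the punctured code, as in the statement -/
def puncturedSet : Set (ZMod 23 → ZMod 2) :=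
  {u | ∃ w ∈ golayCode, ∀ x : ZMod 23, u x = w (some x)}

theorem puncturedSet_eq : puncturedSet = pun '' (↑(Finset.range 4096) : Set ℕ) := by
  ext u
  simp only [puncturedSet, Set.mem_ofPred_eq, Set.mem_image, Finset.coe_range, Set.mem_Iio]
  constructor
  · rintro ⟨w, hw, hu⟩
    obtain ⟨m, hm, rfl⟩ := (mem_golayCode_iff w).mp hw
    exact ⟨m, hm, (funext hu).symm⟩
  · rintro ⟨m, hm, rfl⟩
    exact ⟨dec (combo m), dec_combo_mem m, fun x => rfl⟩

theorem ncard_puncturedSet : puncturedSet.ncard = 4096 := by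
  rw [puncturedSet_eq, Set.InjOn.ncard_image pun_injOn, Set.ncard_coe_finset, Finset.card_range]

theorem ncard_punctured_weight (k : ℕ) :
    {u : ZMod 23 → ZMod 2 | u ∈ puncturedSet ∧ hammingNorm u = k}.ncard =
      countBelow (fun m => pc 23 (combo m) == k) 4096 := by
  have : {u : ZMod 23 → ZMod 2 | u ∈ puncturedSet ∧ hammingNorm u = k} =
      pun '' (↑((Finset.range 4096).filter (fun m => (pc 23 (combo m) == k) = true)) : Set ℕ) := by
    ext u
    simp only [puncturedSet_eq, Set.mem_ofPred_eq, Set.mem_image, Finset.coe_range, Set.mem_Iio,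
      Finset.coe_filter, Finset.mem_range, beq_iff_eq]
    constructor
    · rintro ⟨⟨m, hm, rfl⟩, hk⟩
      refine ⟨m, ⟨hm, ?_⟩, rfl⟩
      rw [← hammingNorm_punct_dec]; exact hk
    · rintro ⟨m, ⟨hm, hk⟩, rfl⟩
      refine ⟨⟨m, hm, rfl⟩, ?_⟩
      rw [pun, hammingNorm_punct_dec]; exact hk
  rw [this, countBelow_eq_card, Set.InjOn.ncard_image, Set.ncard_coe_finset]
  apply pun_injOn.mono
  intro m hm
  simp only [Finset.coe_filter, Set.mem_ofPred_eq] at hm
  simpa using hm.1

set_option maxHeartbeats 4000000 in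
theorem punct_counts :
    countBelow (fun m => pc 23 (combo m) == 7) 4096 = 253 ∧
    countBelow (fun m => pc 23 (combo m) == 8) 4096 = 506 ∧
    countBelow (fun m => pc 23 (combo m) == 11) 4096 = 1288 ∧
    countBelow (fun m => pc 23 (combo m) == 12) 4096 = 1288 ∧
    countBelow (fun m => pc 23 (combo m) == 15) 4096 = 506 ∧
    countBelow (fun m => pc 23 (combo m) == 16) 4096 = 253 := by
  decide +kernel

set_option maxHeartbeats 4000000 in
theorem punct_minwt : allBelow (fun m => (m == 0) || decide (7 ≤ pc 23 (combo m))) 4096 = true := by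
  decide +kernel

theorem seven_le_hammingNorm_punctured {u : ZMod 23 → ZMod 2} (hu : u ∈ puncturedSet)
    (h0 : u ≠ 0) : 7 ≤ hammingNorm u := by
  rw [puncturedSet_eq] at hu
  obtain ⟨m, hm, rfl⟩ := hu
  simp only [Finset.coe_range, Set.mem_Iio] at hm
  have := allBelow_spec _ _ punct_minwt m hm
  simp only [Bool.or_eq_true, beq_iff_eq, decide_eq_true_eq] at this
  rcases this with rfl | h
  · exfalso
    apply h0
    funext x
    simp [pun, punct, combo_zero, dec_zero]
  · rw [pun, hammingNorm_punct_dec]; exact h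

/-- **Weight distribution of the punctured code of length 23.** -/
theorem punctured_weights :
    puncturedSet.ncard = 4096 ∧
    {u : ZMod 23 → ZMod 2 | u ∈ puncturedSet ∧ hammingNorm u = 7}.ncard = 253 ∧
    {u : ZMod 23 → ZMod 2 | u ∈ puncturedSet ∧ hammingNorm u = 8}.ncard = 506 ∧
    {u : ZMod 23 → ZMod 2 | u ∈ puncturedSet ∧ hammingNorm u = 11}.ncard = 1288 ∧
    {u : ZMod 23 → ZMod 2 | u ∈ puncturedSet ∧ hammingNorm u = 12}.ncard = 1288 ∧
    {u : ZMod 23 → ZMod 2 | u ∈ puncturedSet ∧ hammingNorm u = 15}.ncard = 506 ∧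
    {u : ZMod 23 → ZMod 2 | u ∈ puncturedSet ∧ hammingNorm u = 16}.ncard = 253 ∧
    ∀ u ∈ puncturedSet, u ≠ 0 → 7 ≤ hammingNorm u := by
  obtain ⟨c7, c8, c11, c12, c15, c16⟩ := punct_counts
  refine ⟨ncard_puncturedSet, ?_, ?_, ?_, ?_, ?_, ?_, fun u hu h0 =>
    seven_le_hammingNorm_punctured hu h0⟩
  · rw [ncard_punctured_weight, c7]
  · rw [ncard_punctured_weight, c8]
  · rw [ncard_punctured_weight, c11]
  · rw [ncard_punctured_weight, c12]
  · rw [ncard_punctured_weight, c15]
  · rw [ncard_punctured_weight, c16]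

end Cfsg.Agent.Lib.Helper6.Golay
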