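import Cfsg.Agent.Lib.Helper6.GolayQKerData
import Cfsg.Agent.Lib.Helper6.GolayFixCount

/-!
# The reference quartet: the normal subgroup of order nine of its stabilizer
-/

set_option autoImplicit false

namespace Cfsg.Agent.Lib.Helper6.Golay

open Cfsg
open Cfsg.Agent.Lib.Helper6.PermChain
open scoped Pointwise

/-! ### the reference pair -/

theorem hQ1_mem : hQ1 ∈ qkAll := by simp [qkAll]
theorem qn1_mem : qn1 ∈ qkAll := by simp [qkAll]
theorem qn2_mem : qn2 ∈ qkAll := by simp [qkAll]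

theorem qkreps_sub : ∀ t ∈ qkreps, t ∈ qkAll := by
  intro t ht
  simp only [qkAll, List.mem_append]
  exact Or.inl (Or.inl (Or.inr ht))

theorem qcreps_sub : ∀ t ∈ qcreps, t ∈ qkAll := by
  intro t ht
  simp only [qkAll, List.mem_append]
  exact Or.inl (Or.inr ht)

theorem qwit_sub : ∀ t ∈ qwit, t ∈ qkAll := by
  intro t ht
  simp only [qkAll, List.mem_append]
  exact Or.inr ht

theorem hQ1_dodecad : lmask hQ1 dodecad0 = dodecad1 := by decide +kernel

theorem hQ1_quartet : smapS hQ1 quartet0C = quartet1C := by decide +kernel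

theorem canon_quartet1C : canonB quartet1C = true := by decide +kernel

/-- the reference dodecad -/
abbrev dod1 : Finset GolayPt := fs dodecad1

/-- the reference quartet -/
abbrev qrt1 : Finset (Finset GolayPt) := fss quartet1C

theorem exists_hQ1 : ∃ u ∈ M24, u • fs dodecad0 = dod1 ∧ u • fss quartet0C = qrt1 := by
  obtain ⟨wu, u, hu, huf⟩ := rep_qkAll hQ1 hQ1_mem
  refine ⟨u, hu, ?_, ?_⟩
  · rw [smul_fs wu huf, hQ1_dodecad]
  · rw [smul_fss wu huf, hQ1_quartet]

theorem dod1_mem : dod1 ∈ dodecads := by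
  obtain ⟨u, hu, h1, -⟩ := exists_hQ1
  rw [← h1]
  exact smul_mem_dodecads hu dodecad0_mem

theorem qrt1_mem : qrt1 ∈ quartets dod1 := by
  obtain ⟨u, hu, h1, h2⟩ := exists_hQ1
  rw [← h1, ← h2]
  exact smul_mem_quartets hu quartet0_mem

/-- every pair (dodecad, quartet) is a translate of the reference pair -/
theorem exists_to_qrt1 {d : Finset GolayPt} (hd : d ∈ dodecads) {Q : Finset (Finset GolayPt)}
    (hQ : Q ∈ quartets d) : ∃ t ∈ M24, t • dod1 = d ∧ t • qrt1 = Q := by
  obtain ⟨s, hs, rfl⟩ := cwReach_dodecad hd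
  have hQ1 : s⁻¹ • Q ∈ quartets (fs dodecad0) := by
    have := smul_mem_quartets (M24.inv_mem hs) hQ
    rwa [inv_smul_smul] at this
  obtain ⟨m, hm, hmd, hmQ⟩ := exists_stab_dodecad_quartet dodecad0_mem quartet0_mem hQ1
  obtain ⟨u, hu, h1, h2⟩ := exists_hQ1
  refine ⟨s * m * u⁻¹, M24.mul_mem (M24.mul_mem hs hm) (M24.inv_mem hu), ?_, ?_⟩
  · rw [← h1, mul_smul, inv_smul_smul, mul_smul, hmd]
  · rw [← h2, mul_smul, inv_smul_smul, mul_smul, hmQ, smul_inv_smul]

/-! ### the kernel of the action on the four triads -/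

/-- the candidates -/
def qkCand : List (List ℕ) := qkreps.flatMap (fun t => T5.map (lmul t))

/-- the list permutations of order dividing three fixing every triad -/
def qcubeL : List (List ℕ) := qkCand.filter (fun m => stabAll m quartet1C && isOrd3L m)

set_option maxHeartbeats 4000000 in
set_option maxRecDepth 100000 in
theorem qcubeL_eq : qcubeL = qN9 := by decide +kernel

theorem qN9_nodup : qN9.Nodup := by decide +kernel

theorem qN9_length : qN9.length = 9 := by decide

theorem qN9_closed : qN9.all (fun a => qN9.all (fun b => isOrd3L (lmul a b) &&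
    (lmul a b == lmul b a))) = true := by decide +kernel

theorem qN9_gens : qN9.contains qn1 && qN9.contains qn2 && qN9.contains qnC = true := by
  decide +kernel

set_option maxHeartbeats 4000000 in
set_option maxRecDepth 100000 in
theorem qkreps_cover : [23, 0, 1].all (fun a => [23, 0, 1].all (fun b =>
    [23, 0, 1].all (fun c => [2, 3, 14].all (fun d => [2, 3, 14].all (fun e =>
      (a == b || a == c || b == c || d == e) ||
      qkreps.any (fun t => t.getD 23 0 == a && t.getD 0 0 == b && t.getD 1 0 == c &&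
        t.getD 2 0 == d && t.getD 3 0 == e)))))) = true := by
  decide +kernel

theorem rep_qkCand : ∀ m ∈ qkCand, Rep M24 m := by
  intro m hm
  rw [qkCand, List.mem_flatMap] at hm
  obtain ⟨t, ht, hm⟩ := hm
  rw [List.mem_map] at hm
  obtain ⟨l, hl, rfl⟩ := hm
  exact Rep.mul (rep_qkAll t (qkreps_sub t ht)) (rep_T5 l hl)

/-- the kernel of the reference quartet -/
abbrev qK1 : Subgroup (Equiv.Perm GolayPt) := stabM M24 quartet1C

theorem qstabAll_iff {g : Equiv.Perm GolayPt} {m : List ℕ} (hm : wf m = true) (hg : ⇑g = lfun m)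
    (hM : g ∈ M24) : g ∈ qK1 ↔ stabAll m quartet1C = true := by
  rw [mem_stabM, stabAll, List.all_eq_true]
  constructor
  · rintro ⟨-, h⟩ a ha
    rw [beq_iff_eq]
    have h1 := h a ha
    rw [smul_fs hm hg] at h1
    refine fs_injOn (lmask_lt m hm a) ?_ h1
    have : quartet1C.all (fun a => decide (a < 2 ^ 24)) = true := by decide
    simpa using List.all_eq_true.mp this a ha
  · intro h
    refine ⟨hM, fun a ha => ?_⟩
    have := h a ha
    rw [beq_iff_eq] at this
    rw [smul_fs hm hg, this]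

theorem mem_set_of_smul {g : Equiv.Perm GolayPt} {a : ℕ} (h : g • fs a = fs a) {i : ℕ} (hi : i < 24)
    (hia : a.testBit i = true) : a.testBit (idx (g (pt i))) = true := by
  have h1 : g (pt i) ∈ g • fs a := by
    rw [← Equiv.Perm.smul_def]
    exact Finset.smul_mem_smul_finset (mem_fs.mpr (by rw [idx_pt i hi]; exact hia))
  rw [h] at h1
  exact mem_fs.mp h1

theorem testBit_triad1 {j : ℕ} (hj : j < 24) (h : (8388611).testBit j = true) :
    j ∈ [23, 0, 1] := by
  have : ∀ j < 24, (8388611).testBit j = true → j ∈ [23, 0, 1] := by decide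
  exact this j hj h

theorem testBit_triad2 {j : ℕ} (hj : j < 24) (h : (16396).testBit j = true) :
    j ∈ [2, 3, 14] := by
  have : ∀ j < 24, (16396).testBit j = true → j ∈ [2, 3, 14] := by decide
  exact this j hj h

theorem idx_apply_ne {g : Equiv.Perm GolayPt} {i j : ℕ} (hi : i < 24) (hj : j < 24)
    (hij : i ≠ j) : idx (g (pt i)) ≠ idx (g (pt j)) := by
  intro e
  have e1 : g (pt i) = g (pt j) := by rw [← pt_idx (g (pt i)), e, pt_idx]
  exact hij (pt_injOn hi hj (g.injective e1))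

/-- the elements of order dividing three fixing every triad of the reference quartet -/
def cube1 : Set (Equiv.Perm GolayPt) := {g | g ∈ qK1 ∧ g * (g * g) = 1}

/-- normal form of the elements of `cube1` -/
theorem cube1_nf {g : Equiv.Perm GolayPt} (hg : g ∈ cube1) :
    ∃ m ∈ qN9, ⇑g = lfun m ∧ wf m = true := by
  obtain ⟨hK, h3⟩ := hg
  obtain ⟨hM, hfix⟩ := mem_stabM.mp hK
  have f0 : g • fs 8388611 = fs 8388611 := hfix _ (by simp [quartet1C])
  have f1 : g • fs 16396 = fs 16396 := hfix _ (by simp [quartet1C])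
  have ha := testBit_triad1 (idx_lt _) (mem_set_of_smul f0 (i := 23) (by norm_num) (by decide))
  have hb := testBit_triad1 (idx_lt _) (mem_set_of_smul f0 (i := 0) (by norm_num) (by decide))
  have hc := testBit_triad1 (idx_lt _) (mem_set_of_smul f0 (i := 1) (by norm_num) (by decide))
  have hd := testBit_triad2 (idx_lt _) (mem_set_of_smul f1 (i := 2) (by norm_num) (by decide))
  have he := testBit_triad2 (idx_lt _) (mem_set_of_smul f1 (i := 3) (by norm_num) (by decide))
  have hcov := List.all_eq_true.mp (List.all_eq_true.mp (List.all_eq_true.mp (List.all_eq_true.mp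
    (List.all_eq_true.mp qkreps_cover _ ha) _ hb) _ hc) _ hd) _ he
  rw [Bool.or_eq_true] at hcov
  have hdist : ¬ ((idx (g (pt 23)) == idx (g (pt 0)) || idx (g (pt 23)) == idx (g (pt 1)) ||
      idx (g (pt 0)) == idx (g (pt 1)) || idx (g (pt 2)) == idx (g (pt 3))) = true) := by
    simp only [Bool.or_eq_true, beq_iff_eq, not_or]
    exact ⟨⟨⟨idx_apply_ne (by norm_num) (by norm_num) (by norm_num),
      idx_apply_ne (by norm_num) (by norm_num) (by norm_num)⟩,
      idx_apply_ne (by norm_num) (by norm_num) (by norm_num)⟩,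
      idx_apply_ne (by norm_num) (by norm_num) (by norm_num)⟩
  have hcov := hcov.resolve_left hdist
  rw [List.any_eq_true] at hcov
  obtain ⟨t, ht, hagree⟩ := hcov
  simp only [Bool.and_eq_true, beq_iff_eq] at hagree
  obtain ⟨⟨⟨⟨a23, a0⟩, a1⟩, a2⟩, a3⟩ := hagree
  have hrep : Rep M24 t := rep_qkAll t (qkreps_sub t ht)
  obtain ⟨l, hl, hlf⟩ := coset_nf hrep hM (by
    intro b hb
    simp only [List.mem_cons, List.not_mem_nil, or_false] at hb
    rcases hb with rfl | rfl | rfl | rfl | rfl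
    · rw [a23, pt_idx]
    · rw [a0, pt_idx]
    · rw [a1, pt_idx]
    · rw [a2, pt_idx]
    · rw [a3, pt_idx])
  have hwm : wf (lmul t l) = true := wf_lmul hrep.1 (rep_T5 l hl).1
  refine ⟨lmul t l, ?_, hlf, hwm⟩
  rw [← qcubeL_eq, qcubeL, List.mem_filter]
  refine ⟨?_, ?_⟩
  · rw [qkCand, List.mem_flatMap]
    exact ⟨t, ht, List.mem_map.mpr ⟨l, hl, rfl⟩⟩
  · rw [Bool.and_eq_true]
    exact ⟨(qstabAll_iff hwm hlf hM).mp hK, isOrd3L_of hwm hlf h3⟩

theorem qN9_rep {m : List ℕ} (hm : m ∈ qN9) : ∃ g ∈ cube1, ⇑g = lfun m ∧ wf m = true := by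
  rw [← qcubeL_eq, qcubeL, List.mem_filter, Bool.and_eq_true] at hm
  obtain ⟨hc, hs, h3⟩ := hm
  obtain ⟨wm, g, hg, hgf⟩ := rep_qkCand m hc
  refine ⟨g, ⟨(qstabAll_iff wm hgf hg).mpr hs, mul_cube_of_lfun wm hgf ?_⟩, hgf, wm⟩
  rw [isOrd3L, beq_iff_eq] at h3
  exact h3

theorem card_cube1 : Nat.card cube1 = 9 := by
  have h := card_set_of_list cube1 qN9 qN9_nodup
    (fun l hl => (qN9_rep hl).choose_spec.2.2)
    (fun g hg => by
      obtain ⟨m, hm, hgm, -⟩ := cube1_nf hg
      exact ⟨m, hm, hgm⟩)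
    (fun l hl => by
      obtain ⟨g, hg, hgl, -⟩ := qN9_rep hl
      exact ⟨g, hg, hgl⟩)
  rw [qN9_length] at h
  exact h

theorem lfun_mul {a b : Equiv.Perm GolayPt} {ma mb : List ℕ} (wb : wf mb = true)
    (ha : ⇑a = lfun ma) (hb : ⇑b = lfun mb) : ⇑(a * b) = lfun (lmul ma mb) := by
  rw [lfun_lmul ma wb, ← ha, ← hb]
  rfl

theorem cube1_mul {a b : Equiv.Perm GolayPt} (ha : a ∈ cube1) (hb : b ∈ cube1) :
    (a * b) * ((a * b) * (a * b)) = 1 ∧ a * b = b * a := by
  obtain ⟨ma, hma, hfa, wa⟩ := cube1_nf ha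
  obtain ⟨mb, hmb, hfb, wb⟩ := cube1_nf hb
  have h := List.all_eq_true.mp (List.all_eq_true.mp qN9_closed ma hma) mb hmb
  rw [Bool.and_eq_true, isOrd3L, beq_iff_eq, beq_iff_eq] at h
  refine ⟨mul_cube_of_lfun (wf_lmul wa wb) (lfun_mul wb hfa hfb) h.1, ?_⟩
  apply DFunLike.coe_injective
  rw [lfun_mul wb hfa hfb, lfun_mul wa hfb hfa, h.2]

/-! ### the centralizer of the subgroup of order nine -/

/-- the points of the reference dodecad -/
def d1bits : List ℕ := [0, 1, 2, 3, 4, 9, 12, 14, 18, 20, 22, 23]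

theorem testBit_dod1 {j : ℕ} (hj : j < 24) (h : dodecad1.testBit j = true) : j ∈ d1bits := by
  have : ∀ j < 24, dodecad1.testBit j = true → j ∈ d1bits := by decide
  exact this j hj h

/-- the list permutation stabilizes the reference quartet and commutes with the two generators -/
def qcentB (m : List ℕ) : Bool :=
  fixB m quartet1C && (lmul m qn1 == lmul qn1 m) && (lmul m qn2 == lmul qn2 m)

set_option maxHeartbeats 4000000 in
set_option maxRecDepth 100000 in
theorem qcreps_ok : qcreps.all (fun t => T5.all (fun l =>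
    !qcentB (lmul t l) || qN9.contains (lmul t l))) = true := by decide +kernel

set_option maxHeartbeats 4000000 in
set_option maxRecDepth 100000 in
theorem qcreps_cover : d1bits.all (fun a => d1bits.all (fun c =>
    (a == qn1.getD a 0 || a == qn1.getD (qn1.getD a 0) 0 || a == c || a == qnC.getD c 0 ||
      qn1.getD a 0 == qn1.getD (qn1.getD a 0) 0 || qn1.getD a 0 == c ||
      qn1.getD a 0 == qnC.getD c 0 || qn1.getD (qn1.getD a 0) 0 == c ||
      qn1.getD (qn1.getD a 0) 0 == qnC.getD c 0 || c == qnC.getD c 0) ||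
    qcreps.any (fun t => t.getD 23 0 == a && t.getD 0 0 == qn1.getD a 0 &&
      t.getD 1 0 == qn1.getD (qn1.getD a 0) 0 && t.getD 2 0 == c &&
      t.getD 3 0 == qnC.getD c 0))) = true := by
  decide +kernel

theorem wf_qn1 : wf qn1 = true := by decide
theorem wf_qn2 : wf qn2 = true := by decide
theorem wf_qnC : wf qnC = true := by decide

theorem comm_iff_list {c t : Equiv.Perm GolayPt} {m r : List ℕ} (hm : wf m = true)
    (hr : wf r = true) (hc : ⇑c = lfun m) (ht : ⇑t = lfun r) :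
    c * t = t * c ↔ lmul m r = lmul r m := by
  constructor
  · intro h
    apply lfun_injective (wf_lmul hm hr) (wf_lmul hr hm)
    rw [← lfun_mul hr hc ht, ← lfun_mul hm ht hc, h]
  · intro h
    apply DFunLike.coe_injective
    rw [lfun_mul hr hc ht, lfun_mul hm ht hc, h]

theorem exists_cube1_of_mem {m : List ℕ} (h : qN9.contains m = true) :
    ∃ u ∈ cube1, ⇑u = lfun m := by
  obtain ⟨g, hg, hgm, -⟩ := qN9_rep (by simpa using h)
  exact ⟨g, hg, hgm⟩

theorem qN9_gens' : qN9.contains qn1 = true ∧ qN9.contains qn2 = true ∧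
    qN9.contains qnC = true := by
  have := qN9_gens
  simp only [Bool.and_eq_true] at this
  exact ⟨this.1.1, this.1.2, this.2⟩

/-- **an element of `M24` stabilizing the reference quartet and centralizing the subgroup of order
nine lies in it** -/
theorem cube1_centralizer {g : Equiv.Perm GolayPt} (hM : g ∈ M24) (hQ : g • qrt1 = qrt1)
    (hc : ∀ n ∈ cube1, g * n = n * g) : g ∈ cube1 := by
  obtain ⟨u1, hu1, hf1⟩ := exists_cube1_of_mem qN9_gens'.1
  obtain ⟨u2, hu2, hf2⟩ := exists_cube1_of_mem qN9_gens'.2.1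
  obtain ⟨uC, huC, hfC⟩ := exists_cube1_of_mem qN9_gens'.2.2
  have c1 : ∀ p, g (u1 p) = u1 (g p) := fun p => by
    have := congrArg (fun f : Equiv.Perm GolayPt => f p) (hc u1 hu1)
    simpa using this
  have cC : ∀ p, g (uC p) = uC (g p) := fun p => by
    have := congrArg (fun f : Equiv.Perm GolayPt => f p) (hc uC huC)
    simpa using this
  have e0 : g (pt 0) = pt (qn1.getD (idx (g (pt 23))) 0) := by
    have h := c1 (pt 23)
    rw [hf1, lfun_pt qn1 (by norm_num), show qn1.getD 23 0 = 0 from rfl] at h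
    rw [h, lfun]
  have e1 : g (pt 1) = pt (qn1.getD (qn1.getD (idx (g (pt 23))) 0) 0) := by
    have h := c1 (pt 0)
    rw [hf1, lfun_pt qn1 (by norm_num), show qn1.getD 0 0 = 1 from rfl] at h
    rw [h, lfun, e0, idx_pt _ (getD_lt wf_qn1 (idx_lt _))]
  have e3 : g (pt 3) = pt (qnC.getD (idx (g (pt 2))) 0) := by
    have h := cC (pt 2)
    rw [hfC, lfun_pt qnC (by norm_num), show qnC.getD 2 0 = 3 from rfl] at h
    rw [h, lfun]
  have hd : g • dod1 = dod1 := smul_dodecad_of_smul_quartet dod1_mem qrt1_mem hQ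
  have ha := testBit_dod1 (idx_lt _) (mem_set_of_smul hd (i := 23) (by norm_num) (by decide))
  have hcc := testBit_dod1 (idx_lt _) (mem_set_of_smul hd (i := 2) (by norm_num) (by decide))
  have hcov := List.all_eq_true.mp (List.all_eq_true.mp qcreps_cover _ ha) _ hcc
  rw [Bool.or_eq_true] at hcov
  have i0 : idx (g (pt 0)) = qn1.getD (idx (g (pt 23))) 0 := by
    rw [e0, idx_pt _ (getD_lt wf_qn1 (idx_lt _))]
  have i1 : idx (g (pt 1)) = qn1.getD (qn1.getD (idx (g (pt 23))) 0) 0 := by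
    rw [e1, idx_pt _ (getD_lt wf_qn1 (getD_lt wf_qn1 (idx_lt _)))]
  have i3 : idx (g (pt 3)) = qnC.getD (idx (g (pt 2))) 0 := by
    rw [e3, idx_pt _ (getD_lt wf_qnC (idx_lt _))]
  have hdist : ¬ ((idx (g (pt 23)) == qn1.getD (idx (g (pt 23))) 0 ||
      idx (g (pt 23)) == qn1.getD (qn1.getD (idx (g (pt 23))) 0) 0 ||
      idx (g (pt 23)) == idx (g (pt 2)) || idx (g (pt 23)) == qnC.getD (idx (g (pt 2))) 0 ||
      qn1.getD (idx (g (pt 23))) 0 == qn1.getD (qn1.getD (idx (g (pt 23))) 0) 0 ||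
      qn1.getD (idx (g (pt 23))) 0 == idx (g (pt 2)) ||
      qn1.getD (idx (g (pt 23))) 0 == qnC.getD (idx (g (pt 2))) 0 ||
      qn1.getD (qn1.getD (idx (g (pt 23))) 0) 0 == idx (g (pt 2)) ||
      qn1.getD (qn1.getD (idx (g (pt 23))) 0) 0 == qnC.getD (idx (g (pt 2))) 0 ||
      idx (g (pt 2)) == qnC.getD (idx (g (pt 2))) 0) = true) := by
    rw [← i1, ← i0, ← i3]
    simp only [Bool.or_eq_true, beq_iff_eq, not_or]
    refine ⟨⟨⟨⟨⟨⟨⟨⟨⟨?_, ?_⟩, ?_⟩, ?_⟩, ?_⟩, ?_⟩, ?_⟩, ?_⟩, ?_⟩, ?_⟩ <;>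
      exact idx_apply_ne (by norm_num) (by norm_num) (by norm_num)
  have hcov := hcov.resolve_left hdist
  rw [List.any_eq_true] at hcov
  obtain ⟨t, ht, hagree⟩ := hcov
  simp only [Bool.and_eq_true, beq_iff_eq] at hagree
  obtain ⟨⟨⟨⟨a23, a0⟩, a1⟩, a2⟩, a3⟩ := hagree
  have hrep : Rep M24 t := rep_qkAll t (qcreps_sub t ht)
  obtain ⟨l, hl, hlf⟩ := coset_nf hrep hM (by
    intro b hb
    simp only [List.mem_cons, List.not_mem_nil, or_false] at hb
    rcases hb with rfl | rfl | rfl | rfl | rfl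
    · rw [a23, pt_idx]
    · rw [a0, e0]
    · rw [a1, e1]
    · rw [a2, pt_idx]
    · rw [a3, e3])
  have hwm : wf (lmul t l) = true := wf_lmul hrep.1 (rep_T5 l hl).1
  have hchk := List.all_eq_true.mp (List.all_eq_true.mp qcreps_ok t ht) l hl
  have hB : qcentB (lmul t l) = true := by
    rw [qcentB, Bool.and_eq_true, Bool.and_eq_true, beq_iff_eq, beq_iff_eq]
    exact ⟨⟨(smul_fss_eq_iff hwm hlf canon_quartet1C).mp hQ,
      (comm_iff_list hwm wf_qn1 hlf hf1).mp (hc u1 hu1)⟩,
      (comm_iff_list hwm wf_qn2 hlf hf2).mp (hc u2 hu2)⟩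
  rw [hB] at hchk
  obtain ⟨g', hg', hgf'⟩ := exists_cube1_of_mem (by simpa using hchk)
  have : g = g' := DFunLike.coe_injective (hlf.trans hgf'.symm)
  rw [this]; exact hg'

/-! ### transitivity on the dodecad -/

theorem qwit_ok : qwit.all (fun w => fixB w quartet1C) = true := by decide +kernel

theorem qwit_cover : d1bits.all (fun q => qwit.any (fun w => w.getD 23 0 == q)) = true := by
  decide +kernel

theorem exists_qstab_to {x : GolayPt} (hx : x ∈ dod1) :
    ∃ g ∈ M24, g • qrt1 = qrt1 ∧ g (pt 23) = x := by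
  have hq := testBit_dod1 (idx_lt x) (mem_fs.mp hx)
  have h := List.all_eq_true.mp qwit_cover _ hq
  rw [List.any_eq_true] at h
  obtain ⟨w, hw, hwq⟩ := h
  rw [beq_iff_eq] at hwq
  obtain ⟨ww, g, hg, hgf⟩ := rep_qkAll w (qwit_sub w hw)
  refine ⟨g, hg, ?_, ?_⟩
  · exact (smul_fss_eq_iff ww hgf canon_quartet1C).mpr (List.all_eq_true.mp qwit_ok w hw)
  · rw [hgf, lfun_pt w (by norm_num), hwq, pt_idx]

theorem qrt1_transitive {p q : GolayPt} (hp : p ∈ dod1) (hq : q ∈ dod1) :
    ∃ g ∈ M24, g • qrt1 = qrt1 ∧ g p = q := by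
  obtain ⟨a, ha, haQ, hap⟩ := exists_qstab_to hp
  obtain ⟨b, hb, hbQ, hbq⟩ := exists_qstab_to hq
  refine ⟨b * a⁻¹, M24.mul_mem hb (M24.inv_mem ha), ?_, ?_⟩
  · rw [mul_smul, inv_smul_eq_iff.mpr haQ.symm, hbQ]
  · rw [Equiv.Perm.mul_apply, ← hap, Equiv.Perm.inv_def, Equiv.symm_apply_apply, hbq]

end Cfsg.Agent.Lib.Helper6.Golay
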