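import Cfsg.Agent.Lib.Helper6.GolayQKer
import Cfsg.Agent.Lib.Helper6.ElemAbGL6

/-!
# Structure of a quartet stabilizer

The stabilizer of a quartet of a dodecad has order 432, is transitive on the dodecad, and has a
normal subgroup of order nine whose quotient is `GL(2, 3)` (acting faithfully by conjugation).
-/

set_option autoImplicit false

namespace Cfsg.Agent.Lib.Helper6.Golay

open Cfsg
open Cfsg.Agent.Lib.Helper6.PermChain
open scoped Pointwise

/-- the elements of order dividing three fixing every member of `Q` -/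
def cubeSx (Q : Finset (Finset GolayPt)) : Set (Equiv.Perm GolayPt) :=
  {g | g ∈ kerSx Q ∧ g * (g * g) = 1}

theorem kerSx_qrt1 : kerSx qrt1 = qK1 := by
  ext g
  rw [mem_kerSx, mem_stabM]
  constructor
  · rintro ⟨hM, h⟩
    exact ⟨hM, fun m hm => h (fs m) (mem_fss.mpr ⟨m, hm, rfl⟩)⟩
  · rintro ⟨hM, h⟩
    refine ⟨hM, fun t ht => ?_⟩
    obtain ⟨a, ha, rfl⟩ := mem_fss.mp ht
    exact h a ha

theorem cubeSx_qrt1 : cubeSx qrt1 = cube1 := by
  rw [cubeSx, kerSx_qrt1]; rfl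

theorem mem_cubeSx_smul {h : Equiv.Perm GolayPt} (hh : h ∈ M24) (Q : Finset (Finset GolayPt))
    (g : Equiv.Perm GolayPt) : g ∈ cubeSx (h • Q) ↔ h⁻¹ * g * h ∈ cubeSx Q := by
  have e : h⁻¹ * g * h * (h⁻¹ * g * h * (h⁻¹ * g * h)) = h⁻¹ * (g * (g * g)) * h := by group
  constructor
  · rintro ⟨h1, h2⟩
    exact ⟨(mem_kerSx_smul hh Q g).mp h1, by rw [e, h2]; group⟩
  · rintro ⟨h1, h2⟩
    refine ⟨(mem_kerSx_smul hh Q g).mpr h1, ?_⟩
    rw [e] at h2
    have : g * (g * g) = h * (h⁻¹ * (g * (g * g)) * h) * h⁻¹ := by group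
    rw [this, h2]; group

section general

variable {d : Finset GolayPt} (hd : d ∈ dodecads) {Q : Finset (Finset GolayPt)}
  (hQ : Q ∈ quartets d)

include hd hQ

theorem card_cubeSx : Nat.card (cubeSx Q) = 9 := by
  obtain ⟨t, ht, rfl, rfl⟩ := exists_to_qrt1 hd hQ
  have := card_eq_of_conj (A := cubeSx (t • qrt1)) (B := cubeSx qrt1) t
    (fun g => mem_cubeSx_smul ht qrt1 g)
  rw [cubeSx_qrt1] at this
  exact this.trans card_cube1

theorem cubeSx_mul {a b : Equiv.Perm GolayPt} (ha : a ∈ cubeSx Q) (hb : b ∈ cubeSx Q) :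
    (a * b) * ((a * b) * (a * b)) = 1 ∧ a * b = b * a := by
  obtain ⟨t, ht, rfl, rfl⟩ := exists_to_qrt1 hd hQ
  have ha' := (mem_cubeSx_smul ht qrt1 a).mp ha
  have hb' := (mem_cubeSx_smul ht qrt1 b).mp hb
  rw [cubeSx_qrt1] at ha' hb'
  obtain ⟨h1, h2⟩ := cube1_mul ha' hb'
  constructor
  · have e : t⁻¹ * a * t * (t⁻¹ * b * t) * (t⁻¹ * a * t * (t⁻¹ * b * t) *
        (t⁻¹ * a * t * (t⁻¹ * b * t))) = t⁻¹ * (a * b * (a * b * (a * b))) * t := by group
    rw [e] at h1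
    have : a * b * (a * b * (a * b)) = t * (t⁻¹ * (a * b * (a * b * (a * b))) * t) * t⁻¹ := by
      group
    rw [this, h1]; group
  · have e1 : a * b = t * (t⁻¹ * a * t * (t⁻¹ * b * t)) * t⁻¹ := by group
    have e2 : b * a = t * (t⁻¹ * b * t * (t⁻¹ * a * t)) * t⁻¹ := by group
    rw [e1, e2, h2]

theorem cubeSx_centralizer {g : Equiv.Perm GolayPt} (hM : g ∈ M24) (hg : g • Q = Q)
    (hc : ∀ n ∈ cubeSx Q, g * n = n * g) : g ∈ cubeSx Q := by
  obtain ⟨t, ht, rfl, rfl⟩ := exists_to_qrt1 hd hQ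
  rw [mem_cubeSx_smul ht, cubeSx_qrt1]
  apply cube1_centralizer (M24.mul_mem (M24.mul_mem (M24.inv_mem ht) hM) ht)
  · rw [mul_smul, mul_smul, hg, inv_smul_smul]
  · intro n hn
    have hn' : t * n * t⁻¹ ∈ cubeSx (t • qrt1) := by
      rw [mem_cubeSx_smul ht, cubeSx_qrt1]
      have e : t⁻¹ * (t * n * t⁻¹) * t = n := by group
      rw [e]; exact hn
    have h := hc _ hn'
    have e1 : t⁻¹ * g * t * n = t⁻¹ * (g * (t * n * t⁻¹)) * t := by group
    have e2 : n * (t⁻¹ * g * t) = t⁻¹ * (t * n * t⁻¹ * g) * t := by group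
    rw [e1, e2, h]

theorem quartet_transitive {p q : GolayPt} (hp : p ∈ d) (hq : q ∈ d) :
    ∃ g ∈ M24, g • Q = Q ∧ g p = q := by
  obtain ⟨t, ht, rfl, rfl⟩ := exists_to_qrt1 hd hQ
  have hp' : t⁻¹ p ∈ dod1 := by
    obtain ⟨x, hx, rfl⟩ := Finset.mem_smul_finset.mp hp
    rw [Equiv.Perm.smul_def, Equiv.Perm.inv_def, Equiv.symm_apply_apply]; exact hx
  have hq' : t⁻¹ q ∈ dod1 := by
    obtain ⟨x, hx, rfl⟩ := Finset.mem_smul_finset.mp hq
    rw [Equiv.Perm.smul_def, Equiv.Perm.inv_def, Equiv.symm_apply_apply]; exact hx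
  obtain ⟨g, hg, hgQ, hgp⟩ := qrt1_transitive hp' hq'
  refine ⟨t * g * t⁻¹, M24.mul_mem (M24.mul_mem ht hg) (M24.inv_mem ht), ?_, ?_⟩
  · rw [mul_smul, mul_smul, inv_smul_smul, hgQ]
  · rw [Equiv.Perm.mul_apply, Equiv.Perm.mul_apply, hgp, Equiv.Perm.inv_def,
      Equiv.apply_symm_apply]

/-- **The stabilizer of a quartet has order 432.** -/
theorem card_stabilizer_quartet : Nat.card ↥(MulAction.stabilizer M24 Q) = 432 := by
  have horb : MulAction.orbit ↥(MulAction.stabilizer M24 d) Q = quartets d := by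
    ext X
    constructor
    · rintro ⟨⟨⟨g, hgM⟩, hgd⟩, rfl⟩
      have hgd' : g • d = d := hgd
      have := smul_mem_quartets hgM hQ
      rw [hgd'] at this
      exact this
    · intro hX
      obtain ⟨g, hg, hgd, hgQ⟩ := exists_stab_dodecad_quartet hd hQ hX
      exact ⟨⟨⟨g, hg⟩, hgd⟩, hgQ⟩
  have hidx := MulAction.index_stabilizer (G := ↥(MulAction.stabilizer M24 d)) (x := Q)
  rw [horb, ncard_quartets hd] at hidx
  have hmul := Subgroup.card_mul_index
    (MulAction.stabilizer ↥(MulAction.stabilizer M24 d) Q)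
  rw [hidx, card_stabilizer_dodecad hd] at hmul
  have hcard : Nat.card ↥(MulAction.stabilizer ↥(MulAction.stabilizer M24 d) Q) = 432 := by
    omega
  rw [← hcard]
  apply Nat.card_congr
  exact
    { toFun := fun x => ⟨⟨x.1, by
        have h : (x.1 : Equiv.Perm GolayPt) • Q = Q := x.2
        exact smul_dodecad_of_smul_quartet hd hQ h⟩, x.2⟩
      invFun := fun x => ⟨x.1.1, x.2⟩
      left_inv := fun _ => rfl
      right_inv := fun _ => rfl }

/-- the normal subgroup of order nine of the stabilizer of a quartet -/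
def cubeSub : Subgroup ↥(MulAction.stabilizer M24 Q) where
  carrier := {x | ((x : ↥M24) : Equiv.Perm GolayPt) ∈ cubeSx Q}
  mul_mem' := by
    intro a b ha hb
    exact ⟨(kerSx Q).mul_mem ha.1 hb.1, (cubeSx_mul hd hQ ha hb).1⟩
  one_mem' := ⟨(kerSx Q).one_mem, by
    show (1 : Equiv.Perm GolayPt) * (1 * 1) = 1
    rw [mul_one, mul_one]⟩
  inv_mem' := by
    intro a ha
    refine ⟨(kerSx Q).inv_mem ha.1, ?_⟩
    show ((a : ↥M24) : Equiv.Perm GolayPt)⁻¹ * (((a : ↥M24) : Equiv.Perm GolayPt)⁻¹ *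
      ((a : ↥M24) : Equiv.Perm GolayPt)⁻¹) = 1
    rw [← mul_inv_rev, ← mul_inv_rev, mul_assoc, ha.2, inv_one]

theorem mem_cubeSub {x : ↥(MulAction.stabilizer M24 Q)} :
    x ∈ cubeSub hd hQ ↔ ((x : ↥M24) : Equiv.Perm GolayPt) ∈ cubeSx Q := Iff.rfl

theorem cubeSub_normal : (cubeSub hd hQ).Normal := by
  constructor
  intro n hn x
  rw [mem_cubeSub] at hn ⊢
  obtain ⟨⟨hnM, hnfix⟩, hn3⟩ := hn
  have hx : ((x : ↥M24) : Equiv.Perm GolayPt) ∈ M24 := (x : ↥M24).2
  refine ⟨⟨?_, ?_⟩, ?_⟩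
  · exact M24.mul_mem (M24.mul_mem hx hnM) (M24.inv_mem hx)
  · intro t ht
    show (((x : ↥M24) : Equiv.Perm GolayPt) * ((n : ↥M24) : Equiv.Perm GolayPt) *
      ((x : ↥M24) : Equiv.Perm GolayPt)⁻¹) • t = t
    have h1 : ((x : ↥M24) : Equiv.Perm GolayPt)⁻¹ • t ∈ Q :=
      smul_mem_of_stab (x := (x⁻¹ : ↥(MulAction.stabilizer M24 Q))) (x⁻¹).2 ht
    rw [mul_smul, mul_smul, hnfix _ h1, smul_inv_smul]
  · show (((x : ↥M24) : Equiv.Perm GolayPt) * ((n : ↥M24) : Equiv.Perm GolayPt) *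
      ((x : ↥M24) : Equiv.Perm GolayPt)⁻¹) * ((((x : ↥M24) : Equiv.Perm GolayPt) *
      ((n : ↥M24) : Equiv.Perm GolayPt) * ((x : ↥M24) : Equiv.Perm GolayPt)⁻¹) *
      (((x : ↥M24) : Equiv.Perm GolayPt) * ((n : ↥M24) : Equiv.Perm GolayPt) *
      ((x : ↥M24) : Equiv.Perm GolayPt)⁻¹)) = 1
    have e : ∀ a b : Equiv.Perm GolayPt,
        a * b * a⁻¹ * (a * b * a⁻¹ * (a * b * a⁻¹)) = a * (b * (b * b)) * a⁻¹ := by
      intro a b; group
    rw [e, hn3]; group

theorem card_cubeSub : Nat.card (cubeSub hd hQ) = 9 := by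
  rw [← card_cubeSx hd hQ]
  apply Nat.card_congr
  exact
    { toFun := fun x => ⟨((x.1 : ↥M24) : Equiv.Perm GolayPt), x.2⟩
      invFun := fun g => ⟨⟨⟨g.1, g.2.1.1⟩, smul_eq_of_fix g.2.1.2⟩, g.2⟩
      left_inv := fun _ => rfl
      right_inv := fun _ => rfl }

theorem cubeSub_comm (a b : ↥(cubeSub hd hQ)) : a * b = b * a := by
  apply Subtype.ext
  apply Subtype.ext
  apply Subtype.ext
  exact (cubeSx_mul hd hQ a.2 b.2).2

theorem cubeSub_pow (a : ↥(cubeSub hd hQ)) : a ^ 3 = 1 := by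
  apply Subtype.ext
  apply Subtype.ext
  apply Subtype.ext
  have h : ((a.1 : ↥M24) : Equiv.Perm GolayPt) * (((a.1 : ↥M24) : Equiv.Perm GolayPt) *
      ((a.1 : ↥M24) : Equiv.Perm GolayPt)) = 1 := a.2.2
  show ((a.1 : ↥M24) : Equiv.Perm GolayPt) ^ 3 = 1
  rw [pow_succ, pow_two, mul_assoc]
  exact h

/-- the number of automorphisms of the subgroup of order nine -/
theorem card_mulAut_cubeSub :
    Nonempty (MulAut ↥(cubeSub hd hQ) ≃* GL (Fin 2) (ZMod 3)) := by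
  letI cg : CommGroup ↥(cubeSub hd hQ) :=
    { (inferInstance : Group ↥(cubeSub hd hQ)) with mul_comm := cubeSub_comm hd hQ }
  haveI : Fact (Nat.Prime 3) := ⟨by norm_num⟩
  exact ElemAb.mulAut_equiv_gl (V := ↥(cubeSub hd hQ)) 3 2 (cubeSub_pow hd hQ)
    (by rw [card_cubeSub hd hQ]; norm_num)

/-- the conjugation action of the stabilizer on its normal subgroup of order nine -/
noncomputable def cubeConj : ↥(MulAction.stabilizer M24 Q) →* MulAut ↥(cubeSub hd hQ) :=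
  haveI := cubeSub_normal hd hQ
  MulAut.conjNormal

theorem cubeConj_apply (x : ↥(MulAction.stabilizer M24 Q)) (n : ↥(cubeSub hd hQ)) :
    ((cubeConj hd hQ x n : ↥(cubeSub hd hQ)) : ↥(MulAction.stabilizer M24 Q)) =
      x * n * x⁻¹ := by
  haveI := cubeSub_normal hd hQ
  exact MulAut.conjNormal_apply x n

theorem ker_cubeConj : (cubeConj hd hQ).ker = cubeSub hd hQ := by
  ext x
  rw [MonoidHom.mem_ker]
  constructor
  · intro h
    rw [mem_cubeSub]
    apply cubeSx_centralizer hd hQ (x : ↥M24).2 x.2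
    intro n hn
    let n' : ↥(cubeSub hd hQ) := ⟨⟨⟨n, hn.1.1⟩, smul_eq_of_fix hn.1.2⟩, hn⟩
    have h1 := cubeConj_apply hd hQ x n'
    rw [h] at h1
    have h2 : ((n' : ↥(MulAction.stabilizer M24 Q)) : ↥M24) =
        ((x * n' * x⁻¹ : ↥(MulAction.stabilizer M24 Q)) : ↥M24) := congrArg Subtype.val h1
    have h3 : n = ((x : ↥M24) : Equiv.Perm GolayPt) * n *
        ((x : ↥M24) : Equiv.Perm GolayPt)⁻¹ := congrArg Subtype.val h2
    calc ((x : ↥M24) : Equiv.Perm GolayPt) * n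
        = ((x : ↥M24) : Equiv.Perm GolayPt) * n * ((x : ↥M24) : Equiv.Perm GolayPt)⁻¹ *
          ((x : ↥M24) : Equiv.Perm GolayPt) := by group
      _ = n * ((x : ↥M24) : Equiv.Perm GolayPt) := by rw [← h3]
  · intro hx
    apply MulEquiv.ext
    intro n
    apply Subtype.ext
    rw [cubeConj_apply]
    have hc := cubeSub_comm hd hQ ⟨x, hx⟩ n
    have hc' : x * (n : ↥(MulAction.stabilizer M24 Q)) = n * x := congrArg Subtype.val hc
    rw [hc']
    show (n : ↥(MulAction.stabilizer M24 Q)) * x * x⁻¹ = n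
    rw [mul_assoc, mul_inv_cancel, mul_one]

end general

theorem card_GL23 : Nat.card (GL (Fin 2) (ZMod 3)) = 48 := by
  rw [Matrix.card_GL_field, ZMod.card, Fin.prod_univ_two]
  norm_num

section general2

variable {d : Finset GolayPt} (hd : d ∈ dodecads) {Q : Finset (Finset GolayPt)}
  (hQ : Q ∈ quartets d)

include hd hQ

theorem cubeConj_surjective : Function.Surjective (cubeConj hd hQ) := by
  obtain ⟨e⟩ := card_mulAut_cubeSub hd hQ
  haveI : Finite (MulAut ↥(cubeSub hd hQ)) := Finite.of_equiv _ e.symm.toEquiv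
  rw [← MonoidHom.range_eq_top]
  apply Subgroup.eq_top_of_card_eq
  have h1 := Subgroup.card_mul_index (cubeConj hd hQ).ker
  rw [Subgroup.index_ker, card_stabilizer_quartet hd hQ, ker_cubeConj hd hQ,
    card_cubeSub hd hQ] at h1
  have h2 : Nat.card (MulAut ↥(cubeSub hd hQ)) = 48 := by
    rw [Nat.card_congr e.toEquiv, card_GL23]
  rw [h2]
  omega

/-- **Structure of a quartet stabiliser.** -/
theorem quartet_structure :
    Nat.card ↥(MulAction.stabilizer M24 Q) = 432 ∧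
    (∃ (N : Subgroup ↥(MulAction.stabilizer M24 Q)) (_ : N.Normal), Nat.card N = 9 ∧
      Nonempty (↥(MulAction.stabilizer M24 Q) ⧸ N ≃* GL (Fin 2) (ZMod 3))) ∧
    ∀ p ∈ d, ∀ q ∈ d, ∃ g ∈ MulAction.stabilizer M24 Q,
      ((g : ↥M24) : Equiv.Perm GolayPt) p = q := by
  refine ⟨card_stabilizer_quartet hd hQ, ⟨cubeSub hd hQ, cubeSub_normal hd hQ,
    card_cubeSub hd hQ, ?_⟩, ?_⟩
  · obtain ⟨e⟩ := card_mulAut_cubeSub hd hQ
    haveI := cubeSub_normal hd hQ
    exact ⟨(QuotientGroup.quotientMulEquivOfEq (ker_cubeConj hd hQ).symm).trans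
      ((QuotientGroup.quotientKerEquivOfSurjective (cubeConj hd hQ)
        (cubeConj_surjective hd hQ)).trans e)⟩
  · intro p hp q hq
    obtain ⟨g, hg, hgQ, hgp⟩ := quartet_transitive hd hQ hp hq
    exact ⟨⟨g, hg⟩, hgQ, hgp⟩

end general2

end Cfsg.Agent.Lib.Helper6.Golay
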