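import Cfsg.Agent.Lib.Helper6.GolaySetSys
import Cfsg.Agent.Lib.Helper6.Overgroup

/-!
# Stabilizers of set systems in `M24`: generic tools

Key-sorted word certificates for orbits, intersection-pattern invariants, transfer along `M24`,
and the maximality criterion with four nontrivial suborbits.
-/

set_option autoImplicit false

namespace Cfsg.Agent.Lib.Helper6.Golay

open Cfsg
open Cfsg.Agent.Lib.Helper6.PermChain
open Cfsg.Agent.Lib.Helper6.Overgroup
open scoped Pointwise

/-! ### key-sorted certificates -/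

/-- numeric key of a list of masks -/
def keyS (L : List ℕ) : ℕ := L.foldl (fun acc a => acc * 16777216 + a) 0

/-- keys strictly increasing -/
def incrKeyB : List (List ℕ) → Bool
  | [] => true
  | [_] => true
  | a :: b :: l => decide (keyS a < keyS b) && incrKeyB (b :: l)

theorem incrKeyB_spec : ∀ (R : List (List ℕ)), incrKeyB R = true →
    R.Pairwise (fun a b => keyS a < keyS b)
  | [], _ => List.Pairwise.nil
  | [a], _ => List.pairwise_singleton _ _
  | a :: b :: l, h => by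
    simp only [incrKeyB, Bool.and_eq_true, decide_eq_true_eq] at h
    have ih := incrKeyB_spec (b :: l) h.2
    rw [List.pairwise_cons]
    refine ⟨?_, ih⟩
    intro c hc
    rw [List.mem_cons] at hc
    rcases hc with rfl | hc
    · exact h.1
    · exact lt_trans h.1 ((List.pairwise_cons.mp ih).1 c hc)

/-- the linear-time check of a key-sorted word certificate -/
def checkRunK (R : List (List ℕ)) (n : ℕ) : Bool :=
  R.length == n && R.all canonB && incrKeyB R

theorem le_ncard_of_checkRunK {H : Subgroup (Equiv.Perm GolayPt)} {E : List (List ℕ)}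
    (hE : ∀ l ∈ E, Rep H l) {root : List ℕ} {cert : List (List ℕ)} {n : ℕ}
    (h : checkRunK (wordsRun E root cert) n = true) : n ≤ (OrbSet H (fss root)).ncard := by
  simp only [checkRunK, Bool.and_eq_true, beq_iff_eq] at h
  rw [← h.1.1]
  apply length_le_ncard_orbSet' _ h.1.2
  · exact (incrKeyB_spec _ h.2).imp (fun hab heq => by rw [heq] at hab; exact lt_irrefl _ hab)
  · intro q hq
    rw [wordsRun, List.mem_map] at hq
    obtain ⟨w, _, rfl⟩ := hq
    exact wordRun_sound hE root w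

/-! ### the stabilizer of a set system in `M24` -/

/-- the stabilizer of the set system `R` in `M24`, as a group of permutations -/
def HSt (R : Finset (Finset GolayPt)) : Subgroup (Equiv.Perm GolayPt) :=
  M24 ⊓ MulAction.stabilizer (Equiv.Perm GolayPt) R

theorem mem_HSt {R : Finset (Finset GolayPt)} {g : Equiv.Perm GolayPt} :
    g ∈ HSt R ↔ g ∈ M24 ∧ g • R = R := by
  rw [HSt, Subgroup.mem_inf]
  exact Iff.rfl

/-- keep the elements stabilizing the system coded by `RC` -/
def stFilter (RC : List ℕ) (E : List (List ℕ)) : List (List ℕ) :=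
  E.map (fun s => if smapS s RC == RC then s else idl)

theorem rep_stFilter {RC : List ℕ} {E : List (List ℕ)} (hE : ∀ l ∈ E, Rep M24 l) :
    ∀ l ∈ stFilter RC E, Rep (HSt (fss RC)) l := by
  intro l hl
  rw [stFilter, List.mem_map] at hl
  obtain ⟨s, hs, rfl⟩ := hl
  split_ifs with h
  · obtain ⟨ws, g, hg, hgs⟩ := hE s hs
    refine ⟨ws, g, mem_HSt.mpr ⟨hg, ?_⟩, hgs⟩
    rw [beq_iff_eq] at h
    rw [smul_fss ws hgs, h]
  · exact Rep.one _

/-! ### intersection-pattern invariants -/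

/-- some member of `R` meets some member of `X` in exactly `k` points -/
def PKr (R : Finset (Finset GolayPt)) (k : ℕ) (X : Finset (Finset GolayPt)) : Prop :=
  ∃ a ∈ R, ∃ b ∈ X, (a ∩ b).card = k

theorem PKr_smul {R : Finset (Finset GolayPt)} {g : Equiv.Perm GolayPt} (hg : g ∈ HSt R) (k : ℕ)
    (X : Finset (Finset GolayPt)) : PKr R k (g • X) ↔ PKr R k X := by
  have hg0 := (mem_HSt.mp hg).2
  constructor
  · rintro ⟨a, ha, b, hb, hab⟩
    rw [Finset.mem_smul_finset] at hb
    obtain ⟨b', hb', rfl⟩ := hb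
    rw [← hg0, Finset.mem_smul_finset] at ha
    obtain ⟨a', ha', rfl⟩ := ha
    refine ⟨a', ha', b', hb', ?_⟩
    rw [← Finset.smul_finset_inter, Finset.card_smul_finset] at hab
    exact hab
  · rintro ⟨a, ha, b, hb, hab⟩
    refine ⟨g • a, ?_, g • b, Finset.smul_mem_smul_finset hb, ?_⟩
    · have := Finset.smul_mem_smul_finset (a := g) ha
      rwa [hg0] at this
    · rw [← Finset.smul_finset_inter, Finset.card_smul_finset]; exact hab

/-- the invariant as a computation on masks -/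
def pkrB (RC : List ℕ) (k : ℕ) (L : List ℕ) : Bool :=
  RC.any (fun a => L.any (fun b => pc 24 (a &&& b) == k))

theorem PKr_fss (RC : List ℕ) (k : ℕ) (L : List ℕ) :
    PKr (fss RC) k (fss L) ↔ pkrB RC k L = true := by
  rw [PKr]
  simp only [pkrB, List.any_eq_true, beq_iff_eq]
  constructor
  · rintro ⟨a, ha, b, hb, hab⟩
    obtain ⟨a', ha', rfl⟩ := mem_fss.mp ha
    obtain ⟨b', hb', rfl⟩ := mem_fss.mp hb
    refine ⟨a', ha', b', hb', ?_⟩
    rw [← card_fs, fs_and]; exact hab
  · rintro ⟨a, ha, b, hb, hab⟩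
    refine ⟨fs a, mem_fss.mpr ⟨a, ha, rfl⟩, fs b, mem_fss.mpr ⟨b, hb, rfl⟩, ?_⟩
    rw [← fs_and, card_fs]; exact hab

theorem PKr_orbSet {RC L : List ℕ} {Y : Finset (Finset GolayPt)}
    (hY : Y ∈ OrbSet (HSt (fss RC)) (fss L)) (k : ℕ) :
    PKr (fss RC) k Y ↔ pkrB RC k L = true := by
  obtain ⟨g, hg, rfl⟩ := hY
  rw [PKr_smul hg, PKr_fss]

/-- two orbits with different invariants are disjoint -/
theorem orbSet_disjoint_of_pkr {RC L L' : List ℕ} (k : ℕ) (h : pkrB RC k L ≠ pkrB RC k L') :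
    Disjoint (OrbSet (HSt (fss RC)) (fss L)) (OrbSet (HSt (fss RC)) (fss L')) := by
  rw [Set.disjoint_left]
  intro Y h1 h2
  apply h
  have e1 := PKr_orbSet h1 k
  have e2 := PKr_orbSet h2 k
  rw [e1] at e2
  exact Bool.eq_iff_iff.mpr e2

theorem not_mem_orbSet_of_pkr {RC L : List ℕ} (k : ℕ) (h : pkrB RC k RC ≠ pkrB RC k L) :
    fss RC ∉ OrbSet (HSt (fss RC)) (fss L) := by
  intro h1
  apply h
  have e1 := PKr_orbSet h1 k
  rw [PKr_fss] at e1
  exact Bool.eq_iff_iff.mpr e1

/-! ### transfer -/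

theorem orbSet_HSt_trans {R X a b : Finset (Finset GolayPt)} (ha : a ∈ OrbSet (HSt R) X)
    (hb : b ∈ OrbSet (HSt R) X) : ∃ h ∈ MulAction.stabilizer M24 R, h • a = b := by
  obtain ⟨g, hg, rfl⟩ := ha
  obtain ⟨g', hg', rfl⟩ := hb
  have hm := (HSt R).mul_mem hg' ((HSt R).inv_mem hg)
  refine ⟨⟨g' * g⁻¹, (mem_HSt.mp hm).1⟩, ?_, ?_⟩
  · rw [MulAction.mem_stabilizer_iff]; exact (mem_HSt.mp hm).2
  · show (g' * g⁻¹) • g • X = g' • X
    rw [mul_smul, inv_smul_smul]

/-- orbits of the stabilizer of a translate of the system `R` -/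
theorem orbit_stabilizer_smul {R : Finset (Finset GolayPt)} {t : Equiv.Perm GolayPt} (ht : t ∈ M24)
    (X : Finset (Finset GolayPt)) :
    MulAction.orbit ↥(MulAction.stabilizer M24 (t • R)) (t • X) =
      (fun Y => t • Y) '' OrbSet (HSt R) X := by
  ext Y
  constructor
  · rintro ⟨⟨⟨g, hgM⟩, hgs⟩, rfl⟩
    rw [MulAction.mem_stabilizer_iff] at hgs
    have hgs' : g • t • R = t • R := hgs
    refine ⟨(t⁻¹ * g * t) • X, ⟨t⁻¹ * g * t, mem_HSt.mpr
      ⟨M24.mul_mem (M24.mul_mem (M24.inv_mem ht) hgM) ht, ?_⟩, rfl⟩, ?_⟩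
    · rw [mul_smul, mul_smul, hgs', inv_smul_smul]
    · show t • (t⁻¹ * g * t) • X = g • t • X
      rw [mul_smul, mul_smul, smul_inv_smul]
  · rintro ⟨_, ⟨h, hh, rfl⟩, rfl⟩
    obtain ⟨hhM, hh0⟩ := mem_HSt.mp hh
    refine ⟨⟨⟨t * h * t⁻¹, M24.mul_mem (M24.mul_mem ht hhM) (M24.inv_mem ht)⟩, ?_⟩, ?_⟩
    · rw [MulAction.mem_stabilizer_iff]
      show (t * h * t⁻¹) • t • R = t • R
      rw [mul_smul, mul_smul, inv_smul_smul, hh0]
    · show (t * h * t⁻¹) • t • X = t • h • X
      rw [mul_smul, mul_smul, inv_smul_smul]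

theorem ncard_orbit_stabilizer_smul {R : Finset (Finset GolayPt)} {t : Equiv.Perm GolayPt}
    (ht : t ∈ M24) (X : Finset (Finset GolayPt)) :
    (MulAction.orbit ↥(MulAction.stabilizer M24 (t • R)) (t • X)).ncard =
      (OrbSet (HSt R) X).ncard := by
  rw [orbit_stabilizer_smul ht, Set.ncard_image_of_injective _ (MulAction.injective t)]

theorem isCoatom_stabilizer_smul {R : Finset (Finset GolayPt)} {t : Equiv.Perm GolayPt}
    (ht : t ∈ M24) (h : IsCoatom (MulAction.stabilizer M24 R)) :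
    IsCoatom (MulAction.stabilizer M24 (t • R)) := by
  change IsCoatom (MulAction.stabilizer M24 ((⟨t, ht⟩ : ↥M24) • R))
  rw [MulAction.stabilizer_smul_eq_stabilizer_map_conj]
  exact (OrderIso.isCoatom_iff (MulEquiv.mapSubgroup (MulAut.conj _)) _).mpr h

end Cfsg.Agent.Lib.Helper6.Golay
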