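import Cfsg.Agent.Lib.Helper6.GolayM24

/-!
# The octads form a Steiner system S(5, 8, 24)
-/

set_option autoImplicit false

namespace Cfsg.Agent.Lib.Helper6.Golay

open Cfsg

theorem support₂_add (v w : GolayPt → ZMod 2) :
    support₂ (v + w) = symmDiff (support₂ v) (support₂ w) := by
  ext p
  simp only [support₂, Finset.mem_symmDiff, Finset.mem_filter, Finset.mem_univ, true_and, Pi.add_apply]
  have hv : v p = 0 ∨ v p = 1 := by generalize v p = c; revert c; decide
  have hw : w p = 0 ∨ w p = 1 := by generalize w p = c; revert c; decide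
  rcases hv with hv | hv <;> rcases hw with hw | hw <;> simp [hv, hw]
  decide

theorem card_symmDiff_add {α : Type*} [DecidableEq α] (s t : Finset α) :
    (symmDiff s t).card + 2 * (s ∩ t).card = s.card + t.card := by
  have h1 : (symmDiff s t).card = (s \ t).card + (t \ s).card := by
    rw [Finset.symmDiff_def, Finset.card_union_of_disjoint]
    exact disjoint_sdiff_sdiff
  have h2 := Finset.card_sdiff_add_card_inter s t
  have h3 := Finset.card_sdiff_add_card_inter t s
  rw [Finset.inter_comm t s] at h3
  omega

/-- two octads sharing five points are equal -/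
theorem octad_unique {b b' s : Finset GolayPt} (hb : b ∈ octads) (hb' : b' ∈ octads)
    (hs : s.card = 5) (hsb : s ⊆ b) (hsb' : s ⊆ b') : b = b' := by
  obtain ⟨⟨v, hv, rfl⟩, hvc⟩ := hb
  obtain ⟨⟨w, hw, rfl⟩, hwc⟩ := hb'
  by_contra hne
  have hvw : v + w ∈ golayCode := Submodule.add_mem _ hv hw
  have hne0 : v + w ≠ 0 := by
    intro h
    apply hne
    have : v = w := by
      have h2 : w + w = 0 := by
        funext p; simp only [Pi.add_apply, Pi.zero_apply]
        generalize w p = c; revert c; decide
      calc v = v + (w + w) := by rw [h2, add_zero]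
        _ = (v + w) + w := by ring
        _ = w := by rw [h, zero_add]
    rw [this]
  have h8 := eight_le_hammingNorm _ hvw hne0
  rw [← card_support₂, support₂_add] at h8
  have h5 : 5 ≤ (support₂ v ∩ support₂ w).card := by
    rw [← hs]
    exact Finset.card_le_card (Finset.subset_inter hsb hsb')
  have := card_symmDiff_add (support₂ v) (support₂ w)
  omega

/-- the octads as a finset -/
noncomputable def octadFinset : Finset (Finset GolayPt) :=
  ((Finset.range 4096).filter (fun m => (pc 24 (combo m) == 8) = true)).image
    (fun m => support₂ (dec (combo m)))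

theorem coe_octadFinset : (octadFinset : Set (Finset GolayPt)) = octads := by
  rw [octads, wordsOfWeight_eq, octadFinset, Finset.coe_image]

theorem mem_octadFinset {b : Finset GolayPt} : b ∈ octadFinset ↔ b ∈ octads := by
  rw [← coe_octadFinset]; rfl

theorem card_octadFinset : octadFinset.card = 759 := by
  rw [← Set.ncard_coe_finset, coe_octadFinset, ncard_octads]

theorem card_of_mem_octads {b : Finset GolayPt} (hb : b ∈ octads) : b.card = 8 := hb.2

set_option linter.constructorNameAsVariable false in
/-- every 5-set lies in an octad -/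
theorem exists_octad (s : Finset GolayPt) (hs : s.card = 5) : ∃ b ∈ octads, s ⊆ b := by
  classical
  let P : Finset (Finset GolayPt) := octadFinset.biUnion (fun b => b.powersetCard 5)
  have hdisj : (↑octadFinset : Set (Finset GolayPt)).PairwiseDisjoint (fun b => b.powersetCard 5) := by
    intro b hb b' hb' hne
    rw [Function.onFun, Finset.disjoint_left]
    intro t ht ht'
    rw [Finset.mem_powersetCard] at ht ht'
    exact hne (octad_unique (mem_octadFinset.mp hb) (mem_octadFinset.mp hb') ht.2 ht.1 ht'.1)
  have hcardP : P.card = 42504 := by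
    rw [Finset.card_biUnion hdisj]
    have : ∀ b ∈ octadFinset, (b.powersetCard 5).card = 56 := by
      intro b hb
      rw [Finset.card_powersetCard, card_of_mem_octads (mem_octadFinset.mp hb)]
      decide
    rw [Finset.sum_congr rfl this, Finset.sum_const, card_octadFinset, smul_eq_mul]
  have hsub : P ⊆ (Finset.univ : Finset GolayPt).powersetCard 5 := by
    intro t ht
    rw [Finset.mem_biUnion] at ht
    obtain ⟨b, _, htb⟩ := ht
    rw [Finset.mem_powersetCard] at htb ⊢
    exact ⟨Finset.subset_univ _, htb.2⟩
  have hcardU : ((Finset.univ : Finset GolayPt).powersetCard 5).card = 42504 := by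
    rw [Finset.card_powersetCard]
    have : (Finset.univ : Finset GolayPt).card = 24 := by decide
    rw [this]; decide
  have heq : P = (Finset.univ : Finset GolayPt).powersetCard 5 :=
    Finset.eq_of_subset_of_card_le hsub (by rw [hcardP, hcardU])
  have hsP : s ∈ P := by
    rw [heq, Finset.mem_powersetCard]; exact ⟨Finset.subset_univ _, hs⟩
  rw [Finset.mem_biUnion] at hsP
  obtain ⟨b, hb, hsb⟩ := hsP
  rw [Finset.mem_powersetCard] at hsb
  exact ⟨b, mem_octadFinset.mp hb, hsb.1⟩

/-- **The octads form a Steiner system S(5, 8, 24).** -/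
theorem octads_steiner : IsSteinerSystem 5 8 octads := by
  refine ⟨fun b hb => card_of_mem_octads hb, fun s hs => ?_⟩
  obtain ⟨b, hb, hsb⟩ := exists_octad s hs
  refine ⟨b, ⟨hb, hsb⟩, ?_⟩
  rintro b' ⟨hb', hsb'⟩
  exact octad_unique hb' hb hs hsb' hsb

end Cfsg.Agent.Lib.Helper6.Golay
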