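import Cfsg.Agent.Lib.Helper6.GolayM12b
import Cfsg.Agent.Lib.Helper6.GolaySteiner
import Cfsg.Agent.Lib.Helper6.GolaySetSysKey
import Cfsg.Prelude.Def_SporadicCombinatorics

/-!
# Quartets of a dodecad: hexads, uniqueness of the quartet through two triples, the count 220
-/

set_option autoImplicit false

namespace Cfsg.Agent.Lib.Helper6.Golay

open Cfsg
open Cfsg.Agent.Lib.Helper6.PermChain
open scoped Pointwise

/-! ### transfer along `M24` -/

theorem smul_mem_hexadsOn {g : Equiv.Perm GolayPt} (hg : g ∈ M24) {d h : Finset GolayPt}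
    (hh : h ∈ hexadsOn d) : g • h ∈ hexadsOn (g • d) := by
  obtain ⟨h6, o, ho, rfl⟩ := hh
  refine ⟨by rw [Finset.card_smul_finset]; exact h6, g • o, smul_mem_octads hg ho, ?_⟩
  rw [Finset.smul_finset_inter]

theorem smul_mem_quartets {g : Equiv.Perm GolayPt} (hg : g ∈ M24) {d : Finset GolayPt}
    {Q : Finset (Finset GolayPt)} (hQ : Q ∈ quartets d) : g • Q ∈ quartets (g • d) := by
  obtain ⟨h4, h3, hu⟩ := hQ
  refine ⟨by rw [Finset.card_smul_finset]; exact h4, ?_, ?_⟩
  · intro t ht
    rw [Finset.mem_smul_finset] at ht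
    obtain ⟨t', ht', rfl⟩ := ht
    exact ⟨by rw [Finset.card_smul_finset]; exact (h3 t' ht').1,
      Finset.smul_finset_subset_smul_finset (h3 t' ht').2⟩
  · intro t ht u hu' htu
    rw [Finset.mem_smul_finset] at ht hu'
    obtain ⟨t', ht', rfl⟩ := ht
    obtain ⟨u', hu'', rfl⟩ := hu'
    rw [← Finset.smul_finset_union]
    exact smul_mem_hexadsOn hg (hu t' ht' u' hu'' (fun h => htu (by rw [h])))

/-- two hexads on `d` sharing five points are equal -/
theorem hexad_unique {d h h' s : Finset GolayPt} (hh : h ∈ hexadsOn d) (hh' : h' ∈ hexadsOn d)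
    (hs : s.card = 5) (hsh : s ⊆ h) (hsh' : s ⊆ h') : h = h' := by
  obtain ⟨_, o, ho, rfl⟩ := hh
  obtain ⟨_, o', ho', rfl⟩ := hh'
  rw [octad_unique ho ho' hs (hsh.trans Finset.inter_subset_left)
    (hsh'.trans Finset.inter_subset_left)]

/-! ### hexads on the reference dodecad, as a computation -/

/-- some number below `n` satisfies `f` -/
def anyBelow (f : ℕ → Bool) : ℕ → Bool
  | 0 => false
  | k + 1 => f k || anyBelow f k

theorem anyBelow_iff (f : ℕ → Bool) (n : ℕ) : anyBelow f n = true ↔ ∃ m < n, f m = true := by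
  induction n with
  | zero => simp [anyBelow]
  | succ k ih =>
    simp only [anyBelow, Bool.or_eq_true, ih]
    constructor
    · rintro (h | ⟨m, hm, h⟩)
      · exact ⟨k, Nat.lt_succ_self k, h⟩
      · exact ⟨m, Nat.lt_succ_of_lt hm, h⟩
    · rintro ⟨m, hm, h⟩
      rcases Nat.lt_succ_iff_lt_or_eq.mp hm with hlt | rfl
      · exact Or.inr ⟨m, hlt, h⟩
      · exact Or.inl h

/-- the mask `x` is a hexad on the reference dodecad -/
def hexB (x : ℕ) : Bool :=
  (pc 24 x == 6) && anyBelow (fun m => (pc 24 (combo m) == 8) && (combo m &&& dodecad0 == x)) 4096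

theorem fs_mem_hexadsOn_iff {x : ℕ} (hx : x < 2 ^ 24) :
    fs x ∈ hexadsOn (fs dodecad0) ↔ hexB x = true := by
  simp only [hexB, Bool.and_eq_true, beq_iff_eq, anyBelow_iff]
  constructor
  · rintro ⟨h6, o, ho, hox⟩
    obtain ⟨n, hn, h8, rfl⟩ := (mem_octads_iff o).mp ho
    obtain ⟨m, hm, rfl⟩ := (inCode_iff n).mp hn
    refine ⟨by rw [← card_fs]; exact h6, m, hm, h8, ?_⟩
    rw [← fs_and] at hox
    exact fs_injOn (lt_of_le_of_lt Nat.and_le_right (by decide)) hx hox
  · rintro ⟨h6, m, hm, h8, hmx⟩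
    refine ⟨by rw [card_fs]; exact h6, fs (combo m), fs_mem_octads (inCode_combo hm) h8, ?_⟩
    rw [← fs_and, hmx]

def hexL : List ℕ := [461, 725, 797, 984, 1181, 1372, 1489, 1625, 1740, 1861, 1929, 1940, 2268, 2393, 2453, 2637, 2713, 2900, 2956, 3009, 3157, 3273, 3341, 3480, 3524, 3612, 3717, 3792, 3857, 3912, 8285, 8601, 8660, 8860, 8905, 9036, 9041, 9093, 9413, 9432, 9493, 9545, 9612, 9741, 9812, 9873, 10008, 10176, 10381, 10449, 10524, 10565, 10696, 10773, 10840, 10948, 11017, 11152, 11289, 11340, 11412, 11600, 11649, 11841, 11912, 12036, 16601, 16725, 16796, 16988, 17037, 17225, 17297, 17348, 17485, 17620, 17689, 17797, 17864, 17941, 18072, 18113, 18188, 18256, 18461, 18629, 18764, 18825, 18896, 19025, 19092, 19144, 19205, 19224, 19544, 19596, 19601, 19732, 19777, 19977, 20036, 20352, 24725, 24780, 24845, 24920, 25025, 25113, 25157, 25296, 25364, 25480, 25628, 25681, 25737, 25924, 26000, 26184, 26244, 26369, 26697, 26708, 26776, 26897, 27012, 27148, 27265, 27456, 27653, 27840,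 27912, 28176]

set_option maxHeartbeats 4000000 in
theorem hexL_complete : allBelow (fun m => !((pc 24 (combo m) == 8) &&
    (pc 24 (combo m &&& dodecad0) == 6)) || hexL.contains (combo m &&& dodecad0)) 4096 = true := by
  decide +kernel

set_option maxHeartbeats 4000000 in
theorem hexL_sound : (hexL.all hexB && canonB hexL && (hexL.length == 132)) = true := by
  decide +kernel

theorem hexadsOn_ref : hexadsOn (fs dodecad0) = ↑(fss hexL) := by
  ext h
  rw [Finset.mem_coe, mem_fss]
  constructor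
  · rintro ⟨h6, o, ho, rfl⟩
    obtain ⟨n, hn, h8, rfl⟩ := (mem_octads_iff o).mp ho
    obtain ⟨m, hm, rfl⟩ := (inCode_iff n).mp hn
    have := allBelow_spec _ _ hexL_complete m hm
    rw [← fs_and, card_fs] at h6
    rw [h8, h6] at this
    simp only [beq_self_eq_true, Bool.and_self, Bool.not_true, Bool.false_or,
      List.contains_eq_mem, decide_eq_true_eq] at this
    exact ⟨_, this, (fs_and _ _).symm⟩
  · rintro ⟨a, ha, rfl⟩
    have hs := hexL_sound
    simp only [Bool.and_eq_true] at hs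
    have hlt := (canonB_spec _ hs.1.2).2 a ha
    exact (fs_mem_hexadsOn_iff hlt).mpr (List.all_eq_true.mp hs.1.1 a ha)

theorem ncard_hexadsOn_ref : (hexadsOn (fs dodecad0)).ncard = 132 := by
  have hs := hexL_sound
  simp only [Bool.and_eq_true, beq_iff_eq] at hs
  obtain ⟨hpw, hlt⟩ := canonB_spec _ hs.1.2
  have hnd : (hexL.map fs).Nodup := by
    apply List.Nodup.map_on
    · intro a ha b hb hab
      exact fs_injOn (hlt a ha) (hlt b hb) hab
    · exact hpw.imp (fun h => ne_of_lt h)
  rw [hexadsOn_ref, Set.ncard_coe_finset, fss, List.toFinset_card_of_nodup hnd, List.length_map,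
    hs.2]

end Cfsg.Agent.Lib.Helper6.Golay
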