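import Cfsg.Agent.Lib.Helper6.GolayQuartetRef

/-!
# Quartets of a dodecad: existence and uniqueness through two triples, the count 220, transitivity
-/

set_option autoImplicit false

namespace Cfsg.Agent.Lib.Helper6.Golay

open Cfsg
open Cfsg.Agent.Lib.Helper6.PermChain
open scoped Pointwise

/-- the stabilizer of a dodecad is transitive on pairs (triple, disjoint pair) inside it -/
theorem exists_stab_dodecad_flag32 {d : Finset GolayPt} (hd : d ∈ dodecads)
    {A C A' C' : Finset GolayPt} (hA : A.card = 3) (hC : C.card = 2) (hAC : Disjoint A C)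
    (hA' : A'.card = 3) (hC' : C'.card = 2) (hAC' : Disjoint A' C')
    (hAd : A ⊆ d) (hCd : C ⊆ d) (hAd' : A' ⊆ d) (hCd' : C' ⊆ d) :
    ∃ g ∈ M24, g • d = d ∧ g • A = A' ∧ g • C = C' := by
  classical
  obtain ⟨x1, hx1⟩ := exists_embedding_of_card hA
  obtain ⟨x2, hx2⟩ := exists_embedding_of_card hC
  obtain ⟨y1, hy1⟩ := exists_embedding_of_card hA'
  obtain ⟨y2, hy2⟩ := exists_embedding_of_card hC'
  let x : Fin 5 ↪ GolayPt := ⟨Fin.append x1 x2,
    Fin.append_injective_iff.mpr ⟨x1.injective, x2.injective, fun i j h => by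
      have h1 : x1 i ∈ A := (hx1 _).mpr ⟨i, rfl⟩
      have h2 : x2 j ∈ C := (hx2 _).mpr ⟨j, rfl⟩
      rw [← h] at h2
      exact (Finset.disjoint_left.mp hAC) h1 h2⟩⟩
  let y : Fin 5 ↪ GolayPt := ⟨Fin.append y1 y2,
    Fin.append_injective_iff.mpr ⟨y1.injective, y2.injective, fun i j h => by
      have h1 : y1 i ∈ A' := (hy1 _).mpr ⟨i, rfl⟩
      have h2 : y2 j ∈ C' := (hy2 _).mpr ⟨j, rfl⟩
      rw [← h] at h2
      exact (Finset.disjoint_left.mp hAC') h1 h2⟩⟩
  have hx : ∀ i, x i ∈ d := by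
    intro i
    refine Fin.addCases (m := 3) (n := 2) (fun j => ?_) (fun j => ?_) i
    · simp only [x, Function.Embedding.coeFn_mk, Fin.append_left]
      exact hAd ((hx1 _).mpr ⟨j, rfl⟩)
    · simp only [x, Function.Embedding.coeFn_mk, Fin.append_right]
      exact hCd ((hx2 _).mpr ⟨j, rfl⟩)
  have hy : ∀ i, y i ∈ d := by
    intro i
    refine Fin.addCases (m := 3) (n := 2) (fun j => ?_) (fun j => ?_) i
    · simp only [y, Function.Embedding.coeFn_mk, Fin.append_left]
      exact hAd' ((hy1 _).mpr ⟨j, rfl⟩)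
    · simp only [y, Function.Embedding.coeFn_mk, Fin.append_right]
      exact hCd' ((hy2 _).mpr ⟨j, rfl⟩)
  obtain ⟨g, ⟨⟨hg, hgd⟩, hgxy⟩, -⟩ := existsUnique_stab_dodecad hd x y hx hy
  refine ⟨g, hg, hgd, ?_, ?_⟩
  · apply smul_eq_of_embeddings hx1 hy1
    intro i
    have := hgxy (Fin.castAdd 2 i)
    simpa [x, y] using this
  · apply smul_eq_of_embeddings hx2 hy2
    intro i
    have := hgxy (Fin.natAdd 3 i)
    simpa [x, y] using this

theorem hexad_subset {d h : Finset GolayPt} (hh : h ∈ hexadsOn d) : h ⊆ d := by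
  obtain ⟨_, o, _, rfl⟩ := hh
  exact Finset.inter_subset_right

/-- the stabilizer of a dodecad is transitive on ordered pairs of disjoint triples whose union is a
hexad -/
theorem exists_stab_dodecad_pair {d : Finset GolayPt} (hd : d ∈ dodecads)
    {t u t' u' : Finset GolayPt} (ht : t.card = 3) (hu : u.card = 3) (htu : Disjoint t u)
    (hh : t ∪ u ∈ hexadsOn d) (ht' : t'.card = 3) (hu' : u'.card = 3) (htu' : Disjoint t' u')
    (hh' : t' ∪ u' ∈ hexadsOn d) : ∃ g ∈ M24, g • d = d ∧ g • t = t' ∧ g • u = u' := by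
  obtain ⟨x6, hx6⟩ : u.Nonempty := by rw [← Finset.card_pos, hu]; norm_num
  obtain ⟨x6', hx6'⟩ : u'.Nonempty := by rw [← Finset.card_pos, hu']; norm_num
  have hsub := hexad_subset hh
  have hsub' := hexad_subset hh'
  have hC : (u.erase x6).card = 2 := by rw [Finset.card_erase_of_mem hx6, hu]
  have hC' : (u'.erase x6').card = 2 := by rw [Finset.card_erase_of_mem hx6', hu']
  have hd1 : Disjoint t (u.erase x6) := Finset.disjoint_of_subset_right (Finset.erase_subset _ _) htu
  have hd1' : Disjoint t' (u'.erase x6') :=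
    Finset.disjoint_of_subset_right (Finset.erase_subset _ _) htu'
  obtain ⟨g, hg, hgd, hgt, hgC⟩ := exists_stab_dodecad_flag32 hd ht hC hd1 ht' hC' hd1'
    (Finset.subset_union_left.trans hsub)
    ((Finset.erase_subset _ _).trans (Finset.subset_union_right.trans hsub))
    (Finset.subset_union_left.trans hsub')
    ((Finset.erase_subset _ _).trans (Finset.subset_union_right.trans hsub'))
  refine ⟨g, hg, hgd, hgt, ?_⟩
  have hhex : g • (t ∪ u) ∈ hexadsOn d := by
    have := smul_mem_hexadsOn hg hh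
    rwa [hgd] at this
  have h5 : (t' ∪ u'.erase x6').card = 5 := by
    rw [Finset.card_union_of_disjoint hd1', ht', hC']
  have hs1 : t' ∪ u'.erase x6' ⊆ g • (t ∪ u) := by
    rw [Finset.smul_finset_union, hgt, ← hgC]
    exact Finset.union_subset_union (Finset.Subset.refl _)
      (Finset.smul_finset_subset_smul_finset (Finset.erase_subset _ _))
  have hs2 : t' ∪ u'.erase x6' ⊆ t' ∪ u' :=
    Finset.union_subset_union (Finset.Subset.refl _) (Finset.erase_subset _ _)
  have heq := hexad_unique hhex hh' h5 hs1 hs2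
  have h1 : u = (t ∪ u) \ t := by
    rw [Finset.union_sdiff_left, Finset.sdiff_eq_self_of_disjoint htu.symm]
  have h2 : u' = (t' ∪ u') \ t' := by
    rw [Finset.union_sdiff_left, Finset.sdiff_eq_self_of_disjoint htu'.symm]
  rw [h1, Finset.smul_finset_sdiff, heq, hgt, ← h2]

theorem tQ0_uQ0_hexad : fs tQ0 ∪ fs uQ0 ∈ hexadsOn (fs dodecad0) := by
  apply quartet0_mem.2.2 (fs tQ0) (mem_fss.mpr ⟨tQ0, by simp [quartet0C], rfl⟩) (fs uQ0)
    (mem_fss.mpr ⟨uQ0, by simp [quartet0C], rfl⟩)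
  intro h
  have := fs_injOn (a := tQ0) (b := uQ0) (by decide) (by decide) h
  exact absurd this (by decide)

/-- **A quartet is determined by any two of its triples.** -/
theorem existsUnique_quartet {d : Finset GolayPt} (hd : d ∈ dodecads) {t u : Finset GolayPt}
    (ht : t.card = 3) (hu : u.card = 3) (htu : Disjoint t u) (hh : t ∪ u ∈ hexadsOn d) :
    ∃! Q : Finset (Finset GolayPt), Q ∈ quartets d ∧ t ∈ Q ∧ u ∈ Q := by
  obtain ⟨s, hs, rfl⟩ := cwReach_dodecad hd
  have ht1 : (s⁻¹ • t).card = 3 := by rw [Finset.card_smul_finset]; exact ht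
  have hu1 : (s⁻¹ • u).card = 3 := by rw [Finset.card_smul_finset]; exact hu
  have htu1 : Disjoint (s⁻¹ • t) (s⁻¹ • u) := by
    rw [Finset.disjoint_iff_inter_eq_empty, ← Finset.smul_finset_inter,
      Finset.disjoint_iff_inter_eq_empty.mp htu, Finset.smul_finset_empty]
  have hh1 : s⁻¹ • t ∪ s⁻¹ • u ∈ hexadsOn (fs dodecad0) := by
    have := smul_mem_hexadsOn (M24.inv_mem hs) hh
    rwa [inv_smul_smul, Finset.smul_finset_union] at this
  obtain ⟨m, hm, hmd, hmt, hmu⟩ := exists_stab_dodecad_pair dodecad0_mem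
    (by rw [card_fs]; decide) (by rw [card_fs]; decide)
    (by rw [Finset.disjoint_iff_inter_eq_empty, ← fs_and]; decide) tQ0_uQ0_hexad ht1 hu1 htu1 hh1
  have hgM : s * m ∈ M24 := M24.mul_mem hs hm
  have hgd : (s * m) • fs dodecad0 = s • fs dodecad0 := by rw [mul_smul, hmd]
  have hgt : (s * m) • fs tQ0 = t := by rw [mul_smul, hmt, smul_inv_smul]
  have hgu : (s * m) • fs uQ0 = u := by rw [mul_smul, hmu, smul_inv_smul]
  refine ⟨(s * m) • fss quartet0C, ⟨?_, ?_, ?_⟩, ?_⟩
  · have := smul_mem_quartets hgM quartet0_mem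
    rwa [hgd] at this
  · rw [← hgt]
    exact Finset.smul_mem_smul_finset (mem_fss.mpr ⟨tQ0, by simp [quartet0C], rfl⟩)
  · rw [← hgu]
    exact Finset.smul_mem_smul_finset (mem_fss.mpr ⟨uQ0, by simp [quartet0C], rfl⟩)
  · rintro Q ⟨hQ, htQ, huQ⟩
    have h1 : (s * m)⁻¹ • Q ∈ quartets (fs dodecad0) := by
      have := smul_mem_quartets (M24.inv_mem hgM) hQ
      rwa [← hgd, inv_smul_smul] at this
    have h2 : fs tQ0 ∈ (s * m)⁻¹ • Q := by
      have := Finset.smul_mem_smul_finset (a := (s * m)⁻¹) htQ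
      rwa [← hgt, inv_smul_smul] at this
    have h3 : fs uQ0 ∈ (s * m)⁻¹ • Q := by
      have := Finset.smul_mem_smul_finset (a := (s * m)⁻¹) huQ
      rwa [← hgu, inv_smul_smul] at this
    rw [← quartet0_unique h1 h2 h3, smul_inv_smul]

/-- the number of hexads on a dodecad -/
theorem ncard_hexadsOn {d : Finset GolayPt} (hd : d ∈ dodecads) : (hexadsOn d).ncard = 132 := by
  obtain ⟨s, hs, rfl⟩ := cwReach_dodecad hd
  have : hexadsOn (s • fs dodecad0) = (fun h => s • h) '' hexadsOn (fs dodecad0) := by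
    ext h
    constructor
    · intro hh
      refine ⟨s⁻¹ • h, ?_, smul_inv_smul s h⟩
      have := smul_mem_hexadsOn (M24.inv_mem hs) hh
      rwa [inv_smul_smul] at this
    · rintro ⟨h', hh', rfl⟩
      exact smul_mem_hexadsOn hs hh'
  rw [this, Set.ncard_image_of_injective _ (MulAction.injective s), ncard_hexadsOn_ref]

/-- two distinct triples of a quartet are disjoint -/
theorem quartet_disjoint {d : Finset GolayPt} {Q : Finset (Finset GolayPt)} (hQ : Q ∈ quartets d)
    {t u : Finset GolayPt} (ht : t ∈ Q) (hu : u ∈ Q) (hne : t ≠ u) : Disjoint t u := by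
  have h6 := (hQ.2.2 t ht u hu hne).1
  have h3t := (hQ.2.1 t ht).1
  have h3u := (hQ.2.1 u hu).1
  rw [Finset.disjoint_iff_inter_eq_empty, ← Finset.card_eq_zero]
  have := Finset.card_union_add_card_inter t u
  omega

set_option maxHeartbeats 1000000 in
set_option maxRecDepth 100000 in
/-- **A dodecad has 220 quartets.** -/
theorem ncard_quartets {d : Finset GolayPt} (hd : d ∈ dodecads) : (quartets d).ncard = 220 := by
  classical
  have hfin : (quartets d).Finite := Set.toFinite _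
  have hhfin : (hexadsOn d).Finite := Set.toFinite _
  rw [Set.ncard_eq_toFinset_card (quartets d) hfin]
  set F := hfin.toFinset with hF
  have hFmem : ∀ Q, Q ∈ F ↔ Q ∈ quartets d := fun Q => Set.Finite.mem_toFinset hfin
  set H := hhfin.toFinset with hH
  have hHmem : ∀ h, h ∈ H ↔ h ∈ hexadsOn d := fun h => Set.Finite.mem_toFinset hhfin
  have hHcard : H.card = 132 := by
    rw [← Set.ncard_eq_toFinset_card (hexadsOn d) hhfin, ncard_hexadsOn hd]
  obtain ⟨P, hPmem⟩ : ∃ P : Finset (Finset GolayPt × Finset GolayPt),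
      ∀ p, p ∈ P ↔ p.1.card = 3 ∧ p.2.card = 3 ∧ Disjoint p.1 p.2 ∧ p.1 ∪ p.2 ∈ hexadsOn d :=
    ⟨Finset.univ.filter (fun p => p.1.card = 3 ∧ p.2.card = 3 ∧ Disjoint p.1 p.2 ∧
      p.1 ∪ p.2 ∈ hexadsOn d), fun p => by rw [Finset.mem_filter]; simp⟩
  -- count `P` through the hexads
  have hPcard : P.card = 132 * 20 := by
    have hmaps : ∀ p ∈ P, p.1 ∪ p.2 ∈ H := fun p hp => (hHmem _).mpr ((hPmem p).mp hp).2.2.2
    rw [Finset.card_eq_sum_card_fiberwise hmaps]
    have hfib : ∀ h ∈ H, (P.filter (fun p => p.1 ∪ p.2 = h)).card = 20 := by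
      intro h hh
      have h6 : h.card = 6 := ((hHmem h).mp hh).1
      have : (Finset.powersetCard 3 h).card = 20 := by
        rw [Finset.card_powersetCard, h6]; decide
      rw [← this]
      apply Finset.card_bij (fun p _ => p.1)
      · intro p hp
        rw [Finset.mem_filter, hPmem] at hp
        rw [Finset.mem_powersetCard]
        exact ⟨by rw [← hp.2]; exact Finset.subset_union_left, hp.1.1⟩
      · intro p hp q hq hpq
        rw [Finset.mem_filter, hPmem] at hp hq
        have hp2 : p.2 = h \ p.1 := by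
          rw [← hp.2, Finset.union_sdiff_left, Finset.sdiff_eq_self_of_disjoint hp.1.2.2.1.symm]
        have hq2 : q.2 = h \ q.1 := by
          rw [← hq.2, Finset.union_sdiff_left, Finset.sdiff_eq_self_of_disjoint hq.1.2.2.1.symm]
        exact Prod.ext hpq (by rw [hp2, hq2, hpq])
      · intro t ht
        rw [Finset.mem_powersetCard] at ht
        refine ⟨(t, h \ t), ?_, rfl⟩
        rw [Finset.mem_filter, hPmem]
        have hun : t ∪ h \ t = h := Finset.union_sdiff_of_subset ht.1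
        refine ⟨⟨ht.2, ?_, Finset.disjoint_sdiff, ?_⟩, hun⟩
        · show (h \ t).card = 3
          rw [Finset.card_sdiff_of_subset ht.1, h6, ht.2]
        · show t ∪ h \ t ∈ hexadsOn d
          rw [hun]; exact (hHmem h).mp hh
    rw [Finset.sum_congr rfl hfib, Finset.sum_const, hHcard, smul_eq_mul]
  -- count `P` through the quartets
  have hdc := Finset.sum_card_bipartiteAbove_eq_sum_card_bipartiteBelow
    (s := F) (t := P) (fun (Q : Finset (Finset GolayPt)) (p : Finset GolayPt × Finset GolayPt) =>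
      p.1 ∈ Q ∧ p.2 ∈ Q)
  have h1 : ∀ Q ∈ F, (P.bipartiteAbove (fun (Q : Finset (Finset GolayPt))
      (p : Finset GolayPt × Finset GolayPt) => p.1 ∈ Q ∧ p.2 ∈ Q) Q).card = 12 := by
    intro Q hQ
    have hQ' := (hFmem Q).mp hQ
    have : P.bipartiteAbove (fun (Q : Finset (Finset GolayPt))
        (p : Finset GolayPt × Finset GolayPt) => p.1 ∈ Q ∧ p.2 ∈ Q) Q = Q.offDiag := by
      ext p
      simp only [Finset.bipartiteAbove, Finset.mem_filter, Finset.mem_offDiag, hPmem]
      constructor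
      · rintro ⟨⟨h3, _, hdis, _⟩, h1, h2⟩
        refine ⟨h1, h2, ?_⟩
        intro heq
        rw [heq, disjoint_self, Finset.bot_eq_empty] at hdis
        rw [heq, hdis] at h3
        simp at h3
      · rintro ⟨h1, h2, hne⟩
        exact ⟨⟨(hQ'.2.1 _ h1).1, (hQ'.2.1 _ h2).1, quartet_disjoint hQ' h1 h2 hne,
          hQ'.2.2 _ h1 _ h2 hne⟩, h1, h2⟩
    rw [this, Finset.offDiag_card, hQ'.1]
  have h2 : ∀ p ∈ P, (F.bipartiteBelow (fun (Q : Finset (Finset GolayPt))
      (p : Finset GolayPt × Finset GolayPt) => p.1 ∈ Q ∧ p.2 ∈ Q) p).card = 1 := by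
    intro p hp
    obtain ⟨h3, h3', hdis, hhex⟩ := (hPmem p).mp hp
    obtain ⟨Q, ⟨hQ, h1, h2⟩, huniq⟩ := existsUnique_quartet hd h3 h3' hdis hhex
    rw [Finset.card_eq_one]
    refine ⟨Q, ?_⟩
    ext Q'
    simp only [Finset.bipartiteBelow, Finset.mem_filter, Finset.mem_singleton, hFmem]
    constructor
    · rintro ⟨hQ', h1', h2'⟩
      exact huniq Q' ⟨hQ', h1', h2'⟩
    · rintro rfl
      exact ⟨hQ, h1, h2⟩
  rw [Finset.sum_congr rfl h1, Finset.sum_congr rfl h2, Finset.sum_const, Finset.sum_const,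
    smul_eq_mul, smul_eq_mul, mul_one, hPcard] at hdc
  omega

/-- **The stabilizer of a dodecad is transitive on its quartets.** -/
theorem exists_stab_dodecad_quartet {d : Finset GolayPt} (hd : d ∈ dodecads)
    {Q Q' : Finset (Finset GolayPt)} (hQ : Q ∈ quartets d) (hQ' : Q' ∈ quartets d) :
    ∃ g ∈ M24, g • d = d ∧ g • Q = Q' := by
  obtain ⟨t, ht, u, hu, hne⟩ := Finset.one_lt_card.mp (show 1 < Q.card by rw [hQ.1]; norm_num)
  obtain ⟨t', ht', u', hu', hne'⟩ :=
    Finset.one_lt_card.mp (show 1 < Q'.card by rw [hQ'.1]; norm_num)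
  obtain ⟨g, hg, hgd, hgt, hgu⟩ := exists_stab_dodecad_pair hd (hQ.2.1 t ht).1 (hQ.2.1 u hu).1
    (quartet_disjoint hQ ht hu hne) (hQ.2.2 t ht u hu hne) (hQ'.2.1 t' ht').1 (hQ'.2.1 u' hu').1
    (quartet_disjoint hQ' ht' hu' hne') (hQ'.2.2 t' ht' u' hu' hne')
  refine ⟨g, hg, hgd, ?_⟩
  have hgQ : g • Q ∈ quartets d := by
    have := smul_mem_quartets hg hQ
    rwa [hgd] at this
  obtain ⟨Q0, _, huniq⟩ := existsUnique_quartet hd (hQ'.2.1 t' ht').1 (hQ'.2.1 u' hu').1
    (quartet_disjoint hQ' ht' hu' hne') (hQ'.2.2 t' ht' u' hu' hne')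
  rw [huniq (g • Q) ⟨hgQ, by rw [← hgt]; exact Finset.smul_mem_smul_finset ht,
    by rw [← hgu]; exact Finset.smul_mem_smul_finset hu⟩, huniq Q' ⟨hQ', ht', hu'⟩]

end Cfsg.Agent.Lib.Helper6.Golay
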