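import Cfsg.Agent.Lib.Helper6.GolayQuartetOrb

/-!
# The stabilizer of a quartet: five orbits on the quartets of the dodecad, of lengths
1, 12, 27, 72, 108
-/

set_option autoImplicit false

namespace Cfsg.Agent.Lib.Helper6.Golay

open Cfsg
open Cfsg.Agent.Lib.Helper6.PermChain
open scoped Pointwise

/-- the triples of a quartet cover the dodecad -/
theorem quartet_cover {d : Finset GolayPt} (hd : d ∈ dodecads) {Q : Finset (Finset GolayPt)}
    (hQ : Q ∈ quartets d) {x : GolayPt} (hx : x ∈ d) : ∃ t ∈ Q, x ∈ t := by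
  have hsub : Q.biUnion id ⊆ d := by
    intro y hy
    rw [Finset.mem_biUnion] at hy
    obtain ⟨t, ht, hyt⟩ := hy
    exact (hQ.2.1 t ht).2 hyt
  have hcard : (Q.biUnion id).card = 12 := by
    rw [Finset.card_biUnion]
    · have h3 : ∀ u ∈ Q, (id u).card = 3 := fun t ht => (hQ.2.1 t ht).1
      rw [Finset.sum_congr rfl h3, Finset.sum_const, hQ.1]; rfl
    · intro t ht u hu hne
      exact quartet_disjoint hQ ht hu hne
  have : Q.biUnion id = d := Finset.eq_of_subset_of_card_le hsub (by rw [hcard, hd.2])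
  rw [← this, Finset.mem_biUnion] at hx
  exact hx

/-- a permutation fixing a quartet fixes its dodecad -/
theorem smul_dodecad_of_smul_quartet {d : Finset GolayPt} (hd : d ∈ dodecads)
    {Q : Finset (Finset GolayPt)} (hQ : Q ∈ quartets d) {g : Equiv.Perm GolayPt}
    (hg : g • Q = Q) : g • d = d := by
  apply Finset.eq_of_subset_of_card_le
  · intro y hy
    rw [Finset.mem_smul_finset] at hy
    obtain ⟨x, hx, rfl⟩ := hy
    obtain ⟨t, ht, hxt⟩ := quartet_cover hd hQ hx
    have hgt : g • t ∈ Q := by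
      have := Finset.smul_mem_smul_finset (a := g) ht
      rwa [hg] at this
    exact (hQ.2.1 _ hgt).2 (Finset.smul_mem_smul_finset hxt)
  · rw [Finset.card_smul_finset]

theorem canonB_of_quartetB {L : List ℕ} (h : quartetB L = true) : canonB L = true := by
  simp only [quartetB, Bool.and_eq_true] at h
  exact h.1.2

set_option maxHeartbeats 4000000 in
theorem rootsQ_ok : (quartetB rootQA && quartetB rootQB && quartetB rootQC && quartetB rootQD) =
    true := by
  decide +kernel

theorem rootQA_ok : quartetB rootQA = true := by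
  have := rootsQ_ok
  simp only [Bool.and_eq_true] at this
  exact this.1.1.1

theorem rootQB_ok : quartetB rootQB = true := by
  have := rootsQ_ok
  simp only [Bool.and_eq_true] at this
  exact this.1.1.2

theorem rootQC_ok : quartetB rootQC = true := by
  have := rootsQ_ok
  simp only [Bool.and_eq_true] at this
  exact this.1.2

theorem rootQD_ok : quartetB rootQD = true := by
  have := rootsQ_ok
  simp only [Bool.and_eq_true] at this
  exact this.2

theorem orbSet_subset_quartets {X : Finset (Finset GolayPt)} (hX : X ∈ quartets (fs dodecad0)) :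
    OrbSet (HSt (fss quartet0C)) X ⊆ quartets (fs dodecad0) := by
  rintro Y ⟨g, hg, rfl⟩
  obtain ⟨hgM, hgQ⟩ := mem_HSt.mp hg
  have := smul_mem_quartets hgM hX
  rwa [smul_dodecad_of_smul_quartet dodecad0_mem quartet0_mem hgQ] at this

theorem nkrQ_table : nkrB quartet0C 1 quartet0C = 0 ∧ nkrB quartet0C 1 rootQA = 9 ∧
    nkrB quartet0C 1 rootQB = 4 ∧ nkrB quartet0C 1 rootQC = 6 ∧ nkrB quartet0C 1 rootQD = 10 := by
  decide +kernel

theorem qDisj (L L' : List ℕ) (hL : quartetB L = true) (hL' : quartetB L' = true)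
    (h : nkrB quartet0C 1 L ≠ nkrB quartet0C 1 L') :
    Disjoint (OrbSet (HSt (fss quartet0C)) (fss L)) (OrbSet (HSt (fss quartet0C)) (fss L')) :=
  orbSet_disjoint_of_nkr (canonB_of_quartetB quartet0C_ok) (canonB_of_quartetB hL)
    (canonB_of_quartetB hL') 1 h

theorem qDisj0 (L : List ℕ) (hL : quartetB L = true)
    (h : nkrB quartet0C 1 quartet0C ≠ nkrB quartet0C 1 L) :
    fss quartet0C ∉ OrbSet (HSt (fss quartet0C)) (fss L) :=
  not_mem_orbSet_of_nkr (canonB_of_quartetB quartet0C_ok) (canonB_of_quartetB hL) 1 h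

/-- **The five orbits of the stabilizer of the reference quartet.** -/
theorem quartets_eq_union :
    quartets (fs dodecad0) = {fss quartet0C} ∪ OrbSet (HSt (fss quartet0C)) (fss rootQA) ∪
      OrbSet (HSt (fss quartet0C)) (fss rootQB) ∪ OrbSet (HSt (fss quartet0C)) (fss rootQC) ∪
      OrbSet (HSt (fss quartet0C)) (fss rootQD) ∧
    (OrbSet (HSt (fss quartet0C)) (fss rootQA)).ncard = 12 ∧
    (OrbSet (HSt (fss quartet0C)) (fss rootQB)).ncard = 27 ∧
    (OrbSet (HSt (fss quartet0C)) (fss rootQC)).ncard = 72 ∧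
    (OrbSet (HSt (fss quartet0C)) (fss rootQD)).ncard = 108 := by
  obtain ⟨n0, nA, nB, nC, nD⟩ := nkrQ_table
  set OA := OrbSet (HSt (fss quartet0C)) (fss rootQA) with hOA
  set OB := OrbSet (HSt (fss quartet0C)) (fss rootQB) with hOB
  set OC := OrbSet (HSt (fss quartet0C)) (fss rootQC) with hOC
  set OD := OrbSet (HSt (fss quartet0C)) (fss rootQD) with hOD
  have hsub : {fss quartet0C} ∪ OA ∪ OB ∪ OC ∪ OD ⊆ quartets (fs dodecad0) := by
    intro Y hY
    simp only [Set.mem_union, Set.mem_singleton_iff] at hY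
    rcases hY with (((rfl | h) | h) | h) | h
    · exact quartet0_mem
    · exact orbSet_subset_quartets (fss_mem_quartets rootQA_ok) h
    · exact orbSet_subset_quartets (fss_mem_quartets rootQB_ok) h
    · exact orbSet_subset_quartets (fss_mem_quartets rootQC_ok) h
    · exact orbSet_subset_quartets (fss_mem_quartets rootQD_ok) h
  have d0A := qDisj0 rootQA rootQA_ok (by rw [n0, nA]; norm_num)
  have d0B := qDisj0 rootQB rootQB_ok (by rw [n0, nB]; norm_num)
  have d0C := qDisj0 rootQC rootQC_ok (by rw [n0, nC]; norm_num)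
  have d0D := qDisj0 rootQD rootQD_ok (by rw [n0, nD]; norm_num)
  have dAB := qDisj rootQA rootQB rootQA_ok rootQB_ok (by rw [nA, nB]; norm_num)
  have dAC := qDisj rootQA rootQC rootQA_ok rootQC_ok (by rw [nA, nC]; norm_num)
  have dAD := qDisj rootQA rootQD rootQA_ok rootQD_ok (by rw [nA, nD]; norm_num)
  have dBC := qDisj rootQB rootQC rootQB_ok rootQC_ok (by rw [nB, nC]; norm_num)
  have dBD := qDisj rootQB rootQD rootQB_ok rootQD_ok (by rw [nB, nD]; norm_num)
  have dCD := qDisj rootQC rootQD rootQC_ok rootQD_ok (by rw [nC, nD]; norm_num)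
  have d1 : Disjoint ({fss quartet0C} : Set (Finset (Finset GolayPt))) OA := by
    rw [Set.disjoint_left]; intro Y hY hY2
    rw [Set.mem_singleton_iff] at hY; subst hY; exact d0A hY2
  have d2 : Disjoint (({fss quartet0C} : Set (Finset (Finset GolayPt))) ∪ OA) OB := by
    rw [Set.disjoint_left]; rintro Y (hY | hY) hY2
    · rw [Set.mem_singleton_iff] at hY; subst hY; exact d0B hY2
    · exact (Set.disjoint_left.mp dAB) hY hY2
  have d3 : Disjoint ((({fss quartet0C} : Set (Finset (Finset GolayPt))) ∪ OA) ∪ OB) OC := by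
    rw [Set.disjoint_left]; rintro Y ((hY | hY) | hY) hY2
    · rw [Set.mem_singleton_iff] at hY; subst hY; exact d0C hY2
    · exact (Set.disjoint_left.mp dAC) hY hY2
    · exact (Set.disjoint_left.mp dBC) hY hY2
  have d4 : Disjoint (((({fss quartet0C} : Set (Finset (Finset GolayPt))) ∪ OA) ∪ OB) ∪ OC) OD := by
    rw [Set.disjoint_left]; rintro Y (((hY | hY) | hY) | hY) hY2
    · rw [Set.mem_singleton_iff] at hY; subst hY; exact d0D hY2
    · exact (Set.disjoint_left.mp dAD) hY hY2
    · exact (Set.disjoint_left.mp dBD) hY hY2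
    · exact (Set.disjoint_left.mp dCD) hY hY2
  have hcard : ({fss quartet0C} ∪ OA ∪ OB ∪ OC ∪ OD).ncard =
      1 + OA.ncard + OB.ncard + OC.ncard + OD.ncard := by
    rw [Set.ncard_union_eq d4 (Set.toFinite _) (Set.toFinite _),
      Set.ncard_union_eq d3 (Set.toFinite _) (Set.toFinite _),
      Set.ncard_union_eq d2 (Set.toFinite _) (Set.toFinite _),
      Set.ncard_union_eq d1 (Set.toFinite _) (Set.toFinite _), Set.ncard_singleton]
  have hle := Set.ncard_le_ncard hsub (Set.toFinite _)
  rw [hcard, ncard_quartets dodecad0_mem] at hle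
  have hA : 12 ≤ OA.ncard := le_ncard_of_runQ runQA_ok
  have hB : 27 ≤ OB.ncard := le_ncard_of_runQ runQB_ok
  have hC : 72 ≤ OC.ncard := le_ncard_of_runQ runQC_ok
  have hD : 108 ≤ OD.ncard := le_ncard_of_runQ runQD_ok
  refine ⟨?_, by omega, by omega, by omega, by omega⟩
  symm
  apply Set.eq_of_subset_of_ncard_le hsub _ (Set.toFinite _)
  rw [hcard, ncard_quartets dodecad0_mem]
  omega

theorem orbit_congr_subgroup {H K : Subgroup ↥M24} (h : H = K) (X : Finset (Finset GolayPt)) :
    MulAction.orbit ↥H X = MulAction.orbit ↥K X := by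
  subst h; rfl

/-- the stabilizer of a quartet lies in the stabilizer of its dodecad -/
theorem stabilizer_inf_quartet {d : Finset GolayPt} (hd : d ∈ dodecads)
    {Q : Finset (Finset GolayPt)} (hQ : Q ∈ quartets d) :
    MulAction.stabilizer M24 d ⊓ MulAction.stabilizer M24 Q = MulAction.stabilizer M24 Q := by
  apply inf_eq_right.mpr
  intro g hg
  rw [MulAction.mem_stabilizer_iff] at hg ⊢
  exact smul_dodecad_of_smul_quartet hd hQ hg

/-- **A quartet stabiliser has five orbits on the quartets of its dodecad, of sizes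
1, 12, 27, 72, 108.** -/
theorem quartet_main (d : Finset GolayPt) (hd : d ∈ dodecads) (Q : Finset (Finset GolayPt))
    (hQ : Q ∈ quartets d) :
    ∃ X₁ ∈ quartets d, ∃ X₂ ∈ quartets d, ∃ X₃ ∈ quartets d, ∃ X₄ ∈ quartets d,
      (MulAction.orbit ↥(MulAction.stabilizer M24 d ⊓ MulAction.stabilizer M24 Q) X₁).ncard = 12 ∧
      (MulAction.orbit ↥(MulAction.stabilizer M24 d ⊓ MulAction.stabilizer M24 Q) X₂).ncard = 27 ∧
      (MulAction.orbit ↥(MulAction.stabilizer M24 d ⊓ MulAction.stabilizer M24 Q) X₃).ncard = 72 ∧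
      (MulAction.orbit ↥(MulAction.stabilizer M24 d ⊓ MulAction.stabilizer M24 Q) X₄).ncard = 108 ∧
      quartets d = {Q} ∪
        MulAction.orbit ↥(MulAction.stabilizer M24 d ⊓ MulAction.stabilizer M24 Q) X₁ ∪
        MulAction.orbit ↥(MulAction.stabilizer M24 d ⊓ MulAction.stabilizer M24 Q) X₂ ∪
        MulAction.orbit ↥(MulAction.stabilizer M24 d ⊓ MulAction.stabilizer M24 Q) X₃ ∪
        MulAction.orbit ↥(MulAction.stabilizer M24 d ⊓ MulAction.stabilizer M24 Q) X₄ := by
  have hH := stabilizer_inf_quartet hd hQ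
  simp only [orbit_congr_subgroup hH]
  obtain ⟨s, hs, rfl⟩ := cwReach_dodecad hd
  have hQ1 : s⁻¹ • Q ∈ quartets (fs dodecad0) := by
    have := smul_mem_quartets (M24.inv_mem hs) hQ
    rwa [inv_smul_smul] at this
  obtain ⟨m, hm, hmd, hmQ⟩ := exists_stab_dodecad_quartet dodecad0_mem quartet0_mem hQ1
  have ht : s * m ∈ M24 := M24.mul_mem hs hm
  have htd : (s * m) • fs dodecad0 = s • fs dodecad0 := by rw [mul_smul, hmd]
  obtain rfl : (s * m) • fss quartet0C = Q := by rw [mul_smul, hmQ, smul_inv_smul]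
  have hmemq : ∀ {X : Finset (Finset GolayPt)}, X ∈ quartets (fs dodecad0) →
      (s * m) • X ∈ quartets (s • fs dodecad0) := by
    intro X hX
    have := smul_mem_quartets ht hX
    rwa [htd] at this
  obtain ⟨hU, hA, hB, hC, hD⟩ := quartets_eq_union
  refine ⟨(s * m) • fss rootQA, hmemq (fss_mem_quartets rootQA_ok),
    (s * m) • fss rootQB, hmemq (fss_mem_quartets rootQB_ok),
    (s * m) • fss rootQC, hmemq (fss_mem_quartets rootQC_ok),
    (s * m) • fss rootQD, hmemq (fss_mem_quartets rootQD_ok), ?_, ?_, ?_, ?_, ?_⟩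
  · rw [ncard_orbit_stabilizer_smul ht, hA]
  · rw [ncard_orbit_stabilizer_smul ht, hB]
  · rw [ncard_orbit_stabilizer_smul ht, hC]
  · rw [ncard_orbit_stabilizer_smul ht, hD]
  · rw [orbit_stabilizer_smul ht, orbit_stabilizer_smul ht, orbit_stabilizer_smul ht,
      orbit_stabilizer_smul ht]
    have h1 : ({(s * m) • fss quartet0C} : Set (Finset (Finset GolayPt))) =
        (fun Y => (s * m) • Y) '' {fss quartet0C} := by
      rw [Set.image_singleton]
    rw [h1, ← Set.image_union, ← Set.image_union, ← Set.image_union, ← Set.image_union, ← hU]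
    ext Y
    constructor
    · intro hY
      refine ⟨(s * m)⁻¹ • Y, ?_, smul_inv_smul _ Y⟩
      have := smul_mem_quartets (M24.inv_mem ht) hY
      rwa [← htd, inv_smul_smul] at this
    · rintro ⟨Z, hZ, rfl⟩
      exact hmemq hZ

end Cfsg.Agent.Lib.Helper6.Golay
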