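import Cfsg.Agent.Lib.Helper6.GolaySetSysKey

/-!
# Counting invariants for orbits of stabilizers of set systems

`NKr R k X` is the number of pairs `(a, b)` with `a ∈ R`, `b ∈ X` meeting in exactly `k` points.
-/

set_option autoImplicit false

namespace Cfsg.Agent.Lib.Helper6.Golay

open Cfsg
open Cfsg.Agent.Lib.Helper6.PermChain
open scoped Pointwise

/-- the number of pairs `(a, b)`, `a ∈ R`, `b ∈ X`, with `|a ∩ b| = k` -/
def NKr (R : Finset (Finset GolayPt)) (k : ℕ) (X : Finset (Finset GolayPt)) : ℕ :=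
  ∑ a ∈ R, (X.filter (fun b => (a ∩ b).card = k)).card

theorem NKr_smul {R : Finset (Finset GolayPt)} {g : Equiv.Perm GolayPt} (hg : g ∈ HSt R) (k : ℕ)
    (X : Finset (Finset GolayPt)) : NKr R k (g • X) = NKr R k X := by
  have hg0 := (mem_HSt.mp hg).2
  have hinj : Function.Injective (fun a : Finset GolayPt => g • a) := MulAction.injective g
  have h1 : NKr R k (g • X) = ∑ a ∈ g • R, ((g • X).filter (fun b => (a ∩ b).card = k)).card := by
    rw [hg0]; rfl
  rw [h1, Finset.smul_finset_def, Finset.sum_image (fun a _ b _ h => hinj h), NKr]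
  apply Finset.sum_congr rfl
  intro a _
  rw [Finset.smul_finset_def (s := X), Finset.filter_image, Finset.card_image_of_injective _ hinj]
  congr 1
  apply Finset.filter_congr
  intro b _
  rw [← Finset.smul_finset_inter, Finset.card_smul_finset]

/-- the invariant as a computation on masks -/
def nkrB (RC : List ℕ) (k : ℕ) (L : List ℕ) : ℕ :=
  (RC.map (fun a => (L.filter (fun b => pc 24 (a &&& b) == k)).length)).sum

theorem nodup_map_fs {L : List ℕ} (hL : canonB L = true) : (L.map fs).Nodup := by
  obtain ⟨hpw, hlt⟩ := canonB_spec L hL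
  apply List.Nodup.map_on
  · intro a ha b hb hab
    exact fs_injOn (hlt a ha) (hlt b hb) hab
  · exact hpw.imp (fun h => ne_of_lt h)

theorem NKr_fss {RC L : List ℕ} (hRC : canonB RC = true) (hL : canonB L = true) (k : ℕ) :
    NKr (fss RC) k (fss L) = nkrB RC k L := by
  rw [NKr, fss, List.sum_toFinset _ (nodup_map_fs hRC), List.map_map, nkrB]
  congr 1
  apply List.map_congr_left
  intro a _
  simp only [Function.comp_apply]
  have e1 : ((L.map fs).toFinset.filter (fun b => (fs a ∩ b).card = k)) =
      ((L.map fs).filter (fun b => decide ((fs a ∩ b).card = k))).toFinset := by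
    rw [List.toFinset_filter]
    apply Finset.filter_congr
    intro b _
    simp
  rw [fss, e1, List.toFinset_card_of_nodup ((nodup_map_fs hL).filter _)]
  rw [List.filter_map, List.length_map]
  have e2 : ∀ b ∈ L, ((fun b => decide ((fs a ∩ b).card = k)) ∘ fs) b = (pc 24 (a &&& b) == k) := by
    intro b _
    rw [Function.comp_apply, ← fs_and, card_fs, Bool.eq_iff_iff]
    simp
  rw [List.filter_congr e2]

theorem NKr_orbSet {RC L : List ℕ} (hRC : canonB RC = true) (hL : canonB L = true)
    {Y : Finset (Finset GolayPt)} (hY : Y ∈ OrbSet (HSt (fss RC)) (fss L)) (k : ℕ) :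
    NKr (fss RC) k Y = nkrB RC k L := by
  obtain ⟨g, hg, rfl⟩ := hY
  rw [NKr_smul hg, NKr_fss hRC hL]

/-- two orbits with different counting invariants are disjoint -/
theorem orbSet_disjoint_of_nkr {RC L L' : List ℕ} (hRC : canonB RC = true) (hL : canonB L = true)
    (hL' : canonB L' = true) (k : ℕ) (h : nkrB RC k L ≠ nkrB RC k L') :
    Disjoint (OrbSet (HSt (fss RC)) (fss L)) (OrbSet (HSt (fss RC)) (fss L')) := by
  rw [Set.disjoint_left]
  intro Y h1 h2
  apply h
  rw [← NKr_orbSet hRC hL h1 k, ← NKr_orbSet hRC hL' h2 k]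

theorem not_mem_orbSet_of_nkr {RC L : List ℕ} (hRC : canonB RC = true) (hL : canonB L = true)
    (k : ℕ) (h : nkrB RC k RC ≠ nkrB RC k L) : fss RC ∉ OrbSet (HSt (fss RC)) (fss L) := by
  intro h1
  apply h
  rw [← NKr_orbSet hRC hL h1 k, NKr_fss hRC hRC]

end Cfsg.Agent.Lib.Helper6.Golay
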