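import Cfsg.Agent.Lib.Helper6.GolayQuartetCount
import Cfsg.Agent.Lib.Helper6.GolaySetSysCount

/-!
# The stabilizer of a quartet: certificates for its orbits on the quartets of the dodecad
-/

set_option autoImplicit false

namespace Cfsg.Agent.Lib.Helper6.Golay

open Cfsg
open Cfsg.Agent.Lib.Helper6.PermChain
open scoped Pointwise

def progQ : List (ℕ × ℕ) := [(0, 0), (0, 1), (0, 2), (1, 0), (1, 2), (2, 0), (2, 2), (3, 0), (4, 0), (5, 2), (6, 0), (6, 2), (7, 0), (8, 1), (8, 2), (9, 0), (9, 2), (10, 0), (11, 0), (12, 0), (13, 0), (15, 0), (17, 2), (18, 1), (18, 2), (19, 0), (20, 0), (21, 2), (22, 0), (23, 2), (24, 2), (25, 0), (26, 0), (27, 0), (28, 2), (29, 1), (31, 0), (32, 0), (33, 2), (34, 2), (35, 2), (36, 1), (37, 0), (38, 0), (39, 1), (40, 2), (41, 0), (42, 2), (44, 2), (46, 2), (48, 2), (49, 2), (50, 2), (51, 2), (52, 0), (55, 2), (14, 1), (59, 1), (60, 1), (61, 2), (62, 1), (63, 0), (64, 2), (58, 65), (30, 1), (67, 0), (68, 0), (69, 0), (70, 2), (71, 1), (72, 1), (73, 0), (57, 74), (9, 1), (76, 1), (77, 0), (78, 0),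 (79, 0), (80, 2), (81, 1), (82, 2), (83, 0), (84, 2), (85, 0), (86, 2), (87, 1), (88, 2), (89, 1), (90, 2), (91, 1), (47, 92), (43, 1), (94, 2), (95, 1), (96, 2), (97, 2), (98, 0), (99, 0), (100, 0), (56, 101), (45, 0), (103, 0), (104, 1), (105, 0), (106, 2), (107, 1), (108, 2), (109, 1), (53, 110), (16, 1), (112, 2), (113, 1), (114, 1), (115, 2), (116, 0), (117, 1), (118, 0), (119, 0), (120, 2), (121, 0), (54, 122), (66, 66), (66, 75), (66, 93), (66, 123), (75, 75), (75, 102), (75, 111), (93, 102), (111, 102), (123, 93), (123, 102), (124, 93), (125, 102), (127, 66), (128, 93), (129, 66), (130, 123), (131, 102), (133, 75), (135, 111), (136, 66), (134, 75), (145, 93), (146, 111), (147, 75), (148, 123), (149, 111), (150, 66), (151, 102), (152, 75), (153, 102), (154, 66), (155, 66), (156, 123), (157, 102), (158, 102), (159, 66), (160, 75), (161, 75), (162, 123), (142, 163), (137, 111), (165, 102), (166, 123), (167, 66), (168, 93), (169, 66), (170, 102), (171, 102), (172, 75), (139, 173), (126, 102), (175, 111), (176, 75), (177,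 102), (178, 93), (179, 75), (180, 66), (181, 66), (144, 182), (111, 123), (184, 75), (185, 123), (186, 111), (187, 111), (188, 75), (189, 93), (190, 66), (191, 102), (192, 75), (193, 66), (194, 102), (195, 93), (196, 123), (197, 102), (198, 75), (141, 199), (132, 66), (201, 123), (202, 123), (203, 123), (204, 75), (205, 111), (206, 93), (207, 102), (208, 102), (209, 93), (210, 111), (211, 111), (212, 111), (213, 66), (214, 93), (215, 66), (216, 66), (217, 123), (143, 218), (140, 102), (220, 75), (221, 75), (222, 123), (223, 66), (224, 93), (225, 111), (226, 123), (227, 111), (228, 66), (229, 75), (138, 230)]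

def rootsQ : List (List ℕ) := [[13, 784, 10368, 17472],
  [21, 704, 9472, 18440],
  [21, 1160, 10752, 16704],
  [21, 776, 3136, 24704]]

def certQA : List (List ℕ) := [[],
  [164, 174],
  [219, 164],
  [164],
  [219],
  [231],
  [164, 219],
  [174, 174],
  [164, 200],
  [174, 231],
  [174],
  [164, 174, 174]]

def certQB : List (List ℕ) := [[],
  [183, 164],
  [164, 183, 164],
  [164, 219, 183],
  [164, 183, 231],
  [183, 231],
  [164, 231],
  [231],
  [231, 200],
  [174, 183],
  [164, 200, 183],
  [174, 164, 183],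
  [164, 219],
  [219],
  [174, 164],
  [183, 174],
  [164, 200],
  [174, 174],
  [164, 183],
  [174],
  [219, 164],
  [200, 219],
  [183],
  [183, 200],
  [200],
  [164, 219, 200],
  [164]]

def certQC : List (List ℕ) := [[],
  [231, 219, 174],
  [219, 174],
  [219, 174, 231],
  [231],
  [174, 200, 231],
  [183, 183, 174],
  [200, 219, 200],
  [164, 183, 231],
  [164, 174, 200],
  [174, 164, 164],
  [231, 164],
  [183, 200],
  [174, 183, 174],
  [164, 231],
  [164, 219, 164],
  [174, 200, 164],
  [164],
  [164, 164, 164],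
  [164, 231, 231],
  [219, 164],
  [219, 164, 183],
  [164, 174, 174],
  [183, 174, 219],
  [200],
  [174, 200, 200],
  [174, 200, 183],
  [164, 200, 200],
  [174, 183, 164],
  [164, 219],
  [164, 164, 174],
  [174, 231],
  [164, 183],
  [174],
  [174, 183],
  [164, 219, 174],
  [200, 219],
  [231, 200, 231],
  [183],
  [231, 200],
  [164, 164, 200],
  [164, 164, 219],
  [231, 219],
  [164, 164, 183],
  [164, 164],
  [231, 231],
  [200, 219, 174],
  [164, 200, 219],
  [174, 200, 219],
  [219],
  [164, 219, 183],
  [174, 219, 200],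
  [174, 164],
  [174, 200],
  [200, 231],
  [183, 164],
  [164, 174, 183],
  [200, 231, 183],
  [174, 164, 231],
  [183, 183],
  [164, 174],
  [219, 200],
  [174, 174],
  [219, 219],
  [183, 219],
  [200, 164, 183],
  [164, 200],
  [200, 164],
  [231, 231, 231],
  [174, 174, 183],
  [183, 174],
  [174, 219]]

def certQD : List (List ℕ) := [[],
  [219, 174],
  [164, 183, 164],
  [164, 164, 164, 231],
  [164, 183, 231],
  [231, 164],
  [231],
  [200],
  [164, 183, 183],
  [219, 164, 183],
  [164, 164, 219, 164],
  [183, 164],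
  [164, 231, 219],
  [164, 164, 200],
  [231, 231, 164],
  [164, 231],
  [183, 231, 200],
  [164, 164, 174, 183],
  [174, 183, 174],
  [164, 174],
  [174, 174, 183],
  [164, 164, 231],
  [164],
  [164, 164, 219],
  [231, 219, 174],
  [164, 183],
  [164, 174, 164],
  [164, 174, 183, 174],
  [164, 200, 183],
  [174, 164, 183],
  [164, 219],
  [164, 164, 231, 174],
  [174, 231, 183],
  [174, 183],
  [200, 231, 231],
  [164, 219, 174],
  [219, 183],
  [174, 183, 164],
  [174, 183, 231],
  [174, 200, 200],
  [200, 231],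
  [219, 200],
  [231, 164, 174],
  [231, 200],
  [219, 200, 231],
  [231, 219],
  [174, 231, 164],
  [200, 164, 183, 164],
  [219, 183, 200],
  [164, 219, 183],
  [174, 164],
  [164, 174, 164, 164],
  [164, 164, 164, 174],
  [174, 164, 231],
  [164, 164, 174, 174],
  [219, 200, 183],
  [231, 200, 183],
  [174, 164, 164],
  [164, 174, 200],
  [164, 200],
  [164, 164, 183, 183],
  [164, 219, 164],
  [164, 219, 200],
  [164, 200, 164],
  [164, 231, 174],
  [219, 164, 174],
  [219, 164],
  [174, 200],
  [183],
  [200, 219, 200],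
  [174, 231, 200],
  [183, 174],
  [164, 164, 183],
  [174, 231, 231],
  [231, 200, 164],
  [231, 231],
  [183, 200],
  [174, 174, 219],
  [164, 174, 174],
  [200, 231, 183],
  [164, 174, 183],
  [164, 219, 219],
  [174],
  [174, 183, 219],
  [183, 164, 164],
  [174, 200, 219],
  [174, 174],
  [219, 219],
  [183, 219],
  [200, 231, 219],
  [164, 164, 164, 219],
  [231, 200, 231],
  [164, 200, 200],
  [164, 164],
  [164, 164, 174, 219],
  [231, 164, 164],
  [174, 231],
  [183, 231],
  [219],
  [200, 219],
  [200, 164, 183],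
  [183, 174, 231],
  [164, 164, 174],
  [174, 174, 164],
  [200, 164],
  [183, 219, 164],
  [164, 231, 200],
  [164, 164, 164]]

def EQ : List (List ℕ) := stFilter quartet0C (slpRun gens3 progQ)

theorem rep_EQ : ∀ l ∈ EQ, Rep (HSt (fss quartet0C)) l :=
  rep_stFilter (rep_slpRun _ _ (rep_gens3 hasGens_M24))

def rootQA : List ℕ := rootsQ.getD 0 []
def rootQB : List ℕ := rootsQ.getD 1 []
def rootQC : List ℕ := rootsQ.getD 2 []
def rootQD : List ℕ := rootsQ.getD 3 []

set_option maxRecDepth 1000000 in
set_option maxHeartbeats 4000000 in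
theorem runQA_ok : checkRunK (wordsRun EQ rootQA certQA) 12 = true := by
  decide +kernel

set_option maxRecDepth 1000000 in
set_option maxHeartbeats 4000000 in
theorem runQB_ok : checkRunK (wordsRun EQ rootQB certQB) 27 = true := by
  decide +kernel

set_option maxRecDepth 1000000 in
set_option maxHeartbeats 4000000 in
theorem runQC_ok : checkRunK (wordsRun EQ rootQC certQC) 72 = true := by
  decide +kernel

set_option maxRecDepth 1000000 in
set_option maxHeartbeats 4000000 in
theorem runQD_ok : checkRunK (wordsRun EQ rootQD certQD) 108 = true := by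
  decide +kernel

theorem le_ncard_of_runQ {root : List ℕ} {cert : List (List ℕ)} {n : ℕ}
    (h : checkRunK (wordsRun EQ root cert) n = true) :
    n ≤ (OrbSet (HSt (fss quartet0C)) (fss root)).ncard :=
  le_ncard_of_checkRunK rep_EQ h

end Cfsg.Agent.Lib.Helper6.Golay
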