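import Cfsg.Agent.Lib.Helper6.GolayQuartet

/-!
# The reference quartet: it is the only quartet through its first two triples
-/

set_option autoImplicit false

namespace Cfsg.Agent.Lib.Helper6.Golay

open Cfsg
open Cfsg.Agent.Lib.Helper6.PermChain
open scoped Pointwise

def tQ0 : ℕ := 13
def uQ0 : ℕ := 448
def vQ0 : ℕ := 9728
def wQ0 : ℕ := 18448

/-- the reference quartet, as a list of masks -/
def quartet0C : List ℕ := [tQ0, uQ0, vQ0, wQ0]

/-- Boolean check that a list of masks codes a quartet of the reference dodecad -/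
def quartetB (L : List ℕ) : Bool :=
  L.length == 4 && canonB L && L.all (fun a => (pc 24 a == 3) && (a &&& dodecad0 == a) &&
    L.all (fun b => (a == b) || hexB (a ||| b)))

theorem fss_mem_quartets {L : List ℕ} (h : quartetB L = true) : fss L ∈ quartets (fs dodecad0) := by
  simp only [quartetB, Bool.and_eq_true, beq_iff_eq] at h
  obtain ⟨⟨h4, hc⟩, hall⟩ := h
  obtain ⟨hpw, hlt⟩ := canonB_spec L hc
  refine ⟨?_, ?_, ?_⟩
  · have hnd : (L.map fs).Nodup := by
      apply List.Nodup.map_on
      · intro a ha b hb hab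
        exact fs_injOn (hlt a ha) (hlt b hb) hab
      · exact hpw.imp (fun h => ne_of_lt h)
    rw [fss, List.toFinset_card_of_nodup hnd, List.length_map, h4]
  · intro t ht
    obtain ⟨a, ha, rfl⟩ := mem_fss.mp ht
    have h1 := List.all_eq_true.mp hall a ha
    simp only [Bool.and_eq_true, beq_iff_eq] at h1
    refine ⟨by rw [card_fs]; exact h1.1.1, ?_⟩
    rw [fs_subset_iff (hlt a ha)]
    exact h1.1.2
  · intro t ht u hu htu
    obtain ⟨a, ha, rfl⟩ := mem_fss.mp ht
    obtain ⟨b, hb, rfl⟩ := mem_fss.mp hu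
    have h1 := List.all_eq_true.mp hall a ha
    simp only [Bool.and_eq_true] at h1
    have h2 := List.all_eq_true.mp h1.2 b hb
    simp only [Bool.or_eq_true, beq_iff_eq] at h2
    rcases h2 with h2 | h2
    · exact absurd (by rw [h2]) htu
    · rw [← fs_or]
      exact (fs_mem_hexadsOn_iff (Nat.or_lt_two_pow (hlt a ha) (hlt b hb))).mpr h2

set_option maxHeartbeats 4000000 in
theorem quartet0C_ok : quartetB quartet0C = true := by decide +kernel

theorem quartet0_mem : fss quartet0C ∈ quartets (fs dodecad0) := fss_mem_quartets quartet0C_ok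

set_option maxHeartbeats 4000000 in
/-- the triples completing `tQ0` and `uQ0` to hexads are `vQ0` and `wQ0` only -/
theorem quartetRef_ok : allBelow (fun m =>
    !((pc 24 (combo m) == 8) && (pc 24 (combo m &&& dodecad0) == 6) &&
      (tQ0 &&& (combo m &&& dodecad0) == tQ0)) ||
    (((combo m &&& dodecad0) ^^^ tQ0 == uQ0) || !(hexB (uQ0 ||| ((combo m &&& dodecad0) ^^^ tQ0))) ||
      ((combo m &&& dodecad0) ^^^ tQ0 == vQ0) || ((combo m &&& dodecad0) ^^^ tQ0 == wQ0))) 4096 = true := by
  decide +kernel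

/-- a member of a quartet through `tQ0` and `uQ0` is one of the four reference triples -/
theorem mem_quartet0_of {Q : Finset (Finset GolayPt)} (hQ : Q ∈ quartets (fs dodecad0))
    (ht : fs tQ0 ∈ Q) (hu : fs uQ0 ∈ Q) {v : Finset GolayPt} (hv : v ∈ Q) : v ∈ fss quartet0C := by
  obtain ⟨h4, h3, hun⟩ := hQ
  rw [mem_fss]
  by_cases hvt : v = fs tQ0
  · exact ⟨tQ0, by simp [quartet0C], hvt⟩
  by_cases hvu : v = fs uQ0
  · exact ⟨uQ0, by simp [quartet0C], hvu⟩
  -- the hexad `tQ0 ∪ v`
  obtain ⟨h6, o, ho, hod⟩ := hun (fs tQ0) ht v hv (Ne.symm hvt)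
  obtain ⟨n, hn, h8, rfl⟩ := (mem_octads_iff o).mp ho
  obtain ⟨m, hm, rfl⟩ := (inCode_iff n).mp hn
  rw [← fs_and] at hod
  have hv3 : v.card = 3 := (h3 v hv).1
  have ht3 : (fs tQ0).card = 3 := by rw [card_fs]; decide
  have hdisj : Disjoint (fs tQ0) v := by
    rw [Finset.disjoint_iff_inter_eq_empty, ← Finset.card_eq_zero]
    have := Finset.card_union_add_card_inter (fs tQ0) v
    omega
  have htsub : fs tQ0 ⊆ fs (combo m &&& dodecad0) := by rw [hod]; exact Finset.subset_union_left
  have hveq : v = fs ((combo m &&& dodecad0) ^^^ tQ0) := by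
    rw [fs_xor, hod]
    ext x
    simp only [Finset.mem_symmDiff, Finset.mem_union]
    constructor
    · intro hx
      exact Or.inl ⟨Or.inr hx, fun h => (Finset.disjoint_left.mp hdisj) h hx⟩
    · rintro (⟨h1 | h1, h2⟩ | ⟨h1, h2⟩)
      · exact absurd h1 h2
      · exact h1
      · exact absurd (Or.inl h1) h2
  have hchk := allBelow_spec _ _ quartetRef_ok m hm
  have hc6 : pc 24 (combo m &&& dodecad0) = 6 := by rw [← card_fs, hod]; exact h6
  have hsubB : tQ0 &&& (combo m &&& dodecad0) = tQ0 := (fs_subset_iff (by decide)).mp htsub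
  rw [h8, hc6, hsubB] at hchk
  simp only [beq_self_eq_true, Bool.and_self, Bool.not_true, Bool.false_or, Bool.or_eq_true,
    beq_iff_eq, Bool.not_eq_true'] at hchk
  -- the hexad `uQ0 ∪ v`
  have hhex : hexB (uQ0 ||| ((combo m &&& dodecad0) ^^^ tQ0)) = true := by
    have hlt : (combo m &&& dodecad0) ^^^ tQ0 < 2 ^ 24 :=
      Nat.xor_lt_two_pow (lt_of_le_of_lt Nat.and_le_right (by decide)) (by decide)
    rw [← fs_mem_hexadsOn_iff (Nat.or_lt_two_pow (by decide) hlt), fs_or, ← hveq]
    exact hun (fs uQ0) hu v hv (Ne.symm hvu)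
  rcases hchk with ((h | h) | h) | h
  · exact absurd (by rw [hveq, h]) hvu
  · rw [hhex] at h; exact absurd h (by simp)
  · exact ⟨vQ0, by simp [quartet0C], by rw [hveq, h]⟩
  · exact ⟨wQ0, by simp [quartet0C], by rw [hveq, h]⟩

/-- **The reference quartet is the only quartet through its first two triples.** -/
theorem quartet0_unique {Q : Finset (Finset GolayPt)} (hQ : Q ∈ quartets (fs dodecad0))
    (ht : fs tQ0 ∈ Q) (hu : fs uQ0 ∈ Q) : Q = fss quartet0C := by
  apply Finset.eq_of_subset_of_card_le (fun v hv => mem_quartet0_of hQ ht hu hv)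
  rw [hQ.1, quartet0_mem.1]

end Cfsg.Agent.Lib.Helper6.Golay
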