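import Cfsg.Agent.Lib.Helper6.GolayFlag

/-!
# Generic "rank" machinery: stabilizers of reference structures acting on codewords,
classes given by intersection signatures
-/

set_option autoImplicit false

namespace Cfsg.Agent.Lib.Helper6.Golay

open Cfsg
open Cfsg.Agent.Lib.Helper6.PermChain
open scoped Pointwise

/-- signature of a mask with respect to reference masks: the list of intersection sizes -/
def sig (R0 : List ℕ) (n : ℕ) : List ℕ := R0.map (fun r => pc 24 (n &&& r))

/-- signature of a finset with respect to a list of finsets -/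
def sigF (as : List (Finset GolayPt)) (b : Finset GolayPt) : List ℕ := as.map (fun a => (b ∩ a).card)

theorem sigF_fs (R0 : List ℕ) (n : ℕ) : sigF (R0.map fs) (fs n) = sig R0 n := by
  simp only [sigF, sig, List.map_map]
  apply List.map_congr_left
  intro r _
  simp only [Function.comp, ← fs_and, card_fs]

theorem sigF_smul (t : Equiv.Perm GolayPt) (as : List (Finset GolayPt)) (b : Finset GolayPt) :
    sigF (as.map (fun a => t • a)) (t • b) = sigF as b := by
  simp only [sigF, List.map_map]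
  apply List.map_congr_left
  intro a _
  simp only [Function.comp, smul_inter_card]

theorem sigF_ref (R0 : List ℕ) (t : Equiv.Perm GolayPt) (b : Finset GolayPt) :
    sigF (R0.map fs) (t⁻¹ • b) = sigF (R0.map (fun r => t • fs r)) b := by
  have := sigF_smul t (R0.map fs) (t⁻¹ • b)
  rw [smul_inv_smul, List.map_map] at this
  exact this.symm

theorem mem_wordsOfWeight_iff (b : Finset GolayPt) (w : ℕ) :
    b ∈ wordsOfWeight (golayCode : Set (GolayPt → ZMod 2)) w ↔
      ∃ n, inCode n = true ∧ pc 24 n = w ∧ b = fs n := by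
  constructor
  · intro h
    have h' := (fs_mem_wordsOfWeight_iff (maskOf_lt b) w).mp (by rw [fs_maskOf]; exact h)
    exact ⟨maskOf b, h'.1, h'.2, (fs_maskOf b).symm⟩
  · rintro ⟨n, h1, h2, rfl⟩
    exact (fs_mem_wordsOfWeight_iff (lt_of_inCode h1) w).mpr ⟨h1, h2⟩

theorem stab_transfer {R0 : List ℕ} {t : Equiv.Perm GolayPt} (ht : t ∈ M24)
    {a a' : Finset GolayPt} (h : ∃ g ∈ stabM M24 R0, g • (t⁻¹ • a) = t⁻¹ • a') :
    ∃ g ∈ M24, (∀ r ∈ R0, g • (t • fs r) = t • fs r) ∧ g • a = a' := by
  obtain ⟨g0, hg0, hg0a⟩ := h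
  have hg0' := mem_stabM.mp hg0
  refine ⟨t * g0 * t⁻¹, M24.mul_mem (M24.mul_mem ht hg0'.1) (M24.inv_mem ht), ?_, ?_⟩
  · intro r hr
    rw [mul_smul, mul_smul, inv_smul_smul, hg0'.2 r hr]
  · rw [mul_smul, mul_smul, hg0a, smul_inv_smul]

/-- the certificate statement for one class -/
def ClassCert (R0 : List ℕ) (w : ℕ) (σ : List ℕ) : Prop :=
  ∀ n n', inCode n = true → inCode n' = true → pc 24 n = w → pc 24 n' = w →
    sig R0 n = σ → sig R0 n' = σ → ∃ g ∈ stabM M24 R0, g • fs n = fs n'

theorem classCert_of_check (R0 : List ℕ) (prog : List (ℕ × ℕ)) (w : ℕ) (σ : List ℕ) (root : ℕ)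
    (cert : List (ℕ × ℕ)) (hroot : inCode root = true)
    (hchk : cwCheck (fun n => pc 24 n == w && sig R0 n == σ)
      (cwRun (stabFilter (slpRun gens3 prog) R0) root cert) = true) : ClassCert R0 w σ := by
  intro n n' hn hn' hw hw' hs hs'
  have hE : ∀ l ∈ stabFilter (slpRun gens3 prog) R0, Rep (stabM M24 R0) l :=
    rep_stabFilter (rep_slpRun _ _ (rep_gens3 hasGens_M24)) _
  exact (cwReach_of_check hE hroot cert _ hchk n hn (by simp [hw, hs])).trans_symm
    (cwReach_of_check hE hroot cert _ hchk n' hn' (by simp [hw', hs']))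

/-- transitivity of the stabilizer of a structure on the codewords of a given signature -/
theorem rank_map {R0 : List ℕ} {w : ℕ} {σ : List ℕ} (hcert : ClassCert R0 w σ)
    {t : Equiv.Perm GolayPt} (ht : t ∈ M24) {b b' : Finset GolayPt}
    (hb : b ∈ wordsOfWeight (golayCode : Set (GolayPt → ZMod 2)) w)
    (hb' : b' ∈ wordsOfWeight (golayCode : Set (GolayPt → ZMod 2)) w)
    (hs : sigF (R0.map (fun r => t • fs r)) b = σ)
    (hs' : sigF (R0.map (fun r => t • fs r)) b' = σ) :
    ∃ g ∈ M24, (∀ r ∈ R0, g • (t • fs r) = t • fs r) ∧ g • b = b' := by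
  have hti : t⁻¹ ∈ M24 := M24.inv_mem ht
  obtain ⟨n, hn, hw, e⟩ := (mem_wordsOfWeight_iff _ w).mp (smul_mem_wordsOfWeight hti hb)
  obtain ⟨n', hn', hw', e'⟩ := (mem_wordsOfWeight_iff _ w).mp (smul_mem_wordsOfWeight hti hb')
  apply stab_transfer ht
  rw [e, e']
  apply hcert n n' hn hn' hw hw'
  · rw [← sigF_fs, ← e, sigF_ref, hs]
  · rw [← sigF_fs, ← e', sigF_ref, hs']

/-- counting the codewords of a given signature -/
theorem rank_count (R0 : List ℕ) (w : ℕ) (σ : List ℕ) {t : Equiv.Perm GolayPt} (ht : t ∈ M24) :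
    {b | b ∈ wordsOfWeight (golayCode : Set (GolayPt → ZMod 2)) w ∧
        sigF (R0.map (fun r => t • fs r)) b = σ}.ncard =
      countBelow (fun m => pc 24 (combo m) == w && (sig R0 (combo m) == σ)) 4096 := by
  rw [ncard_smul_transfer ht _ (fun g hg x hx => smul_mem_wordsOfWeight hg hx)
    (fun b => sigF (R0.map fs) b = σ) (fun b => sigF (R0.map (fun r => t • fs r)) b = σ)
    (fun x => by rw [← sigF_ref, inv_smul_smul])]
  apply ncard_wordsOfWeight_filter w _ (fun n => sig R0 n == σ)
  intro n _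
  rw [sigF_fs, beq_iff_eq]

end Cfsg.Agent.Lib.Helper6.Golay
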