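import Cfsg.Agent.Lib.Helper6.GolayRank

/-!
# Rank certificates `A1604`: reference structure [8388608, 1, 8536111], weight 8
-/

set_option autoImplicit false

namespace Cfsg.Agent.Lib.Helper6.Golay

open Cfsg

def prog_A1604 : List (ℕ × ℕ) := [(1, 0), (3, 0), (3, 1), (3, 2), (4, 2), (6, 0), (7, 0), (7, 2), (8, 0), (9, 0), (0, 2), (13, 0), (14, 1), (15, 2), (16, 1), (17, 2), (18, 2), (19, 0), (20, 2), (21, 0), (22, 1), (23, 1), (24, 2), (25, 0), (26, 0), (27, 2), (28, 1), (3, 29), (2, 1), (31, 1), (32, 2), (33, 0), (34, 0), (35, 2), (36, 0), (37, 2), (38, 1), (39, 2), (40, 0), (41, 2), (42, 0), (43, 0), (44, 2), (45, 0), (10, 46), (5, 1), (48, 2), (49, 2), (50, 1), (51, 2), (52, 1), (53, 1), (54, 2), (55, 2), (56, 1), (57, 0), (58, 1), (59, 0), (60, 0), (61, 0), (62, 1), (63, 0), (64, 1), (10, 65), (2, 2), (67, 1), (68, 1), (69, 2), (70, 1), (71, 2), (72, 1), (73, 2), (74, 2), (75, 1), (76, 2), (77, 0), (78, 1), (79, 2), (11, 80), (13, 2), (82, 2), (83, 0), (84, 2), (85, 1), (86, 2), (87, 2), (88, 2), (89, 0), (90, 2), (91, 2), (12, 92), (66, 81), (81, 47), (81, 93),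 (93, 30), (94, 93), (47, 93), (99, 66), (100, 66), (101, 30), (102, 30), (103, 81), (104, 81), (105, 30), (106, 66), (107, 30), (108, 81), (109, 47), (110, 30), (111, 66), (112, 81), (113, 81), (114, 30), (115, 30), (98, 116), (97, 81), (118, 93), (119, 66), (120, 93), (121, 66), (122, 93), (123, 47), (124, 30), (125, 66), (126, 30), (127, 30), (128, 30), (129, 93), (130, 93), (131, 30), (132, 47), (94, 133), (96, 66), (135, 47), (136, 30), (137, 66), (138, 66), (139, 66), (140, 47), (141, 81), (142, 81), (143, 81), (144, 93), (97, 145), (96, 93), (147, 30), (148, 93), (149, 93), (150, 66), (151, 81), (152, 47), (153, 66), (154, 81), (155, 66), (156, 93), (157, 66), (158, 93), (159, 66), (160, 30), (161, 81), (162, 93), (94, 163), (98, 93), (165, 47), (166, 30), (167, 66), (168, 81), (169, 66), (95, 170), (117, 146), (146, 117), (146, 134), (146, 146), (146, 164), (171, 171), (172, 134), (173, 164), (174, 171), (176, 146), (177, 164), (178, 134), (175, 164), (184, 117), (185, 171), (186, 117), (187, 117), (188, 146), (189, 146), (190, 164), (191, 146), (192, 171), (193,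 171), (194, 146), (195, 134), (196, 146), (197, 134), (198, 146), (180, 199), (175, 146), (201, 164), (202, 117), (203, 117), (204, 171), (205, 134), (206, 146), (207, 171), (208, 134), (209, 146), (210, 134), (211, 146), (212, 134), (213, 164), (214, 117), (215, 117), (179, 216), (171, 146), (218, 134), (219, 164), (220, 134), (221, 117), (222, 146), (223, 134), (224, 171), (225, 164), (226, 146), (227, 134), (228, 117), (229, 117), (181, 230), (218, 171), (232, 134), (233, 146), (234, 146), (235, 117), (236, 171), (237, 146), (238, 171), (239, 134), (240, 164), (183, 241), (184, 146), (243, 164), (244, 146), (245, 164), (246, 171), (247, 164), (248, 117), (249, 164), (250, 134), (251, 134), (252, 117), (253, 164), (254, 171), (255, 171), (182, 256)]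

def R0_A1604 : List ℕ := [8388608, 1, 8536111]

set_option maxRecDepth 1000000 in
def cert_A1604_0 : List (ℕ × ℕ) := [(8499969, 200), (8499969, 217), (8499969, 231), (8499969, 242), (8499969, 257), (9440193, 200), (9440193, 217), (9440193, 242), (9240913, 217), (9240913, 257), (11575377, 200), (11575377, 231), (11575377, 242), (14254209, 242), (14747201, 257)]

set_option maxRecDepth 1000000 in
set_option maxHeartbeats 4000000 in
theorem cc_A1604_0 : ClassCert R0_A1604 8 [1, 1, 2] :=
  classCert_of_check R0_A1604 prog_A1604 8 [1, 1, 2] 8499969 cert_A1604_0 (by decide +kernel)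
    (by decide +kernel)

set_option maxHeartbeats 4000000 in
theorem cnt_A1604_0 : countBelow (fun m => pc 24 (combo m) == 8 && (sig R0_A1604 (combo m) == [1, 1, 2])) 4096 = 16 := by
  decide +kernel

set_option maxRecDepth 1000000 in
def cert_A1604_1 : List (ℕ × ℕ) := [(8391797, 200), (8391797, 217), (8391797, 231), (8391797, 242), (14716939, 200), (14716939, 217), (14716939, 231), (14716939, 242), (12641313, 200), (12641313, 217), (12641313, 231), (12641313, 242), (12641313, 257), (8783649, 200), (8783649, 217), (8783649, 231), (8783649, 242), (8783649, 257), (8657159, 200), (8657159, 217), (8657159, 231), (8657159, 242), (8657159, 257), (8546577, 217), (8546577, 242), (8546577, 257), (11010247, 200), (11010247, 217), (11010247, 231), (11100169, 200), (11100169, 217), (11100169, 257), (10666625, 217), (10666625, 242), (10666625, 257), (8431757, 200), (8431757, 257), (8593633, 231), (10846245, 217), (12587685, 200), (12587685, 217), (9471495, 217), (8663097, 217), (8663097, 242), (9506893, 242), (13370381, 231), (13370381, 242), (8966165, 217), (8966165, 231), (8966165,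 257), (13771273, 257), (8505411, 231), (8619033, 200), (8619033, 257), (12650793, 242), (15747077, 200), (9465987, 200), (10881097, 257), (9519665, 242)]

set_option maxRecDepth 1000000 in
set_option maxHeartbeats 4000000 in
theorem cc_A1604_1 : ClassCert R0_A1604 8 [1, 1, 4] :=
  classCert_of_check R0_A1604 prog_A1604 8 [1, 1, 4] 8391797 cert_A1604_1 (by decide +kernel)
    (by decide +kernel)

set_option maxHeartbeats 4000000 in
theorem cnt_A1604_1 : countBelow (fun m => pc 24 (combo m) == 8 && (sig R0_A1604 (combo m) == [1, 1, 4])) 4096 = 60 := by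
  decide +kernel

end Cfsg.Agent.Lib.Helper6.Golay
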