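import Cfsg.Agent.Lib.Helper6.GolaySimple11

/-!
# In `M11` acting on the twelve points outside the dodecad, the stabilizer of a pair is `S5`
-/

set_option autoImplicit false

namespace Cfsg.Agent.Lib.Helper6.Golay

open Cfsg
open Cfsg.Agent.Lib.Helper6.PermChain
open scoped Pointwise

/-- the octad through `0` meeting the complement of the reference dodecad in `{1, 5}` -/
def octS5 : ℕ := 18147
/-- the pair `{1, 5}` -/
def duadS5 : ℕ := 34
/-- the complement of the reference dodecad -/
def compD0 : ℕ := 16748578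
/-- the five points `6, 7, 9, 10, 14` -/
def xS5 : ℕ := 18112

theorem fs_compD0 : fs compD0 = (fs dodecad0)ᶜ := by
  have : compD0 = dodecad0 ^^^ (2 ^ 24 - 1) := by decide
  rw [this, fs_compl]

set_option maxHeartbeats 4000000 in
theorem octS5_unique_aux : allBelow (fun m => !((pc 24 (combo m) == 8) && (combo m).testBit 0 &&
    (combo m &&& compD0 == duadS5)) || (combo m == octS5)) 4096 = true := by decide +kernel

theorem octS5_mem : fs octS5 ∈ octads := fs_mem_octads (by decide +kernel) (by decide +kernel)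

theorem octS5_unique {o : Finset GolayPt} (ho : o ∈ octads) (h0 : pt 0 ∈ o)
    (hd : o \ fs dodecad0 = fs duadS5) : o = fs octS5 := by
  obtain ⟨n, hn, h8, rfl⟩ := (mem_octads_iff o).mp ho
  obtain ⟨m, hm, rfl⟩ := (inCode_iff n).mp hn
  have := allBelow_spec _ _ octS5_unique_aux m hm
  have hb0 : (combo m).testBit 0 = true := by
    have := mem_fs.mp h0; rwa [idx_pt 0 (by norm_num)] at this
  have hc : combo m &&& compD0 = duadS5 := by
    apply fs_injOn (Nat.and_lt_two_pow _ (by decide : compD0 < 2 ^ 24)) (by decide)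
    rw [fs_and, fs_compD0, ← hd, Finset.sdiff_eq_inter_compl]
  rw [h8, hb0, hc] at this
  simp only [beq_self_eq_true, Bool.and_self, Bool.not_true, Bool.false_or, beq_iff_eq] at this
  rw [this]

/-- the reference group: the stabilizer of the reference dodecad, of its point `0` and of the pair
`{1, 5}` -/
def K5 : Subgroup (Equiv.Perm GolayPt) :=
  M11in M24 ⊓ MulAction.stabilizer (Equiv.Perm GolayPt) (fs duadS5)

theorem mem_K5 {g : Equiv.Perm GolayPt} : g ∈ K5 ↔ g ∈ M11in M24 ∧ g • fs duadS5 = fs duadS5 := by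
  rw [K5, Subgroup.mem_inf]
  exact Iff.rfl

theorem K5_facts {g : Equiv.Perm GolayPt} (hg : g ∈ K5) :
    g ∈ M24 ∧ g • fs dodecad0 = fs dodecad0 ∧ g (pt 0) = pt 0 ∧ g • fs duadS5 = fs duadS5 := by
  obtain ⟨hg11, hgd⟩ := mem_K5.mp hg
  have hg12 := mem_M12in.mp (fixL_le _ _ hg11)
  exact ⟨hg12.1, hg12.2, (mem_fixL.mp hg11).2 _ (by simp), hgd⟩

theorem K5_smul_oct {g : Equiv.Perm GolayPt} (hg : g ∈ K5) : g • fs octS5 = fs octS5 := by
  obtain ⟨h24, hd, h0, hq⟩ := K5_facts hg
  apply octS5_unique (smul_mem_octads h24 octS5_mem)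
  · have : pt 0 ∈ fs octS5 := by decide
    have h := Finset.smul_mem_smul_finset (a := g) this
    rwa [Equiv.Perm.smul_def, h0] at h
  · have e : fs octS5 \ fs dodecad0 = fs duadS5 := by decide
    calc g • fs octS5 \ fs dodecad0 = g • fs octS5 \ g • fs dodecad0 := by rw [hd]
      _ = g • (fs octS5 \ fs dodecad0) := (Finset.smul_finset_sdiff).symm
      _ = g • fs duadS5 := by rw [e]
      _ = fs duadS5 := hq

theorem K5_smul_x {g : Equiv.Perm GolayPt} (hg : g ∈ K5) : g • fs xS5 = fs xS5 := by
  obtain ⟨h24, hd, h0, hq⟩ := K5_facts hg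
  have e : fs xS5 = (fs octS5 ∩ fs dodecad0) \ {pt 0} := by decide
  rw [e, Finset.smul_finset_sdiff, Finset.smul_finset_inter, K5_smul_oct hg, hd,
    Finset.smul_finset_singleton, Equiv.Perm.smul_def, h0]

/-- the action on the five points -/
def rhoS5 : ↥K5 →* Equiv.Perm ↥(fs xS5) where
  toFun g := (g.1).subtypePerm (fun _ => mem_of_smul_eq (K5_smul_x g.2))
  map_one' := rfl
  map_mul' _ _ := rfl

theorem rhoS5_injective : Function.Injective rhoS5 := by
  rw [injective_iff_map_eq_one]
  intro g hg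
  apply Subtype.ext
  have hfix : ∀ x ∈ fs xS5, g.1 x = x := by
    intro x hx
    have := congrArg (fun e : Equiv.Perm ↥(fs xS5) => ((e ⟨x, hx⟩ : ↥(fs xS5)) : GolayPt)) hg
    exact this
  have hg12 : g.1 ∈ M12in M24 := fixL_le _ _ (mem_K5.mp g.2).1
  let x : Fin 5 ↪ GolayPt := ⟨![pt 6, pt 7, pt 9, pt 10, pt 14], by decide⟩
  apply eq_one_of_M12_fix hg12 x
  · intro i; fin_cases i <;> decide
  · intro i
    apply hfix
    fin_cases i <;> decide

theorem card_K5_ge : 120 ≤ Nat.card ↥K5 := by
  -- orbit-stabilizer for the action of `M11` on finite sets of points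
  have h1 := Subgroup.card_mul_index (MulAction.stabilizer ↥(M11in M24) (fs duadS5))
  rw [MulAction.index_stabilizer] at h1
  have hcard : Nat.card ↥(M11in M24) = 7920 := card_fixL_M12_vals.1
  rw [hcard] at h1
  have horb : (MulAction.orbit ↥(M11in M24) (fs duadS5)).ncard ≤ 66 := by
    have hsub : MulAction.orbit ↥(M11in M24) (fs duadS5) ⊆
        ↑(Finset.powersetCard 2 (fs compD0)) := by
      rintro _ ⟨g, rfl⟩
      rw [Finset.mem_coe, Finset.mem_powersetCard]
      constructor
      · intro y hy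
        have hy' : y ∈ g.1 • fs duadS5 := hy
        rw [Finset.mem_smul_finset] at hy'
        obtain ⟨z, hz, rfl⟩ := hy'
        have hz' : z ∈ fs compD0 := by
          have : fs duadS5 ⊆ fs compD0 := by decide
          exact this hz
        rw [fs_compD0, Finset.mem_compl] at hz' ⊢
        intro h
        apply hz'
        exact (M12in_mem_D g.1 (fixL_le _ _ g.2) z).mp h
      · show (g.1 • fs duadS5).card = 2
        rw [Finset.card_smul_finset]; decide
    have := Set.ncard_le_ncard hsub (Finset.finite_toSet _)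
    rw [Set.ncard_coe_finset, Finset.card_powersetCard] at this
    have h12 : (fs compD0).card = 12 := by rw [card_fs]; decide
    rw [h12] at this
    exact this
  have hstab : Nat.card ↥(MulAction.stabilizer ↥(M11in M24) (fs duadS5)) = Nat.card ↥K5 := by
    apply Nat.card_congr
    refine ⟨fun g => ⟨g.1.1, mem_K5.mpr ⟨g.1.2, g.2⟩⟩,
      fun g => ⟨⟨g.1, (mem_K5.mp g.2).1⟩, (mem_K5.mp g.2).2⟩, fun g => rfl, fun g => rfl⟩
  rw [hstab] at h1
  by_contra hlt
  push Not at hlt
  have : Nat.card ↥K5 * (MulAction.orbit ↥(M11in M24) (fs duadS5)).ncard ≤ 119 * 66 :=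
    Nat.mul_le_mul (by omega) horb
  omega

/-- **The reference group is the symmetric group of degree 5.** -/
theorem K5_equiv : Nonempty (↥K5 ≃* Equiv.Perm (Fin 5)) := by
  have hc : Nat.card (Equiv.Perm ↥(fs xS5)) ≤ Nat.card ↥K5 := by
    rw [Nat.card_perm, Nat.card_eq_fintype_card, Fintype.card_coe, card_fs]
    have : pc 24 xS5 = 5 := by decide
    rw [this]
    exact card_K5_ge
  have hbij := rhoS5_injective.bijective_of_nat_card_le hc
  have e1 : ↥K5 ≃* Equiv.Perm ↥(fs xS5) := MulEquiv.ofBijective rhoS5 hbij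
  have hcard : Fintype.card ↥(fs xS5) = Fintype.card (Fin 5) := by
    rw [Fintype.card_coe, card_fs, Fintype.card_fin]; decide
  exact ⟨e1.trans (Fintype.equivOfCardEq hcard).permCongrHom⟩

end Cfsg.Agent.Lib.Helper6.Golay
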