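import Cfsg.Agent.Lib.Helper6.GolayS5

/-!
# The stabilizer of a pair in `M11` on twelve points: general position
-/

set_option autoImplicit false

namespace Cfsg.Agent.Lib.Helper6.Golay

open Cfsg
open Cfsg.Agent.Lib.Helper6.PermChain
open scoped Pointwise

theorem fs_duadS5 : fs duadS5 = {pt 1, pt 5} := by decide

theorem K5_le : K5 ≤ M24 := fun _ hg => (K5_facts hg).1

/-- an element of `M24` carrying the reference configuration to a given one -/
theorem exists_M24_dodecad_point_pair {d : Finset GolayPt} (hd : d ∈ dodecads) {p q q' : GolayPt}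
    (hp : p ∈ d) (hq : q ∉ d) (hq' : q' ∉ d) (hqq' : q ≠ q') :
    ∃ t ∈ M24, t • fs dodecad0 = d ∧ t (pt 0) = p ∧ t (pt 1) = q ∧ t (pt 5) = q' := by
  obtain ⟨t1, ht1, rfl, rfl⟩ := exists_M24_dodecad_point hd hp
  have hq1 : t1⁻¹ q ∈ C12 := fun h => hq ((mem_smul_iff_inv_mem t1 _ _).mpr h)
  have hq1' : t1⁻¹ q' ∈ C12 := fun h => hq' ((mem_smul_iff_inv_mem t1 _ _).mpr h)
  have hne : t1⁻¹ q ≠ t1⁻¹ q' := fun h => hqq' ((t1⁻¹).injective h)
  have h15 : pt 1 ≠ pt 5 := by decide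
  obtain ⟨t2, ht2, ht2x⟩ := exists_map_of_chain_on_take (M11in M24) C12 M11in_mem_C bs11
    (chain11 hasGens_M24) 2 (by decide)
    ⟨![pt 1, pt 5], by intro i j h; fin_cases i <;> fin_cases j <;> simp_all⟩
    ⟨![t1⁻¹ q, t1⁻¹ q'], by intro i j h; fin_cases i <;> fin_cases j <;> simp_all⟩
    (by
      have h1 : pt 1 ∈ C12 := by
        have : pt 1 ∉ fs dodecad0 := by decide
        exact this
      have h5 : pt 5 ∈ C12 := by
        have : pt 5 ∉ fs dodecad0 := by decide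
        exact this
      intro i; fin_cases i
      · exact h1
      · exact h5)
    (by intro i; fin_cases i
        · exact hq1
        · exact hq1')
  have h1 : t2 (pt 1) = t1⁻¹ q := ht2x 0
  have h5 : t2 (pt 5) = t1⁻¹ q' := ht2x 1
  have ht2' := mem_M12in.mp (fixL_le _ _ ht2)
  have h0 : t2 (pt 0) = pt 0 := (mem_fixL.mp ht2).2 _ (by simp)
  refine ⟨t1 * t2, M24.mul_mem ht1 ht2'.1, ?_, ?_, ?_, ?_⟩
  · rw [mul_smul, ht2'.2]
  · rw [Equiv.Perm.mul_apply, h0]
  · rw [Equiv.Perm.mul_apply, h1, perm_apply_inv]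
  · rw [Equiv.Perm.mul_apply, h5, perm_apply_inv]

/-- **In the 12-point action of `M11` the stabilizer of a pair is the symmetric group `S5`.** -/
theorem stab_dodecad_point_pair_equiv {d : Finset GolayPt} (hd : d ∈ dodecads) {p q q' : GolayPt}
    (hp : p ∈ d) (hq : q ∉ d) (hq' : q' ∉ d) (hqq' : q ≠ q') :
    Nonempty (↥(MulAction.stabilizer M24 d ⊓ MulAction.stabilizer M24 p ⊓
      MulAction.stabilizer M24 ({q, q'} : Finset GolayPt)) ≃* Equiv.Perm (Fin 5)) := by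
  obtain ⟨t, ht, rfl, rfl, rfl, rfl⟩ := exists_M24_dodecad_point_pair hd hp hq hq' hqq'
  obtain ⟨e⟩ := K5_equiv
  have hpair : ({t (pt 1), t (pt 5)} : Finset GolayPt) = t • fs duadS5 := by
    rw [fs_duadS5, Finset.smul_finset_insert, Finset.smul_finset_singleton, Equiv.Perm.smul_def,
      Equiv.Perm.smul_def]
  refine ⟨(conjMulEquiv ht _ K5 K5_le ?_).trans e⟩
  intro g
  rw [Subgroup.mem_inf, Subgroup.mem_inf, MulAction.mem_stabilizer_iff, MulAction.mem_stabilizer_iff,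
    MulAction.mem_stabilizer_iff, mem_K5, M11in, mem_fixL, mem_M12in, hpair]
  constructor
  · rintro ⟨⟨hgd, hgp⟩, hgq⟩
    have hgd' : g.1 • (t • fs dodecad0) = t • fs dodecad0 := hgd
    have hgp' : g.1 (t (pt 0)) = t (pt 0) := hgp
    have hgq' : g.1 • (t • fs duadS5) = t • fs duadS5 := hgq
    refine ⟨⟨⟨M24.mul_mem (M24.mul_mem (M24.inv_mem ht) g.2) ht, conj_smul_eq.mpr hgd'⟩, ?_⟩,
      conj_smul_eq.mpr hgq'⟩
    intro x hx
    rw [List.mem_singleton] at hx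
    subst hx
    rw [Equiv.Perm.mul_apply, Equiv.Perm.mul_apply, hgp']
    exact perm_inv_apply t _
  · rintro ⟨⟨⟨-, hd0⟩, hfix⟩, hq0⟩
    refine ⟨⟨conj_smul_eq.mp hd0, ?_⟩, conj_smul_eq.mp hq0⟩
    show g.1 (t (pt 0)) = t (pt 0)
    have h1 := hfix (pt 0) (by simp)
    rw [Equiv.Perm.mul_apply, Equiv.Perm.mul_apply, Equiv.Perm.inv_eq_iff_eq] at h1
    exact h1

end Cfsg.Agent.Lib.Helper6.Golay
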