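import Cfsg.Agent.Lib.Helper6.GolayNF3

/-!
# Subgroups of `M24` fixing every member of a set system: generalities
-/

set_option autoImplicit false

namespace Cfsg.Agent.Lib.Helper6.Golay

open Cfsg
open Cfsg.Agent.Lib.Helper6.PermChain
open scoped Pointwise

/-- a set of permutations whose elements are exactly given by a duplicate-free list of list
permutations -/
theorem card_set_of_list (K : Set (Equiv.Perm GolayPt)) (Ls : List (List ℕ)) (hnd : Ls.Nodup)
    (hwf : ∀ l ∈ Ls, wf l = true) (h1 : ∀ g ∈ K, ∃ l ∈ Ls, ⇑g = lfun l)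
    (h2 : ∀ l ∈ Ls, ∃ g ∈ K, ⇑g = lfun l) : Nat.card K = Ls.length := by
  classical
  have e : ↥K ≃ {l // l ∈ Ls.toFinset} :=
    { toFun := fun g => ⟨Classical.choose (h1 g.1 g.2),
        List.mem_toFinset.mpr (Classical.choose_spec (h1 g.1 g.2)).1⟩
      invFun := fun l => ⟨Classical.choose (h2 l.1 (List.mem_toFinset.mp l.2)),
        (Classical.choose_spec (h2 l.1 (List.mem_toFinset.mp l.2))).1⟩
      left_inv := by
        intro g
        apply Subtype.ext
        apply DFunLike.coe_injective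
        have s1 := (Classical.choose_spec (h1 g.1 g.2)).2
        have hmem := List.mem_toFinset.mpr (Classical.choose_spec (h1 g.1 g.2)).1
        have s2 := (Classical.choose_spec (h2 (Classical.choose (h1 g.1 g.2))
          (List.mem_toFinset.mp hmem))).2
        exact s2.trans s1.symm
      right_inv := by
        intro l
        apply Subtype.ext
        have hl := List.mem_toFinset.mp l.2
        have s2 := (Classical.choose_spec (h2 l.1 hl)).2
        have hK := (Classical.choose_spec (h2 l.1 hl)).1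
        have s1 := (Classical.choose_spec (h1 _ hK))
        exact lfun_injective (hwf _ s1.1) (hwf _ hl) (s1.2.symm.trans s2) }
  rw [Nat.card_congr e, Nat.card_eq_fintype_card, Fintype.card_coe,
    List.toFinset_card_of_nodup hnd]

/-- the elements of `M24` fixing every member of `S` -/
def kerSx (S : Finset (Finset GolayPt)) : Subgroup (Equiv.Perm GolayPt) where
  carrier := {g | g ∈ M24 ∧ ∀ t ∈ S, g • t = t}
  mul_mem' := by
    rintro a b ⟨ha, ha'⟩ ⟨hb, hb'⟩
    exact ⟨M24.mul_mem ha hb, fun t ht => by rw [mul_smul, hb' t ht, ha' t ht]⟩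
  one_mem' := ⟨M24.one_mem, fun t _ => one_smul _ t⟩
  inv_mem' := by
    rintro a ⟨ha, ha'⟩
    exact ⟨M24.inv_mem ha, fun t ht => by rw [inv_smul_eq_iff, ha' t ht]⟩

theorem mem_kerSx {S : Finset (Finset GolayPt)} {g : Equiv.Perm GolayPt} :
    g ∈ kerSx S ↔ g ∈ M24 ∧ ∀ t ∈ S, g • t = t := Iff.rfl

theorem mem_kerSx_smul {h : Equiv.Perm GolayPt} (hh : h ∈ M24) (S : Finset (Finset GolayPt))
    (g : Equiv.Perm GolayPt) : g ∈ kerSx (h • S) ↔ h⁻¹ * g * h ∈ kerSx S := by
  rw [mem_kerSx, mem_kerSx]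
  constructor
  · rintro ⟨hg, hfix⟩
    refine ⟨M24.mul_mem (M24.mul_mem (M24.inv_mem hh) hg) hh, fun t ht => ?_⟩
    rw [mul_smul, mul_smul, hfix (h • t) (Finset.smul_mem_smul_finset ht), inv_smul_smul]
  · rintro ⟨hg, hfix⟩
    refine ⟨?_, fun t ht => ?_⟩
    · have := M24.mul_mem (M24.mul_mem hh hg) (M24.inv_mem hh)
      have e : h * (h⁻¹ * g * h) * h⁻¹ = g := by group
      rwa [e] at this
    · obtain ⟨t', ht', rfl⟩ := Finset.mem_smul_finset.mp ht
      have := hfix t' ht'
      rw [mul_smul, mul_smul, inv_smul_eq_iff] at this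
      exact this

/-- conjugation as a bijection between two sets of permutations -/
theorem card_eq_of_conj {A B : Set (Equiv.Perm GolayPt)} (h : Equiv.Perm GolayPt)
    (hAB : ∀ g, g ∈ A ↔ h⁻¹ * g * h ∈ B) : Nat.card A = Nat.card B := by
  apply Nat.card_congr
  exact
    { toFun := fun g => ⟨h⁻¹ * g.1 * h, (hAB g.1).mp g.2⟩
      invFun := fun g => ⟨h * g.1 * h⁻¹, (hAB _).mpr (by
        have e : h⁻¹ * (h * g.1 * h⁻¹) * h = g.1 := by group
        rw [e]; exact g.2)⟩
      left_inv := fun g => Subtype.ext (by group)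
      right_inv := fun g => Subtype.ext (by group) }

theorem smul_eq_of_fix {S : Finset (Finset GolayPt)} {g : Equiv.Perm GolayPt}
    (h : ∀ t ∈ S, g • t = t) : g • S = S := by
  ext t
  rw [Finset.mem_smul_finset]
  constructor
  · rintro ⟨t', ht', rfl⟩
    rw [h t' ht']; exact ht'
  · intro ht
    exact ⟨t, ht, h t ht⟩

theorem smul_mem_of_stab {S : Finset (Finset GolayPt)} {x : ↥M24}
    (hx : x ∈ MulAction.stabilizer M24 S) {t : Finset GolayPt} (ht : t ∈ S) :
    (x : Equiv.Perm GolayPt) • t ∈ S := by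
  have h : (x : Equiv.Perm GolayPt) • S = S := hx
  rw [← h]
  exact Finset.smul_mem_smul_finset ht

end Cfsg.Agent.Lib.Helper6.Golay
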