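import Cfsg.Agent.Lib.Helper6.GolayOrbitL

/-!
# Orbits on systems of sets (lists of masks): certificates and lower bounds
-/

set_option autoImplicit false

namespace Cfsg.Agent.Lib.Helper6.Golay

open Cfsg
open Cfsg.Agent.Lib.Helper6.PermChain
open scoped Pointwise

/-- the system of sets coded by a list of masks -/
def fss (L : List ℕ) : Finset (Finset GolayPt) := (L.map fs).toFinset

theorem mem_fss {L : List ℕ} {t : Finset GolayPt} : t ∈ fss L ↔ ∃ a ∈ L, t = fs a := by
  simp only [fss, List.mem_toFinset, List.mem_map]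
  constructor
  · rintro ⟨a, ha, rfl⟩; exact ⟨a, ha, rfl⟩
  · rintro ⟨a, ha, rfl⟩; exact ⟨a, ha, rfl⟩

/-- insertion of a number into a sorted list -/
def insS (a : ℕ) : List ℕ → List ℕ
  | [] => [a]
  | b :: l => if a ≤ b then a :: b :: l else b :: insS a l

/-- insertion sort -/
def sortS : List ℕ → List ℕ
  | [] => []
  | a :: l => insS a (sortS l)

theorem mem_insS (a x : ℕ) (l : List ℕ) : x ∈ insS a l ↔ x = a ∨ x ∈ l := by
  induction l with
  | nil => simp [insS]
  | cons b l ih =>
    rw [insS]
    split_ifs
    · simp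
    · rw [List.mem_cons, ih, List.mem_cons]; tauto

theorem mem_sortS (x : ℕ) (l : List ℕ) : x ∈ sortS l ↔ x ∈ l := by
  induction l with
  | nil => simp [sortS]
  | cons a l ih => rw [sortS, mem_insS, ih, List.mem_cons]

theorem fss_sortS (L : List ℕ) : fss (sortS L) = fss L := by
  ext t
  simp only [mem_fss, mem_sortS]

/-- the image of a system under a list permutation, in canonical form -/
def smapS (s : List ℕ) (L : List ℕ) : List ℕ := sortS (L.map (lmask s))

theorem smul_fss {g : Equiv.Perm GolayPt} {s : List ℕ} (hs : wf s = true) (h : ⇑g = lfun s)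
    (L : List ℕ) : g • fss L = fss (smapS s L) := by
  rw [smapS, fss_sortS]
  ext t
  rw [Finset.mem_smul_finset]
  simp only [mem_fss, List.mem_map]
  constructor
  · rintro ⟨u, ⟨a, ha, rfl⟩, rfl⟩
    exact ⟨lmask s a, ⟨a, ha, rfl⟩, smul_fs hs h a⟩
  · rintro ⟨_, ⟨a, ha, rfl⟩, rfl⟩
    exact ⟨fs a, ⟨a, ha, rfl⟩, smul_fs hs h a⟩

/-- reachability of a system from the root system under `H` -/
def SsReach (H : Subgroup (Equiv.Perm GolayPt)) (root q : List ℕ) : Prop :=
  ∃ g ∈ H, g • fss root = fss q

theorem SsReach.refl (H : Subgroup (Equiv.Perm GolayPt)) (root : List ℕ) : SsReach H root root :=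
  ⟨1, H.one_mem, one_smul _ _⟩

theorem SsReach.step {H : Subgroup (Equiv.Perm GolayPt)} {root p : List ℕ} (hp : SsReach H root p)
    {s : List ℕ} (hs : Rep H s) : SsReach H root (smapS s p) := by
  obtain ⟨g, hg, hgp⟩ := hp
  obtain ⟨ws, h, hh, hhs⟩ := hs
  refine ⟨h * g, H.mul_mem hh hg, ?_⟩
  rw [mul_smul, hgp, smul_fss ws hhs]

theorem SsReach.trans_symm {H : Subgroup (Equiv.Perm GolayPt)} {root p q : List ℕ}
    (hp : SsReach H root p) (hq : SsReach H root q) : ∃ g ∈ H, g • fss p = fss q := by
  obtain ⟨g, hg, hgp⟩ := hp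
  obtain ⟨h, hh, hhq⟩ := hq
  refine ⟨h * g⁻¹, H.mul_mem hh (H.inv_mem hg), ?_⟩
  rw [mul_smul, ← hgp, inv_smul_smul, hhq]

/-- one step of the walk: apply the generator `e.2` to the system at position `e.1` -/
def ssStep (E : List (List ℕ)) (root : List ℕ) (reached : List (List ℕ)) (e : ℕ × ℕ) :
    List (List ℕ) :=
  reached ++ [smapS (E.getD e.2 idl) (reached.getD e.1 root)]

def ssRun (E : List (List ℕ)) (root : List ℕ) (cert : List (ℕ × ℕ)) : List (List ℕ) :=
  cert.foldl (ssStep E root) [root]

theorem ssRun_sound {H : Subgroup (Equiv.Perm GolayPt)} {E : List (List ℕ)}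
    (hE : ∀ l ∈ E, Rep H l) (root : List ℕ) (cert : List (ℕ × ℕ)) :
    ∀ q ∈ ssRun E root cert, SsReach H root q := by
  suffices h : ∀ (cert : List (ℕ × ℕ)) (reached : List (List ℕ)),
      (∀ q ∈ reached, SsReach H root q) →
      ∀ q ∈ cert.foldl (ssStep E root) reached, SsReach H root q by
    apply h cert [root]
    intro q hq
    rw [List.mem_singleton] at hq
    subst hq
    exact SsReach.refl H _
  intro cert
  induction cert with
  | nil => intro reached h; exact h
  | cons e cert ih =>
    intro reached h
    rw [List.foldl_cons]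
    apply ih
    intro q hq
    rw [ssStep, List.mem_append, List.mem_singleton] at hq
    rcases hq with hq | rfl
    · exact h q hq
    · apply SsReach.step _ (rep_getD hE _)
      by_cases hi : e.1 < reached.length
      · rw [List.getD_eq_getElem _ _ hi]; exact h _ (List.getElem_mem _)
      · rw [List.getD_eq_default _ _ (not_lt.mp hi)]; exact SsReach.refl H _

/-! ### canonical forms and counting -/

/-- strictly increasing list of masks below `2 ^ 24` -/
def canonB : List ℕ → Bool
  | [] => true
  | [a] => decide (a < 2 ^ 24)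
  | a :: b :: l => decide (a < b) && canonB (b :: l)

theorem canonB_spec : ∀ (L : List ℕ), canonB L = true → L.Pairwise (· < ·) ∧ ∀ a ∈ L, a < 2 ^ 24
  | [], _ => ⟨List.Pairwise.nil, by simp⟩
  | [a], h => by
    simp only [canonB, decide_eq_true_eq] at h
    exact ⟨List.pairwise_singleton _ _, by simpa using h⟩
  | a :: b :: l, h => by
    simp only [canonB, Bool.and_eq_true, decide_eq_true_eq] at h
    obtain ⟨ih1, ih2⟩ := canonB_spec (b :: l) h.2
    refine ⟨?_, ?_⟩
    · rw [List.pairwise_cons]
      refine ⟨?_, ih1⟩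
      intro c hc
      rw [List.mem_cons] at hc
      rcases hc with rfl | hc
      · exact h.1
      · exact lt_trans h.1 ((List.pairwise_cons.mp ih1).1 c hc)
    · intro c hc
      rw [List.mem_cons] at hc
      rcases hc with rfl | hc
      · exact lt_trans h.1 (ih2 b (by simp))
      · exact ih2 c hc

/-- canonical lists coding the same system are equal -/
theorem eq_of_fss_eq {L L' : List ℕ} (hL : canonB L = true) (hL' : canonB L' = true)
    (h : fss L = fss L') : L = L' := by
  obtain ⟨s1, b1⟩ := canonB_spec L hL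
  obtain ⟨s2, b2⟩ := canonB_spec L' hL'
  have hsub : ∀ {M M' : List ℕ}, (∀ a ∈ M, a < 2 ^ 24) → (∀ a ∈ M', a < 2 ^ 24) →
      fss M = fss M' → ∀ a ∈ M, a ∈ M' := by
    intro M M' bM bM' hMM a ha
    have : fs a ∈ fss M' := by rw [← hMM]; exact mem_fss.mpr ⟨a, ha, rfl⟩
    obtain ⟨b, hb, hab⟩ := mem_fss.mp this
    rw [fs_injOn (bM a ha) (bM' b hb) hab]; exact hb
  have hperm : L.Perm L' := by
    rw [List.perm_ext_iff_of_nodup (s1.imp (fun h => ne_of_lt h)) (s2.imp (fun h => ne_of_lt h))]
    intro a
    exact ⟨hsub b1 b2 h a, hsub b2 b1 h.symm a⟩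
  exact List.Perm.eq_of_pairwise (le := (· < ·)) (fun a b _ _ h1 h2 => absurd h1 (not_lt_of_gt h2))
    s1 s2 hperm

/-- boolean duplicate-freeness for lists of lists -/
def nodupB : List (List ℕ) → Bool
  | [] => true
  | a :: l => !(l.contains a) && nodupB l

theorem nodupB_spec : ∀ (R : List (List ℕ)), nodupB R = true → R.Nodup
  | [], _ => List.nodup_nil
  | a :: l, h => by
    simp only [nodupB, Bool.and_eq_true, Bool.not_eq_true', List.contains_eq_mem,
      decide_eq_false_iff_not] at h
    exact List.nodup_cons.mpr ⟨h.1, nodupB_spec l h.2⟩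

/-- the orbit of a system of sets under a subgroup, as a set -/
def OrbSet (H : Subgroup (Equiv.Perm GolayPt)) (X : Finset (Finset GolayPt)) :
    Set (Finset (Finset GolayPt)) := {Y | ∃ g ∈ H, g • X = Y}

/-- **Lower bound for the length of an orbit** from a duplicate-free list of canonical forms that
are all reachable. -/
theorem length_le_ncard_orbSet' {H : Subgroup (Equiv.Perm GolayPt)} {root : List ℕ}
    {R : List (List ℕ)} (hR : ∀ q ∈ R, SsReach H root q) (hc : R.all canonB = true)
    (hnd' : R.Nodup) : R.length ≤ (OrbSet H (fss root)).ncard := by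
  classical
  have hinj : Set.InjOn fss (↑R.toFinset : Set (List ℕ)) := by
    intro a ha b hb hab
    rw [Finset.mem_coe, List.mem_toFinset] at ha hb
    exact eq_of_fss_eq (List.all_eq_true.mp hc a ha) (List.all_eq_true.mp hc b hb) hab
  have hsub : (↑(R.toFinset.image fss) : Set (Finset (Finset GolayPt))) ⊆ OrbSet H (fss root) := by
    intro Y hY
    rw [Finset.mem_coe, Finset.mem_image] at hY
    obtain ⟨q, hq, rfl⟩ := hY
    exact hR q (List.mem_toFinset.mp hq)
  have h1 := Set.ncard_le_ncard hsub (Set.toFinite _)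
  rw [Set.ncard_coe_finset, Finset.card_image_of_injOn hinj, List.toFinset_card_of_nodup hnd'] at h1
  exact h1

theorem length_le_ncard_orbSet {H : Subgroup (Equiv.Perm GolayPt)} {root : List ℕ}
    {R : List (List ℕ)} (hR : ∀ q ∈ R, SsReach H root q) (hc : R.all canonB = true)
    (hnd : nodupB R = true) : R.length ≤ (OrbSet H (fss root)).ncard :=
  length_le_ncard_orbSet' hR hc (nodupB_spec R hnd)

/-! ### certificates by words (linear-time check) -/

/-- the system reached from the root along a word in the generators -/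
def wordRun (E : List (List ℕ)) (root : List ℕ) (w : List ℕ) : List ℕ :=
  w.foldl (fun q i => smapS (E.getD i idl) q) root

theorem wordRun_sound {H : Subgroup (Equiv.Perm GolayPt)} {E : List (List ℕ)}
    (hE : ∀ l ∈ E, Rep H l) (root : List ℕ) (w : List ℕ) :
    SsReach H root (wordRun E root w) := by
  suffices h : ∀ (w : List ℕ) (q : List ℕ), SsReach H root q →
      SsReach H root (w.foldl (fun q i => smapS (E.getD i idl) q) q) from
    h w root (SsReach.refl H root)
  intro w
  induction w with
  | nil => intro q hq; exact hq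
  | cons i w ih =>
    intro q hq
    rw [List.foldl_cons]
    exact ih _ (hq.step (rep_getD hE _))

/-- the systems reached along a list of words -/
def wordsRun (E : List (List ℕ)) (root : List ℕ) (cert : List (List ℕ)) : List (List ℕ) :=
  cert.map (wordRun E root)

/-- first entries strictly increasing -/
def incrHeadB : List (List ℕ) → Bool
  | [] => true
  | [_] => true
  | a :: b :: l => decide (a.headD 0 < b.headD 0) && incrHeadB (b :: l)

theorem incrHeadB_spec : ∀ (R : List (List ℕ)), incrHeadB R = true →
    R.Pairwise (fun a b => a.headD 0 < b.headD 0)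
  | [], _ => List.Pairwise.nil
  | [a], _ => List.pairwise_singleton _ _
  | a :: b :: l, h => by
    simp only [incrHeadB, Bool.and_eq_true, decide_eq_true_eq] at h
    have ih := incrHeadB_spec (b :: l) h.2
    rw [List.pairwise_cons]
    refine ⟨?_, ih⟩
    intro c hc
    rw [List.mem_cons] at hc
    rcases hc with rfl | hc
    · exact h.1
    · exact lt_trans h.1 ((List.pairwise_cons.mp ih).1 c hc)

/-- the linear-time check of a word certificate -/
def checkRun (R : List (List ℕ)) (n : ℕ) : Bool :=
  R.length == n && R.all canonB && incrHeadB R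

theorem le_ncard_of_checkRun {H : Subgroup (Equiv.Perm GolayPt)} {E : List (List ℕ)}
    (hE : ∀ l ∈ E, Rep H l) {root : List ℕ} {cert : List (List ℕ)} {n : ℕ}
    (h : checkRun (wordsRun E root cert) n = true) : n ≤ (OrbSet H (fss root)).ncard := by
  simp only [checkRun, Bool.and_eq_true, beq_iff_eq] at h
  rw [← h.1.1]
  apply length_le_ncard_orbSet' _ h.1.2
  · exact (incrHeadB_spec _ h.2).imp (fun hab heq => by rw [heq] at hab; exact lt_irrefl _ hab)
  · intro q hq
    rw [wordsRun, List.mem_map] at hq
    obtain ⟨w, _, rfl⟩ := hq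
    exact wordRun_sound hE root w

end Cfsg.Agent.Lib.Helper6.Golay
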