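import Cfsg.Agent.Lib.Helper6.GolayWeights
import Cfsg.Agent.Lib.Helper6.GolaySteiner

/-!
# The rank-24 lattice: the defining set is a subgroup; divisibility and minimum of the norm
-/

set_option autoImplicit false

namespace Cfsg.Agent.Lib.Helper6.Leech

open Cfsg
open Cfsg.Agent.Lib.Helper6.Golay

/-- a set of points is the support of a codeword -/
def IsC (s : Finset GolayPt) : Prop := s ∈ supports (golayCode : Set (GolayPt → ZMod 2))

theorem isC_empty : IsC ∅ := by
  refine ⟨0, golayCode.zero_mem, ?_⟩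
  ext p; simp [support₂]

theorem isC_univ : IsC Finset.univ := by
  refine ⟨1, Submodule.subset_span (Or.inr rfl), ?_⟩
  ext p; simp [support₂]

theorem IsC.symmDiff {s t : Finset GolayPt} (hs : IsC s) (ht : IsC t) :
    IsC (_root_.symmDiff s t) := by
  obtain ⟨v, hv, rfl⟩ := hs
  obtain ⟨w, hw, rfl⟩ := ht
  exact ⟨v + w, golayCode.add_mem hv hw, support₂_add v w⟩

theorem IsC.compl {s : Finset GolayPt} (hs : IsC s) : IsC sᶜ := by
  have := hs.symmDiff isC_univ
  have e : _root_.symmDiff s Finset.univ = sᶜ := by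
    ext p; simp [Finset.mem_symmDiff]
  rwa [e] at this

theorem IsC.card_cases {s : Finset GolayPt} (hs : IsC s) :
    s.card = 0 ∨ s.card = 8 ∨ s.card = 12 ∨ s.card = 16 ∨ s.card = 24 := by
  obtain ⟨v, hv, rfl⟩ := hs
  rw [card_support₂]
  exact hammingNorm_mem v hv

theorem IsC.four_dvd {s : Finset GolayPt} (hs : IsC s) : 4 ∣ s.card := by
  rcases hs.card_cases with h | h | h | h | h <;> rw [h] <;> decide

theorem IsC.eight_le {s : Finset GolayPt} (hs : IsC s) (h0 : s ≠ ∅) : 8 ≤ s.card := by
  rcases hs.card_cases with h | h | h | h | h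
  · exact absurd (Finset.card_eq_zero.mp h) h0
  all_goals omega

theorem IsC.inter_even {s t : Finset GolayPt} (hs : IsC s) (ht : IsC t) : 2 ∣ (s ∩ t).card := by
  have h1 := card_symmDiff_add s t
  have h2 := (hs.symmDiff ht).four_dvd
  have h3 := hs.four_dvd
  have h4 := ht.four_dvd
  omega

/-- the positions where the coordinate is congruent to `k` modulo 4 -/
def cls (x : GolayPt → ℤ) (k : ℤ) : Finset GolayPt :=
  Finset.univ.filter fun i => x i ≡ k [ZMOD 4]

theorem mem_cls {x : GolayPt → ℤ} {k : ℤ} {i : GolayPt} : i ∈ cls x k ↔ x i % 4 = k % 4 := by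
  rw [cls, Finset.mem_filter]
  exact ⟨fun h => h.2, fun h => ⟨Finset.mem_univ _, h⟩⟩

theorem mem_leechSet {x : GolayPt → ℤ} : x ∈ leechSet ↔ ∃ m : ℤ, (∀ i, x i % 2 = m % 2) ∧
    ((∑ i, x i) % 8 = (4 * m) % 8) ∧ ∀ k : ℤ, IsC (cls x k) := Iff.rfl

theorem zero_mem : (0 : GolayPt → ℤ) ∈ leechSet := by
  rw [mem_leechSet]
  refine ⟨0, fun i => rfl, by simp, fun k => ?_⟩
  by_cases hk : k % 4 = 0
  · have : cls 0 k = Finset.univ := by
      ext i; simp only [mem_cls, Pi.zero_apply, Finset.mem_univ, iff_true]; omega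
    rw [this]; exact isC_univ
  · have : cls 0 k = ∅ := by
      ext i; simp only [mem_cls, Pi.zero_apply, Finset.notMem_empty, iff_false]; omega
    rw [this]; exact isC_empty

theorem neg_mem {x : GolayPt → ℤ} (hx : x ∈ leechSet) : -x ∈ leechSet := by
  rw [mem_leechSet] at hx ⊢
  obtain ⟨m, h1, h2, h3⟩ := hx
  refine ⟨-m, fun i => ?_, ?_, fun k => ?_⟩
  · have := h1 i; simp only [Pi.neg_apply]; omega
  · simp only [Pi.neg_apply, Finset.sum_neg_distrib]; omega
  · have : cls (-x) k = cls x (-k) := by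
      ext i; simp only [mem_cls, Pi.neg_apply]; omega
    rw [this]; exact h3 _

theorem add_mem {x y : GolayPt → ℤ} (hx : x ∈ leechSet) (hy : y ∈ leechSet) : x + y ∈ leechSet := by
  rw [mem_leechSet] at hx hy ⊢
  obtain ⟨m, h1, h2, h3⟩ := hx
  obtain ⟨n, g1, g2, g3⟩ := hy
  refine ⟨m + n, fun i => ?_, ?_, fun k => ?_⟩
  · have := h1 i; have := g1 i; simp only [Pi.add_apply]; omega
  · simp only [Pi.add_apply, Finset.sum_add_distrib]; omega
  · by_cases hk : k % 2 = (m + n) % 2
    · have : cls (x + y) k = (symmDiff (cls x m) (cls y (k - m)))ᶜ := by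
        ext i
        have := h1 i; have := g1 i
        simp only [mem_cls, Pi.add_apply, Finset.mem_compl, Finset.mem_symmDiff]
        omega
      rw [this]; exact ((h3 _).symmDiff (g3 _)).compl
    · have : cls (x + y) k = ∅ := by
        ext i
        have := h1 i; have := g1 i
        simp only [mem_cls, Pi.add_apply, Finset.notMem_empty, iff_false]
        omega
      rw [this]; exact isC_empty

/-- the defining set as an additive subgroup -/
def leechSub : AddSubgroup (GolayPt → ℤ) where
  carrier := leechSet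
  zero_mem' := zero_mem
  add_mem' := add_mem
  neg_mem' := neg_mem

theorem leechLattice_eq : leechLattice = leechSub := by
  have : (leechSub : Set (GolayPt → ℤ)) = leechSet := rfl
  rw [leechLattice, ← this, AddSubgroup.closure_eq]

theorem mem_leechLattice {x : GolayPt → ℤ} : x ∈ leechLattice ↔ x ∈ leechSet := by
  rw [leechLattice_eq]; rfl

end Cfsg.Agent.Lib.Helper6.Leech
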