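import Cfsg.Agent.Lib.Helper6.GolayDuadMax
import Cfsg.Agent.Lib.Helper6.LeechBasic
import Cfsg.Agent.Lib.Helper6.GolayOrbitL
import Cfsg.Prelude.Def_SporadicCombinatorics

/-!
# Sextets: every tetrad lies in exactly one sextet; there are 1771 sextets
-/

set_option autoImplicit false

namespace Cfsg.Agent.Lib.Helper6.Golay

open Cfsg
open Cfsg.Agent.Lib.Helper6.PermChain
open scoped Pointwise

/-- the reference tetrad `{∞, 0, 1, 2}` -/
def tet0 : ℕ := 8388615

/-- the five octads through the reference tetrad -/
def octT0 : List ℕ := [8536111, 8657159, 9471495, 11010247, 12656663]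

/-- the six tetrads of the reference sextet -/
def sextet0L : List ℕ := tet0 :: octT0.map (fun o => o ^^^ tet0)

/-- the reference sextet -/
def sextet0 : Finset (Finset GolayPt) := (sextet0L.map fs).toFinset

set_option maxHeartbeats 4000000 in
theorem octT0_sound : octT0.all (fun o => inCode o && (pc 24 o == 8) && (tet0 &&& o == tet0)) = true := by
  decide +kernel

set_option maxHeartbeats 4000000 in
theorem octT0_complete : allBelow (fun m => !(pc 24 (combo m) == 8 && (tet0 &&& combo m == tet0))
    || octT0.contains (combo m)) 4096 = true := by decide +kernel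

set_option maxHeartbeats 4000000 in
theorem sextet0L_ok : sextet0L.all (fun a => decide (a < 2 ^ 24) && (pc 24 a == 4) &&
    sextet0L.all (fun b => (a == b) || (inCode (a ||| b) && (pc 24 (a ||| b) == 8)))) = true := by
  decide +kernel

theorem mem_sextet0 {t : Finset GolayPt} : t ∈ sextet0 ↔ ∃ a ∈ sextet0L, t = fs a := by
  simp only [sextet0, List.mem_toFinset, List.mem_map]
  constructor
  · rintro ⟨a, ha, rfl⟩; exact ⟨a, ha, rfl⟩
  · rintro ⟨a, ha, rfl⟩; exact ⟨a, ha, rfl⟩

theorem card_sextet0 : sextet0.card = 6 := by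
  have hnd : (sextet0L.map fs).Nodup := by
    apply List.Nodup.map_on
    · intro a ha b hb hab
      have h1 := List.all_eq_true.mp sextet0L_ok a ha
      have h2 := List.all_eq_true.mp sextet0L_ok b hb
      simp only [Bool.and_eq_true, decide_eq_true_eq] at h1 h2
      exact fs_injOn h1.1.1 h2.1.1 hab
    · decide
  rw [sextet0, List.toFinset_card_of_nodup hnd]
  rfl

theorem sextet0_mem : sextet0 ∈ sextets := by
  refine ⟨card_sextet0, ?_, ?_⟩
  · intro t ht
    obtain ⟨a, ha, rfl⟩ := mem_sextet0.mp ht
    have h1 := List.all_eq_true.mp sextet0L_ok a ha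
    simp only [Bool.and_eq_true, beq_iff_eq] at h1
    rw [card_fs]; exact h1.1.2
  · intro t ht u hu htu
    obtain ⟨a, ha, rfl⟩ := mem_sextet0.mp ht
    obtain ⟨b, hb, rfl⟩ := mem_sextet0.mp hu
    have h1 := List.all_eq_true.mp sextet0L_ok a ha
    simp only [Bool.and_eq_true] at h1
    have h2 := List.all_eq_true.mp h1.2 b hb
    simp only [Bool.or_eq_true, beq_iff_eq, Bool.and_eq_true] at h2
    rcases h2 with h2 | h2
    · exact absurd (by rw [h2]) htu
    · rw [← fs_or]; exact fs_mem_octads h2.1 h2.2

theorem tet0_mem : fs tet0 ∈ sextet0 := mem_sextet0.mpr ⟨tet0, by simp [sextet0L], rfl⟩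

/-- an octad through the reference tetrad is one of the five -/
theorem octT0_of_subset {o : Finset GolayPt} (ho : o ∈ octads) (h : fs tet0 ⊆ o) :
    ∃ n ∈ octT0, o = fs n := by
  obtain ⟨n, hn, h8, rfl⟩ := (mem_octads_iff o).mp ho
  obtain ⟨m, hm, rfl⟩ := (inCode_iff n).mp hn
  have := allBelow_spec _ _ octT0_complete m hm
  rw [fs_subset_iff (by decide)] at h
  rw [h8, h] at this
  simp only [beq_self_eq_true, Bool.and_self, Bool.not_true, Bool.false_or] at this
  exact ⟨combo m, by simpa using this, rfl⟩

/-- a sextet through the reference tetrad is the reference sextet -/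
theorem sextet0_unique {S : Finset (Finset GolayPt)} (hS : S ∈ sextets) (h0 : fs tet0 ∈ S) :
    S = sextet0 := by
  obtain ⟨h6, h4, hu⟩ := hS
  apply Finset.eq_of_subset_of_card_le
  · intro u huS
    by_cases hut : u = fs tet0
    · rw [hut]; exact tet0_mem
    · have hoct := hu (fs tet0) h0 u huS (Ne.symm hut)
      obtain ⟨n, hn, hn2⟩ := octT0_of_subset hoct Finset.subset_union_left
      -- `u` is the complement of the tetrad in the octad
      have hcard : (fs tet0 ∪ u).card = 8 := hoct.2
      have h4u := h4 u huS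
      have h4t : (fs tet0).card = 4 := by rw [card_fs]; decide
      have hdisj : Disjoint (fs tet0) u := by
        rw [Finset.disjoint_iff_inter_eq_empty, ← Finset.card_eq_zero]
        have := Finset.card_union_add_card_inter (fs tet0) u
        omega
      have hu' : u = fs (n ^^^ tet0) := by
        rw [fs_xor, ← hn2]
        ext x
        simp only [Finset.mem_symmDiff, Finset.mem_union]
        constructor
        · intro hx
          exact Or.inl ⟨Or.inr hx, fun h => (Finset.disjoint_left.mp hdisj) h hx⟩
        · rintro (⟨h1 | h1, h2⟩ | ⟨h1, h2⟩)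
          · exact absurd h1 h2
          · exact h1
          · exact absurd (Or.inl h1) h2
      rw [hu']
      exact mem_sextet0.mpr ⟨n ^^^ tet0, by
        simp only [sextet0L, List.mem_cons, List.mem_map]
        exact Or.inr ⟨n, hn, rfl⟩, rfl⟩
  · rw [h6, card_sextet0]

/-- `M24` permutes the sextets -/
theorem smul_mem_sextets {g : Equiv.Perm GolayPt} (hg : g ∈ M24) {S : Finset (Finset GolayPt)}
    (hS : S ∈ sextets) : g • S ∈ sextets := by
  obtain ⟨h6, h4, hu⟩ := hS
  refine ⟨by rw [Finset.card_smul_finset]; exact h6, ?_, ?_⟩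
  · intro t ht
    rw [Finset.mem_smul_finset] at ht
    obtain ⟨t', ht', rfl⟩ := ht
    rw [Finset.card_smul_finset]; exact h4 t' ht'
  · intro t ht u hu' htu
    rw [Finset.mem_smul_finset] at ht hu'
    obtain ⟨t', ht', rfl⟩ := ht
    obtain ⟨u', hu'', rfl⟩ := hu'
    rw [← Finset.smul_finset_union]
    apply smul_mem_octads hg
    exact hu t' ht' u' hu'' (fun h => htu (by rw [h]))

/-- **Every tetrad lies in exactly one sextet.** -/
theorem existsUnique_sextet {t : Finset GolayPt} (ht : t.card = 4) :
    ∃! S : Finset (Finset GolayPt), S ∈ sextets ∧ t ∈ S := by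
  have h4t : (fs tet0).card = 4 := by rw [card_fs]; decide
  obtain ⟨g, hg, rfl⟩ := exists_M24_small (h4t.trans ht.symm) (by rw [h4t]; norm_num)
  refine ⟨g • sextet0, ⟨smul_mem_sextets hg sextet0_mem, Finset.smul_mem_smul_finset tet0_mem⟩, ?_⟩
  rintro S ⟨hS, htS⟩
  have h1 : g⁻¹ • S ∈ sextets := smul_mem_sextets (M24.inv_mem hg) hS
  have h2 : fs tet0 ∈ g⁻¹ • S := by
    have := Finset.smul_mem_smul_finset (a := g⁻¹) htS
    rwa [inv_smul_smul] at this
  have := sextet0_unique h1 h2
  rw [← this, smul_inv_smul]

/-- **There are 1771 sextets.** -/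
theorem ncard_sextets : sextets.ncard = 1771 := by
  classical
  have hfin : sextets.Finite := Set.toFinite _
  rw [Set.ncard_eq_toFinset_card sextets hfin]
  set F := hfin.toFinset with hF
  have hFmem : ∀ S, S ∈ F ↔ S ∈ sextets := fun S => Set.Finite.mem_toFinset hfin
  let T : Finset (Finset GolayPt) := Finset.powersetCard 4 Finset.univ
  have hT : T.card = 10626 := by
    rw [Finset.card_powersetCard, Finset.card_univ]
    have : Fintype.card GolayPt = 24 := by simp [GolayPt]
    rw [this]; decide
  have hdc := Finset.sum_card_bipartiteAbove_eq_sum_card_bipartiteBelow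
    (s := F) (t := T) (fun (S : Finset (Finset GolayPt)) (t : Finset GolayPt) => t ∈ S)
  have h1 : ∀ S ∈ F, (T.bipartiteAbove (fun (S : Finset (Finset GolayPt)) (t : Finset GolayPt) =>
      t ∈ S) S).card = 6 := by
    intro S hS
    have hS' := (hFmem S).mp hS
    have : T.bipartiteAbove (fun (S : Finset (Finset GolayPt)) (t : Finset GolayPt) => t ∈ S) S
        = S := by
      ext t
      simp only [Finset.bipartiteAbove, Finset.mem_filter, T, Finset.mem_powersetCard,
        Finset.subset_univ, true_and]
      exact ⟨fun h => h.2, fun h => ⟨hS'.2.1 t h, h⟩⟩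
    rw [this]; exact hS'.1
  have h2 : ∀ t ∈ T, (F.bipartiteBelow (fun (S : Finset (Finset GolayPt)) (t : Finset GolayPt) =>
      t ∈ S) t).card = 1 := by
    intro t ht
    have ht4 : t.card = 4 := (Finset.mem_powersetCard.mp ht).2
    obtain ⟨S, ⟨hS, htS⟩, huniq⟩ := existsUnique_sextet ht4
    rw [Finset.card_eq_one]
    refine ⟨S, ?_⟩
    ext S'
    simp only [Finset.bipartiteBelow, Finset.mem_filter, Finset.mem_singleton, hFmem]
    exact ⟨fun h => huniq S' h, fun h => by rw [h]; exact ⟨hS, htS⟩⟩
  rw [Finset.sum_congr rfl h1, Finset.sum_congr rfl h2, Finset.sum_const, Finset.sum_const, hT] at hdc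
  simp only [smul_eq_mul] at hdc
  omega

end Cfsg.Agent.Lib.Helper6.Golay
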