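import Cfsg.Agent.Lib.Helper6.GolaySextetOrbA
import Cfsg.Agent.Lib.Helper6.GolaySextetOrbC

/-!
# The stabilizer of a sextet: orbits on sextets of lengths 1, 90, 240, 1440, and maximality
-/

set_option autoImplicit false

namespace Cfsg.Agent.Lib.Helper6.Golay

open Cfsg
open Cfsg.Agent.Lib.Helper6.PermChain
open Cfsg.Agent.Lib.Helper6.Overgroup
open scoped Pointwise

/-- Boolean check that a list of masks codes a sextet -/
def sextetB (L : List ℕ) : Bool :=
  L.length == 6 && canonB L && L.all (fun a => (pc 24 a == 4) &&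
    L.all (fun b => (a == b) || (inCode (a ||| b) && (pc 24 (a ||| b) == 8))))

theorem fss_mem_sextets {L : List ℕ} (h : sextetB L = true) : fss L ∈ sextets := by
  simp only [sextetB, Bool.and_eq_true, beq_iff_eq] at h
  obtain ⟨⟨h6, hc⟩, hall⟩ := h
  obtain ⟨hpw, hlt⟩ := canonB_spec L hc
  refine ⟨?_, ?_, ?_⟩
  · have hnd : (L.map fs).Nodup := by
      apply List.Nodup.map_on
      · intro a ha b hb hab
        exact fs_injOn (hlt a ha) (hlt b hb) hab
      · exact hpw.imp (fun h => ne_of_lt h)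
    rw [fss, List.toFinset_card_of_nodup hnd, List.length_map, h6]
  · intro t ht
    obtain ⟨a, ha, rfl⟩ := mem_fss.mp ht
    have h1 := List.all_eq_true.mp hall a ha
    simp only [Bool.and_eq_true, beq_iff_eq] at h1
    rw [card_fs]; exact h1.1
  · intro t ht u hu htu
    obtain ⟨a, ha, rfl⟩ := mem_fss.mp ht
    obtain ⟨b, hb, rfl⟩ := mem_fss.mp hu
    have h1 := List.all_eq_true.mp hall a ha
    simp only [Bool.and_eq_true] at h1
    have h2 := List.all_eq_true.mp h1.2 b hb
    simp only [Bool.or_eq_true, beq_iff_eq, Bool.and_eq_true] at h2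
    rcases h2 with h2 | h2
    · exact absurd (by rw [h2]) htu
    · rw [← fs_or]; exact fs_mem_octads h2.1 h2.2

/-- some tetrad of the reference sextet meets some tetrad of `X` in exactly `k` points -/
def PK (k : ℕ) (X : Finset (Finset GolayPt)) : Prop :=
  ∃ a ∈ sextet0, ∃ b ∈ X, (a ∩ b).card = k

theorem PK_smul {g : Equiv.Perm GolayPt} (hg : g ∈ HSx) (k : ℕ) (X : Finset (Finset GolayPt)) :
    PK k (g • X) ↔ PK k X := by
  have hg0 := (mem_HSx.mp hg).2
  constructor
  · rintro ⟨a, ha, b, hb, hab⟩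
    rw [Finset.mem_smul_finset] at hb
    obtain ⟨b', hb', rfl⟩ := hb
    rw [← hg0, Finset.mem_smul_finset] at ha
    obtain ⟨a', ha', rfl⟩ := ha
    refine ⟨a', ha', b', hb', ?_⟩
    rw [← Finset.smul_finset_inter, Finset.card_smul_finset] at hab
    exact hab
  · rintro ⟨a, ha, b, hb, hab⟩
    refine ⟨g • a, ?_, g • b, Finset.smul_mem_smul_finset hb, ?_⟩
    · have := Finset.smul_mem_smul_finset (a := g) ha
      rwa [hg0] at this
    · rw [← Finset.smul_finset_inter, Finset.card_smul_finset]; exact hab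

/-- the invariant as a computation on masks -/
def pkB (k : ℕ) (L : List ℕ) : Bool :=
  sextet0C.any (fun a => L.any (fun b => pc 24 (a &&& b) == k))

theorem PK_fss (k : ℕ) (L : List ℕ) : PK k (fss L) ↔ pkB k L = true := by
  rw [PK, ← fss_sextet0C]
  simp only [pkB, List.any_eq_true, beq_iff_eq]
  constructor
  · rintro ⟨a, ha, b, hb, hab⟩
    obtain ⟨a', ha', rfl⟩ := mem_fss.mp ha
    obtain ⟨b', hb', rfl⟩ := mem_fss.mp hb
    refine ⟨a', ha', b', hb', ?_⟩
    rw [← card_fs, fs_and]; exact hab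
  · rintro ⟨a, ha, b, hb, hab⟩
    refine ⟨fs a, mem_fss.mpr ⟨a, ha, rfl⟩, fs b, mem_fss.mpr ⟨b, hb, rfl⟩, ?_⟩
    rw [← fs_and, card_fs]; exact hab

theorem PK_orbSet {L : List ℕ} {Y : Finset (Finset GolayPt)} (hY : Y ∈ OrbSet HSx (fss L)) (k : ℕ) :
    PK k Y ↔ pkB k L = true := by
  obtain ⟨g, hg, rfl⟩ := hY
  rw [PK_smul hg, PK_fss]

theorem PK_sextet0 (k : ℕ) : PK k sextet0 ↔ pkB k sextet0C = true := by
  rw [← fss_sextet0C, PK_fss]

set_option maxHeartbeats 4000000 in
theorem rootsSx_ok : (sextetB rootSxA && sextetB rootSxB && sextetB rootSxC) = true := by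
  decide +kernel

theorem rootSxA_mem : fss rootSxA ∈ sextets := by
  have := rootsSx_ok
  simp only [Bool.and_eq_true] at this
  exact fss_mem_sextets this.1.1

theorem rootSxB_mem : fss rootSxB ∈ sextets := by
  have := rootsSx_ok
  simp only [Bool.and_eq_true] at this
  exact fss_mem_sextets this.1.2

theorem rootSxC_mem : fss rootSxC ∈ sextets := by
  have := rootsSx_ok
  simp only [Bool.and_eq_true] at this
  exact fss_mem_sextets this.2

theorem orbSet_subset_sextets {X : Finset (Finset GolayPt)} (hX : X ∈ sextets) :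
    OrbSet HSx X ⊆ sextets := by
  rintro Y ⟨g, hg, rfl⟩
  exact smul_mem_sextets (mem_HSx.mp hg).1 hX

theorem pk_table : (pkB 1 sextet0C = false ∧ pkB 2 sextet0C = false) ∧
    (pkB 1 rootSxA = false ∧ pkB 2 rootSxA = true) ∧
    (pkB 1 rootSxB = true ∧ pkB 3 rootSxB = true) ∧
    (pkB 1 rootSxC = true ∧ pkB 3 rootSxC = false) := by
  decide +kernel

theorem disj_0A : sextet0 ∉ OrbSet HSx (fss rootSxA) := by
  intro h
  have h1 := (PK_orbSet h 2).mpr pk_table.2.1.2
  rw [PK_sextet0, pk_table.1.2] at h1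
  exact Bool.false_ne_true h1

theorem disj_0B : sextet0 ∉ OrbSet HSx (fss rootSxB) := by
  intro h
  have h1 := (PK_orbSet h 1).mpr pk_table.2.2.1.1
  rw [PK_sextet0, pk_table.1.1] at h1
  exact Bool.false_ne_true h1

theorem disj_0C : sextet0 ∉ OrbSet HSx (fss rootSxC) := by
  intro h
  have h1 := (PK_orbSet h 1).mpr pk_table.2.2.2.1
  rw [PK_sextet0, pk_table.1.1] at h1
  exact Bool.false_ne_true h1

theorem disj_AB : Disjoint (OrbSet HSx (fss rootSxA)) (OrbSet HSx (fss rootSxB)) := by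
  rw [Set.disjoint_left]
  intro Y hA hB
  have h1 := (PK_orbSet hB 1).mpr pk_table.2.2.1.1
  rw [PK_orbSet hA 1, pk_table.2.1.1] at h1
  exact Bool.false_ne_true h1

theorem disj_AC : Disjoint (OrbSet HSx (fss rootSxA)) (OrbSet HSx (fss rootSxC)) := by
  rw [Set.disjoint_left]
  intro Y hA hC
  have h1 := (PK_orbSet hC 1).mpr pk_table.2.2.2.1
  rw [PK_orbSet hA 1, pk_table.2.1.1] at h1
  exact Bool.false_ne_true h1

theorem disj_BC : Disjoint (OrbSet HSx (fss rootSxB)) (OrbSet HSx (fss rootSxC)) := by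
  rw [Set.disjoint_left]
  intro Y hB hC
  have h1 := (PK_orbSet hB 3).mpr pk_table.2.2.1.2
  rw [PK_orbSet hC 3, pk_table.2.2.2.2] at h1
  exact Bool.false_ne_true h1

/-- **The four orbits of the stabilizer of the reference sextet.** -/
theorem sextets_eq_union :
    sextets = {sextet0} ∪ OrbSet HSx (fss rootSxA) ∪ OrbSet HSx (fss rootSxB) ∪
      OrbSet HSx (fss rootSxC) ∧
    (OrbSet HSx (fss rootSxA)).ncard = 90 ∧ (OrbSet HSx (fss rootSxB)).ncard = 240 ∧
    (OrbSet HSx (fss rootSxC)).ncard = 1440 := by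
  set OA := OrbSet HSx (fss rootSxA) with hOA
  set OB := OrbSet HSx (fss rootSxB) with hOB
  set OC := OrbSet HSx (fss rootSxC) with hOC
  have hsub : {sextet0} ∪ OA ∪ OB ∪ OC ⊆ sextets := by
    intro Y hY
    simp only [Set.mem_union, Set.mem_singleton_iff] at hY
    rcases hY with ((rfl | h) | h) | h
    · exact sextet0_mem
    · exact orbSet_subset_sextets rootSxA_mem h
    · exact orbSet_subset_sextets rootSxB_mem h
    · exact orbSet_subset_sextets rootSxC_mem h
  have d1 : Disjoint ({sextet0} : Set (Finset (Finset GolayPt))) OA := by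
    rw [Set.disjoint_left]; intro Y hY hY2
    rw [Set.mem_singleton_iff] at hY; subst hY; exact disj_0A hY2
  have d2 : Disjoint (({sextet0} : Set (Finset (Finset GolayPt))) ∪ OA) OB := by
    rw [Set.disjoint_left]; rintro Y (hY | hY) hY2
    · rw [Set.mem_singleton_iff] at hY; subst hY; exact disj_0B hY2
    · exact (Set.disjoint_left.mp disj_AB) hY hY2
  have d3 : Disjoint ((({sextet0} : Set (Finset (Finset GolayPt))) ∪ OA) ∪ OB) OC := by
    rw [Set.disjoint_left]; rintro Y ((hY | hY) | hY) hY2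
    · rw [Set.mem_singleton_iff] at hY; subst hY; exact disj_0C hY2
    · exact (Set.disjoint_left.mp disj_AC) hY hY2
    · exact (Set.disjoint_left.mp disj_BC) hY hY2
  have hcard : ({sextet0} ∪ OA ∪ OB ∪ OC).ncard = 1 + OA.ncard + OB.ncard + OC.ncard := by
    rw [Set.ncard_union_eq d3 (Set.toFinite _) (Set.toFinite _),
      Set.ncard_union_eq d2 (Set.toFinite _) (Set.toFinite _),
      Set.ncard_union_eq d1 (Set.toFinite _) (Set.toFinite _), Set.ncard_singleton]
  have hle := Set.ncard_le_ncard hsub (Set.toFinite _)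
  rw [hcard, ncard_sextets] at hle
  have hA : 90 ≤ OA.ncard := le_ncard_of_run runSxA_ok
  have hB : 240 ≤ OB.ncard := le_ncard_of_run runSxB_ok
  have hC : 1440 ≤ OC.ncard := le_ncard_of_run runSxC_ok
  refine ⟨?_, by omega, by omega, by omega⟩
  symm
  apply Set.eq_of_subset_of_ncard_le hsub _ (Set.toFinite _)
  rw [hcard, ncard_sextets]
  omega

/-- `M24` is transitive on sextets -/
theorem exists_M24_sextet {S S' : Finset (Finset GolayPt)} (hS : S ∈ sextets) (hS' : S' ∈ sextets) :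
    ∃ g ∈ M24, g • S = S' := by
  have hne : S.Nonempty := by rw [← Finset.card_pos, hS.1]; norm_num
  have hne' : S'.Nonempty := by rw [← Finset.card_pos, hS'.1]; norm_num
  obtain ⟨t, ht⟩ := hne
  obtain ⟨t', ht'⟩ := hne'
  have h4 := hS.2.1 t ht
  have h4' := hS'.2.1 t' ht'
  obtain ⟨g, hg, rfl⟩ := exists_M24_small (h4.trans h4'.symm) (by rw [h4]; norm_num)
  refine ⟨g, hg, ?_⟩
  obtain ⟨S0, _, huniq⟩ := existsUnique_sextet h4'
  rw [huniq (g • S) ⟨smul_mem_sextets hg hS, Finset.smul_mem_smul_finset ht⟩, huniq S' ⟨hS', ht'⟩]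

theorem orbit_M24_sextet {S : Finset (Finset GolayPt)} (hS : S ∈ sextets) :
    MulAction.orbit M24 S = sextets := by
  ext x
  constructor
  · rintro ⟨g, rfl⟩
    exact smul_mem_sextets g.2 hS
  · intro hx
    obtain ⟨g, hg, rfl⟩ := exists_M24_sextet hS hx
    exact ⟨⟨g, hg⟩, rfl⟩

theorem index_stabilizer_sextet {S : Finset (Finset GolayPt)} (hS : S ∈ sextets) :
    (MulAction.stabilizer M24 S).index = 1771 := by
  rw [MulAction.index_stabilizer, orbit_M24_sextet hS, ncard_sextets]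

theorem orbSet_trans {X a b : Finset (Finset GolayPt)} (ha : a ∈ OrbSet HSx X)
    (hb : b ∈ OrbSet HSx X) : ∃ h ∈ MulAction.stabilizer M24 sextet0, h • a = b := by
  obtain ⟨g, hg, rfl⟩ := ha
  obtain ⟨g', hg', rfl⟩ := hb
  have hm := HSx.mul_mem hg' (HSx.inv_mem hg)
  refine ⟨⟨g' * g⁻¹, (mem_HSx.mp hm).1⟩, ?_, ?_⟩
  · rw [MulAction.mem_stabilizer_iff]; exact (mem_HSx.mp hm).2
  · show (g' * g⁻¹) • g • X = g' • X
    rw [mul_smul, inv_smul_smul]

/-- **The stabilizer of the reference sextet is maximal in `M24`.** -/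
theorem isCoatom_stabilizer_sextet0 : IsCoatom (MulAction.stabilizer M24 sextet0) := by
  obtain ⟨hU, hA, hB, hC⟩ := sextets_eq_union
  apply isCoatom_of_three_classes sextet0 (OrbSet HSx (fss rootSxA)) (OrbSet HSx (fss rootSxB))
    (OrbSet HSx (fss rootSxC))
  · rw [orbit_M24_sextet sextet0_mem]
    exact hU.le
  · exact disj_0A
  · exact disj_0B
  · exact disj_0C
  · exact disj_AB
  · exact disj_AC
  · exact disj_BC
  · intro a ha b hb; exact orbSet_trans ha hb
  · intro a ha b hb; exact orbSet_trans ha hb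
  · intro a ha b hb; exact orbSet_trans ha hb
  · rw [hA, hB, hC, index_stabilizer_sextet sextet0_mem]
    intro e1 e2 e3 m hm
    cases e1 <;> cases e2 <;> cases e3 <;> simp at hm ⊢ <;> omega
  · intro h
    have := index_stabilizer_sextet sextet0_mem
    rw [h, Subgroup.index_top] at this
    omega

/-- orbits of the stabilizer of a translate of the reference sextet -/
theorem orbit_stab_smul {t : Equiv.Perm GolayPt} (ht : t ∈ M24) (X : Finset (Finset GolayPt)) :
    MulAction.orbit ↥(MulAction.stabilizer M24 (t • sextet0)) (t • X) =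
      (fun Y => t • Y) '' OrbSet HSx X := by
  ext Y
  constructor
  · rintro ⟨⟨⟨g, hgM⟩, hgs⟩, rfl⟩
    rw [MulAction.mem_stabilizer_iff] at hgs
    have hgs' : g • t • sextet0 = t • sextet0 := hgs
    refine ⟨(t⁻¹ * g * t) • X, ⟨t⁻¹ * g * t, mem_HSx.mpr
      ⟨M24.mul_mem (M24.mul_mem (M24.inv_mem ht) hgM) ht, ?_⟩, rfl⟩, ?_⟩
    · rw [mul_smul, mul_smul, hgs', inv_smul_smul]
    · show t • (t⁻¹ * g * t) • X = g • t • X
      rw [mul_smul, mul_smul, smul_inv_smul]
  · rintro ⟨_, ⟨h, hh, rfl⟩, rfl⟩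
    obtain ⟨hhM, hh0⟩ := mem_HSx.mp hh
    refine ⟨⟨⟨t * h * t⁻¹, M24.mul_mem (M24.mul_mem ht hhM) (M24.inv_mem ht)⟩, ?_⟩, ?_⟩
    · rw [MulAction.mem_stabilizer_iff]
      show (t * h * t⁻¹) • t • sextet0 = t • sextet0
      rw [mul_smul, mul_smul, inv_smul_smul, hh0]
    · show (t * h * t⁻¹) • t • X = t • h • X
      rw [mul_smul, mul_smul, inv_smul_smul]

/-- **A sextet stabiliser has four orbits on the 1771 sextets, of sizes 1, 90, 240, 1440, and is a
maximal subgroup of `M24`.** -/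
theorem sextet_main (S : Finset (Finset GolayPt)) (hS : S ∈ sextets) :
    ∃ X₁ ∈ sextets, ∃ X₂ ∈ sextets, ∃ X₃ ∈ sextets,
      (MulAction.orbit ↥(MulAction.stabilizer M24 S) X₁).ncard = 90 ∧
      (MulAction.orbit ↥(MulAction.stabilizer M24 S) X₂).ncard = 240 ∧
      (MulAction.orbit ↥(MulAction.stabilizer M24 S) X₃).ncard = 1440 ∧
      sextets = {S} ∪ MulAction.orbit ↥(MulAction.stabilizer M24 S) X₁ ∪
        MulAction.orbit ↥(MulAction.stabilizer M24 S) X₂ ∪
        MulAction.orbit ↥(MulAction.stabilizer M24 S) X₃ ∧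
      IsCoatom (MulAction.stabilizer M24 S) := by
  obtain ⟨t, ht, rfl⟩ := exists_M24_sextet sextet0_mem hS
  obtain ⟨hU, hA, hB, hC⟩ := sextets_eq_union
  refine ⟨t • fss rootSxA, smul_mem_sextets ht rootSxA_mem, t • fss rootSxB,
    smul_mem_sextets ht rootSxB_mem, t • fss rootSxC, smul_mem_sextets ht rootSxC_mem,
    ?_, ?_, ?_, ?_, ?_⟩
  · rw [orbit_stab_smul ht, Set.ncard_image_of_injective _ (MulAction.injective t), hA]
  · rw [orbit_stab_smul ht, Set.ncard_image_of_injective _ (MulAction.injective t), hB]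
  · rw [orbit_stab_smul ht, Set.ncard_image_of_injective _ (MulAction.injective t), hC]
  · rw [orbit_stab_smul ht, orbit_stab_smul ht, orbit_stab_smul ht]
    have h1 : ({t • sextet0} : Set (Finset (Finset GolayPt))) = (fun Y => t • Y) '' {sextet0} := by
      rw [Set.image_singleton]
    rw [h1, ← Set.image_union, ← Set.image_union, ← Set.image_union, ← hU]
    ext Y
    constructor
    · intro hY
      exact ⟨t⁻¹ • Y, smul_mem_sextets (M24.inv_mem ht) hY, smul_inv_smul t Y⟩
    · rintro ⟨Z, hZ, rfl⟩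
      exact smul_mem_sextets ht hZ
  · change IsCoatom (MulAction.stabilizer M24 ((⟨t, ht⟩ : ↥M24) • sextet0))
    rw [MulAction.stabilizer_smul_eq_stabilizer_map_conj]
    exact (OrderIso.isCoatom_iff (MulEquiv.mapSubgroup (MulAut.conj _)) _).mpr
      isCoatom_stabilizer_sextet0

end Cfsg.Agent.Lib.Helper6.Golay
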