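import Cfsg.Agent.Lib.Helper6.GolaySextet
import Cfsg.Agent.Lib.Helper6.GolaySetSys
import Cfsg.Agent.Lib.Helper6.Overgroup

/-!
# The stabilizer of a sextet: its four orbits on sextets (reference position)
-/

set_option autoImplicit false

namespace Cfsg.Agent.Lib.Helper6.Golay

open Cfsg
open Cfsg.Agent.Lib.Helper6.PermChain
open scoped Pointwise

def progSx : List (ℕ × ℕ) := [(0, 0), (0, 2), (1, 0), (1, 2), (2, 0), (2, 2), (3, 2), (4, 2), (5, 0), (5, 1), (5, 2), (6, 2), (7, 0), (7, 1), (8, 0), (11, 0), (11, 2), (12, 0), (13, 2), (14, 0), (15, 2), (16, 0), (17, 1), (18, 0), (19, 0), (20, 0), (21, 2), (22, 2), (23, 2), (24, 0), (25, 2), (26, 0), (27, 0), (28, 2), (29, 2), (30, 0), (31, 0), (32, 0), (33, 2), (34, 0), (35, 0), (36, 0), (38, 2), (39, 1), (40, 1), (42, 0), (43, 0), (44, 2), (45, 0), (47, 0), (51, 0), (53, 2), (54, 2), (55, 0), (56, 0), (50, 57), (9, 1), (59, 0), (60, 1), (61, 0), (62, 2), (63, 2), (64, 0), (65, 1), (66, 0), (67, 0), (68,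 1), (69, 1), (70, 2), (71, 1), (46, 72), (41, 1), (74, 2), (75, 0), (76, 1), (77, 0), (78, 0), (79, 2), (80, 1), (81, 1), (82, 1), (83, 1), (84, 1), (49, 85), (2, 1), (87, 0), (88, 2), (89, 1), (90, 2), (91, 0), (92, 2), (93, 0), (94, 0), (95, 2), (96, 1), (97, 0), (37, 98), (10, 1), (100, 1), (101, 0), (102, 2), (103, 1), (104, 0), (105, 0), (106, 0), (107, 1), (108, 2), (109, 1), (110, 2), (52, 111), (6, 1), (113, 2), (114, 1), (115, 1), (116, 0), (117, 2), (118, 2), (119, 1), (120, 2), (48, 121)]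

def sextet0C : List ℕ := [147496, 268544, 1082880, 2621632, 4268048, 8388615]

def rootsSx : List (List ℕ) := [[43, 297984, 1053440, 2162768, 4726912, 8536068],
  [15, 5264, 622848, 3416064, 4196928, 8536096],
  [27, 5252, 57856, 2162784, 4587776, 9963520]]

theorem fss_sextet0C : fss sextet0C = sextet0 := by
  have : sortS sextet0L = sextet0C := by decide
  rw [← this, fss_sortS]; rfl

/-- the stabilizer of the reference sextet in `M24` -/
def HSx : Subgroup (Equiv.Perm GolayPt) :=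
  M24 ⊓ MulAction.stabilizer (Equiv.Perm GolayPt) sextet0

theorem mem_HSx {g : Equiv.Perm GolayPt} : g ∈ HSx ↔ g ∈ M24 ∧ g • sextet0 = sextet0 := by
  rw [HSx, Subgroup.mem_inf]
  exact Iff.rfl

/-- keep the elements stabilizing the reference sextet -/
def sxFilter (E : List (List ℕ)) : List (List ℕ) :=
  E.map (fun s => if smapS s sextet0C == sextet0C then s else idl)

theorem rep_sxFilter {E : List (List ℕ)} (hE : ∀ l ∈ E, Rep M24 l) :
    ∀ l ∈ sxFilter E, Rep HSx l := by
  intro l hl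
  rw [sxFilter, List.mem_map] at hl
  obtain ⟨s, hs, rfl⟩ := hl
  split_ifs with h
  · obtain ⟨ws, g, hg, hgs⟩ := hE s hs
    refine ⟨ws, g, mem_HSx.mpr ⟨hg, ?_⟩, hgs⟩
    rw [beq_iff_eq] at h
    rw [← fss_sextet0C, smul_fss ws hgs, h]
  · exact Rep.one _

def ESx : List (List ℕ) := sxFilter (slpRun gens3 progSx)

theorem rep_ESx : ∀ l ∈ ESx, Rep HSx l :=
  rep_sxFilter (rep_slpRun _ _ (rep_gens3 hasGens_M24))

def rootSxA : List ℕ := rootsSx.getD 0 []
def rootSxB : List ℕ := rootsSx.getD 1 []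
def rootSxC : List ℕ := rootsSx.getD 2 []

theorem le_ncard_of_run {root : List ℕ} {cert : List (List ℕ)} {n : ℕ}
    (h : checkRun (wordsRun ESx root cert) n = true) : n ≤ (OrbSet HSx (fss root)).ncard :=
  le_ncard_of_checkRun rep_ESx h

end Cfsg.Agent.Lib.Helper6.Golay
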