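import Cfsg.Agent.Lib.Helper6.GolaySimple12
import Cfsg.Agent.Lib.Helper6.GolayM11

/-!
# `M11` (the stabilizer of a dodecad and one of its points) is simple
-/

set_option autoImplicit false

namespace Cfsg.Agent.Lib.Helper6.Golay

open Cfsg
open Cfsg.Agent.Lib.Helper6.PermChain
open scoped Pointwise

def progKS11 : List (ℕ × ℕ) := []

def progS11 : List (ℕ × ℕ) := [(283, 340), (375, 337), (376, 376), (377, 377), (378, 378), (377, 379), (376, 374), (381, 380), (224, 186), (383, 383), (383, 384), (384, 384), (385, 386), (383, 374), (388, 387), (325, 246), (390, 263), (391, 301), (392, 242), (393, 393), (394, 394), (395, 395), (394, 396), (393, 374), (398, 397), (175, 264), (400, 161), (401, 401), (402, 402), (403, 403), (402, 404), (401, 374), (406, 405), (374, 382), (399, 407), (409, 374), (410, 399), (411, 389), (412, 382), (413, 407), (414, 374), (399, 415), (389, 374), (417, 374), (418, 407), (419, 374), (374, 420), (416, 421), (374, 422), (416, 422), (422, 422), (425, 422), (399, 382), (427,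 399), (428, 374), (429, 407), (430, 382), (431, 399), (432, 399), (433, 407), (434, 382), (408, 435), (424, 436), (426, 437), (422, 438), (407, 374), (440, 382), (441, 389), (442, 374), (443, 389), (444, 407), (445, 399), (446, 407), (447, 382), (423, 448), (416, 449), (439, 450)]

def treesS11 : List (List (ℕ × ℕ)) := [[],
  [(2, 374), (2, 382), (2, 389), (2, 399), (9, 389), (9, 399), (9, 407), (10, 451), (13, 416), (8, 399)],
  [(3, 416), (14, 416), (14, 438), (7, 416), (7, 451), (13, 416), (13, 451), (9, 438), (11, 422)],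
  [(4, 422), (10, 422), (10, 438), (10, 451), (9, 422), (9, 451), (8, 438), (8, 451)],
  [(6, 438), (6, 451), (14, 438), (14, 451), (9, 438), (13, 438), (13, 451)]]

def orbsS11 : List (List ℕ) := [[0],
  [2, 3, 4, 6, 7, 8, 9, 10, 11, 13, 14],
  [3, 4, 6, 7, 8, 9, 10, 11, 13, 14],
  [4, 6, 7, 8, 9, 10, 11, 13, 14],
  [6, 7, 8, 9, 10, 11, 13, 14]]

def isigS11 : ℕ := 208

/-- generators of the point stabilizer in the dodecad stabilizer -/
def gensS11 : List (List ℕ) := slpRun (fixFilter E12 [0]) progKS11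

set_option maxHeartbeats 4000000 in
set_option maxRecDepth 100000 in
theorem chainS11_ok : chainCheck (normFilter (slpRun (gensS11 ++ [gensS11.getD isigS11 idl]) progS11)
    (slpRun (gensS11 ++ [idl]) progS11)) base12 treesS11 orbsS11 = true := by decide +kernel

theorem rep_gensS11 : ∀ l ∈ gensS11, Rep (M11in M24) l :=
  rep_slpRun _ _ (rep_fixFilter (rep_E12 hasGens_M24) [0])

theorem orbS11_ok : ∀ k, k < 5 → k ≠ 0 → ∀ q : GolayPt, q ∈ fs dodecad0 →
    q ∉ (base12.take k).map pt → idx q ∈ orbsS11.getD k [] := by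
  intro k hk
  interval_cases k <;> decide

set_option maxHeartbeats 4000000 in
set_option maxRecDepth 100000 in
theorem sigS11_pow : lpow (gensS11.getD isigS11 idl) 11 = idl := by decide +kernel

set_option maxHeartbeats 4000000 in
set_option maxRecDepth 100000 in
theorem sigS11_ne : ∃ j, j < 24 ∧ lfun (gensS11.getD isigS11 idl) (pt j) ≠ pt j := by decide +kernel

theorem ncard_D11 : ({x | x ∈ fs dodecad0 ∧ x ≠ pt 0} : Set GolayPt).ncard = 11 := by
  have h1 : ({x | x ∈ fs dodecad0 ∧ x ≠ pt 0} : Set GolayPt) =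
      ↑((fs dodecad0).filter (fun x => x ≠ pt 0)) := by ext x; simp
  rw [h1, Set.ncard_coe_finset]
  decide

theorem pt0_mem : pt 0 ∈ fs dodecad0 := by decide

/-- **`M11` in reference position is simple.** -/
theorem isSimpleGroup_M11ref : IsSimpleGroup ↥(M11in M24) := by
  have : Fact (Nat.Prime 11) := ⟨by norm_num⟩
  have hK := rep_gensS11
  obtain ⟨wσ, σ, hσK, hσl⟩ := rep_getD hK isigS11
  obtain ⟨j, -, hj⟩ := sigS11_ne
  have hord : orderOf σ = 11 := orderOf_eq_of_lpow wσ hσl 11 sigS11_pow j hj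
  have hK12 : M11in M24 ≤ M12in M24 := fixL_le _ _
  have hfix0 : ∀ g ∈ M11in M24, g (pt 0) = pt 0 := fun g hg => (mem_fixL.mp hg).2 _ (by simp)
  have hcard : Nat.card (M11in M24) = 11 * 720 := card_fixL_M12_vals.1
  apply isSimpleGroup_two 11 720 hcard (by norm_num) (by norm_num) ⟨σ, hσK⟩
    (by rw [← Subgroup.orderOf_coe]; exact hord) ?_ {x | x ∈ fs dodecad0 ∧ x ≠ pt 0}
  · rw [ncard_D11]
  · -- faithful
    intro g hg hfix
    have : g ∈ fixL (M12in M24) bs12 := by
      refine mem_fixL.mpr ⟨hK12 hg, fun x hx => ?_⟩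
      by_cases hx0 : x = pt 0
      · rw [hx0]; exact hfix0 g hg
      · exact hfix x ⟨bs12_subset x hx, hx0⟩
    rw [fixL_M12_bs12, Subgroup.mem_bot] at this
    exact this
  · -- invariant
    intro g hg x hx
    refine ⟨(M12in_mem_D g (hK12 hg) x).mpr hx.1, ?_⟩
    intro h
    apply hx.2
    have h1 : g x = g (pt 0) := by rw [hfix0 g hg]; exact h
    exact g.injective h1
  · -- 2-transitive
    intro a ha b hb c hc hab hac
    obtain ⟨g, hg, hgxy⟩ := exists_map_of_chain_on_take (M12in M24) D12 M12in_mem_D bs12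
      (chain12 hasGens_M24) 3 (by decide)
      (emb3 (pt 0) a b (Ne.symm ha.2) (Ne.symm hb.2) hab)
      (emb3 (pt 0) a c (Ne.symm ha.2) (Ne.symm hc.2) hac)
      (by intro i; fin_cases i; exacts [pt0_mem, ha.1, hb.1])
      (by intro i; fin_cases i; exacts [pt0_mem, ha.1, hc.1])
    refine ⟨g, mem_fixL.mpr ⟨hg, ?_⟩, hgxy 1, hgxy 2⟩
    intro x hx
    rw [List.mem_singleton] at hx
    rw [hx]; exact hgxy 0
  · -- normal closure
    apply normalClosure_eq_top_of_le
    intro N hNK hnorm hσN
    refine le_of_cert _ gensS11 hK isigS11 progS11 base12 treesS11 orbsS11 chainS11_ok ?_ ?_ N hNK hnorm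
      ⟨wσ, σ, hσN, hσl⟩
    · rw [eq_bot_iff, ← fixL_M12_bs12]
      exact fixL_mono hK12 _
    · intro k hk g hg
      have hk5 : k < 5 := hk
      by_cases hk0 : k = 0
      · subst hk0
        have : g (pt 0) = pt 0 := hfix0 g (fixL_le _ _ hg)
        show idx (g (pt 0)) ∈ orbsS11.getD 0 []
        rw [this]; decide
      · have hb := base12_mem k hk5
        apply orbS11_ok k hk5 hk0
        · exact (M12in_mem_D g (hK12 (fixL_le _ _ hg)) _).mpr hb.1
        · exact apply_not_mem_of_fixL hg hb.2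

/-- **The stabilizer of a dodecad and one of its points in `M24` is simple.** -/
theorem isSimpleGroup_stabilizer_dodecad_point {d : Finset GolayPt} (hd : d ∈ dodecads)
    {p : GolayPt} (hp : p ∈ d) :
    IsSimpleGroup ↥(MulAction.stabilizer M24 d ⊓ MulAction.stabilizer M24 p) := by
  obtain ⟨t, ht, rfl, rfl⟩ := exists_M24_dodecad_point hd hp
  have := isSimpleGroup_M11ref
  refine (conjMulEquiv ht (MulAction.stabilizer M24 (t • fs dodecad0) ⊓
    MulAction.stabilizer M24 (t (pt 0))) (M11in M24)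
    (fun g hg => (mem_M12in.mp (fixL_le _ _ hg)).1) ?_).isSimpleGroup
  intro g
  rw [Subgroup.mem_inf, MulAction.mem_stabilizer_iff, MulAction.mem_stabilizer_iff, M11in, mem_fixL,
    mem_M12in]
  constructor
  · rintro ⟨hg, hgp⟩
    have hg' : g.1 • (t • fs dodecad0) = t • fs dodecad0 := hg
    have hgp' : g.1 (t (pt 0)) = t (pt 0) := hgp
    refine ⟨⟨M24.mul_mem (M24.mul_mem (M24.inv_mem ht) g.2) ht, ?_⟩, ?_⟩
    · rw [mul_smul, mul_smul, hg', inv_smul_smul]
    · intro x hx
      rw [List.mem_singleton] at hx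
      subst hx
      rw [Equiv.Perm.mul_apply, Equiv.Perm.mul_apply, hgp']
      exact perm_inv_apply t _
  · rintro ⟨⟨-, hfix⟩, hfix0⟩
    constructor
    · show g.1 • (t • fs dodecad0) = t • fs dodecad0
      rw [mul_smul, mul_smul, inv_smul_eq_iff] at hfix
      exact hfix
    · show g.1 (t (pt 0)) = t (pt 0)
      have h1 := hfix0 (pt 0) (by simp)
      rw [Equiv.Perm.mul_apply, Equiv.Perm.mul_apply, Equiv.Perm.inv_eq_iff_eq] at h1
      exact h1

end Cfsg.Agent.Lib.Helper6.Golay
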