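import Cfsg.Agent.Lib.Helper6.GolaySimple

/-!
# `M12` (the stabilizer of a dodecad) is simple
-/

set_option autoImplicit false

namespace Cfsg.Agent.Lib.Helper6.Golay

open Cfsg
open Cfsg.Agent.Lib.Helper6.PermChain
open scoped Pointwise

def progKS12 : List (ℕ × ℕ) := []

def progS12 : List (ℕ × ℕ) := [(279, 355), (375, 344), (376, 376), (377, 377), (378, 378), (377, 379), (376, 374), (381, 380), (195, 160), (383, 383), (384, 384), (383, 374), (386, 385), (333, 247), (388, 252), (389, 304), (390, 227), (391, 391), (391, 392), (392, 392), (393, 394), (391, 374), (396, 395), (154, 257), (398, 137), (399, 399), (400, 400), (399, 401), (399, 374), (403, 402), (374, 374), (374, 382), (374, 397), (387, 382), (397, 404), (409, 374), (410, 397), (411, 387), (412, 382), (413, 404), (414, 374), (405, 415), (387, 374), (417, 374), (418, 404), (419, 374), (397, 420), (416, 421), (397, 382), (423, 397), (424, 374), (425, 404), (426, 382), (427, 397), (428, 397), (429, 404), (430, 382), (397, 431), (421, 432), (422, 433),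 (433, 433), (435, 433), (408, 397), (437, 387), (438, 374), (439, 397), (407, 440), (434, 441), (416, 442), (436, 442), (404, 374), (445, 382), (446, 387), (447, 374), (448, 387), (449, 404), (450, 397), (451, 404), (452, 382), (406, 453), (444, 454), (382, 455), (387, 404), (457, 397), (458, 404), (459, 397), (460, 404), (461, 374), (408, 462), (443, 463), (433, 464), (442, 465), (442, 466), (397, 397), (468, 397), (469, 382), (470, 387), (471, 404), (456, 472), (416, 473), (433, 474), (467, 475)]

def treesS12 : List (List (ℕ × ℕ)) := [[(0, 374), (0, 382), (0, 387), (0, 397), (10, 374), (10, 382), (10, 421), (10, 476), (11, 421), (11, 455), (3, 397)],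
  [(2, 416), (2, 421), (14, 416), (14, 421), (14, 455), (14, 466), (14, 476), (10, 442), (3, 416), (7, 442)],
  [(3, 433), (4, 433), (4, 442), (14, 433), (14, 455), (14, 466), (14, 476), (7, 442), (10, 442)],
  [(4, 442), (7, 442), (7, 455), (7, 466), (6, 442), (6, 455), (6, 466), (10, 442)],
  [(6, 455), (6, 466), (6, 476), (13, 466), (13, 476), (14, 476), (10, 466)]]

def orbsS12 : List (List ℕ) := [[0, 2, 3, 4, 6, 7, 8, 9, 10, 11, 13, 14],
  [2, 3, 4, 6, 7, 8, 9, 10, 11, 13, 14],
  [3, 4, 6, 7, 8, 9, 10, 11, 13, 14],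
  [4, 6, 7, 8, 9, 10, 11, 13, 14],
  [6, 7, 8, 9, 10, 11, 13, 14]]

def isigS12 : ℕ := 135

/-- generators of the dodecad stabilizer -/
def gensS12 : List (List ℕ) := slpRun E12 progKS12

set_option maxHeartbeats 4000000 in
set_option maxRecDepth 100000 in
theorem chainS12_ok : chainCheck (normFilter (slpRun (gensS12 ++ [gensS12.getD isigS12 idl]) progS12)
    (slpRun (gensS12 ++ [idl]) progS12)) base12 treesS12 orbsS12 = true := by decide +kernel

theorem rep_gensS12 : ∀ l ∈ gensS12, Rep (M12in M24) l :=
  rep_slpRun _ _ (rep_E12 hasGens_M24)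

theorem orbS12_ok : ∀ k, k < 5 → ∀ q : GolayPt, q ∈ fs dodecad0 → q ∉ (base12.take k).map pt →
    idx q ∈ orbsS12.getD k [] := by
  intro k hk
  interval_cases k <;> decide

set_option maxHeartbeats 4000000 in
set_option maxRecDepth 100000 in
theorem sigS12_pow : lpow (gensS12.getD isigS12 idl) 11 = idl := by decide +kernel

set_option maxHeartbeats 4000000 in
set_option maxRecDepth 100000 in
theorem sigS12_ne : ∃ j, j < 24 ∧ lfun (gensS12.getD isigS12 idl) (pt j) ≠ pt j := by decide +kernel

theorem fixL_M12_bs12 : fixL (M12in M24) bs12 = ⊥ :=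
  Subgroup.eq_bot_of_card_eq _ card_fixL_M12_vals.2

theorem base12_mem : ∀ k, k < 5 → pt (base12.getD k 0) ∈ fs dodecad0 ∧
    pt (base12.getD k 0) ∉ (base12.take k).map pt := by
  intro k hk
  interval_cases k <;> decide

theorem horb_M12 {K : Subgroup (Equiv.Perm GolayPt)} (hK : K ≤ M12in M24) (k : ℕ) (hk : k < 5)
    (g : Equiv.Perm GolayPt) (hg : g ∈ fixL K ((base12.take k).map pt)) :
    idx (g (pt (base12.getD k 0))) ∈ orbsS12.getD k [] := by
  have hb := base12_mem k hk
  apply orbS12_ok k hk
  · exact (M12in_mem_D g (hK (fixL_le _ _ hg)) _).mpr hb.1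
  · exact apply_not_mem_of_fixL hg hb.2

theorem ncard_D12 : D12.ncard = 12 := by
  have h1 : D12 = ↑(fs dodecad0) := by ext x; rfl
  rw [h1, Set.ncard_coe_finset]
  decide

theorem bs12_subset : ∀ x ∈ bs12, x ∈ D12 := by
  have : ∀ x ∈ bs12, x ∈ fs dodecad0 := by decide
  exact this

/-- **`M12` in reference position is simple.** -/
theorem isSimpleGroup_M12ref : IsSimpleGroup ↥(M12in M24) := by
  have : Fact (Nat.Prime 11) := ⟨by norm_num⟩
  have hK := rep_gensS12
  obtain ⟨wσ, σ, hσK, hσl⟩ := rep_getD hK isigS12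
  obtain ⟨j, -, hj⟩ := sigS12_ne
  have hord : orderOf σ = 11 := orderOf_eq_of_lpow wσ hσl 11 sigS12_pow j hj
  have hKle : M12in M24 ≤ M24 := fun g hg => (mem_M12in.mp hg).1
  apply isSimpleGroup_four 11 8640 card_M12 (by norm_num) (by norm_num) ⟨σ, hσK⟩
    (by rw [← Subgroup.orderOf_coe]; exact hord) ?_ D12 ncard_D12 (by rw [ncard_D12]; norm_num)
  · -- faithful
    intro g hg hfix
    have : g ∈ fixL (M12in M24) bs12 := mem_fixL.mpr ⟨hg, fun x hx => hfix x (bs12_subset x hx)⟩
    rw [fixL_M12_bs12, Subgroup.mem_bot] at this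
    exact this
  · -- invariant
    intro g hg x hx
    exact (M12in_mem_D g hg x).mpr hx
  · intro x y hx hy
    exact exists_map_of_chain_on_take (M12in M24) D12 M12in_mem_D bs12 (chain12 hasGens_M24) 3
      (by decide) x y hx hy
  · intro x y hx hy
    exact exists_map_of_chain_on_take (M12in M24) D12 M12in_mem_D bs12 (chain12 hasGens_M24) 4
      (by decide) x y hx hy
  · -- normal closure
    apply normalClosure_eq_top_of_le
    intro N hNK hnorm hσN
    refine le_of_cert _ gensS12 hK isigS12 progS12 base12 treesS12 orbsS12 chainS12_ok ?_ ?_ N hNK hnorm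
      ⟨wσ, σ, hσN, hσl⟩
    · exact fixL_M12_bs12
    · intro k hk g hg
      exact horb_M12 le_rfl k hk g hg

/-- **The stabilizer of a dodecad in `M24` is simple.** -/
theorem isSimpleGroup_stabilizer_dodecad {d : Finset GolayPt} (hd : d ∈ dodecads) :
    IsSimpleGroup (MulAction.stabilizer M24 d) := by
  obtain ⟨t, ht, rfl⟩ := cwReach_dodecad hd
  have := isSimpleGroup_M12ref
  refine (conjMulEquiv ht (MulAction.stabilizer M24 (t • fs dodecad0)) (M12in M24)
    (fun g hg => (mem_M12in.mp hg).1) ?_).isSimpleGroup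
  intro g
  rw [MulAction.mem_stabilizer_iff, mem_M12in]
  constructor
  · intro hg
    have hg' : g.1 • (t • fs dodecad0) = t • fs dodecad0 := hg
    refine ⟨M24.mul_mem (M24.mul_mem (M24.inv_mem ht) g.2) ht, ?_⟩
    rw [mul_smul, mul_smul, hg', inv_smul_smul]
  · rintro ⟨-, hfix⟩
    show g.1 • (t • fs dodecad0) = t • fs dodecad0
    rw [mul_smul, mul_smul, inv_smul_eq_iff] at hfix
    exact hfix

end Cfsg.Agent.Lib.Helper6.Golay
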