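import Cfsg.Agent.Lib.Helper6.GolaySimple

/-!
# `M22` (the stabilizer of two points) is simple
-/

set_option autoImplicit false

namespace Cfsg.Agent.Lib.Helper6.Golay

open Cfsg
open Cfsg.Agent.Lib.Helper6.PermChain

def progKS22 : List (ℕ × ℕ) := [(50, 174)]

def progS22 : List (ℕ × ℕ) := [(164, 217), (220, 214), (221, 221), (222, 222), (221, 219), (224, 223), (91, 64), (226, 226), (227, 227), (228, 228), (227, 229), (226, 219), (231, 230), (214, 125), (233, 145), (234, 185), (235, 121), (236, 236), (237, 237), (238, 238), (237, 239), (236, 219), (241, 240), (42, 146), (243, 25), (244, 244), (245, 245), (245, 246), (244, 219), (248, 247), (219, 232), (219, 242), (225, 225), (232, 225), (232, 232), (232, 249), (242, 225), (242, 232), (249, 242), (242, 249), (259, 219), (260, 242), (261, 232), (262, 225), (263, 249), (264, 219), (251, 265), (232, 219), (267, 219), (268, 249), (269, 219), (225, 270), (271, 266), (271, 271), (256, 242), (274, 219), (275, 249), (276, 225), (277, 242), (278, 242), (279, 249),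 (280, 225), (254, 281), (266, 282), (219, 283), (266, 283), (272, 283), (283, 283), (287, 283), (253, 242), (289, 232), (290, 219), (291, 242), (249, 292), (286, 293), (288, 294), (283, 295), (296, 283), (297, 283), (298, 295), (295, 295), (249, 219), (301, 225), (302, 232), (303, 219), (304, 232), (305, 249), (306, 242), (307, 249), (308, 225), (252, 309), (266, 310), (299, 311), (255, 242), (313, 249), (314, 242), (315, 249), (316, 219), (250, 317), (273, 318), (287, 319), (300, 320), (297, 321), (258, 232), (323, 242), (324, 219), (325, 242), (326, 219), (327, 232), (328, 249), (329, 249), (330, 249), (284, 331), (322, 332), (257, 249), (334, 232), (335, 242), (336, 232), (337, 249), (338, 249), (339, 219), (257, 340), (285, 341), (322, 342), (295, 343)]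

def treesS22 : List (List (ℕ × ℕ)) := [[],
  [],
  [(1, 219), (1, 225), (1, 232), (1, 242), (1, 249), (10, 219), (10, 225), (10, 242), (10, 249), (10, 283), (10, 344), (16, 225), (16, 271), (16, 312), (16, 333), (11, 232), (11, 271), (11, 321), (4, 266), (4, 321), (6, 232)],
  [(2, 266), (2, 271), (14, 266), (14, 271), (14, 283), (14, 295), (13, 271), (13, 283), (13, 312), (13, 321), (13, 333), (13, 344), (22, 266), (22, 271), (22, 283), (22, 333), (10, 283), (10, 321), (4, 283), (4, 321)],
  [(3, 283), (16, 283), (16, 295), (16, 312), (16, 321), (16, 333), (6, 295), (6, 333), (6, 344), (7, 312), (7, 321), (7, 333), (18, 333), (10, 283), (10, 333), (11, 312), (11, 321), (9, 283), (15, 283)],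
  [(5, 295), (14, 295)],
  [(4, 312), (4, 321), (4, 333), (4, 344), (11, 321), (11, 333), (11, 344), (15, 333), (15, 344), (8, 344), (21, 333), (21, 344), (13, 344), (7, 344), (9, 344)]]

def orbsS22 : List (List ℕ) := [[23],
  [0],
  [1, 2, 3, 4, 5, 6, 7, 8, 9, 10, 11, 12, 13, 14, 15, 16, 17, 18, 19, 20, 21, 22],
  [2, 3, 4, 5, 6, 7, 8, 9, 10, 11, 12, 13, 14, 15, 16, 17, 18, 19, 20, 21, 22],
  [3, 4, 5, 6, 7, 8, 9, 10, 11, 12, 13, 14, 15, 16, 17, 18, 19, 20, 21, 22],
  [5, 14, 17],
  [4, 6, 7, 8, 9, 10, 11, 12, 13, 15, 16, 18, 19, 20, 21, 22]]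

def isigS22 : ℕ := 218

/-- generators of the two-point stabilizer: the straight-line elements fixing the two points -/
def gensS22 : List (List ℕ) := slpRun (fixFilter EL [23, 0]) progKS22

set_option maxHeartbeats 4000000 in
set_option maxRecDepth 100000 in
theorem chainS22_ok : chainCheck (normFilter (slpRun (gensS22 ++ [gensS22.getD isigS22 idl]) progS22)
    (slpRun (gensS22 ++ [idl]) progS22)) baseL treesS22 orbsS22 = true := by decide +kernel

theorem rep_gensS22 : ∀ l ∈ gensS22, Rep (fixL M24 [pt 23, pt 0]) l :=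
  rep_slpRun _ _ (rep_fixFilter (rep_EL hasGens_M24) [23, 0])

theorem orbS22_ok : ∀ k, k < 7 → ∀ q : GolayPt, q ∈ orbk k → k ≠ 0 → k ≠ 1 →
    idx q ∈ orbsS22.getD k [] := by
  intro k hk
  interval_cases k <;> decide

set_option maxHeartbeats 4000000 in
set_option maxRecDepth 100000 in
theorem sigS22_pow : lpow (gensS22.getD isigS22 idl) 11 = idl := by decide +kernel

set_option maxHeartbeats 4000000 in
set_option maxRecDepth 100000 in
theorem sigS22_ne : lfun (gensS22.getD isigS22 idl) (pt 1) ≠ pt 1 := by decide +kernel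

theorem isSimpleGroup_M22ref : IsSimpleGroup ↥(fixL M24 [pt 23, pt 0]) := by
  have : Fact (Nat.Prime 11) := ⟨by norm_num⟩
  have hK := rep_gensS22
  obtain ⟨wσ, σ, hσK, hσl⟩ := rep_getD hK isigS22
  have hord : orderOf σ = 11 := orderOf_eq_of_lpow wσ hσl 11 sigS22_pow 1 sigS22_ne
  have hKle : fixL M24 [pt 23, pt 0] ≤ M24 := fixL_le _ _
  apply isSimpleGroup_two 11 40320 (card_fixL_pair (by decide)) (by norm_num) (by norm_num) ⟨σ, hσK⟩
    (by rw [← Subgroup.orderOf_coe]; exact hord) ?_ {x | x ≠ pt 23 ∧ x ≠ pt 0}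
  · -- degree
    have : ({x | x ≠ pt 23 ∧ x ≠ pt 0} : Set GolayPt).ncard = 22 := by
      have h1 : ({x | x ≠ pt 23 ∧ x ≠ pt 0} : Set GolayPt) =
          ↑(Finset.univ.filter (fun x : GolayPt => x ≠ pt 23 ∧ x ≠ pt 0)) := by
        ext x; simp
      rw [h1, Set.ncard_coe_finset]
      decide
    rw [this]
    norm_num
  · -- faithful
    intro g hg hfix
    apply Equiv.ext
    intro x
    by_cases hx : x = pt 23
    · rw [hx]; exact (mem_fixL.mp hg).2 _ (by simp)
    · by_cases hx0 : x = pt 0
      · rw [hx0]; exact (mem_fixL.mp hg).2 _ (by simp)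
      · exact hfix x ⟨hx, hx0⟩
  · -- invariant
    intro g hg x hx
    constructor
    · intro h
      apply hx.1
      have h1 : g x = g (pt 23) := by rw [(mem_fixL.mp hg).2 (pt 23) (by simp)]; exact h
      exact g.injective h1
    · intro h
      apply hx.2
      have h1 : g x = g (pt 0) := by rw [(mem_fixL.mp hg).2 (pt 0) (by simp)]; exact h
      exact g.injective h1
  · -- 2-transitive
    intro a ha b hb c hc hab hac
    obtain ⟨g, hg, hgxy⟩ := exists_M24_map (n := 4) (by norm_num)
      (emb4 (pt 23) (pt 0) a b (by decide) (Ne.symm ha.1) (Ne.symm hb.1) (Ne.symm ha.2)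
        (Ne.symm hb.2) hab)
      (emb4 (pt 23) (pt 0) a c (by decide) (Ne.symm ha.1) (Ne.symm hc.1) (Ne.symm ha.2)
        (Ne.symm hc.2) hac)
    refine ⟨g, mem_fixL.mpr ⟨hg, ?_⟩, hgxy 2, hgxy 3⟩
    intro x hx
    simp only [List.mem_cons, List.not_mem_nil, or_false] at hx
    rcases hx with rfl | rfl
    · exact hgxy 0
    · exact hgxy 1
  · -- normal closure
    apply normalClosure_eq_top_of_le
    intro N hNK hnorm hσN
    refine le_of_cert _ gensS22 hK isigS22 progS22 baseL treesS22 orbsS22 chainS22_ok ?_ ?_ N hNK hnorm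
      ⟨wσ, σ, hσN, hσl⟩
    · exact fixL7_eq_bot hKle
    · intro k hk g hg
      have hk7 : k < 7 := hk
      by_cases hk0 : k = 0
      · subst hk0
        have : g (pt 23) = pt 23 := (mem_fixL.mp (mem_fixL.mp hg).1).2 _ (by simp)
        show idx (g (pt 23)) ∈ orbsS22.getD 0 []
        rw [this]; decide
      · by_cases hk1 : k = 1
        · subst hk1
          have : g (pt 0) = pt 0 := (mem_fixL.mp (mem_fixL.mp hg).1).2 _ (by simp)
          show idx (g (pt 0)) ∈ orbsS22.getD 1 []
          rw [this]; decide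
        · exact orbS22_ok k hk7 _ (mem_orbk_of_fixL hKle k hk7 g hg) hk0 hk1

/-- **The stabilizer of two points in `M24` is simple.** -/
theorem isSimpleGroup_stabilizer_two_points {p q : GolayPt} (hpq : p ≠ q) :
    IsSimpleGroup ↥(MulAction.stabilizer M24 p ⊓ MulAction.stabilizer M24 q) := by
  obtain ⟨t, ht, htp⟩ := exists_M24_map (n := 2) (by norm_num)
    ⟨![pt 23, pt 0], by
      have h0 : pt 23 ≠ pt 0 := by decide
      intro i j h; fin_cases i <;> fin_cases j <;> simp_all⟩
    ⟨![p, q], by intro i j h; fin_cases i <;> fin_cases j <;> simp_all⟩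
  have htp0 : t (pt 23) = p := htp 0
  have htp1 : t (pt 0) = q := htp 1
  have := isSimpleGroup_M22ref
  refine (conjMulEquiv ht (MulAction.stabilizer M24 p ⊓ MulAction.stabilizer M24 q)
    (fixL M24 [pt 23, pt 0]) (fixL_le _ _) ?_).isSimpleGroup
  intro g
  rw [Subgroup.mem_inf, MulAction.mem_stabilizer_iff, MulAction.mem_stabilizer_iff, mem_fixL]
  constructor
  · rintro ⟨hgp, hgq⟩
    have hgp' : g.1 p = p := hgp
    have hgq' : g.1 q = q := hgq
    refine ⟨M24.mul_mem (M24.mul_mem (M24.inv_mem ht) g.2) ht, ?_⟩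
    intro x hx
    simp only [List.mem_cons, List.not_mem_nil, or_false] at hx
    rcases hx with rfl | rfl
    · rw [Equiv.Perm.mul_apply, Equiv.Perm.mul_apply, htp0, hgp', ← htp0]
      exact perm_inv_apply t _
    · rw [Equiv.Perm.mul_apply, Equiv.Perm.mul_apply, htp1, hgq', ← htp1]
      exact perm_inv_apply t _
  · rintro ⟨-, hfix⟩
    have h1 := hfix (pt 23) (by simp)
    have h2 := hfix (pt 0) (by simp)
    rw [Equiv.Perm.mul_apply, Equiv.Perm.mul_apply, htp0, Equiv.Perm.inv_eq_iff_eq, htp0] at h1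
    rw [Equiv.Perm.mul_apply, Equiv.Perm.mul_apply, htp1, Equiv.Perm.inv_eq_iff_eq, htp1] at h2
    exact ⟨h1, h2⟩

end Cfsg.Agent.Lib.Helper6.Golay
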