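import Cfsg.Agent.Lib.Helper6.GolaySimple

/-!
# `M23` (the stabilizer of the point at infinity) is simple
-/

set_option autoImplicit false

namespace Cfsg.Agent.Lib.Helper6.Golay

open Cfsg
open Cfsg.Agent.Lib.Helper6.PermChain

def progKS23 : List (ℕ × ℕ) := []

def progS23 : List (ℕ × ℕ) := [(215, 24), (219, 99), (220, 220), (221, 221), (222, 222), (221, 223), (220, 218), (225, 224), (185, 173), (227, 227), (228, 228), (227, 229), (229, 229), (230, 231), (227, 218), (233, 232), (145, 81), (235, 33), (236, 183), (237, 11), (238, 238), (239, 239), (239, 240), (240, 240), (242, 242), (241, 243), (238, 218), (245, 244), (161, 0), (247, 173), (248, 102), (249, 89), (250, 250), (251, 251), (251, 252), (252, 252), (253, 254), (250, 218), (256, 255), (218, 218), (218, 234), (218, 246), (226, 218), (226, 226), (257, 226), (257, 246), (257, 234), (265, 218), (266, 218), (267, 218), (263, 268), (218, 269), (226, 269), (264, 226), (272, 246), (273, 218), (257, 274), (269, 275), (275, 275), (277, 269), (277, 275), (264, 246), (280,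 257), (281, 226), (282, 234), (218, 283), (278, 284), (275, 285), (286, 275), (285, 285), (288, 285), (289, 285), (262, 246), (291, 234), (292, 218), (293, 246), (294, 257), (295, 218), (296, 226), (297, 234), (270, 298), (287, 299), (300, 285), (289, 300), (259, 257), (303, 246), (304, 257), (305, 226), (306, 234), (307, 234), (308, 257), (309, 246), (261, 310), (279, 311), (290, 312), (269, 313), (276, 313), (314, 313), (285, 313), (257, 257), (318, 218), (319, 246), (320, 226), (321, 246), (322, 246), (323, 226), (263, 324), (286, 325), (302, 326), (226, 327), (300, 327), (301, 327), (327, 313), (327, 327), (331, 313), (331, 327), (332, 313), (234, 234), (336, 218), (337, 246), (338, 257), (339, 218), (340, 226), (341, 257), (342, 246), (263, 343), (330, 344), (334, 345), (300, 346), (234, 218), (348, 246), (349, 218), (350, 234), (351, 257), (352, 257), (353, 257), (328, 354), (276, 355), (347, 356), (335, 357), (358, 358), (246, 226), (360, 226), (361, 257), (362, 226), (363, 218), (364, 226), (365, 257), (366, 257),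 (367, 226), (226, 368), (315, 369), (329, 370), (334, 371), (359, 372), (313, 373), (318, 246), (375, 246), (376, 234), (377, 246), (258, 378), (316, 379), (347, 380), (333, 381), (358, 382), (317, 383), (260, 234), (385, 257), (386, 246), (387, 218), (388, 234), (389, 257), (390, 246), (391, 234), (271, 392), (384, 393), (374, 394)]

def treesS23 : List (List (ℕ × ℕ)) := [[],
  [(0, 218), (0, 226), (0, 234), (0, 246), (0, 257), (1, 218), (1, 234), (1, 246), (1, 257), (1, 269), (1, 275), (10, 218), (10, 226), (10, 269), (10, 275), (10, 313), (10, 327), (10, 346), (10, 383), (12, 383), (8, 373), (6, 313)],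
  [(1, 269), (1, 275), (20, 275), (20, 300), (20, 313), (20, 327), (20, 358), (20, 346), (20, 383), (19, 275), (19, 313), (19, 383), (19, 395), (11, 285), (11, 373), (18, 275), (18, 383), (18, 395), (22, 275), (21, 269), (4, 275)],
  [(2, 285), (2, 300), (18, 285), (18, 300), (18, 313), (18, 327), (18, 358), (18, 346), (18, 373), (18, 383), (18, 395), (10, 327), (10, 346), (21, 300), (21, 313), (21, 327), (21, 346), (21, 395), (20, 327), (13, 395)],
  [(3, 313), (3, 327), (18, 313), (18, 327), (18, 346), (18, 373), (18, 383), (18, 395), (12, 313), (12, 358), (12, 383), (15, 327), (15, 373), (7, 358), (19, 313), (19, 358), (20, 383), (13, 395), (5, 358)],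
  [(5, 358), (14, 358)],
  [(4, 346), (4, 373), (4, 383), (4, 395), (9, 373), (9, 383), (9, 395), (7, 383), (7, 395), (12, 395), (11, 383), (11, 395), (6, 395), (10, 395), (22, 395)]]

def orbsS23 : List (List ℕ) := [[23],
  [0, 1, 2, 3, 4, 5, 6, 7, 8, 9, 10, 11, 12, 13, 14, 15, 16, 17, 18, 19, 20, 21, 22],
  [1, 2, 3, 4, 5, 6, 7, 8, 9, 10, 11, 12, 13, 14, 15, 16, 17, 18, 19, 20, 21, 22],
  [2, 3, 4, 5, 6, 7, 8, 9, 10, 11, 12, 13, 14, 15, 16, 17, 18, 19, 20, 21, 22],
  [3, 4, 5, 6, 7, 8, 9, 10, 11, 12, 13, 14, 15, 16, 17, 18, 19, 20, 21, 22],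
  [5, 14, 17],
  [4, 6, 7, 8, 9, 10, 11, 12, 13, 15, 16, 18, 19, 20, 21, 22]]

def isigS23 : ℕ := 0

/-- generators of the point stabilizer: the straight-line elements fixing the point -/
def gensS23 : List (List ℕ) := slpRun (fixFilter EL [23]) progKS23

set_option maxHeartbeats 4000000 in
set_option maxRecDepth 100000 in
theorem chainS23_ok : chainCheck (normFilter (slpRun (gensS23 ++ [gensS23.getD isigS23 idl]) progS23)
    (slpRun (gensS23 ++ [idl]) progS23)) baseL treesS23 orbsS23 = true := by decide +kernel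

theorem rep_gensS23 : ∀ l ∈ gensS23, Rep (fixL M24 [pt 23]) l :=
  rep_slpRun _ _ (rep_fixFilter (rep_EL hasGens_M24) [23])

theorem orbS23_ok : ∀ k, k < 7 → ∀ q : GolayPt, q ∈ orbk k → k ≠ 0 → idx q ∈ orbsS23.getD k [] := by
  intro k hk
  interval_cases k <;> decide

set_option maxHeartbeats 4000000 in
set_option maxRecDepth 100000 in
theorem sigS23_pow : lpow (gensS23.getD isigS23 idl) 23 = idl := by decide +kernel

set_option maxHeartbeats 4000000 in
set_option maxRecDepth 100000 in
theorem sigS23_ne : lfun (gensS23.getD isigS23 idl) (pt 0) ≠ pt 0 := by decide +kernel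

theorem isSimpleGroup_M23ref : IsSimpleGroup ↥(fixL M24 [pt 23]) := by
  have : Fact (Nat.Prime 23) := ⟨by norm_num⟩
  have hK := rep_gensS23
  obtain ⟨wσ, σ, hσK, hσl⟩ := rep_getD hK isigS23
  have hord : orderOf σ = 23 := orderOf_eq_of_lpow wσ hσl 23 sigS23_pow 0 sigS23_ne
  have hKle : fixL M24 [pt 23] ≤ M24 := fixL_le _ _
  apply isSimpleGroup_two 23 443520 (card_fixL_single _) (by norm_num) (by norm_num) ⟨σ, hσK⟩
    (by rw [← Subgroup.orderOf_coe]; exact hord) ?_ {x | x ≠ pt 23}
  · -- degree
    have : ({x | x ≠ pt 23} : Set GolayPt).ncard = 23 := by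
      have h1 : ({x | x ≠ pt 23} : Set GolayPt) = ↑(Finset.univ.filter (fun x : GolayPt => x ≠ pt 23)) := by
        ext x; simp
      rw [h1, Set.ncard_coe_finset]
      decide
    rw [this]
  · -- faithful
    intro g hg hfix
    apply Equiv.ext
    intro x
    by_cases hx : x = pt 23
    · rw [hx]; exact (mem_fixL.mp hg).2 _ (by simp)
    · exact hfix x hx
  · -- invariant
    intro g hg x hx h
    apply hx
    have h1 : g x = g (pt 23) := by rw [(mem_fixL.mp hg).2 (pt 23) (by simp)]; exact h
    exact g.injective h1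
  · -- 2-transitive
    intro a ha b hb c hc hab hac
    obtain ⟨g, hg, hgxy⟩ := exists_M24_map (n := 3) (by norm_num)
      (emb3 (pt 23) a b (Ne.symm ha) (Ne.symm hb) hab) (emb3 (pt 23) a c (Ne.symm ha) (Ne.symm hc) hac)
    refine ⟨g, mem_fixL.mpr ⟨hg, ?_⟩, hgxy 1, hgxy 2⟩
    intro x hx
    rw [List.mem_singleton] at hx
    rw [hx]; exact hgxy 0
  · -- normal closure
    apply normalClosure_eq_top_of_le
    intro N hNK hnorm hσN
    refine le_of_cert _ gensS23 hK isigS23 progS23 baseL treesS23 orbsS23 chainS23_ok ?_ ?_ N hNK hnorm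
      ⟨wσ, σ, hσN, hσl⟩
    · exact fixL7_eq_bot hKle
    · intro k hk g hg
      have hk7 : k < 7 := hk
      by_cases hk0 : k = 0
      · subst hk0
        have : g (pt 23) = pt 23 := (mem_fixL.mp (mem_fixL.mp hg).1).2 _ (by simp)
        show idx (g (pt 23)) ∈ orbsS23.getD 0 []
        rw [this]; decide
      · exact orbS23_ok k hk7 _ (mem_orbk_of_fixL hKle k hk7 g hg) hk0

/-- **The stabilizer of a point in `M24` is simple.** -/
theorem isSimpleGroup_stabilizer_point (p : GolayPt) :
    IsSimpleGroup (MulAction.stabilizer M24 p) := by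
  obtain ⟨t, ht, htp⟩ := exists_M24_map (n := 1) (by norm_num)
    ⟨![pt 23], by intro i j _; exact Subsingleton.elim _ _⟩
    ⟨![p], by intro i j _; exact Subsingleton.elim _ _⟩
  have htp0 : t (pt 23) = p := htp 0
  have := isSimpleGroup_M23ref
  refine (conjMulEquiv ht (MulAction.stabilizer M24 p) (fixL M24 [pt 23]) (fixL_le _ _) ?_).isSimpleGroup
  intro g
  rw [MulAction.mem_stabilizer_iff, mem_fixL]
  constructor
  · intro hg
    have hg' : g.1 p = p := hg
    refine ⟨M24.mul_mem (M24.mul_mem (M24.inv_mem ht) g.2) ht, ?_⟩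
    intro x hx
    rw [List.mem_singleton] at hx
    subst hx
    rw [Equiv.Perm.mul_apply, Equiv.Perm.mul_apply, htp0, hg', ← htp0]
    exact perm_inv_apply t _
  · rintro ⟨-, hfix⟩
    have h1 := hfix (pt 23) (by simp)
    rw [Equiv.Perm.mul_apply, Equiv.Perm.mul_apply, htp0, Equiv.Perm.inv_eq_iff_eq, htp0] at h1
    exact h1

end Cfsg.Agent.Lib.Helper6.Golay
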