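import Cfsg.Agent.Lib.Helper6.GolaySimple

/-!
# `M24` is simple
-/

set_option autoImplicit false

namespace Cfsg.Agent.Lib.Helper6.Golay

open Cfsg
open Cfsg.Agent.Lib.Helper6.PermChain

def progKS24 : List (ℕ × ℕ) := []

def progS24 : List (ℕ × ℕ) := [(2, 0), (5, 1), (6, 6), (7, 7), (7, 8), (8, 8), (10, 10), (9, 11), (6, 4), (13, 12), (1, 1), (15, 4), (2, 1), (17, 0), (18, 0), (19, 1), (20, 20), (21, 21), (21, 22), (20, 4), (24, 23), (14, 4), (14, 14), (14, 25), (25, 4), (25, 25), (26, 25), (27, 4), (28, 4), (29, 14), (30, 4), (4, 4), (36, 4), (37, 4), (38, 4), (4, 25), (40, 16), (41, 14), (42, 4), (43, 16), (44, 4), (45, 4), (46, 4), (47, 4), (34, 48), (39, 49), (36, 50), (51, 4), (52, 4), (50, 50), (54, 50), (25, 14), (56, 25), (57, 4), (58, 14), (59, 25), (60, 25), (61, 14), (62, 16), (63, 14), (30, 64), (53, 65), (4, 66), (67, 66), (50, 66), (55, 66), (70, 66), (28, 16), (72, 4), (73, 25), (74, 4), (75, 14), (76, 16), (77, 4), (78, 16), (79, 25), (29, 80), (68, 81), (71, 82),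 (50, 83), (69, 83), (84, 66), (55, 83), (85, 83), (83, 83), (14, 16), (90, 25), (91, 25), (92, 4), (93, 25), (94, 14), (26, 95), (67, 96), (88, 97), (25, 98), (4, 98), (100, 4), (89, 98), (56, 16), (103, 16), (104, 4), (105, 25), (106, 4), (107, 14), (99, 108), (4, 109), (87, 110), (102, 111), (14, 112), (36, 112), (50, 112), (112, 112), (116, 112), (35, 25), (118, 4), (119, 16), (120, 25), (31, 121), (51, 122), (115, 123), (83, 124), (67, 125), (54, 125), (83, 125), (89, 125), (128, 83), (128, 125), (129, 83), (112, 125), (125, 112), (32, 14), (135, 14), (136, 25), (33, 137), (114, 138), (133, 139), (117, 140), (16, 16), (142, 25), (143, 16), (144, 4), (145, 25), (146, 14), (147, 14), (148, 25), (149, 4), (150, 25), (14, 151), (126, 152), (55, 153), (131, 154), (133, 155), (140, 156), (83, 157), (16, 14), (159, 25), (160, 25), (161, 16), (162, 25), (163, 16), (164, 4), (165, 16), (113, 166), (101, 167), (127, 168), (132, 169), (141, 170), (140, 171), (158, 172), (112, 172), (34, 14),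 (175, 14), (176, 4), (177, 16), (178, 4), (179, 4), (26, 180), (126, 181), (86, 182), (173, 183), (174, 184), (140, 185), (36, 25), (187, 4), (188, 16), (189, 14), (190, 16), (191, 4), (192, 14), (193, 16), (194, 16), (113, 195), (126, 196), (69, 197), (130, 198), (134, 199), (140, 200)]

def treesS24 : List (List (ℕ × ℕ)) := [[(23, 14), (23, 25), (0, 4), (0, 14), (0, 25), (21, 4), (21, 14), (21, 25), (21, 66), (21, 83), (21, 98), (21, 112), (21, 140), (21, 157), (21, 186), (21, 201), (1, 4), (1, 14), (1, 25), (8, 4), (8, 25), (14, 125), (22, 83)],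
  [(0, 4), (1, 4), (1, 50), (1, 66), (2, 4), (2, 66), (2, 83), (2, 98), (11, 4), (11, 50), (11, 66), (11, 98), (11, 125), (11, 157), (11, 201), (20, 83), (20, 186), (3, 83), (3, 112), (17, 140), (18, 66), (18, 112)],
  [(1, 50), (1, 66), (11, 50), (11, 66), (11, 83), (11, 98), (11, 125), (11, 157), (11, 172), (11, 186), (11, 201), (20, 50), (20, 83), (20, 112), (20, 186), (21, 83), (21, 112), (21, 186), (3, 112), (7, 98), (7, 112)],
  [(2, 83), (2, 98), (18, 83), (18, 98), (18, 112), (18, 140), (18, 157), (18, 172), (18, 186), (18, 201), (22, 140), (22, 172), (22, 201), (9, 83), (9, 186), (9, 201), (17, 140), (6, 125), (6, 186), (6, 201)],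
  [(3, 112), (3, 125), (16, 112), (16, 125), (16, 140), (16, 157), (16, 172), (16, 186), (20, 112), (20, 125), (20, 172), (20, 201), (15, 140), (15, 201), (6, 112), (6, 186), (22, 140), (19, 125), (21, 112)],
  [(5, 140), (14, 140)],
  [(4, 157), (4, 172), (4, 186), (4, 201), (7, 172), (7, 186), (7, 201), (12, 186), (12, 201), (22, 201), (10, 186), (10, 201), (6, 201), (11, 201), (9, 201)]]

def orbsS24 : List (List ℕ) := [[0, 1, 2, 3, 4, 5, 6, 7, 8, 9, 10, 11, 12, 13, 14, 15, 16, 17, 18, 19, 20, 21, 22, 23],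
  [0, 1, 2, 3, 4, 5, 6, 7, 8, 9, 10, 11, 12, 13, 14, 15, 16, 17, 18, 19, 20, 21, 22],
  [1, 2, 3, 4, 5, 6, 7, 8, 9, 10, 11, 12, 13, 14, 15, 16, 17, 18, 19, 20, 21, 22],
  [2, 3, 4, 5, 6, 7, 8, 9, 10, 11, 12, 13, 14, 15, 16, 17, 18, 19, 20, 21, 22],
  [3, 4, 5, 6, 7, 8, 9, 10, 11, 12, 13, 14, 15, 16, 17, 18, 19, 20, 21, 22],
  [5, 14, 17],
  [4, 6, 7, 8, 9, 10, 11, 12, 13, 15, 16, 18, 19, 20, 21, 22]]

def isigS24 : ℕ := 0

/-- the generators, and the identity -/
def gensS24 : List (List ℕ) := slpRun [alphaL, gammaL, deltaL, idl] progKS24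

set_option maxHeartbeats 4000000 in
set_option maxRecDepth 100000 in
theorem chainS24_ok : chainCheck (normFilter (slpRun (gensS24 ++ [gensS24.getD isigS24 idl]) progS24)
    (slpRun (gensS24 ++ [idl]) progS24)) baseL treesS24 orbsS24 = true := by decide +kernel

theorem rep_gensS24 : ∀ l ∈ gensS24, Rep M24 l := by
  apply rep_slpRun
  intro l hl
  simp only [List.mem_cons, List.not_mem_nil, or_false] at hl
  rcases hl with rfl | rfl | rfl | rfl
  · exact rep_gens3 hasGens_M24 _ (by simp [gens3])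
  · exact rep_gens3 hasGens_M24 _ (by simp [gens3])
  · exact rep_gens3 hasGens_M24 _ (by simp [gens3])
  · exact Rep.one _

theorem orbS24_ok : ∀ k, k < 7 → ∀ q : GolayPt, q ∈ orbk k → idx q ∈ orbsS24.getD k [] := by
  intro k hk
  interval_cases k <;> decide

set_option maxHeartbeats 4000000 in
set_option maxRecDepth 100000 in
theorem sigS24_pow : lpow (gensS24.getD isigS24 idl) 23 = idl := by decide +kernel

set_option maxHeartbeats 4000000 in
set_option maxRecDepth 100000 in
theorem sigS24_ne : lfun (gensS24.getD isigS24 idl) (pt 0) ≠ pt 0 := by decide +kernel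

/-- **`M24` is simple.** -/
theorem isSimpleGroup_M24 : IsSimpleGroup ↥M24 := by
  have : Fact (Nat.Prime 23) := ⟨by norm_num⟩
  have hK := rep_gensS24
  obtain ⟨wσ, σ, hσK, hσl⟩ := rep_getD hK isigS24
  have hord : orderOf σ = 23 := orderOf_eq_of_lpow wσ hσl 23 sigS24_pow 0 sigS24_ne
  have huniv : (Set.univ : Set GolayPt).ncard = 24 := by
    rw [Set.ncard_univ]
    simp [GolayPt]
  apply isSimpleGroup_four 23 10644480 card_M24 (by norm_num) (by norm_num) ⟨σ, hσK⟩
    (by rw [← Subgroup.orderOf_coe]; exact hord) ?_ Set.univ huniv (by rw [huniv]; norm_num)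
  · -- faithful
    intro g _ hfix
    apply Equiv.ext
    intro x
    exact hfix x (Set.mem_univ x)
  · -- invariant
    intro g _ x _
    exact Set.mem_univ _
  · intro x y _ _
    exact exists_M24_map (by norm_num) x y
  · intro x y _ _
    exact exists_M24_map (by norm_num) x y
  · -- normal closure
    apply normalClosure_eq_top_of_le
    intro N hNK hnorm hσN
    refine le_of_cert _ gensS24 hK isigS24 progS24 baseL treesS24 orbsS24 chainS24_ok ?_ ?_ N hNK hnorm
      ⟨wσ, σ, hσN, hσl⟩
    · exact fixL7_eq_bot le_rfl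
    · intro k hk g hg
      have hk7 : k < 7 := hk
      exact orbS24_ok k hk7 _ (mem_orbk_of_fixL le_rfl k hk7 g hg)

end Cfsg.Agent.Lib.Helper6.Golay
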