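import Cfsg.Agent.Lib.Helper6.GolayBSGS

/-!
# The action of `M24` on 6-element sets
-/

set_option autoImplicit false

namespace Cfsg.Agent.Lib.Helper6.Golay

open Cfsg
open Cfsg.Agent.Lib.Helper6.PermChain
open scoped Pointwise

theorem fixL_congr {Ω : Type*} (H : Subgroup (Equiv.Perm Ω)) {l l' : List Ω}
    (h : ∀ x, x ∈ l ↔ x ∈ l') : fixL H l = fixL H l' := by
  ext g
  simp only [mem_fixL, h]

theorem fixL_Lk6_le : fixL M24 (Lk 6) ≤ fixL M24 (Lk 5) := by
  intro g hg
  rw [mem_fixL] at hg ⊢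
  refine ⟨hg.1, fun x hx => hg.2 x ?_⟩
  have : ∀ x ∈ Lk 5, x ∈ Lk 6 := by decide
  exact this x hx

theorem fix5_trans_in {q q' : GolayPt} (hq : q ∈ orbk 5) (hq' : q' ∈ orbk 5) :
    ∃ g ∈ fixL M24 (Lk 5), g q = q' := by
  obtain ⟨g1, hg1, h1⟩ := exists_of_mem_orbk hasGens_M24 5 (by norm_num) q hq
  obtain ⟨g2, hg2, h2⟩ := exists_of_mem_orbk hasGens_M24 5 (by norm_num) q' hq'
  refine ⟨g2 * g1⁻¹, Subgroup.mul_mem _ hg2 (Subgroup.inv_mem _ hg1), ?_⟩
  rw [Equiv.Perm.mul_apply, ← h1, Equiv.Perm.inv_def, Equiv.symm_apply_apply, h2]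

theorem fix5_trans_out {q q' : GolayPt} (hq : q ∈ orbk 6) (hq' : q' ∈ orbk 6) :
    ∃ g ∈ fixL M24 (Lk 5), g q = q' := by
  obtain ⟨g1, hg1, h1⟩ := exists_of_mem_orbk hasGens_M24 6 (by norm_num) q hq
  obtain ⟨g2, hg2, h2⟩ := exists_of_mem_orbk hasGens_M24 6 (by norm_num) q' hq'
  refine ⟨g2 * g1⁻¹, fixL_Lk6_le (Subgroup.mul_mem _ hg2 (Subgroup.inv_mem _ hg1)), ?_⟩
  rw [Equiv.Perm.mul_apply, ← h1, Equiv.Perm.inv_def, Equiv.symm_apply_apply, h2]

theorem orbk5_of_mem : ∀ p : GolayPt, p ∉ Lk 5 → p ∈ fs octad0 → p ∈ orbk 5 := by decide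

theorem orbk6_of_not_mem : ∀ p : GolayPt, p ∉ fs octad0 → p ∈ orbk 6 := by decide

theorem Lk5_sub_octad0 : ∀ p ∈ Lk 5, p ∈ fs octad0 := by decide

/-- the two orbits of the stabilizer of the five base points on the remaining points -/
theorem fix5_trans {q q' : GolayPt} (hq : q ∉ Lk 5) (hq' : q' ∉ Lk 5)
    (h : q ∈ fs octad0 ↔ q' ∈ fs octad0) : ∃ g ∈ fixL M24 (Lk 5), g q = q' := by
  by_cases hqo : q ∈ fs octad0
  · exact fix5_trans_in (orbk5_of_mem q hq hqo) (orbk5_of_mem q' hq' (h.mp hqo))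
  · exact fix5_trans_out (orbk6_of_not_mem q hqo) (orbk6_of_not_mem q' (fun h' => hqo (h.mpr h')))

theorem card_fixL_Lk5 : Nat.card (fixL M24 (Lk 5)) = 48 := by
  have h5 := card_fixL_Lk hasGens_M24 le_rfl 5 (by norm_num)
  have h6 := card_fixL_Lk hasGens_M24 le_rfl 6 (by norm_num)
  have h7 : Nat.card (fixL M24 (Lk 7)) = 1 := by
    rw [fixL7_eq_bot le_rfl]; exact Subgroup.card_bot
  have c5 : (orbk 5).card = 3 := by decide
  have c6 : (orbk 6).card = 16 := by decide
  rw [h5, h6, h7, c5, c6]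

/-- the order of the stabilizer of the five base points and a further point -/
theorem card_fix5_point (q : GolayPt) (hq : q ∉ Lk 5) :
    Nat.card (fixL M24 (Lk 5 ++ [q])) = if q ∈ fs octad0 then 16 else 3 := by
  by_cases hqo : q ∈ fs octad0
  · rw [if_pos hqo]
    have h := card_fixL_step M24 (Lk 5) q (orbk 5)
      (fun q' hq' => fix5_trans_in (orbk5_of_mem q hq hqo) hq')
      (fun g hg => by
        apply orbk5_of_mem _ (apply_not_mem_of_fixL hg hq)
        exact (mem_of_smul_eq (smul_octad0 le_rfl le_rfl hg)).mpr hqo)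
    rw [card_fixL_Lk5] at h
    have c5 : (orbk 5).card = 3 := by decide
    rw [c5] at h
    omega
  · rw [if_neg hqo]
    have h := card_fixL_step M24 (Lk 5) q (orbk 6)
      (fun q' hq' => fix5_trans_out (orbk6_of_not_mem q hqo) hq')
      (fun g hg => by
        apply orbk6_of_not_mem
        intro h'
        exact hqo ((mem_of_smul_eq (smul_octad0 le_rfl le_rfl hg)).mp h'))
    rw [card_fixL_Lk5] at h
    have c6 : (orbk 6).card = 16 := by decide
    rw [c6] at h
    omega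

/-- moving five points to the five base points -/
theorem exists_to_base (x : Fin 5 ↪ GolayPt) (o : Finset GolayPt) (ho : o ∈ octads)
    (hxo : ∀ i, x i ∈ o) :
    ∃ t ∈ M24, (∀ p, p ∈ Lk 5 ↔ ∃ i, t (x i) = p) ∧ t • o = fs octad0 := by
  obtain ⟨y, hy⟩ := exists_embedding_of_card (s := (Lk 5).toFinset) (n := 5) (by decide)
  obtain ⟨t, ht, hxy⟩ := exists_M24_map le_rfl x y
  refine ⟨t, ht, ?_, ?_⟩
  · intro p
    rw [← List.mem_toFinset, hy p]
    simp only [hxy]
  · apply octad_unique (smul_mem_octads ht ho) octad0_mem (s := (Lk 5).toFinset) (by decide)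
    · intro p hp
      obtain ⟨i, rfl⟩ := (hy p).mp hp
      rw [← hxy i]
      exact Finset.smul_mem_smul_finset (hxo i)
    · intro p hp
      exact Lk5_sub_octad0 p (List.mem_toFinset.mp hp)

/-- the pointwise stabilizer of five points is transitive on the three other points of the octad
through them, and on the sixteen points outside the octad -/
theorem five_stab_trans (x : Fin 5 ↪ GolayPt) (o : Finset GolayPt) (ho : o ∈ octads)
    (hxo : ∀ i, x i ∈ o) (q q' : GolayPt) (hq : ∀ i, x i ≠ q) (hq' : ∀ i, x i ≠ q')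
    (h : q ∈ o ↔ q' ∈ o) :
    ∃ g ∈ M24, (∀ i, g (x i) = x i) ∧ g q = q' := by
  obtain ⟨t, ht, htL, hto⟩ := exists_to_base x o ho hxo
  have hn : ∀ r, (∀ i, x i ≠ r) → t r ∉ Lk 5 := by
    intro r hr hmem
    obtain ⟨i, hi⟩ := (htL _).mp hmem
    exact hr i (t.injective hi)
  have hmemo : ∀ r, t r ∈ fs octad0 ↔ r ∈ o := by
    intro r
    rw [← hto]
    exact Finset.smul_mem_smul_finset_iff t
  obtain ⟨k, hk, hkq⟩ := fix5_trans (hn q hq) (hn q' hq') (by rw [hmemo, hmemo]; exact h)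
  have hk' := mem_fixL.mp hk
  refine ⟨t⁻¹ * k * t, Subgroup.mul_mem _ (Subgroup.mul_mem _ (Subgroup.inv_mem _ ht) hk'.1) ht,
    ?_, ?_⟩
  · intro i
    rw [Equiv.Perm.mul_apply, Equiv.Perm.mul_apply, hk'.2 _ ((htL _).mpr ⟨i, rfl⟩),
      Equiv.Perm.inv_def, Equiv.symm_apply_apply]
  · rw [Equiv.Perm.mul_apply, Equiv.Perm.mul_apply, hkq, Equiv.Perm.inv_def, Equiv.symm_apply_apply]


theorem card_image_emb5 (x : Fin 5 ↪ GolayPt) : (Finset.univ.image x).card = 5 := by
  rw [Finset.card_image_of_injective _ x.injective]; simp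

/-- every permutation of a 6-set is induced by an element of `M24` -/
theorem six_perm (E : Finset GolayPt) (hE : E.card = 6) (σ : Equiv.Perm ↥E) :
    ∃ g ∈ M24, ∀ p : ↥E, g p = σ p := by
  classical
  obtain ⟨e, he⟩ := exists_embedding_of_card hE
  have heE : ∀ j, e j ∈ E := fun j => (he _).mpr ⟨j, rfl⟩
  let s : Fin 6 → GolayPt := fun j => (σ ⟨e j, heE j⟩ : GolayPt)
  have hs_inj : Function.Injective s := by
    intro i j hij
    have h1 : σ ⟨e i, heE i⟩ = σ ⟨e j, heE j⟩ := Subtype.ext hij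
    have h2 := σ.injective h1
    exact e.injective (congrArg Subtype.val h2)
  have hsE : ∀ j, s j ∈ E := fun j => (σ ⟨e j, heE j⟩).2
  have hs_surj : ∀ p ∈ E, ∃ j, s j = p := by
    intro p hp
    obtain ⟨j, hj⟩ := (he _).mp (σ.symm ⟨p, hp⟩).2
    refine ⟨j, ?_⟩
    show ((σ ⟨e j, heE j⟩ : ↥E) : GolayPt) = p
    have h1 : (⟨e j, heE j⟩ : ↥E) = σ.symm ⟨p, hp⟩ := Subtype.ext hj
    rw [h1, Equiv.apply_symm_apply]
  let x : Fin 5 ↪ GolayPt := Fin.castSuccEmb.trans e
  let x' : Fin 5 ↪ GolayPt :=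
    ⟨fun i => s (Fin.castSucc i), fun i j hij => Fin.castSucc_injective _ (hs_inj hij)⟩
  have hx : ∀ i, x i = e (Fin.castSucc i) := fun i => rfl
  have hx' : ∀ i, x' i = s (Fin.castSucc i) := fun i => rfl
  obtain ⟨g0, hg0, hg0x⟩ := exists_M24_map le_rfl x x'
  obtain ⟨o', ho', hxo'⟩ := exists_octad (Finset.univ.image x') (card_image_emb5 x')
  have hxo : ∀ i, x' i ∈ o' := fun i => hxo' (Finset.mem_image_of_mem _ (Finset.mem_univ i))
  have hq : ∀ i, x' i ≠ g0 (e (Fin.last 5)) := by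
    intro i hi
    rw [← hg0x i] at hi
    have h1 := e.injective (g0.injective hi)
    exact (Fin.castSucc_lt_last i).ne h1
  have hq' : ∀ i, x' i ≠ s (Fin.last 5) := by
    intro i hi
    exact (Fin.castSucc_lt_last i).ne (hs_inj hi)
  have key : g0 (e (Fin.last 5)) ∈ o' ↔ s (Fin.last 5) ∈ o' := by
    constructor
    · intro h
      have hE'' : ∀ j, e j ∈ g0⁻¹ • o' := by
        intro j
        rw [Finset.mem_inv_smul_finset_iff]
        rcases Fin.eq_castSucc_or_eq_last j with ⟨i, rfl⟩ | rfl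
        · show g0 (e (Fin.castSucc i)) ∈ o'
          rw [← hx i, hg0x i]; exact hxo i
        · exact h
      have ho'' : g0⁻¹ • o' ∈ octads := smul_mem_octads (M24.inv_mem hg0) ho'
      have heq : g0⁻¹ • o' = o' := by
        apply octad_unique ho'' ho' (card_image_emb5 x') _ hxo'
        intro p hp
        obtain ⟨i, _, rfl⟩ := Finset.mem_image.mp hp
        obtain ⟨j, hj⟩ := (he _).mp (hsE (Fin.castSucc i))
        rw [hx' i, ← hj]; exact hE'' j
      obtain ⟨j, hj⟩ := (he _).mp (hsE (Fin.last 5))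
      rw [← heq, ← hj]
      exact hE'' j
    · intro h
      have hEo : ∀ p ∈ E, p ∈ o' := by
        intro p hp
        obtain ⟨j, rfl⟩ := hs_surj p hp
        rcases Fin.eq_castSucc_or_eq_last j with ⟨i, rfl⟩ | rfl
        · exact hxo i
        · exact h
      have heq : g0 • o' = o' := by
        apply octad_unique (smul_mem_octads hg0 ho') ho' (card_image_emb5 x') _ hxo'
        intro p hp
        obtain ⟨i, _, rfl⟩ := Finset.mem_image.mp hp
        rw [← hg0x i]
        exact Finset.smul_mem_smul_finset (hEo _ (heE _))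
      rw [← heq]
      exact Finset.smul_mem_smul_finset (hEo _ (heE _))
  obtain ⟨k, hk, hkx, hkq⟩ := five_stab_trans x' o' ho' hxo _ _ hq hq' key
  refine ⟨k * g0, M24.mul_mem hk hg0, ?_⟩
  rintro ⟨p, hp⟩
  obtain ⟨j, rfl⟩ := (he p).mp hp
  show (k * g0) (e j) = s j
  rw [Equiv.Perm.mul_apply]
  rcases Fin.eq_castSucc_or_eq_last j with ⟨i, rfl⟩ | rfl
  · rw [← hx i, hg0x i, hkx i]; exact hx' i
  · exact hkq

/-- the pointwise stabilizer of a 6-set is conjugate to the stabilizer of the five base points and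
one more point -/
theorem six_fix_card (E : Finset GolayPt) (hE : E.card = 6) :
    ∃ q, q ∉ Lk 5 ∧ (q ∈ fs octad0 ↔ ∃ o ∈ octads, E ⊆ o) ∧
      Nat.card {g : Equiv.Perm GolayPt // g ∈ M24 ∧ ∀ p ∈ E, g p = p} =
        Nat.card (fixL M24 (Lk 5 ++ [q])) := by
  classical
  obtain ⟨e, he⟩ := exists_embedding_of_card hE
  have heE : ∀ j, e j ∈ E := fun j => (he _).mpr ⟨j, rfl⟩
  let x : Fin 5 ↪ GolayPt := Fin.castSuccEmb.trans e
  have hx : ∀ i, x i = e (Fin.castSucc i) := fun i => rfl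
  obtain ⟨o, ho, hxo'⟩ := exists_octad (Finset.univ.image x) (card_image_emb5 x)
  have hxo : ∀ i, x i ∈ o := fun i => hxo' (Finset.mem_image_of_mem _ (Finset.mem_univ i))
  obtain ⟨t, ht, htL, hto⟩ := exists_to_base x o ho hxo
  refine ⟨t (e (Fin.last 5)), ?_, ?_, ?_⟩
  · intro hmem
    obtain ⟨i, hi⟩ := (htL _).mp hmem
    have h1 := e.injective (t.injective hi)
    exact (Fin.castSucc_lt_last i).ne h1
  · rw [← hto, ← Equiv.Perm.smul_def, Finset.smul_mem_smul_finset_iff]
    constructor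
    · intro h
      refine ⟨o, ho, fun p hp => ?_⟩
      obtain ⟨j, rfl⟩ := (he p).mp hp
      rcases Fin.eq_castSucc_or_eq_last j with ⟨i, rfl⟩ | rfl
      · exact hxo i
      · exact h
    · rintro ⟨o2, ho2, hEo2⟩
      have h1 : o2 = o := by
        apply octad_unique ho2 ho (card_image_emb5 x) _ hxo'
        intro p hp
        obtain ⟨i, _, rfl⟩ := Finset.mem_image.mp hp
        exact hEo2 (heE _)
      rw [← h1]; exact hEo2 (heE _)
  · have h1 : Nat.card {g : Equiv.Perm GolayPt // g ∈ M24 ∧ ∀ p ∈ E, g p = p} =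
        Nat.card (fixL M24 (List.ofFn e)) := by
      apply Nat.card_congr
      apply Equiv.subtypeEquivRight
      intro g
      rw [mem_fixL]
      constructor
      · rintro ⟨h1, h2⟩
        refine ⟨h1, fun p hp => h2 p ?_⟩
        obtain ⟨j, rfl⟩ := (List.mem_ofFn).mp hp
        exact heE j
      · rintro ⟨h1, h2⟩
        refine ⟨h1, fun p hp => h2 p ?_⟩
        obtain ⟨j, rfl⟩ := (he p).mp hp
        exact (List.mem_ofFn).mpr ⟨j, rfl⟩
    have h2 : Nat.card (fixL M24 ((List.ofFn e).map t)) = Nat.card (fixL M24 (List.ofFn e)) :=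
      card_fixL_map M24 ht _
    have h3 : fixL M24 ((List.ofFn e).map t) = fixL M24 (Lk 5 ++ [t (e (Fin.last 5))]) := by
      apply fixL_congr
      intro p
      simp only [List.mem_map, List.mem_ofFn, List.mem_append, List.mem_singleton]
      constructor
      · rintro ⟨_, ⟨j, rfl⟩, rfl⟩
        rcases Fin.eq_castSucc_or_eq_last j with ⟨i, rfl⟩ | rfl
        · left; exact (htL _).mpr ⟨i, rfl⟩
        · right; rfl
      · rintro (hp | rfl)
        · obtain ⟨i, rfl⟩ := (htL _).mp hp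
          exact ⟨_, ⟨Fin.castSucc i, rfl⟩, rfl⟩
        · exact ⟨_, ⟨Fin.last 5, rfl⟩, rfl⟩
    rw [h1, ← h2, h3]

theorem six_fix_card_in (E : Finset GolayPt) (hE : E.card = 6) (h : ∃ o ∈ octads, E ⊆ o) :
    Nat.card {g : Equiv.Perm GolayPt // g ∈ M24 ∧ ∀ p ∈ E, g p = p} = 16 := by
  obtain ⟨q, hq, hiff, hc⟩ := six_fix_card E hE
  rw [hc, card_fix5_point q hq, if_pos (hiff.mpr h)]

theorem six_fix_card_out (E : Finset GolayPt) (hE : E.card = 6) (h : ¬ ∃ o ∈ octads, E ⊆ o) :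
    Nat.card {g : Equiv.Perm GolayPt // g ∈ M24 ∧ ∀ p ∈ E, g p = p} = 3 := by
  obtain ⟨q, hq, hiff, hc⟩ := six_fix_card E hE
  rw [hc, card_fix5_point q hq, if_neg (fun h' => h (hiff.mp h'))]

/-- the action of the setwise stabilizer on the set -/
def rhoSet (E : Finset GolayPt) : ↥(MulAction.stabilizer M24 E) →* Equiv.Perm ↥E where
  toFun g := (g.1.1).subtypePerm (fun _ => mem_of_smul_eq (show g.1.1 • E = E from g.2))
  map_one' := rfl
  map_mul' _ _ := rfl

theorem rhoSet_apply (E : Finset GolayPt) (g : ↥(MulAction.stabilizer M24 E)) (p : ↥E) :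
    ((rhoSet E g p : ↥E) : GolayPt) = g.1.1 p := rfl

theorem six_stab_card (E : Finset GolayPt) (hE : E.card = 6)
    (h3 : Nat.card {g : Equiv.Perm GolayPt // g ∈ M24 ∧ ∀ p ∈ E, g p = p} = 3) :
    Nat.card ↥(MulAction.stabilizer M24 E) = 2160 := by
  classical
  have hsurj : Function.Surjective (rhoSet E) := by
    intro σ
    obtain ⟨g, hg, hgσ⟩ := six_perm E hE σ
    have hstab : (⟨g, hg⟩ : ↥M24) ∈ MulAction.stabilizer M24 E := by
      rw [MulAction.mem_stabilizer_iff]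
      show g • E = E
      apply Finset.eq_of_subset_of_card_le
      · intro p hp
        rw [Finset.mem_smul_finset] at hp
        obtain ⟨y, hy, rfl⟩ := hp
        have := hgσ ⟨y, hy⟩
        rw [Equiv.Perm.smul_def, this]
        exact (σ ⟨y, hy⟩).2
      · rw [Finset.card_smul_finset]
    refine ⟨⟨⟨g, hg⟩, hstab⟩, ?_⟩
    refine Equiv.ext fun p => Subtype.ext ?_
    rw [rhoSet_apply]
    exact hgσ p
  have hker : Nat.card (rhoSet E).ker = 3 := by
    rw [← h3]
    apply Nat.card_congr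
    refine ⟨fun k => ⟨k.1.1.1, k.1.1.2, fun p hp => ?_⟩, fun g => ⟨⟨⟨g.1, g.2.1⟩, ?_⟩, ?_⟩,
      fun k => rfl, fun g => rfl⟩
    · have hk := k.2
      rw [MonoidHom.mem_ker] at hk
      have := congrArg (fun e : Equiv.Perm ↥E => ((e ⟨p, hp⟩ : ↥E) : GolayPt)) hk
      exact this
    · rw [MulAction.mem_stabilizer_iff]
      show g.1 • E = E
      apply Finset.eq_of_subset_of_card_le
      · intro p hp
        rw [Finset.mem_smul_finset] at hp
        obtain ⟨y, hy, rfl⟩ := hp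
        rw [Equiv.Perm.smul_def, g.2.2 y hy]
        exact hy
      · rw [Finset.card_smul_finset]
    · rw [MonoidHom.mem_ker]
      refine Equiv.ext fun p => Subtype.ext ?_
      rw [rhoSet_apply]
      exact g.2.2 p.1 p.2
  have h1 := Subgroup.card_mul_index (rhoSet E).ker
  rw [Subgroup.index_ker, MonoidHom.range_eq_top.mpr hsurj, Subgroup.card_top, hker, Nat.card_perm,
    Nat.card_eq_fintype_card, Fintype.card_coe, hE] at h1
  rw [← h1]
  rfl

end Cfsg.Agent.Lib.Helper6.Golay
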