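import Cfsg.Agent.Lib.Helper6.GolayMask

/-!
# Certificates: pointwise stabilizers are trivial; Schreier-tree chains
-/

set_option autoImplicit false

namespace Cfsg.Agent.Lib.Helper6.Golay

open Cfsg
open Cfsg.Agent.Lib.Helper6.PermChain
open scoped Pointwise

/-- `g` fixes every point of the mask `F`. -/
def Fixes (g : Equiv.Perm GolayPt) (F : ℕ) : Prop := ∀ p, F.testBit (idx p) = true → g p = p

/-- one step of the closure certificate: two octads, each with at least five points in `F`,
whose intersection has exactly one point outside `F`; that point is then fixed too. -/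
def closeStep (F : ℕ) (c : ℕ × ℕ) : ℕ :=
  if inCode c.1 && inCode c.2 && (pc 24 c.1 == 8) && (pc 24 c.2 == 8) &&
      decide (5 ≤ pc 24 (c.1 &&& F)) && decide (5 ≤ pc 24 (c.2 &&& F)) &&
      (pc 24 ((c.1 &&& c.2) &&& (F ^^^ (2 ^ 24 - 1))) == 1) then
    F ||| ((c.1 &&& c.2) &&& (F ^^^ (2 ^ 24 - 1)))
  else F

def closeRun (F : ℕ) (cert : List (ℕ × ℕ)) : ℕ := cert.foldl closeStep F

theorem fixes_closeStep {g : Equiv.Perm GolayPt} (hg : g ∈ M24) {F : ℕ} (hF : Fixes g F)
    (c : ℕ × ℕ) : Fixes g (closeStep F c) := by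
  rw [closeStep]
  split_ifs with hc
  · simp only [Bool.and_eq_true, beq_iff_eq, decide_eq_true_eq] at hc
    obtain ⟨⟨⟨⟨⟨⟨h1, h2⟩, h3⟩, h4⟩, h5⟩, h6⟩, h7⟩ := hc
    have hFs : ∀ p ∈ fs F, g p = p := fun p hp => hF p (mem_fs.mp hp)
    have e1 : g • fs c.1 = fs c.1 := by
      apply smul_octad_eq hg (fs_mem_octads h1 h3) hFs
      rw [← fs_and, card_fs]; exact h5
    have e2 : g • fs c.2 = fs c.2 := by
      apply smul_octad_eq hg (fs_mem_octads h2 h4) hFs
      rw [← fs_and, card_fs]; exact h6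
    intro p hp
    rw [Nat.testBit_or, Bool.or_eq_true] at hp
    rcases hp with hp | hp
    · exact hF p hp
    · have hpR : p ∈ fs ((c.1 &&& c.2) &&& (F ^^^ (2 ^ 24 - 1))) := mem_fs.mpr hp
      have hcard : (fs ((c.1 &&& c.2) &&& (F ^^^ (2 ^ 24 - 1)))).card = 1 := by
        rw [card_fs]; exact h7
      have hgpR : g p ∈ fs ((c.1 &&& c.2) &&& (F ^^^ (2 ^ 24 - 1))) := by
        rw [fs_and, fs_and, fs_compl, Finset.mem_inter, Finset.mem_inter, Finset.mem_compl] at hpR ⊢
        refine ⟨⟨(mem_of_smul_eq e1).mpr hpR.1.1, (mem_of_smul_eq e2).mpr hpR.1.2⟩, ?_⟩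
        intro hgp
        apply hpR.2
        have := hFs _ hgp
        rwa [← g.injective this]
      obtain ⟨a, ha⟩ := Finset.card_eq_one.mp hcard
      rw [ha, Finset.mem_singleton] at hpR hgpR
      rw [hgpR, hpR]
  · exact hF

theorem fixes_closeRun {g : Equiv.Perm GolayPt} (hg : g ∈ M24) (cert : List (ℕ × ℕ)) {F : ℕ}
    (hF : Fixes g F) : Fixes g (closeRun F cert) := by
  induction cert generalizing F with
  | nil => exact hF
  | cons c cert ih =>
    rw [closeRun, List.foldl_cons]
    exact ih (fixes_closeStep hg hF c)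

theorem eq_one_of_fixes_all {g : Equiv.Perm GolayPt} (h : Fixes g (2 ^ 24 - 1)) : g = 1 := by
  apply Equiv.ext
  intro p
  rw [Equiv.Perm.one_apply]
  apply h
  have := idx_lt p
  rw [Nat.testBit_two_pow_sub_one]
  simp [this]

/-- the mask of a list of indices -/
def maskL (l : List ℕ) : ℕ := l.foldr (fun i acc => acc ||| 2 ^ i) 0

theorem testBit_maskL (l : List ℕ) (j : ℕ) : (maskL l).testBit j = true ↔ j ∈ l := by
  induction l with
  | nil => simp [maskL]
  | cons a l ih =>
    rw [maskL, List.foldr_cons, Nat.testBit_or, Bool.or_eq_true]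
    rw [maskL] at ih
    rw [ih, Nat.testBit_two_pow, decide_eq_true_eq, List.mem_cons]
    constructor
    · rintro (h | h)
      · exact Or.inr h
      · exact Or.inl h.symm
    · rintro (h | h)
      · exact Or.inr h.symm
      · exact Or.inl h

theorem fixes_maskL_of_mem_fixL {H : Subgroup (Equiv.Perm GolayPt)} {l : List ℕ}
    {g : Equiv.Perm GolayPt} (hg : g ∈ fixL H (l.map pt)) : Fixes g (maskL l) := by
  intro p hp
  rw [testBit_maskL] at hp
  rw [mem_fixL] at hg
  apply hg.2
  rw [List.mem_map]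
  exact ⟨idx p, hp, pt_idx p⟩

/-- a pointwise stabilizer in `M24` is trivial if the closure certificate says so -/
theorem fixL_eq_bot_of_cert {H : Subgroup (Equiv.Perm GolayPt)} (hH : H ≤ M24) (l : List ℕ)
    (cert : List (ℕ × ℕ)) (h : closeRun (maskL l) cert = 2 ^ 24 - 1) :
    fixL H (l.map pt) = ⊥ := by
  rw [eq_bot_iff]
  intro g hg
  rw [Subgroup.mem_bot]
  apply eq_one_of_fixes_all
  rw [← h]
  exact fixes_closeRun (hH (fixL_le H _ hg)) cert (fixes_maskL_of_mem_fixL hg)

/-! ### chain check -/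

def levelCheck (E : List (List ℕ)) (bs : List ℕ) (k : ℕ) (cert : List (ℕ × ℕ)) (orb : List ℕ) : Bool :=
  orb.all (fun q => (treeRun E (bs.take k) (bs.getD k 0) cert).contains q)

def chainCheck (E : List (List ℕ)) (bs : List ℕ) (trees : List (List (ℕ × ℕ)))
    (orbs : List (List ℕ)) : Bool :=
  (List.range bs.length).all (fun k => levelCheck E bs k (trees.getD k []) (orbs.getD k [])) &&
    bs.all (fun b => decide (b < 24))

theorem reach_of_chainCheck {H : Subgroup (Equiv.Perm GolayPt)} {E : List (List ℕ)}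
    (hE : ∀ l ∈ E, Rep H l) {bs : List ℕ} {trees : List (List (ℕ × ℕ))} {orbs : List (List ℕ)}
    (h : chainCheck E bs trees orbs = true) (k : ℕ) (hk : k < bs.length) (q : ℕ)
    (hq : q ∈ orbs.getD k []) : Reach H (bs.take k) (bs.getD k 0) q := by
  rw [chainCheck, Bool.and_eq_true, List.all_eq_true, List.all_eq_true] at h
  have h1 := h.1 k (List.mem_range.mpr hk)
  rw [levelCheck, List.all_eq_true] at h1
  have h2 := h1 q hq
  have hroot : bs.getD k 0 < 24 := by
    rw [List.getD_eq_getElem _ _ hk]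
    have := h.2 _ (List.getElem_mem hk)
    simpa using this
  apply reach_treeRun hE _ _ hroot _ q
  simpa using h2

end Cfsg.Agent.Lib.Helper6.Golay
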