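import Cfsg.Agent.Lib.Helper6.GolaySxKerData
import Cfsg.Agent.Lib.Helper6.GolaySetKer

/-!
# The kernel of the action of a sextet stabilizer on the six tetrads

For the reference sextet the subgroup of `M24` fixing every tetrad has order 192, and its
elements of order at most two form a subgroup of order 64.
-/

set_option autoImplicit false

namespace Cfsg.Agent.Lib.Helper6.Golay

open Cfsg
open Cfsg.Agent.Lib.Helper6.PermChain
open scoped Pointwise

/-- those of order at most two -/
def invL : List (List ℕ) := k192.filter isInvL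

theorem kerL_length : kerL.length = 192 := by rw [kerL_eq]; decide +kernel

theorem kerL_nodup : kerL.Nodup := by rw [kerL_eq]; decide +kernel

theorem invL_length : invL.length = 64 := by decide +kernel

set_option maxHeartbeats 4000000 in
set_option maxRecDepth 100000 in
theorem invL_closed : invL.all (fun a => invL.all (fun b => isInvL (lmul a b))) = true := by
  decide +kernel

set_option maxHeartbeats 4000000 in
set_option maxRecDepth 100000 in
theorem sreps_cover : [23, 0, 1, 2].all (fun a => [23, 0, 1, 2].all (fun b =>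
    [23, 0, 1, 2].all (fun c => [23, 0, 1, 2].all (fun d => [3, 5, 14, 17].all (fun e =>
      (a == b || a == c || a == d || b == c || b == d || c == d) ||
      sreps.any (fun t => t.getD 23 0 == a && t.getD 0 0 == b && t.getD 1 0 == c &&
        t.getD 2 0 == d && t.getD 3 0 == e)))))) = true := by
  decide +kernel

theorem rep_sxCand : ∀ m ∈ sxCand, Rep M24 m := by
  intro m hm
  rw [sxCand, List.mem_flatMap] at hm
  obtain ⟨t, ht, hm⟩ := hm
  rw [List.mem_map] at hm
  obtain ⟨l, hl, rfl⟩ := hm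
  exact Rep.mul (rep_sreps t ht) (rep_T5 l hl)

theorem mem_kerL {m : List ℕ} : m ∈ kerL ↔ m ∈ sxCand ∧ stabAll m sextet0C = true := by
  rw [kerL, List.mem_filter]

/-- the kernel of the reference sextet -/
abbrev kerSx0 : Subgroup (Equiv.Perm GolayPt) := stabM M24 sextet0C

theorem stabAll_iff {g : Equiv.Perm GolayPt} {m : List ℕ} (hm : wf m = true) (hg : ⇑g = lfun m)
    (hM : g ∈ M24) : g ∈ kerSx0 ↔ stabAll m sextet0C = true := by
  rw [mem_stabM, stabAll, List.all_eq_true]
  constructor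
  · rintro ⟨-, h⟩ a ha
    rw [beq_iff_eq]
    have h1 := h a ha
    rw [smul_fs hm hg] at h1
    refine fs_injOn (lmask_lt m hm a) ?_ h1
    have : sextet0C.all (fun a => decide (a < 2 ^ 24)) = true := by decide
    simpa using List.all_eq_true.mp this a ha
  · intro h
    refine ⟨hM, fun a ha => ?_⟩
    have := h a ha
    rw [beq_iff_eq] at this
    rw [smul_fs hm hg, this]

theorem mem_tet {g : Equiv.Perm GolayPt} {a : ℕ} (h : g • fs a = fs a) {i : ℕ} (hi : i < 24)
    (hia : a.testBit i = true) : a.testBit (idx (g (pt i))) = true := by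
  have h1 : g (pt i) ∈ g • fs a := by
    rw [← Equiv.Perm.smul_def]
    exact Finset.smul_mem_smul_finset (mem_fs.mpr (by rw [idx_pt i hi]; exact hia))
  rw [h] at h1
  exact mem_fs.mp h1

theorem testBit_tet0 {j : ℕ} (hj : j < 24) (h : (8388615).testBit j = true) :
    j ∈ [23, 0, 1, 2] := by
  have : ∀ j < 24, (8388615).testBit j = true → j ∈ [23, 0, 1, 2] := by decide
  exact this j hj h

theorem testBit_tet1 {j : ℕ} (hj : j < 24) (h : (147496).testBit j = true) :
    j ∈ [3, 5, 14, 17] := by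
  have : ∀ j < 24, (147496).testBit j = true → j ∈ [3, 5, 14, 17] := by decide
  exact this j hj h

/-- normal form of the elements of the kernel -/
theorem kerSx0_nf {g : Equiv.Perm GolayPt} (hg : g ∈ kerSx0) :
    ∃ m ∈ kerL, ⇑g = lfun m ∧ wf m = true := by
  obtain ⟨hM, hfix⟩ := mem_stabM.mp hg
  have f0 : g • fs 8388615 = fs 8388615 := hfix _ (by simp [sextet0C])
  have f1 : g • fs 147496 = fs 147496 := hfix _ (by simp [sextet0C])
  have ha := testBit_tet0 (idx_lt _) (mem_tet f0 (i := 23) (by norm_num) (by decide))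
  have hb := testBit_tet0 (idx_lt _) (mem_tet f0 (i := 0) (by norm_num) (by decide))
  have hc := testBit_tet0 (idx_lt _) (mem_tet f0 (i := 1) (by norm_num) (by decide))
  have hd := testBit_tet0 (idx_lt _) (mem_tet f0 (i := 2) (by norm_num) (by decide))
  have he := testBit_tet1 (idx_lt _) (mem_tet f1 (i := 3) (by norm_num) (by decide))
  have hne : ∀ {i j : ℕ}, i < 24 → j < 24 → i ≠ j → idx (g (pt i)) ≠ idx (g (pt j)) := by
    intro i j hi hj hij e
    have e1 : g (pt i) = g (pt j) := by rw [← pt_idx (g (pt i)), e, pt_idx]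
    exact hij (pt_injOn hi hj (g.injective e1))
  have hcov := List.all_eq_true.mp (List.all_eq_true.mp (List.all_eq_true.mp (List.all_eq_true.mp
    (List.all_eq_true.mp sreps_cover _ ha) _ hb) _ hc) _ hd) _ he
  rw [Bool.or_eq_true] at hcov
  have hdist : ¬ ((idx (g (pt 23)) == idx (g (pt 0)) || idx (g (pt 23)) == idx (g (pt 1)) ||
      idx (g (pt 23)) == idx (g (pt 2)) || idx (g (pt 0)) == idx (g (pt 1)) ||
      idx (g (pt 0)) == idx (g (pt 2)) || idx (g (pt 1)) == idx (g (pt 2))) = true) := by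
    simp only [Bool.or_eq_true, beq_iff_eq, not_or]
    exact ⟨⟨⟨⟨⟨hne (by norm_num) (by norm_num) (by norm_num),
      hne (by norm_num) (by norm_num) (by norm_num)⟩,
      hne (by norm_num) (by norm_num) (by norm_num)⟩,
      hne (by norm_num) (by norm_num) (by norm_num)⟩,
      hne (by norm_num) (by norm_num) (by norm_num)⟩,
      hne (by norm_num) (by norm_num) (by norm_num)⟩
  have hcov := hcov.resolve_left hdist
  rw [List.any_eq_true] at hcov
  obtain ⟨t, ht, hagree⟩ := hcov
  simp only [Bool.and_eq_true, beq_iff_eq] at hagree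
  obtain ⟨⟨⟨⟨a23, a0⟩, a1⟩, a2⟩, a3⟩ := hagree
  have hrep : Rep M24 t := rep_sreps t ht
  obtain ⟨l, hl, hlf⟩ := coset_nf hrep hM (by
    intro b hb
    simp only [List.mem_cons, List.not_mem_nil, or_false] at hb
    rcases hb with rfl | rfl | rfl | rfl | rfl
    · rw [a23, pt_idx]
    · rw [a0, pt_idx]
    · rw [a1, pt_idx]
    · rw [a2, pt_idx]
    · rw [a3, pt_idx])
  have hwm : wf (lmul t l) = true := wf_lmul hrep.1 (rep_T5 l hl).1
  refine ⟨lmul t l, mem_kerL.mpr ⟨?_, (stabAll_iff hwm hlf hM).mp hg⟩, hlf, hwm⟩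
  rw [sxCand, List.mem_flatMap]
  exact ⟨t, ht, List.mem_map.mpr ⟨l, hl, rfl⟩⟩

theorem kerL_rep {m : List ℕ} (hm : m ∈ kerL) : ∃ g ∈ kerSx0, ⇑g = lfun m ∧ wf m = true := by
  obtain ⟨hc, hs⟩ := mem_kerL.mp hm
  obtain ⟨wm, g, hg, hgf⟩ := rep_sxCand m hc
  exact ⟨g, (stabAll_iff wm hgf hg).mpr hs, hgf, wm⟩

/-- **The kernel of the reference sextet has order 192.** -/
theorem card_kerSx0 : Nat.card kerSx0 = 192 := by
  have h := card_set_of_list (kerSx0 : Set (Equiv.Perm GolayPt)) kerL kerL_nodup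
    (fun l hl => (kerL_rep hl).choose_spec.2.2)
    (fun g hg => by
      obtain ⟨m, hm, hgm, -⟩ := kerSx0_nf hg
      exact ⟨m, hm, hgm⟩)
    (fun l hl => by
      obtain ⟨g, hg, hgl, -⟩ := kerL_rep hl
      exact ⟨g, hg, hgl⟩)
  rw [kerL_length] at h
  exact h

/-- the elements of order at most two in the kernel -/
def invSx0 : Set (Equiv.Perm GolayPt) := {g | g ∈ kerSx0 ∧ g * g = 1}

theorem invSx0_nf {g : Equiv.Perm GolayPt} (hg : g ∈ invSx0) :
    ∃ m ∈ invL, ⇑g = lfun m ∧ wf m = true := by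
  obtain ⟨m, hm, hgm, wm⟩ := kerSx0_nf hg.1
  rw [kerL_eq] at hm
  exact ⟨m, List.mem_filter.mpr ⟨hm, isInvL_of wm hgm hg.2⟩, hgm, wm⟩

theorem invL_rep {m : List ℕ} (hm : m ∈ invL) : ∃ g ∈ invSx0, ⇑g = lfun m ∧ wf m = true := by
  obtain ⟨hk, hi⟩ := List.mem_filter.mp hm
  rw [← kerL_eq] at hk
  obtain ⟨g, hg, hgm, wm⟩ := kerL_rep hk
  refine ⟨g, ⟨hg, mul_self_of_lfun wm hgm ?_⟩, hgm, wm⟩
  rw [isInvL, beq_iff_eq] at hi
  exact hi

theorem card_invSx0 : Nat.card invSx0 = 64 := by
  have h := card_set_of_list invSx0 invL ((kerL_eq ▸ kerL_nodup).filter _)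
    (fun l hl => (invL_rep hl).choose_spec.2.2)
    (fun g hg => by
      obtain ⟨m, hm, hgm, -⟩ := invSx0_nf hg
      exact ⟨m, hm, hgm⟩)
    (fun l hl => by
      obtain ⟨g, hg, hgl, -⟩ := invL_rep hl
      exact ⟨g, hg, hgl⟩)
  rw [invL_length] at h
  exact h

/-- the elements of order at most two in the kernel are closed under multiplication -/
theorem invSx0_mul {a b : Equiv.Perm GolayPt} (ha : a ∈ invSx0) (hb : b ∈ invSx0) :
    (a * b) * (a * b) = 1 := by
  obtain ⟨ma, hma, hfa, wa⟩ := invSx0_nf ha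
  obtain ⟨mb, hmb, hfb, wb⟩ := invSx0_nf hb
  have h := List.all_eq_true.mp (List.all_eq_true.mp invL_closed ma hma) mb hmb
  rw [isInvL, beq_iff_eq] at h
  refine mul_self_of_lfun (wf_lmul wa wb) ?_ h
  rw [lfun_lmul ma wb, ← hfa, ← hfb]
  rfl

end Cfsg.Agent.Lib.Helper6.Golay
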