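import Cfsg.Agent.Lib.Helper6.GolaySxKer

/-!
# Structure of a sextet stabilizer in `M24`

The stabilizer of a sextet induces the full symmetric group on the six tetrads; the kernel of this
action has order 192, and its elements of order at most two form a normal subgroup of order 64.
-/

set_option autoImplicit false

namespace Cfsg.Agent.Lib.Helper6.Golay

open Cfsg
open Cfsg.Agent.Lib.Helper6.PermChain
open scoped Pointwise

theorem kerSx_sextet0 : kerSx sextet0 = kerSx0 := by
  ext g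
  rw [mem_kerSx, mem_stabM, ← fss_sextet0C]
  constructor
  · rintro ⟨hM, h⟩
    exact ⟨hM, fun m hm => h (fs m) (mem_fss.mpr ⟨m, hm, rfl⟩)⟩
  · rintro ⟨hM, h⟩
    refine ⟨hM, fun t ht => ?_⟩
    obtain ⟨a, ha, rfl⟩ := mem_fss.mp ht
    exact h a ha

/-- the elements of order at most two fixing every member of `S` -/
def invSx (S : Finset (Finset GolayPt)) : Set (Equiv.Perm GolayPt) :=
  {g | g ∈ kerSx S ∧ g * g = 1}

theorem invSx_sextet0 : invSx sextet0 = invSx0 := by
  rw [invSx, kerSx_sextet0]; rfl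

theorem mem_invSx_smul {h : Equiv.Perm GolayPt} (hh : h ∈ M24) (S : Finset (Finset GolayPt))
    (g : Equiv.Perm GolayPt) : g ∈ invSx (h • S) ↔ h⁻¹ * g * h ∈ invSx S := by
  have e : h⁻¹ * g * h * (h⁻¹ * g * h) = h⁻¹ * (g * g) * h := by group
  constructor
  · rintro ⟨h1, h2⟩
    exact ⟨(mem_kerSx_smul hh S g).mp h1, by rw [e, h2]; group⟩
  · rintro ⟨h1, h2⟩
    refine ⟨(mem_kerSx_smul hh S g).mpr h1, ?_⟩
    rw [e] at h2
    have : g * g = h * (h⁻¹ * (g * g) * h) * h⁻¹ := by group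
    rw [this, h2]; group

theorem card_kerSx {S : Finset (Finset GolayPt)} (hS : S ∈ sextets) :
    Nat.card (kerSx S) = 192 := by
  obtain ⟨h, hh, rfl⟩ := exists_M24_sextet sextet0_mem hS
  have := card_eq_of_conj (A := (kerSx (h • sextet0) : Set (Equiv.Perm GolayPt)))
    (B := (kerSx sextet0 : Set (Equiv.Perm GolayPt))) h (fun g => mem_kerSx_smul hh sextet0 g)
  rw [kerSx_sextet0] at this
  exact this.trans card_kerSx0

theorem card_invSx {S : Finset (Finset GolayPt)} (hS : S ∈ sextets) :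
    Nat.card (invSx S) = 64 := by
  obtain ⟨h, hh, rfl⟩ := exists_M24_sextet sextet0_mem hS
  have := card_eq_of_conj (A := invSx (h • sextet0)) (B := invSx sextet0) h
    (fun g => mem_invSx_smul hh sextet0 g)
  rw [invSx_sextet0] at this
  exact this.trans card_invSx0

theorem invSx_mul {S : Finset (Finset GolayPt)} (hS : S ∈ sextets) {a b : Equiv.Perm GolayPt}
    (ha : a ∈ invSx S) (hb : b ∈ invSx S) : (a * b) * (a * b) = 1 := by
  obtain ⟨h, hh, rfl⟩ := exists_M24_sextet sextet0_mem hS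
  have ha' := (mem_invSx_smul hh sextet0 a).mp ha
  have hb' := (mem_invSx_smul hh sextet0 b).mp hb
  rw [invSx_sextet0] at ha' hb'
  have h1 := invSx0_mul ha' hb'
  have e : h⁻¹ * a * h * (h⁻¹ * b * h) * (h⁻¹ * a * h * (h⁻¹ * b * h)) =
      h⁻¹ * (a * b * (a * b)) * h := by group
  rw [e] at h1
  have : a * b * (a * b) = h * (h⁻¹ * (a * b * (a * b)) * h) * h⁻¹ := by group
  rw [this, h1]; group

/-! ### inside the stabilizer -/

/-- the subgroup of elements of order at most two in the kernel, inside the stabilizer -/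
def invSub {S : Finset (Finset GolayPt)} (hS : S ∈ sextets) :
    Subgroup ↥(MulAction.stabilizer M24 S) where
  carrier := {x | ((x : ↥M24) : Equiv.Perm GolayPt) ∈ invSx S}
  mul_mem' := by
    intro a b ha hb
    exact ⟨(kerSx S).mul_mem ha.1 hb.1, invSx_mul hS ha hb⟩
  one_mem' := ⟨(kerSx S).one_mem, mul_one _⟩
  inv_mem' := by
    intro a ha
    refine ⟨(kerSx S).inv_mem ha.1, ?_⟩
    show ((a : ↥M24) : Equiv.Perm GolayPt)⁻¹ * ((a : ↥M24) : Equiv.Perm GolayPt)⁻¹ = 1
    rw [← mul_inv_rev, ha.2, inv_one]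

theorem mem_invSub {S : Finset (Finset GolayPt)} (hS : S ∈ sextets)
    {x : ↥(MulAction.stabilizer M24 S)} :
    x ∈ invSub hS ↔ ((x : ↥M24) : Equiv.Perm GolayPt) ∈ invSx S := Iff.rfl

instance invSub_normal {S : Finset (Finset GolayPt)} (hS : S ∈ sextets) : (invSub hS).Normal := by
  constructor
  intro n hn x
  rw [mem_invSub] at hn ⊢
  obtain ⟨⟨hnM, hnfix⟩, hn2⟩ := hn
  have hx : ((x : ↥M24) : Equiv.Perm GolayPt) ∈ M24 := (x : ↥M24).2
  refine ⟨⟨?_, ?_⟩, ?_⟩
  · exact M24.mul_mem (M24.mul_mem hx hnM) (M24.inv_mem hx)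
  · intro t ht
    show (((x : ↥M24) : Equiv.Perm GolayPt) * ((n : ↥M24) : Equiv.Perm GolayPt) *
      ((x : ↥M24) : Equiv.Perm GolayPt)⁻¹) • t = t
    have h1 : ((x : ↥M24) : Equiv.Perm GolayPt)⁻¹ • t ∈ S :=
      smul_mem_of_stab (x := (x⁻¹ : ↥(MulAction.stabilizer M24 S))) (x⁻¹).2 ht
    rw [mul_smul, mul_smul, hnfix _ h1, smul_inv_smul]
  · show (((x : ↥M24) : Equiv.Perm GolayPt) * ((n : ↥M24) : Equiv.Perm GolayPt) *
      ((x : ↥M24) : Equiv.Perm GolayPt)⁻¹) * (((x : ↥M24) : Equiv.Perm GolayPt) *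
      ((n : ↥M24) : Equiv.Perm GolayPt) * ((x : ↥M24) : Equiv.Perm GolayPt)⁻¹) = 1
    have e : ∀ a b : Equiv.Perm GolayPt, a * b * a⁻¹ * (a * b * a⁻¹) = a * (b * b) * a⁻¹ := by
      intro a b; group
    rw [e, hn2]; group

theorem card_invSub {S : Finset (Finset GolayPt)} (hS : S ∈ sextets) :
    Nat.card (invSub hS) = 64 := by
  rw [← card_invSx hS]
  apply Nat.card_congr
  exact
    { toFun := fun x => ⟨((x.1 : ↥M24) : Equiv.Perm GolayPt), x.2⟩
      invFun := fun g => ⟨⟨⟨g.1, g.2.1.1⟩, smul_eq_of_fix g.2.1.2⟩, g.2⟩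
      left_inv := fun _ => rfl
      right_inv := fun _ => rfl }

theorem invSub_sq {S : Finset (Finset GolayPt)} (hS : S ∈ sextets)
    {x : ↥(MulAction.stabilizer M24 S)} (hx : x ∈ invSub hS) : x * x = 1 := by
  apply Subtype.ext
  apply Subtype.ext
  exact hx.2

/-- the kernel, as a subtype of the stabilizer, has 192 elements -/
theorem card_kernel_subtype {S : Finset (Finset GolayPt)} (hS : S ∈ sextets) :
    Nat.card {g : ↥(MulAction.stabilizer M24 S) //
      ∀ t ∈ S, ((g : ↥M24) : Equiv.Perm GolayPt) • t = t} = 192 := by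
  rw [← card_kerSx hS]
  apply Nat.card_congr
  exact
    { toFun := fun x => ⟨((x.1 : ↥M24) : Equiv.Perm GolayPt), (x.1 : ↥M24).2, x.2⟩
      invFun := fun g => ⟨⟨⟨g.1, g.2.1⟩, smul_eq_of_fix g.2.2⟩, g.2.2⟩
      left_inv := fun x => rfl
      right_inv := fun g => rfl }

/-! ### the action on the six tetrads -/

/-- the permutation of the members of `S` induced by an element of the stabilizer -/
def sxPerm (S : Finset (Finset GolayPt)) (x : ↥(MulAction.stabilizer M24 S)) :
    Equiv.Perm ↥S where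
  toFun t := ⟨((x : ↥M24) : Equiv.Perm GolayPt) • t.1, smul_mem_of_stab x.2 t.2⟩
  invFun t := ⟨((x : ↥M24) : Equiv.Perm GolayPt)⁻¹ • t.1,
    smul_mem_of_stab (x := (x⁻¹ : ↥(MulAction.stabilizer M24 S))) (x⁻¹).2 t.2⟩
  left_inv t := Subtype.ext (inv_smul_smul _ _)
  right_inv t := Subtype.ext (smul_inv_smul _ _)

/-- the action of the stabilizer on the members of `S` -/
def sxPermHom (S : Finset (Finset GolayPt)) :
    ↥(MulAction.stabilizer M24 S) →* Equiv.Perm ↥S where
  toFun := sxPerm S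
  map_one' := by
    apply Equiv.ext
    intro t
    apply Subtype.ext
    show ((1 : Equiv.Perm GolayPt) • t.1) = t.1
    rw [one_smul]
  map_mul' := by
    intro a b
    apply Equiv.ext
    intro t
    apply Subtype.ext
    show ((((a : ↥M24) : Equiv.Perm GolayPt) * ((b : ↥M24) : Equiv.Perm GolayPt)) • t.1) =
      ((a : ↥M24) : Equiv.Perm GolayPt) • ((b : ↥M24) : Equiv.Perm GolayPt) • t.1
    rw [mul_smul]

theorem mem_ker_sxPermHom {S : Finset (Finset GolayPt)} {x : ↥(MulAction.stabilizer M24 S)} :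
    x ∈ (sxPermHom S).ker ↔ ∀ t ∈ S, ((x : ↥M24) : Equiv.Perm GolayPt) • t = t := by
  rw [MonoidHom.mem_ker]
  constructor
  · intro h t ht
    have := congrArg (fun e : Equiv.Perm ↥S => (e ⟨t, ht⟩).1) h
    exact this
  · intro h
    apply Equiv.ext
    intro t
    apply Subtype.ext
    exact h t.1 t.2

theorem card_stabilizer_sextet {S : Finset (Finset GolayPt)} (hS : S ∈ sextets) :
    Nat.card ↥(MulAction.stabilizer M24 S) = 138240 := by
  have h := Subgroup.card_mul_index (MulAction.stabilizer M24 S)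
  rw [index_stabilizer_sextet hS, card_M24] at h
  omega

/-- **The stabilizer of a sextet induces every permutation of the six tetrads.** -/
theorem sxPermHom_surjective {S : Finset (Finset GolayPt)} (hS : S ∈ sextets) :
    Function.Surjective (sxPermHom S) := by
  rw [← MonoidHom.range_eq_top]
  apply Subgroup.eq_top_of_card_eq
  have h1 := Subgroup.card_mul_index (sxPermHom S).ker
  rw [Subgroup.index_ker, card_stabilizer_sextet hS] at h1
  have h2 : Nat.card ↥(sxPermHom S).ker = 192 := by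
    rw [← card_kernel_subtype hS]
    exact Nat.card_congr (Equiv.subtypeEquivRight (fun x => mem_ker_sxPermHom))
  rw [h2] at h1
  have h3 : Nat.card (Equiv.Perm ↥S) = 720 := by
    rw [Nat.card_perm, Nat.card_eq_fintype_card, Fintype.card_coe, hS.1]
    rfl
  rw [h3]
  omega

/-- **Structure of a sextet stabiliser.** -/
theorem sextet_structure (S : Finset (Finset GolayPt)) (hS : S ∈ sextets) :
    (∀ e : Equiv.Perm ↥S, ∃ g ∈ MulAction.stabilizer M24 S,
      ∀ t : ↥S, (g : Equiv.Perm GolayPt) • (t : Finset GolayPt) = ((e t : ↥S) : Finset GolayPt)) ∧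
    Nat.card {g : ↥(MulAction.stabilizer M24 S) //
      ∀ t ∈ S, ((g : M24) : Equiv.Perm GolayPt) • t = t} = 192 ∧
    ∃ N : Subgroup ↥(MulAction.stabilizer M24 S), N.Normal ∧ Nat.card N = 64 ∧
      ∀ x ∈ N, x * x = 1 := by
  refine ⟨?_, card_kernel_subtype hS, invSub hS, invSub_normal hS, card_invSub hS,
    fun x hx => invSub_sq hS hx⟩
  intro e
  obtain ⟨x, rfl⟩ := sxPermHom_surjective hS e
  exact ⟨(x : ↥M24), x.2, fun t => rfl⟩

end Cfsg.Agent.Lib.Helper6.Golay
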