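import Cfsg.Agent.Lib.Helper6.GolayTriad

/-!
# The stabilizer of a triad: counts and transitivity on the disjoint triads
-/

set_option autoImplicit false

namespace Cfsg.Agent.Lib.Helper6.Golay

open Cfsg
open Cfsg.Agent.Lib.Helper6.PermChain
open scoped Pointwise

theorem disjoint_smul_iff (t : Equiv.Perm GolayPt) (a b : Finset GolayPt) :
    Disjoint (t • a) (t • b) ↔ Disjoint a b := by
  rw [Finset.disjoint_iff_inter_eq_empty, Finset.disjoint_iff_inter_eq_empty,
    ← Finset.smul_finset_inter, Finset.smul_finset_eq_empty]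

theorem triad0_card : (fs triad0).card = 3 := by rw [card_fs]; decide

theorem triad_class_iff {n : ℕ} (hn : n < 2 ^ 24) (e : Bool) :
    (Disjoint (fs triad0) (fs n) ∧ (InOct (fs triad0) (fs n) ↔ e = true)) ↔
      ((triad0 &&& n == 0) && (inOct n == e)) = true := by
  rw [fs_disjoint_iff (by decide), inOct_iff hn, Bool.and_eq_true, beq_iff_eq, beq_iff_eq]
  constructor
  · rintro ⟨h1, h2⟩
    refine ⟨h1, ?_⟩
    cases e <;> cases h : inOct n <;> simp_all
  · rintro ⟨h1, h2⟩
    exact ⟨h1, by rw [h2]⟩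

/-- count of the triads disjoint from `T` by whether they lie with `T` in an octad -/
theorem ncard_triads_disjoint {T : Finset GolayPt} (hT : T.card = 3) (e : Bool) :
    {U : Finset GolayPt | U.card = 3 ∧ Disjoint T U ∧ (InOct T U ↔ e = true)}.ncard =
      ((gen 24 3).filter (fun n => (triad0 &&& n == 0) && (inOct n == e))).length := by
  obtain ⟨t, ht, rfl⟩ := exists_M24_small (triad0_card.trans hT.symm) (by rw [triad0_card]; norm_num)
  have h1 := ncard_smul_transfer ht {x : Finset GolayPt | x.card = 3}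
    (fun g _ x hx => by
      rw [Set.mem_ofPred_eq] at hx ⊢
      rw [Finset.card_smul_finset]; exact hx)
    (fun U => Disjoint (fs triad0) U ∧ (InOct (fs triad0) U ↔ e = true))
    (fun U => Disjoint (t • fs triad0) U ∧ (InOct (t • fs triad0) U ↔ e = true))
    (fun x => by rw [disjoint_smul_iff, inOct_smul ht])
  have h2 := ncard_subsets_filter 3 (fun U => Disjoint (fs triad0) U ∧ (InOct (fs triad0) U ↔ e = true))
    (fun n => (triad0 &&& n == 0) && (inOct n == e)) (fun n hn => triad_class_iff hn e)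
  exact h1.trans h2

theorem clsT3A_eq : (gen 24 3).filter (fun n => (triad0 &&& n == 0) && (inOct n == true)) = clsT3A := by
  rw [clsT3A]
  apply List.filter_congr
  intro n _
  cases inOct n <;> simp

theorem clsT3B_eq : (gen 24 3).filter (fun n => (triad0 &&& n == 0) && (inOct n == false)) = clsT3B := by
  rw [clsT3B]
  apply List.filter_congr
  intro n _
  cases inOct n <;> simp

/-- transitivity of the stabilizer of the reference triad on each class, mask form -/
theorem exists_stabT3_map {u u' : ℕ} (hu : u < 2 ^ 24) (hu' : u' < 2 ^ 24) (h3 : pc 24 u = 3)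
    (h3' : pc 24 u' = 3) (hd : triad0 &&& u = 0) (hd' : triad0 &&& u' = 0)
    (h : inOct u = inOct u') : ∃ g ∈ stabM M24 [triad0], g • fs u = fs u' := by
  have hg : u ∈ gen 24 3 := (mem_gen 24 3 u).mpr ⟨hu, h3⟩
  have hg' : u' ∈ gen 24 3 := (mem_gen 24 3 u').mpr ⟨hu', h3'⟩
  cases hio : inOct u
  · have hm : u ∈ clsT3B := by
      rw [clsT3B, List.mem_filter]; exact ⟨hg, by simp [hd, hio]⟩
    have hm' : u' ∈ clsT3B := by
      rw [clsT3B, List.mem_filter]; exact ⟨hg', by simp [hd', ← h, hio]⟩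
    exact (cwReach_of_mtCheck rep_ET3 _ _ _ orbT3B_ok u hm).trans_symm
      (cwReach_of_mtCheck rep_ET3 _ _ _ orbT3B_ok u' hm')
  · have hm : u ∈ clsT3A := by
      rw [clsT3A, List.mem_filter]; exact ⟨hg, by simp [hd, hio]⟩
    have hm' : u' ∈ clsT3A := by
      rw [clsT3A, List.mem_filter]; exact ⟨hg', by simp [hd', ← h, hio]⟩
    exact (cwReach_of_mtCheck rep_ET3 _ _ _ orbT3A_ok u hm).trans_symm
      (cwReach_of_mtCheck rep_ET3 _ _ _ orbT3A_ok u' hm')

/-- **The stabilizer of a triad has two orbits on the triads disjoint from it.** -/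
theorem exists_stab_triad_map {T U U' : Finset GolayPt} (hT : T.card = 3) (hU : U.card = 3)
    (hU' : U'.card = 3) (hd : Disjoint T U) (hd' : Disjoint T U') (h : InOct T U ↔ InOct T U') :
    ∃ g ∈ M24, g • T = T ∧ g • U = U' := by
  obtain ⟨t, ht, rfl⟩ := exists_M24_small (triad0_card.trans hT.symm) (by rw [triad0_card]; norm_num)
  have key : ∀ V : Finset GolayPt, V.card = 3 → Disjoint (t • fs triad0) V →
      maskOf (t⁻¹ • V) < 2 ^ 24 ∧ pc 24 (maskOf (t⁻¹ • V)) = 3 ∧ triad0 &&& maskOf (t⁻¹ • V) = 0 ∧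
      (inOct (maskOf (t⁻¹ • V)) = true ↔ InOct (t • fs triad0) V) ∧ fs (maskOf (t⁻¹ • V)) = t⁻¹ • V := by
    intro V hV hdV
    refine ⟨maskOf_lt _, ?_, ?_, ?_, fs_maskOf _⟩
    · rw [← card_fs, fs_maskOf, Finset.card_smul_finset, hV]
    · rw [← fs_disjoint_iff (by decide), fs_maskOf, ← disjoint_smul_iff t, smul_inv_smul]
      exact hdV
    · rw [← inOct_iff (maskOf_lt _), fs_maskOf, ← inOct_smul ht, smul_inv_smul]
  obtain ⟨a1, a2, a3, a4, a5⟩ := key U hU hd
  obtain ⟨b1, b2, b3, b4, b5⟩ := key U' hU' hd'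
  have hio : inOct (maskOf (t⁻¹ • U)) = inOct (maskOf (t⁻¹ • U')) := by
    have : inOct (maskOf (t⁻¹ • U)) = true ↔ inOct (maskOf (t⁻¹ • U')) = true := by
      rw [a4, b4, h]
    cases h1 : inOct (maskOf (t⁻¹ • U)) <;> cases h2 : inOct (maskOf (t⁻¹ • U')) <;> simp_all
  obtain ⟨g0, hg0, hg0u⟩ := exists_stabT3_map a1 b1 a2 b2 a3 b3 hio
  rw [a5, b5] at hg0u
  obtain ⟨g, hg, hgR, hgU⟩ := stab_transfer ht ⟨g0, hg0, hg0u⟩
  exact ⟨g, hg, hgR triad0 (by simp), hgU⟩

end Cfsg.Agent.Lib.Helper6.Golay
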