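import Cfsg.Agent.Lib.Helper6.Overgroup

/-!
# Maximality of a point stabilizer from its suborbit lengths: four nontrivial suborbits
-/

set_option autoImplicit false

namespace Cfsg.Agent.Lib.Helper6.Overgroup

open MulAction

variable {G X : Type*} [Group G] [MulAction G X]

/-- the length of the `K`-orbit, four classes -/
theorem ncard_orbK_four [Finite X] {K : Subgroup G} {x0 : X} (hHK : stabilizer G x0 ≤ K)
    (C1 C2 C3 C4 : Set X) (hcover : orbit G x0 ⊆ {x0} ∪ C1 ∪ C2 ∪ C3 ∪ C4)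
    (h01 : x0 ∉ C1) (h02 : x0 ∉ C2) (h03 : x0 ∉ C3) (h04 : x0 ∉ C4)
    (h12 : Disjoint C1 C2) (h13 : Disjoint C1 C3) (h14 : Disjoint C1 C4)
    (h23 : Disjoint C2 C3) (h24 : Disjoint C2 C4) (h34 : Disjoint C3 C4)
    (t1 : ∀ a ∈ C1, ∀ b ∈ C1, ∃ h ∈ stabilizer G x0, h • a = b)
    (t2 : ∀ a ∈ C2, ∀ b ∈ C2, ∃ h ∈ stabilizer G x0, h • a = b)
    (t3 : ∀ a ∈ C3, ∀ b ∈ C3, ∃ h ∈ stabilizer G x0, h • a = b)
    (t4 : ∀ a ∈ C4, ∀ b ∈ C4, ∃ h ∈ stabilizer G x0, h • a = b) :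
    ∃ e1 e2 e3 e4 : Bool, (orbK K x0).ncard = 1 + (if e1 then C1.ncard else 0) +
        (if e2 then C2.ncard else 0) + (if e3 then C3.ncard else 0) +
        (if e4 then C4.ncard else 0) ∧
      (e1 = false → e2 = false → e3 = false → e4 = false → orbK K x0 ⊆ {x0}) := by
  obtain ⟨e1, hc1, hz1⟩ := ncard_inter_class hHK C1 t1
  obtain ⟨e2, hc2, hz2⟩ := ncard_inter_class hHK C2 t2
  obtain ⟨e3, hc3, hz3⟩ := ncard_inter_class hHK C3 t3
  obtain ⟨e4, hc4, hz4⟩ := ncard_inter_class hHK C4 t4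
  refine ⟨e1, e2, e3, e4, ?_, ?_⟩
  · set Y := orbK K x0 with hY
    have hYsub : Y ⊆ {x0} ∪ C1 ∪ C2 ∪ C3 ∪ C4 := (orbK_subset_orbit K x0).trans hcover
    have hdecomp : Y = ((({x0} ∪ (Y ∩ C1)) ∪ (Y ∩ C2)) ∪ (Y ∩ C3)) ∪ (Y ∩ C4) := by
      ext y
      simp only [Set.mem_union, Set.mem_singleton_iff, Set.mem_inter_iff]
      constructor
      · intro hy
        have := hYsub hy
        simp only [Set.mem_union, Set.mem_singleton_iff] at this
        rcases this with (((h | h) | h) | h) | h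
        · exact Or.inl (Or.inl (Or.inl (Or.inl h)))
        · exact Or.inl (Or.inl (Or.inl (Or.inr ⟨hy, h⟩)))
        · exact Or.inl (Or.inl (Or.inr ⟨hy, h⟩))
        · exact Or.inl (Or.inr ⟨hy, h⟩)
        · exact Or.inr ⟨hy, h⟩
      · rintro ((((rfl | h) | h) | h) | h)
        · exact mem_orbK_self K _
        · exact h.1
        · exact h.1
        · exact h.1
        · exact h.1
    have d1 : Disjoint ({x0} : Set X) (Y ∩ C1) := by
      rw [Set.disjoint_left]; rintro y hy ⟨_, hy2⟩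
      rw [Set.mem_singleton_iff] at hy; subst hy; exact h01 hy2
    have d2 : Disjoint (({x0} : Set X) ∪ (Y ∩ C1)) (Y ∩ C2) := by
      rw [Set.disjoint_left]; rintro y (hy | hy) ⟨_, hy2⟩
      · rw [Set.mem_singleton_iff] at hy; subst hy; exact h02 hy2
      · exact (Set.disjoint_left.mp h12) hy.2 hy2
    have d3 : Disjoint ((({x0} : Set X) ∪ (Y ∩ C1)) ∪ (Y ∩ C2)) (Y ∩ C3) := by
      rw [Set.disjoint_left]; rintro y ((hy | hy) | hy) ⟨_, hy2⟩
      · rw [Set.mem_singleton_iff] at hy; subst hy; exact h03 hy2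
      · exact (Set.disjoint_left.mp h13) hy.2 hy2
      · exact (Set.disjoint_left.mp h23) hy.2 hy2
    have d4 : Disjoint (((({x0} : Set X) ∪ (Y ∩ C1)) ∪ (Y ∩ C2)) ∪ (Y ∩ C3)) (Y ∩ C4) := by
      rw [Set.disjoint_left]; rintro y (((hy | hy) | hy) | hy) ⟨_, hy2⟩
      · rw [Set.mem_singleton_iff] at hy; subst hy; exact h04 hy2
      · exact (Set.disjoint_left.mp h14) hy.2 hy2
      · exact (Set.disjoint_left.mp h24) hy.2 hy2
      · exact (Set.disjoint_left.mp h34) hy.2 hy2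
    rw [hdecomp, Set.ncard_union_eq d4 (Set.toFinite _) (Set.toFinite _),
      Set.ncard_union_eq d3 (Set.toFinite _) (Set.toFinite _),
      Set.ncard_union_eq d2 (Set.toFinite _) (Set.toFinite _),
      Set.ncard_union_eq d1 (Set.toFinite _) (Set.toFinite _), Set.ncard_singleton, hc1, hc2, hc3,
      hc4]
  · intro h1 h2 h3 h4 y hy
    have hYsub := (orbK_subset_orbit K x0).trans hcover hy
    simp only [Set.mem_union, Set.mem_singleton_iff] at hYsub
    rcases hYsub with (((h | h) | h) | h) | h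
    · exact h
    · have : y ∈ orbK K x0 ∩ C1 := ⟨hy, h⟩
      rw [hz1 h1] at this; exact absurd this (Set.notMem_empty y)
    · have : y ∈ orbK K x0 ∩ C2 := ⟨hy, h⟩
      rw [hz2 h2] at this; exact absurd this (Set.notMem_empty y)
    · have : y ∈ orbK K x0 ∩ C3 := ⟨hy, h⟩
      rw [hz3 h3] at this; exact absurd this (Set.notMem_empty y)
    · have : y ∈ orbK K x0 ∩ C4 := ⟨hy, h⟩
      rw [hz4 h4] at this; exact absurd this (Set.notMem_empty y)

/-- **Maximality criterion**, four nontrivial suborbits. -/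
theorem isCoatom_of_four_classes [Finite X] (x0 : X)
    (C1 C2 C3 C4 : Set X) (hcover : orbit G x0 ⊆ {x0} ∪ C1 ∪ C2 ∪ C3 ∪ C4)
    (h01 : x0 ∉ C1) (h02 : x0 ∉ C2) (h03 : x0 ∉ C3) (h04 : x0 ∉ C4)
    (h12 : Disjoint C1 C2) (h13 : Disjoint C1 C3) (h14 : Disjoint C1 C4)
    (h23 : Disjoint C2 C3) (h24 : Disjoint C2 C4) (h34 : Disjoint C3 C4)
    (t1 : ∀ a ∈ C1, ∀ b ∈ C1, ∃ h ∈ stabilizer G x0, h • a = b)
    (t2 : ∀ a ∈ C2, ∀ b ∈ C2, ∃ h ∈ stabilizer G x0, h • a = b)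
    (t3 : ∀ a ∈ C3, ∀ b ∈ C3, ∃ h ∈ stabilizer G x0, h • a = b)
    (t4 : ∀ a ∈ C4, ∀ b ∈ C4, ∃ h ∈ stabilizer G x0, h • a = b)
    (harith : ∀ e1 e2 e3 e4 : Bool, ∀ m : ℕ,
      (1 + (if e1 then C1.ncard else 0) + (if e2 then C2.ncard else 0) +
        (if e3 then C3.ncard else 0) + (if e4 then C4.ncard else 0)) * m =
          (stabilizer G x0).index →
      (e1 = false ∧ e2 = false ∧ e3 = false ∧ e4 = false) ∨ m = 1)
    (hne : stabilizer G x0 ≠ ⊤) : IsCoatom (stabilizer G x0) := by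
  refine ⟨hne, fun K hK => ?_⟩
  obtain ⟨e1, e2, e3, e4, hcard, hsub⟩ := ncard_orbK_four (K := K) hK.le C1 C2 C3 C4 hcover
    h01 h02 h03 h04 h12 h13 h14 h23 h24 h34 t1 t2 t3 t4
  have hmul := ncard_orbK_mul_index K x0 hK.le
  rw [hcard] at hmul
  rcases harith e1 e2 e3 e4 K.index hmul with ⟨h1, h2, h3, h4⟩ | h
  · exact absurd (le_of_orbK_subset (hsub h1 h2 h3 h4)) (not_le_of_gt hK)
  · exact Subgroup.index_eq_one.mp h

end Cfsg.Agent.Lib.Helper6.Overgroup
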