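import Cfsg.Agent.Lib.Helper6.GolayTriad2
import Cfsg.Agent.Lib.Helper6.Overgroup4

/-!
# The stabilizer of a triad is a maximal subgroup of `M24`
-/

set_option autoImplicit false

namespace Cfsg.Agent.Lib.Helper6.Golay

open Cfsg
open Cfsg.Agent.Lib.Helper6.PermChain
open Cfsg.Agent.Lib.Helper6.Overgroup
open scoped Pointwise

set_option maxHeartbeats 4000000 in
theorem cntTriad2 : ((gen 24 3).filter (fun n => pc 24 (triad0 &&& n) == 2)).length = 63 := by
  decide +kernel

set_option maxHeartbeats 4000000 in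
theorem cntTriad1 : ((gen 24 3).filter (fun n => pc 24 (triad0 &&& n) == 1)).length = 630 := by
  decide +kernel

set_option maxHeartbeats 4000000 in
theorem cntTriads : (gen 24 3).length = 2024 := by decide +kernel

theorem ncard_triads_inOct {T : Finset GolayPt} (hT : T.card = 3) :
    {U : Finset GolayPt | U.card = 3 ∧ Disjoint T U ∧ InOct T U}.ncard = 210 := by
  have := ncard_triads_disjoint hT true
  rw [clsT3A_eq, cntT3A] at this
  rw [← this]
  congr 1
  ext U
  simp

theorem ncard_triads_not_inOct {T : Finset GolayPt} (hT : T.card = 3) :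
    {U : Finset GolayPt | U.card = 3 ∧ Disjoint T U ∧ ¬ InOct T U}.ncard = 1120 := by
  have := ncard_triads_disjoint hT false
  rw [clsT3B_eq, cntT3B] at this
  rw [← this]
  congr 1
  ext U
  simp

/-- **The stabilizer of a triad is maximal in `M24`.** -/
theorem isCoatom_stabilizer_triad {s : Finset GolayPt} (hs : s.card = 3) :
    IsCoatom (MulAction.stabilizer M24 s) := by
  obtain ⟨t, ht, hts⟩ := exists_M24_small (triad0_card.trans hs.symm) (by rw [triad0_card]; norm_num)
  have hidx : (MulAction.stabilizer M24 s).index = 2024 := by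
    rw [MulAction.index_stabilizer, orbit_M24_subset (by rw [hs]; norm_num), hs, ncard_subsets,
      cntTriads]
  have htrans : ∀ j : ℕ, 1 ≤ j → ∀ a ∈ {x : Finset GolayPt | x.card = 3 ∧ (s ∩ x).card = j},
      ∀ b ∈ {x : Finset GolayPt | x.card = 3 ∧ (s ∩ x).card = j},
      ∃ h ∈ MulAction.stabilizer M24 s, h • a = b := by
    intro j hj a ha b hb
    obtain ⟨g, hg, hgs, hgab⟩ := exists_M24_stab_small (s := s) (ha.1.trans hb.1.symm)
      (ha.2.trans hb.2.symm) (by
        have := Finset.card_union_add_card_inter s a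
        rw [hs, ha.1, ha.2] at this
        omega)
    exact ⟨⟨g, hg⟩, MulAction.mem_stabilizer_iff.mpr hgs, hgab⟩
  have hself : (s ∩ s).card = 3 := by rw [Finset.inter_self, hs]
  have hdisj0 : ∀ x : Finset GolayPt, Disjoint s x → (s ∩ x).card = 0 := by
    intro x hx
    rw [Finset.disjoint_iff_inter_eq_empty.mp hx, Finset.card_empty]
  apply isCoatom_of_four_classes s
    {x | x.card = 3 ∧ (s ∩ x).card = 2} {x | x.card = 3 ∧ (s ∩ x).card = 1}
    {x | x.card = 3 ∧ Disjoint s x ∧ InOct s x} {x | x.card = 3 ∧ Disjoint s x ∧ ¬ InOct s x}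
  · rw [orbit_M24_subset (by rw [hs]; norm_num), hs]
    intro x hx
    rw [Set.mem_ofPred_eq] at hx
    simp only [Set.mem_union, Set.mem_singleton_iff, Set.mem_ofPred_eq]
    have hle : (s ∩ x).card ≤ 3 := by
      rw [← hs]; exact Finset.card_le_card Finset.inter_subset_left
    have hcases : (s ∩ x).card = 0 ∨ (s ∩ x).card = 1 ∨ (s ∩ x).card = 2 ∨ (s ∩ x).card = 3 := by
      omega
    rcases hcases with h | h | h | h
    · have hd : Disjoint s x := by
        rw [Finset.disjoint_iff_inter_eq_empty]; exact Finset.card_eq_zero.mp h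
      by_cases hio : InOct s x
      · exact Or.inl (Or.inr ⟨hx, hd, hio⟩)
      · exact Or.inr ⟨hx, hd, hio⟩
    · exact Or.inl (Or.inl (Or.inr ⟨hx, h⟩))
    · exact Or.inl (Or.inl (Or.inl (Or.inr ⟨hx, h⟩)))
    · exact Or.inl (Or.inl (Or.inl (Or.inl (eq_of_full_inter hs hs hx hself h).symm)))
  · intro h; have := h.2; omega
  · intro h; have := h.2; omega
  · intro h; have := hdisj0 s h.2.1; omega
  · intro h; have := hdisj0 s h.2.1; omega
  · rw [Set.disjoint_left]; intro x h1 h2; have := h1.2; have := h2.2; omega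
  · rw [Set.disjoint_left]; intro x h1 h2; have := h1.2; have := hdisj0 x h2.2.1; omega
  · rw [Set.disjoint_left]; intro x h1 h2; have := h1.2; have := hdisj0 x h2.2.1; omega
  · rw [Set.disjoint_left]; intro x h1 h2; have := h1.2; have := hdisj0 x h2.2.1; omega
  · rw [Set.disjoint_left]; intro x h1 h2; have := h1.2; have := hdisj0 x h2.2.1; omega
  · rw [Set.disjoint_left]; intro x h1 h2; exact h2.2.2 h1.2.2
  · exact htrans 2 (by norm_num)
  · exact htrans 1 (by norm_num)
  · intro a ha b hb
    obtain ⟨g, hg, hgs, hgab⟩ := exists_stab_triad_map hs ha.1 hb.1 ha.2.1 hb.2.1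
      (iff_of_true ha.2.2 hb.2.2)
    exact ⟨⟨g, hg⟩, MulAction.mem_stabilizer_iff.mpr hgs, hgab⟩
  · intro a ha b hb
    obtain ⟨g, hg, hgs, hgab⟩ := exists_stab_triad_map hs ha.1 hb.1 ha.2.1 hb.2.1
      (iff_of_false ha.2.2 hb.2.2)
    exact ⟨⟨g, hg⟩, MulAction.mem_stabilizer_iff.mpr hgs, hgab⟩
  · rw [ncard_subsets_inter triad0 ht hts 3 2, ncard_subsets_inter triad0 ht hts 3 1, cntTriad2,
      cntTriad1, ncard_triads_inOct hs, ncard_triads_not_inOct hs, hidx]
    intro e1 e2 e3 e4 m hm
    cases e1 <;> cases e2 <;> cases e3 <;> cases e4 <;> simp at hm ⊢ <;> omega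
  · intro h
    rw [h, Subgroup.index_top] at hidx
    omega

end Cfsg.Agent.Lib.Helper6.Golay
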