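import Cfsg.Agent.Lib.Helper6.GolayOctadMax
import Cfsg.Prelude.Def_SporadicCombinatorics

/-!
# Trios of the Golay code: there are 3795 of them
-/

set_option autoImplicit false

namespace Cfsg.Agent.Lib.Helper6.Golay

open Cfsg
open Cfsg.Agent.Lib.Helper6.PermChain
open scoped Pointwise

/-- the complement of the union of two disjoint octads is an octad -/
theorem compl_union_mem_octads {o o' : Finset GolayPt} (ho : o ∈ octads) (ho' : o' ∈ octads)
    (hd : Disjoint o o') : (o ∪ o')ᶜ ∈ octads := by
  obtain ⟨a, ha, ha8, rfl⟩ := (mem_octads_iff o).mp ho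
  obtain ⟨b, hb, hb8, rfl⟩ := (mem_octads_iff o').mp ho'
  have h1 : (fs a ∪ fs b)ᶜ = fs ((a ^^^ b) ^^^ (2 ^ 24 - 1)) := by
    rw [fs_compl, fs_xor, Disjoint.symmDiff_eq_sup hd]
    rfl
  rw [h1]
  apply fs_mem_octads
  · exact inCode_xor (inCode_xor ha hb) (by decide)
  · rw [← card_fs, ← h1, Finset.card_compl, Finset.card_union_of_disjoint hd, card_fs, card_fs,
      ha8, hb8]
    simp [GolayPt]

theorem octad_ne_of_disjoint {o o' : Finset GolayPt} (ho : o ∈ octads) (hd : Disjoint o o') :
    o ≠ o' := by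
  rintro rfl
  rw [disjoint_self, Finset.bot_eq_empty] at hd
  have := ho.2
  rw [hd] at this
  simp at this

/-- the trio spanned by two disjoint octads -/
def trioOf (p : Finset GolayPt × Finset GolayPt) : Finset (Finset GolayPt) :=
  {p.1, p.2, (p.1 ∪ p.2)ᶜ}

theorem trioOf_mem {o o' : Finset GolayPt} (ho : o ∈ octads) (ho' : o' ∈ octads)
    (hd : Disjoint o o') : trioOf (o, o') ∈ trios := by
  have hc := compl_union_mem_octads ho ho' hd
  have hd1 : Disjoint o (o ∪ o')ᶜ := by
    rw [Finset.disjoint_left]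
    intro x hx hx2
    rw [Finset.mem_compl, Finset.mem_union] at hx2
    exact hx2 (Or.inl hx)
  have hd2 : Disjoint o' (o ∪ o')ᶜ := by
    rw [Finset.disjoint_left]
    intro x hx hx2
    rw [Finset.mem_compl, Finset.mem_union] at hx2
    exact hx2 (Or.inr hx)
  refine ⟨?_, ?_, ?_⟩
  · exact Finset.card_eq_three.mpr ⟨o, o', (o ∪ o')ᶜ, octad_ne_of_disjoint ho hd,
      octad_ne_of_disjoint ho hd1, octad_ne_of_disjoint ho' hd2, rfl⟩
  · intro x hx
    simp only [trioOf, Finset.mem_insert, Finset.mem_singleton] at hx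
    rcases hx with rfl | rfl | rfl
    · exact ho
    · exact ho'
    · exact hc
  · intro x hx y hy hxy
    simp only [trioOf, Finset.mem_insert, Finset.mem_singleton] at hx hy
    rcases hx with rfl | rfl | rfl <;> rcases hy with rfl | rfl | rfl
    · exact absurd rfl hxy
    · exact hd
    · exact hd1
    · exact hd.symm
    · exact absurd rfl hxy
    · exact hd2
    · exact hd1.symm
    · exact hd2.symm
    · exact absurd rfl hxy

/-- a trio is spanned by any two of its members -/
theorem trioOf_eq {T : Finset (Finset GolayPt)} (hT : T ∈ trios) {o o' : Finset GolayPt}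
    (ho : o ∈ T) (ho' : o' ∈ T) (hne : o ≠ o') : trioOf (o, o') = T := by
  obtain ⟨h3, hoct, hdis⟩ := hT
  symm
  apply Finset.eq_of_subset_of_card_le
  · intro x hx
    simp only [trioOf, Finset.mem_insert, Finset.mem_singleton]
    by_cases h1 : x = o
    · exact Or.inl h1
    by_cases h2 : x = o'
    · exact Or.inr (Or.inl h2)
    refine Or.inr (Or.inr ?_)
    have d1 : Disjoint x o := hdis x hx o ho h1
    have d2 : Disjoint x o' := hdis x hx o' ho' h2
    have hd : Disjoint o o' := hdis o ho o' ho' hne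
    have hsub : x ⊆ (o ∪ o')ᶜ := by
      intro p hp
      rw [Finset.mem_compl, Finset.mem_union]
      rintro (h | h)
      · exact (Finset.disjoint_left.mp d1) hp h
      · exact (Finset.disjoint_left.mp d2) hp h
    apply Finset.eq_of_subset_of_card_le hsub
    rw [(compl_union_mem_octads (hoct o ho) (hoct o' ho') hd).2, (hoct x hx).2]
  · rw [h3]
    exact Finset.card_le_three

set_option maxHeartbeats 1000000 in
/-- **There are 3795 trios.** -/
theorem ncard_trios : trios.ncard = 3795 := by
  classical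
  have hfin : trios.Finite := Set.toFinite _
  have hofin : octads.Finite := Set.toFinite _
  rw [Set.ncard_eq_toFinset_card trios hfin]
  set F := hfin.toFinset with hF
  have hFmem : ∀ T, T ∈ F ↔ T ∈ trios := fun T => Set.Finite.mem_toFinset hfin
  set O := hofin.toFinset with hO
  have hOmem : ∀ o, o ∈ O ↔ o ∈ octads := fun o => Set.Finite.mem_toFinset hofin
  have hOcard : O.card = 759 := by
    rw [← Set.ncard_eq_toFinset_card octads hofin, ncard_octads]
  have hD : ∀ o ∈ O, (O.filter (fun o' => Disjoint o o')).card = 30 := by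
    intro o ho
    have ho' : o ∈ octads := (hOmem o).mp ho
    rw [← cntOct0, ← ncard_octad_inter_octad ho' 0, ← Set.ncard_coe_finset]
    congr 1
    ext x
    simp only [Finset.coe_filter, Set.mem_ofPred_eq, hOmem, Finset.card_eq_zero,
      Finset.disjoint_iff_inter_eq_empty]
  set P : Finset (Finset GolayPt × Finset GolayPt) :=
    (O ×ˢ O).filter (fun p => Disjoint p.1 p.2) with hP
  have hPmem : ∀ p, p ∈ P ↔ p.1 ∈ octads ∧ p.2 ∈ octads ∧ Disjoint p.1 p.2 := by
    intro p
    rw [hP, Finset.mem_filter, Finset.mem_product, hOmem, hOmem, and_assoc]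
  have hPcard : P.card = 759 * 30 := by
    rw [hP, Finset.card_filter, Finset.sum_product]
    have : ∀ o ∈ O, (∑ o' ∈ O, if Disjoint (o, o').1 (o, o').2 then 1 else 0) = 30 := by
      intro o ho
      rw [← Finset.card_filter]
      exact hD o ho
    rw [Finset.sum_congr rfl this, Finset.sum_const, hOcard, smul_eq_mul]
  have hmaps : ∀ p ∈ P, trioOf p ∈ F := by
    intro p hp
    obtain ⟨h1, h2, h3⟩ := (hPmem p).mp hp
    exact (hFmem _).mpr (trioOf_mem h1 h2 h3)
  have hfib : ∀ T ∈ F, (P.filter (fun p => trioOf p = T)).card = 6 := by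
    intro T hT
    have hT' := (hFmem T).mp hT
    have : P.filter (fun p => trioOf p = T) = T.offDiag := by
      ext p
      rw [Finset.mem_filter, Finset.mem_offDiag, hPmem]
      constructor
      · rintro ⟨⟨h1, h2, h3⟩, rfl⟩
        refine ⟨?_, ?_, octad_ne_of_disjoint h1 h3⟩
        · simp [trioOf]
        · simp [trioOf]
      · rintro ⟨h1, h2, h3⟩
        exact ⟨⟨hT'.2.1 _ h1, hT'.2.1 _ h2, hT'.2.2 _ h1 _ h2 h3⟩, trioOf_eq hT' h1 h2 h3⟩
    rw [this, Finset.offDiag_card, hT'.1]
  have hsum := Finset.card_eq_sum_card_fiberwise hmaps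
  rw [Finset.sum_congr rfl hfib, Finset.sum_const, hPcard, smul_eq_mul] at hsum
  omega

end Cfsg.Agent.Lib.Helper6.Golay
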