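import Cfsg.Agent.Lib.Helper6.GolayTrioKerData

/-!
# The stabilizer of the reference trio: kernel on the seven refining sextets, the normal subgroup
of order 64, and the subgroup of order eight fixing an octad pointwise
-/

set_option autoImplicit false

namespace Cfsg.Agent.Lib.Helper6.Golay

open Cfsg
open Cfsg.Agent.Lib.Helper6.PermChain
open scoped Pointwise

/-- the sextets refining a trio -/
def refSx (T : Finset (Finset GolayPt)) : Set (Finset (Finset GolayPt)) :=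
  {S | S ∈ sextets ∧ ∀ t ∈ S, ∃ o ∈ T, t ⊆ o}

theorem smul_mem_refSx {g : Equiv.Perm GolayPt} (hg : g ∈ M24) {T S : Finset (Finset GolayPt)}
    (hS : S ∈ refSx T) : g • S ∈ refSx (g • T) := by
  refine ⟨smul_mem_sextets hg hS.1, ?_⟩
  intro t ht
  rw [Finset.mem_smul_finset] at ht
  obtain ⟨t', ht', rfl⟩ := ht
  obtain ⟨o, ho, hto⟩ := hS.2 t' ht'
  exact ⟨g • o, Finset.smul_mem_smul_finset ho, Finset.smul_finset_subset_smul_finset hto⟩

theorem trio0_def : trio0 = fss trio0C := rfl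

theorem mem_refSx_trio0 {S : Finset (Finset GolayPt)} :
    S ∈ refSx trio0 ↔ ∃ L ∈ f7L, S = fss L := by
  constructor
  · rintro ⟨hS, href⟩
    obtain ⟨L, hL, rfl⟩ := sextetsR_enumT S hS
    refine ⟨L, ?_, rfl⟩
    rw [← f7L_eq, List.mem_filter]
    refine ⟨hL, ?_⟩
    rw [refB, List.all_eq_true]
    intro a ha
    obtain ⟨o, ho, hao⟩ := href (fs a) (mem_fss.mpr ⟨a, ha, rfl⟩)
    rw [trio0_def, mem_fss] at ho
    obtain ⟨b, hb, rfl⟩ := ho
    rw [List.any_eq_true]
    refine ⟨b, hb, ?_⟩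
    rw [beq_iff_eq]
    have ha24 : a < 2 ^ 24 :=
      (canonB_spec L (List.all_eq_true.mp sextetsR_canonT L hL)).2 a ha
    exact (fs_subset_iff ha24).mp hao
  · rintro ⟨L, hL, rfl⟩
    rw [← f7L_eq, List.mem_filter] at hL
    obtain ⟨hLR, href⟩ := hL
    refine ⟨sextetsR_memT L hLR, ?_⟩
    intro t ht
    obtain ⟨a, ha, rfl⟩ := mem_fss.mp ht
    rw [refB, List.all_eq_true] at href
    have h := href a ha
    rw [List.any_eq_true] at h
    obtain ⟨b, hb, hab⟩ := h
    rw [beq_iff_eq] at hab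
    have ha24 : a < 2 ^ 24 :=
      (canonB_spec L (List.all_eq_true.mp sextetsR_canonT L hLR)).2 a ha
    exact ⟨fs b, by rw [trio0_def]; exact mem_fss.mpr ⟨b, hb, rfl⟩, (fs_subset_iff ha24).mpr hab⟩

/-! ### the kernel of the action on the seven sextets -/

/-- the elements of `M24` stabilizing the reference trio and each sextet refining it -/
def kT : Set (Equiv.Perm GolayPt) :=
  {g | g ∈ M24 ∧ g • trio0 = trio0 ∧ ∀ L ∈ f7L, g • fss L = fss L}

theorem tkStab_iff {g : Equiv.Perm GolayPt} {m : List ℕ} (wm : wf m = true) (hgm : ⇑g = lfun m) :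
    (g • trio0 = trio0 ∧ ∀ L ∈ f7L, g • fss L = fss L) ↔ tkStab m = true := by
  rw [tkStab, Bool.and_eq_true, List.all_eq_true, trio0_def]
  constructor
  · rintro ⟨h1, h2⟩
    exact ⟨(smul_fss_eq_iff wm hgm trio0C_canon).mp h1, fun L hL =>
      (smul_fss_eq_iff wm hgm (List.all_eq_true.mp f7L_canon L hL)).mp (h2 L hL)⟩
  · rintro ⟨h1, h2⟩
    exact ⟨(smul_fss_eq_iff wm hgm trio0C_canon).mpr h1, fun L hL =>
      (smul_fss_eq_iff wm hgm (List.all_eq_true.mp f7L_canon L hL)).mpr (h2 L hL)⟩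

theorem pairOK_of {g : Equiv.Perm GolayPt} (hg : ∀ L ∈ f7L, g • fss L = fss L) {b : ℕ}
    (hb : b < 24) : pairOK b (idx (g (pt 23))) (idx (g (pt b))) = true := by
  rw [pairOK, List.all_eq_true]
  intro L hL
  rw [Bool.or_eq_true, Bool.not_eq_true']
  by_cases hs : sameT L 23 b = true
  · right
    rw [sameT, List.any_eq_true] at hs ⊢
    obtain ⟨a, ha, hab⟩ := hs
    rw [Bool.and_eq_true] at hab
    have hmem : g • fs a ∈ fss L := by
      rw [← hg L hL]
      exact Finset.smul_mem_smul_finset (mem_fss.mpr ⟨a, ha, rfl⟩)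
    obtain ⟨a', ha', haa'⟩ := mem_fss.mp hmem
    refine ⟨a', ha', ?_⟩
    rw [Bool.and_eq_true]
    constructor
    · have h1 : pt 23 ∈ fs a := mem_fs.mpr (by rw [idx_pt 23 (by norm_num)]; exact hab.1)
      have h2 : g (pt 23) ∈ g • fs a := Finset.smul_mem_smul_finset (a := g) h1
      rw [haa'] at h2
      exact mem_fs.mp h2
    · have h1 : pt b ∈ fs a := mem_fs.mpr (by rw [idx_pt b hb]; exact hab.2)
      have h2 : g (pt b) ∈ g • fs a := Finset.smul_mem_smul_finset (a := g) h1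
      rw [haa'] at h2
      exact mem_fs.mp h2
  · left
    simpa using hs

theorem rep_tkCand : ∀ m ∈ tkCand, Rep M24 m := by
  intro m hm
  rw [tkCand, List.mem_flatMap] at hm
  obtain ⟨t, ht, hm⟩ := hm
  rw [List.mem_map] at hm
  obtain ⟨l, hl, rfl⟩ := hm
  exact Rep.mul (rep_k24 t ht) (rep_T5 l hl)

theorem idx_ne_of_ne (g : Equiv.Perm GolayPt) {i j : ℕ} (h : pt i ≠ pt j) :
    idx (g (pt i)) ≠ idx (g (pt j)) := by
  intro e
  have e1 : g (pt i) = g (pt j) := by rw [← pt_idx (g (pt i)), e, pt_idx]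
  exact h (g.injective e1)

/-- normal form of the elements of the kernel -/
theorem kT_nf {g : Equiv.Perm GolayPt} (hg : g ∈ kT) :
    ∃ m ∈ k384, ⇑g = lfun m ∧ wf m = true := by
  obtain ⟨hM, hT, hS⟩ := hg
  have p0 := pairOK_of hS (b := 0) (by norm_num)
  have p1 := pairOK_of hS (b := 1) (by norm_num)
  have p2 := pairOK_of hS (b := 2) (by norm_num)
  have p3 := pairOK_of hS (b := 3) (by norm_num)
  have n0 := idx_ne_of_ne g (i := 23) (j := 0) (by decide)
  have n1 := idx_ne_of_ne g (i := 23) (j := 1) (by decide)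
  have n2 := idx_ne_of_ne g (i := 23) (j := 2) (by decide)
  have n3 := idx_ne_of_ne g (i := 23) (j := 3) (by decide)
  have c0 := List.all_eq_true.mp k24_cover _ (List.mem_range.mpr (idx_lt (g (pt 23))))
  have c1 := List.all_eq_true.mp c0 _ (List.mem_range.mpr (idx_lt (g (pt 0))))
  rw [Bool.or_eq_true, Bool.or_eq_true, beq_iff_eq, p0] at c1
  have c1 := (c1.resolve_left (by rintro (h | h); exact n0 h; exact absurd h (by decide)))
  have c2 := List.all_eq_true.mp c1 _ (List.mem_range.mpr (idx_lt (g (pt 1))))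
  rw [Bool.or_eq_true, Bool.or_eq_true, beq_iff_eq, p1] at c2
  have c2 := (c2.resolve_left (by rintro (h | h); exact n1 h; exact absurd h (by decide)))
  have c3 := List.all_eq_true.mp c2 _ (List.mem_range.mpr (idx_lt (g (pt 2))))
  rw [Bool.or_eq_true, Bool.or_eq_true, beq_iff_eq, p2] at c3
  have c3 := (c3.resolve_left (by rintro (h | h); exact n2 h; exact absurd h (by decide)))
  have c4 := List.all_eq_true.mp c3 _ (List.mem_range.mpr (idx_lt (g (pt 3))))
  rw [Bool.or_eq_true, Bool.or_eq_true, beq_iff_eq, p3] at c4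
  have c4 := (c4.resolve_left (by rintro (h | h); exact n3 h; exact absurd h (by decide)))
  rw [List.any_eq_true] at c4
  obtain ⟨t, ht, hagree⟩ := c4
  simp only [Bool.and_eq_true, beq_iff_eq] at hagree
  obtain ⟨⟨⟨⟨a23, a0⟩, a1⟩, a2⟩, a3⟩ := hagree
  have hrep : Rep M24 t := rep_k24 t ht
  obtain ⟨l, hl, hlf⟩ := coset_nf hrep hM (by
    intro b hb
    simp only [List.mem_cons, List.not_mem_nil, or_false] at hb
    rcases hb with rfl | rfl | rfl | rfl | rfl
    · rw [a23, pt_idx]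
    · rw [a0, pt_idx]
    · rw [a1, pt_idx]
    · rw [a2, pt_idx]
    · rw [a3, pt_idx])
  have hwm : wf (lmul t l) = true := wf_lmul hrep.1 (rep_T5 l hl).1
  refine ⟨lmul t l, ?_, hlf, hwm⟩
  rw [← k384_eq, List.mem_filter]
  refine ⟨?_, (tkStab_iff hwm hlf).mp ⟨hT, hS⟩⟩
  rw [tkCand, List.mem_flatMap]
  exact ⟨t, ht, List.mem_map.mpr ⟨l, hl, rfl⟩⟩

theorem k384_rep {m : List ℕ} (hm : m ∈ k384) : ∃ g ∈ kT, ⇑g = lfun m ∧ wf m = true := by
  rw [← k384_eq, List.mem_filter] at hm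
  obtain ⟨hc, hs⟩ := hm
  obtain ⟨wm, g, hg, hgf⟩ := rep_tkCand m hc
  obtain ⟨h1, h2⟩ := (tkStab_iff wm hgf).mpr hs
  exact ⟨g, ⟨hg, h1, h2⟩, hgf, wm⟩

theorem card_kT : Nat.card kT = 384 := by
  have h := card_set_of_list kT k384 k384_nodup
    (fun l hl => (k384_rep hl).choose_spec.2.2)
    (fun g hg => by
      obtain ⟨m, hm, hgm, -⟩ := kT_nf hg
      exact ⟨m, hm, hgm⟩)
    (fun l hl => by
      obtain ⟨g, hg, hgl, -⟩ := k384_rep hl
      exact ⟨g, hg, hgl⟩)
  rw [k384_length] at h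
  exact h

/-! ### the normal subgroup of order 64 -/

/-- the elements of the kernel fixing each octad of the reference trio -/
def nT : Set (Equiv.Perm GolayPt) := {g | g ∈ kT ∧ ∀ o ∈ trio0C, g • fs o = fs o}

theorem fixOct_iff {g : Equiv.Perm GolayPt} {m : List ℕ} (wm : wf m = true) (hgm : ⇑g = lfun m) :
    (∀ o ∈ trio0C, g • fs o = fs o) ↔ fixOct m = true := by
  rw [fixOct, List.all_eq_true]
  have hlt : ∀ o ∈ trio0C, o < 2 ^ 24 := by decide
  constructor
  · intro h o ho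
    rw [beq_iff_eq]
    have := h o ho
    rw [smul_fs wm hgm] at this
    exact fs_injOn (lmask_lt m wm o) (hlt o ho) this
  · intro h o ho
    have := h o ho
    rw [beq_iff_eq] at this
    rw [smul_fs wm hgm, this]

theorem nT_nf {g : Equiv.Perm GolayPt} (hg : g ∈ nT) :
    ∃ m ∈ n64, ⇑g = lfun m ∧ wf m = true := by
  obtain ⟨m, hm, hgm, wm⟩ := kT_nf hg.1
  exact ⟨m, List.mem_filter.mpr ⟨hm, (fixOct_iff wm hgm).mp hg.2⟩, hgm, wm⟩

theorem n64_rep {m : List ℕ} (hm : m ∈ n64) : ∃ g ∈ nT, ⇑g = lfun m ∧ wf m = true := by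
  obtain ⟨hk, hf⟩ := List.mem_filter.mp hm
  obtain ⟨g, hg, hgm, wm⟩ := k384_rep hk
  exact ⟨g, ⟨hg, (fixOct_iff wm hgm).mpr hf⟩, hgm, wm⟩

theorem card_nT : Nat.card nT = 64 := by
  have h := card_set_of_list nT n64 (k384_nodup.filter _)
    (fun l hl => (n64_rep hl).choose_spec.2.2)
    (fun g hg => by
      obtain ⟨m, hm, hgm, -⟩ := nT_nf hg
      exact ⟨m, hm, hgm⟩)
    (fun l hl => by
      obtain ⟨g, hg, hgl, -⟩ := n64_rep hl
      exact ⟨g, hg, hgl⟩)
  rw [n64_length] at h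
  exact h

theorem nT_sq {g : Equiv.Perm GolayPt} (hg : g ∈ nT) : g * g = 1 := by
  obtain ⟨m, hm, hgm, wm⟩ := nT_nf hg
  have h := List.all_eq_true.mp n64_sq m hm
  rw [beq_iff_eq] at h
  exact mul_self_of_lfun wm hgm h

/-! ### the subgroup of order eight fixing the third octad pointwise -/

/-- the elements of `M24` fixing each octad of the reference trio, and the third one pointwise -/
def n3T : Set (Equiv.Perm GolayPt) :=
  {g | g ∈ M24 ∧ (∀ o ∈ trio0C, g • fs o = fs o) ∧ ∀ p ∈ o3pts, g (pt p) = pt p}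

theorem getD_eq_of_fixT {g : Equiv.Perm GolayPt} {m : List ℕ} (hm : wf m = true)
    (hg : ⇑g = lfun m) {i : ℕ} (hi : i < 24) (h : g (pt i) = pt i) : m.getD i 0 = i := by
  rw [hg, lfun_pt m hi] at h
  exact pt_injOn (getD_lt hm hi) hi h

theorem n3T_nf {g : Equiv.Perm GolayPt} (hg : g ∈ n3T) :
    ∃ m ∈ n8, ⇑g = lfun m ∧ wf m = true := by
  obtain ⟨hM, ho, hp⟩ := hg
  obtain ⟨l, hl, hlf⟩ := coset_nf (Rep.one M24) hM (by
    intro b hb
    have hb' : b ∈ o3pts := by
      simp only [List.mem_cons, List.not_mem_nil, or_false] at hb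
      rcases hb with rfl | rfl | rfl | rfl | rfl <;> decide
    rw [hp b hb']
    simp only [List.mem_cons, List.not_mem_nil, or_false] at hb
    rcases hb with rfl | rfl | rfl | rfl | rfl <;> rfl)
  have hwm : wf (lmul idl l) = true := wf_lmul wf_idl (rep_T5 l hl).1
  refine ⟨lmul idl l, ?_, hlf, hwm⟩
  rw [← n8_eq, List.mem_filter]
  refine ⟨?_, ?_⟩
  · rw [tkCand, List.mem_flatMap]
    exact ⟨idl, idl_mem_k24, List.mem_map.mpr ⟨l, hl, rfl⟩⟩
  · rw [Bool.and_eq_true, List.all_eq_true]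
    refine ⟨(fixOct_iff hwm hlf).mp ho, ?_⟩
    intro p hp'
    rw [beq_iff_eq]
    have hp24 : p < 24 := by
      simp only [o3pts, List.mem_cons, List.not_mem_nil, or_false] at hp'
      omega
    exact getD_eq_of_fixT hwm hlf hp24 (hp p hp')

theorem n8_rep {m : List ℕ} (hm : m ∈ n8) : ∃ g ∈ n3T, ⇑g = lfun m ∧ wf m = true := by
  rw [← n8_eq, List.mem_filter, Bool.and_eq_true, List.all_eq_true] at hm
  obtain ⟨hc, hf, hp⟩ := hm
  obtain ⟨wm, g, hg, hgf⟩ := rep_tkCand m hc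
  refine ⟨g, ⟨hg, (fixOct_iff wm hgf).mpr hf, ?_⟩, hgf, wm⟩
  intro p hp'
  have hp24 : p < 24 := by
    simp only [o3pts, List.mem_cons, List.not_mem_nil, or_false] at hp'
    omega
  have := hp p hp'
  rw [beq_iff_eq] at this
  rw [hgf, lfun_pt m hp24, this]

theorem card_n3T : Nat.card n3T = 8 := by
  have h := card_set_of_list n3T n8 n8_nodup
    (fun l hl => (n8_rep hl).choose_spec.2.2)
    (fun g hg => by
      obtain ⟨m, hm, hgm, -⟩ := n3T_nf hg
      exact ⟨m, hm, hgm⟩)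
    (fun l hl => by
      obtain ⟨g, hg, hgl, -⟩ := n8_rep hl
      exact ⟨g, hg, hgl⟩)
  rw [n8_length] at h
  exact h

theorem n3T_sub {g : Equiv.Perm GolayPt} (hg : g ∈ n3T) : g ∈ nT := by
  obtain ⟨m, hm, hgm, wm⟩ := n3T_nf hg
  have h := List.all_eq_true.mp n8_sub m hm
  have hm64 : m ∈ n64 := by simpa using h
  obtain ⟨g', hg', hgm', -⟩ := n64_rep hm64
  have : g = g' := DFunLike.coe_injective (hgm.trans hgm'.symm)
  rw [this]
  exact hg'

/-- the subgroup of order eight is regular on the first octad -/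
theorem n3T_regular {q : ℕ} (hq : q ∈ o1pts) : ∃ n ∈ n3T, n (pt 6) = pt q := by
  have h := List.all_eq_true.mp n8_regular q hq
  rw [List.any_eq_true] at h
  obtain ⟨m, hm, hmq⟩ := h
  rw [beq_iff_eq] at hmq
  obtain ⟨n, hn, hnm, -⟩ := n8_rep hm
  exact ⟨n, hn, by rw [hnm, lfun_pt m (by norm_num), hmq]⟩

end Cfsg.Agent.Lib.Helper6.Golay
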