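import Mathlib

/-!
# A splitting lemma: `G ⧸ (K ⊓ ker β) ≃* A × B`
-/

set_option autoImplicit false

namespace Cfsg.Agent.Lib.Helper6.GroupSplit

variable {G A B : Type*} [Group G] [Group A] [Group B]

/-- Let `K` be a normal subgroup of `G` and `β : G →* B` a homomorphism which is already
surjective on `K`.  If the kernel of `β` maps onto `A` with kernel its intersection with `K`, then
`G ⧸ (K ⊓ ker β) ≃* A × B`. -/
theorem quotient_inf_equiv_prod (K : Subgroup G) [K.Normal] (β : G →* B)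
    (hβK : ∀ b : B, ∃ k ∈ K, β k = b)
    (α : ↥β.ker →* A) (hα : Function.Surjective α)
    (hker : ∀ p : ↥β.ker, α p = 1 ↔ (p : G) ∈ K)
    (N : Subgroup G) [N.Normal] (hN : N = K ⊓ β.ker) :
    Nonempty (G ⧸ N ≃* A × B) := by
  let γ : ↥β.ker →* G ⧸ K := (QuotientGroup.mk' K).comp β.ker.subtype
  have hγ : Function.Surjective γ := by
    intro x
    obtain ⟨g, rfl⟩ := QuotientGroup.mk'_surjective K x
    obtain ⟨k, hk, hkg⟩ := hβK (β g)
    refine ⟨⟨k⁻¹ * g, ?_⟩, ?_⟩
    · rw [MonoidHom.mem_ker, map_mul, map_inv, hkg, inv_mul_cancel]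
    · show QuotientGroup.mk' K (k⁻¹ * g) = QuotientGroup.mk' K g
      have h1 : QuotientGroup.mk' K k = 1 := (QuotientGroup.eq_one_iff k).mpr hk
      rw [map_mul, map_inv, h1, inv_one, one_mul]
  have hkerγ : γ.ker = α.ker := by
    ext p
    rw [MonoidHom.mem_ker, MonoidHom.mem_ker, hker]
    exact QuotientGroup.eq_one_iff (p : G)
  let e : G ⧸ K ≃* A :=
    (QuotientGroup.quotientKerEquivOfSurjective γ hγ).symm.trans
      ((QuotientGroup.quotientMulEquivOfEq hkerγ).trans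
        (QuotientGroup.quotientKerEquivOfSurjective α hα))
  let Ψ : G →* A × B := (e.toMonoidHom.comp (QuotientGroup.mk' K)).prod β
  have hΨapp : ∀ g, Ψ g = (e (QuotientGroup.mk' K g), β g) := fun g => rfl
  have hΨker : Ψ.ker = N := by
    ext g
    rw [MonoidHom.mem_ker, hN, Subgroup.mem_inf, MonoidHom.mem_ker, hΨapp, Prod.mk_eq_one,
      EmbeddingLike.map_eq_one_iff]
    rw [QuotientGroup.mk'_apply, QuotientGroup.eq_one_iff]
  have hΨ : Function.Surjective Ψ := by
    rintro ⟨a, b⟩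
    obtain ⟨x, hx⟩ := e.surjective a
    obtain ⟨g1, rfl⟩ := QuotientGroup.mk'_surjective K x
    obtain ⟨k, hk, hkb⟩ := hβK ((β g1)⁻¹ * b)
    refine ⟨g1 * k, ?_⟩
    have h1 : QuotientGroup.mk' K k = 1 := (QuotientGroup.eq_one_iff k).mpr hk
    rw [hΨapp, map_mul β, hkb, mul_inv_cancel_left, map_mul, h1, mul_one, hx]
  exact ⟨(QuotientGroup.quotientMulEquivOfEq hΨker.symm).trans
    (QuotientGroup.quotientKerEquivOfSurjective Ψ hΨ)⟩

end Cfsg.Agent.Lib.Helper6.GroupSplit
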