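import Cfsg.Agent.Lib.Helper6.GolayTrioKer
import Cfsg.Agent.Lib.Helper6.GolaySxKer2
import Cfsg.Agent.Lib.Helper6.ElemAbGL6
import Cfsg.Agent.Lib.Helper6.GroupSplit6

/-!
# The structure of the stabilizer of the reference trio
-/

set_option autoImplicit false

namespace Cfsg.Agent.Lib.Helper6.Golay

open Cfsg
open Cfsg.Agent.Lib.Helper6.PermChain
open scoped Pointwise

theorem perm_apply_invT (t : Equiv.Perm GolayPt) (p : GolayPt) : t (t⁻¹ p) = p :=
  t.apply_symm_apply p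

theorem perm_inv_applyT (t : Equiv.Perm GolayPt) (p : GolayPt) : t⁻¹ (t p) = p :=
  t.symm_apply_apply p

/-- the stabilizer of the reference trio -/
abbrev GT0 : Type := ↥(MulAction.stabilizer M24 trio0)

theorem GT0_smul (x : GT0) : x.1.1 • trio0 = trio0 := x.2

/-- the action on the three octads -/
def betaT : GT0 →* Equiv.Perm ↥trio0 := sxPermHom trio0

theorem mem_ker_betaT {x : GT0} : x ∈ betaT.ker ↔ ∀ o ∈ trio0C, x.1.1 • fs o = fs o := by
  rw [betaT, mem_ker_sxPermHom]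
  constructor
  · intro h o ho
    exact h (fs o) (by rw [trio0_def]; exact mem_fss.mpr ⟨o, ho, rfl⟩)
  · intro h t ht
    rw [trio0_def] at ht
    obtain ⟨o, ho, rfl⟩ := mem_fss.mp ht
    exact h o ho

theorem refSx_smul (x : GT0) {S : Finset (Finset GolayPt)} (hS : S ∈ refSx trio0) :
    x.1.1 • S ∈ refSx trio0 := by
  have := smul_mem_refSx x.1.2 hS
  rwa [GT0_smul x] at this

/-- the kernel of the action on the seven sextets refining the trio -/
def KT : Subgroup GT0 where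
  carrier := {x | ∀ S ∈ refSx trio0, x.1.1 • S = S}
  mul_mem' := by
    intro a b ha hb S hS
    show (a.1.1 * b.1.1) • S = S
    rw [mul_smul, hb S hS, ha S hS]
  one_mem' := fun S _ => one_smul _ S
  inv_mem' := by
    intro a ha S hS
    show (a.1.1)⁻¹ • S = S
    rw [inv_smul_eq_iff, ha S hS]

instance KT_normal : KT.Normal := by
  constructor
  intro n hn g S hS
  show (g.1.1 * n.1.1 * (g.1.1)⁻¹) • S = S
  have h1 : (g.1.1)⁻¹ • S ∈ refSx trio0 := refSx_smul g⁻¹ hS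
  rw [mul_smul, mul_smul, hn _ h1, smul_inv_smul]

theorem mem_KT_iff {x : GT0} : x ∈ KT ↔ x.1.1 ∈ kT := by
  constructor
  · intro h
    exact ⟨x.1.2, GT0_smul x, fun L hL => h _ (mem_refSx_trio0.mpr ⟨L, hL, rfl⟩)⟩
  · rintro ⟨-, -, h⟩ S hS
    obtain ⟨L, hL, rfl⟩ := mem_refSx_trio0.mp hS
    exact h L hL

theorem card_KT : Nat.card KT = 384 := by
  rw [← card_kT]
  apply Nat.card_congr
  exact
    { toFun := fun x => ⟨x.1.1.1, mem_KT_iff.mp x.2⟩
      invFun := fun g => ⟨⟨⟨g.1, g.2.1⟩, g.2.2.1⟩, mem_KT_iff.mpr g.2⟩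
      left_inv := fun _ => rfl
      right_inv := fun _ => rfl }

/-- the normal subgroup of order 64 -/
def NT : Subgroup GT0 := KT ⊓ betaT.ker

instance NT_normal : NT.Normal := inferInstanceAs (KT ⊓ betaT.ker).Normal

theorem mem_NT_iff {x : GT0} : x ∈ NT ↔ x.1.1 ∈ nT := by
  rw [NT, Subgroup.mem_inf, mem_KT_iff, mem_ker_betaT]
  rfl

theorem card_NT : Nat.card NT = 64 := by
  rw [← card_nT]
  apply Nat.card_congr
  exact
    { toFun := fun x => ⟨x.1.1.1, mem_NT_iff.mp x.2⟩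
      invFun := fun g => ⟨⟨⟨g.1, g.2.1.1⟩, g.2.1.2.1⟩, mem_NT_iff.mpr g.2⟩
      left_inv := fun _ => rfl
      right_inv := fun _ => rfl }

theorem NT_sq {x : GT0} (hx : x ∈ NT) : x * x = 1 := by
  apply Subtype.ext
  apply Subtype.ext
  exact nT_sq (mem_NT_iff.mp hx)

theorem NT_comm {a b : GT0} (ha : a ∈ NT) (hb : b ∈ NT) : a * b = b * a := by
  have ha' : a⁻¹ = a := inv_eq_of_mul_eq_one_right (NT_sq ha)
  have hb' : b⁻¹ = b := inv_eq_of_mul_eq_one_right (NT_sq hb)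
  have hab : (a * b)⁻¹ = a * b := inv_eq_of_mul_eq_one_right (NT_sq (NT.mul_mem ha hb))
  calc a * b = (a * b)⁻¹ := hab.symm
    _ = b⁻¹ * a⁻¹ := mul_inv_rev a b
    _ = b * a := by rw [ha', hb']

theorem card_perm_trio0 : Nat.card (Equiv.Perm ↥trio0) = 6 := by
  rw [Nat.card_perm, Nat.card_eq_fintype_card, Fintype.card_coe, trio0_mem.1]
  rfl

/-- the kernel on the sextets induces every permutation of the three octads -/
theorem betaT_KT_surjective : ∀ e : Equiv.Perm ↥trio0, ∃ k ∈ KT, betaT k = e := by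
  let f : ↥KT →* Equiv.Perm ↥trio0 := betaT.comp KT.subtype
  have hker : Nat.card f.ker = 64 := by
    rw [← card_NT]
    apply Nat.card_congr
    exact
      { toFun := fun x => ⟨x.1.1, ⟨x.1.2, x.2⟩⟩
        invFun := fun y => ⟨⟨y.1, y.2.1⟩, y.2.2⟩
        left_inv := fun _ => rfl
        right_inv := fun _ => rfl }
  have h1 := Subgroup.card_mul_index f.ker
  rw [Subgroup.index_ker, hker, card_KT] at h1
  have hrange : Nat.card f.range = 6 := by omega
  have htop : f.range = ⊤ := Subgroup.eq_top_of_card_eq _ (by rw [hrange, card_perm_trio0])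
  intro e
  have he : e ∈ f.range := by rw [htop]; trivial
  obtain ⟨k, hk⟩ := he
  exact ⟨k.1, k.2, hk⟩

theorem betaT_surjective : Function.Surjective betaT := by
  intro e
  obtain ⟨k, -, hk⟩ := betaT_KT_surjective e
  exact ⟨k, hk⟩

set_option maxRecDepth 10000 in
theorem card_GT0 : Nat.card GT0 = 64512 := by
  have h : Nat.card GT0 * (MulAction.stabilizer M24 trio0).index = Nat.card ↥M24 :=
    Subgroup.card_mul_index (MulAction.stabilizer M24 trio0)
  rw [index_stabilizer_trio trio0_mem, card_M24] at h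
  omega

theorem card_ker_betaT : Nat.card betaT.ker = 10752 := by
  have h1 := Subgroup.card_mul_index betaT.ker
  rw [Subgroup.index_ker, MonoidHom.range_eq_top.mpr betaT_surjective, Subgroup.card_top,
    card_perm_trio0, card_GT0] at h1
  omega

/-! ### the subgroup of order eight -/

/-- the elements fixing each octad, and the third one pointwise -/
def N3T : Subgroup ↥betaT.ker where
  carrier := {p | ∀ q ∈ o3pts, p.1.1.1 (pt q) = pt q}
  mul_mem' := by
    intro a b ha hb q hq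
    show a.1.1.1 (b.1.1.1 (pt q)) = pt q
    rw [hb q hq, ha q hq]
  one_mem' := fun q _ => rfl
  inv_mem' := by
    intro a ha q hq
    show (a.1.1.1)⁻¹ (pt q) = pt q
    rw [Equiv.Perm.inv_def, Equiv.symm_apply_eq]
    exact (ha q hq).symm

theorem mem_N3T_iff {p : ↥betaT.ker} : p ∈ N3T ↔ p.1.1.1 ∈ n3T :=
  ⟨fun h => ⟨p.1.1.2, mem_ker_betaT.mp p.2, h⟩, fun h => h.2.2⟩

theorem pt_mem_o3 {q : ℕ} (hq : q ∈ o3pts) : pt q ∈ fs 8536111 := by
  simp only [o3pts, List.mem_cons, List.not_mem_nil, or_false] at hq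
  rcases hq with rfl | rfl | rfl | rfl | rfl | rfl | rfl | rfl <;>
    exact mem_fs.mpr (by rw [idx_pt _ (by norm_num)]; decide)

theorem pt_mem_o1 {q : ℕ} (hq : q ∈ o1pts) : pt q ∈ fs 337856 := by
  simp only [o1pts, List.mem_cons, List.not_mem_nil, or_false] at hq
  rcases hq with rfl | rfl | rfl | rfl | rfl | rfl | rfl | rfl <;>
    exact mem_fs.mpr (by rw [idx_pt _ (by norm_num)]; decide)

instance N3T_normal : N3T.Normal := by
  constructor
  intro n hn g q hq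
  show g.1.1.1 (n.1.1.1 ((g.1.1.1)⁻¹ (pt q))) = pt q
  have hg3 : g.1.1.1 • fs 8536111 = fs 8536111 := mem_ker_betaT.mp g.2 _ (by decide)
  have hgi : (g.1.1.1)⁻¹ • fs 8536111 = fs 8536111 := by rw [inv_smul_eq_iff, hg3]
  have h1 : (g.1.1.1)⁻¹ (pt q) ∈ fs 8536111 := (mem_of_smul_eq hgi).mpr (pt_mem_o3 hq)
  have h2 : idx ((g.1.1.1)⁻¹ (pt q)) ∈ o3pts := o3pts_eq _ (idx_lt _) (mem_fs.mp h1)
  have h3 : n.1.1.1 ((g.1.1.1)⁻¹ (pt q)) = (g.1.1.1)⁻¹ (pt q) := by
    have := hn _ h2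
    rwa [pt_idx] at this
  rw [h3, perm_apply_invT]

theorem card_N3T : Nat.card N3T = 8 := by
  rw [← card_n3T]
  apply Nat.card_congr
  exact
    { toFun := fun x => ⟨x.1.1.1.1, mem_N3T_iff.mp x.2⟩
      invFun := fun g => ⟨⟨⟨⟨g.1, g.2.1⟩, (n3T_sub g.2).1.2.1⟩, mem_ker_betaT.mpr g.2.2.1⟩,
        mem_N3T_iff.mpr g.2⟩
      left_inv := fun _ => rfl
      right_inv := fun _ => rfl }

theorem N3T_le_NT {n : ↥betaT.ker} (hn : n ∈ N3T) : (n : GT0) ∈ NT :=
  mem_NT_iff.mpr (n3T_sub (mem_N3T_iff.mp hn))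

theorem N3T_sq (a : ↥N3T) : a * a = 1 := by
  apply Subtype.ext
  apply Subtype.ext
  exact NT_sq (N3T_le_NT a.2)

theorem N3T_comm (a b : ↥N3T) : a * b = b * a := by
  apply Subtype.ext
  apply Subtype.ext
  exact NT_comm (N3T_le_NT a.2) (N3T_le_NT b.2)

theorem card_GL32 : Nat.card (GL (Fin 3) (ZMod 2)) = 168 := by
  rw [Matrix.card_GL_field, ZMod.card, Fin.prod_univ_three]
  norm_num

theorem mulAut_N3T_equiv : Nonempty (MulAut ↥N3T ≃* GL (Fin 3) (ZMod 2)) := by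
  let cg : CommGroup ↥N3T := { (inferInstance : Group ↥N3T) with mul_comm := N3T_comm }
  have : Fact (Nat.Prime 2) := ⟨Nat.prime_two⟩
  have : Finite ↥N3T := Nat.finite_of_card_ne_zero (by rw [card_N3T]; norm_num)
  exact ElemAb.mulAut_equiv_gl (V := ↥N3T) 2 3
    (fun x => by rw [pow_two]; exact N3T_sq x) (by rw [card_N3T]; norm_num)

/-- the conjugation action of the octad-wise stabilizer on the subgroup of order eight -/
noncomputable def cT : ↥betaT.ker →* MulAut ↥N3T := MulAut.conjNormal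

theorem cT_apply (p : ↥betaT.ker) (n : ↥N3T) :
    ((cT p n : ↥N3T) : ↥betaT.ker) = p * n * p⁻¹ := MulAut.conjNormal_apply p n

/-- an element of `M24` in the reference group, as an element of it -/
theorem exists_swap31 : ∃ k ∈ KT, k.1.1 • fs 8536111 = fs 337856 := by
  have h3 : fs 8536111 ∈ trio0 := by rw [trio0_def]; exact mem_fss.mpr ⟨_, by decide, rfl⟩
  have h1 : fs 337856 ∈ trio0 := by rw [trio0_def]; exact mem_fss.mpr ⟨_, by decide, rfl⟩
  obtain ⟨k, hk, hke⟩ := betaT_KT_surjective (Equiv.swap ⟨_, h3⟩ ⟨_, h1⟩)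
  refine ⟨k, hk, ?_⟩
  have := congrArg (fun f : Equiv.Perm ↥trio0 => (f ⟨_, h3⟩).1) hke
  simp only [Equiv.swap_apply_left] at this
  exact this

theorem nT_mul {a b : Equiv.Perm GolayPt} (ha : a ∈ nT) (hb : b ∈ nT) : a * b ∈ nT := by
  have ha' : (⟨⟨a, ha.1.1⟩, ha.1.2.1⟩ : GT0) ∈ NT := mem_NT_iff.mpr ha
  have hb' : (⟨⟨b, hb.1.1⟩, hb.1.2.1⟩ : GT0) ∈ NT := mem_NT_iff.mpr hb
  exact mem_NT_iff.mp (NT.mul_mem ha' hb')

theorem nT_inv {a : Equiv.Perm GolayPt} (ha : a ∈ nT) : a⁻¹ ∈ nT := by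
  have ha' : (⟨⟨a, ha.1.1⟩, ha.1.2.1⟩ : GT0) ∈ NT := mem_NT_iff.mpr ha
  exact mem_NT_iff.mp (NT.inv_mem ha')

theorem nT_comm {a b : Equiv.Perm GolayPt} (ha : a ∈ nT) (hb : b ∈ nT) : a * b = b * a := by
  have ha' : (⟨⟨a, ha.1.1⟩, ha.1.2.1⟩ : GT0) ∈ NT := mem_NT_iff.mpr ha
  have hb' : (⟨⟨b, hb.1.1⟩, hb.1.2.1⟩ : GT0) ∈ NT := mem_NT_iff.mpr hb
  exact congrArg (fun z : GT0 => z.1.1) (NT_comm ha' hb')

theorem nT_conj {k a : Equiv.Perm GolayPt} (hk : k ∈ kT) (ha : a ∈ nT) : k * a * k⁻¹ ∈ nT := by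
  have ha' : (⟨⟨a, ha.1.1⟩, ha.1.2.1⟩ : GT0) ∈ NT := mem_NT_iff.mpr ha
  exact mem_NT_iff.mp (NT_normal.conj_mem _ ha' ⟨⟨k, hk.1⟩, hk.2.1⟩)

/-- an element fixing each octad and centralizing the subgroup of order eight lies in the normal
subgroup of order 64 -/
theorem cent_n3T_sub {x : Equiv.Perm GolayPt} (hxM : x ∈ M24)
    (hxo : ∀ o ∈ trio0C, x • fs o = fs o) (hc : ∀ y ∈ n3T, x * y = y * x) : x ∈ nT := by
  have hx1 : x • fs 337856 = fs 337856 := hxo _ (by decide)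
  have h6 : x (pt 6) ∈ fs 337856 :=
    (mem_of_smul_eq hx1).mpr (mem_fs.mpr (by rw [idx_pt _ (by norm_num)]; decide))
  have hq : idx (x (pt 6)) ∈ o1pts := o1pts_eq _ (idx_lt _) (mem_fs.mp h6)
  obtain ⟨n0, hn0, hn06⟩ := n3T_regular hq
  rw [pt_idx] at hn06
  have hn0N : n0 ∈ nT := n3T_sub hn0
  -- the corrected element
  obtain ⟨h, hdef⟩ : ∃ h : Equiv.Perm GolayPt, h = n0⁻¹ * x := ⟨_, rfl⟩
  have hh6 : h (pt 6) = pt 6 := by
    rw [hdef, Equiv.Perm.mul_apply, ← hn06, perm_inv_applyT]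
  have hhM : h ∈ M24 := by rw [hdef]; exact M24.mul_mem (M24.inv_mem hn0.1) hxM
  have hho : ∀ o ∈ trio0C, h • fs o = fs o := by
    intro o ho
    rw [hdef, mul_smul, hxo o ho, inv_smul_eq_iff, hn0.2.1 o ho]
  have hhcomm : ∀ y ∈ n3T, h * y = y * h := by
    intro y hy
    have e1 : n0 * y = y * n0 := nT_comm hn0N (n3T_sub hy)
    have e2 : n0⁻¹ * y = y * n0⁻¹ := by
      calc n0⁻¹ * y = n0⁻¹ * (y * n0) * n0⁻¹ := by group
        _ = n0⁻¹ * (n0 * y) * n0⁻¹ := by rw [e1]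
        _ = y * n0⁻¹ := by group
    calc h * y = n0⁻¹ * (x * y) := by rw [hdef]; group
      _ = n0⁻¹ * (y * x) := by rw [hc y hy]
      _ = (n0⁻¹ * y) * x := by group
      _ = (y * n0⁻¹) * x := by rw [e2]
      _ = y * h := by rw [hdef]; group
  have hfix1 : ∀ r ∈ o1pts, h (pt r) = pt r := by
    intro r hr
    obtain ⟨m0, hm0, hm06⟩ := n3T_regular hr
    have e1 := congrArg (fun z : Equiv.Perm GolayPt => z (pt 6)) (hhcomm m0 hm0)
    simp only [Equiv.Perm.mul_apply] at e1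
    rw [hm06, hh6, hm06] at e1
    exact e1
  -- conjugate into the subgroup of order eight
  obtain ⟨k, hk, hk31⟩ := exists_swap31
  have hkT : k.1.1 ∈ kT := mem_KT_iff.mp hk
  obtain ⟨k0, hk0⟩ : ∃ k0 : Equiv.Perm GolayPt, k0 = k.1.1 := ⟨_, rfl⟩
  rw [← hk0] at hkT hk31
  have hy : k0⁻¹ * h * k0 ∈ n3T := by
    refine ⟨M24.mul_mem (M24.mul_mem (M24.inv_mem hkT.1) hhM) hkT.1, ?_, ?_⟩
    · intro o ho
      have h1 : k0 • fs o ∈ trio0 := by
        rw [← hkT.2.1]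
        exact Finset.smul_mem_smul_finset (by rw [trio0_def]; exact mem_fss.mpr ⟨o, ho, rfl⟩)
      rw [trio0_def] at h1
      obtain ⟨o', ho', h2⟩ := mem_fss.mp h1
      rw [mul_smul, mul_smul, h2, hho o' ho', inv_smul_eq_iff, h2]
    · intro q hq3
      have h1 : k0 (pt q) ∈ fs 337856 := by
        rw [← hk31]
        exact Finset.smul_mem_smul_finset (a := k0) (pt_mem_o3 hq3)
      have h2 : idx (k0 (pt q)) ∈ o1pts := o1pts_eq _ (idx_lt _) (mem_fs.mp h1)
      have h3 := hfix1 _ h2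
      rw [pt_idx] at h3
      rw [Equiv.Perm.mul_apply, Equiv.Perm.mul_apply, h3, perm_inv_applyT]
  have hhN : h ∈ nT := by
    have := nT_conj hkT (n3T_sub hy)
    have e : k0 * (k0⁻¹ * h * k0) * k0⁻¹ = h := by group
    rwa [e] at this
  have e : x = n0 * h := by rw [hdef]; group
  rw [e]
  exact nT_mul hn0N hhN

/-- the kernel of the conjugation action is the normal subgroup of order 64 -/
theorem cT_ker_iff (p : ↥betaT.ker) : cT p = 1 ↔ (p : GT0) ∈ KT := by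
  constructor
  · intro hp
    have hcomm : ∀ n : ↥N3T, p * (n : ↥betaT.ker) = n * p := by
      intro n
      have h1 := cT_apply p n
      rw [hp] at h1
      have h2 : (n : ↥betaT.ker) = p * n * p⁻¹ := h1
      calc p * (n : ↥betaT.ker) = p * n * p⁻¹ * p := by group
        _ = n * p := by rw [← h2]
    have hx : p.1.1.1 ∈ nT := by
      apply cent_n3T_sub p.1.1.2 (mem_ker_betaT.mp p.2)
      intro y hy
      have := hcomm ⟨⟨⟨⟨y, hy.1⟩, (n3T_sub hy).1.2.1⟩, mem_ker_betaT.mpr hy.2.1⟩,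
        mem_N3T_iff.mpr hy⟩
      exact congrArg (fun z : ↥betaT.ker => z.1.1.1) this
    exact (mem_NT_iff.mpr hx).1
  · intro hp
    have hpN : (p : GT0) ∈ NT := ⟨hp, p.2⟩
    apply MulEquiv.ext
    intro n
    apply Subtype.ext
    rw [cT_apply]
    apply Subtype.ext
    show (p : GT0) * (n : ↥betaT.ker).1 * (p : GT0)⁻¹ = (n : ↥betaT.ker).1
    rw [NT_comm hpN (N3T_le_NT n.2)]
    group

theorem cT_surjective : Function.Surjective cT := by
  obtain ⟨e⟩ := mulAut_N3T_equiv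
  have : Finite (MulAut ↥N3T) := Finite.of_equiv _ e.symm.toEquiv
  rw [← MonoidHom.range_eq_top]
  apply Subgroup.eq_top_of_card_eq
  have h1 := Subgroup.card_mul_index cT.ker
  rw [Subgroup.index_ker, card_ker_betaT] at h1
  have h2 : Nat.card cT.ker = 64 := by
    rw [← card_NT]
    apply Nat.card_congr
    exact
      { toFun := fun x => ⟨x.1.1, ⟨(cT_ker_iff x.1).mp x.2, x.1.2⟩⟩
        invFun := fun y => ⟨⟨y.1, y.2.2⟩, (cT_ker_iff _).mpr y.2.1⟩
        left_inv := fun _ => rfl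
        right_inv := fun _ => rfl }
  rw [h2] at h1
  have h3 : Nat.card (MulAut ↥N3T) = 168 := by rw [Nat.card_congr e.toEquiv, card_GL32]
  rw [h3]
  omega

/-- **the quotient of the reference trio stabilizer by its normal subgroup of order 64** -/
theorem trio0_quotient :
    Nonempty (GT0 ⧸ NT ≃* GL (Fin 3) (ZMod 2) × Equiv.Perm (Fin 3)) := by
  obtain ⟨e1⟩ := mulAut_N3T_equiv
  obtain ⟨e⟩ := GroupSplit.quotient_inf_equiv_prod KT betaT betaT_KT_surjective cT cT_surjective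
    cT_ker_iff NT rfl
  have hc : Fintype.card ↥trio0 = 3 := by rw [Fintype.card_coe, trio0_mem.1]
  let e2 : Equiv.Perm ↥trio0 ≃* Equiv.Perm (Fin 3) := (Fintype.equivFinOfCardEq hc).permCongrHom
  exact ⟨e.trans (MulEquiv.prodCongr e1 e2)⟩

end Cfsg.Agent.Lib.Helper6.Golay
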