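import Cfsg.Agent.Lib.Helper6.GolayTrioKer2

/-!
# The structure of the stabilizer of a trio (general position)
-/

set_option autoImplicit false

namespace Cfsg.Agent.Lib.Helper6.Golay

open Cfsg
open Cfsg.Agent.Lib.Helper6.PermChain
open scoped Pointwise

/-- conjugation isomorphism between the stabilizers of a set system and of its image -/
def conjEquivT {t : Equiv.Perm GolayPt} (ht : t ∈ M24) (T : Finset (Finset GolayPt)) :
    ↥(MulAction.stabilizer M24 (t • T)) ≃* ↥(MulAction.stabilizer M24 T) where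
  toFun g := ⟨⟨t⁻¹ * g.1.1 * t, M24.mul_mem (M24.mul_mem (M24.inv_mem ht) g.1.2) ht⟩, by
    rw [MulAction.mem_stabilizer_iff]
    show (t⁻¹ * g.1.1 * t) • T = T
    have h : g.1.1 • (t • T) = t • T := g.2
    rw [mul_smul, mul_smul, h, inv_smul_smul]⟩
  invFun h := ⟨⟨t * h.1.1 * t⁻¹, M24.mul_mem (M24.mul_mem ht h.1.2) (M24.inv_mem ht)⟩, by
    rw [MulAction.mem_stabilizer_iff]
    show (t * h.1.1 * t⁻¹) • (t • T) = t • T
    have hh : h.1.1 • T = T := h.2
    rw [mul_smul, mul_smul, inv_smul_smul, hh]⟩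
  left_inv g := by
    apply Subtype.ext
    apply Subtype.ext
    show t * (t⁻¹ * g.1.1 * t) * t⁻¹ = g.1.1
    group
  right_inv h := by
    apply Subtype.ext
    apply Subtype.ext
    show t⁻¹ * (t * h.1.1 * t⁻¹) * t = h.1.1
    group
  map_mul' a b := by
    apply Subtype.ext
    apply Subtype.ext
    show t⁻¹ * (a.1.1 * b.1.1) * t = t⁻¹ * a.1.1 * t * (t⁻¹ * b.1.1 * t)
    group

/-- **Structure of a trio stabiliser**: every permutation of the three octads is induced, and
there is a normal subgroup of order 64 of elements squaring to the identity whose quotient is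
isomorphic to the product of `GL(3, 2)` with the symmetric group of degree 3. -/
theorem trio_structure (T : Finset (Finset GolayPt)) (hT : T ∈ trios) :
    (∀ e : Equiv.Perm ↥T, ∃ g ∈ MulAction.stabilizer M24 T,
      ∀ o : ↥T, (g : Equiv.Perm GolayPt) • (o : Finset GolayPt) = ((e o : ↥T) : Finset GolayPt)) ∧
    ∃ (N : Subgroup ↥(MulAction.stabilizer M24 T)) (_ : N.Normal), Nat.card N = 64 ∧
      (∀ x ∈ N, x * x = 1) ∧
      Nonempty (↥(MulAction.stabilizer M24 T) ⧸ N ≃* GL (Fin 3) (ZMod 2) × Equiv.Perm (Fin 3)) := by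
  obtain ⟨t, ht, rfl⟩ := exists_M24_trio trio0_mem hT
  constructor
  · intro e
    let τ : ↥trio0 ≃ ↥(t • trio0) :=
      { toFun := fun o => ⟨t • o.1, Finset.smul_mem_smul_finset o.2⟩
        invFun := fun o => ⟨t⁻¹ • o.1, by
          have h := o.2
          rw [Finset.mem_smul_finset] at h
          obtain ⟨o', ho', h'⟩ := h
          rw [← h', inv_smul_smul]
          exact ho'⟩
        left_inv := fun o => Subtype.ext (inv_smul_smul _ _)
        right_inv := fun o => Subtype.ext (smul_inv_smul _ _) }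
    obtain ⟨g0, hg0⟩ := betaT_surjective (τ.trans (e.trans τ.symm))
    have hstab : (⟨t * g0.1.1 * t⁻¹, M24.mul_mem (M24.mul_mem ht g0.1.2) (M24.inv_mem ht)⟩ : ↥M24) ∈
        MulAction.stabilizer M24 (t • trio0) := by
      rw [MulAction.mem_stabilizer_iff]
      show (t * g0.1.1 * t⁻¹) • (t • trio0) = t • trio0
      rw [mul_smul, mul_smul, inv_smul_smul, GT0_smul g0]
    refine ⟨_, hstab, ?_⟩
    intro o
    show (t * g0.1.1 * t⁻¹) • o.1 = (e o).1
    have h1 := congrArg (fun f : Equiv.Perm ↥trio0 => (f (τ.symm o)).1) hg0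
    have h2 : g0.1.1 • (t⁻¹ • o.1) = t⁻¹ • (e o).1 := by
      have e1 : τ (τ.symm o) = o := τ.apply_symm_apply o
      simp only [Equiv.trans_apply, e1] at h1
      exact h1
    rw [mul_smul, mul_smul, h2, smul_inv_smul]
  · let φ := conjEquivT ht trio0
    refine ⟨NT.comap φ.toMonoidHom, NT_normal.comap φ.toMonoidHom, ?_, ?_, ?_⟩
    · rw [← card_NT]
      apply Nat.card_congr
      exact
        { toFun := fun x => ⟨φ x.1, x.2⟩
          invFun := fun y => ⟨φ.symm y.1, by
            show φ (φ.symm y.1) ∈ NT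
            rw [φ.apply_symm_apply]
            exact y.2⟩
          left_inv := fun x => Subtype.ext (φ.symm_apply_apply x.1)
          right_inv := fun y => Subtype.ext (φ.apply_symm_apply y.1) }
    · intro x hx
      have hx' : φ x ∈ NT := hx
      apply φ.injective
      rw [map_mul, NT_sq hx', map_one]
    · obtain ⟨e⟩ := trio0_quotient
      have := NT_normal.comap φ.toMonoidHom
      have hmap : (NT.comap φ.toMonoidHom).map (φ : _ →* GT0) = NT :=
        Subgroup.map_comap_eq_self_of_surjective φ.surjective NT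
      exact ⟨(QuotientGroup.congr (NT.comap φ.toMonoidHom) NT φ hmap).trans e⟩

end Cfsg.Agent.Lib.Helper6.Golay
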