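import Cfsg.Agent.Lib.Helper6.GolayTrio
import Cfsg.Agent.Lib.Helper6.GolaySetSysKey
import Cfsg.Agent.Lib.Helper6.Overgroup4

/-!
# The stabilizer of a trio: data for its five orbits on trios (reference position)
-/

set_option autoImplicit false

namespace Cfsg.Agent.Lib.Helper6.Golay

open Cfsg
open Cfsg.Agent.Lib.Helper6.PermChain
open scoped Pointwise

def progTr : List (ℕ × ℕ) := [(0, 0), (0, 1), (0, 2), (1, 0), (1, 2), (2, 0), (2, 2), (3, 0), (4, 2), (5, 0), (6, 1), (7, 0), (8, 2), (9, 2), (10, 0), (12, 0), (13, 0), (14, 1), (16, 0), (17, 0), (18, 0), (19, 0), (19, 1), (20, 2), (21, 1), (22, 0), (23, 0), (23, 2), (24, 2), (25, 2), (26, 0), (27, 2), (28, 2), (29, 0), (30, 2), (31, 0), (32, 2), (33, 0), (34, 0), (35, 0), (36, 2), (37, 0), (39, 2), (40, 0), (41, 2), (42, 0), (43, 0), (45, 0), (46, 0), (48, 0), (2, 1), (53, 1), (54, 1), (55, 0), (56, 2), (57, 2), (58, 2), (59, 2), (60, 1), (61, 0), (62, 0), (63, 0), (64, 1), (65, 2), (44, 66), (7, 1), (68,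 2), (69, 2), (70, 2), (71, 1), (72, 0), (73, 2), (74, 0), (75, 0), (76, 0), (77, 0), (51, 78), (47, 2), (80, 0), (81, 1), (82, 1), (83, 0), (84, 2), (85, 1), (86, 2), (87, 2), (52, 88), (11, 1), (90, 0), (91, 1), (92, 1), (93, 2), (94, 0), (95, 2), (96, 1), (97, 0), (98, 1), (99, 1), (100, 2), (101, 0), (102, 1), (103, 0), (104, 0), (50, 105), (15, 1), (107, 0), (108, 1), (109, 0), (110, 1), (111, 0), (112, 2), (113, 2), (114, 2), (49, 115), (8, 1), (117, 2), (118, 1), (119, 1), (120, 1), (121, 0), (122, 1), (123, 0), (124, 2), (125, 2), (126, 1), (127, 1), (128, 0), (129, 0), (130, 1), (38, 131)]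

def trio0C : List ℕ := [337856, 7903248, 8536111]

def rootsTr : List (List ℕ) := [[18147, 7903248, 8855820],
  [18147, 4038912, 12720156],
  [5279, 4038912, 12733024],
  [5279, 1009728, 15762208]]

/-- the reference trio -/
def trio0 : Finset (Finset GolayPt) := fss trio0C

def ETr : List (List ℕ) := stFilter trio0C (slpRun gens3 progTr)

theorem rep_ETr : ∀ l ∈ ETr, Rep (HSt trio0) l :=
  rep_stFilter (rep_slpRun _ _ (rep_gens3 hasGens_M24))

def rootTrA : List ℕ := rootsTr.getD 0 []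
def rootTrB : List ℕ := rootsTr.getD 1 []
def rootTrC : List ℕ := rootsTr.getD 2 []
def rootTrD : List ℕ := rootsTr.getD 3 []

theorem le_ncard_of_runTr {root : List ℕ} {cert : List (List ℕ)} {n : ℕ}
    (h : checkRunK (wordsRun ETr root cert) n = true) :
    n ≤ (OrbSet (HSt trio0) (fss root)).ncard :=
  le_ncard_of_checkRunK rep_ETr h

end Cfsg.Agent.Lib.Helper6.Golay
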