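import Mathlib
import Cfsg.Prelude.Def_Sporadic_a

/-! Transport of set systems along equivalences. -/

set_option autoImplicit false

namespace Cfsg.Agent.Lib.Helper6.SteinerSearch

open Cfsg

universe u w x

variable {α : Type u} {β : Type w} {γ : Type x} [DecidableEq α] [DecidableEq β] [DecidableEq γ]

/-- the image of a set system under an equivalence -/
def imgSysE (e : α ≃ γ) (B : Set (Finset α)) : Set (Finset γ) := {c | c.image e.symm ∈ B}

omit [DecidableEq α] in
theorem image_symm_imageE (e : α ≃ γ) (c : Finset γ) [DecidableEq α] :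
    (c.image e.symm).image e = c := by
  rw [Finset.image_image]
  have : (e ∘ e.symm : γ → γ) = id := by
    funext i; exact e.apply_symm_apply i
  rw [this, Finset.image_id]

omit [DecidableEq γ] in
theorem image_image_symmE (e : α ≃ γ) (a : Finset α) [DecidableEq γ] :
    (a.image e).image e.symm = a := by
  rw [Finset.image_image]
  have : (e.symm ∘ e : α → α) = id := by
    funext i; exact e.symm_apply_apply i
  rw [this, Finset.image_id]

theorem image_mem_imgSysE {e : α ≃ γ} {B : Set (Finset α)} {a : Finset α} :
    a.image e ∈ imgSysE e B ↔ a ∈ B := by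
  unfold imgSysE
  rw [Set.mem_ofPred_eq, image_image_symmE]

theorem steiner_imgSysE {t k : ℕ} (e : α ≃ γ) {B : Set (Finset α)}
    (hB : IsSteinerSystem t k B) : IsSteinerSystem t k (imgSysE e B) := by
  constructor
  · intro b hb
    have := hB.1 _ hb
    rwa [Finset.card_image_of_injective _ e.symm.injective] at this
  · intro s hs
    have hs' : (s.image e.symm).card = t := by
      rw [Finset.card_image_of_injective _ e.symm.injective, hs]
    obtain ⟨b, ⟨hb, hsb⟩, hu⟩ := hB.2 _ hs'
    refine ⟨b.image e, ⟨image_mem_imgSysE.2 hb, ?_⟩, ?_⟩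
    · have := Finset.image_subset_image (f := e) hsb
      rwa [image_symm_imageE] at this
    · rintro c ⟨hc, hsc⟩
      have := hu (c.image e.symm) ⟨hc, Finset.image_subset_image hsc⟩
      rw [← this, image_symm_imageE]

theorem iso_of_char {B : Set (Finset α)} {B' : Set (Finset β)} (f1 : α ≃ γ) (f2 : β ≃ γ)
    (X : Set (Finset γ)) (h1 : ∀ a, a ∈ B ↔ a.image f1 ∈ X)
    (h2 : ∀ c, c ∈ B' ↔ c.image f2 ∈ X) : SetSystemIso B B' := by
  refine ⟨f1.trans f2.symm, ?_⟩
  ext c
  constructor
  · rintro ⟨a, ha, rfl⟩
    rw [h2]
    have : (a.image (f1.trans f2.symm)).image f2 = a.image f1 := by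
      rw [Finset.image_image]
      congr 1
      funext i
      simp
    rw [this]
    exact (h1 a).1 ha
  · intro hc
    refine ⟨(c.image f2).image f1.symm, ?_, ?_⟩
    · rw [h1, image_symm_imageE]
      exact (h2 c).1 hc
    · show ((c.image f2).image f1.symm).image (f1.trans f2.symm) = c
      rw [Finset.image_image, Finset.image_image]
      have : (((f1.trans f2.symm) ∘ f1.symm) ∘ f2 : β → β) = id := by
        funext i; simp
      rw [this, Finset.image_id]

end Cfsg.Agent.Lib.Helper6.SteinerSearch
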