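import Mathlib
import Cfsg.Prelude.Def_Sporadic_a
import Cfsg.Agent.Lib.Helper6.PG4Data
import Cfsg.Agent.Lib.Helper6.SteinerTransport

/-! Uniqueness of the projective plane of order four, the Steiner system `S(2, 5, 21)`. -/

set_option autoImplicit false

namespace Cfsg.Agent.Lib.Helper6.PG4

open Cfsg Cfsg.Agent.Lib.Helper6.SteinerSearch Cfsg.Agent.Lib.Helper6.SteinerG

/-- strong uniqueness: every Steiner system `S(2, 5, 21)` on `Fin 21` is carried onto the reference
plane by a permutation -/
theorem unique_strong {B : Set (Finset (Fin 21))} (hB : IsSteinerSystem 2 5 B) : GoalG B B0 := by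
  refine chain_sound (by norm_num) (finChk 5 21 Pinit) ?_ steps [] 3 B hB hchain
    (inv_init hB 3 (by norm_num) (by decide))
  intro B' L' cur' hB' hfin hinv
  exact goalG_of_search hB' (by norm_num) 21 (by decide) (by decide) W B0 hW (by decide) Q Pinit
    hsearch hq hnd (finChk_spec hB' hfin hinv)

/-- every Steiner system `S(2, 5, 21)` is carried onto the reference plane by a bijection -/
theorem exists_equiv {α : Type*} [Fintype α] [DecidableEq α] (hα : Fintype.card α = 21)
    {B : Set (Finset α)} (hB : IsSteinerSystem 2 5 B) :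
    ∃ e : α ≃ Fin 21, ∀ a, a ∈ B ↔ a.image e ∈ B0set 21 B0 := by
  have e1 : α ≃ Fin 21 := Fintype.equivFinOfCardEq hα
  obtain ⟨σ1, h1⟩ := unique_strong (steiner_imgSysE e1 hB)
  refine ⟨e1.trans σ1, fun a => ?_⟩
  rw [← image_mem_imgSysE (e := e1), h1, Finset.image_image]
  rfl

end Cfsg.Agent.Lib.Helper6.PG4
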