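import Mathlib
import Cfsg.Prelude.Def_Sporadic_a

/-!
# Steiner systems: counting blocks and intersection numbers

For a Steiner system `S(t, k, v)` we count the blocks through a `j`-subset (`j ≤ t`), and derive the
linear equations satisfied by the numbers `n_i` of blocks meeting a fixed block in `i` points.
-/

set_option autoImplicit false
set_option linter.unusedSectionVars false

namespace Cfsg.Agent.Lib.Helper6.Steiner

open Cfsg Finset

variable {α : Type*} [Fintype α] [DecidableEq α]

/-- the number of `t`-subsets `T` with `J ⊆ T ⊆ u` -/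
theorem card_between {J u : Finset α} (hJu : J ⊆ u) {t : ℕ} (hjt : J.card ≤ t) :
    ((u.powersetCard t).filter (fun T => J ⊆ T)).card =
      Nat.choose (u.card - J.card) (t - J.card) := by
  have h1 : (u.powersetCard t).filter (fun T => J ⊆ T) =
      ((u \ J).powersetCard (t - J.card)).image (fun U => U ∪ J) := by
    ext T
    simp only [mem_filter, mem_powersetCard, mem_image]
    constructor
    · rintro ⟨⟨hTu, hTc⟩, hJT⟩
      refine ⟨T \ J, ⟨sdiff_subset_sdiff hTu (subset_refl J), ?_⟩, sdiff_union_of_subset hJT⟩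
      rw [card_sdiff_of_subset hJT, hTc]
    · rintro ⟨U, ⟨hU, hUc⟩, rfl⟩
      have hdisj : Disjoint U J := disjoint_of_subset_left hU sdiff_disjoint
      refine ⟨⟨union_subset (hU.trans sdiff_subset) hJu, ?_⟩, subset_union_right⟩
      rw [card_union_of_disjoint hdisj, hUc]; omega
  rw [h1, card_image_of_injOn, card_powersetCard, card_sdiff_of_subset hJu]
  intro U hU U' hU' h
  rw [mem_coe, mem_powersetCard] at hU hU'
  have d1 : Disjoint U J := disjoint_of_subset_left hU.1 sdiff_disjoint
  have d2 : Disjoint U' J := disjoint_of_subset_left hU'.1 sdiff_disjoint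
  have h' : (U ∪ J) \ J = (U' ∪ J) \ J := by
    simp only at h
    rw [h]
  rwa [union_sdiff_right, union_sdiff_right, sdiff_eq_self_of_disjoint d1,
    sdiff_eq_self_of_disjoint d2] at h'

variable {t k : ℕ} {B : Set (Finset α)}

/-- the blocks as a finset -/
noncomputable def blocksF (B : Set (Finset α)) : Finset (Finset α) :=
  (Set.toFinite B).toFinset

theorem mem_blocksF {b : Finset α} : b ∈ blocksF B ↔ b ∈ B := Set.Finite.mem_toFinset _

theorem card_blocksF : (blocksF B).card = B.ncard :=
  (Set.ncard_eq_toFinset_card B (Set.toFinite B)).symm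

theorem ncard_eq_card_filter (p : Finset α → Prop) [DecidablePred p] :
    {b | b ∈ B ∧ p b}.ncard = ((blocksF B).filter p).card := by
  rw [← Set.ncard_coe_finset]
  congr 1
  ext b
  simp [mem_blocksF]

/-- **The number of blocks through a `j`-subset**, `j ≤ t`. -/
theorem card_blocks_through (hB : IsSteinerSystem t k B) {J : Finset α} (hj : J.card ≤ t) :
    ((blocksF B).filter (fun b => J ⊆ b)).card * Nat.choose (k - J.card) (t - J.card) =
      Nat.choose (Fintype.card α - J.card) (t - J.card) := by
  classical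
  set F := (blocksF B).filter (fun b => J ⊆ b) with hF
  set TT := ((univ : Finset α).powersetCard t).filter (fun T => J ⊆ T) with hTT
  have hdc := sum_card_bipartiteAbove_eq_sum_card_bipartiteBelow
    (s := F) (t := TT) (fun (b : Finset α) (T : Finset α) => T ⊆ b)
  have h1 : ∀ b ∈ F, (TT.bipartiteAbove (fun (b : Finset α) (T : Finset α) => T ⊆ b) b).card =
      Nat.choose (k - J.card) (t - J.card) := by
    intro b hb
    rw [hF, mem_filter, mem_blocksF] at hb
    have hbk : b.card = k := hB.1 b hb.1
    rw [← hbk, ← card_between hb.2 hj]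
    congr 1
    ext T
    simp only [bipartiteAbove, hTT, mem_filter, mem_powersetCard, subset_univ, true_and]
    tauto
  have h2 : ∀ T ∈ TT, (F.bipartiteBelow (fun (b : Finset α) (T : Finset α) => T ⊆ b) T).card = 1 := by
    intro T hT
    rw [hTT, mem_filter, mem_powersetCard] at hT
    obtain ⟨b, ⟨hbB, hTb⟩, huniq⟩ := hB.2 T hT.1.2
    rw [card_eq_one]
    refine ⟨b, ?_⟩
    ext c
    simp only [bipartiteBelow, hF, mem_filter, mem_blocksF, mem_singleton]
    constructor
    · rintro ⟨⟨hcB, _⟩, hTc⟩
      exact huniq c ⟨hcB, hTc⟩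
    · rintro rfl
      exact ⟨⟨hbB, hT.2.trans hTb⟩, hTb⟩
  rw [sum_congr rfl h1, sum_congr rfl h2, sum_const, sum_const, smul_eq_mul, smul_eq_mul,
    mul_one] at hdc
  rw [hdc, hTT, card_between (subset_univ J) hj, card_univ]

/-- **The number of blocks of a Steiner system.** -/
theorem ncard_blocks (hB : IsSteinerSystem t k B) :
    B.ncard * Nat.choose k t = Nat.choose (Fintype.card α) t := by
  have := card_blocks_through hB (J := ∅) (by simp)
  simp only [card_empty, Nat.sub_zero] at this
  rw [← this, ← card_blocksF]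
  congr 2
  ext b
  simp

/-- the sum over the blocks `c` of the number of `j`-subsets of `b ∩ c` -/
theorem sum_choose_inter (hB : IsSteinerSystem t k B) {b : Finset α} (hb : b ∈ B) {j : ℕ}
    (hj : j ≤ t) :
    (∑ c ∈ blocksF B, Nat.choose (b ∩ c).card j) * Nat.choose (k - j) (t - j) =
      Nat.choose k j * Nat.choose (Fintype.card α - j) (t - j) := by
  classical
  have hbk : b.card = k := hB.1 b hb
  have hdc := sum_card_bipartiteAbove_eq_sum_card_bipartiteBelow
    (s := blocksF B) (t := b.powersetCard j) (fun (c : Finset α) (J : Finset α) => J ⊆ c)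
  have h1 : ∀ c ∈ blocksF B, ((b.powersetCard j).bipartiteAbove
      (fun (c : Finset α) (J : Finset α) => J ⊆ c) c).card = Nat.choose (b ∩ c).card j := by
    intro c _
    rw [← card_powersetCard]
    congr 1
    ext J
    simp only [bipartiteAbove, mem_filter, mem_powersetCard, subset_inter_iff]
    tauto
  rw [sum_congr rfl h1] at hdc
  rw [hdc, sum_mul]
  have h2 : ∀ J ∈ b.powersetCard j, ((blocksF B).bipartiteBelow
      (fun (c : Finset α) (J : Finset α) => J ⊆ c) J).card * Nat.choose (k - j) (t - j) =
      Nat.choose (Fintype.card α - j) (t - j) := by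
    intro J hJ
    rw [mem_powersetCard] at hJ
    have := card_blocks_through hB (J := J) (by rw [hJ.2]; exact hj)
    rw [hJ.2] at this
    exact this
  rw [sum_congr rfl h2, sum_const, card_powersetCard, hbk, smul_eq_mul]

/-- the number of blocks meeting `b` in exactly `i` points -/
noncomputable def nI (B : Set (Finset α)) (b : Finset α) (i : ℕ) : ℕ :=
  {c | c ∈ B ∧ (b ∩ c).card = i}.ncard

theorem sum_regroup {b : Finset α} (hbk : b.card = k) (j : ℕ) :
    ∑ c ∈ blocksF B, Nat.choose (b ∩ c).card j = ∑ i ∈ range (k + 1), nI B b i * Nat.choose i j := by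
  classical
  have hmaps : ∀ c ∈ blocksF B, (b ∩ c).card ∈ range (k + 1) := by
    intro c _
    rw [mem_range, Nat.lt_succ_iff, ← hbk]
    exact card_le_card inter_subset_left
  rw [← sum_fiberwise_of_maps_to hmaps]
  apply sum_congr rfl
  intro i _
  have : ∀ c ∈ (blocksF B).filter (fun c => (b ∩ c).card = i),
      Nat.choose (b ∩ c).card j = Nat.choose i j := by
    intro c hc
    rw [(mem_filter.mp hc).2]
  rw [sum_congr rfl this, sum_const, smul_eq_mul, nI, ncard_eq_card_filter]

/-- **The intersection equations** of a Steiner system. -/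
theorem inter_eqn (hB : IsSteinerSystem t k B) {b : Finset α} (hb : b ∈ B) {j : ℕ} (hj : j ≤ t) :
    (∑ i ∈ range (k + 1), nI B b i * Nat.choose i j) * Nat.choose (k - j) (t - j) =
      Nat.choose k j * Nat.choose (Fintype.card α - j) (t - j) := by
  rw [← sum_regroup (hB.1 b hb), sum_choose_inter hB hb hj]

theorem nI_self (hB : IsSteinerSystem t k B) {b : Finset α} (hb : b ∈ B) : 1 ≤ nI B b k := by
  rw [nI, Nat.one_le_iff_ne_zero, Ne, Set.ncard_eq_zero (Set.toFinite _)]
  intro h
  have : b ∈ ({c | c ∈ B ∧ (b ∩ c).card = k} : Set (Finset α)) := ⟨hb, by rw [inter_self, hB.1 b hb]⟩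
  rw [h] at this
  exact this

theorem nI_pos_of_mem {b c : Finset α} (hc : c ∈ B) : nI B b (b ∩ c).card ≠ 0 := by
  rw [nI, Ne, Set.ncard_eq_zero (Set.toFinite _)]
  intro h
  have : c ∈ ({c' | c' ∈ B ∧ (b ∩ c').card = (b ∩ c).card} : Set (Finset α)) := ⟨hc, rfl⟩
  rw [h] at this
  exact this

theorem inter_card_le (hB : IsSteinerSystem t k B) {b : Finset α} (hb : b ∈ B) (c : Finset α) :
    (b ∩ c).card ≤ k := by
  rw [← hB.1 b hb]
  exact card_le_card inter_subset_left

theorem eq_of_inter_card (hB : IsSteinerSystem t k B) {b c : Finset α} (hb : b ∈ B) (hc : c ∈ B)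
    (h : (b ∩ c).card = k) : b = c := by
  have h1 : b ∩ c = b := eq_of_subset_of_card_le inter_subset_left (by rw [h, hB.1 b hb])
  have h2 : b ∩ c = c := eq_of_subset_of_card_le inter_subset_right (by rw [h, hB.1 c hc])
  rw [← h1, h2]

end Cfsg.Agent.Lib.Helper6.Steiner
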