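import Mathlib

/-! Bit masks for subsets of `Fin v`. -/

set_option autoImplicit false

namespace Cfsg.Agent.Lib.Helper6.SteinerSearch

/-- decoding of a bit mask -/
def dec (v : ℕ) (m : ℕ) : Finset (Fin v) := Finset.univ.filter (fun i => m.testBit i.val = true)

theorem mem_dec {v m : ℕ} {i : Fin v} : i ∈ dec v m ↔ m.testBit i.val = true := by
  simp [dec]

/-- encoding of a subset -/
def enc {v : ℕ} (s : Finset (Fin v)) : ℕ := ∑ i ∈ s, 2 ^ i.val

theorem testBit_enc {v : ℕ} (s : Finset (Fin v)) (j : ℕ) :
    (enc s).testBit j = true ↔ ∃ i ∈ s, i.val = j := by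
  have h : enc s = ∑ i ∈ s.map Fin.valEmbedding, 2 ^ i := by
    unfold enc; rw [Finset.sum_map]; rfl
  rw [h, ← Nat.mem_bitIndices, ← List.mem_toFinset, Finset.toFinset_bitIndices_sum_two_pow]
  simp

theorem dec_enc {v : ℕ} (s : Finset (Fin v)) : dec v (enc s) = s := by
  ext i
  rw [mem_dec, testBit_enc]
  constructor
  · rintro ⟨i', hi', e⟩
    rwa [← Fin.ext e]
  · intro hi
    exact ⟨i, hi, rfl⟩

theorem enc_lt {v : ℕ} (s : Finset (Fin v)) : enc s < 2 ^ v := by
  apply Nat.lt_pow_two_of_testBit
  intro j hj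
  by_contra h
  rw [Bool.not_eq_false, testBit_enc] at h
  obtain ⟨i, _, rfl⟩ := h
  exact absurd i.2 (by omega)

theorem testBit_false_of_lt {v m j : ℕ} (hm : m < 2 ^ v) (hj : v ≤ j) : m.testBit j = false :=
  Nat.testBit_lt_two_pow (lt_of_lt_of_le hm (Nat.pow_le_pow_right (by norm_num) hj))

/-- coverage of a mask by a mask -/
def covB (S p : ℕ) : Bool := Nat.beq (Nat.land p S) S

theorem dec_subset_of_covB {v S p : ℕ} (h : covB S p = true) : dec v S ⊆ dec v p := by
  have e : p &&& S = S := Nat.eq_of_beq_eq_true h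
  intro i hi
  rw [mem_dec] at hi ⊢
  rw [← e, Nat.testBit_and] at hi
  exact (Bool.and_eq_true _ _ ▸ hi).1

theorem covB_of_dec_subset {v S p : ℕ} (hS : S < 2 ^ v) (h : dec v S ⊆ dec v p) :
    covB S p = true := by
  have e : p &&& S = S := by
    apply Nat.eq_of_testBit_eq
    intro j
    rw [Nat.testBit_and]
    by_cases hj : j < v
    · cases hSj : S.testBit j
      · simp
      · have := h (mem_dec.2 (show S.testBit (⟨j, hj⟩ : Fin v).val = true from hSj))
        rw [mem_dec] at this
        simp [show p.testBit j = true from this]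
    · rw [testBit_false_of_lt hS (by omega)]; simp
  unfold covB
  show Nat.beq (p &&& S) S = true
  rw [e]
  exact Nat.beq_refl S

theorem covB_or_two_pow (S x : ℕ) : covB S (Nat.lor S (2 ^ x)) = true := by
  have e : (S ||| 2 ^ x) &&& S = S := by
    apply Nat.eq_of_testBit_eq
    intro j
    rw [Nat.testBit_and, Nat.testBit_or]
    cases S.testBit j <;> simp
  unfold covB
  show Nat.beq ((S ||| 2 ^ x) &&& S) S = true
  rw [e]
  exact Nat.beq_refl S

/-- coverage by a list -/
def covered (S : ℕ) : List ℕ → Bool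
  | [] => false
  | p :: P => covB S p || covered S P

theorem covered_iff {S : ℕ} {P : List ℕ} : covered S P = true ↔ ∃ p ∈ P, covB S p = true := by
  induction P with
  | nil => simp [covered]
  | cons p P ih => simp [covered, ih]

/-- two masks differ by at most one point of the first -/
def incB (m p : ℕ) : Bool :=
  Nat.beq (Nat.xor m (Nat.land m p)) 0 ||
    Nat.beq (2 ^ Nat.log2 (Nat.xor m (Nat.land m p))) (Nat.xor m (Nat.land m p))

theorem testBit_sdiff (m p j : ℕ) :
    (m ^^^ (m &&& p)).testBit j = (m.testBit j && !p.testBit j) := by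
  rw [Nat.testBit_xor, Nat.testBit_and]
  cases m.testBit j <;> cases p.testBit j <;> rfl

theorem card_sdiff_le_one_of_incB {v m p : ℕ} (h : incB m p = true) :
    (dec v m \ dec v p).card ≤ 1 := by
  unfold incB at h
  rw [Bool.or_eq_true] at h
  have hd : ∀ i : Fin v, i ∈ dec v m \ dec v p ↔ (m ^^^ (m &&& p)).testBit i.val = true := by
    intro i
    rw [Finset.mem_sdiff, mem_dec, mem_dec, testBit_sdiff]
    cases m.testBit i.val <;> cases p.testBit i.val <;> simp
  rcases h with h | h
  · have e : m ^^^ (m &&& p) = 0 := Nat.eq_of_beq_eq_true h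
    have : dec v m \ dec v p = ∅ := by
      ext i
      rw [hd, e]
      simp
    rw [this]; simp
  · have e : 2 ^ Nat.log2 (m ^^^ (m &&& p)) = m ^^^ (m &&& p) := Nat.eq_of_beq_eq_true h
    set l := Nat.log2 (m ^^^ (m &&& p))
    rw [Finset.card_le_one]
    intro a ha b hb
    rw [hd, ← e, Nat.testBit_two_pow, decide_eq_true_eq] at ha hb
    exact Fin.ext (ha.symm.trans hb)

/-- incompatibility with a list -/
def incAny (m : ℕ) : List ℕ → Bool
  | [] => false
  | p :: P => incB m p || incAny m P

theorem incAny_iff {m : ℕ} {P : List ℕ} : incAny m P = true ↔ ∃ p ∈ P, incB m p = true := by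
  induction P with
  | nil => simp [incAny]
  | cons p P ih => simp [incAny, ih]

/-- population count of the first `n` bits -/
def popc (m : ℕ) : ℕ → ℕ
  | 0 => 0
  | i + 1 => popc m i + cond (Nat.testBit m i) 1 0

theorem popc_eq_sum (m n : ℕ) : popc m n = ∑ i ∈ Finset.range n, if m.testBit i = true then 1 else 0 := by
  induction n with
  | zero => rfl
  | succ n ih =>
    rw [popc, ih, Finset.sum_range_succ]
    cases m.testBit n <;> rfl

theorem card_dec (v m : ℕ) : (dec v m).card = popc m v := by
  rw [popc_eq_sum, dec, Finset.card_filter, Fin.sum_univ_eq_sum_range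
    (fun i => if m.testBit i = true then 1 else 0)]

theorem dec_and (v a b : ℕ) : dec v (Nat.land a b) = dec v a ∩ dec v b := by
  ext i
  rw [Finset.mem_inter, mem_dec, mem_dec, mem_dec]
  show (a &&& b).testBit i.val = true ↔ _
  rw [Nat.testBit_and, Bool.and_eq_true]

theorem dec_or_two_pow (v S : ℕ) (x : Fin v) :
    dec v (Nat.lor S (2 ^ x.val)) = insert x (dec v S) := by
  ext i
  rw [Finset.mem_insert, mem_dec, mem_dec]
  show (S ||| 2 ^ x.val).testBit i.val = true ↔ _
  rw [Nat.testBit_or, Nat.testBit_two_pow, Bool.or_eq_true, decide_eq_true_eq]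
  constructor
  · rintro (h | h)
    · exact Or.inr h
    · exact Or.inl (Fin.ext h.symm)
  · rintro (h | h)
    · exact Or.inr (by rw [h])
    · exact Or.inl h

end Cfsg.Agent.Lib.Helper6.SteinerSearch
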