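import Mathlib
import Cfsg.Prelude.Def_Sporadic_a
import Cfsg.Agent.Lib.Helper6.SteinerMask

/-! Exhaustive search for Steiner systems `S(t, t+1, v)` on `Fin v`, with a soundness proof. -/

set_option autoImplicit false

namespace Cfsg.Agent.Lib.Helper6.SteinerSearch

open Cfsg

variable {v t : ℕ} {B : Set (Finset (Fin v))}

theorem block_unique (hB : IsSteinerSystem t (t + 1) B) {b b' : Finset (Fin v)}
    (hb : b ∈ B) (hb' : b' ∈ B) (h : t ≤ (b ∩ b').card) : b = b' := by
  obtain ⟨s, hs, hst⟩ := Finset.exists_subset_card_eq h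
  obtain ⟨c, _, hc⟩ := hB.2 s hst
  have h1 := hc b ⟨hb, hs.trans Finset.inter_subset_left⟩
  have h2 := hc b' ⟨hb', hs.trans Finset.inter_subset_right⟩
  rw [h1, h2]

theorem exists_ext (hB : IsSteinerSystem t (t + 1) B) (s : Finset (Fin v)) (hs : s.card = t) :
    ∃ x, x ∉ s ∧ insert x s ∈ B := by
  obtain ⟨b, ⟨hb, hsb⟩, _⟩ := hB.2 s hs
  have hbc := hB.1 b hb
  have h1 : (b \ s).card = 1 := by
    rw [Finset.card_sdiff_of_subset hsb, hbc, hs]; omega
  obtain ⟨x, hx⟩ := Finset.card_eq_one.1 h1
  have hxm : x ∈ b \ s := by rw [hx]; exact Finset.mem_singleton_self x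
  rw [Finset.mem_sdiff] at hxm
  refine ⟨x, hxm.2, ?_⟩
  have : insert x s = b := by
    rw [← Finset.sdiff_union_of_subset hsb, hx]
    rfl
  rw [this]; exact hb

/-- all candidate extensions of `S` pass `f` -/
def allCands (S : ℕ) (f : ℕ → Bool) : ℕ → Bool
  | 0 => true
  | x + 1 => (Nat.testBit S x || f (Nat.lor S (2 ^ x))) && allCands S f x

theorem allCands_spec {S : ℕ} {f : ℕ → Bool} {n : ℕ} (h : allCands S f n = true) (x : ℕ)
    (hx : x < n) : Nat.testBit S x = true ∨ f (Nat.lor S (2 ^ x)) = true := by
  induction n with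
  | zero => omega
  | succ n ih =>
    unfold allCands at h
    rw [Bool.and_eq_true, Bool.or_eq_true] at h
    rcases Nat.lt_succ_iff_lt_or_eq.1 hx with h1 | h1
    · exact ih h.2 h1
    · rw [h1]; exact h.1

/-- the exhaustive search -/
def search (v : ℕ) (leaf : List ℕ → Bool) : List ℕ → List ℕ → Bool
  | [], P => leaf P
  | S :: Q, P =>
    cond (covered S P) (search v leaf Q P)
      (allCands S (fun m => incAny m P || search v leaf Q (m :: P)) v)

theorem search_sound (hB : IsSteinerSystem t (t + 1) B) (leaf : List ℕ → Bool) (allQ : List ℕ)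
    (Goal : Prop)
    (hleaf : ∀ P, leaf P = true → (∀ p ∈ P, dec v p ∈ B) →
      (∀ S ∈ allQ, covered S P = true) → Goal) :
    ∀ Q P, search v leaf Q P = true → (∀ p ∈ P, dec v p ∈ B) →
      (∀ S ∈ allQ, S ∈ Q ∨ covered S P = true) →
      (∀ S ∈ Q, S < 2 ^ v ∧ (dec v S).card = t) → Goal := by
  intro Q
  induction Q with
  | nil =>
    intro P h hP hinv _
    exact hleaf P h hP (fun S hS => (hinv S hS).resolve_left (by simp))
  | cons S Q ih =>
    intro P h hP hinv hQ
    unfold search at h
    have hQ' : ∀ S' ∈ Q, S' < 2 ^ v ∧ (dec v S').card = t :=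
      fun S' hS' => hQ S' (List.mem_cons_of_mem _ hS')
    obtain ⟨hSlt, hScard⟩ := hQ S (List.mem_cons_self ..)
    cases hc : covered S P with
    | true =>
      rw [hc] at h
      refine ih P h hP ?_ hQ'
      intro S' hS'
      rcases hinv S' hS' with h1 | h1
      · rcases List.mem_cons.1 h1 with h2 | h2
        · right; rw [h2]; exact hc
        · left; exact h2
      · right; exact h1
    | false =>
      rw [hc] at h
      obtain ⟨x, hx, hxB⟩ := exists_ext hB (dec v S) hScard
      have hdm : dec v (Nat.lor S (2 ^ x.val)) = insert x (dec v S) := dec_or_two_pow v S x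
      have hxS : Nat.testBit S x.val = false := by
        rw [mem_dec] at hx
        exact Bool.eq_false_iff.2 hx
      rcases allCands_spec h x.val x.2 with h1 | h1
      · rw [hxS] at h1; exact absurd h1 (by simp)
      · rw [Bool.or_eq_true] at h1
        rcases h1 with h1 | h1
        · exfalso
          obtain ⟨p, hp, hpi⟩ := incAny_iff.1 h1
          have hle := card_sdiff_le_one_of_incB (v := v) hpi
          have hmB : dec v (Nat.lor S (2 ^ x.val)) ∈ B := by rw [hdm]; exact hxB
          have hmc := hB.1 _ hmB
          have hsum := Finset.card_inter_add_card_sdiff (dec v (Nat.lor S (2 ^ x.val))) (dec v p)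
          have heq := block_unique hB hmB (hP p hp) (by omega)
          have hsub : dec v S ⊆ dec v p := by
            rw [← heq, hdm]
            exact Finset.subset_insert _ _
          have := covered_iff.2 ⟨p, hp, covB_of_dec_subset hSlt hsub⟩
          rw [hc] at this
          exact absurd this (by simp)
        · refine ih (Nat.lor S (2 ^ x.val) :: P) h1 ?_ ?_ hQ'
          · intro p hp
            rcases List.mem_cons.1 hp with h2 | h2
            · rw [h2, hdm]; exact hxB
            · exact hP p h2
          · intro S' hS'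
            rcases hinv S' hS' with h2 | h2
            · rcases List.mem_cons.1 h2 with h3 | h3
              · right
                rw [h3]
                exact covered_iff.2 ⟨_, List.mem_cons_self .., covB_or_two_pow S x.val⟩
              · left; exact h3
            · right
              obtain ⟨p, hp, hpc⟩ := covered_iff.1 h2
              exact covered_iff.2 ⟨p, List.mem_cons_of_mem _ hp, hpc⟩

end Cfsg.Agent.Lib.Helper6.SteinerSearch
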