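import Mathlib
import Cfsg.Prelude.Def_Sporadic_a
import Cfsg.Agent.Lib.Helper6.SteinerMask
import Cfsg.Agent.Lib.Helper6.SteinerSearch

/-! Exhaustive search for Steiner systems `S(t, k, v)` on `Fin v` with general `k`, with a
soundness proof. -/

set_option autoImplicit false

namespace Cfsg.Agent.Lib.Helper6.SteinerG

open Cfsg Cfsg.Agent.Lib.Helper6.SteinerSearch

/-- clearing the top bit -/
def clearTop (x : ℕ) : ℕ := Nat.xor x (2 ^ Nat.log2 x)

theorem dec_clearTop {v x : ℕ} (hx : x ≠ 0) (hlt : x < 2 ^ v) :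
    ∃ j : Fin v, j ∈ dec v x ∧ dec v (clearTop x) = (dec v x).erase j ∧ clearTop x < 2 ^ v := by
  have hj : Nat.log2 x < v := (Nat.log2_lt hx).2 hlt
  refine ⟨⟨Nat.log2 x, hj⟩, ?_, ?_, ?_⟩
  · rw [mem_dec]; exact Nat.testBit_log2 hx
  · ext i
    rw [mem_dec, Finset.mem_erase, mem_dec]
    show (x ^^^ 2 ^ Nat.log2 x).testBit i.val = true ↔ _
    rw [Nat.testBit_xor, Nat.testBit_two_pow]
    by_cases h : Nat.log2 x = i.val
    · have hb : x.testBit i.val = true := by rw [← h]; exact Nat.testBit_log2 hx
      constructor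
      · intro h'
        rw [hb, decide_eq_true h] at h'
        exact absurd h' (by decide)
      · rintro ⟨h1, _⟩
        exact absurd (Fin.ext h.symm) h1
    · have hi : i ≠ ⟨Nat.log2 x, hj⟩ := fun e => h (by rw [e])
      rw [decide_eq_false h, Bool.xor_false]
      exact ⟨fun h' => ⟨hi, h'⟩, fun h' => h'.2⟩
  · exact Nat.xor_lt_two_pow hlt (Nat.pow_lt_pow_right (by norm_num) hj)

/-- the mask has at least `n` points -/
def geN : ℕ → ℕ → Bool
  | 0, _ => true
  | n + 1, x => cond (Nat.beq x 0) false (geN n (clearTop x))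

theorem dec_zero (v : ℕ) : dec v 0 = ∅ := by
  ext i
  rw [mem_dec]
  simp

theorem geN_iff {v : ℕ} : ∀ (n x : ℕ), x < 2 ^ v → (geN n x = true ↔ n ≤ (dec v x).card)
  | 0, x, _ => by simp [geN]
  | n + 1, x, hlt => by
    unfold geN
    by_cases hx : x = 0
    · subst hx
      rw [dec_zero]
      simp
    · have hb : Nat.beq x 0 = false := by
        cases h : Nat.beq x 0
        · rfl
        · exact absurd (Nat.eq_of_beq_eq_true h) hx
      rw [hb, cond_false]
      obtain ⟨j, hj, he, hl⟩ := dec_clearTop hx hlt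
      rw [geN_iff n _ hl, he, Finset.card_erase_of_mem hj]
      have := Finset.card_pos.2 ⟨j, hj⟩
      omega

/-- the union of the blocks meeting `cur` in at least `n` points -/
def forbid (n cur : ℕ) : List ℕ → ℕ
  | [] => 0
  | p :: P => cond (geN n (Nat.land p cur)) (Nat.lor p (forbid n cur P)) (forbid n cur P)

theorem testBit_forbid {n cur : ℕ} {P : List ℕ} {y : ℕ} (h : (forbid n cur P).testBit y = true) :
    ∃ p ∈ P, geN n (Nat.land p cur) = true ∧ p.testBit y = true := by
  induction P with
  | nil => simp [forbid] at h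
  | cons p P ih =>
    unfold forbid at h
    cases hg : geN n (Nat.land p cur) with
    | false =>
      rw [hg, cond_false] at h
      obtain ⟨q, hq, h1, h2⟩ := ih h
      exact ⟨q, List.mem_cons_of_mem _ hq, h1, h2⟩
    | true =>
      rw [hg, cond_true] at h
      have h' : (p ||| forbid n cur P).testBit y = true := h
      rw [Nat.testBit_or, Bool.or_eq_true] at h'
      rcases h' with h' | h'
      · exact ⟨p, List.mem_cons_self .., hg, h'⟩
      · obtain ⟨q, hq, h1, h2⟩ := ih h'
        exact ⟨q, List.mem_cons_of_mem _ hq, h1, h2⟩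

/-- the available points -/
def avl (v forb cur : ℕ) : ℕ := Nat.land (2 ^ v - 1) (Nat.xor (2 ^ v - 1) (Nat.lor forb cur))

theorem testBit_avl (v forb cur y : ℕ) :
    (avl v forb cur).testBit y = (decide (y < v) && !(forb.testBit y || cur.testBit y)) := by
  show ((2 ^ v - 1) &&& ((2 ^ v - 1) ^^^ (forb ||| cur))).testBit y = _
  rw [Nat.testBit_and, Nat.testBit_xor, Nat.testBit_or, Nat.testBit_two_pow_sub_one]
  cases decide (y < v) <;> cases forb.testBit y <;> cases cur.testBit y <;> rfl

theorem avl_lt (v forb cur : ℕ) : avl v forb cur < 2 ^ v := by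
  have h : avl v forb cur ≤ 2 ^ v - 1 := Nat.and_le_left
  have : 0 < 2 ^ v := Nat.two_pow_pos v
  omega

/-- the loop over the candidate points below a bound -/
def loop (g : ℕ → ℕ → Bool) (need cur avail : ℕ) : ℕ → Bool
  | 0 => true
  | x + 1 =>
    cond (Nat.testBit avail x && geN need (Nat.land avail (2 ^ x - 1)))
      (g (Nat.lor cur (2 ^ x)) x) true && loop g need cur avail x

theorem loop_spec {g : ℕ → ℕ → Bool} {need cur avail : ℕ} : ∀ n, loop g need cur avail n = true →
    ∀ x < n, Nat.testBit avail x = true → geN need (Nat.land avail (2 ^ x - 1)) = true →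
      g (Nat.lor cur (2 ^ x)) x = true := by
  intro n
  induction n with
  | zero => intro _ x hx; omega
  | succ n ih =>
    intro h x hx h1 h2
    unfold loop at h
    rw [Bool.and_eq_true] at h
    rcases Nat.lt_succ_iff_lt_or_eq.1 hx with h3 | h3
    · exact ih h.2 x h3 h1 h2
    · subst h3
      have := h.1
      rw [h1, h2] at this
      exact this

/-- all completions of `cur` by `need` points below `bound`, compatible with `P`, pass `f` -/
def ext (n v : ℕ) (P : List ℕ) (f : ℕ → Bool) : ℕ → ℕ → ℕ → Bool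
  | 0, cur, _ => f cur
  | need + 1, cur, bound =>
    loop (fun cur' x => ext n v P f need cur' x) need cur (avl v (forbid n cur P) cur) bound

theorem avail_of_mem {n v : ℕ} {P : List ℕ} {b : Finset (Fin v)}
    (hcompat : ∀ p ∈ P, (dec v p ∩ b).card ≤ n) {cur : ℕ} (hcur : cur < 2 ^ v)
    (hsub : dec v cur ⊆ b) {y : Fin v} (hy : y ∈ b) (hyc : y ∉ dec v cur) :
    (avl v (forbid n cur P) cur).testBit y.val = true := by
  rw [testBit_avl]
  have h1 : cur.testBit y.val = false := by
    rw [mem_dec] at hyc
    exact Bool.eq_false_iff.2 hyc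
  have h2 : (forbid n cur P).testBit y.val = false := by
    apply Bool.eq_false_iff.2
    intro h
    obtain ⟨p, hp, hg, hpy⟩ := testBit_forbid h
    have hlt : Nat.land p cur < 2 ^ v := Nat.and_lt_two_pow p hcur
    rw [geN_iff n _ hlt, dec_and] at hg
    have hsub2 : insert y (dec v p ∩ dec v cur) ⊆ dec v p ∩ b := by
      intro z hz
      rw [Finset.mem_insert] at hz
      rcases hz with rfl | hz
      · exact Finset.mem_inter.2 ⟨mem_dec.2 hpy, hy⟩
      · rw [Finset.mem_inter] at hz ⊢
        exact ⟨hz.1, hsub hz.2⟩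
    have hni : y ∉ dec v p ∩ dec v cur := fun h => hyc (Finset.mem_inter.1 h).2
    have := Finset.card_le_card hsub2
    rw [Finset.card_insert_of_notMem hni] at this
    have := hcompat p hp
    omega
  rw [h1, h2]
  simp [y.2]

theorem ext_sound {n v : ℕ} {P : List ℕ} {f : ℕ → Bool} (b : Finset (Fin v))
    (hcompat : ∀ p ∈ P, (dec v p ∩ b).card ≤ n) :
    ∀ need cur bound, cur < 2 ^ v → dec v cur ⊆ b → (b \ dec v cur).card = need →
      (∀ y ∈ b \ dec v cur, y.val < bound) → ext n v P f need cur bound = true →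
      ∃ m, m < 2 ^ v ∧ dec v m = b ∧ covB cur m = true ∧ f m = true := by
  intro need
  induction need with
  | zero =>
    intro cur bound hcur hsub hcard _ h
    unfold ext at h
    refine ⟨cur, hcur, ?_, ?_, h⟩
    · rw [Finset.card_eq_zero, Finset.sdiff_eq_empty_iff_subset] at hcard
      exact Finset.Subset.antisymm hsub hcard
    · exact covB_of_dec_subset hcur (Finset.Subset.refl _)
  | succ need ih =>
    intro cur bound hcur hsub hcard hbound h
    unfold ext at h
    set R := b \ dec v cur with hR
    have hne : R.Nonempty := by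
      rw [← Finset.card_pos, hcard]; omega
    set x := R.max' hne with hx
    have hxR : x ∈ R := Finset.max'_mem R hne
    have hxb : x ∈ b := (Finset.mem_sdiff.1 hxR).1
    have hxc : x ∉ dec v cur := (Finset.mem_sdiff.1 hxR).2
    have hav : ∀ y ∈ R, (avl v (forbid n cur P) cur).testBit y.val = true := by
      intro y hy
      rw [hR, Finset.mem_sdiff] at hy
      exact avail_of_mem hcompat hcur hsub hy.1 hy.2
    have hlook : geN need (Nat.land (avl v (forbid n cur P) cur) (2 ^ x.val - 1)) = true := by
      have hlt : Nat.land (avl v (forbid n cur P) cur) (2 ^ x.val - 1) < 2 ^ v := by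
        refine lt_of_le_of_lt Nat.and_le_left (avl_lt _ _ _)
      rw [geN_iff need _ hlt]
      have hsubR : R.erase x ⊆ dec v (Nat.land (avl v (forbid n cur P) cur) (2 ^ x.val - 1)) := by
        intro y hy
        have hyR : y ∈ R := Finset.mem_of_mem_erase hy
        have hyx : y < x := Finset.lt_max'_of_mem_erase_max' R hne hy
        rw [dec_and, Finset.mem_inter, mem_dec, mem_dec]
        refine ⟨hav y hyR, ?_⟩
        rw [Nat.testBit_two_pow_sub_one]
        exact decide_eq_true hyx
      have := Finset.card_le_card hsubR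
      rw [Finset.card_erase_of_mem hxR, hcard] at this
      omega
    have hg := loop_spec bound h x.val (hbound x hxR) (hav x hxR) hlook
    have hdm : dec v (Nat.lor cur (2 ^ x.val)) = insert x (dec v cur) := dec_or_two_pow v cur x
    have hcur' : Nat.lor cur (2 ^ x.val) < 2 ^ v :=
      Nat.or_lt_two_pow hcur (Nat.pow_lt_pow_right (by norm_num) x.2)
    have hsd : b \ dec v (Nat.lor cur (2 ^ x.val)) = R.erase x := by
      rw [hdm, hR]
      ext z
      simp only [Finset.mem_sdiff, Finset.mem_insert, Finset.mem_erase]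
      tauto
    obtain ⟨m, hm1, hm2, hm3, hm4⟩ := ih (Nat.lor cur (2 ^ x.val)) x.val hcur'
      (by rw [hdm]; exact Finset.insert_subset hxb hsub)
      (by rw [hsd, Finset.card_erase_of_mem hxR, hcard]; rfl)
      (by
        intro y hy
        rw [hsd] at hy
        exact Finset.lt_max'_of_mem_erase_max' R hne hy)
      hg
    refine ⟨m, hm1, hm2, ?_, hm4⟩
    apply covB_of_dec_subset hcur
    rw [hm2]; exact hsub

variable {v t k : ℕ} {B : Set (Finset (Fin v))}

theorem block_uniqueG (hB : IsSteinerSystem t k B) {b b' : Finset (Fin v)}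
    (hb : b ∈ B) (hb' : b' ∈ B) (h : t ≤ (b ∩ b').card) : b = b' := by
  obtain ⟨s, hs, hst⟩ := Finset.exists_subset_card_eq h
  obtain ⟨c, _, hc⟩ := hB.2 s hst
  have h1 := hc b ⟨hb, hs.trans Finset.inter_subset_left⟩
  have h2 := hc b' ⟨hb', hs.trans Finset.inter_subset_right⟩
  rw [h1, h2]

/-- a block outside the list is compatible with the list -/
theorem compat_of_not_mem (hB : IsSteinerSystem t k B) (ht : 1 ≤ t) {P : List ℕ}
    (hP : ∀ p ∈ P, p < 2 ^ v ∧ dec v p ∈ B) {b : Finset (Fin v)} (hb : b ∈ B)
    (hnot : ∀ p ∈ P, dec v p ≠ b) : ∀ p ∈ P, (dec v p ∩ b).card ≤ t - 1 := by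
  intro p hp
  by_contra hlt
  exact hnot p hp (block_uniqueG hB (hP p hp).2 hb (by omega))

/-- the exhaustive search; every entry of the agenda is a `t`-set together with a (possibly empty)
list of hint blocks: when the list is non-empty, only the hint blocks are used for pruning -/
def gsearch (n v need : ℕ) (leaf : List ℕ → Bool) : List (ℕ × List ℕ) → List ℕ → Bool
  | [], P => leaf P
  | e :: Q, P =>
    cond (covered e.1 P) (gsearch n v need leaf Q P)
      (match e.2 with
       | [] => ext n v P (fun m => gsearch n v need leaf Q (m :: P)) need e.1 v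
       | h :: H =>
         !covered e.1 (h :: H) &&
           ext n v (h :: H) (fun m => gsearch n v need leaf Q (m :: P)) need e.1 v)

theorem gsearch_sound (hB : IsSteinerSystem t k B) (ht : 1 ≤ t) (leaf : List ℕ → Bool)
    (Goal : Prop)
    (hleaf : ∀ P, leaf P = true → (∀ p ∈ P, p < 2 ^ v ∧ dec v p ∈ B) → P.Nodup → Goal) :
    ∀ Q P, gsearch (t - 1) v (k - t) leaf Q P = true → (∀ p ∈ P, p < 2 ^ v ∧ dec v p ∈ B) →
      P.Nodup → (∀ e ∈ Q, (e.1 < 2 ^ v ∧ (dec v e.1).card = t) ∧
        ∀ h ∈ e.2, h < 2 ^ v ∧ dec v h ∈ B) → Goal := by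
  intro Q
  induction Q with
  | nil =>
    intro P h hP hnd _
    exact hleaf P h hP hnd
  | cons e Q ih =>
    intro P h hP hnd hQ
    unfold gsearch at h
    have hQ' : ∀ e' ∈ Q, (e'.1 < 2 ^ v ∧ (dec v e'.1).card = t) ∧
        ∀ h ∈ e'.2, h < 2 ^ v ∧ dec v h ∈ B :=
      fun e' he' => hQ e' (List.mem_cons_of_mem _ he')
    obtain ⟨⟨hSlt, hScard⟩, hH⟩ := hQ e (List.mem_cons_self ..)
    cases hc : covered e.1 P with
    | true =>
      rw [hc] at h
      exact ih P h hP hnd hQ'
    | false =>
      rw [hc, cond_false] at h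
      obtain ⟨b, ⟨hb, hSb⟩, _⟩ := hB.2 (dec v e.1) hScard
      have hnot : ∀ p ∈ P, dec v p ≠ b := by
        intro p hp e'
        have := covered_iff.2 ⟨p, hp, covB_of_dec_subset hSlt (by rw [e']; exact hSb)⟩
        rw [hc] at this
        exact absurd this (by simp)
      have hbc := hB.1 b hb
      have hfin : ∀ m, m < 2 ^ v → dec v m = b →
          gsearch (t - 1) v (k - t) leaf Q (m :: P) = true → Goal := by
        intro m hm1 hm2 hm4
        refine ih (m :: P) hm4 ?_ ?_ hQ'
        · intro p hp
          rcases List.mem_cons.1 hp with h2 | h2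
          · rw [h2, hm2]; exact ⟨hm1, hb⟩
          · exact hP p h2
        · rw [List.nodup_cons]
          exact ⟨fun hmP => hnot m hmP hm2, hnd⟩
      have hcardR : (b \ dec v e.1).card = k - t := by
        rw [Finset.card_sdiff_of_subset hSb, hbc, hScard]
      cases hh : e.2 with
      | nil =>
        rw [hh] at h
        obtain ⟨m, hm1, hm2, _, hm4⟩ := ext_sound
          (f := fun m => gsearch (t - 1) v (k - t) leaf Q (m :: P))
          b (compat_of_not_mem hB ht hP hb hnot) (k - t) e.1 v hSlt hSb hcardR (fun y _ => y.2) h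
        exact hfin m hm1 hm2 hm4
      | cons h0 H =>
        rw [hh] at h
        simp only [Bool.and_eq_true, Bool.not_eq_true'] at h
        obtain ⟨hcH, h⟩ := h
        have hH' : ∀ p ∈ h0 :: H, p < 2 ^ v ∧ dec v p ∈ B := by
          intro p hp; rw [← hh] at hp; exact hH p hp
        have hnotH : ∀ p ∈ h0 :: H, dec v p ≠ b := by
          intro p hp e'
          have := covered_iff.2 ⟨p, hp, covB_of_dec_subset hSlt (by rw [e']; exact hSb)⟩
          rw [hcH] at this
          exact absurd this (by simp)
        obtain ⟨m, hm1, hm2, _, hm4⟩ := ext_sound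
          (f := fun m => gsearch (t - 1) v (k - t) leaf Q (m :: P))
          b (compat_of_not_mem hB ht hH' hb hnotH) (k - t) e.1 v hSlt hSb hcardR
          (fun y _ => y.2) h
        exact hfin m hm1 hm2 hm4

end Cfsg.Agent.Lib.Helper6.SteinerG
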