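import Mathlib
import Cfsg.Prelude.Def_Sporadic_a
import Cfsg.Agent.Lib.Helper6.SteinerSearch

/-! The leaves of the exhaustive search: identification with a reference system. -/

set_option autoImplicit false

namespace Cfsg.Agent.Lib.Helper6.SteinerSearch

open Cfsg

/-- validity of a permutation list -/
def validPerm (v : ℕ) (π : List ℕ) : Bool :=
  decide (π.length = v) && π.all (fun a => decide (a < v)) && decide π.Nodup

theorem validPerm_spec {v : ℕ} {π : List ℕ} (h : validPerm v π = true) :
    π.length = v ∧ (∀ a ∈ π, a < v) ∧ π.Nodup := by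
  unfold validPerm at h
  rw [Bool.and_eq_true, Bool.and_eq_true, decide_eq_true_eq, decide_eq_true_eq,
    List.all_eq_true] at h
  refine ⟨h.1.1, fun a ha => ?_, h.2⟩
  have := h.1.2 a ha
  rwa [decide_eq_true_eq] at this

theorem getD_lt {v : ℕ} {π : List ℕ} (h : validPerm v π = true) (i : Fin v) :
    π.getD i.val 0 < v := by
  obtain ⟨h1, h2, _⟩ := validPerm_spec h
  have hi : i.val < π.length := by rw [h1]; exact i.2
  rw [List.getD_eq_getElem _ _ hi]
  exact h2 _ (List.getElem_mem hi)

/-- the underlying function of a valid permutation list -/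
def lfun (v : ℕ) (π : List ℕ) (h : validPerm v π = true) (i : Fin v) : Fin v :=
  ⟨π.getD i.val 0, getD_lt h i⟩

theorem lfun_injective (v : ℕ) (π : List ℕ) (h : validPerm v π = true) :
    Function.Injective (lfun v π h) := by
  obtain ⟨h1, _, h3⟩ := validPerm_spec h
  intro i j hij
  have hi : i.val < π.length := by rw [h1]; exact i.2
  have hj : j.val < π.length := by rw [h1]; exact j.2
  have e : π.getD i.val 0 = π.getD j.val 0 := congrArg Fin.val hij
  rw [List.getD_eq_getElem _ _ hi, List.getD_eq_getElem _ _ hj] at e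
  exact Fin.ext ((List.Nodup.getElem_inj_iff h3).1 e)

/-- the permutation of a valid list -/
noncomputable def lperm (v : ℕ) (π : List ℕ) (h : validPerm v π = true) : Equiv.Perm (Fin v) :=
  Equiv.ofBijective (lfun v π h) (Finite.injective_iff_bijective.1 (lfun_injective v π h))

theorem lperm_apply (v : ℕ) (π : List ℕ) (h : validPerm v π = true) (i : Fin v) :
    (lperm v π h i).val = π.getD i.val 0 := rfl

/-- image of a mask under a permutation list -/
def pmask (π : List ℕ) (b : ℕ) : ℕ → ℕ
  | 0 => 0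
  | i + 1 => cond (Nat.testBit b i) (Nat.lor (pmask π b i) (2 ^ π.getD i 0)) (pmask π b i)

theorem testBit_pmask (π : List ℕ) (b n j : ℕ) :
    (pmask π b n).testBit j = true ↔ ∃ i < n, b.testBit i = true ∧ π.getD i 0 = j := by
  induction n with
  | zero => simp [pmask]
  | succ n ih =>
    unfold pmask
    cases hb : b.testBit n with
    | false =>
      rw [cond_false, ih]
      constructor
      · rintro ⟨i, hi, h1, h2⟩
        exact ⟨i, by omega, h1, h2⟩
      · rintro ⟨i, hi, h1, h2⟩
        rcases Nat.lt_succ_iff_lt_or_eq.1 hi with h3 | h3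
        · exact ⟨i, h3, h1, h2⟩
        · rw [h3, hb] at h1; exact absurd h1 (by simp)
    | true =>
      rw [cond_true]
      show (pmask π b n ||| 2 ^ π.getD n 0).testBit j = true ↔ _
      rw [Nat.testBit_or, Bool.or_eq_true, ih, Nat.testBit_two_pow, decide_eq_true_eq]
      constructor
      · rintro (⟨i, hi, h1, h2⟩ | h)
        · exact ⟨i, by omega, h1, h2⟩
        · exact ⟨n, by omega, hb, h⟩
      · rintro ⟨i, hi, h1, h2⟩
        rcases Nat.lt_succ_iff_lt_or_eq.1 hi with h3 | h3
        · exact Or.inl ⟨i, h3, h1, h2⟩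
        · right; rw [← h3]; exact h2

theorem dec_pmask {v : ℕ} (π : List ℕ) (h : validPerm v π = true) (b : ℕ) :
    dec v (pmask π b v) = (dec v b).image (lperm v π h) := by
  ext j
  rw [mem_dec, testBit_pmask, Finset.mem_image]
  constructor
  · rintro ⟨i, hi, h1, h2⟩
    refine ⟨⟨i, hi⟩, mem_dec.2 h1, ?_⟩
    apply Fin.ext
    rw [lperm_apply]; exact h2
  · rintro ⟨i, hi, rfl⟩
    exact ⟨i.val, i.2, mem_dec.1 hi, (lperm_apply v π h i).symm⟩

/-- membership in a list of numbers -/
def lmem (a : ℕ) : List ℕ → Bool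
  | [] => false
  | b :: l => Nat.beq a b || lmem a l

theorem lmem_iff {a : ℕ} {l : List ℕ} : lmem a l = true ↔ a ∈ l := by
  induction l with
  | nil => simp [lmem]
  | cons b l ih =>
    unfold lmem
    rw [Bool.or_eq_true, ih, List.mem_cons]
    constructor
    · rintro (h | h)
      · exact Or.inl (Nat.eq_of_beq_eq_true h)
      · exact Or.inr h
    · rintro (h | h)
      · left; rw [h]; exact Nat.beq_refl b
      · exact Or.inr h

/-- the reference system as a set of subsets -/
def B0set (v : ℕ) (B0 : List ℕ) : Set (Finset (Fin v)) := {b | ∃ β ∈ B0, dec v β = b}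

/-- the check at the leaves -/
def leafCheck (v : ℕ) (W : List (List ℕ)) (B0 : List ℕ) (P : List ℕ) : Bool :=
  W.any (fun π => P.all (fun b => lmem (pmask π b v) B0))

/-- the goal: an isomorphism onto the reference system fixing the first `t` points -/
def GoalP {v : ℕ} (t : ℕ) (B : Set (Finset (Fin v))) (B0 : List ℕ) : Prop :=
  ∃ σ : Equiv.Perm (Fin v), (∀ i : Fin v, i.val < t → σ i = i) ∧
    ∀ b, b ∈ B ↔ b.image σ ∈ B0set v B0

theorem exists_mask_of_card {v t : ℕ} (allQ : List ℕ)
    (hallQ : ∀ m < 2 ^ v, popc m v = t → m ∈ allQ) (s : Finset (Fin v)) (hs : s.card = t) :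
    ∃ S ∈ allQ, dec v S = s := by
  refine ⟨enc s, hallQ _ (enc_lt s) ?_, dec_enc s⟩
  rw [← card_dec, dec_enc, hs]

theorem leaf_goal {v t : ℕ} {B : Set (Finset (Fin v))} (hB : IsSteinerSystem t (t + 1) B)
    (W : List (List ℕ)) (B0 allQ : List ℕ)
    (hW : ∀ π ∈ W, validPerm v π = true ∧ ∀ i < t, π.getD i 0 = i)
    (hallQ : ∀ m < 2 ^ v, popc m v = t → m ∈ allQ)
    (hB0card : ∀ β ∈ B0, popc β v = t + 1)
    (hB0lin : ∀ β ∈ B0, ∀ β' ∈ B0, β = β' ∨ popc (Nat.land β β') v < t)
    (P : List ℕ) (hleaf : leafCheck v W B0 P = true) (hP : ∀ p ∈ P, dec v p ∈ B)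
    (hcov : ∀ S ∈ allQ, covered S P = true) : GoalP t B B0 := by
  unfold leafCheck at hleaf
  rw [List.any_eq_true] at hleaf
  obtain ⟨π, hπ, hall⟩ := hleaf
  rw [List.all_eq_true] at hall
  obtain ⟨hv, hfix⟩ := hW π hπ
  -- every block is in `P`
  have hBP : ∀ b ∈ B, ∃ p ∈ P, dec v p = b := by
    intro b hb
    have hbc := hB.1 b hb
    obtain ⟨s, hs, hst⟩ := Finset.exists_subset_card_eq (show t ≤ b.card by omega)
    obtain ⟨S, hS, hSs⟩ := exists_mask_of_card allQ hallQ s hst
    obtain ⟨p, hp, hpc⟩ := covered_iff.1 (hcov S hS)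
    refine ⟨p, hp, ?_⟩
    have hsub := dec_subset_of_covB (v := v) hpc
    rw [hSs] at hsub
    apply block_unique hB (hP p hp) hb
    calc t = s.card := hst.symm
      _ ≤ (dec v p ∩ b).card := Finset.card_le_card (Finset.subset_inter hsub hs)
  have hfwd : ∀ b ∈ B, b.image (lperm v π hv) ∈ B0set v B0 := by
    intro b hb
    obtain ⟨p, hp, rfl⟩ := hBP b hb
    refine ⟨pmask π p v, lmem_iff.1 (hall p hp), ?_⟩
    exact dec_pmask π hv p
  refine ⟨lperm v π hv, ?_, fun b => ⟨hfwd b, ?_⟩⟩
  · intro i hi
    apply Fin.ext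
    rw [lperm_apply]
    exact hfix i.val hi
  · rintro ⟨β, hβ, hβb⟩
    have hinj : Function.Injective (lperm v π hv) := (lperm v π hv).injective
    have hbc : b.card = t + 1 := by
      rw [← Finset.card_image_of_injective b hinj, ← hβb, card_dec]
      exact hB0card β hβ
    obtain ⟨s, hs, hst⟩ := Finset.exists_subset_card_eq (show t ≤ b.card by omega)
    obtain ⟨b', ⟨hb', hsb'⟩, _⟩ := hB.2 s hst
    obtain ⟨β', hβ', hβb'⟩ := hfwd b' hb'
    have hinter : t ≤ (dec v β ∩ dec v β').card := by
      rw [hβb, hβb']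
      calc t = (s.image (lperm v π hv)).card := by
            rw [Finset.card_image_of_injective s hinj, hst]
        _ ≤ _ := Finset.card_le_card (Finset.subset_inter (Finset.image_subset_image hs)
            (Finset.image_subset_image hsb'))
    rcases hB0lin β hβ β' hβ' with h1 | h1
    · have : b.image (lperm v π hv) = b'.image (lperm v π hv) := by
        rw [← hβb, ← hβb', h1]
      rw [Finset.image_injective hinj this]
      exact hb'
    · rw [← dec_and, card_dec] at hinter
      omega

end Cfsg.Agent.Lib.Helper6.SteinerSearch
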