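import Mathlib
import Cfsg.Prelude.Def_Sporadic_a
import Cfsg.Agent.Lib.Helper6.SteinerLeaf

/-! Relabelling of set systems, and the "without loss of generality" step. -/

set_option autoImplicit false

namespace Cfsg.Agent.Lib.Helper6.SteinerSearch

open Cfsg

variable {v t : ℕ}

/-- the image of a set system under a permutation -/
def imgSys (σ : Equiv.Perm (Fin v)) (B : Set (Finset (Fin v))) : Set (Finset (Fin v)) :=
  {b | b.image σ.symm ∈ B}

theorem image_symm_image (σ : Equiv.Perm (Fin v)) (c : Finset (Fin v)) :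
    (c.image σ).image σ.symm = c := by
  rw [Finset.image_image]
  have : (σ.symm ∘ σ : Fin v → Fin v) = id := by
    funext i; exact σ.symm_apply_apply i
  rw [this, Finset.image_id]

theorem image_image_symm (σ : Equiv.Perm (Fin v)) (c : Finset (Fin v)) :
    (c.image σ.symm).image σ = c := by
  have := image_symm_image σ.symm c
  rwa [Equiv.symm_symm] at this

theorem image_mem_imgSys {σ : Equiv.Perm (Fin v)} {B : Set (Finset (Fin v))}
    {c : Finset (Fin v)} : c.image σ ∈ imgSys σ B ↔ c ∈ B := by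
  unfold imgSys
  rw [Set.mem_ofPred_eq, image_symm_image]

theorem steiner_imgSys {k : ℕ} (σ : Equiv.Perm (Fin v)) {B : Set (Finset (Fin v))}
    (hB : IsSteinerSystem t k B) : IsSteinerSystem t k (imgSys σ B) := by
  constructor
  · intro b hb
    have := hB.1 _ hb
    rwa [Finset.card_image_of_injective _ σ.symm.injective] at this
  · intro s hs
    have hs' : (s.image σ.symm).card = t := by
      rw [Finset.card_image_of_injective _ σ.symm.injective, hs]
    obtain ⟨b, ⟨hb, hsb⟩, hu⟩ := hB.2 _ hs'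
    refine ⟨b.image σ, ⟨image_mem_imgSys.2 hb, ?_⟩, ?_⟩
    · have := Finset.image_subset_image (f := σ) hsb
      rwa [image_image_symm] at this
    · rintro c ⟨hc, hsc⟩
      have := hu (c.image σ.symm) ⟨hc, Finset.image_subset_image hsc⟩
      rw [← this, image_image_symm]

theorem goal_of_imgSys {B : Set (Finset (Fin v))} {B0 : List ℕ} (σ : Equiv.Perm (Fin v))
    (hσ : ∀ i : Fin v, i.val < t → σ i = i) (h : GoalP t (imgSys σ B) B0) : GoalP t B B0 := by
  obtain ⟨σ', hσ', hiff⟩ := h
  refine ⟨σ' * σ, fun i hi => ?_, fun c => ?_⟩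
  · rw [Equiv.Perm.mul_apply, hσ i hi, hσ' i hi]
  · rw [← image_mem_imgSys (σ := σ), hiff, Finset.image_image]
    rfl

theorem val_lt_of_mem_dec {m a : ℕ} (hm : m < 2 ^ a) {i : Fin v} (hi : i ∈ dec v m) :
    i.val < a := by
  by_contra h
  rw [mem_dec, testBit_false_of_lt hm (by omega)] at hi
  exact absurd hi (by simp)

theorem image_eq_self_of_fix {σ : Equiv.Perm (Fin v)} {c : Finset (Fin v)}
    (h : ∀ i ∈ c, σ i = i) : c.image σ = c := by
  ext j
  rw [Finset.mem_image]
  constructor
  · rintro ⟨i, hi, rfl⟩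
    rw [h i hi]; exact hi
  · intro hj
    exact ⟨j, hj, h j hj⟩

theorem wlog_step {B : Set (Finset (Fin v))} (hB : IsSteinerSystem t (t + 1) B)
    (L : List ℕ) (hL : ∀ p ∈ L, dec v p ∈ B) (a : Fin v) (hLa : ∀ p ∈ L, p < 2 ^ a.val)
    (S : ℕ) (hS : S < 2 ^ a.val) (hScard : (dec v S).card = t)
    (hchk : ∀ y < a.val, Nat.testBit S y = false →
      ∃ p ∈ L, incB (Nat.lor S (2 ^ y)) p = true ∧ covB S p = false) :
    ∃ σ : Equiv.Perm (Fin v), (∀ i : Fin v, i.val < a.val → σ i = i) ∧
      (∀ p ∈ L, dec v p ∈ imgSys σ B) ∧ dec v (Nat.lor S (2 ^ a.val)) ∈ imgSys σ B := by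
  obtain ⟨x, hx, hxB⟩ := exists_ext hB (dec v S) hScard
  have hSv : S < 2 ^ v := lt_of_lt_of_le hS (Nat.pow_le_pow_right (by norm_num) a.2.le)
  have hxa : a.val ≤ x.val := by
    by_contra hlt
    have hxS : Nat.testBit S x.val = false := by
      rw [mem_dec] at hx
      exact Bool.eq_false_iff.2 hx
    obtain ⟨p, hp, hpi, hpc⟩ := hchk x.val (by omega) hxS
    have hdm : dec v (Nat.lor S (2 ^ x.val)) = insert x (dec v S) := dec_or_two_pow v S x
    have hmB : dec v (Nat.lor S (2 ^ x.val)) ∈ B := by rw [hdm]; exact hxB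
    have hle := card_sdiff_le_one_of_incB (v := v) hpi
    have hmc := hB.1 _ hmB
    have hsum := Finset.card_inter_add_card_sdiff (dec v (Nat.lor S (2 ^ x.val))) (dec v p)
    have heq := block_unique hB hmB (hL p hp) (by omega)
    have hsub : dec v S ⊆ dec v p := by
      rw [← heq, hdm]
      exact Finset.subset_insert _ _
    rw [covB_of_dec_subset hSv hsub] at hpc
    exact absurd hpc (by simp)
  have hfix : ∀ i : Fin v, i.val < a.val → Equiv.swap a x i = i := by
    intro i hi
    apply Equiv.swap_apply_of_ne_of_ne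
    · intro e; rw [e] at hi; omega
    · intro e; rw [e] at hi; omega
  refine ⟨Equiv.swap a x, hfix, fun p hp => ?_, ?_⟩
  · unfold imgSys
    rw [Set.mem_ofPred_eq, Equiv.symm_swap, image_eq_self_of_fix]
    · exact hL p hp
    · intro i hi
      exact hfix i (val_lt_of_mem_dec (hLa p hp) hi)
  · unfold imgSys
    rw [Set.mem_ofPred_eq, Equiv.symm_swap, dec_or_two_pow v S a, Finset.image_insert,
      Equiv.swap_apply_left, image_eq_self_of_fix]
    · exact hxB
    · intro i hi
      exact hfix i (val_lt_of_mem_dec hS hi)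

end Cfsg.Agent.Lib.Helper6.SteinerSearch
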