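import Mathlib
import Cfsg.Agent.Lib.Helper6.SteinerG
import Cfsg.Agent.Lib.Helper6.SteinerLeaf
import Cfsg.Agent.Lib.Helper6.SteinerWlog
import Cfsg.Agent.Lib.Helper6.Steiner

/-! The leaves of the general exhaustive search: identification with a reference system by
counting blocks. -/

set_option autoImplicit false

namespace Cfsg.Agent.Lib.Helper6.SteinerG

open Cfsg Cfsg.Agent.Lib.Helper6.SteinerSearch

theorem dec_inj {v m m' : ℕ} (hm : m < 2 ^ v) (hm' : m' < 2 ^ v) (h : dec v m = dec v m') :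
    m = m' := by
  apply Nat.eq_of_testBit_eq
  intro j
  by_cases hj : j < v
  · have h1 : (⟨j, hj⟩ : Fin v) ∈ dec v m ↔ (⟨j, hj⟩ : Fin v) ∈ dec v m' := by rw [h]
    rw [mem_dec, mem_dec] at h1
    cases h2 : m.testBit j <;> cases h3 : m'.testBit j <;> simp_all
  · rw [testBit_false_of_lt hm (by omega), testBit_false_of_lt hm' (by omega)]

/-- the check at the leaves -/
def leafG (v N : ℕ) (W : List (List ℕ)) (B0 : List ℕ) (P : List ℕ) : Bool :=
  Nat.beq P.length N && W.any (fun π => P.all (fun b => lmem (pmask π b v) B0))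

/-- the goal: an isomorphism onto the reference system -/
def GoalG {v : ℕ} (B : Set (Finset (Fin v))) (B0 : List ℕ) : Prop :=
  ∃ σ : Equiv.Perm (Fin v), ∀ b, b ∈ B ↔ b.image σ ∈ B0set v B0

theorem goalG_of_imgSys {v : ℕ} {B : Set (Finset (Fin v))} {B0 : List ℕ} (σ : Equiv.Perm (Fin v))
    (h : GoalG (imgSys σ B) B0) : GoalG B B0 := by
  obtain ⟨σ', hiff⟩ := h
  refine ⟨σ' * σ, fun c => ?_⟩
  rw [← image_mem_imgSys (σ := σ), hiff, Finset.image_image]
  rfl

theorem leafG_goal {v t k N : ℕ} {B : Set (Finset (Fin v))} (hB : IsSteinerSystem t k B)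
    (hN : N * Nat.choose k t = Nat.choose v t) (hpos : 0 < Nat.choose k t)
    (W : List (List ℕ)) (B0 : List ℕ) (hW : ∀ π ∈ W, validPerm v π = true) (hB0 : B0.length ≤ N)
    (P : List ℕ) (hleaf : leafG v N W B0 P = true) (hP : ∀ p ∈ P, p < 2 ^ v ∧ dec v p ∈ B)
    (hnd : P.Nodup) :
    ∃ π, ∃ h : validPerm v π = true, π ∈ W ∧
      ∀ b, b ∈ B ↔ b.image (lperm v π h) ∈ B0set v B0 := by
  classical
  unfold leafG at hleaf
  rw [Bool.and_eq_true, List.any_eq_true] at hleaf
  obtain ⟨hlen, π, hπ, hall⟩ := hleaf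
  have hlen : P.length = N := Nat.eq_of_beq_eq_true hlen
  rw [List.all_eq_true] at hall
  have hv := hW π hπ
  refine ⟨π, hv, hπ, ?_⟩
  -- the number of blocks
  have hBN : B.ncard = N := by
    have := Steiner.ncard_blocks hB
    rw [Fintype.card_fin, ← hN] at this
    exact Nat.eq_of_mul_eq_mul_right hpos this
  -- the blocks are exactly the members of `P`
  have hinjP : ∀ x ∈ P, ∀ y ∈ P, dec v x = dec v y → x = y :=
    fun x hx y hy h => dec_inj (hP x hx).1 (hP y hy).1 h
  set PF : Finset (Finset (Fin v)) := (P.map (dec v)).toFinset with hPF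
  have hPFcard : PF.card = N := by
    rw [hPF, List.toFinset_card_of_nodup (List.Nodup.map_on hinjP hnd), List.length_map, hlen]
  have hPFsub : (PF : Set (Finset (Fin v))) ⊆ B := by
    intro b hb
    rw [Finset.mem_coe, hPF, List.mem_toFinset, List.mem_map] at hb
    obtain ⟨p, hp, rfl⟩ := hb
    exact (hP p hp).2
  have hPFeq : (PF : Set (Finset (Fin v))) = B := by
    apply Set.eq_of_subset_of_ncard_le hPFsub
    rw [Set.ncard_coe_finset, hPFcard, hBN]
  have hBP : ∀ b, b ∈ B ↔ ∃ p ∈ P, dec v p = b := by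
    intro b
    rw [← hPFeq, Finset.mem_coe, hPF, List.mem_toFinset, List.mem_map]
  set σ := lperm v π hv with hσ
  have hinj : Function.Injective σ := σ.injective
  -- the images of the members of `P` exhaust the reference list
  set IM : Finset ℕ := (P.map (fun p => pmask π p v)).toFinset with hIM
  have hinjI : ∀ x ∈ P, ∀ y ∈ P, pmask π x v = pmask π y v → x = y := by
    intro x hx y hy h
    apply hinjP x hx y hy
    have h1 := dec_pmask π hv x
    have h2 := dec_pmask π hv y
    rw [h] at h1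
    rw [h1] at h2
    exact Finset.image_injective hinj h2
  have hIMcard : IM.card = N := by
    rw [hIM, List.toFinset_card_of_nodup (List.Nodup.map_on hinjI hnd), List.length_map, hlen]
  have hIMsub : IM ⊆ B0.toFinset := by
    intro β hβ
    rw [hIM, List.mem_toFinset, List.mem_map] at hβ
    obtain ⟨p, hp, rfl⟩ := hβ
    rw [List.mem_toFinset]
    exact lmem_iff.1 (hall p hp)
  have hIMeq : IM = B0.toFinset := by
    apply Finset.eq_of_subset_of_card_le hIMsub
    rw [hIMcard]
    exact (List.toFinset_card_le B0).trans hB0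
  intro b
  constructor
  · intro hb
    obtain ⟨p, hp, rfl⟩ := (hBP b).1 hb
    exact ⟨pmask π p v, lmem_iff.1 (hall p hp), dec_pmask π hv p⟩
  · rintro ⟨β, hβ, hβb⟩
    have : β ∈ IM := by rw [hIMeq, List.mem_toFinset]; exact hβ
    rw [hIM, List.mem_toFinset, List.mem_map] at this
    obtain ⟨p, hp, rfl⟩ := this
    rw [dec_pmask π hv p] at hβb
    have := Finset.image_injective hinj hβb
    rw [← this]
    exact (hBP _).2 ⟨p, hp, rfl⟩

end Cfsg.Agent.Lib.Helper6.SteinerG
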