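import Mathlib
import Cfsg.Agent.Lib.Helper6.SteinerGLeaf

/-! Chains of "without loss of generality" steps justified by explicit relabellings. -/

set_option autoImplicit false

namespace Cfsg.Agent.Lib.Helper6.SteinerG

open Cfsg Cfsg.Agent.Lib.Helper6.SteinerSearch

/-- a step of the chain: start a new block from a `t`-set, or add a point to the current block -/
inductive Step
  | start (S : ℕ)
  | add (a : ℕ) (W : List (List ℕ))

/-- the relabelling fixes the points of `cur` -/
def fixChk (π : List ℕ) (cur : ℕ) : ℕ → Bool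
  | 0 => true
  | i + 1 => (!Nat.testBit cur i || Nat.beq (π.getD i 0) i) && fixChk π cur i

theorem fixChk_spec {π : List ℕ} {cur : ℕ} : ∀ n, fixChk π cur n = true → ∀ i < n,
    Nat.testBit cur i = true → π.getD i 0 = i := by
  intro n
  induction n with
  | zero => intro _ i hi; omega
  | succ n ih =>
    intro h i hi hb
    unfold fixChk at h
    rw [Bool.and_eq_true] at h
    rcases Nat.lt_succ_iff_lt_or_eq.1 hi with h1 | h1
    · exact ih h.2 i h1 hb
    · subst h1
      have := h.1
      rw [hb] at this
      simpa using Nat.eq_of_beq_eq_true (by simpa using this)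

/-- the relabelling `π` is a symmetry of the configuration moving `a` to `x` -/
def permOK (v : ℕ) (L : List ℕ) (cur a x : ℕ) (π : List ℕ) : Bool :=
  validPerm v π && Nat.beq (π.getD a 0) x && fixChk π cur v &&
    L.all (fun p => lmem (pmask π p v) L)

/-- every available point is the image of `a` under a symmetry of the configuration -/
def addChk (v : ℕ) (L : List ℕ) (cur a : ℕ) (W : List (List ℕ)) (avail : ℕ) : ℕ → Bool
  | 0 => true
  | x + 1 => (!Nat.testBit avail x || W.any (permOK v L cur a x)) && addChk v L cur a W avail x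

theorem addChk_spec {v : ℕ} {L : List ℕ} {cur a : ℕ} {W : List (List ℕ)} {avail : ℕ} :
    ∀ n, addChk v L cur a W avail n = true → ∀ x < n, Nat.testBit avail x = true →
      ∃ π ∈ W, permOK v L cur a x π = true := by
  intro n
  induction n with
  | zero => intro _ x hx; omega
  | succ n ih =>
    intro h x hx hb
    unfold addChk at h
    rw [Bool.and_eq_true] at h
    rcases Nat.lt_succ_iff_lt_or_eq.1 hx with h1 | h1
    · exact ih h.2 x h1 hb
    · subst h1
      have := h.1
      rw [hb] at this
      simpa using this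

/-- the check of a chain -/
def chainChk (t k v : ℕ) (fin : List ℕ → ℕ → Bool) : List Step → List ℕ → ℕ → Bool
  | [], L, cur => fin L cur
  | Step.start S :: r, L, cur =>
    Nat.beq (popc cur v) k && Nat.beq (popc S v) t && decide (S < 2 ^ v) &&
      !covered S (cur :: L) && chainChk t k v fin r (cur :: L) S
  | Step.add a W :: r, L, cur =>
    decide (a < v) && decide (popc cur v < k) &&
      addChk v L cur a W (avl v (forbid (t - 1) cur L) cur) v &&
      chainChk t k v fin r L (Nat.lor cur (2 ^ a))

variable {v t k : ℕ}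

/-- the invariant of a chain -/
structure Inv (t : ℕ) (B : Set (Finset (Fin v))) (L : List ℕ) (cur : ℕ) : Prop where
  hL : ∀ p ∈ L, p < 2 ^ v ∧ dec v p ∈ B
  hcur : cur < 2 ^ v
  hblk : ∃ b ∈ B, dec v cur ⊆ b
  hcard : t ≤ (dec v cur).card
  hunc : covered cur L = false

theorem chain_sound {B0 : List ℕ} (ht : 1 ≤ t) (fin : List ℕ → ℕ → Bool)
    (hfin : ∀ (B' : Set (Finset (Fin v))) L' cur', IsSteinerSystem t k B' → fin L' cur' = true →
      Inv t B' L' cur' → GoalG B' B0) :
    ∀ steps L cur (B : Set (Finset (Fin v))), IsSteinerSystem t k B →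
      chainChk t k v fin steps L cur = true → Inv t B L cur → GoalG B B0 := by
  intro steps
  induction steps with
  | nil =>
    intro L cur B hB h hinv
    exact hfin B L cur hB h hinv
  | cons s r ih =>
    intro L cur B hB h hinv
    cases s with
    | start S =>
      unfold chainChk at h
      simp only [Bool.and_eq_true, decide_eq_true_eq, Bool.not_eq_true'] at h
      obtain ⟨⟨⟨⟨h1, h2⟩, h3⟩, h4⟩, h5⟩ := h
      have h1 : popc cur v = k := Nat.eq_of_beq_eq_true h1
      have h2 : popc S v = t := Nat.eq_of_beq_eq_true h2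
      obtain ⟨b, hb, hsub⟩ := hinv.hblk
      have hcb : dec v cur = b := by
        apply Finset.eq_of_subset_of_card_le hsub
        rw [hB.1 b hb, card_dec, h1]
      refine ih (cur :: L) S B hB h5 ⟨?_, h3, ?_, ?_, h4⟩
      · intro p hp
        rcases List.mem_cons.1 hp with e | e
        · rw [e, hcb]; exact ⟨hinv.hcur, hb⟩
        · exact hinv.hL p e
      · obtain ⟨b', ⟨hb', hsb'⟩, _⟩ := hB.2 (dec v S) (by rw [card_dec, h2])
        exact ⟨b', hb', hsb'⟩
      · rw [card_dec, h2]
    | add a W =>
      unfold chainChk at h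
      simp only [Bool.and_eq_true, decide_eq_true_eq] at h
      obtain ⟨⟨⟨ha, hlt⟩, hadd⟩, hrest⟩ := h
      obtain ⟨b, hb, hsub⟩ := hinv.hblk
      have hbc := hB.1 b hb
      have hne : (b \ dec v cur).Nonempty := by
        rw [← Finset.card_pos, Finset.card_sdiff_of_subset hsub, hbc, card_dec]
        omega
      obtain ⟨x, hx⟩ := hne
      rw [Finset.mem_sdiff] at hx
      have hnot : ∀ p ∈ L, dec v p ≠ b := by
        intro p hp e
        have := covered_iff.2 ⟨p, hp, covB_of_dec_subset hinv.hcur (by rw [e]; exact hsub)⟩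
        rw [hinv.hunc] at this
        exact absurd this (by simp)
      have hav := avail_of_mem (compat_of_not_mem hB ht hinv.hL hb hnot) hinv.hcur hsub hx.1 hx.2
      obtain ⟨π, _, hπ⟩ := addChk_spec v hadd x.val x.2 hav
      unfold permOK at hπ
      simp only [Bool.and_eq_true, List.all_eq_true] at hπ
      obtain ⟨⟨⟨hv, hax⟩, hfix⟩, hLL⟩ := hπ
      have hax : π.getD a 0 = x.val := Nat.eq_of_beq_eq_true hax
      set τ := lperm v π hv with hτ
      have hτa : τ ⟨a, ha⟩ = x := by
        apply Fin.ext
        rw [hτ, lperm_apply]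
        exact hax
      have hτfix : ∀ i ∈ dec v cur, τ i = i := by
        intro i hi
        apply Fin.ext
        rw [hτ, lperm_apply]
        exact fixChk_spec v hfix i.val i.2 (mem_dec.1 hi)
      have hB' := steiner_imgSys τ.symm hB
      refine goalG_of_imgSys τ.symm (ih L (Nat.lor cur (2 ^ a)) (imgSys τ.symm B) hB' hrest
        ⟨?_, ?_, ?_, ?_, ?_⟩)
      · intro p hp
        refine ⟨(hinv.hL p hp).1, ?_⟩
        unfold imgSys
        rw [Set.mem_ofPred_eq, Equiv.symm_symm, hτ, ← dec_pmask π hv p]
        exact (hinv.hL _ (lmem_iff.1 (hLL p hp))).2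
      · exact Nat.or_lt_two_pow hinv.hcur (Nat.pow_lt_pow_right (by norm_num) ha)
      · refine ⟨b.image τ.symm, image_mem_imgSys.2 hb, ?_⟩
        have hdm : dec v (Nat.lor cur (2 ^ a)) = insert (⟨a, ha⟩ : Fin v) (dec v cur) :=
          dec_or_two_pow v cur ⟨a, ha⟩
        rw [hdm]
        intro i hi
        rw [Finset.mem_insert] at hi
        rw [Finset.mem_image]
        rcases hi with rfl | hi
        · exact ⟨x, hx.1, by rw [Equiv.symm_apply_eq, hτa]⟩
        · exact ⟨i, hsub hi, by rw [Equiv.symm_apply_eq, hτfix i hi]⟩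
      · have hdm : dec v (Nat.lor cur (2 ^ a)) = insert (⟨a, ha⟩ : Fin v) (dec v cur) :=
          dec_or_two_pow v cur ⟨a, ha⟩
        rw [hdm]
        exact hinv.hcard.trans (Finset.card_le_card (Finset.subset_insert _ _))
      · apply Bool.eq_false_iff.2
        intro hc
        obtain ⟨p, hp, hpc⟩ := covered_iff.1 hc
        have hdm : dec v (Nat.lor cur (2 ^ a)) = insert (⟨a, ha⟩ : Fin v) (dec v cur) :=
          dec_or_two_pow v cur ⟨a, ha⟩
        have hs := dec_subset_of_covB (v := v) hpc
        rw [hdm] at hs
        have := covered_iff.2 ⟨p, hp, covB_of_dec_subset hinv.hcur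
          ((Finset.subset_insert _ _).trans hs)⟩
        rw [hinv.hunc] at this
        exact absurd this (by simp)

end Cfsg.Agent.Lib.Helper6.SteinerG
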