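import Mathlib
import Cfsg.Agent.Lib.Helper6.SteinerSearch

/-! Splitting the exhaustive search into independently checked pieces. -/

set_option autoImplicit false

namespace Cfsg.Agent.Lib.Helper6.SteinerSearch

/-- equality of lists of numbers -/
def leq : List ℕ → List ℕ → Bool
  | [], [] => true
  | a :: l, b :: l' => Nat.beq a b && leq l l'
  | _, _ => false

theorem leq_iff {l l' : List ℕ} : leq l l' = true ↔ l = l' := by
  induction l generalizing l' with
  | nil => cases l' <;> simp [leq]
  | cons a l ih =>
    cases l' with
    | nil => simp [leq]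
    | cons b l' =>
      unfold leq
      rw [Bool.and_eq_true, ih, List.cons.injEq]
      constructor
      · rintro ⟨h1, h2⟩; exact ⟨Nat.eq_of_beq_eq_true h1, h2⟩
      · rintro ⟨h1, h2⟩; exact ⟨by rw [h1]; exact Nat.beq_refl b, h2⟩

/-- membership of a state in the table -/
def tmem (k : ℕ) (P : List ℕ) : List (ℕ × List ℕ) → Bool
  | [] => false
  | e :: T => (Nat.beq k e.1 && leq P e.2) || tmem k P T

theorem tmem_iff {k : ℕ} {P : List ℕ} {T : List (ℕ × List ℕ)} :
    tmem k P T = true ↔ (k, P) ∈ T := by
  induction T with
  | nil => simp [tmem]
  | cons e T ih =>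
    unfold tmem
    rw [Bool.or_eq_true, ih, List.mem_cons, Bool.and_eq_true, leq_iff]
    constructor
    · rintro (⟨h1, h2⟩ | h)
      · left
        have := Nat.eq_of_beq_eq_true h1
        exact Prod.ext this h2
      · exact Or.inr h
    · rintro (h | h)
      · left
        rw [← h]
        exact ⟨Nat.beq_refl k, rfl⟩
      · exact Or.inr h

/-- the search with a depth budget; below the budget the table is consulted -/
def searchD (v : ℕ) (leaf : List ℕ → Bool) (T : List (ℕ × List ℕ)) :
    ℕ → ℕ → List ℕ → List ℕ → Bool
  | _, _, [], P => leaf P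
  | d, k, S :: Q, P =>
    cond (covered S P) (searchD v leaf T d (k + 1) Q P)
      (match d with
       | 0 => tmem k P T
       | d' + 1 =>
         allCands S (fun m => incAny m P || searchD v leaf T d' (k + 1) Q (m :: P)) v)

theorem allCands_mono {S : ℕ} {f g : ℕ → Bool} (hfg : ∀ m, f m = true → g m = true) {n : ℕ}
    (h : allCands S f n = true) : allCands S g n = true := by
  induction n with
  | zero => rfl
  | succ n ih =>
    unfold allCands at h ⊢
    rw [Bool.and_eq_true, Bool.or_eq_true] at h ⊢
    refine ⟨?_, ih h.2⟩
    rcases h.1 with h1 | h1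
    · exact Or.inl h1
    · exact Or.inr (hfg _ h1)

theorem searchD_sound (v : ℕ) (leaf : List ℕ → Bool) (allQ : List ℕ) (T : List (ℕ × List ℕ))
    (hT : ∀ e ∈ T, search v leaf (allQ.drop e.1) e.2 = true) :
    ∀ (Q : List ℕ) (d k : ℕ) (P : List ℕ), Q = allQ.drop k →
      searchD v leaf T d k Q P = true → search v leaf Q P = true := by
  intro Q
  induction Q with
  | nil =>
    intro d k P _ h
    unfold searchD at h
    unfold search
    exact h
  | cons S Q ih =>
    intro d k P hQ h
    have hQ' : Q = allQ.drop (k + 1) := by
      have := congrArg List.tail hQ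
      rw [List.tail_cons, List.tail_drop] at this
      exact this
    unfold searchD at h
    unfold search
    cases hc : covered S P with
    | true =>
      rw [hc] at h
      exact ih d (k + 1) P hQ' h
    | false =>
      rw [hc] at h
      cases d with
      | zero =>
        have h1 := hT _ (tmem_iff.1 h)
        rw [← hQ] at h1
        unfold search at h1
        rw [hc] at h1
        exact h1
      | succ d' =>
        refine allCands_mono (fun m hm => ?_) h
        rw [Bool.or_eq_true] at hm ⊢
        rcases hm with hm | hm
        · exact Or.inl hm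
        · exact Or.inr (ih d' (k + 1) (m :: P) hQ' hm)

end Cfsg.Agent.Lib.Helper6.SteinerSearch
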