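import Mathlib
import Cfsg.Agent.Lib.Helper6.SteinerG
import Cfsg.Agent.Lib.Helper6.SteinerSplit

/-! Splitting the general exhaustive search into independently checked pieces. -/

set_option autoImplicit false

namespace Cfsg.Agent.Lib.Helper6.SteinerG

open Cfsg Cfsg.Agent.Lib.Helper6.SteinerSearch

theorem loop_mono {g g' : ℕ → ℕ → Bool} (h : ∀ c x, g c x = true → g' c x = true)
    {need cur avail : ℕ} : ∀ n, loop g need cur avail n = true → loop g' need cur avail n = true := by
  intro n
  induction n with
  | zero => intro _; rfl
  | succ n ih =>
    intro hl
    unfold loop at hl ⊢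
    rw [Bool.and_eq_true] at hl ⊢
    refine ⟨?_, ih hl.2⟩
    have h1 := hl.1
    cases hc : (Nat.testBit avail n && geN need (Nat.land avail (2 ^ n - 1))) with
    | false => rfl
    | true =>
      rw [hc, cond_true] at h1
      rw [cond_true]
      exact h _ _ h1

theorem ext_mono {n v : ℕ} {P : List ℕ} {f f' : ℕ → Bool} (h : ∀ m, f m = true → f' m = true) :
    ∀ need cur bound, ext n v P f need cur bound = true → ext n v P f' need cur bound = true := by
  intro need
  induction need with
  | zero =>
    intro cur bound he
    unfold ext at he ⊢
    exact h _ he
  | succ need ih =>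
    intro cur bound he
    unfold ext at he ⊢
    exact loop_mono (fun c x hc => ih c x hc) bound he

/-- the search with a depth budget; below the budget the table is consulted -/
def gsearchD (n v need : ℕ) (leaf : List ℕ → Bool) (T : List (ℕ × List ℕ)) :
    ℕ → ℕ → List (ℕ × List ℕ) → List ℕ → Bool
  | _, _, [], P => leaf P
  | d, k, e :: Q, P =>
    cond (covered e.1 P) (gsearchD n v need leaf T d (k + 1) Q P)
      (match d with
       | 0 => tmem k P T
       | d' + 1 =>
         (match e.2 with
          | [] => ext n v P (fun m => gsearchD n v need leaf T d' (k + 1) Q (m :: P)) need e.1 v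
          | h :: H =>
            !covered e.1 (h :: H) &&
              ext n v (h :: H) (fun m => gsearchD n v need leaf T d' (k + 1) Q (m :: P))
                need e.1 v))

theorem gsearchD_sound (n v need : ℕ) (leaf : List ℕ → Bool) (allQ : List (ℕ × List ℕ))
    (T : List (ℕ × List ℕ))
    (hT : ∀ e ∈ T, gsearch n v need leaf (allQ.drop e.1) e.2 = true) :
    ∀ (Q : List (ℕ × List ℕ)) (d k : ℕ) (P : List ℕ), Q = allQ.drop k →
      gsearchD n v need leaf T d k Q P = true → gsearch n v need leaf Q P = true := by
  intro Q
  induction Q with
  | nil =>
    intro d k P _ h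
    unfold gsearchD at h
    unfold gsearch
    exact h
  | cons e Q ih =>
    intro d k P hQ h
    have hQ' : Q = allQ.drop (k + 1) := by
      have := congrArg List.tail hQ
      rw [List.tail_cons, List.tail_drop] at this
      exact this
    unfold gsearchD at h
    unfold gsearch
    cases hc : covered e.1 P with
    | true =>
      rw [hc, cond_true] at h
      rw [cond_true]
      exact ih d (k + 1) P hQ' h
    | false =>
      rw [hc, cond_false] at h
      rw [cond_false]
      cases d with
      | zero =>
        have h1 := hT _ (tmem_iff.1 h)
        simp only at h1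
        rw [← hQ] at h1
        unfold gsearch at h1
        rw [hc, cond_false] at h1
        exact h1
      | succ d' =>
        simp only at h
        cases hh : e.2 with
        | nil =>
          rw [hh] at h
          exact ext_mono (fun m hm => ih d' (k + 1) (m :: P) hQ' hm) _ _ _ h
        | cons h0 H =>
          rw [hh] at h
          simp only [Bool.and_eq_true] at h ⊢
          exact ⟨h.1, ext_mono (fun m hm => ih d' (k + 1) (m :: P) hQ' hm) _ _ _ h.2⟩

end Cfsg.Agent.Lib.Helper6.SteinerG
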