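import Mathlib
import Cfsg.Agent.Lib.Helper6.SteinerGLeaf
import Cfsg.Agent.Lib.Helper6.SteinerGSplit
import Cfsg.Agent.Lib.Helper6.SteinerGChain

/-! Packaged forms of the general exhaustive search. -/

set_option autoImplicit false

namespace Cfsg.Agent.Lib.Helper6.SteinerG

open Cfsg Cfsg.Agent.Lib.Helper6.SteinerSearch

variable {v t k : ℕ} {B : Set (Finset (Fin v))}

/-- the agenda is well formed: `t`-sets, hints taken from the initial blocks -/
def qOK (v t : ℕ) (Pinit : List ℕ) (Q : List (ℕ × List ℕ)) : Bool :=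
  Q.all (fun e => decide (e.1 < 2 ^ v) && Nat.beq (popc e.1 v) t &&
    e.2.all (fun h => lmem h Pinit))

theorem qOK_spec {Pinit : List ℕ} {Q : List (ℕ × List ℕ)} (h : qOK v t Pinit Q = true)
    (hP : ∀ p ∈ Pinit, p < 2 ^ v ∧ dec v p ∈ B) :
    ∀ e ∈ Q, (e.1 < 2 ^ v ∧ (dec v e.1).card = t) ∧ ∀ h ∈ e.2, h < 2 ^ v ∧ dec v h ∈ B := by
  intro e he
  unfold qOK at h
  rw [List.all_eq_true] at h
  have := h e he
  simp only [Bool.and_eq_true, decide_eq_true_eq, List.all_eq_true] at this
  obtain ⟨⟨h1, h2⟩, h3⟩ := this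
  refine ⟨⟨h1, ?_⟩, fun h' hh' => hP h' (lmem_iff.1 (h3 h' hh'))⟩
  rw [card_dec]
  exact Nat.eq_of_beq_eq_true h2

/-- all members of the list are valid relabellings -/
def allValid (v : ℕ) (W : List (List ℕ)) : Bool := W.all (validPerm v)

theorem allValid_spec {W : List (List ℕ)} (h : allValid v W = true) :
    ∀ π ∈ W, validPerm v π = true := by
  unfold allValid at h
  rw [List.all_eq_true] at h
  exact h

/-- the list is strictly increasing -/
def sincr : List ℕ → Bool
  | [] => true
  | [_] => true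
  | a :: b :: l => Nat.blt a b && sincr (b :: l)

theorem sincr_lt : ∀ (l : List ℕ) (a : ℕ), sincr (a :: l) = true → ∀ x ∈ l, a < x := by
  intro l
  induction l with
  | nil => intro a _ x hx; simp at hx
  | cons b l ih =>
    intro a h x hx
    unfold sincr at h
    rw [Bool.and_eq_true] at h
    have hab : a < b := by
      have := h.1
      simp [Nat.blt_eq] at this
      exact this
    rcases List.mem_cons.1 hx with e | e
    · rw [e]; exact hab
    · exact hab.trans (ih b h.2 x e)

theorem nodup_of_sincr : ∀ (l : List ℕ), sincr l = true → l.Nodup := by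
  intro l
  induction l with
  | nil => intro _; exact List.nodup_nil
  | cons a l ih =>
    intro h
    rw [List.nodup_cons]
    constructor
    · intro ha
      exact absurd (sincr_lt l a h a ha) (lt_irrefl a)
    · cases l with
      | nil => exact List.nodup_nil
      | cons b l =>
        unfold sincr at h
        rw [Bool.and_eq_true] at h
        exact ih h.2

theorem search_goal (hB : IsSteinerSystem t k B) (ht : 1 ≤ t) (N : ℕ)
    (hN : N * Nat.choose k t = Nat.choose v t) (hpos : 0 < Nat.choose k t)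
    (W : List (List ℕ)) (B0 : List ℕ) (hW : allValid v W = true) (hB0 : B0.length ≤ N)
    (Q : List (ℕ × List ℕ)) (Pinit : List ℕ)
    (hsearch : gsearch (t - 1) v (k - t) (leafG v N W B0) Q Pinit = true)
    (hq : qOK v t Pinit Q = true) (hnd : Pinit.Nodup)
    (hP : ∀ p ∈ Pinit, p < 2 ^ v ∧ dec v p ∈ B) :
    ∃ π, ∃ h : validPerm v π = true, π ∈ W ∧
      ∀ b, b ∈ B ↔ b.image (lperm v π h) ∈ B0set v B0 :=
  gsearch_sound hB ht (leafG v N W B0) _
    (fun P hleaf hP' hnd' =>
      leafG_goal hB hN hpos W B0 (allValid_spec hW) hB0 P hleaf hP' hnd')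
    Q Pinit hsearch hP hnd (qOK_spec hq hP)

theorem goalG_of_search (hB : IsSteinerSystem t k B) (ht : 1 ≤ t) (N : ℕ)
    (hN : N * Nat.choose k t = Nat.choose v t) (hpos : 0 < Nat.choose k t)
    (W : List (List ℕ)) (B0 : List ℕ) (hW : allValid v W = true) (hB0 : B0.length ≤ N)
    (Q : List (ℕ × List ℕ)) (Pinit : List ℕ)
    (hsearch : gsearch (t - 1) v (k - t) (leafG v N W B0) Q Pinit = true)
    (hq : qOK v t Pinit Q = true) (hnd : Pinit.Nodup)
    (hP : ∀ p ∈ Pinit, p < 2 ^ v ∧ dec v p ∈ B) : GoalG B B0 := by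
  obtain ⟨π, h, _, hiff⟩ := search_goal hB ht N hN hpos W B0 hW hB0 Q Pinit hsearch hq hnd hP
  exact ⟨lperm v π h, hiff⟩

/-- the final check of a chain: the current block is complete and the configuration is the
expected one -/
def finChk (k v : ℕ) (Pinit : List ℕ) (L : List ℕ) (cur : ℕ) : Bool :=
  Nat.beq (popc cur v) k && leq (cur :: L) Pinit

theorem finChk_spec {Pinit L : List ℕ} {cur : ℕ} (hB : IsSteinerSystem t k B)
    (h : finChk k v Pinit L cur = true) (hinv : Inv t B L cur) :
    ∀ p ∈ Pinit, p < 2 ^ v ∧ dec v p ∈ B := by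
  unfold finChk at h
  rw [Bool.and_eq_true, leq_iff] at h
  obtain ⟨h1, h2⟩ := h
  have h1 : popc cur v = k := Nat.eq_of_beq_eq_true h1
  obtain ⟨b, hb, hsub⟩ := hinv.hblk
  have hcb : dec v cur = b := by
    apply Finset.eq_of_subset_of_card_le hsub
    rw [hB.1 b hb, card_dec, h1]
  intro p hp
  rw [← h2] at hp
  rcases List.mem_cons.1 hp with e | e
  · rw [e, hcb]; exact ⟨hinv.hcur, hb⟩
  · exact hinv.hL p e

/-- the initial invariant of a chain -/
theorem inv_init (hB : IsSteinerSystem t k B) (S : ℕ) (hS : S < 2 ^ v) (hc : popc S v = t) :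
    Inv t B [] S := by
  refine ⟨by simp, hS, ?_, ?_, rfl⟩
  · obtain ⟨b', ⟨hb', hsb'⟩, _⟩ := hB.2 (dec v S) (by rw [card_dec, hc])
    exact ⟨b', hb', hsb'⟩
  · rw [card_dec, hc]

end Cfsg.Agent.Lib.Helper6.SteinerG
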