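import Mathlib
import Cfsg.Prelude.Def_Sporadic_a
import Cfsg.Agent.Lib.Helper6.SteinerGMain

/-! Data for the uniqueness of the Steiner system `S(3, 6, 22)` on `Fin 22` (generated by scratch/py/pg/emit_stage.py). -/

set_option autoImplicit false
set_option maxRecDepth 1000000

namespace Cfsg.Agent.Lib.Helper6.S22

open Cfsg Cfsg.Agent.Lib.Helper6.SteinerSearch Cfsg.Agent.Lib.Helper6.SteinerG

/-- the reference system -/
def B0 : List ℕ := [874, 917, 3173, 3226, 12377, 12454, 22208, 22832, 25868, 27139, 38147, 39436, 42544, 43456, 49238, 49321, 196668, 196803, 211968, 246528, 329225, 329990, 352400, 364640, 394656, 395856, 413706, 434181, 591184, 592544, 610309, 630794, 656902, 657673, 680032, 692368, 786483, 786636, 799488, 838656, 1118738, 1122593, 1132616, 1148036, 1184068, 1188488, 1197073, 1214498, 1316993, 1320002, 1327652, 1343768, 1578024, 1583124, 1589634, 1606209, 2167176, 2171460, 2180130, 2197521, 2232865, 2236690, 2246788, 2262088, 2364436, 2369576, 2376001, 2392706, 2627650, 2630785, 2638360, 2654500, 3145743, 3145968, 3149568, 3207168, 4128768]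

/-- the blocks through the last point -/
def Pinit : List ℕ := [2167176, 2171460, 2180130, 2197521, 2232865, 2236690, 2246788, 2262088, 2364436, 2369576, 2376001, 2392706, 2627650, 2630785, 2638360, 2654500, 3145743, 3145968, 3149568, 3207168, 4128768]

/-- the agenda of the search -/
def Q : List (ℕ × List ℕ) := [(19, []), (35, []), (67, []), (259, []), (515, []), (1027, []), (4099, []), (16387, []), (21, []), (37, []), (69, []), (261, []), (517, []), (4101, []), (8197, []), (25, []), (41, []), (73, []), (265, []), (521, []), (1033, []), (4105, []), (8201, []), (273, []), (529, []), (1041, []), (289, []), (1057, []), (2081, []), (577, []), (1089, []), (2113, []), (385, []), (641, []), (2177, []), (22, []), (38, []), (70, []), (262, []), (518, []), (1030, []), (4102, []), (8198, []), (26, []), (42, []), (74, []), (266, []), (522, []), (4106, []), (8202, []), (530, []), (1042, []), (2066, []), (290, []), (546, []), (2082, []), (322, []), (578, []), (1090, []), (386, []), (1154, []), (2178, []), (28, []), (44, []), (76, []), (268, []), (524, []), (1036, []), (4108, []), (16396, []), (276, []), (532, []), (2068,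 []), (548, []), (1060, []), (2084, []), (324, []), (1092, []), (2116, []), (388, []), (644, []), (1156, []), (280, []), (1048, []), (2072, []), (296, []), (552, []), (1064, []), (328, []), (584, []), (2120, []), (648, []), (1160, []), (2184, []), (304, []), (560, []), (1072, []), (4144, []), (16432, []), (336, []), (592, []), (1104, []), (4176, []), (8272, []), (400, []), (656, []), (4240, []), (8336, []), (352, []), (608, []), (4192, []), (8288, []), (416, []), (672, []), (1184, []), (4256, []), (8352, []), (448, []), (704, []), (1216, []), (4288, []), (16576, []), (4864, []), (17152, []), (5376, []), (9472, []), (6400, []), (10496, []), (5632, []), (9728, []), (6656, []), (10752, []), (7168, []), (19456, [])]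

/-- the relabellings used at the leaves -/
def W : List (List ℕ) := [[0, 1, 2, 3, 4, 5, 6, 7, 8, 9, 10, 11, 12, 13, 14, 15, 16, 17, 18, 19, 20, 21], [14, 8, 15, 9, 12, 10, 13, 11, 6, 0, 7, 1, 4, 2, 5, 3, 18, 20, 19, 21, 16, 17], [10, 12, 13, 11, 8, 14, 15, 9, 6, 0, 1, 7, 4, 2, 3, 5, 18, 20, 21, 19, 16, 17]]

theorem hq : qOK 22 3 Pinit Q = true := by decide +kernel

theorem hW : allValid 22 W = true := by decide +kernel

theorem hnd : sincr Pinit = true := by decide +kernel

theorem hlt : ∀ p ∈ Pinit, p < 2 ^ 22 := by decide +kernel

theorem hB0len : B0.length = 77 := by decide +kernel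

end Cfsg.Agent.Lib.Helper6.S22
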