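import Mathlib
import Cfsg.Prelude.Def_Sporadic_a
import Cfsg.Agent.Lib.Helper6.S22Data

/-! Pieces of the search for the Steiner system `S(3, 6, 22)` on `Fin 22` (generated by scratch/py/pg/emit_stage.py). -/

set_option autoImplicit false
set_option maxRecDepth 1000000

namespace Cfsg.Agent.Lib.Helper6.S22

open Cfsg Cfsg.Agent.Lib.Helper6.SteinerSearch Cfsg.Agent.Lib.Helper6.SteinerG

/-- the states below piece 0 -/
def T_0 : List (ℕ × List ℕ) := []

theorem pieceD_0 : gsearchD 2 22 3 (leafG 22 77 W B0) T_0 1000 0 (Q.drop 0) [2167176, 2171460, 2180130, 2197521, 2232865, 2236690, 2246788, 2262088, 2364436, 2369576, 2376001, 2392706, 2627650, 2630785, 2638360, 2654500, 3145743, 3145968, 3149568, 3207168, 4128768] = true := by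
  decide +kernel

theorem piece_0 : gsearch 2 22 3 (leafG 22 77 W B0) (Q.drop 0) [2167176, 2171460, 2180130, 2197521, 2232865, 2236690, 2246788, 2262088, 2364436, 2369576, 2376001, 2392706, 2627650, 2630785, 2638360, 2654500, 3145743, 3145968, 3149568, 3207168, 4128768] = true :=
  gsearchD_sound 2 22 3 _ Q T_0 (by intro e he; simp [T_0] at he)
    (Q.drop 0) 1000 0 _ rfl pieceD_0

end Cfsg.Agent.Lib.Helper6.S22
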