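import Mathlib
import Cfsg.Prelude.Def_Sporadic_a
import Cfsg.Agent.Lib.Helper6.SteinerGMain

/-! The derived design at the last point, and the passage from a uniqueness statement for the
derived design to a normal form of the blocks through the last point. -/

set_option autoImplicit false

namespace Cfsg.Agent.Lib.Helper6.SteinerG

open Cfsg Cfsg.Agent.Lib.Helper6.SteinerSearch

variable {n t k : ℕ}

/-- adding the last point to a subset of `Fin n` -/
def addLast (c : Finset (Fin n)) : Finset (Fin (n + 1)) :=
  insert (Fin.last n) (c.map Fin.castSuccEmb)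

theorem mem_addLast_last (c : Finset (Fin n)) : Fin.last n ∈ addLast c :=
  Finset.mem_insert_self _ _

theorem castSucc_mem_addLast {c : Finset (Fin n)} {j : Fin n} :
    Fin.castSucc j ∈ addLast c ↔ j ∈ c := by
  unfold addLast
  rw [Finset.mem_insert, Finset.mem_map]
  constructor
  · rintro (h | ⟨i, hi, h⟩)
    · exact absurd h (Fin.castSucc_lt_last j).ne
    · have : i = j := Fin.castSucc_injective _ h
      rwa [← this]
  · intro h
    exact Or.inr ⟨j, h, rfl⟩

theorem last_notMem_map (c : Finset (Fin n)) : Fin.last n ∉ c.map Fin.castSuccEmb := by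
  rw [Finset.mem_map]
  rintro ⟨i, _, h⟩
  exact absurd h (Fin.castSucc_lt_last i).ne

theorem card_addLast (c : Finset (Fin n)) : (addLast c).card = c.card + 1 := by
  unfold addLast
  rw [Finset.card_insert_of_notMem (last_notMem_map c), Finset.card_map]

theorem addLast_subset {c d : Finset (Fin n)} : addLast c ⊆ addLast d ↔ c ⊆ d := by
  constructor
  · intro h j hj
    exact castSucc_mem_addLast.1 (h (castSucc_mem_addLast.2 hj))
  · intro h
    unfold addLast
    exact Finset.insert_subset_insert _ (Finset.map_subset_map.2 h)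

theorem addLast_injective : Function.Injective (addLast (n := n)) := by
  intro c d h
  apply Finset.Subset.antisymm
  · exact addLast_subset.1 (by rw [h])
  · exact addLast_subset.1 (by rw [h])

/-- the part of a subset of `Fin (n + 1)` below the last point -/
def dropLast (b : Finset (Fin (n + 1))) : Finset (Fin n) :=
  Finset.univ.filter (fun j => Fin.castSucc j ∈ b)

theorem addLast_dropLast {b : Finset (Fin (n + 1))} (h : Fin.last n ∈ b) :
    addLast (dropLast b) = b := by
  ext i
  refine Fin.lastCases ?_ (fun j => ?_) i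
  · simp [mem_addLast_last, h]
  · rw [castSucc_mem_addLast]
    simp [dropLast]

/-- the derived design at the last point -/
def derL (B : Set (Finset (Fin (n + 1)))) : Set (Finset (Fin n)) := {c | addLast c ∈ B}

theorem steiner_derL {B : Set (Finset (Fin (n + 1)))} (hB : IsSteinerSystem (t + 1) (k + 1) B) :
    IsSteinerSystem t k (derL B) := by
  constructor
  · intro c hc
    have := hB.1 _ hc
    rw [card_addLast] at this
    omega
  · intro s hs
    obtain ⟨b, ⟨hb, hsb⟩, hu⟩ := hB.2 (addLast s) (by rw [card_addLast, hs])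
    have hlast : Fin.last n ∈ b := hsb (mem_addLast_last s)
    refine ⟨dropLast b, ⟨?_, ?_⟩, ?_⟩
    · show addLast (dropLast b) ∈ B
      rw [addLast_dropLast hlast]; exact hb
    · rw [← addLast_subset, addLast_dropLast hlast]; exact hsb
    · rintro c ⟨hc, hsc⟩
      have := hu (addLast c) ⟨hc, addLast_subset.2 hsc⟩
      apply addLast_injective
      rw [this, addLast_dropLast hlast]

/-- the extension of a permutation by fixing the last point -/
def extLast (σ : Equiv.Perm (Fin n)) : Equiv.Perm (Fin (n + 1)) where
  toFun := Fin.lastCases (Fin.last n) (fun j => Fin.castSucc (σ j))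
  invFun := Fin.lastCases (Fin.last n) (fun j => Fin.castSucc (σ.symm j))
  left_inv := by
    intro i
    refine Fin.lastCases ?_ (fun j => ?_) i <;> simp
  right_inv := by
    intro i
    refine Fin.lastCases ?_ (fun j => ?_) i <;> simp

@[simp] theorem extLast_last (σ : Equiv.Perm (Fin n)) : extLast σ (Fin.last n) = Fin.last n := by
  simp [extLast]

@[simp] theorem extLast_castSucc (σ : Equiv.Perm (Fin n)) (j : Fin n) :
    extLast σ (Fin.castSucc j) = Fin.castSucc (σ j) := by
  simp [extLast]

@[simp] theorem extLast_symm_last (σ : Equiv.Perm (Fin n)) :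
    (extLast σ).symm (Fin.last n) = Fin.last n := by
  simp [extLast]

@[simp] theorem extLast_symm_castSucc (σ : Equiv.Perm (Fin n)) (j : Fin n) :
    (extLast σ).symm (Fin.castSucc j) = Fin.castSucc (σ.symm j) := by
  simp [extLast]

theorem image_addLast (σ : Equiv.Perm (Fin n)) (c : Finset (Fin n)) :
    (addLast c).image (extLast σ) = addLast (c.image σ) := by
  ext i
  rw [Finset.mem_image]
  refine Fin.lastCases ?_ (fun j => ?_) i
  · simp only [mem_addLast_last, iff_true]
    exact ⟨Fin.last n, mem_addLast_last c, extLast_last σ⟩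
  · rw [castSucc_mem_addLast, Finset.mem_image]
    constructor
    · rintro ⟨a, ha, h⟩
      revert ha h
      refine Fin.lastCases ?_ (fun a' => ?_) a
      · intro _ h
        rw [extLast_last] at h
        exact absurd h.symm (Fin.castSucc_lt_last j).ne
      · intro ha h
        rw [extLast_castSucc] at h
        exact ⟨a', castSucc_mem_addLast.1 ha, Fin.castSucc_injective _ h⟩
    · rintro ⟨a, ha, rfl⟩
      exact ⟨Fin.castSucc a, castSucc_mem_addLast.2 ha, extLast_castSucc σ a⟩

theorem dec_or_last (ℓ : ℕ) :
    dec (n + 1) (Nat.lor ℓ (2 ^ n)) = addLast (dec n ℓ) := by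
  ext i
  rw [mem_dec]
  show (ℓ ||| 2 ^ n).testBit i.val = true ↔ _
  rw [Nat.testBit_or, Nat.testBit_two_pow]
  refine Fin.lastCases ?_ (fun j => ?_) i
  · simp [mem_addLast_last]
  · rw [castSucc_mem_addLast, mem_dec]
    have : ¬ n = j.val := j.2.ne'
    simp [this]

/-- the passage from a normal form of the derived design to a normal form of the blocks through
the last point -/
theorem stage_goal {B : Set (Finset (Fin (n + 1)))} {L0 : List ℕ} (h : GoalG (derL B) L0) :
    ∃ σ : Equiv.Perm (Fin (n + 1)), ∀ ℓ ∈ L0, dec (n + 1) (Nat.lor ℓ (2 ^ n)) ∈ imgSys σ B := by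
  obtain ⟨σ, hσ⟩ := h
  refine ⟨extLast σ, fun ℓ hℓ => ?_⟩
  rw [dec_or_last ℓ]
  have hc : (dec n ℓ).image σ.symm ∈ derL B := by
    rw [hσ, image_image_symm]
    exact ⟨ℓ, hℓ, rfl⟩
  have : addLast (dec n ℓ) = (addLast ((dec n ℓ).image σ.symm)).image (extLast σ) := by
    rw [image_addLast, image_image_symm]
  rw [this, image_mem_imgSys]
  exact hc

end Cfsg.Agent.Lib.Helper6.SteinerG
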