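import Mathlib
import Cfsg.Prelude.Def_Sporadic_a
import Cfsg.Agent.Lib.Helper6.S24P1
import Cfsg.Agent.Lib.Helper6.SteinerGStage
import Cfsg.Agent.Lib.Helper6.SteinerTransport
import Cfsg.Agent.Lib.Helper6.S23

/-! Uniqueness of the Steiner system `S(5, 8, 24)` on `Fin 24` (generated by scratch/py/pg/emit_stage.py). -/

set_option autoImplicit false
set_option maxRecDepth 1000000

namespace Cfsg.Agent.Lib.Helper6.S24

open Cfsg Cfsg.Agent.Lib.Helper6.SteinerSearch Cfsg.Agent.Lib.Helper6.SteinerG

theorem hsearch : gsearch 4 24 3 (leafG 24 759 W B0) Q Pinit = true := piece_2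

theorem hPinit : Pinit = S23.B0.map (fun ℓ => Nat.lor ℓ (2 ^ 23)) := by decide +kernel

/-- normal form: every Steiner system on `Fin 24` whose blocks through the last point are the standard
ones is carried onto the reference system by one of the listed relabellings -/
theorem normal_form {B : Set (Finset (Fin 24))} (hB : IsSteinerSystem 5 8 B)
    (hP : ∀ p ∈ Pinit, dec 24 p ∈ B) :
    ∃ π, ∃ h : validPerm 24 π = true, π ∈ W ∧
      ∀ b, b ∈ B ↔ b.image (lperm 24 π h) ∈ B0set 24 B0 :=
  search_goal hB (by norm_num) 759 (by decide) (by decide) W B0 hW (le_of_eq hB0len) Q Pinit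
    hsearch hq (nodup_of_sincr _ hnd) (fun p hp => ⟨hlt p hp, hP p hp⟩)

/-- strong uniqueness: every Steiner system on `Fin 24` is carried onto the reference system by a
permutation -/
theorem unique_strong {B : Set (Finset (Fin 24))} (hB : IsSteinerSystem 5 8 B) : GoalG B B0 := by
  obtain ⟨σ, hσ⟩ := stage_goal (S23.unique_strong (steiner_derL hB))
  have hB1 := steiner_imgSys σ hB
  have hP : ∀ p ∈ Pinit, dec 24 p ∈ imgSys σ B := by
    intro p hp
    rw [hPinit, List.mem_map] at hp
    obtain ⟨ℓ, hℓ, rfl⟩ := hp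
    exact hσ ℓ hℓ
  obtain ⟨π, h, _, hiff⟩ := normal_form hB1 hP
  exact goalG_of_imgSys σ ⟨lperm 24 π h, hiff⟩

/-- every Steiner system with these parameters is carried onto the reference system by a
bijection -/
theorem exists_equiv {α : Type*} [Fintype α] [DecidableEq α] (hα : Fintype.card α = 24)
    {B : Set (Finset α)} (hB : IsSteinerSystem 5 8 B) :
    ∃ e : α ≃ Fin 24, ∀ a, a ∈ B ↔ a.image e ∈ B0set 24 B0 := by
  have e1 : α ≃ Fin 24 := Fintype.equivFinOfCardEq hα
  obtain ⟨σ1, h1⟩ := unique_strong (steiner_imgSysE e1 hB)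
  refine ⟨e1.trans σ1, fun a => ?_⟩
  rw [← image_mem_imgSysE (e := e1), h1, Finset.image_image]
  rfl

end Cfsg.Agent.Lib.Helper6.S24
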