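import Mathlib
import Cfsg.Agent.S5622
import Cfsg.Agent.S0407
import Cfsg.Agent.S0363
import Cfsg.Agent.S0358
import Cfsg.Agent.Lib.Helper6.GolayBSGS

/-!
# Uniqueness of the doubly even self-dual code of length 24 without words of weight 4
-/

set_option autoImplicit false

namespace Cfsg.Agent.Lib.Helper6.GolayUnique

open Cfsg Cfsg.Agent.Lib.Helper6.Golay

/-- a binary word is determined by its support -/
theorem eq_of_support₂_eq {α : Type*} [Fintype α] {v w : α → ZMod 2}
    (h : support₂ v = support₂ w) : v = w := by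
  funext a
  have h1 : a ∈ support₂ v ↔ a ∈ support₂ w := by rw [h]
  simp only [support₂, Finset.mem_filter, Finset.mem_univ, true_and] at h1
  have key : ∀ x y : ZMod 2, (x ≠ 0 ↔ y ≠ 0) → x = y := by decide
  exact key _ _ h1

theorem golay_unique (C : Submodule (ZMod 2) (Fin 24 → ZMod 2))
    (hdim : Module.finrank (ZMod 2) C = 12)
    (horth : ∀ v ∈ C, ∀ w ∈ C, ∑ i, v i * w i = 0) (h4 : ∀ w ∈ C, 4 ∣ hammingNorm w)
    (hno4 : ∀ w ∈ C, hammingNorm w ≠ 4) :
    ∃ e : Fin 24 ≃ GolayPt, ∀ w : GolayPt → ZMod 2,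
      w ∈ golayCode ↔ (fun i => w (e i)) ∈ C := by
  classical
  have hmin : ∀ w ∈ C, w ≠ 0 → 8 ≤ hammingNorm w := by
    intro w hw hw0
    obtain ⟨k, hk⟩ := h4 w hw
    have h2 := hno4 w hw
    have h3 : 0 < hammingNorm w := hammingNorm_pos_iff.2 hw0
    omega
  obtain ⟨_, hS⟩ := Cfsg.Agent.S5622.result C hdim horth hmin
  have hcard : Fintype.card GolayPt = 24 := by decide
  obtain ⟨e, he⟩ := Cfsg.Agent.S0407.result (α := Fin 24) (β := GolayPt) (by simp) hcard hS
    Cfsg.Agent.S0363.result
  refine ⟨e, ?_⟩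
  let T : (GolayPt → ZMod 2) →ₗ[ZMod 2] (Fin 24 → ZMod 2) := LinearMap.funLeft (ZMod 2) (ZMod 2) e
  have hT : ∀ w, T w = fun i => w (e i) := fun w => rfl
  have hTinj : Function.Injective T := by
    intro v w hvw
    funext p
    have := congrFun hvw (e.symm p)
    rw [hT, hT] at this
    simpa using this
  have hoct : ∀ b ∈ basis, T (dec b) ∈ C := by
    intro b hb
    obtain ⟨hin, h8⟩ := basis_octads b hb
    have ho : fs b ∈ octads := fs_mem_octads hin h8
    rw [← he] at ho
    obtain ⟨s, ⟨⟨c, hcC, hcs⟩, _⟩, hsb⟩ := ho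
    have : T (dec b) = c := by
      apply eq_of_support₂_eq
      ext i
      rw [hcs]
      have h1 : i ∈ support₂ (T (dec b)) ↔ e i ∈ support₂ (dec b) := by
        simp only [support₂, Finset.mem_filter, Finset.mem_univ, true_and, hT]
      rw [h1, support₂_dec, ← hsb]
      simp only [Finset.mem_image]
      constructor
      · rintro ⟨j, hj, hji⟩
        rwa [← e.injective hji]
      · intro hi
        exact ⟨i, hi, rfl⟩
    rw [this]
    exact hcC
  have hsub : ∀ w ∈ golayCode, T w ∈ C :=
    golayCode_induction (fun w => T w ∈ C) (by rw [map_zero]; exact C.zero_mem)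
      (fun v w hv hw => by rw [map_add]; exact C.add_mem hv hw) hoct
  have hfin : FiniteDimensional (ZMod 2) C := Module.Finite.of_finite
  have hmap : golayCode.map T = C := by
    apply Submodule.eq_of_le_of_finrank_eq
    · rintro _ ⟨w, hw, rfl⟩
      exact hsub w hw
    · rw [hdim, ← (Submodule.equivMapOfInjective T hTinj golayCode).finrank_eq]
      exact Cfsg.Agent.S0358.result
  intro w
  constructor
  · exact hsub w
  · intro hw
    have hw' : T w ∈ golayCode.map T := by rw [hmap]; exact hw
    obtain ⟨w', hw'm, hww'⟩ := hw'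
    rw [← hTinj hww']
    exact hw'm

end Cfsg.Agent.Lib.Helper6.GolayUnique
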