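import Cfsg.Agent.Lib.Helper6.GolayCode

/-!
# Weights of the words of the length-24 code
-/

set_option autoImplicit false

namespace Cfsg.Agent.Lib.Helper6.Golay

open Cfsg

/-- number of `m < n` with `f m`. -/
def countBelow (f : ℕ → Bool) : ℕ → ℕ
  | 0 => 0
  | k + 1 => (if f k then 1 else 0) + countBelow f k

theorem countBelow_eq_card (f : ℕ → Bool) (n : ℕ) :
    countBelow f n = ((Finset.range n).filter (fun m => f m = true)).card := by
  induction n with
  | zero => simp [countBelow]
  | succ k ih =>
    rw [countBelow, ih, Finset.range_add_one, Finset.filter_insert]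
    by_cases h : f k = true
    · rw [if_pos h, if_pos h, Finset.card_insert_of_notMem (by simp)]; ring
    · rw [if_neg h, if_neg h]; ring

def okW (w : ℕ) : Bool := w == 0 || w == 8 || w == 12 || w == 16 || w == 24

set_option maxHeartbeats 4000000 in
theorem weights_aux : allBelow (fun m => okW (pc 24 (combo m))) 4096 = true := by
  decide +kernel

theorem weight_cases (m : ℕ) (hm : m < 4096) :
    pc 24 (combo m) = 0 ∨ pc 24 (combo m) = 8 ∨ pc 24 (combo m) = 12 ∨ pc 24 (combo m) = 16 ∨ pc 24 (combo m) = 24 := by
  have := allBelow_spec _ _ weights_aux m hm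
  generalize pc 24 (combo m) = w at this ⊢
  simp only [okW, Bool.or_eq_true, beq_iff_eq] at this
  tauto

theorem pc_eq_zero {n : ℕ} (hn : n < 2 ^ 24) (h : pc 24 n = 0) : n = 0 := by
  rw [← hammingNorm_dec, hammingNorm_eq_zero] at h
  exact (dec_eq_iff hn (by norm_num)).mp (h.trans dec_zero.symm)

theorem weight_ge_eight (m : ℕ) (hm : m < 4096) (h0 : m ≠ 0) : 8 ≤ pc 24 (combo m) := by
  rcases weight_cases m hm with h | h | h | h | h
  · exfalso
    apply h0
    have := pc_eq_zero (combo_lt m hm) h
    rw [← combo_mod m hm, this]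
  all_goals omega

set_option maxHeartbeats 4000000 in
theorem count_weight8 : countBelow (fun m => pc 24 (combo m) == 8) 4096 = 759 := by decide +kernel

set_option maxHeartbeats 4000000 in
theorem count_weight12 : countBelow (fun m => pc 24 (combo m) == 12) 4096 = 2576 := by decide +kernel

/-- Weights of codewords. -/
theorem hammingNorm_mem (w : GolayPt → ZMod 2) (hw : w ∈ golayCode) :
    hammingNorm w = 0 ∨ hammingNorm w = 8 ∨ hammingNorm w = 12 ∨ hammingNorm w = 16 ∨ hammingNorm w = 24 := by
  obtain ⟨m, hm, rfl⟩ := (mem_golayCode_iff w).mp hw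
  rw [hammingNorm_dec]
  exact weight_cases m hm

/-- Minimum weight 8. -/
theorem eight_le_hammingNorm (w : GolayPt → ZMod 2) (hw : w ∈ golayCode) (h0 : w ≠ 0) : 8 ≤ hammingNorm w := by
  obtain ⟨m, hm, rfl⟩ := (mem_golayCode_iff w).mp hw
  rw [hammingNorm_dec]
  apply weight_ge_eight m hm
  rintro rfl
  apply h0
  rw [combo_zero, dec_zero]

/-! ### supports -/

theorem card_support₂ (w : GolayPt → ZMod 2) : (support₂ w).card = hammingNorm w := rfl

theorem support₂_injective : Function.Injective (support₂ : (GolayPt → ZMod 2) → Finset GolayPt) := by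
  intro v w h
  funext p
  have h1 : p ∈ support₂ v ↔ p ∈ support₂ w := by rw [h]
  simp only [support₂, Finset.mem_filter, Finset.mem_univ, true_and] at h1
  have hv : v p = 0 ∨ v p = 1 := by generalize v p = c; revert c; decide
  have hw : w p = 0 ∨ w p = 1 := by generalize w p = c; revert c; decide
  rcases hv with hv | hv <;> rcases hw with hw | hw <;> simp_all

/-- the words of weight `k` as a set of supports: image of a finset of information words. -/
theorem wordsOfWeight_eq (k : ℕ) :
    wordsOfWeight (golayCode : Set (GolayPt → ZMod 2)) k =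
      (fun m => support₂ (dec (combo m))) '' (↑((Finset.range 4096).filter (fun m => (pc 24 (combo m) == k) = true)) : Set ℕ) := by
  ext b
  simp only [wordsOfWeight, supports, Set.mem_ofPred_eq, Set.mem_image, SetLike.mem_coe, Finset.coe_filter,
    Finset.mem_range, beq_iff_eq]
  constructor
  · rintro ⟨⟨w, hw, rfl⟩, hcard⟩
    obtain ⟨m, hm, rfl⟩ := (mem_golayCode_iff w).mp hw
    refine ⟨m, ⟨hm, ?_⟩, rfl⟩
    rw [← hammingNorm_dec]; exact hcard
  · rintro ⟨m, ⟨hm, hk⟩, rfl⟩
    refine ⟨⟨dec (combo m), dec_combo_mem m, rfl⟩, ?_⟩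
    rw [card_support₂, hammingNorm_dec]; exact hk

theorem support_dec_combo_injOn :
    Set.InjOn (fun m => support₂ (dec (combo m))) (↑(Finset.range 4096) : Set ℕ) := by
  intro a ha b hb h
  simp only [Finset.coe_range, Set.mem_Iio] at ha hb
  have h1 := support₂_injective h
  have h2 := (dec_eq_iff (combo_lt a ha) (combo_lt b hb)).mp h1
  exact combo_injOn ha hb h2

theorem ncard_wordsOfWeight (k : ℕ) :
    (wordsOfWeight (golayCode : Set (GolayPt → ZMod 2)) k).ncard = countBelow (fun m => pc 24 (combo m) == k) 4096 := by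
  rw [wordsOfWeight_eq, countBelow_eq_card, Set.InjOn.ncard_image, Set.ncard_coe_finset]
  apply support_dec_combo_injOn.mono
  intro m hm
  simp only [Finset.coe_filter, Set.mem_ofPred_eq] at hm
  simpa using hm.1

theorem ncard_octads : octads.ncard = 759 := by
  rw [octads, ncard_wordsOfWeight, count_weight8]

theorem ncard_dodecads : dodecads.ncard = 2576 := by
  rw [dodecads, ncard_wordsOfWeight, count_weight12]

end Cfsg.Agent.Lib.Helper6.Golay
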