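import Cfsg.Agent.Lib.Helper6.H1Forms

/-! # Certificate data for the group O-4 (generated) -/

set_option autoImplicit false
set_option maxRecDepth 100000
set_option maxHeartbeats 0

namespace Cfsg.Agent.Lib.Helper6.H1DataM4

open Cfsg.Agent.Lib.Helper6.BitMat Cfsg.Agent.Lib.Helper6.H1Forms

/-- a coded matrix -/
def m1 : List ℕ := [11, 7, 3, 14]

/-- a coded matrix -/
def m1i : List ℕ := [15, 11, 6, 5]

/-- a coded matrix -/
def m2 : List ℕ := [7, 2, 14, 4]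

/-- a coded matrix -/
def m2i : List ℕ := [11, 2, 8, 14]

/-- a coded matrix -/
def x1 : List ℕ := [15, 2, 6, 10]

/-- a coded matrix -/
def x1i : List ℕ := [15, 2, 6, 10]

/-- a coded matrix -/
def x2 : List ℕ := [1, 2, 8, 4]

/-- a coded matrix -/
def x2i : List ℕ := [1, 2, 8, 4]

/-- the relators -/
def rels : List (List Bool) := [[true, true, true], [false, true, false, true]]

/-- the straight-line program -/
def prog : List (ℕ × ℕ) := [(0, 4), (4, 2), (1, 4), (4, 3), (0, 5), (6, 2), (1, 5), (6, 3), (0, 7), (8, 2), (1, 7), (8, 3), (0, 9), (10, 2), (0, 13), (14, 2), (1, 13), (14, 3), (0, 2), (0, 2), (23, 1), (3, 24), (25, 3), (1, 26), (27, 0), (2, 28), (29, 0), (2, 30), (31, 3), (1, 32), (33, 0), (2, 34), (35, 1), (3, 36), (37, 2), (0, 38), (39, 0), (2, 40), (41, 2), (0, 42), (43, 0), (2, 44), (16, 45), (46, 15), (1, 2), (0, 3), (49, 1), (3, 50),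 (51, 2), (0, 52), (53, 0), (2, 54), (55, 3), (1, 56), (57, 3), (1, 58), (18, 59), (60, 17), (0, 1), (3, 2), (63, 1), (3, 64), (65, 3), (1, 66), (67, 0), (2, 68), (69, 1), (3, 70), (4, 71), (72, 4), (1, 3), (1, 3), (75, 1), (3, 76), (77, 0), (2, 78), (79, 1), (3, 80), (81, 0), (2, 82), (83, 3), (1, 84), (85, 0), (2, 86), (87, 1), (3, 88), (89, 3), (1, 90), (91, 0), (2, 92), (93, 0), (2, 94), (95, 2), (0, 96), (10, 97), (98, 9), (1, 1), (3, 3), (101, 1), (3, 102), (103, 0), (2, 104), (105, 0), (2, 106), (107, 0), (2, 108), (109, 0), (2, 110), (111, 1), (3, 112), (113, 0), (2, 114), (115, 3), (1, 116), (117, 1), (3, 118), (119, 0), (2, 120), (6, 121), (122, 5), (1, 0), (2, 3), (125, 0), (2, 126), (127, 3), (1, 128), (129, 0), (2, 130), (131, 0), (2, 132), (133, 1), (3, 134), (135, 0), (2, 136), (137, 2), (0, 138), (139, 0), (2, 140), (141, 1), (3, 142), (8,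 143), (144, 7), (65, 0), (2, 66), (147, 1), (3, 148), (149, 0), (2, 150), (151, 1), (3, 152), (153, 2), (0, 154), (20, 155), (156, 19), (101, 0), (2, 102), (159, 1), (3, 160), (20, 161), (162, 19), (47, 4), (4, 48), (61, 4), (4, 62), (163, 4), (4, 164), (163, 165), (166, 164), (163, 167), (168, 164)]

/-- the levels of the stabiliser chain -/
def levels : List (ℕ × List ℕ) := [(3, [4, 5, 7, 9, 11, 13, 15, 17, 19, 21]), (5, [4, 165, 167, 169, 171, 173])]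

theorem hlen : m1.length = 4 ∧ m1i.length = 4 ∧ m2.length = 4 ∧ m2i.length = 4 ∧ x1.length = 4 ∧
    x1i.length = 4 ∧ x2.length = 4 ∧ x2i.length = 4 := by decide

theorem hcol : (∀ c ∈ m1, c < 2 ^ 4) ∧ (∀ c ∈ m2, c < 2 ^ 4) := by decide

theorem hinv : mulB m1 m1i = idB 4 ∧ mulB m1i m1 = idB 4 ∧ mulB m2 m2i = idB 4 ∧
    mulB m2i m2 = idB 4 ∧ mulB x1 x1i = idB 4 ∧ mulB x1i x1 = idB 4 ∧ mulB x2 x2i = idB 4 ∧
    mulB x2i x2 = idB 4 := by decide +kernel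

theorem hconj : mulB (mulB x1 m1) x1i = m1i ∧ mulB (mulB x2 m2) x2i = m2i := by decide +kernel

theorem hpow : Odd 5 ∧ Odd 3 ∧ powB 4 m1 5 = idB 4 ∧ powB 4 m2 3 = idB 4 := by
  refine ⟨by decide, by decide, by decide +kernel, by decide +kernel⟩

theorem hrel : ∀ w ∈ rels, wordB 4 m1 m2 w = idB 4 := by decide +kernel

/-- all the nodes of the straight-line program -/
def allN : List (List ℕ) := [[11, 7, 3, 14],
  [7, 2, 14, 4],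
  [15, 11, 6, 5],
  [11, 2, 8, 14],
  [1, 2, 4, 8],
  [11, 7, 3, 14],
  [15, 11, 6, 5],
  [7, 2, 14, 4],
  [11, 2, 8, 14],
  [2, 15, 12, 10],
  [7, 1, 13, 9],
  [1, 11, 5, 8],
  [1, 11, 5, 8],
  [15, 7, 10, 3],
  [15, 7, 10, 3],
  [11, 2, 8, 14],
  [7, 2, 14, 4],
  [7, 1, 13, 9],
  [2, 15, 12, 10],
  [1, 15, 9, 12],
  [1, 11, 13, 5],
  [15, 11, 6, 5],
  [11, 7, 3, 14],
  [1, 2, 4, 8],
  [1, 2, 4, 8],
  [7, 2, 14, 4],
  [11, 2, 8, 14],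
  [1, 2, 4, 8],
  [1, 2, 4, 8],
  [11, 7, 3, 14],
  [15, 11, 6, 5],
  [2, 15, 12, 10],
  [7, 1, 13, 9],
  [7, 15, 10, 9],
  [11, 7, 13, 3],
  [1, 2, 8, 12],
  [1, 2, 12, 4],
  [11, 2, 6, 8],
  [11, 2, 6, 8],
  [7, 1, 4, 13],
  [2, 7, 4, 14],
  [11, 2, 6, 8],
  [11, 2, 6, 8],
  [7, 1, 4, 13],
  [2, 7, 4, 14],
  [11, 2, 6, 8],
  [11, 2, 6, 8],
  [1, 2, 12, 4],
  [1, 2, 8, 12],
  [15, 1, 12, 9],
  [2, 7, 14, 10],
  [2, 1, 4, 12],
  [2, 1, 4, 12],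
  [11, 15, 5, 6],
  [7, 11, 3, 13],
  [2, 1, 4, 12],
  [2, 1, 4, 12],
  [15, 1, 12, 9],
  [2, 7, 14, 10],
  [7, 1, 9, 4],
  [2, 11, 8, 6],
  [1, 2, 8, 12],
  [1, 2, 12, 4],
  [15, 7, 10, 3],
  [15, 7, 10, 3],
  [2, 7, 14, 10],
  [15, 1, 12, 9],
  [15, 7, 10, 3],
  [15, 7, 10, 3],
  [11, 2, 8, 14],
  [7, 2, 14, 4],
  [1, 2, 4, 8],
  [1, 2, 4, 8],
  [1, 2, 4, 8],
  [1, 2, 4, 8],
  [1, 2, 4, 8],
  [1, 2, 4, 8],
  [7, 2, 14, 4],
  [11, 2, 8, 14],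
  [1, 11, 5, 8],
  [1, 11, 5, 8],
  [15, 11, 6, 5],
  [11, 7, 3, 14],
  [1, 2, 4, 8],
  [1, 2, 4, 8],
  [11, 2, 8, 14],
  [7, 2, 14, 4],
  [7, 1, 9, 4],
  [2, 11, 8, 6],
  [15, 1, 12, 9],
  [2, 7, 14, 10],
  [7, 1, 9, 4],
  [2, 11, 8, 6],
  [2, 15, 6, 12],
  [11, 1, 5, 13],
  [1, 11, 13, 5],
  [1, 15, 9, 12],
  [2, 15, 6, 12],
  [11, 1, 5, 13],
  [1, 2, 12, 4],
  [1, 2, 8, 12],
  [11, 2, 8, 14],
  [7, 2, 14, 4],
  [1, 2, 4, 8],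
  [1, 2, 4, 8],
  [11, 7, 3, 14],
  [15, 11, 6, 5],
  [2, 15, 12, 10],
  [7, 1, 13, 9],
  [7, 1, 13, 9],
  [2, 15, 12, 10],
  [15, 11, 6, 5],
  [11, 7, 3, 14],
  [2, 11, 8, 6],
  [7, 1, 9, 4],
  [15, 1, 9, 5],
  [2, 15, 10, 6],
  [11, 1, 5, 13],
  [2, 15, 6, 12],
  [15, 1, 9, 5],
  [2, 15, 10, 6],
  [11, 7, 14, 13],
  [11, 7, 14, 13],
  [1, 2, 8, 12],
  [1, 2, 12, 4],
  [1, 11, 5, 8],
  [1, 11, 5, 8],
  [2, 15, 10, 6],
  [15, 1, 9, 5],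
  [11, 15, 6, 3],
  [15, 7, 3, 9],
  [7, 2, 4, 10],
  [7, 2, 4, 10],
  [15, 1, 5, 12],
  [2, 11, 6, 14],
  [11, 1, 8, 5],
  [2, 7, 10, 4],
  [15, 2, 10, 12],
  [11, 2, 14, 6],
  [11, 1, 8, 5],
  [2, 7, 10, 4],
  [15, 2, 10, 12],
  [11, 2, 14, 6],
  [7, 2, 4, 10],
  [7, 2, 4, 10],
  [1, 2, 8, 12],
  [1, 2, 12, 4],
  [15, 11, 5, 3],
  [7, 15, 3, 10],
  [1, 11, 13, 5],
  [1, 15, 9, 12],
  [15, 7, 10, 3],
  [15, 7, 10, 3],
  [2, 7, 14, 10],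
  [15, 1, 12, 9],
  [1, 15, 9, 12],
  [1, 11, 13, 5],
  [1, 2, 4, 8],
  [1, 2, 4, 8],
  [7, 1, 9, 4],
  [2, 11, 8, 6],
  [15, 1, 12, 9],
  [2, 7, 14, 10],
  [2, 1, 8, 4],
  [2, 1, 8, 4],
  [1, 2, 12, 4],
  [1, 2, 8, 12],
  [1, 2, 8, 12],
  [1, 2, 12, 4],
  [2, 1, 8, 4],
  [2, 1, 8, 4],
  [2, 1, 12, 8],
  [2, 1, 12, 8],
  [2, 1, 4, 12],
  [2, 1, 4, 12]]

theorem hbase : allN.getD 0 [] = m1 ∧ allN.getD 1 [] = m2 ∧ allN.getD 2 [] = m1i ∧ allN.getD 3 [] = m2i ∧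
    allN.getD 4 [] = idB 4 := by decide +kernel

theorem hall : allN.length = 5 + prog.length := by decide +kernel

theorem hprog : progOK allN 5 prog = true := by decide +kernel

theorem hchain : chainOK 4 allN [] levels = true := by decide +kernel

theorem hprod : (levels.map fun l => l.2.length).prod = 60 := by decide +kernel

/-- the inverse of the first generator minus one -/
def wInv : List ℕ := [12, 6, 14, 7]

theorem hwcol : ∀ c ∈ wInv, c < 2 ^ 4 := by decide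

theorem hinvc : invCheck 4 m1 wInv = true := by decide +kernel

theorem hzero : zeroCheck 4 m1 m2 rels = true := by decide +kernel

theorem hiso : isoCheck 4 qbM4 m1 = true ∧ isoCheck 4 qbM4 m2 = true ∧ isoCheck 4 qbM4 x1 = true ∧
    isoCheck 4 qbM4 x2 = true := by decide +kernel

end Cfsg.Agent.Lib.Helper6.H1DataM4
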