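import Cfsg.Agent.Lib.Helper6.H1Forms

/-! # Certificate data for the group O-6 (generated) -/

set_option autoImplicit false
set_option maxRecDepth 100000
set_option maxHeartbeats 0

namespace Cfsg.Agent.Lib.Helper6.H1DataM6

open Cfsg.Agent.Lib.Helper6.BitMat Cfsg.Agent.Lib.Helper6.H1Forms

/-- a coded matrix -/
def m1 : List ℕ := [43, 62, 27, 6, 57, 52]

/-- a coded matrix -/
def m1i : List ℕ := [26, 45, 37, 15, 60, 57]

/-- a coded matrix -/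
def m2 : List ℕ := [2, 3, 12, 4, 48, 16]

/-- a coded matrix -/
def m2i : List ℕ := [3, 1, 8, 12, 32, 48]

/-- a coded matrix -/
def x1 : List ℕ := [59, 46, 4, 12, 60, 36]

/-- a coded matrix -/
def x1i : List ℕ := [59, 46, 4, 12, 60, 36]

/-- a coded matrix -/
def x2 : List ℕ := [61, 23, 9, 6, 25, 54]

/-- a coded matrix -/
def x2i : List ℕ := [30, 37, 45, 26, 20, 60]

/-- the relators -/
def rels : List (List Bool) := [[false, true, false, true, false, true, false, true, false, true], [false, false, true, false, false, true, false, false, true, false, false, true], [false, false, false, false, true, false, false, false, false, true, false, false, false, false, true, false, false, false, false, true, false, false, false, false, true, false, false, false, false, true], [false, false, false, false, false, true, false, false, false, false, false, true, false, false, false, false,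 false, true, false, false, false, false, false, true, false, false, false, false, false, true]]

/-- the straight-line program -/
def prog : List (ℕ × ℕ) := [(0, 4), (4, 2), (1, 4), (4, 3), (0, 5), (6, 2), (1, 5), (6, 3), (0, 7), (8, 2), (1, 7), (8, 3), (0, 9), (10, 2), (1, 9), (10, 3), (0, 11), (12, 2), (1, 11), (12, 3), (0, 13), (14, 2), (1, 13), (14, 3), (0, 15), (16, 2), (0, 17), (18, 2), (1, 17), (18, 3), (0, 19), (20, 2), (1, 19), (20, 3), (0, 21), (22, 2), (1, 21), (22, 3), (0, 23), (24, 2), (0, 25), (26, 2), (1, 25), (26, 3), (1, 27), (28, 3), (1, 29), (30, 3), (1, 31), (32, 3), (0, 33), (34, 2), (1, 33), (34, 3), (1, 35), (36, 3), (0, 39), (40, 2), (1, 39), (40, 3), (0, 41), (42, 2), (1, 41), (42, 3), (1, 43), (44, 3), (1, 47), (48, 3), (1, 51), (52, 3), (0, 2), (0, 2), (75, 1), (3, 76), (77, 3), (1, 78), (79, 0), (2, 80), (81, 0), (2, 82), (83, 3), (1, 84), (85, 0),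 (2, 86), (87, 1), (3, 88), (89, 2), (0, 90), (91, 0), (2, 92), (93, 2), (0, 94), (95, 0), (2, 96), (68, 97), (98, 67), (1, 2), (0, 3), (101, 1), (3, 102), (103, 2), (0, 104), (105, 0), (2, 106), (107, 3), (1, 108), (109, 3), (1, 110), (60, 111), (112, 59), (0, 1), (3, 2), (115, 1), (3, 116), (117, 3), (1, 118), (119, 0), (2, 120), (121, 1), (3, 122), (48, 123), (124, 47), (99, 4), (4, 100), (113, 4), (4, 114), (125, 4), (4, 126), (113, 127), (128, 114), (125, 127), (128, 126), (99, 129), (130, 100), (125, 129), (130, 126), (125, 131), (132, 126), (113, 135), (136, 114), (113, 137), (138, 114), (125, 137), (138, 126), (125, 139), (140, 126), (113, 141), (142, 114), (113, 147), (148, 114), (113, 149), (150, 114), (125, 151), (152, 126), (125, 155), (156, 126), (99, 157), (158, 100), (99, 159), (160, 100), (125, 99), (100, 126), (165, 125), (126, 166), (167, 114), (113, 168),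 (169, 113), (114, 170), (171, 125), (126, 172), (173, 126), (125, 174), (175, 113), (114, 176), (177, 99), (100, 178), (179, 126), (125, 180), (144, 181), (182, 143), (113, 99), (100, 114), (185, 113), (114, 186), (187, 126), (125, 188), (189, 113), (114, 190), (191, 99), (100, 192), (193, 99), (100, 194), (195, 126), (125, 196), (197, 126), (125, 198), (134, 199), (200, 133), (99, 125), (126, 100), (203, 113), (114, 204), (205, 125), (126, 206), (207, 100), (99, 208), (209, 125), (126, 210), (211, 99), (100, 212), (213, 125), (126, 214), (215, 99), (100, 216), (217, 113), (114, 218), (154, 219), (220, 153), (125, 125), (126, 126), (223, 113), (114, 224), (225, 99), (100, 226), (227, 125), (126, 228), (229, 114), (113, 230), (231, 99), (100, 232), (233, 126), (125, 234), (235, 125), (126, 236), (237, 99), (100, 238), (239, 114), (113, 240), (241, 125), (126, 242), (144, 243),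 (244, 143), (99, 114), (113, 100), (247, 113), (114, 248), (249, 99), (100, 250), (251, 100), (99, 252), (128, 253), (254, 127), (185, 99), (100, 186), (257, 125), (126, 258), (259, 114), (113, 260), (261, 114), (113, 262), (263, 99), (100, 264), (265, 113), (114, 266), (154, 267), (268, 153), (113, 113), (114, 114), (271, 126), (125, 272), (273, 126), (125, 274), (275, 99), (100, 276), (277, 113), (114, 278), (279, 125), (126, 280), (138, 281), (282, 137), (99, 126), (125, 100), (285, 99), (100, 286), (287, 126), (125, 288), (289, 126), (125, 290), (291, 125), (126, 292), (293, 113), (114, 294), (295, 113), (114, 296), (297, 113), (114, 298), (299, 113), (114, 300), (301, 99), (100, 302), (128, 303), (304, 127), (99, 99), (100, 100), (307, 113), (114, 308), (309, 114), (113, 310), (311, 99), (100, 312), (313, 99), (100, 314), (315, 99), (100, 316), (317, 126), (125, 318),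 (136, 319), (320, 135), (113, 126), (125, 114), (323, 99), (100, 324), (325, 113), (114, 326), (327, 125), (126, 328), (329, 113), (114, 330), (144, 331), (332, 143), (223, 125), (126, 224), (335, 113), (114, 336), (337, 113), (114, 338), (339, 100), (99, 340), (341, 113), (114, 342), (138, 343), (344, 137), (165, 99), (100, 166), (347, 126), (125, 348), (349, 125), (126, 350), (351, 125), (126, 352), (142, 353), (354, 141), (99, 100), (99, 100), (357, 99), (100, 358), (359, 100), (99, 360), (361, 113), (114, 362), (130, 363), (364, 129), (324, 99), (100, 323), (367, 125), (126, 368), (369, 126), (125, 370), (371, 100), (99, 372), (373, 99), (100, 374), (375, 113), (114, 376), (377, 99), (100, 378), (379, 114), (113, 380), (381, 125), (126, 382), (383, 114), (113, 384), (140, 385), (386, 139), (183, 4), (4, 184), (201, 4), (4, 202), (221, 4), (4, 222), (387, 4), (4, 388), (387,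 389), (390, 388), (183, 391), (392, 184), (183, 393), (394, 184), (245, 393), (394, 246), (183, 283), (284, 184), (405, 221), (222, 406), (407, 221), (222, 408), (409, 183), (184, 410), (411, 221), (222, 412), (413, 183), (184, 414), (415, 184), (183, 416), (417, 183), (184, 418), (419, 183), (184, 420), (421, 388), (387, 422), (423, 201), (202, 424), (425, 284), (283, 426), (398, 427), (428, 397), (245, 201), (202, 246), (431, 201), (202, 432), (433, 184), (183, 434), (435, 245), (246, 436), (437, 284), (283, 438), (400, 439), (440, 399), (387, 333), (334, 388), (443, 183), (184, 444), (445, 221), (222, 446), (447, 183), (184, 448), (449, 222), (221, 450), (451, 222), (221, 452), (453, 221), (222, 454), (396, 455), (456, 395), (245, 221), (222, 246), (459, 246), (245, 460), (461, 201), (202, 462), (463, 388), (387, 464), (394, 465), (466, 393), (429, 4), (4, 430), (467, 4),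 (4, 468), (467, 469), (470, 468)]

/-- the levels of the stabiliser chain -/
def levels : List (ℕ × List ℕ) := [(5, [4, 5, 7, 9, 11, 13, 15, 17, 19, 21, 23, 25, 27, 29, 31, 33, 35, 37, 39, 41, 43, 45, 47, 49, 51, 53, 55, 57, 59, 61, 63, 65, 67, 69, 71, 73]), (11, [4, 127, 129, 131, 133, 135, 137, 139, 141, 143, 145, 147, 149, 151, 153, 155, 157, 159, 161, 163]), (17, [4, 389, 391, 393, 395, 397, 399, 401, 403]), (2, [4, 469, 471, 473])]

theorem hlen : m1.length = 6 ∧ m1i.length = 6 ∧ m2.length = 6 ∧ m2i.length = 6 ∧ x1.length = 6 ∧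
    x1i.length = 6 ∧ x2.length = 6 ∧ x2i.length = 6 := by decide

theorem hcol : (∀ c ∈ m1, c < 2 ^ 6) ∧ (∀ c ∈ m2, c < 2 ^ 6) := by decide

theorem hinv : mulB m1 m1i = idB 6 ∧ mulB m1i m1 = idB 6 ∧ mulB m2 m2i = idB 6 ∧
    mulB m2i m2 = idB 6 ∧ mulB x1 x1i = idB 6 ∧ mulB x1i x1 = idB 6 ∧ mulB x2 x2i = idB 6 ∧
    mulB x2i x2 = idB 6 := by decide +kernel

theorem hconj : mulB (mulB x1 m1) x1i = m1i ∧ mulB (mulB x2 m2) x2i = m2i := by decide +kernel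

theorem hpow : Odd 9 ∧ Odd 3 ∧ powB 6 m1 9 = idB 6 ∧ powB 6 m2 3 = idB 6 := by
  refine ⟨by decide, by decide, by decide +kernel, by decide +kernel⟩

theorem hrel : ∀ w ∈ rels, wordB 6 m1 m2 w = idB 6 := by decide +kernel

/-- all the nodes of the straight-line program -/
def allN : List (List ℕ) := [[43, 62, 27, 6, 57, 52],
  [2, 3, 12, 4, 48, 16],
  [26, 45, 37, 15, 60, 57],
  [3, 1, 8, 12, 32, 48],
  [1, 2, 4, 8, 16, 32],
  [43, 62, 27, 6, 57, 52],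
  [26, 45, 37, 15, 60, 57],
  [2, 3, 12, 4, 48, 16],
  [3, 1, 8, 12, 32, 48],
  [39, 46, 42, 37, 32, 22],
  [30, 9, 6, 29, 47, 16],
  [21, 43, 53, 15, 38, 44],
  [55, 26, 15, 42, 57, 5],
  [62, 21, 29, 27, 13, 57],
  [45, 55, 59, 6, 20, 31],
  [3, 1, 8, 12, 32, 48],
  [2, 3, 12, 4, 48, 16],
  [58, 23, 12, 4, 52, 28],
  [59, 21, 8, 12, 36, 60],
  [29, 27, 23, 30, 16, 63],
  [23, 30, 29, 27, 16, 63],
  [9, 39, 61, 8, 17, 41],
  [9, 23, 61, 8, 25, 33],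
  [62, 21, 46, 9, 31, 24],
  [45, 55, 42, 37, 5, 60],
  [46, 9, 15, 42, 54, 32],
  [37, 15, 9, 39, 54, 32],
  [43, 62, 58, 53, 10, 38],
  [26, 45, 6, 61, 31, 11],
  [21, 43, 6, 29, 52, 13],
  [55, 26, 30, 9, 40, 38],
  [53, 55, 29, 27, 22, 36],
  [61, 3, 15, 42, 28, 47],
  [39, 61, 8, 12, 44, 56],
  [46, 59, 12, 4, 60, 24],
  [15, 42, 55, 26, 57, 5],
  [21, 46, 53, 15, 41, 35],
  [58, 53, 61, 59, 48, 41],
  [9, 23, 27, 6, 63, 47],
  [45, 58, 59, 6, 18, 25],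
  [6, 29, 21, 43, 13, 57],
  [6, 29, 42, 4, 50, 22],
  [30, 9, 8, 53, 33, 56],
  [46, 9, 23, 45, 49, 63],
  [23, 30, 59, 21, 54, 49],
  [23, 45, 8, 12, 40, 52],
  [30, 43, 12, 4, 56, 20],
  [27, 6, 9, 23, 47, 16],
  [42, 37, 39, 46, 32, 22],
  [21, 43, 39, 46, 7, 31],
  [55, 26, 61, 59, 11, 20],
  [62, 21, 15, 58, 44, 10],
  [45, 55, 9, 23, 38, 14],
  [46, 45, 58, 53, 63, 28],
  [62, 61, 42, 37, 47, 51],
  [58, 59, 6, 29, 41, 11],
  [3, 62, 58, 29, 44, 14],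
  [29, 42, 4, 8, 24, 36],
  [21, 46, 4, 8, 24, 36],
  [9, 23, 45, 55, 38, 14],
  [59, 21, 15, 58, 35, 10],
  [2, 53, 30, 37, 7, 20],
  [59, 1, 42, 37, 10, 25],
  [26, 39, 37, 15, 51, 54],
  [27, 6, 43, 62, 57, 52],
  [37, 15, 12, 27, 51, 28],
  [29, 27, 46, 42, 36, 50],
  [15, 58, 23, 12, 35, 63],
  [23, 30, 53, 61, 56, 25],
  [27, 6, 61, 26, 34, 41],
  [9, 23, 21, 46, 49, 7],
  [53, 15, 6, 61, 25, 48],
  [15, 42, 46, 9, 22, 54],
  [43, 62, 9, 39, 24, 7],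
  [26, 45, 23, 30, 14, 40],
  [1, 2, 4, 8, 16, 32],
  [1, 2, 4, 8, 16, 32],
  [2, 3, 12, 4, 48, 16],
  [3, 1, 8, 12, 32, 48],
  [1, 2, 4, 8, 16, 32],
  [1, 2, 4, 8, 16, 32],
  [43, 62, 27, 6, 57, 52],
  [26, 45, 37, 15, 60, 57],
  [39, 46, 42, 37, 32, 22],
  [30, 9, 6, 29, 47, 16],
  [9, 39, 37, 15, 22, 54],
  [59, 6, 15, 58, 25, 48],
  [23, 45, 55, 2, 38, 5],
  [61, 8, 29, 39, 41, 5],
  [45, 58, 53, 55, 35, 38],
  [23, 12, 39, 58, 63, 11],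
  [46, 9, 62, 21, 7, 31],
  [55, 29, 58, 53, 5, 19],
  [45, 58, 53, 55, 35, 38],
  [23, 12, 39, 58, 63, 11],
  [46, 9, 62, 21, 7, 31],
  [55, 29, 58, 53, 5, 19],
  [45, 58, 53, 55, 35, 38],
  [23, 12, 39, 58, 63, 11],
  [6, 2, 3, 29, 16, 50],
  [6, 2, 3, 29, 16, 50],
  [55, 26, 30, 9, 40, 38],
  [21, 43, 6, 29, 52, 13],
  [26, 45, 23, 30, 14, 40],
  [43, 62, 9, 39, 24, 7],
  [61, 59, 37, 62, 47, 34],
  [39, 46, 45, 58, 63, 14],
  [26, 45, 23, 30, 14, 40],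
  [43, 62, 9, 39, 24, 7],
  [55, 26, 30, 9, 40, 38],
  [21, 43, 6, 29, 52, 13],
  [45, 55, 9, 23, 38, 14],
  [62, 21, 15, 58, 44, 10],
  [4, 8, 1, 2, 16, 32],
  [4, 8, 1, 2, 16, 32],
  [62, 21, 29, 27, 13, 57],
  [45, 55, 59, 6, 20, 31],
  [21, 43, 6, 29, 52, 13],
  [55, 26, 30, 9, 40, 38],
  [62, 21, 29, 27, 13, 57],
  [45, 55, 59, 6, 20, 31],
  [9, 39, 61, 8, 17, 41],
  [9, 23, 61, 8, 25, 33],
  [39, 46, 53, 61, 56, 17],
  [15, 42, 23, 12, 47, 51],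
  [62, 58, 59, 21, 24, 10],
  [6, 61, 3, 29, 13, 47],
  [6, 2, 3, 29, 16, 50],
  [6, 2, 3, 29, 16, 50],
  [4, 8, 1, 2, 16, 32],
  [4, 8, 1, 2, 16, 32],
  [62, 58, 59, 21, 24, 10],
  [6, 61, 3, 29, 13, 47],
  [9, 8, 12, 23, 16, 56],
  [3, 29, 6, 2, 16, 50],
  [1, 58, 4, 8, 24, 40],
  [1, 58, 4, 8, 24, 40],
  [3, 29, 6, 2, 16, 50],
  [9, 8, 12, 23, 16, 56],
  [59, 21, 62, 58, 24, 10],
  [9, 55, 12, 23, 7, 47],
  [6, 61, 3, 29, 13, 47],
  [62, 58, 59, 21, 24, 10],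
  [4, 58, 1, 2, 18, 34],
  [4, 8, 1, 58, 24, 40],
  [12, 23, 9, 8, 16, 56],
  [12, 23, 9, 8, 16, 56],
  [4, 8, 1, 58, 24, 40],
  [4, 58, 1, 2, 18, 34],
  [3, 29, 6, 61, 13, 47],
  [59, 58, 62, 21, 18, 10],
  [9, 55, 12, 23, 7, 47],
  [59, 21, 62, 58, 24, 10],
  [1, 2, 4, 58, 18, 34],
  [1, 2, 4, 58, 18, 34],
  [12, 23, 9, 55, 7, 47],
  [62, 21, 59, 58, 18, 10],
  [43, 45, 46, 39, 63, 32],
  [43, 45, 46, 39, 63, 32],
  [46, 39, 43, 45, 63, 32],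
  [46, 39, 43, 45, 63, 32],
  [43, 42, 46, 53, 56, 50],
  [3, 45, 6, 29, 63, 50],
  [46, 53, 43, 42, 56, 50],
  [12, 39, 9, 23, 63, 56],
  [1, 58, 4, 8, 24, 40],
  [1, 58, 4, 8, 24, 40],
  [6, 2, 3, 29, 16, 50],
  [6, 2, 3, 29, 16, 50],
  [3, 29, 6, 2, 16, 50],
  [9, 8, 12, 23, 16, 56],
  [6, 2, 3, 29, 16, 50],
  [6, 2, 3, 29, 16, 50],
  [62, 61, 59, 21, 13, 31],
  [62, 61, 59, 21, 13, 31],
  [6, 2, 3, 29, 16, 50],
  [6, 2, 3, 29, 16, 50],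
  [3, 29, 6, 2, 16, 50],
  [9, 8, 12, 23, 16, 56],
  [27, 29, 30, 23, 16, 63],
  [27, 29, 30, 23, 16, 63],
  [3, 61, 6, 2, 18, 48],
  [9, 8, 12, 39, 24, 56],
  [12, 15, 9, 8, 16, 48],
  [12, 15, 9, 8, 16, 48],
  [9, 8, 12, 23, 16, 56],
  [3, 29, 6, 2, 16, 50],
  [12, 23, 9, 8, 16, 56],
  [12, 23, 9, 8, 16, 56],
  [30, 37, 27, 29, 13, 34],
  [46, 39, 43, 21, 24, 7],
  [27, 29, 30, 37, 13, 34],
  [43, 45, 46, 21, 18, 13],
  [3, 29, 6, 45, 13, 50],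
  [43, 42, 46, 21, 18, 24],
  [27, 29, 30, 37, 13, 34],
  [43, 45, 46, 21, 18, 13],
  [3, 15, 6, 45, 32, 31],
  [27, 26, 30, 29, 34, 16],
  [9, 23, 12, 8, 40, 56],
  [9, 55, 12, 8, 48, 24],
  [1, 8, 4, 2, 48, 32],
  [1, 8, 4, 2, 48, 32],
  [62, 61, 59, 21, 13, 31],
  [62, 61, 59, 21, 13, 31],
  [59, 21, 62, 61, 13, 31],
  [59, 55, 62, 21, 7, 31],
  [4, 58, 1, 8, 48, 40],
  [4, 26, 1, 8, 56, 40],
  [59, 58, 62, 61, 48, 34],
  [3, 15, 6, 29, 63, 47],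
  [43, 21, 46, 53, 13, 7],
  [59, 37, 62, 21, 7, 10],
  [59, 21, 62, 61, 13, 31],
  [59, 55, 62, 21, 7, 31],
  [4, 58, 1, 8, 48, 40],
  [4, 26, 1, 8, 56, 40],
  [59, 58, 62, 61, 48, 34],
  [3, 15, 6, 29, 63, 47],
  [62, 61, 59, 58, 48, 34],
  [12, 15, 9, 23, 63, 47],
  [12, 15, 9, 8, 48, 32],
  [12, 15, 9, 8, 48, 32],
  [6, 61, 3, 29, 13, 47],
  [62, 58, 59, 21, 24, 10],
  [3, 29, 6, 61, 13, 47],
  [59, 58, 62, 21, 18, 10],
  [27, 29, 30, 53, 13, 63],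
  [59, 61, 62, 21, 18, 31],
  [4, 26, 1, 8, 56, 40],
  [4, 58, 1, 8, 48, 40],
  [1, 8, 4, 26, 56, 40],
  [1, 58, 4, 2, 48, 34],
  [12, 8, 9, 39, 56, 24],
  [6, 61, 3, 2, 34, 48],
  [1, 2, 4, 26, 34, 50],
  [1, 2, 4, 58, 48, 18],
  [12, 8, 9, 39, 56, 24],
  [6, 61, 3, 2, 34, 48],
  [1, 8, 4, 26, 56, 40],
  [1, 58, 4, 2, 48, 34],
  [4, 26, 1, 8, 56, 40],
  [4, 58, 1, 8, 48, 40],
  [3, 2, 6, 61, 48, 18],
  [3, 2, 6, 29, 34, 50],
  [12, 8, 9, 15, 48, 16],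
  [6, 15, 3, 2, 32, 48],
  [3, 29, 6, 2, 16, 50],
  [9, 8, 12, 23, 16, 56],
  [6, 2, 3, 29, 16, 50],
  [6, 2, 3, 29, 16, 50],
  [1, 2, 4, 8, 16, 32],
  [1, 2, 4, 8, 16, 32],
  [6, 2, 3, 29, 16, 50],
  [6, 2, 3, 29, 16, 50],
  [1, 2, 4, 8, 16, 32],
  [1, 2, 4, 8, 16, 32],
  [4, 8, 1, 2, 16, 32],
  [4, 8, 1, 2, 16, 32],
  [59, 58, 62, 21, 18, 10],
  [3, 29, 6, 61, 13, 47],
  [62, 21, 59, 58, 18, 10],
  [12, 23, 9, 55, 7, 47],
  [59, 58, 62, 21, 18, 10],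
  [3, 29, 6, 61, 13, 47],
  [4, 58, 1, 2, 18, 34],
  [4, 8, 1, 58, 24, 40],
  [1, 2, 4, 58, 18, 34],
  [1, 2, 4, 58, 18, 34],
  [1, 2, 4, 8, 16, 32],
  [1, 2, 4, 8, 16, 32],
  [1, 2, 4, 8, 16, 32],
  [1, 2, 4, 8, 16, 32],
  [6, 61, 3, 29, 13, 47],
  [62, 58, 59, 21, 24, 10],
  [62, 58, 59, 21, 24, 10],
  [6, 61, 3, 29, 13, 47],
  [1, 58, 4, 8, 24, 40],
  [1, 58, 4, 8, 24, 40],
  [4, 8, 1, 58, 24, 40],
  [4, 58, 1, 2, 18, 34],
  [3, 2, 6, 29, 34, 50],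
  [3, 2, 6, 61, 48, 18],
  [1, 8, 4, 2, 48, 32],
  [1, 8, 4, 2, 48, 32],
  [1, 58, 4, 8, 24, 40],
  [1, 58, 4, 8, 24, 40],
  [62, 58, 59, 21, 24, 10],
  [6, 61, 3, 29, 13, 47],
  [1, 2, 4, 8, 16, 32],
  [1, 2, 4, 8, 16, 32],
  [6, 61, 3, 29, 13, 47],
  [62, 58, 59, 21, 24, 10],
  [1, 2, 4, 8, 16, 32],
  [1, 2, 4, 8, 16, 32],
  [4, 8, 1, 2, 16, 32],
  [4, 8, 1, 2, 16, 32],
  [1, 2, 4, 8, 16, 32],
  [1, 2, 4, 8, 16, 32],
  [4, 8, 1, 2, 16, 32],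
  [4, 8, 1, 2, 16, 32],
  [1, 2, 4, 8, 16, 32],
  [1, 2, 4, 8, 16, 32],
  [6, 2, 3, 29, 16, 50],
  [6, 2, 3, 29, 16, 50],
  [1, 2, 4, 8, 16, 32],
  [1, 2, 4, 8, 16, 32],
  [1, 2, 4, 8, 16, 32],
  [1, 2, 4, 8, 16, 32],
  [4, 8, 1, 2, 16, 32],
  [4, 8, 1, 2, 16, 32],
  [1, 2, 4, 8, 16, 32],
  [1, 2, 4, 8, 16, 32],
  [6, 2, 3, 29, 16, 50],
  [6, 2, 3, 29, 16, 50],
  [1, 2, 4, 8, 16, 32],
  [1, 2, 4, 8, 16, 32],
  [6, 2, 3, 29, 16, 50],
  [6, 2, 3, 29, 16, 50],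
  [1, 58, 4, 8, 24, 40],
  [1, 58, 4, 8, 24, 40],
  [1, 2, 4, 8, 16, 32],
  [1, 2, 4, 8, 16, 32],
  [9, 55, 12, 23, 7, 47],
  [59, 21, 62, 58, 24, 10],
  [59, 55, 62, 21, 7, 31],
  [59, 21, 62, 61, 13, 31],
  [62, 21, 59, 55, 7, 31],
  [62, 21, 59, 55, 7, 31],
  [1, 58, 4, 2, 48, 34],
  [1, 8, 4, 26, 56, 40],
  [4, 2, 1, 58, 48, 34],
  [4, 2, 1, 26, 50, 34],
  [1, 8, 4, 2, 48, 32],
  [1, 8, 4, 2, 48, 32],
  [1, 2, 4, 8, 16, 32],
  [1, 2, 4, 8, 16, 32],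
  [4, 8, 1, 2, 16, 32],
  [4, 8, 1, 2, 16, 32],
  [1, 2, 4, 8, 16, 32],
  [1, 2, 4, 8, 16, 32],
  [6, 2, 3, 29, 16, 50],
  [6, 2, 3, 29, 16, 50],
  [3, 29, 6, 2, 16, 50],
  [9, 8, 12, 23, 16, 56],
  [1, 2, 4, 8, 16, 32],
  [1, 2, 4, 8, 16, 32],
  [62, 58, 59, 21, 24, 10],
  [6, 61, 3, 29, 13, 47],
  [1, 2, 4, 8, 16, 32],
  [1, 2, 4, 8, 16, 32],
  [62, 58, 59, 21, 24, 10],
  [6, 61, 3, 29, 13, 47],
  [6, 61, 3, 29, 13, 47],
  [62, 58, 59, 21, 24, 10],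
  [1, 2, 4, 8, 16, 32],
  [1, 2, 4, 8, 16, 32],
  [1, 2, 4, 8, 16, 32],
  [1, 2, 4, 8, 16, 32],
  [6, 2, 3, 29, 16, 50],
  [6, 2, 3, 29, 16, 50],
  [1, 2, 4, 8, 16, 32],
  [1, 2, 4, 8, 16, 32],
  [4, 8, 1, 2, 16, 32],
  [4, 8, 1, 2, 16, 32],
  [1, 2, 4, 8, 16, 32],
  [1, 2, 4, 8, 16, 32],
  [43, 21, 46, 39, 24, 7],
  [27, 37, 30, 23, 7, 40],
  [3, 45, 6, 29, 63, 50],
  [43, 42, 46, 53, 56, 50],
  [43, 21, 46, 39, 24, 7],
  [27, 37, 30, 23, 7, 40],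
  [59, 21, 62, 58, 24, 10],
  [9, 55, 12, 23, 7, 47],
  [43, 21, 46, 39, 24, 7],
  [27, 37, 30, 23, 7, 40],
  [46, 39, 43, 21, 24, 7],
  [30, 37, 27, 29, 13, 34],
  [12, 39, 9, 8, 24, 56],
  [12, 55, 9, 8, 24, 48],
  [9, 8, 12, 39, 24, 56],
  [3, 61, 6, 2, 18, 48],
  [3, 15, 6, 29, 63, 47],
  [59, 58, 62, 61, 48, 34],
  [6, 29, 3, 15, 63, 47],
  [62, 58, 59, 55, 48, 40],
  [59, 21, 62, 37, 13, 10],
  [43, 53, 46, 21, 7, 13],
  [12, 15, 9, 8, 16, 48],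
  [12, 15, 9, 8, 16, 48],
  [1, 8, 4, 2, 48, 32],
  [1, 8, 4, 2, 48, 32],
  [12, 15, 9, 8, 48, 32],
  [12, 15, 9, 8, 48, 32],
  [59, 21, 62, 37, 13, 10],
  [43, 53, 46, 21, 7, 13],
  [27, 53, 30, 37, 13, 7],
  [59, 37, 62, 21, 10, 13],
  [12, 8, 9, 15, 32, 48],
  [6, 15, 3, 2, 48, 16],
  [1, 2, 4, 8, 32, 48],
  [1, 2, 4, 8, 48, 16],
  [6, 2, 3, 15, 32, 16],
  [6, 2, 3, 15, 32, 16],
  [12, 8, 9, 15, 32, 48],
  [6, 15, 3, 2, 48, 16],
  [6, 2, 3, 15, 16, 48],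
  [6, 2, 3, 15, 16, 48],
  [12, 8, 9, 15, 32, 48],
  [6, 15, 3, 2, 48, 16],
  [6, 2, 3, 15, 32, 16],
  [6, 2, 3, 15, 32, 16],
  [12, 8, 9, 15, 48, 16],
  [6, 15, 3, 2, 32, 48],
  [6, 2, 3, 15, 48, 32],
  [6, 2, 3, 15, 48, 32],
  [12, 8, 9, 15, 48, 16],
  [6, 15, 3, 2, 32, 48],
  [6, 2, 3, 15, 48, 32],
  [6, 2, 3, 15, 48, 32],
  [12, 8, 9, 15, 48, 16],
  [6, 15, 3, 2, 32, 48],
  [27, 37, 30, 53, 13, 10],
  [43, 53, 46, 21, 10, 7],
  [27, 53, 30, 37, 7, 10],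
  [43, 21, 46, 53, 10, 13],
  [27, 37, 30, 53, 13, 10],
  [43, 53, 46, 21, 10, 7],
  [1, 8, 4, 2, 16, 48],
  [1, 8, 4, 2, 16, 48],
  [12, 15, 9, 8, 32, 16],
  [12, 15, 9, 8, 32, 16],
  [12, 8, 9, 15, 48, 16],
  [6, 15, 3, 2, 32, 48],
  [6, 2, 3, 15, 48, 32],
  [6, 2, 3, 15, 48, 32],
  [12, 15, 9, 8, 16, 48],
  [12, 15, 9, 8, 16, 48],
  [12, 8, 9, 15, 32, 48],
  [6, 15, 3, 2, 48, 16],
  [1, 2, 4, 8, 16, 32],
  [1, 2, 4, 8, 16, 32],
  [59, 37, 62, 21, 7, 10],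
  [43, 21, 46, 53, 13, 7],
  [43, 53, 46, 21, 7, 13],
  [59, 21, 62, 37, 13, 10],
  [59, 37, 62, 21, 10, 13],
  [27, 53, 30, 37, 13, 7],
  [43, 53, 46, 21, 10, 7],
  [27, 37, 30, 53, 13, 10],
  [59, 37, 62, 21, 13, 7],
  [59, 37, 62, 21, 13, 7],
  [43, 53, 46, 21, 10, 7],
  [27, 37, 30, 53, 13, 10],
  [59, 37, 62, 21, 13, 7],
  [59, 37, 62, 21, 13, 7],
  [1, 8, 4, 2, 16, 48],
  [1, 8, 4, 2, 16, 48],
  [6, 2, 3, 15, 32, 16],
  [6, 2, 3, 15, 32, 16],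
  [1, 8, 4, 2, 16, 48],
  [1, 8, 4, 2, 16, 48],
  [1, 2, 4, 8, 32, 48],
  [1, 2, 4, 8, 48, 16],
  [59, 21, 62, 37, 7, 13],
  [59, 21, 62, 37, 7, 13],
  [27, 53, 30, 37, 10, 13],
  [27, 53, 30, 37, 10, 13],
  [1, 8, 4, 2, 16, 48],
  [1, 8, 4, 2, 16, 48],
  [27, 53, 30, 37, 10, 13],
  [27, 53, 30, 37, 10, 13],
  [27, 37, 30, 53, 10, 7],
  [27, 37, 30, 53, 10, 7]]

theorem hbase : allN.getD 0 [] = m1 ∧ allN.getD 1 [] = m2 ∧ allN.getD 2 [] = m1i ∧ allN.getD 3 [] = m2i ∧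
    allN.getD 4 [] = idB 6 := by decide +kernel

theorem hall : allN.length = 5 + prog.length := by decide +kernel

theorem hprog : progOK allN 5 prog = true := by decide +kernel

theorem hchain : chainOK 6 allN [] levels = true := by decide +kernel

theorem hprod : (levels.map fun l => l.2.length).prod = 25920 := by decide +kernel

/-- the inverse of the first generator minus one -/
def wInv : List ℕ := [50, 35, 30, 53, 62, 23]

theorem hwcol : ∀ c ∈ wInv, c < 2 ^ 6 := by decide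

theorem hinvc : invCheck 6 m1 wInv = true := by decide +kernel

theorem hzero : zeroCheck 6 m1 m2 rels = true := by decide +kernel

theorem hiso : isoCheck 6 qbM6 m1 = true ∧ isoCheck 6 qbM6 m2 = true ∧ isoCheck 6 qbM6 x1 = true ∧
    isoCheck 6 qbM6 x2 = true := by decide +kernel

end Cfsg.Agent.Lib.Helper6.H1DataM6
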