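import Cfsg.Agent.Lib.Helper6.BitH1

/-! # The three quadratic forms of the statement on the first cohomology, on coded vectors -/

set_option autoImplicit false

namespace Cfsg.Agent.Lib.Helper6.H1Forms

open Cfsg.Agent.Lib.Helper6.BitMat

theorem bz_sq (b : Bool) : bz b ^ 2 = bz b := by cases b <;> decide

/-- the coding of the coordinates of the hyperbolic form of dimension eight -/
def eP8 : Fin 4 ⊕ Fin 4 ≃ Fin 8 := finSumFinEquiv

/-- the coding of the coordinates of the elliptic form of dimension four -/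
def eM4 : (Fin 1 ⊕ Fin 1) ⊕ Fin 2 ≃ Fin 4 :=
  (Equiv.sumCongr finSumFinEquiv (Equiv.refl (Fin 2))).trans finSumFinEquiv

/-- the coding of the coordinates of the elliptic form of dimension six -/
def eM6 : (Fin 2 ⊕ Fin 2) ⊕ Fin 2 ≃ Fin 6 :=
  (Equiv.sumCongr finSumFinEquiv (Equiv.refl (Fin 2))).trans finSumFinEquiv

/-- the hyperbolic form of dimension eight on coded vectors -/
def qbP8 (v : ℕ) : Bool :=
  (((v.testBit 0 && v.testBit 4) ^^ (v.testBit 1 && v.testBit 5)) ^^
    (v.testBit 2 && v.testBit 6)) ^^ (v.testBit 3 && v.testBit 7)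

/-- the elliptic form of dimension four on coded vectors -/
def qbM4 (v : ℕ) : Bool :=
  (v.testBit 0 && v.testBit 1) ^^ ((v.testBit 2 ^^ (v.testBit 2 && v.testBit 3)) ^^ v.testBit 3)

/-- the elliptic form of dimension six on coded vectors -/
def qbM6 (v : ℕ) : Bool :=
  ((v.testBit 0 && v.testBit 2) ^^ (v.testBit 1 && v.testBit 3)) ^^
    ((v.testBit 4 ^^ (v.testBit 4 && v.testBit 5)) ^^ v.testBit 5)

theorem qP8_bridge (v : ℕ) : Cfsg.quadFormPlus 4 (ZMod 2) (vec eP8 v) = bz (qbP8 v) := by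
  simp only [Cfsg.quadFormPlus, Fin.sum_univ_four, vec, qbP8, bz_xor, bz_mul]
  rfl

theorem qM4_bridge (v : ℕ) :
    Cfsg.quadFormMinus 1 (ZMod 2) 1 1 (vec eM4 v) = bz (qbM4 v) := by
  simp only [Cfsg.quadFormMinus, Fin.sum_univ_one, vec, qbM4, bz_xor, bz_mul, bz_sq, one_mul]
  rfl

theorem qM6_bridge (v : ℕ) :
    Cfsg.quadFormMinus 2 (ZMod 2) 1 1 (vec eM6 v) = bz (qbM6 v) := by
  simp only [Cfsg.quadFormMinus, Fin.sum_univ_two, vec, qbM6, bz_xor, bz_mul, bz_sq, one_mul]
  rfl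

end Cfsg.Agent.Lib.Helper6.H1Forms
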