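import Cfsg.Agent.Lib.Helper6.H1DataM4
import Cfsg.Agent.Lib.Helper6.H1DataM6
import Cfsg.Agent.Lib.Helper6.H1DataP8
import Cfsg.Agent.S0287
import Cfsg.Agent.S0288

/-! # Vanishing of the first cohomology of three small orthogonal groups over the field with two
elements on their natural modules -/

set_option autoImplicit false

namespace Cfsg.Agent.Lib.Helper6.H1Main

open Cfsg.Agent.Lib.Helper6.BitMat Cfsg.Agent.Lib.Helper6.H1Forms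

theorem anisotropic_two : ∀ z₁ z₂ : ZMod 2, z₁ ^ 2 + 1 * z₁ * z₂ + 1 * z₂ ^ 2 = 0 → z₁ = 0 ∧ z₂ = 0 := by
  decide

theorem card_two : Fintype.card (ZMod 2) = 2 := ZMod.card 2

theorem card_P8 :
    Nat.card ↥(Cfsg.isometryGroup (ZMod 2) (Cfsg.quadFormPlus 4 (ZMod 2))) = 348364800 := by
  rw [Cfsg.Agent.S0287.result card_two 4 (by norm_num)]
  norm_num [Finset.prod_range_succ]

theorem card_M4 :
    Nat.card ↥(Cfsg.isometryGroup (ZMod 2) (Cfsg.quadFormMinus 1 (ZMod 2) 1 1)) = 120 := by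
  have h := Cfsg.Agent.S0288.result card_two 2 (by norm_num) 1 1 anisotropic_two
  rw [show (2 : ℕ) - 1 = 1 from rfl] at h
  rw [h]
  norm_num [Finset.prod_range_succ]

theorem card_M6 :
    Nat.card ↥(Cfsg.isometryGroup (ZMod 2) (Cfsg.quadFormMinus 2 (ZMod 2) 1 1)) = 51840 := by
  have h := Cfsg.Agent.S0288.result card_two 3 (by norm_num) 1 1 anisotropic_two
  rw [show (3 : ℕ) - 1 = 2 from rfl] at h
  rw [h]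
  norm_num [Finset.prod_range_succ]

theorem h1_P8 (f : ↥(Cfsg.Omega (ZMod 2) (Cfsg.quadFormPlus 4 (ZMod 2))) → (Fin 4 ⊕ Fin 4 → ZMod 2))
    (hf : ∀ g h : ↥(Cfsg.Omega (ZMod 2) (Cfsg.quadFormPlus 4 (ZMod 2))), f (g * h) =
      f g + Matrix.mulVec (((g : ↥(Cfsg.isometryGroup (ZMod 2) (Cfsg.quadFormPlus 4 (ZMod 2)))) :
        GL (Fin 4 ⊕ Fin 4) (ZMod 2)) : Matrix (Fin 4 ⊕ Fin 4) (Fin 4 ⊕ Fin 4) (ZMod 2)) (f h)) :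
    ∃ v : Fin 4 ⊕ Fin 4 → ZMod 2, ∀ g : ↥(Cfsg.Omega (ZMod 2) (Cfsg.quadFormPlus 4 (ZMod 2))),
      f g = Matrix.mulVec (((g : ↥(Cfsg.isometryGroup (ZMod 2) (Cfsg.quadFormPlus 4 (ZMod 2)))) :
        GL (Fin 4 ⊕ Fin 4) (ZMod 2)) : Matrix (Fin 4 ⊕ Fin 4) (Fin 4 ⊕ Fin 4) (ZMod 2)) v - v := by
  open Cfsg.Agent.Lib.Helper6.H1DataP8 in
  exact h1_vanishes eP8 (Cfsg.quadFormPlus 4 (ZMod 2)) qbP8 qP8_bridge m1 m1i m2 m2i x1 x1i x2 x2i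
    _ _ rels prog levels hlen hcol hinv hiso hconj hpow hrel allN hbase hall hprog hchain
    (by rw [hprod, card_P8]) (hcoc_of_checks hcol.2 hwcol hrel hinvc hzero) f hf

theorem h1_M4 (f : ↥(Cfsg.Omega (ZMod 2) (Cfsg.quadFormMinus 1 (ZMod 2) 1 1)) →
      ((Fin 1 ⊕ Fin 1) ⊕ Fin 2 → ZMod 2))
    (hf : ∀ g h : ↥(Cfsg.Omega (ZMod 2) (Cfsg.quadFormMinus 1 (ZMod 2) 1 1)), f (g * h) =
      f g + Matrix.mulVec (((g : ↥(Cfsg.isometryGroup (ZMod 2)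
        (Cfsg.quadFormMinus 1 (ZMod 2) 1 1))) : GL ((Fin 1 ⊕ Fin 1) ⊕ Fin 2) (ZMod 2)) :
        Matrix ((Fin 1 ⊕ Fin 1) ⊕ Fin 2) ((Fin 1 ⊕ Fin 1) ⊕ Fin 2) (ZMod 2)) (f h)) :
    ∃ v : (Fin 1 ⊕ Fin 1) ⊕ Fin 2 → ZMod 2,
      ∀ g : ↥(Cfsg.Omega (ZMod 2) (Cfsg.quadFormMinus 1 (ZMod 2) 1 1)),
      f g = Matrix.mulVec (((g : ↥(Cfsg.isometryGroup (ZMod 2)
        (Cfsg.quadFormMinus 1 (ZMod 2) 1 1))) : GL ((Fin 1 ⊕ Fin 1) ⊕ Fin 2) (ZMod 2)) :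
        Matrix ((Fin 1 ⊕ Fin 1) ⊕ Fin 2) ((Fin 1 ⊕ Fin 1) ⊕ Fin 2) (ZMod 2)) v - v := by
  open Cfsg.Agent.Lib.Helper6.H1DataM4 in
  exact h1_vanishes eM4 (Cfsg.quadFormMinus 1 (ZMod 2) 1 1) qbM4 qM4_bridge m1 m1i m2 m2i x1 x1i
    x2 x2i _ _ rels prog levels hlen hcol hinv hiso hconj hpow hrel allN hbase hall hprog hchain
    (by rw [hprod, card_M4]) (hcoc_of_checks hcol.2 hwcol hrel hinvc hzero) f hf

theorem h1_M6 (f : ↥(Cfsg.Omega (ZMod 2) (Cfsg.quadFormMinus 2 (ZMod 2) 1 1)) →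
      ((Fin 2 ⊕ Fin 2) ⊕ Fin 2 → ZMod 2))
    (hf : ∀ g h : ↥(Cfsg.Omega (ZMod 2) (Cfsg.quadFormMinus 2 (ZMod 2) 1 1)), f (g * h) =
      f g + Matrix.mulVec (((g : ↥(Cfsg.isometryGroup (ZMod 2)
        (Cfsg.quadFormMinus 2 (ZMod 2) 1 1))) : GL ((Fin 2 ⊕ Fin 2) ⊕ Fin 2) (ZMod 2)) :
        Matrix ((Fin 2 ⊕ Fin 2) ⊕ Fin 2) ((Fin 2 ⊕ Fin 2) ⊕ Fin 2) (ZMod 2)) (f h)) :
    ∃ v : (Fin 2 ⊕ Fin 2) ⊕ Fin 2 → ZMod 2,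
      ∀ g : ↥(Cfsg.Omega (ZMod 2) (Cfsg.quadFormMinus 2 (ZMod 2) 1 1)),
      f g = Matrix.mulVec (((g : ↥(Cfsg.isometryGroup (ZMod 2)
        (Cfsg.quadFormMinus 2 (ZMod 2) 1 1))) : GL ((Fin 2 ⊕ Fin 2) ⊕ Fin 2) (ZMod 2)) :
        Matrix ((Fin 2 ⊕ Fin 2) ⊕ Fin 2) ((Fin 2 ⊕ Fin 2) ⊕ Fin 2) (ZMod 2)) v - v := by
  open Cfsg.Agent.Lib.Helper6.H1DataM6 in
  exact h1_vanishes eM6 (Cfsg.quadFormMinus 2 (ZMod 2) 1 1) qbM6 qM6_bridge m1 m1i m2 m2i x1 x1i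
    x2 x2i _ _ rels prog levels hlen hcol hinv hiso hconj hpow hrel allN hbase hall hprog hchain
    (by rw [hprod, card_M6]) (hcoc_of_checks hcol.2 hwcol hrel hinvc hzero) f hf

end Cfsg.Agent.Lib.Helper6.H1Main
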