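import Mathlib
import Cfsg.Prelude.Def_Sporadic_a

/-! Transport of automorphism groups of set systems along equivalences. -/

set_option autoImplicit false
set_option linter.unusedSectionVars false

namespace Cfsg.Agent.Lib.Helper6.SteinerSearch

open Cfsg
open scoped Pointwise

universe u w

variable {α : Type u} {γ : Type w} [DecidableEq α] [DecidableEq γ]

theorem mem_aut_iff' (B : Set (Finset α)) (g : Equiv.Perm α) :
    g ∈ setSystemAut B ↔ ∀ b, b ∈ B ↔ b.image g ∈ B := by
  rw [MulAction.mem_stabilizer_iff]
  have himg : ∀ c : Finset α, (c.image g.symm).image g = c := by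
    intro c
    rw [Finset.image_image]
    have : (g ∘ g.symm : α → α) = id := by funext i; exact g.apply_symm_apply i
    rw [this, Finset.image_id]
  constructor
  · intro h b
    constructor
    · intro hb
      rw [← h]
      exact Set.smul_mem_smul_set (a := g) hb
    · intro hb
      rw [← h] at hb
      obtain ⟨b', hb', e⟩ := hb
      have e' : b'.image g = b.image g := e
      rw [← Finset.image_injective g.injective e']
      exact hb'
  · intro h
    ext c
    constructor
    · rintro ⟨b, hb, rfl⟩
      exact (h b).1 hb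
    · intro hc
      refine ⟨c.image g.symm, ?_, ?_⟩
      · rw [h, himg]; exact hc
      · show (c.image g.symm).image g = c
        exact himg c

/-- conjugation of a permutation along an equivalence -/
def conjE (f : α ≃ γ) (g : Equiv.Perm γ) : Equiv.Perm α := (f.trans g).trans f.symm

theorem conjE_apply (f : α ≃ γ) (g : Equiv.Perm γ) (a : α) : conjE f g a = f.symm (g (f a)) := rfl

theorem conjE_mem {B : Set (Finset α)} {X : Set (Finset γ)} (f : α ≃ γ)
    (hf : ∀ a : Finset α, a ∈ B ↔ a.image f ∈ X) {g : Equiv.Perm γ} (hg : g ∈ setSystemAut X) :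
    conjE f g ∈ setSystemAut B := by
  rw [mem_aut_iff'] at hg ⊢
  intro a
  rw [hf a, hf (a.image (conjE f g)), hg (a.image f), Finset.image_image, Finset.image_image]
  have : (f ∘ (conjE f g) : α → γ) = (g ∘ f) := by
    funext i
    simp [conjE_apply]
  rw [this]

theorem conjE_symm_mem {B : Set (Finset α)} {X : Set (Finset γ)} (f : α ≃ γ)
    (hf : ∀ a : Finset α, a ∈ B ↔ a.image f ∈ X) {h : Equiv.Perm α} (hh : h ∈ setSystemAut B) :
    conjE f.symm h ∈ setSystemAut X := by
  have hf' : ∀ c : Finset γ, c ∈ X ↔ c.image f.symm ∈ B := by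
    intro c
    rw [hf, Finset.image_image]
    have : (f ∘ f.symm : γ → γ) = id := by funext i; exact f.apply_symm_apply i
    rw [this, Finset.image_id]
  exact conjE_mem f.symm hf' hh

theorem pretransitive_transport {B : Set (Finset α)} {X : Set (Finset γ)} (f : α ≃ γ)
    (hf : ∀ a : Finset α, a ∈ B ↔ a.image f ∈ X) (t : ℕ)
    (h : MulAction.IsMultiplyPretransitive (setSystemAut X) γ t) :
    MulAction.IsMultiplyPretransitive (setSystemAut B) α t := by
  rw [MulAction.isMultiplyPretransitive_iff] at h ⊢
  intro x y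
  obtain ⟨⟨g, hg⟩, hgxy⟩ := h (x.trans f.toEmbedding) (y.trans f.toEmbedding)
  refine ⟨⟨conjE f g, conjE_mem f hf hg⟩, ?_⟩
  ext i
  rw [Function.Embedding.smul_apply]
  show conjE f g (x i) = y i
  rw [conjE_apply]
  have := congrArg (fun e => e i) hgxy
  simp only [Function.Embedding.smul_apply, Function.Embedding.trans_apply,
    Equiv.coe_toEmbedding] at this
  have e : g (f (x i)) = f (y i) := this
  rw [e, Equiv.symm_apply_apply]

theorem sharp_transport {B : Set (Finset α)} {X : Set (Finset γ)} (f : α ≃ γ)
    (hf : ∀ a : Finset α, a ∈ B ↔ a.image f ∈ X) (t : ℕ)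
    (h : ∀ x : Fin t ↪ γ, MulAction.stabilizer (setSystemAut X) x = ⊥) (x : Fin t ↪ α) :
    MulAction.stabilizer (setSystemAut B) x = ⊥ := by
  rw [eq_bot_iff]
  rintro ⟨g, hg⟩ hgx
  rw [MulAction.mem_stabilizer_iff] at hgx
  have hfix : ∀ i : Fin t, g (x i) = x i := by
    intro i
    have := congrArg (fun e => e i) hgx
    simpa [Function.Embedding.smul_apply] using this
  have hmem : (⟨conjE f.symm g, conjE_symm_mem f hf hg⟩ : setSystemAut X) ∈
      MulAction.stabilizer (setSystemAut X) (x.trans f.toEmbedding) := by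
    rw [MulAction.mem_stabilizer_iff]
    ext i
    show conjE f.symm g (f (x i)) = f (x i)
    rw [conjE_apply, Equiv.symm_symm, Equiv.symm_apply_apply, hfix]
  rw [h, Subgroup.mem_bot] at hmem
  have h1 : conjE f.symm g = 1 := congrArg Subtype.val hmem
  rw [Subgroup.mem_bot]
  apply Subtype.ext
  show g = 1
  ext a
  have := congrArg (fun e => e (f a)) h1
  simp only [conjE_apply, Equiv.symm_symm, Equiv.symm_apply_apply, Equiv.Perm.one_apply] at this
  exact f.injective this

end Cfsg.Agent.Lib.Helper6.SteinerSearch
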