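import Mathlib
import Cfsg.Prelude.Def_Sporadic_a
import Cfsg.Agent.Lib.Helper6.SteinerAutT

/-! The graph on an extra vertex, the points and the blocks of a family of subsets: transport along
bijections, the automorphisms induced by automorphisms of the family, and the stabiliser of the
extra vertex. -/

set_option autoImplicit false
set_option linter.unusedSectionVars false

namespace Cfsg.Agent.Lib.Helper6.HSGraph

open Cfsg Cfsg.Agent.Lib.Helper6.SteinerSearch

universe u w

section basic

variable {α : Type u} (B : Set (Finset α))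

theorem adj_iff (x y : Option (α ⊕ B)) : (pointBlockGraph B).Adj x y ↔
    x ≠ y ∧ (pointBlockRel B x y ∨ pointBlockRel B y x) := Iff.rfl

theorem adj_none_pt (a : α) : (pointBlockGraph B).Adj none (some (Sum.inl a)) := by
  rw [adj_iff]
  exact ⟨by simp, Or.inl trivial⟩

theorem not_adj_none_blk (b : B) : ¬ (pointBlockGraph B).Adj none (some (Sum.inr b)) := by
  rw [adj_iff]
  rintro ⟨_, h | h⟩ <;> exact h

theorem not_adj_pt_pt (a a' : α) :
    ¬ (pointBlockGraph B).Adj (some (Sum.inl a)) (some (Sum.inl a')) := by
  rw [adj_iff]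
  rintro ⟨_, h | h⟩ <;> exact h

theorem adj_pt_blk (a : α) (b : B) :
    (pointBlockGraph B).Adj (some (Sum.inl a)) (some (Sum.inr b)) ↔ a ∈ (b : Finset α) := by
  rw [adj_iff]
  constructor
  · rintro ⟨_, h | h⟩
    · exact h
    · exact absurd h id
  · intro h
    exact ⟨by simp, Or.inl h⟩

theorem adj_blk_blk (b c : B) :
    (pointBlockGraph B).Adj (some (Sum.inr b)) (some (Sum.inr c)) ↔
      b ≠ c ∧ Disjoint (b : Finset α) (c : Finset α) := by
  rw [adj_iff]
  constructor
  · rintro ⟨hne, h | h⟩
    · exact ⟨fun e => hne (by rw [e]), h⟩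
    · exact ⟨fun e => hne (by rw [e]), h.symm⟩
  · rintro ⟨hne, h⟩
    exact ⟨fun e => hne (Sum.inr_injective (Option.some_injective _ e)), Or.inl h⟩

end basic

section transport

variable {α : Type u} {β : Type w} [DecidableEq α] [DecidableEq β]
variable {B : Set (Finset α)} {B' : Set (Finset β)}

/-- the map of vertices induced by a map of points carrying blocks to blocks -/
def vmap (e : α → β) (h : ∀ a, a ∈ B → a.image e ∈ B') : Option (α ⊕ B) → Option (β ⊕ B') :=
  Option.map (Sum.map e (fun b => ⟨b.1.image e, h b.1 b.2⟩))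

theorem rel_vmap (e : α → β) (he : Function.Injective e) (h : ∀ a, a ∈ B → a.image e ∈ B')
    (x y : Option (α ⊕ B)) :
    pointBlockRel B' (vmap e h x) (vmap e h y) ↔ pointBlockRel B x y := by
  rcases x with _ | (a | b) <;> rcases y with _ | (a' | b')
  · exact Iff.rfl
  · exact Iff.rfl
  · exact Iff.rfl
  · exact Iff.rfl
  · exact Iff.rfl
  · show e a ∈ (b'.1.image e) ↔ a ∈ b'.1
    exact he.mem_finset_image
  · exact Iff.rfl
  · exact Iff.rfl
  · show Disjoint (b.1.image e) (b'.1.image e) ↔ Disjoint b.1 b'.1
    exact Finset.disjoint_image he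

theorem image_symm_mem (e : α ≃ β) (h : ∀ a, a ∈ B ↔ a.image e ∈ B') (c : Finset β) (hc : c ∈ B') :
    c.image e.symm ∈ B := by
  rw [h, Finset.image_image]
  have : (e ∘ e.symm : β → β) = id := by funext i; exact e.apply_symm_apply i
  rw [this, Finset.image_id]
  exact hc

/-- the equivalence of vertex sets induced by an isomorphism of families -/
def vequiv (e : α ≃ β) (h : ∀ a, a ∈ B ↔ a.image e ∈ B') : Option (α ⊕ B) ≃ Option (β ⊕ B') where
  toFun := vmap e (fun a ha => (h a).1 ha)
  invFun := vmap e.symm (image_symm_mem e h)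
  left_inv := by
    rintro (_ | (a | b))
    · rfl
    · show some (Sum.inl (e.symm (e a))) = _
      rw [e.symm_apply_apply]
    · show some (Sum.inr (⟨(b.1.image e).image e.symm, _⟩ : B)) = _
      congr 2
      apply Subtype.ext
      show (b.1.image e).image e.symm = b.1
      rw [Finset.image_image]
      have : (e.symm ∘ e : α → α) = id := by funext i; exact e.symm_apply_apply i
      rw [this, Finset.image_id]
  right_inv := by
    rintro (_ | (a | b))
    · rfl
    · show some (Sum.inl (e (e.symm a))) = _
      rw [e.apply_symm_apply]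
    · show some (Sum.inr (⟨(b.1.image e.symm).image e, _⟩ : B')) = _
      congr 2
      apply Subtype.ext
      show (b.1.image e.symm).image e = b.1
      rw [Finset.image_image]
      have : (e ∘ e.symm : β → β) = id := by funext i; exact e.apply_symm_apply i
      rw [this, Finset.image_id]

/-- the isomorphism of graphs induced by an isomorphism of families -/
def isoOfEquiv (e : α ≃ β) (h : ∀ a, a ∈ B ↔ a.image e ∈ B') :
    pointBlockGraph B ≃g pointBlockGraph B' where
  toEquiv := vequiv e h
  map_rel_iff' := by
    intro x y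
    show (pointBlockGraph B').Adj (vmap e (fun a ha => (h a).1 ha) x)
      (vmap e (fun a ha => (h a).1 ha) y) ↔ (pointBlockGraph B).Adj x y
    rw [adj_iff, adj_iff, rel_vmap e e.injective (fun a ha => (h a).1 ha),
      rel_vmap e e.injective (fun a ha => (h a).1 ha)]
    have : vmap e (fun a ha => (h a).1 ha) x ≠ vmap e (fun a ha => (h a).1 ha) y ↔ x ≠ y :=
      (vequiv e h).injective.ne_iff
    rw [this]

theorem isoOfEquiv_none (e : α ≃ β) (h : ∀ a, a ∈ B ↔ a.image e ∈ B') :
    isoOfEquiv e h none = none := rfl

theorem isoOfEquiv_pt (e : α ≃ β) (h : ∀ a, a ∈ B ↔ a.image e ∈ B') (a : α) :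
    isoOfEquiv e h (some (Sum.inl a)) = some (Sum.inl (e a)) := rfl

theorem isoOfEquiv_blk (e : α ≃ β) (h : ∀ a, a ∈ B ↔ a.image e ∈ B') (b : B) :
    isoOfEquiv e h (some (Sum.inr b)) = some (Sum.inr ⟨b.1.image e, (h b.1).1 b.2⟩) := rfl

/-- the automorphism groups of isomorphic graphs are in bijection -/
def autCongr {V : Type*} {W : Type*} {G : SimpleGraph V} {H : SimpleGraph W} (f : G ≃g H) :
    (G ≃g G) ≃ (H ≃g H) where
  toFun φ := (f.symm.trans φ).trans f
  invFun ψ := (f.trans ψ).trans f.symm
  left_inv φ := by
    ext x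
    simp
  right_inv ψ := by
    ext x
    simp

end transport

section stab

variable {α : Type u} [DecidableEq α] {B : Set (Finset α)}

/-- the automorphism of the graph induced by an automorphism of the family -/
def indAut (π : setSystemAut B) : pointBlockGraph B ≃g pointBlockGraph B :=
  isoOfEquiv π.1 ((mem_aut_iff' B π.1).1 π.2)

theorem indAut_none (π : setSystemAut B) : indAut π none = none := rfl

theorem indAut_pt (π : setSystemAut B) (a : α) :
    indAut π (some (Sum.inl a)) = some (Sum.inl (π.1 a)) := rfl

theorem indAut_blk (π : setSystemAut B) (b : B) :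
    indAut π (some (Sum.inr b)) =
      some (Sum.inr ⟨b.1.image π.1, ((mem_aut_iff' B π.1).1 π.2 b.1).1 b.2⟩) := rfl

variable (φ : pointBlockGraph B ≃g pointBlockGraph B) (h : φ none = none)

include h in
theorem map_pt (a : α) : ∃ a', φ (some (Sum.inl a)) = some (Sum.inl a') := by
  have h1 := (φ.map_rel_iff (a := none) (b := some (Sum.inl a))).2 (adj_none_pt B a)
  rw [h] at h1
  rcases hx : φ (some (Sum.inl a)) with _ | (a' | b')
  · rw [hx] at h1; exact absurd h1 (SimpleGraph.irrefl _)
  · exact ⟨a', rfl⟩
  · rw [hx] at h1; exact absurd h1 (not_adj_none_blk B b')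

include h in
theorem map_blk (b : B) : ∃ b', φ (some (Sum.inr b)) = some (Sum.inr b') := by
  have h1 : ¬ (pointBlockGraph B).Adj (φ none) (φ (some (Sum.inr b))) := fun hh =>
    not_adj_none_blk B b ((φ.map_rel_iff).1 hh)
  rw [h] at h1
  rcases hx : φ (some (Sum.inr b)) with _ | (a' | b')
  · rw [← h] at hx
    exact absurd (φ.injective hx) (by simp)
  · rw [hx] at h1; exact absurd (adj_none_pt B a') h1
  · exact ⟨b', rfl⟩

/-- the action on points of an automorphism fixing the extra vertex -/
noncomputable def ptFun (a : α) : α := Classical.choose (map_pt φ h a)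

theorem ptFun_spec (a : α) : φ (some (Sum.inl a)) = some (Sum.inl (ptFun φ h a)) :=
  Classical.choose_spec (map_pt φ h a)

/-- the action on blocks of an automorphism fixing the extra vertex -/
noncomputable def blkFun (b : B) : B := Classical.choose (map_blk φ h b)

theorem blkFun_spec (b : B) : φ (some (Sum.inr b)) = some (Sum.inr (blkFun φ h b)) :=
  Classical.choose_spec (map_blk φ h b)

include h in
theorem symm_none : φ.symm none = none := by
  rw [← h, φ.symm_apply_apply]
  exact h.symm

theorem ptFun_symm_ptFun (a : α) : ptFun φ.symm (symm_none φ h) (ptFun φ h a) = a := by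
  have h1 := ptFun_spec φ.symm (symm_none φ h) (ptFun φ h a)
  rw [← ptFun_spec φ h a, φ.symm_apply_apply] at h1
  exact (Sum.inl_injective (Option.some_injective _ h1)).symm

theorem ptFun_ptFun_symm (a : α) : ptFun φ h (ptFun φ.symm (symm_none φ h) a) = a := by
  have h1 := ptFun_spec φ h (ptFun φ.symm (symm_none φ h) a)
  rw [← ptFun_spec φ.symm (symm_none φ h) a, φ.apply_symm_apply] at h1
  exact (Sum.inl_injective (Option.some_injective _ h1)).symm

/-- the permutation of the points induced by an automorphism fixing the extra vertex -/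
noncomputable def ptEquiv : Equiv.Perm α where
  toFun := ptFun φ h
  invFun := ptFun φ.symm (symm_none φ h)
  left_inv := ptFun_symm_ptFun φ h
  right_inv := ptFun_ptFun_symm φ h

theorem mem_blkFun (a : α) (b : B) : ptFun φ h a ∈ (blkFun φ h b).1 ↔ a ∈ b.1 := by
  rw [← adj_pt_blk, ← adj_pt_blk, ← ptFun_spec, ← blkFun_spec]
  exact φ.map_rel_iff

theorem blkFun_eq (b : B) : (blkFun φ h b).1 = b.1.image (ptEquiv φ h) := by
  ext x
  rw [Finset.mem_image]
  constructor
  · intro hx
    refine ⟨(ptEquiv φ h).symm x, ?_, (ptEquiv φ h).apply_symm_apply x⟩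
    rw [← mem_blkFun φ h]
    have : ptFun φ h ((ptEquiv φ h).symm x) = x := (ptEquiv φ h).apply_symm_apply x
    rw [this]
    exact hx
  · rintro ⟨a, ha, rfl⟩
    exact (mem_blkFun φ h a b).2 ha

theorem image_ptEquiv_mem (b : Finset α) (hb : b ∈ B) : b.image (ptEquiv φ h) ∈ B := by
  rw [← blkFun_eq φ h ⟨b, hb⟩]
  exact (blkFun φ h ⟨b, hb⟩).2

theorem ptEquiv_mem : ptEquiv φ h ∈ setSystemAut B := by
  rw [mem_aut_iff']
  intro b
  refine ⟨image_ptEquiv_mem φ h b, fun hb => ?_⟩
  have h1 := image_ptEquiv_mem φ.symm (symm_none φ h) _ hb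
  rw [Finset.image_image] at h1
  have : (ptEquiv φ.symm (symm_none φ h) ∘ ptEquiv φ h : α → α) = id := by
    funext i; exact ptFun_symm_ptFun φ h i
  rwa [this, Finset.image_id] at h1

theorem indAut_ptEquiv : indAut ⟨ptEquiv φ h, ptEquiv_mem φ h⟩ = φ := by
  apply RelIso.ext
  rintro (_ | (a | b))
  · rw [indAut_none, h]
  · rw [indAut_pt, ptFun_spec φ h a]
    rfl
  · rw [indAut_blk, blkFun_spec φ h b]
    congr 2
    apply Subtype.ext
    exact (blkFun_eq φ h b).symm

theorem ptEquiv_indAut (π : setSystemAut B) : ptEquiv (indAut π) (indAut_none π) = π.1 := by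
  ext a
  have h1 := ptFun_spec (indAut π) (indAut_none π) a
  rw [indAut_pt] at h1
  exact (Sum.inl_injective (Option.some_injective _ h1)).symm

end stab

section count

variable {α : Type u} [DecidableEq α] (B : Set (Finset α))

/-- the stabiliser of the extra vertex is the automorphism group of the family -/
noncomputable def stabEquivAut :
    {φ : pointBlockGraph B ≃g pointBlockGraph B // φ none = none} ≃ setSystemAut B where
  toFun φ := ⟨ptEquiv φ.1 φ.2, ptEquiv_mem φ.1 φ.2⟩
  invFun π := ⟨indAut π, indAut_none π⟩
  left_inv φ := Subtype.ext (indAut_ptEquiv φ.1 φ.2)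
  right_inv π := Subtype.ext (ptEquiv_indAut π)

/-- if the automorphism group is transitive on vertices, its order is the number of vertices times
the order of the automorphism group of the family -/
theorem card_aut_of_trans (ht : ∀ v, ∃ φ : pointBlockGraph B ≃g pointBlockGraph B, φ none = v) :
    Nat.card (pointBlockGraph B ≃g pointBlockGraph B) =
      Nat.card (Option (α ⊕ B)) * Nat.card (setSystemAut B) := by
  classical
  choose g hg using ht
  let S := {φ : pointBlockGraph B ≃g pointBlockGraph B // φ none = none}
  have e : (pointBlockGraph B ≃g pointBlockGraph B) ≃ Option (α ⊕ B) × S :=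
    { toFun := fun φ => (φ none, ⟨(g (φ none))⁻¹ * φ, by
        show (g (φ none))⁻¹ (φ none) = none
        conv_lhs => rw [← hg (φ none)]
        rw [hg (φ none)]
        have := RelIso.inv_apply_self (g (φ none)) none
        rw [hg] at this
        exact this⟩)
      invFun := fun p => g p.1 * p.2.1
      left_inv := fun φ => by
        show g (φ none) * ((g (φ none))⁻¹ * φ) = φ
        rw [mul_inv_cancel_left]
      right_inv := fun p => by
        obtain ⟨v, s, hs⟩ := p
        have hv : (g v * s) none = v := by
          show g v (s none) = v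
          rw [hs, hg]
        apply Prod.ext
        · exact hv
        · apply Subtype.ext
          show (g ((g v * s) none))⁻¹ * (g v * s) = s
          rw [hv, inv_mul_cancel_left] }
  rw [Nat.card_congr e, Nat.card_prod, Nat.card_congr (stabEquivAut B)]

end count

end Cfsg.Agent.Lib.Helper6.HSGraph
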