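import Mathlib
import Cfsg.Prelude.Def_Sporadic_a
import Cfsg.Agent.Lib.Helper6.SteinerAutT

/-! The isomorphism of automorphism groups of set systems induced by an isomorphism of the set
systems. -/

set_option autoImplicit false
set_option linter.unusedSectionVars false

namespace Cfsg.Agent.Lib.Helper6.SteinerSearch

open Cfsg
open scoped Pointwise

universe u w

variable {α : Type u} {γ : Type w} [DecidableEq α] [DecidableEq γ]

/-- the isomorphism of automorphism groups induced by an isomorphism of set systems -/
def autEquiv {B : Set (Finset α)} {X : Set (Finset γ)} (f : α ≃ γ)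
    (hf : ∀ a : Finset α, a ∈ B ↔ a.image f ∈ X) : setSystemAut X ≃* setSystemAut B where
  toFun g := ⟨conjE f g.1, conjE_mem f hf g.2⟩
  invFun h := ⟨conjE f.symm h.1, conjE_symm_mem f hf h.2⟩
  left_inv := by
    intro g
    apply Subtype.ext
    ext c
    simp [conjE_apply]
  right_inv := by
    intro g
    apply Subtype.ext
    ext c
    simp [conjE_apply]
  map_mul' := by
    intro g h
    apply Subtype.ext
    ext a
    simp [conjE_apply]

/-- the characterisation of an isomorphism of set systems -/
theorem iff_of_image_eq {B : Set (Finset α)} {X : Set (Finset γ)} (e : α ≃ γ)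
    (h : (fun b => b.image e) '' B = X) : ∀ a : Finset α, a ∈ B ↔ a.image e ∈ X := by
  intro a
  constructor
  · intro ha
    rw [← h]
    exact ⟨a, ha, rfl⟩
  · intro ha
    rw [← h] at ha
    obtain ⟨b, hb, hba⟩ := ha
    have : b = a := Finset.image_injective e.injective hba
    rw [← this]; exact hb

end Cfsg.Agent.Lib.Helper6.SteinerSearch
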