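import Mathlib
import Cfsg.Prelude.Def_Sporadic_a
import Cfsg.Agent.Lib.Helper6.SteinerGStage
import Cfsg.Agent.Lib.Helper6.SteinerAutE

/-! The automorphism group of the derived design at the last point, as the stabiliser of the last
point in the automorphism group of a Steiner system with the unique extension property. -/

set_option autoImplicit false

namespace Cfsg.Agent.Lib.Helper6.SteinerG

open Cfsg Cfsg.Agent.Lib.Helper6.SteinerSearch
open scoped Pointwise

variable {n t k : ℕ}

theorem extLast_mul (σ τ : Equiv.Perm (Fin n)) : extLast (σ * τ) = extLast σ * extLast τ := by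
  ext i
  refine Fin.lastCases ?_ (fun j => ?_) i <;> simp [Equiv.Perm.mul_apply]

theorem extLast_one : extLast (1 : Equiv.Perm (Fin n)) = 1 := by
  ext i
  refine Fin.lastCases ?_ (fun j => ?_) i <;> simp

theorem extLast_symm (σ : Equiv.Perm (Fin n)) : (extLast σ).symm = extLast σ.symm := by
  ext i
  refine Fin.lastCases ?_ (fun j => ?_) i <;> simp

/-- the restriction of a permutation fixing the last point -/
def restrLast (h : Equiv.Perm (Fin (n + 1))) (hl : h (Fin.last n) = Fin.last n) :
    Equiv.Perm (Fin n) where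
  toFun j := (h (Fin.castSucc j)).castPred (by
    intro e
    rw [← hl] at e
    exact absurd (h.injective e) (Fin.castSucc_lt_last j).ne)
  invFun j := (h.symm (Fin.castSucc j)).castPred (by
    intro e
    rw [Equiv.symm_apply_eq, hl] at e
    exact absurd e (Fin.castSucc_lt_last j).ne)
  left_inv := by intro j; simp
  right_inv := by intro j; simp

theorem castSucc_restrLast (h : Equiv.Perm (Fin (n + 1))) (hl : h (Fin.last n) = Fin.last n)
    (j : Fin n) : Fin.castSucc (restrLast h hl j) = h (Fin.castSucc j) := by
  simp [restrLast]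

theorem extLast_restrLast (h : Equiv.Perm (Fin (n + 1))) (hl : h (Fin.last n) = Fin.last n) :
    extLast (restrLast h hl) = h := by
  ext i
  refine Fin.lastCases ?_ (fun j => ?_) i
  · rw [extLast_last, hl]
  · rw [extLast_castSucc, castSucc_restrLast]

theorem restrLast_extLast (σ : Equiv.Perm (Fin n)) :
    restrLast (extLast σ) (extLast_last σ) = σ := by
  ext j
  have := castSucc_restrLast (extLast σ) (extLast_last σ) j
  rw [extLast_castSucc] at this
  exact congrArg Fin.val (Fin.castSucc_injective _ this)

theorem derL_imgSys (g : Equiv.Perm (Fin n)) (B : Set (Finset (Fin (n + 1)))) :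
    derL (imgSys (extLast g) B) = imgSys g (derL B) := by
  ext c
  show (addLast c).image (extLast g).symm ∈ B ↔ addLast (c.image g.symm) ∈ B
  rw [extLast_symm, image_addLast]

theorem imgSys_eq_self {v : ℕ} {σ : Equiv.Perm (Fin v)} {B : Set (Finset (Fin v))}
    (h : σ ∈ setSystemAut B) : imgSys σ B = B := by
  rw [mem_aut_iff'] at h
  ext b
  show b.image σ.symm ∈ B ↔ b ∈ B
  rw [h (b.image σ.symm), image_image_symm]

theorem mem_aut_of_imgSys_eq {v : ℕ} {σ : Equiv.Perm (Fin v)} {B : Set (Finset (Fin v))}
    (h : imgSys σ B = B) : σ ∈ setSystemAut B := by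
  rw [mem_aut_iff']
  intro b
  rw [← image_mem_imgSys (σ := σ), h]

theorem mem_aut_derL_of_extLast {B : Set (Finset (Fin (n + 1)))} {g : Equiv.Perm (Fin n)}
    (h : extLast g ∈ setSystemAut B) : g ∈ setSystemAut (derL B) := by
  apply mem_aut_of_imgSys_eq
  rw [← derL_imgSys, imgSys_eq_self h]

theorem extLast_mem_aut {B : Set (Finset (Fin (n + 1)))}
    (hB : IsSteinerSystem (t + 1) (k + 1) B)
    (UE : ∀ B' : Set (Finset (Fin (n + 1))), IsSteinerSystem (t + 1) (k + 1) B' →
      derL B' = derL B → B' = B)
    {g : Equiv.Perm (Fin n)} (hg : g ∈ setSystemAut (derL B)) : extLast g ∈ setSystemAut B := by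
  apply mem_aut_of_imgSys_eq
  apply UE _ (steiner_imgSys _ hB)
  rw [derL_imgSys, imgSys_eq_self hg]

theorem smul_eq_apply {v : ℕ} {B : Set (Finset (Fin v))} (g : setSystemAut B) (x : Fin v) :
    g • x = g.1 x := rfl

theorem stab_last {B : Set (Finset (Fin (n + 1)))}
    (h : MulAction.stabilizer (setSystemAut B) (Fin.last n)) : h.1.1 (Fin.last n) = Fin.last n := by
  have := h.2
  rw [MulAction.mem_stabilizer_iff, smul_eq_apply] at this
  exact this

/-- the automorphism group of the derived design is the stabiliser of the last point -/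
def autDerEquiv {B : Set (Finset (Fin (n + 1)))} {D : Set (Finset (Fin n))}
    (hB : IsSteinerSystem (t + 1) (k + 1) B) (hD : derL B = D)
    (UE : ∀ B' : Set (Finset (Fin (n + 1))), IsSteinerSystem (t + 1) (k + 1) B' →
      derL B' = D → B' = B) :
    setSystemAut D ≃* MulAction.stabilizer (setSystemAut B) (Fin.last n) where
  toFun g := ⟨⟨extLast g.1, extLast_mem_aut hB (fun B' hB' h => UE B' hB' (h.trans hD))
      (by rw [hD]; exact g.2)⟩, by
    rw [MulAction.mem_stabilizer_iff, smul_eq_apply]
    exact extLast_last g.1⟩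
  invFun h := ⟨restrLast h.1.1 (stab_last h), by
    rw [← hD]
    apply mem_aut_derL_of_extLast
    rw [extLast_restrLast]
    exact h.1.2⟩
  left_inv g := Subtype.ext (restrLast_extLast g.1)
  right_inv h := Subtype.ext (Subtype.ext (extLast_restrLast h.1.1 (stab_last h)))
  map_mul' g h := Subtype.ext (Subtype.ext (extLast_mul g.1 h.1))

/-- multiple transitivity passes to the derived design -/
theorem derL_pretransitive {B : Set (Finset (Fin (n + 1)))} (m : ℕ)
    (h : MulAction.IsMultiplyPretransitive (setSystemAut B) (Fin (n + 1)) (m + 1)) :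
    MulAction.IsMultiplyPretransitive (setSystemAut (derL B)) (Fin n) m := by
  rw [MulAction.isMultiplyPretransitive_iff] at h ⊢
  intro x y
  have hx : Fin.last n ∉ Set.range (x.trans Fin.castSuccEmb) := by
    rintro ⟨i, hi⟩
    exact absurd hi (Fin.castSucc_lt_last (x i)).ne
  have hy : Fin.last n ∉ Set.range (y.trans Fin.castSuccEmb) := by
    rintro ⟨i, hi⟩
    exact absurd hi (Fin.castSucc_lt_last (y i)).ne
  obtain ⟨⟨g, hg⟩, hgxy⟩ := h (Fin.Embedding.snoc (x.trans Fin.castSuccEmb) hx)
    (Fin.Embedding.snoc (y.trans Fin.castSuccEmb) hy)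
  have hval : ∀ i, g (Fin.Embedding.snoc (x.trans Fin.castSuccEmb) hx i) =
      Fin.Embedding.snoc (y.trans Fin.castSuccEmb) hy i := by
    intro i
    have := congrArg (fun e => e i) hgxy
    simpa [Function.Embedding.smul_apply] using this
  have hl : g (Fin.last n) = Fin.last n := by
    have := hval (Fin.last m)
    simpa using this
  have hc : ∀ i : Fin m, g (Fin.castSucc (x i)) = Fin.castSucc (y i) := by
    intro i
    have := hval (Fin.castSucc i)
    simpa using this
  refine ⟨⟨restrLast g hl, mem_aut_derL_of_extLast (by rw [extLast_restrLast]; exact hg)⟩, ?_⟩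
  ext i
  rw [Function.Embedding.smul_apply]
  show (restrLast g hl (x i)).val = (y i).val
  have := castSucc_restrLast g hl (x i)
  rw [hc i] at this
  exact congrArg Fin.val (Fin.castSucc_injective _ this)

end Cfsg.Agent.Lib.Helper6.SteinerG
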