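import Mathlib
import Cfsg.Prelude.Def_Sporadic_a
import Cfsg.Agent.Lib.Helper6.S24
import Cfsg.Agent.Lib.Helper6.SteinerDer
import Cfsg.Agent.S0363

/-! The automorphism group of the reference system `S(4, 7, 23)` as a point stabiliser in the
automorphism group of the reference system `S(5, 8, 24)`. -/

set_option autoImplicit false
set_option maxRecDepth 1000000

namespace Cfsg.Agent.Lib.Helper6.M23Aut

open Cfsg Cfsg.Agent.Lib.Helper6.SteinerSearch Cfsg.Agent.Lib.Helper6.SteinerG

/-- the reference system `S(5, 8, 24)` -/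
abbrev X24 : Set (Finset (Fin 24)) := B0set 24 S24.B0

/-- the reference system `S(4, 7, 23)` -/
abbrev X23 : Set (Finset (Fin 23)) := B0set 23 S23.B0

theorem exists_e24 : ∃ e : GolayPt ≃ Fin 24, ∀ a, a ∈ octads ↔ a.image e ∈ X24 :=
  S24.exists_equiv (by decide) Cfsg.Agent.S0363.result

theorem steiner_X24 : IsSteinerSystem 5 8 X24 := by
  obtain ⟨e, he⟩ := exists_e24
  have h := steiner_imgSysE e Cfsg.Agent.S0363.result
  have : imgSysE e octads = X24 := by
    ext c
    show c.image e.symm ∈ octads ↔ c ∈ X24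
    rw [he, image_symm_imageE]
  rwa [this] at h

/-- the number of members of a reference system -/
theorem ncard_B0set {v : ℕ} (l : List ℕ) (hl : ∀ m ∈ l, m < 2 ^ v) (hnd : l.Nodup) :
    (B0set v l).ncard = l.length := by
  classical
  have : B0set v l = ↑((l.map (dec v)).toFinset) := by
    ext S
    rw [Finset.mem_coe, List.mem_toFinset, List.mem_map]
    rfl
  rw [this, Set.ncard_coe_finset, List.toFinset_card_of_nodup, List.length_map]
  exact List.Nodup.map_on (fun x hx y hy h => dec_inj (hl x hx) (hl y hy) h) hnd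

theorem c23s : sincr S23.B0 = true := by decide +kernel

theorem c23lt : ∀ p ∈ S23.B0, p < 2 ^ 23 := by decide +kernel

theorem cPinit : S24.Pinit.all (fun p => lmem p S24.B0) = true := by decide +kernel

theorem mem_Pinit {ℓ : ℕ} (h : ℓ ∈ S23.B0) : Nat.lor ℓ (2 ^ 23) ∈ S24.Pinit := by
  rw [S24.hPinit, List.mem_map]
  exact ⟨ℓ, h, rfl⟩

theorem derL_X24 : derL X24 = X23 := by
  symm
  have hsub : X23 ⊆ derL X24 := by
    rintro c ⟨ℓ, hℓ, rfl⟩
    show addLast (dec 23 ℓ) ∈ X24
    rw [← dec_or_last]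
    exact ⟨_, lmem_iff.1 (List.all_eq_true.1 cPinit _ (mem_Pinit hℓ)), rfl⟩
  apply Set.eq_of_subset_of_ncard_le hsub
  have h1 := Steiner.ncard_blocks (steiner_derL (t := 4) (k := 7) steiner_X24)
  rw [Fintype.card_fin] at h1
  have h2 : (derL X24).ncard = 253 := by
    have : (derL X24).ncard * Nat.choose 7 4 = 253 * Nat.choose 7 4 := by rw [h1]; decide
    exact Nat.eq_of_mul_eq_mul_right (by decide) this
  rw [h2, ncard_B0set S23.B0 c23lt (nodup_of_sincr _ c23s), S23.hB0len]

theorem idlist_getD : ∀ i : Fin 24,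
    [0, 1, 2, 3, 4, 5, 6, 7, 8, 9, 10, 11, 12, 13, 14, 15, 16, 17, 18, 19, 20, 21, 22, 23].getD
      i.val 0 = i.val := by decide

/-- unique extension: a Steiner system `S(5, 8, 24)` is determined by its derived design -/
theorem UE24 (B' : Set (Finset (Fin 24))) (hB' : IsSteinerSystem 5 8 B') (hd : derL B' = X23) :
    B' = X24 := by
  have hP : ∀ p ∈ S24.Pinit, dec 24 p ∈ B' := by
    intro p hp
    rw [S24.hPinit, List.mem_map] at hp
    obtain ⟨ℓ, hℓ, rfl⟩ := hp
    rw [dec_or_last]
    have : dec 23 ℓ ∈ derL B' := by rw [hd]; exact ⟨ℓ, hℓ, rfl⟩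
    exact this
  obtain ⟨π, h, hπ, hiff⟩ := S24.normal_form hB' hP
  have hπ' : π = [0, 1, 2, 3, 4, 5, 6, 7, 8, 9, 10, 11, 12, 13, 14, 15, 16, 17, 18, 19, 20, 21,
      22, 23] := by
    simpa [S24.W] using hπ
  subst hπ'
  have hone : lperm 24 _ h = 1 := by
    ext i
    rw [lperm_apply]
    exact idlist_getD i
  ext b
  rw [hiff b, hone]
  simp

/-- the automorphism group of the reference `S(4, 7, 23)` is a point stabiliser in the automorphism
group of the reference `S(5, 8, 24)` -/
noncomputable def aut23Equiv :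
    setSystemAut X23 ≃* MulAction.stabilizer (setSystemAut X24) (Fin.last 23) :=
  autDerEquiv (t := 4) (k := 7) steiner_X24 derL_X24 UE24

end Cfsg.Agent.Lib.Helper6.M23Aut
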