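import Mathlib
import Cfsg.Prelude.Def_Sporadic_a
import Cfsg.Agent.Lib.Helper6.SteinerAutE

/-! Transport of point stabilisers in automorphism groups of set systems. -/

set_option autoImplicit false
set_option linter.unusedSectionVars false

namespace Cfsg.Agent.Lib.Helper6.SteinerSearch

open Cfsg
open scoped Pointwise

universe u w

variable {α : Type u} {γ : Type w} [DecidableEq α] [DecidableEq γ]

theorem aut_smul_eq_apply {B : Set (Finset α)} (g : setSystemAut B) (x : α) : g • x = g.1 x := rfl

theorem autEquiv_apply {B : Set (Finset α)} {X : Set (Finset γ)} (f : α ≃ γ)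
    (hf : ∀ a : Finset α, a ∈ B ↔ a.image f ∈ X) (g : setSystemAut X) (a : α) :
    (autEquiv f hf g).1 a = f.symm (g.1 (f a)) := rfl

theorem autEquiv_symm_apply {B : Set (Finset α)} {X : Set (Finset γ)} (f : α ≃ γ)
    (hf : ∀ a : Finset α, a ∈ B ↔ a.image f ∈ X) (h : setSystemAut B) (c : γ) :
    ((autEquiv f hf).symm h).1 c = f (h.1 (f.symm c)) := rfl

/-- the isomorphism of point stabilisers induced by an isomorphism of set systems -/
def stabEquiv {B : Set (Finset α)} {X : Set (Finset γ)} (f : α ≃ γ)
    (hf : ∀ a : Finset α, a ∈ B ↔ a.image f ∈ X) (x : γ) :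
    MulAction.stabilizer (setSystemAut X) x ≃* MulAction.stabilizer (setSystemAut B) (f.symm x) where
  toFun g := ⟨autEquiv f hf g.1, by
    have := g.2
    rw [MulAction.mem_stabilizer_iff, aut_smul_eq_apply] at this ⊢
    rw [autEquiv_apply, Equiv.apply_symm_apply, this]⟩
  invFun h := ⟨(autEquiv f hf).symm h.1, by
    have := h.2
    rw [MulAction.mem_stabilizer_iff, aut_smul_eq_apply] at this ⊢
    rw [autEquiv_symm_apply, this, Equiv.apply_symm_apply]⟩
  left_inv g := Subtype.ext ((autEquiv f hf).symm_apply_apply g.1)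
  right_inv h := Subtype.ext ((autEquiv f hf).apply_symm_apply h.1)
  map_mul' g h := Subtype.ext (map_mul (autEquiv f hf) g.1 h.1)

/-- the characterisation of an isomorphism of set systems, inverted -/
theorem iff_symm {B : Set (Finset α)} {X : Set (Finset γ)} (f : α ≃ γ)
    (hf : ∀ a : Finset α, a ∈ B ↔ a.image f ∈ X) :
    ∀ c : Finset γ, c ∈ X ↔ c.image f.symm ∈ B := by
  intro c
  rw [hf, Finset.image_image]
  have : (f ∘ f.symm : γ → γ) = id := by funext i; exact f.apply_symm_apply i
  rw [this, Finset.image_id]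

end Cfsg.Agent.Lib.Helper6.SteinerSearch
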