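import Mathlib
import Cfsg.Prelude.Def_Sporadic_a
import Cfsg.Agent.Lib.Helper6.M23Aut
import Cfsg.Agent.Lib.Helper6.SteinerAutS

/-! The automorphism group of the reference system `S(3, 6, 22)`: a subgroup of index two isomorphic
to a two-point stabiliser in the automorphism group of the reference system `S(5, 8, 24)`. -/

set_option autoImplicit false
set_option maxRecDepth 1000000

namespace Cfsg.Agent.Lib.Helper6.M22Aut

open Cfsg Cfsg.Agent.Lib.Helper6.SteinerSearch Cfsg.Agent.Lib.Helper6.SteinerG
open Cfsg.Agent.Lib.Helper6.M23Aut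
open scoped Pointwise

/-- the reference system `S(3, 6, 22)` -/
abbrev X22 : Set (Finset (Fin 22)) := B0set 22 S22.B0

theorem steiner_X23 : IsSteinerSystem 4 7 X23 := by
  have := steiner_derL (t := 4) (k := 7) steiner_X24
  rwa [derL_X24] at this

theorem c22s : sincr S22.B0 = true := by decide +kernel

theorem c22lt : ∀ p ∈ S22.B0, p < 2 ^ 22 := by decide +kernel

theorem cPinit23 : S23.Pinit.all (fun p => lmem p S23.B0) = true := by decide +kernel

theorem derL_X23 : derL X23 = X22 := by
  symm
  have hsub : X22 ⊆ derL X23 := by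
    rintro c ⟨ℓ, hℓ, rfl⟩
    show addLast (dec 22 ℓ) ∈ X23
    rw [← dec_or_last]
    have : Nat.lor ℓ (2 ^ 22) ∈ S23.Pinit := by
      rw [S23.hPinit, List.mem_map]
      exact ⟨ℓ, hℓ, rfl⟩
    exact ⟨_, lmem_iff.1 (List.all_eq_true.1 cPinit23 _ this), rfl⟩
  apply Set.eq_of_subset_of_ncard_le hsub
  have h1 := Steiner.ncard_blocks (steiner_derL (t := 3) (k := 6) steiner_X23)
  rw [Fintype.card_fin] at h1
  have h2 : (derL X23).ncard = 77 := by
    have : (derL X23).ncard * Nat.choose 6 3 = 77 * Nat.choose 6 3 := by rw [h1]; decide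
    exact Nat.eq_of_mul_eq_mul_right (by decide) this
  rw [h2, ncard_B0set S22.B0 c22lt (nodup_of_sincr _ c22s), S22.hB0len]

/-- extension by fixing the last point, as a homomorphism -/
def extLastHom (n : ℕ) : Equiv.Perm (Fin n) →* Equiv.Perm (Fin (n + 1)) where
  toFun := extLast
  map_one' := extLast_one
  map_mul' := extLast_mul

/-- the automorphisms of the reference `S(3, 6, 22)` extending to the reference `S(4, 7, 23)` -/
def K22 : Subgroup (Equiv.Perm (Fin 22)) := (setSystemAut X23).comap (extLastHom 22)

theorem mem_K22 {g : Equiv.Perm (Fin 22)} : g ∈ K22 ↔ extLast g ∈ setSystemAut X23 := Iff.rfl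

theorem K22_le : K22 ≤ setSystemAut X22 := by
  intro g hg
  have := mem_aut_derL_of_extLast (mem_K22.1 hg)
  rwa [derL_X23] at this

/-- the subgroup `K22` is the stabiliser of the last point -/
def kEquiv : K22 ≃* MulAction.stabilizer (setSystemAut X23) (Fin.last 22) where
  toFun g := ⟨⟨extLast g.1, g.2⟩, by
    rw [MulAction.mem_stabilizer_iff, smul_eq_apply]
    exact extLast_last g.1⟩
  invFun h := ⟨restrLast h.1.1 (stab_last h), by
    rw [mem_K22, extLast_restrLast]
    exact h.1.2⟩
  left_inv g := Subtype.ext (restrLast_extLast g.1)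
  right_inv h := Subtype.ext (Subtype.ext (extLast_restrLast h.1.1 (stab_last h)))
  map_mul' g h := Subtype.ext (Subtype.ext (extLast_mul g.1 h.1))

/-- an isomorphism of groups restricted to corresponding subgroups -/
def subEquiv {G G' : Type*} [Group G] [Group G'] (φ : G ≃* G') (S : Subgroup G) (S' : Subgroup G')
    (h : ∀ g, g ∈ S ↔ φ g ∈ S') : S ≃* S' where
  toFun g := ⟨φ g.1, (h g.1).1 g.2⟩
  invFun k := ⟨φ.symm k.1, (h _).2 (by rw [φ.apply_symm_apply]; exact k.2)⟩
  left_inv g := Subtype.ext (φ.symm_apply_apply g.1)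
  right_inv k := Subtype.ext (φ.apply_symm_apply k.1)
  map_mul' g g' := Subtype.ext (map_mul φ g.1 g'.1)

/-- the stabiliser of a point in the stabiliser of a point -/
def stabStabEquiv (G : Type*) [Group G] {X : Type*} [MulAction G X] (p q : X) :
    MulAction.stabilizer (MulAction.stabilizer G p) q ≃*
      ↥(MulAction.stabilizer G p ⊓ MulAction.stabilizer G q) where
  toFun k := ⟨k.1.1, ⟨k.1.2, by
    have := k.2
    rw [MulAction.mem_stabilizer_iff] at this
    show k.1.1 • q = q
    exact this⟩⟩
  invFun t := ⟨⟨t.1, t.2.1⟩, by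
    have : t.1 • q = q := t.2.2
    rw [MulAction.mem_stabilizer_iff]
    exact this⟩
  left_inv _ := rfl
  right_inv _ := rfl
  map_mul' _ _ := rfl

/-- the chosen identification of the points of the code with `Fin 24` -/
noncomputable def e24 : GolayPt ≃ Fin 24 := Classical.choose exists_e24

theorem he24 : ∀ a, a ∈ octads ↔ a.image e24 ∈ X24 := Classical.choose_spec exists_e24

/-- the first fixed point -/
noncomputable def p24 : GolayPt := e24.symm (Fin.last 23)

/-- the second fixed point -/
noncomputable def q24 : GolayPt := e24.symm (Fin.castSucc (Fin.last 22))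

theorem p24_ne_q24 : p24 ≠ q24 := by
  intro h
  have := e24.symm.injective h
  exact absurd this.symm (Fin.castSucc_lt_last _).ne

/-- the automorphism group of the reference `S(4, 7, 23)` as a point stabiliser for the octads -/
noncomputable def φ23 :
    setSystemAut X23 ≃* MulAction.stabilizer (setSystemAut octads) p24 :=
  aut23Equiv.trans (stabEquiv e24 he24 (Fin.last 23))

theorem φ23_apply (g : setSystemAut X23) (j : Fin 23) :
    (φ23 g).1.1 (e24.symm (Fin.castSucc j)) = e24.symm (Fin.castSucc (g.1 j)) := by
  show e24.symm (extLast g.1 (e24 (e24.symm (Fin.castSucc j)))) = _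
  rw [Equiv.apply_symm_apply, extLast_castSucc]

/-- the subgroup `K22` as a two-point stabiliser for the octads -/
noncomputable def k22Equiv :
    K22 ≃* ↥(MulAction.stabilizer (setSystemAut octads) p24 ⊓
      MulAction.stabilizer (setSystemAut octads) q24) :=
  (kEquiv.trans (subEquiv φ23 (MulAction.stabilizer (setSystemAut X23) (Fin.last 22))
    (MulAction.stabilizer (MulAction.stabilizer (setSystemAut octads) p24) q24) (by
      intro g
      rw [MulAction.mem_stabilizer_iff, MulAction.mem_stabilizer_iff, smul_eq_apply]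
      show g.1 (Fin.last 22) = Fin.last 22 ↔ (φ23 g).1.1 q24 = q24
      unfold q24
      rw [φ23_apply]
      constructor
      · intro h; rw [h]
      · intro h
        exact Fin.castSucc_injective _ (e24.symm.injective h)))).trans
    (stabStabEquiv (setSystemAut octads) p24 q24)

end Cfsg.Agent.Lib.Helper6.M22Aut
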