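import Mathlib
import Cfsg.Prelude.Def_Sporadic_a
import Cfsg.Agent.Lib.Helper6.M22Aut
import Cfsg.Agent.S0366
import Cfsg.Agent.S0369
import Cfsg.Agent.S0378
import Cfsg.Agent.S0379

/-! The automorphism group of the reference system `S(3, 6, 22)`: order, transitivity and the
subgroup of index two. -/

set_option autoImplicit false
set_option maxRecDepth 1000000

namespace Cfsg.Agent.Lib.Helper6.M22Aut

open Cfsg Cfsg.Agent.Lib.Helper6.SteinerSearch Cfsg.Agent.Lib.Helper6.SteinerG
open Cfsg.Agent.Lib.Helper6.M23Aut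
open scoped Pointwise

/-- a relabelling given by a list preserving a reference system is an automorphism -/
theorem aut_of_check {v : ℕ} (l : List ℕ) (hl : ∀ m ∈ l, m < 2 ^ v) (hnd : l.Nodup) (π : List ℕ)
    (hv : validPerm v π = true) (h : l.all (fun b => lmem (pmask π b v) l) = true) :
    lperm v π hv ∈ setSystemAut (B0set v l) := by
  classical
  rw [List.all_eq_true] at h
  set σ := lperm v π hv with hσ
  have hinj : Function.Injective σ := σ.injective
  have hinjI : ∀ x ∈ l, ∀ y ∈ l, pmask π x v = pmask π y v → x = y := by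
    intro x hx y hy hxy
    apply dec_inj (hl x hx) (hl y hy)
    have h1 := dec_pmask π hv x
    have h2 := dec_pmask π hv y
    rw [hxy] at h1
    rw [h1] at h2
    exact Finset.image_injective hinj h2
  set IM : Finset ℕ := (l.map (fun p => pmask π p v)).toFinset with hIM
  have hIMcard : IM.card = l.length := by
    rw [hIM, List.toFinset_card_of_nodup (List.Nodup.map_on hinjI hnd), List.length_map]
  have hIMsub : IM ⊆ l.toFinset := by
    intro β hβ
    rw [hIM, List.mem_toFinset, List.mem_map] at hβ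
    obtain ⟨p, hp, rfl⟩ := hβ
    rw [List.mem_toFinset]
    exact lmem_iff.1 (h p hp)
  have hIMeq : IM = l.toFinset := by
    apply Finset.eq_of_subset_of_card_le hIMsub
    rw [hIMcard]
    exact List.toFinset_card_le l
  rw [mem_aut_iff']
  intro b
  constructor
  · rintro ⟨β, hβ, rfl⟩
    exact ⟨pmask π β v, lmem_iff.1 (h β hβ), dec_pmask π hv β⟩
  · rintro ⟨β, hβ, hβb⟩
    have : β ∈ IM := by rw [hIMeq, List.mem_toFinset]; exact hβ
    rw [hIM, List.mem_toFinset, List.mem_map] at this
    obtain ⟨p, hp, rfl⟩ := this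
    rw [dec_pmask π hv p] at hβb
    have := Finset.image_injective hinj hβb
    rw [← this]
    exact ⟨p, hp, rfl⟩

theorem dec_castSucc {n m : ℕ} (hm : m < 2 ^ n) :
    dec (n + 1) m = (dec n m).map Fin.castSuccEmb := by
  ext i
  rw [mem_dec, Finset.mem_map]
  refine Fin.lastCases ?_ (fun j => ?_) i
  · rw [Fin.val_last, testBit_false_of_lt hm (le_refl n)]
    constructor
    · intro h; exact absurd h (by simp)
    · rintro ⟨a, _, ha⟩
      exact absurd ha (Fin.castSucc_lt_last a).ne
  · constructor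
    · intro h
      exact ⟨j, (mem_dec (v := n)).2 h, rfl⟩
    · rintro ⟨a, ha, hja⟩
      have : a = j := Fin.castSucc_injective _ hja
      have h := (mem_dec (v := n)).1 ha
      rw [this] at h
      exact h

theorem image_extLast_map {n : ℕ} (σ : Equiv.Perm (Fin n)) (c : Finset (Fin n)) :
    (c.map Fin.castSuccEmb).image (extLast σ) = (c.image σ).map Fin.castSuccEmb := by
  ext i
  simp only [Finset.mem_image, Finset.mem_map, Fin.coe_castSuccEmb]
  constructor
  · rintro ⟨_, ⟨a, ha, rfl⟩, rfl⟩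
    exact ⟨σ a, ⟨a, ha, rfl⟩, (extLast_castSucc σ a).symm⟩
  · rintro ⟨_, ⟨a, ha, rfl⟩, rfl⟩
    exact ⟨Fin.castSucc a, ⟨a, ha, rfl⟩, extLast_castSucc σ a⟩

/-- an automorphism of the reference `S(3, 6, 22)` which does not extend -/
def g0 : List ℕ := [9, 15, 0, 6, 7, 1, 14, 8, 2, 4, 11, 13, 12, 10, 5, 3, 17, 16, 18, 21, 19, 20]

theorem g0_valid : validPerm 22 g0 = true := by decide +kernel

theorem g0_chk : S22.B0.all (fun b => lmem (pmask g0 b 22) S22.B0) = true := by decide +kernel

theorem g0_wit : lmem 71460 S23.B0 = true ∧ pmask g0 71460 22 = 137239 ∧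
    lmem 137239 S23.B0 = false := by decide +kernel

/-- the automorphism given by `g0` -/
noncomputable def σ0 : Equiv.Perm (Fin 22) := lperm 22 g0 g0_valid

theorem σ0_mem : σ0 ∈ setSystemAut X22 :=
  aut_of_check S22.B0 c22lt (nodup_of_sincr _ c22s) g0 g0_valid g0_chk

theorem σ0_not_mem : σ0 ∉ K22 := by
  intro h
  rw [mem_K22, mem_aut_iff'] at h
  obtain ⟨h1, h2, h3⟩ := g0_wit
  have hb : dec 23 71460 ∈ X23 := ⟨_, lmem_iff.1 h1, rfl⟩
  have := (h _).1 hb
  rw [dec_castSucc (n := 22) (by norm_num), image_extLast_map, σ0, ← dec_pmask g0 g0_valid, h2,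
    ← dec_castSucc (n := 22) (by norm_num)] at this
  obtain ⟨β, hβ, hβe⟩ := this
  have : β = 137239 := dec_inj (c23lt β hβ) (by norm_num) hβe
  rw [this] at hβ
  have := lmem_iff.2 hβ
  rw [h3] at this
  exact absurd this (by simp)

theorem imgSys_mul {v : ℕ} (σ τ : Equiv.Perm (Fin v)) (B : Set (Finset (Fin v))) :
    imgSys (σ * τ) B = imgSys σ (imgSys τ B) := by
  ext b
  show b.image (σ * τ).symm ∈ B ↔ (b.image σ.symm).image τ.symm ∈ B
  rw [Finset.image_image]
  rfl

theorem imgSys_one {v : ℕ} (B : Set (Finset (Fin v))) : imgSys 1 B = B := by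
  ext b
  show b.image (1 : Equiv.Perm (Fin v)).symm ∈ B ↔ b ∈ B
  have : ((1 : Equiv.Perm (Fin v)).symm : Fin v → Fin v) = id := rfl
  rw [this, Finset.image_id]

/-- the first relabelling at the leaves of the search for `S(4, 7, 23)` -/
def πa : List ℕ := [8, 14, 9, 15, 10, 12, 11, 13, 6, 0, 7, 1, 4, 2, 5, 3, 20, 18, 21, 19, 22, 16, 17]

theorem hW23 : S23.W = [πa, [0, 1, 2, 3, 4, 5, 6, 7, 8, 9, 10, 11, 12, 13, 14, 15, 16, 17, 18, 19,
    20, 21, 22]] := by decide +kernel

theorem πa_valid : validPerm 23 πa = true := by decide +kernel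

/-- the other extension of the reference `S(3, 6, 22)` -/
def X23' : Set (Finset (Fin 23)) := {b | b.image (lperm 23 πa πa_valid) ∈ X23}

theorem idlist23_getD : ∀ i : Fin 23,
    [0, 1, 2, 3, 4, 5, 6, 7, 8, 9, 10, 11, 12, 13, 14, 15, 16, 17, 18, 19, 20, 21, 22].getD
      i.val 0 = i.val := by decide

theorem imgSys_of_not_mem {g : Equiv.Perm (Fin 22)} (hg : g ∈ setSystemAut X22) (hn : g ∉ K22) :
    imgSys (extLast g) X23 = X23' := by
  have hB' := steiner_imgSys (extLast g) steiner_X23
  have hP : ∀ p ∈ S23.Pinit, dec 23 p ∈ imgSys (extLast g) X23 := by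
    intro p hp
    rw [S23.hPinit, List.mem_map] at hp
    obtain ⟨ℓ, hℓ, rfl⟩ := hp
    rw [dec_or_last]
    have : dec 22 ℓ ∈ derL (imgSys (extLast g) X23) := by
      rw [derL_imgSys, derL_X23, imgSys_eq_self hg]
      exact ⟨ℓ, hℓ, rfl⟩
    exact this
  obtain ⟨π, h, hπ, hiff⟩ := S23.normal_form hB' hP
  rw [hW23] at hπ
  simp only [List.mem_cons, List.not_mem_nil, or_false] at hπ
  rcases hπ with rfl | rfl
  · ext b
    rw [hiff b]
    rfl
  · exfalso
    apply hn
    rw [mem_K22]
    apply mem_aut_of_imgSys_eq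
    have hone : lperm 23 _ h = 1 := by
      ext i
      rw [lperm_apply]
      exact idlist23_getD i
    ext b
    rw [hiff b, hone]
    simp

theorem inv_mul_mem_K22 {g g' : Equiv.Perm (Fin 22)} (hg : g ∈ setSystemAut X22) (hn : g ∉ K22)
    (hg' : g' ∈ setSystemAut X22) (hn' : g' ∉ K22) : g⁻¹ * g' ∈ K22 := by
  rw [mem_K22]
  apply mem_aut_of_imgSys_eq
  have e1 : extLast (g⁻¹ * g') = (extLast g)⁻¹ * extLast g' := by
    have := map_mul (extLastHom 22) g⁻¹ g'
    rw [map_inv] at this
    exact this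
  rw [e1, imgSys_mul, imgSys_of_not_mem hg' hn', ← imgSys_of_not_mem hg hn, ← imgSys_mul,
    inv_mul_cancel, imgSys_one]

/-- the subgroup of index two -/
def H22 : Subgroup (setSystemAut X22) := K22.subgroupOf (setSystemAut X22)

theorem H22_index : H22.index = 2 := by
  rw [Subgroup.index_eq_two_iff]
  refine ⟨⟨σ0, σ0_mem⟩, fun b => ?_⟩
  by_cases hb : b.1 ∈ K22
  · right
    refine ⟨Subgroup.mem_subgroupOf.2 hb, fun h => ?_⟩
    have h' : b.1 * σ0 ∈ K22 := Subgroup.mem_subgroupOf.1 h
    have := K22.mul_mem (K22.inv_mem hb) h'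
    rw [inv_mul_cancel_left] at this
    exact σ0_not_mem this
  · left
    refine ⟨?_, fun h => hb (Subgroup.mem_subgroupOf.1 h)⟩
    apply Subgroup.mem_subgroupOf.2
    show b.1 * σ0 ∈ K22
    have hbi : b.1⁻¹ ∉ K22 := fun h => hb (by simpa using K22.inv_mem h)
    have := inv_mul_mem_K22 ((setSystemAut X22).inv_mem b.2) hbi σ0_mem σ0_not_mem
    rwa [inv_inv] at this

theorem hM : setSystemAut octads = M24 := Cfsg.Agent.S0369.result.symm

theorem K22_card : Nat.card K22 = 443520 := by
  rw [Nat.card_congr k22Equiv.toEquiv, hM]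
  exact Cfsg.Agent.S0378.result p24 q24 p24_ne_q24

theorem K22_simple : IsSimpleGroup K22 := by
  have : IsSimpleGroup ↥(MulAction.stabilizer (setSystemAut octads) p24 ⊓
      MulAction.stabilizer (setSystemAut octads) q24) := by
    rw [hM]
    exact Cfsg.Agent.S0379.result p24 q24 p24_ne_q24
  exact k22Equiv.isSimpleGroup

theorem H22_card : Nat.card H22 = 443520 := by
  rw [H22, Nat.card_congr (Subgroup.subgroupOfEquivOfLe K22_le).toEquiv]
  exact K22_card

theorem H22_simple : IsSimpleGroup H22 := by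
  have := K22_simple
  exact (Subgroup.subgroupOfEquivOfLe K22_le).isSimpleGroup

theorem A22_card : Nat.card (setSystemAut X22) = 887040 := by
  rw [← Subgroup.index_mul_card H22, H22_index, H22_card]

theorem A22_trans : MulAction.IsMultiplyPretransitive (setSystemAut X22) (Fin 22) 3 := by
  have h5 : MulAction.IsMultiplyPretransitive (setSystemAut octads) GolayPt 5 := by
    rw [hM]; exact Cfsg.Agent.S0366.result
  have h5' : MulAction.IsMultiplyPretransitive (setSystemAut X24) (Fin 24) 5 :=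
    pretransitive_transport e24.symm (iff_symm e24 he24) 5 h5
  have h4 := derL_pretransitive 4 h5'
  rw [derL_X24] at h4
  have h3 := derL_pretransitive 3 h4
  rwa [derL_X23] at h3

end Cfsg.Agent.Lib.Helper6.M22Aut
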