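import Mathlib
import Cfsg.Prelude.Def_Sporadic_a
import Cfsg.Agent.Lib.Helper6.HSGraph
import Cfsg.Agent.Lib.Helper6.M22Aut2

/-! The reference graph on 100 vertices: numerical labels of the vertices, and automorphisms given
by tables. -/

set_option autoImplicit false
set_option maxRecDepth 1000000

namespace Cfsg.Agent.Lib.Helper6.HSGraph

open Cfsg Cfsg.Agent.Lib.Helper6.SteinerSearch Cfsg.Agent.Lib.Helper6.SteinerG
open Cfsg.Agent.Lib.Helper6.M23Aut Cfsg.Agent.Lib.Helper6.M22Aut

/-- the vertices of the reference graph -/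
abbrev V0 : Type := Option (Fin 22 ⊕ X22)

/-- the reference graph -/
abbrev Γ0 : SimpleGraph V0 := pointBlockGraph X22

theorem steiner_X22 : IsSteinerSystem 3 6 X22 := by
  have := steiner_derL (t := 3) (k := 6) steiner_X23
  rwa [derL_X23] at this

theorem enc_dec {v m : ℕ} (hm : m < 2 ^ v) : enc (dec v m) = m :=
  dec_inj (enc_lt _) hm (dec_enc _)

theorem enc_mem (b : X22) : enc b.1 ∈ S22.B0 := by
  obtain ⟨β, hβ, e⟩ := b.2
  rw [← e, enc_dec (c22lt β hβ)]
  exact hβ

/-- adjacency on labels -/
def adjL (x y : ℕ) : Bool :=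
  Nat.beq (x / 4194304 + y / 4194304) 3 ||
    (Nat.beq (x / 4194304 + y / 4194304) 1 &&
      !(Nat.beq (Nat.land (x % 4194304) (y % 4194304)) 0)) ||
    (Nat.beq (x / 4194304 + y / 4194304) 0 &&
      Nat.beq (Nat.land (x % 4194304) (y % 4194304)) 0 && !(Nat.beq x y))

theorem beq_true_iff {a b : ℕ} : Nat.beq a b = true ↔ a = b :=
  ⟨Nat.eq_of_beq_eq_true, fun h => h ▸ Nat.beq_refl a⟩

theorem beq_false_of_ne {a b : ℕ} (h : a ≠ b) : Nat.beq a b = false := by
  cases hb : Nat.beq a b
  · rfl
  · exact absurd (Nat.eq_of_beq_eq_true hb) h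

theorem beq_comm' (a b : ℕ) : Nat.beq a b = Nat.beq b a := by
  cases h : Nat.beq b a
  · apply beq_false_of_ne
    intro e
    rw [e, Nat.beq_refl] at h
    cases h
  · rw [Nat.eq_of_beq_eq_true h]
    exact Nat.beq_refl a

theorem adjL_comm (x y : ℕ) : adjL x y = adjL y x := by
  unfold adjL
  have h1 : Nat.land (x % 4194304) (y % 4194304) = Nat.land (y % 4194304) (x % 4194304) :=
    Nat.land_comm _ _
  rw [h1, beq_comm' x y, Nat.add_comm (x / 4194304)]

/-- the label of a vertex -/
noncomputable def lab : V0 → ℕ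
  | none => 8388608
  | some (Sum.inl a) => 4194304 + 2 ^ a.val
  | some (Sum.inr b) => enc b.1

theorem two_pow_lt (a : Fin 22) : 2 ^ a.val < 4194304 := by
  have : (4194304 : ℕ) = 2 ^ 22 := by norm_num
  rw [this]
  exact Nat.pow_lt_pow_right (by norm_num) a.2

theorem enc_lt' (b : Finset (Fin 22)) : enc b < 4194304 := by
  have : (4194304 : ℕ) = 2 ^ 22 := by norm_num
  rw [this]
  exact enc_lt b

theorem adjL_none_pt (t : ℕ) (ht : t < 4194304) : adjL 8388608 (4194304 + t) = true := by
  unfold adjL
  have h1 : 8388608 / 4194304 + (4194304 + t) / 4194304 = 3 := by omega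
  rw [h1]
  rfl

theorem adjL_none_none : adjL 8388608 8388608 = false := by decide

theorem adjL_none_blk (m : ℕ) (hm : m < 4194304) : adjL 8388608 m = false := by
  unfold adjL
  have h1 : 8388608 / 4194304 + m / 4194304 = 2 := by omega
  rw [h1]
  rfl

theorem adjL_pt_pt (t t' : ℕ) (ht : t < 4194304) (ht' : t' < 4194304) :
    adjL (4194304 + t) (4194304 + t') = false := by
  unfold adjL
  have h1 : (4194304 + t) / 4194304 + (4194304 + t') / 4194304 = 2 := by omega
  rw [h1]
  rfl

theorem adjL_pt_blk (t m : ℕ) (ht : t < 4194304) (hm : m < 4194304) :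
    adjL (4194304 + t) m = !(Nat.beq (Nat.land t m) 0) := by
  unfold adjL
  have h1 : (4194304 + t) / 4194304 + m / 4194304 = 1 := by omega
  have h2 : (4194304 + t) % 4194304 = t := by omega
  have h3 : m % 4194304 = m := by omega
  rw [h1, h2, h3]
  show (false || (true && !(Nat.beq (Nat.land t m) 0)) || false) = _
  rw [Bool.false_or, Bool.true_and, Bool.or_false]

theorem adjL_blk_blk (m m' : ℕ) (hm : m < 4194304) (hm' : m' < 4194304) :
    adjL m m' = (Nat.beq (Nat.land m m') 0 && !(Nat.beq m m')) := by
  unfold adjL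
  have h1 : m / 4194304 + m' / 4194304 = 0 := by omega
  have h2 : m % 4194304 = m := by omega
  have h3 : m' % 4194304 = m' := by omega
  rw [h1, h2, h3]
  show (false || false || (true && Nat.beq (Nat.land m m') 0 && !(Nat.beq m m'))) = _
  rw [Bool.false_or, Bool.false_or, Bool.true_and]

theorem land_two_pow_ne_zero (a m : ℕ) : Nat.land (2 ^ a) m ≠ 0 ↔ m.testBit a = true := by
  show 2 ^ a &&& m ≠ 0 ↔ _
  rw [Nat.two_pow_and]
  cases h : m.testBit a <;> simp

theorem land_eq_zero_iff {m m' : ℕ} (hm : m < 2 ^ 22) :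
    Nat.land m m' = 0 ↔ Disjoint (dec 22 m) (dec 22 m') := by
  show m &&& m' = 0 ↔ _
  rw [Finset.disjoint_left]
  constructor
  · intro h i hi hi'
    rw [mem_dec] at hi hi'
    have := Nat.testBit_and m m' i.val
    rw [h, hi, hi'] at this
    simp at this
  · intro h
    apply Nat.eq_of_testBit_eq
    intro j
    rw [Nat.testBit_and, Nat.zero_testBit]
    by_cases hj : j < 22
    · cases h1 : m.testBit j
      · rfl
      · cases h2 : m'.testBit j
        · rfl
        · exact absurd (mem_dec.2 (show m'.testBit (⟨j, hj⟩ : Fin 22).val = true from h2))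
            (h (mem_dec.2 (show m.testBit (⟨j, hj⟩ : Fin 22).val = true from h1)))
    · rw [testBit_false_of_lt hm (by omega)]
      rfl

theorem enc_injective {v : ℕ} {s t : Finset (Fin v)} (h : enc s = enc t) : s = t := by
  rw [← dec_enc s, ← dec_enc t, h]

/-- adjacency in the reference graph in terms of labels -/
theorem adj_lab (x y : V0) : Γ0.Adj x y ↔ adjL (lab x) (lab y) = true := by
  have key : ∀ x y : V0, pointBlockRel X22 x y → adjL (lab x) (lab y) = true := by
    intro x y h
    rcases x with _ | (a | b) <;> rcases y with _ | (a' | b')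
    · exact absurd h id
    · exact adjL_none_pt _ (two_pow_lt a')
    · exact absurd h id
    · exact absurd h id
    · exact absurd h id
    · have h' : a ∈ b'.1 := h
      show adjL (4194304 + 2 ^ a.val) (enc b'.1) = true
      rw [adjL_pt_blk _ _ (two_pow_lt a) (enc_lt' _), Bool.not_eq_true',
        beq_false_of_ne]
      rw [land_two_pow_ne_zero, ← mem_dec, dec_enc]
      exact h'
    · exact absurd h id
    · exact absurd h id
    · have h' : Disjoint b.1 b'.1 := h
      show adjL (enc b.1) (enc b'.1) = true
      rw [adjL_blk_blk _ _ (enc_lt' _) (enc_lt' _), Bool.and_eq_true, Bool.not_eq_true']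
      constructor
      · rw [beq_true_iff, land_eq_zero_iff (enc_lt _), dec_enc, dec_enc]
        exact h'
      · apply beq_false_of_ne
        intro e
        have e' : b.1 = b'.1 := enc_injective e
        rw [e', disjoint_self] at h'
        have hc := steiner_X22.1 b'.1 b'.2
        rw [h'] at hc
        exact absurd hc (by decide)
  rw [adj_iff]
  constructor
  · rintro ⟨_, h | h⟩
    · exact key x y h
    · rw [adjL_comm]; exact key y x h
  · intro h
    rcases x with _ | (a | b) <;> rcases y with _ | (a' | b')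
    · rw [show lab (none : V0) = 8388608 from rfl, adjL_none_none] at h
      exact absurd h (by decide)
    · exact ⟨by simp, Or.inl trivial⟩
    · rw [show lab (none : V0) = 8388608 from rfl,
        show lab (some (Sum.inr b') : V0) = enc b'.1 from rfl, adjL_none_blk _ (enc_lt' _)] at h
      exact absurd h (by decide)
    · exact ⟨by simp, Or.inr trivial⟩
    · rw [show lab (some (Sum.inl a) : V0) = 4194304 + 2 ^ a.val from rfl,
        show lab (some (Sum.inl a') : V0) = 4194304 + 2 ^ a'.val from rfl,
        adjL_pt_pt _ _ (two_pow_lt a) (two_pow_lt a')] at h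
      exact absurd h (by decide)
    · refine ⟨by simp, Or.inl ?_⟩
      show a ∈ b'.1
      rw [show lab (some (Sum.inl a) : V0) = 4194304 + 2 ^ a.val from rfl,
        show lab (some (Sum.inr b') : V0) = enc b'.1 from rfl,
        adjL_pt_blk _ _ (two_pow_lt a) (enc_lt' _), Bool.not_eq_true'] at h
      have h1 : Nat.land (2 ^ a.val) (enc b'.1) ≠ 0 := fun e => by
        rw [e] at h; exact absurd h (by decide)
      rw [land_two_pow_ne_zero, ← mem_dec (v := 22), dec_enc] at h1
      exact h1
    · rw [adjL_comm, show lab (none : V0) = 8388608 from rfl,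
        show lab (some (Sum.inr b) : V0) = enc b.1 from rfl, adjL_none_blk _ (enc_lt' _)] at h
      exact absurd h (by decide)
    · refine ⟨by simp, Or.inr ?_⟩
      show a' ∈ b.1
      rw [adjL_comm, show lab (some (Sum.inl a') : V0) = 4194304 + 2 ^ a'.val from rfl,
        show lab (some (Sum.inr b) : V0) = enc b.1 from rfl,
        adjL_pt_blk _ _ (two_pow_lt a') (enc_lt' _), Bool.not_eq_true'] at h
      have h1 : Nat.land (2 ^ a'.val) (enc b.1) ≠ 0 := fun e => by
        rw [e] at h; exact absurd h (by decide)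
      rw [land_two_pow_ne_zero, ← mem_dec (v := 22), dec_enc] at h1
      exact h1
    · rw [show lab (some (Sum.inr b) : V0) = enc b.1 from rfl,
        show lab (some (Sum.inr b') : V0) = enc b'.1 from rfl,
        adjL_blk_blk _ _ (enc_lt' _) (enc_lt' _), Bool.and_eq_true, Bool.not_eq_true'] at h
      obtain ⟨h1, h2⟩ := h
      rw [beq_true_iff, land_eq_zero_iff (enc_lt _), dec_enc,
        dec_enc] at h1
      refine ⟨?_, Or.inl h1⟩
      intro e
      have e' : b = b' := Sum.inr_injective (Option.some_injective _ e)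
      rw [e', Nat.beq_refl] at h2
      exact absurd h2 (by decide)

end Cfsg.Agent.Lib.Helper6.HSGraph
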