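import Mathlib
import Cfsg.Prelude.Def_Sporadic_a
import Cfsg.Agent.Lib.Helper6.HSGraphRef

/-! Automorphisms of the reference graph given by tables; transitivity and the order of the
automorphism group. -/

set_option autoImplicit false
set_option maxRecDepth 1000000

namespace Cfsg.Agent.Lib.Helper6.HSGraph

open Cfsg Cfsg.Agent.Lib.Helper6.SteinerSearch Cfsg.Agent.Lib.Helper6.SteinerG
open Cfsg.Agent.Lib.Helper6.M23Aut Cfsg.Agent.Lib.Helper6.M22Aut

/-- the labels of all vertices -/
def LL : List ℕ := 8388608 :: ((List.range 22).map (fun a => 4194304 + 2 ^ a) ++ S22.B0)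

theorem LL_length : LL.length = 100 := by decide +kernel

theorem LL_nodup : LL.Nodup := by decide +kernel

theorem lab_mem (x : V0) : lab x ∈ LL := by
  rcases x with _ | (a | b)
  · exact List.mem_cons_self
  · apply List.mem_cons_of_mem
    apply List.mem_append_left
    rw [List.mem_map]
    exact ⟨a.val, List.mem_range.2 a.2, rfl⟩
  · apply List.mem_cons_of_mem
    apply List.mem_append_right
    exact enc_mem b

theorem exists_lab {n : ℕ} (h : n ∈ LL) : ∃ x : V0, lab x = n := by
  rcases List.mem_cons.1 h with h | h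
  · exact ⟨none, h.symm⟩
  · rcases List.mem_append.1 h with h | h
    · rw [List.mem_map] at h
      obtain ⟨a, ha, rfl⟩ := h
      exact ⟨some (Sum.inl ⟨a, List.mem_range.1 ha⟩), rfl⟩
    · refine ⟨some (Sum.inr ⟨dec 22 n, n, h, rfl⟩), ?_⟩
      exact enc_dec (c22lt n h)

theorem lab_injective : Function.Injective lab := by
  intro x y h
  rcases x with _ | (a | b) <;> rcases y with _ | (a' | b')
  · rfl
  · have := two_pow_lt a'
    have h' : 8388608 = 4194304 + 2 ^ a'.val := h
    omega
  · have := enc_lt' b'.1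
    have h' : 8388608 = enc b'.1 := h
    omega
  · have := two_pow_lt a
    have h' : 4194304 + 2 ^ a.val = 8388608 := h
    omega
  · have h' : 4194304 + 2 ^ a.val = 4194304 + 2 ^ a'.val := h
    have h2 : 2 ^ a.val = 2 ^ a'.val := by omega
    have := Nat.pow_right_injective (le_refl 2) h2
    rw [Fin.ext this]
  · have := enc_lt' b'.1
    have h' : 4194304 + 2 ^ a.val = enc b'.1 := h
    have hp := Nat.two_pow_pos a.val
    omega
  · have := enc_lt' b.1
    have h' : enc b.1 = 8388608 := h
    omega
  · have := enc_lt' b.1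
    have h' : enc b.1 = 4194304 + 2 ^ a'.val := h
    have hp := Nat.two_pow_pos a'.val
    omega
  · have h' : enc b.1 = enc b'.1 := h
    rw [Subtype.ext (enc_injective h')]

/-- the check that a table of labels preserves adjacency -/
def chkAdj (L' : List ℕ) : Bool :=
  (List.range 100).all fun i => (List.range 100).all fun j =>
    adjL (L'.getD i 0) (L'.getD j 0) == adjL (LL.getD i 0) (LL.getD j 0)

theorem getD_idxOf (x : V0) : LL.getD (LL.idxOf (lab x)) 0 = lab x := by
  have h := List.idxOf_lt_length_iff.2 (lab_mem x)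
  rw [List.getD_eq_getElem _ _ h, List.getElem_idxOf]

/-- a table of labels which preserves adjacency defines an automorphism -/
theorem exists_aut_of_table (L' : List ℕ) (h1 : L'.length = 100) (h2 : ∀ n ∈ L', n ∈ LL)
    (h3 : L'.Nodup) (h4 : chkAdj L' = true) :
    ∃ φ : Γ0 ≃g Γ0, ∀ x, lab (φ x) = L'.getD (LL.idxOf (lab x)) 0 := by
  classical
  have hidx : ∀ x : V0, LL.idxOf (lab x) < 100 := fun x => by
    rw [← LL_length]; exact List.idxOf_lt_length_iff.2 (lab_mem x)
  have hex : ∀ x : V0, ∃ y : V0, lab y = L'.getD (LL.idxOf (lab x)) 0 := by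
    intro x
    apply exists_lab
    apply h2
    rw [List.getD_eq_getElem _ _ (by rw [h1]; exact hidx x)]
    exact List.getElem_mem _
  choose f hf using hex
  have hinj : Function.Injective f := by
    intro x y hxy
    have e : L'.getD (LL.idxOf (lab x)) 0 = L'.getD (LL.idxOf (lab y)) 0 := by
      rw [← hf x, ← hf y, hxy]
    rw [List.getD_eq_getElem _ _ (by rw [h1]; exact hidx x),
      List.getD_eq_getElem _ _ (by rw [h1]; exact hidx y)] at e
    have e2 := (List.Nodup.getElem_inj_iff h3).1 e
    apply lab_injective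
    rw [← getD_idxOf x, ← getD_idxOf y, e2]
  have hbij : Function.Bijective f := Finite.injective_iff_bijective.1 hinj
  have hadj : ∀ x y : V0, Γ0.Adj (f x) (f y) ↔ Γ0.Adj x y := by
    intro x y
    rw [adj_lab, adj_lab, hf x, hf y]
    unfold chkAdj at h4
    rw [List.all_eq_true] at h4
    have h5 := h4 _ (List.mem_range.2 (hidx x))
    rw [List.all_eq_true] at h5
    have h6 := h5 _ (List.mem_range.2 (hidx y))
    rw [beq_iff_eq] at h6
    rw [h6, getD_idxOf, getD_idxOf]
  exact ⟨{ toEquiv := Equiv.ofBijective f hbij, map_rel_iff' := fun {x y} => hadj x y }, hf⟩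

/-- a table moving the extra vertex to a point -/
def tab1 : List ℕ := [4194305, 12377, 8388608, 2197521, 917, 1606209, 3173, 434181, 27139, 610309, 3145743, 2232865, 329225, 1316993, 657673, 49321, 38147, 1122593, 2630785, 196803, 2376001, 1197073, 786483, 4194308, 394656, 1589634, 4194816, 2180130, 4196352, 591184, 2236690, 1320002, 4194312, 4198400, 680032, 352400, 3145968, 4227072, 4128768, 413706, 4202496, 49238, 395856, 838656, 4259840, 2364436, 2638360, 1343768, 22832, 4194432, 1327652, 3226, 692368, 656902, 4194560, 6291456, 1214498, 1118738, 196668, 4194368, 1578024, 42544, 1583124, 5242880, 2392706, 2627650, 786636, 874, 364640, 329990, 4195328, 2654500, 4325376, 799488, 2369576, 630794, 12454, 4210688, 592544, 2262088, 22208, 4194336, 2246788, 246528, 4718592, 1184068, 1132616, 25868, 3207168, 3149568, 4194306, 4456448, 1148036, 211968, 1188488, 4194320, 2167176, 43456, 2171460, 39436]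

/-- a table moving the extra vertex to a block -/
def tab2 : List ℕ := [874, 211968, 4194306, 838656, 4194312, 3207168, 4194336, 4194368, 4128768, 4194560, 4194816, 434181, 610309, 2197521, 1197073, 1583124, 2364436, 1316993, 2630785, 1148036, 2246788, 352400, 692368, 8388608, 917, 3145968, 3226, 786636, 12454, 22208, 394656, 2167176, 2392706, 1589634, 1188488, 592544, 43456, 196803, 49321, 196668, 49238, 4194305, 246528, 2638360, 2236690, 5242880, 680032, 22832, 395856, 413706, 4195328, 591184, 42544, 4196352, 630794, 1118738, 1343768, 364640, 6291456, 786483, 12377, 799488, 4194308, 656902, 2654500, 2262088, 4456448, 1184068, 39436, 4202496, 1214498, 4259840, 2627650, 2232865, 657673, 1578024, 4210688, 38147, 1606209, 25868, 2171460, 2180130, 4198400, 1327652, 329990, 4718592, 1132616, 4227072, 2369576, 2376001, 27139, 1320002, 4325376, 329225, 1122593, 3145743, 3173, 3149568, 4194320, 4194432]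

theorem tab1_length : tab1.length = 100 := by decide +kernel
theorem tab2_length : tab2.length = 100 := by decide +kernel
theorem tab1_mem : ∀ n ∈ tab1, n ∈ LL := by decide +kernel
theorem tab2_mem : ∀ n ∈ tab2, n ∈ LL := by decide +kernel
theorem tab1_nodup : tab1.Nodup := by decide +kernel
theorem tab2_nodup : tab2.Nodup := by decide +kernel
theorem tab1_chk : chkAdj tab1 = true := by decide +kernel
theorem tab2_chk : chkAdj tab2 = true := by decide +kernel

theorem idxOf_none : LL.idxOf (lab (none : V0)) = 0 := by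
  show LL.idxOf 8388608 = 0
  decide +kernel

/-- the first block of the reference system -/
def blk0 : X22 := ⟨dec 22 874, 874, by decide +kernel, rfl⟩

theorem exists_aut_pt : ∃ φ : Γ0 ≃g Γ0, φ none = some (Sum.inl 0) := by
  obtain ⟨φ, hφ⟩ := exists_aut_of_table tab1 tab1_length tab1_mem tab1_nodup tab1_chk
  refine ⟨φ, lab_injective ?_⟩
  rw [hφ none, idxOf_none]
  show tab1.getD 0 0 = 4194304 + 2 ^ 0
  decide +kernel

theorem exists_aut_blk : ∃ φ : Γ0 ≃g Γ0, φ none = some (Sum.inr blk0) := by
  obtain ⟨φ, hφ⟩ := exists_aut_of_table tab2 tab2_length tab2_mem tab2_nodup tab2_chk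
  refine ⟨φ, lab_injective ?_⟩
  rw [hφ none, idxOf_none]
  show tab2.getD 0 0 = enc (dec 22 874)
  rw [enc_dec (by norm_num)]
  decide +kernel

/-- transitivity on blocks from threefold transitivity on points -/
theorem block_trans {B : Set (Finset (Fin 22))} (hB : IsSteinerSystem 3 6 B)
    (ht : MulAction.IsMultiplyPretransitive (setSystemAut B) (Fin 22) 3)
    {b b' : Finset (Fin 22)} (hb : b ∈ B) (hb' : b' ∈ B) :
    ∃ π : setSystemAut B, b.image π.1 = b' := by
  obtain ⟨s, hs, hs3⟩ := Finset.exists_subset_card_eq (s := b) (n := 3) (by rw [hB.1 b hb]; norm_num)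
  obtain ⟨s', hs', hs3'⟩ := Finset.exists_subset_card_eq (s := b') (n := 3)
    (by rw [hB.1 b' hb']; norm_num)
  obtain ⟨π, hπ⟩ := (MulAction.isMultiplyPretransitive_iff.1 ht)
    (s.orderEmbOfFin hs3).toEmbedding (s'.orderEmbOfFin hs3').toEmbedding
  refine ⟨π, ?_⟩
  have hmem : b.image π.1 ∈ B := ((mem_aut_iff' B π.1).1 π.2 b).1 hb
  have hsub : s' ⊆ b.image π.1 := by
    intro y hy
    have hy' : y ∈ Set.range (s'.orderEmbOfFin hs3') := by
      rw [Finset.range_orderEmbOfFin]; exact hy
    obtain ⟨i, rfl⟩ := hy'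
    have := congrArg (fun x => x i) hπ
    have e : π.1 (s.orderEmbOfFin hs3 i) = s'.orderEmbOfFin hs3' i := this
    rw [← e]
    exact Finset.mem_image_of_mem _ (hs (Finset.orderEmbOfFin_mem s hs3 i))
  obtain ⟨c, _, hc⟩ := hB.2 s' hs3'
  rw [hc _ ⟨hmem, hsub⟩, hc _ ⟨hb', hs'⟩]

/-- the automorphism group of the reference graph is transitive on vertices -/
theorem trans_Γ0 (v : V0) : ∃ φ : Γ0 ≃g Γ0, φ none = v := by
  rcases v with _ | (a | b)
  · exact ⟨1, rfl⟩
  · obtain ⟨φ, hφ⟩ := exists_aut_pt
    have := A22_trans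
    have : MulAction.IsMultiplyPretransitive (setSystemAut X22) (Fin 22) 1 :=
      MulAction.isMultiplyPretransitive_of_le (n := 3) (by norm_num)
        (by rw [Nat.card_eq_fintype_card, Fintype.card_fin]; norm_num)
    have : MulAction.IsPretransitive (setSystemAut X22) (Fin 22) :=
      MulAction.is_one_pretransitive_iff.1 inferInstance
    obtain ⟨π, hπ⟩ := MulAction.exists_smul_eq (setSystemAut X22) (0 : Fin 22) a
    refine ⟨indAut π * φ, ?_⟩
    show indAut π (φ none) = _
    rw [hφ, indAut_pt]
    congr 2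
  · obtain ⟨φ, hφ⟩ := exists_aut_blk
    obtain ⟨π, hπ⟩ := block_trans steiner_X22 A22_trans blk0.2 b.2
    refine ⟨indAut π * φ, ?_⟩
    show indAut π (φ none) = _
    rw [hφ, indAut_blk]
    congr 2
    exact Subtype.ext hπ

theorem card_V0 : Nat.card V0 = 100 := by
  have h77 : Nat.card X22 = 77 := by
    have := ncard_B0set (v := 22) S22.B0 c22lt (nodup_of_sincr _ c22s)
    rw [← Nat.card_coe_set_eq] at this
    rw [this]
    decide +kernel
  have : Fintype X22 := Fintype.ofFinite _
  rw [Nat.card_eq_fintype_card, Fintype.card_option, Fintype.card_sum, Fintype.card_fin,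
    ← Nat.card_eq_fintype_card, h77]

/-- the order of the automorphism group of the reference graph -/
theorem card_aut_Γ0 : Nat.card (Γ0 ≃g Γ0) = 88704000 := by
  rw [card_aut_of_trans X22 trans_Γ0, card_V0, A22_card]

end Cfsg.Agent.Lib.Helper6.HSGraph
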