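import Mathlib
import Cfsg.Prelude.Def_Sporadic_a
import Cfsg.Agent.Lib.Helper6.HSGraphAut

/-! The sign of an automorphism of the reference graph, and the subgroup of even automorphisms. -/

set_option autoImplicit false
set_option maxRecDepth 1000000

namespace Cfsg.Agent.Lib.Helper6.HSGraph

open Cfsg Cfsg.Agent.Lib.Helper6.SteinerSearch Cfsg.Agent.Lib.Helper6.SteinerG
open Cfsg.Agent.Lib.Helper6.M23Aut Cfsg.Agent.Lib.Helper6.M22Aut

/-- the automorphisms of a graph as permutations of the vertices -/
def toPermHom {V : Type*} (G : SimpleGraph V) : (G ≃g G) →* Equiv.Perm V where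
  toFun φ := φ.toEquiv
  map_one' := rfl
  map_mul' _ _ := rfl

theorem toPermHom_apply {V : Type*} (G : SimpleGraph V) (φ : G ≃g G) (x : V) :
    toPermHom G φ x = φ x := rfl

theorem toPermHom_injective {V : Type*} (G : SimpleGraph V) :
    Function.Injective (toPermHom G) := by
  intro φ ψ h
  apply RelIso.ext
  intro x
  exact congrArg (fun e : Equiv.Perm V => e x) h

/-- a product of transpositions -/
def swapsPerm (n : ℕ) : List (Fin n × Fin n) → Equiv.Perm (Fin n)
  | [] => 1
  | p :: l => Equiv.swap p.1 p.2 * swapsPerm n l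

theorem sign_swapsPerm (n : ℕ) (l : List (Fin n × Fin n)) (h : ∀ p ∈ l, p.1 ≠ p.2) :
    Equiv.Perm.sign (swapsPerm n l) = (-1) ^ l.length := by
  induction l with
  | nil => simp [swapsPerm]
  | cons p l ih =>
    unfold swapsPerm
    rw [Equiv.Perm.sign_mul, Equiv.Perm.sign_swap (h p List.mem_cons_self),
      ih (fun q hq => h q (List.mem_cons_of_mem _ hq)), List.length_cons, pow_succ, mul_comm]

theorem idx_lt (x : V0) : LL.idxOf (lab x) < 100 := by
  rw [← LL_length]; exact List.idxOf_lt_length_iff.2 (lab_mem x)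

/-- the numbering of the vertices -/
noncomputable def E100 : V0 ≃ Fin 100 :=
  Equiv.ofBijective (fun x => (⟨LL.idxOf (lab x), idx_lt x⟩ : Fin 100)) (by
    apply Function.Injective.bijective_of_nat_card_le
    · intro x y h
      have h' : LL.idxOf (lab x) = LL.idxOf (lab y) := congrArg Fin.val h
      apply lab_injective
      rw [← getD_idxOf x, ← getD_idxOf y, h']
    · rw [card_V0, Nat.card_eq_fintype_card, Fintype.card_fin])

theorem E100_val (x : V0) : (E100 x).val = LL.idxOf (lab x) := rfl

noncomputable instance : Fintype V0 := Fintype.ofFinite _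

/-- the sign of an automorphism given by a table -/
theorem sign_of_table (L' : List ℕ) (φ : Γ0 ≃g Γ0)
    (hφ : ∀ x, lab (φ x) = L'.getD (LL.idxOf (lab x)) 0) (l : List (Fin 100 × Fin 100))
    (hl : ∀ p ∈ l, p.1 ≠ p.2)
    (hchk : ∀ i : Fin 100, LL.idxOf (L'.getD i.val 0) = (swapsPerm 100 l i).val) :
    Equiv.Perm.sign (toPermHom Γ0 φ) = (-1) ^ l.length := by
  have key : toPermHom Γ0 φ = (E100.symm.symm.trans (swapsPerm 100 l)).trans E100.symm := by
    apply Equiv.ext
    intro x
    show φ x = E100.symm (swapsPerm 100 l (E100 x))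
    rw [Equiv.eq_symm_apply]
    apply Fin.ext
    rw [E100_val, hφ x, ← hchk (E100 x)]
    rfl
  rw [key, Equiv.Perm.sign_symm_trans_trans, sign_swapsPerm _ _ hl]

/-- the table of an odd involution fixing the extra vertex -/
def tab3 : List ℕ := [8388608, 4194432, 4194368, 4194320, 4194336, 4194308, 4194312, 4194306, 4194305, 4194816, 4194560, 4195328, 4196352, 4198400, 4202496, 4227072, 4210688, 4325376, 4259840, 4456448, 4718592, 5242880, 6291456, 874, 917, 3226, 3173, 12454, 12377, 38147, 39436, 42544, 43456, 22208, 22832, 25868, 27139, 49238, 49321, 196668, 196803, 211968, 246528, 394656, 395856, 434181, 413706, 329225, 329990, 364640, 352400, 656902, 657673, 692368, 680032, 591184, 592544, 630794, 610309, 786636, 786483, 799488, 838656, 1184068, 1188488, 1214498, 1197073, 1118738, 1122593, 1148036, 1132616, 1316993, 1320002, 1343768, 1327652, 1578024, 1583124, 1606209, 1589634, 2232865, 2236690, 2262088, 2246788, 2167176, 2171460, 2197521, 2180130, 2364436, 2369576, 2392706, 2376001, 2627650, 2630785, 2654500,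 2638360, 3145968, 3145743, 3149568, 3207168, 4128768]

/-- the transpositions of the involution -/
def swaps3 : List (Fin 100 × Fin 100) := [(1, 8), (2, 7), (3, 5), (4, 6), (9, 10), (15, 16), (17, 18), (25, 26), (27, 28), (29, 33), (30, 34), (31, 35), (32, 36), (43, 47), (44, 48), (45, 50), (46, 49), (51, 55), (52, 56), (53, 58), (54, 57), (59, 60), (63, 67), (64, 68), (65, 70), (66, 69), (73, 74), (77, 78), (79, 83), (80, 84), (81, 86), (82, 85), (89, 90), (93, 94), (95, 96)]

theorem tab3_length : tab3.length = 100 := by decide +kernel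
theorem tab3_mem : ∀ n ∈ tab3, n ∈ LL := by decide +kernel
theorem tab3_nodup : tab3.Nodup := by decide +kernel
theorem tab3_chk : chkAdj tab3 = true := by decide +kernel
theorem swaps3_ne : ∀ p ∈ swaps3, p.1 ≠ p.2 := by decide +kernel
theorem swaps3_chk : ∀ i : Fin 100, LL.idxOf (tab3.getD i.val 0) = (swapsPerm 100 swaps3 i).val := by
  decide +kernel

/-- an odd automorphism fixing the extra vertex -/
theorem exists_odd : ∃ φ : Γ0 ≃g Γ0, φ none = none ∧ Equiv.Perm.sign (toPermHom Γ0 φ) = -1 := by
  obtain ⟨φ, hφ⟩ := exists_aut_of_table tab3 tab3_length tab3_mem tab3_nodup tab3_chk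
  refine ⟨φ, lab_injective ?_, ?_⟩
  · rw [hφ none, idxOf_none]
    show tab3.getD 0 0 = 8388608
    decide +kernel
  · rw [sign_of_table tab3 φ hφ swaps3 swaps3_ne swaps3_chk]
    have : swaps3.length = 35 := by decide +kernel
    rw [this]
    decide

/-- the sign of an automorphism -/
noncomputable def signHom : (Γ0 ≃g Γ0) →* ℤˣ := Equiv.Perm.sign.comp (toPermHom Γ0)

/-- the even automorphisms of the reference graph -/
noncomputable def HS0 : Subgroup (Γ0 ≃g Γ0) := signHom.ker

theorem mem_HS0 (φ : Γ0 ≃g Γ0) : φ ∈ HS0 ↔ Equiv.Perm.sign (toPermHom Γ0 φ) = 1 := Iff.rfl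

instance : HS0.Normal := MonoidHom.normal_ker _

theorem HS0_index : HS0.index = 2 := by
  rw [HS0, Subgroup.index_ker]
  have : signHom.range = ⊤ := by
    rw [eq_top_iff]
    intro u _
    rcases Int.units_eq_one_or u with rfl | rfl
    · exact ⟨1, map_one _⟩
    · obtain ⟨φ, _, hφ⟩ := exists_odd
      exact ⟨φ, hφ⟩
  rw [this, Subgroup.card_top]
  simp

theorem HS0_card : Nat.card HS0 = 44352000 := by
  have h := Subgroup.index_mul_card HS0
  rw [HS0_index, card_aut_Γ0] at h
  omega

end Cfsg.Agent.Lib.Helper6.HSGraph
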