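import Mathlib

/-! A simplicity criterion: a faithful transitive group of degree 100 whose point stabiliser is
simple with orbits of lengths 1, 22 and 77 is simple. -/

set_option autoImplicit false

namespace Cfsg.Agent.Lib.Helper6.Rank3

open MulAction

variable {G X : Type*} [Group G] [MulAction G X]

/-- subsets containing the base point which are invariant under its stabiliser -/
theorem ncard_of_invariant {x0 : X} {P Q : Set X} (hcard : Nat.card X = 100)
    (hP : P.ncard = 22) (hQ : Q.ncard = 77)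
    (hcover : ∀ x, x = x0 ∨ x ∈ P ∨ x ∈ Q) (hx0P : x0 ∉ P) (hx0Q : x0 ∉ Q)
    (hSP : ∀ p ∈ P, ∀ p' ∈ P, ∃ s ∈ stabilizer G x0, s • p = p')
    (hSQ : ∀ q ∈ Q, ∀ q' ∈ Q, ∃ s ∈ stabilizer G x0, s • q = q')
    (Δ : Set X) (hx0 : x0 ∈ Δ) (hinv : ∀ s ∈ stabilizer G x0, ∀ y ∈ Δ, s • y ∈ Δ) :
    Δ.ncard = 1 ∨ Δ.ncard = 23 ∨ Δ.ncard = 78 ∨ Δ.ncard = 100 := by
  classical
  have hfin : Finite X := Nat.finite_of_card_ne_zero (by rw [hcard]; norm_num)
  have hPall : (∃ p ∈ P, p ∈ Δ) → P ⊆ Δ := by
    rintro ⟨p, hp, hpΔ⟩ p' hp'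
    obtain ⟨s, hs, rfl⟩ := hSP p hp p' hp'
    exact hinv s hs p hpΔ
  have hQall : (∃ q ∈ Q, q ∈ Δ) → Q ⊆ Δ := by
    rintro ⟨q, hq, hqΔ⟩ q' hq'
    obtain ⟨s, hs, rfl⟩ := hSQ q hq q' hq'
    exact hinv s hs q hqΔ
  have hdP : Disjoint ({x0} : Set X) P := Set.disjoint_singleton_left.2 hx0P
  have hdQ : Disjoint ({x0} : Set X) Q := Set.disjoint_singleton_left.2 hx0Q
  by_cases h1 : ∃ p ∈ P, p ∈ Δ <;> by_cases h2 : ∃ q ∈ Q, q ∈ Δ
  · right; right; right
    have : Δ = Set.univ := by
      apply Set.eq_univ_of_forall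
      intro x
      rcases hcover x with rfl | hx | hx
      · exact hx0
      · exact hPall h1 hx
      · exact hQall h2 hx
    rw [this, Set.ncard_univ, hcard]
  · right; left
    have : Δ = {x0} ∪ P := by
      ext x
      constructor
      · intro hx
        rcases hcover x with rfl | hx' | hx'
        · exact Or.inl rfl
        · exact Or.inr hx'
        · exact absurd ⟨x, hx', hx⟩ h2
      · rintro (rfl | hx)
        · exact hx0
        · exact hPall h1 hx
    rw [this, Set.ncard_union_eq hdP (Set.toFinite _) (Set.toFinite _), Set.ncard_singleton, hP]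
  · right; right; left
    have : Δ = {x0} ∪ Q := by
      ext x
      constructor
      · intro hx
        rcases hcover x with rfl | hx' | hx'
        · exact Or.inl rfl
        · exact absurd ⟨x, hx', hx⟩ h1
        · exact Or.inr hx'
      · rintro (rfl | hx)
        · exact hx0
        · exact hQall h2 hx
    rw [this, Set.ncard_union_eq hdQ (Set.toFinite _) (Set.toFinite _), Set.ncard_singleton, hQ]
  · left
    have : Δ = {x0} := by
      ext x
      constructor
      · intro hx
        rcases hcover x with rfl | hx' | hx'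
        · rfl
        · exact absurd ⟨x, hx', hx⟩ h1
        · exact absurd ⟨x, hx', hx⟩ h2
      · rintro rfl
        exact hx0
    rw [this, Set.ncard_singleton]

/-- a group of order 100 has exactly 25 elements of order dividing 25 -/
theorem ncard_pow25 {N : Type*} [Group N] (hN : Nat.card N = 100) :
    {n : N | n ^ 25 = 1}.ncard = 25 := by
  classical
  have hfin : Finite N := Nat.finite_of_card_ne_zero (by rw [hN]; norm_num)
  have : Fact (Nat.Prime 5) := ⟨by norm_num⟩
  obtain ⟨P⟩ : Nonempty (Sylow 5 N) := Sylow.nonempty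
  have h25 : 5 ^ 2 ∣ Nat.card (P : Subgroup N) :=
    P.pow_dvd_card_of_pow_dvd_card (by rw [hN]; norm_num)
  have hdvd : Nat.card (P : Subgroup N) ∣ 100 := by
    rw [← hN]; exact Subgroup.card_subgroup_dvd_card _
  obtain ⟨k, hk⟩ := IsPGroup.iff_card.1 P.isPGroup'
  have hPcard : Nat.card (P : Subgroup N) = 25 := by
    rw [hk] at h25 hdvd ⊢
    have hk2 : 2 ≤ k := (Nat.pow_dvd_pow_iff_le_right (by norm_num)).1 h25
    have hk3 : k < 3 := by
      by_contra hcon
      push Not at hcon
      have : 5 ^ 3 ∣ 100 := (Nat.pow_dvd_pow 5 hcon).trans hdvd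
      norm_num at this
    have : k = 2 := by omega
    rw [this]; norm_num
  have hidx : (P : Subgroup N).index = 4 := by
    have := Subgroup.index_mul_card (P : Subgroup N)
    rw [hPcard, hN] at this
    omega
  have hn5 : Nat.card (Sylow 5 N) = 1 := by
    have h1 : Nat.card (Sylow 5 N) ∣ 4 := by rw [← hidx]; exact Sylow.card_dvd_index P
    have h2 : Nat.card (Sylow 5 N) ≡ 1 [MOD 5] := card_sylow_modEq_one 5 N
    have h3 : Nat.card (Sylow 5 N) ≤ 4 := Nat.le_of_dvd (by norm_num) h1
    have h4 : 0 < Nat.card (Sylow 5 N) := Nat.pos_of_dvd_of_pos h1 (by norm_num)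
    unfold Nat.ModEq at h2
    interval_cases (Nat.card (Sylow 5 N)) <;> simp_all
  have hsub : Subsingleton (Sylow 5 N) := (Nat.card_eq_one_iff_unique.1 hn5).1
  have hY : {n : N | n ^ 25 = 1} = ((P : Subgroup N) : Set N) := by
    ext n
    constructor
    · intro hn
      have hn' : n ^ 25 = 1 := hn
      have ho : orderOf n ∣ 5 ^ 2 := orderOf_dvd_of_pow_eq_one hn'
      obtain ⟨m, _, hm⟩ := (Nat.dvd_prime_pow Nat.prime_five).1 ho
      have hp : IsPGroup 5 (Subgroup.zpowers n) := IsPGroup.of_card (n := m) (by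
        rw [Nat.card_zpowers, hm])
      obtain ⟨Q, hQ⟩ := hp.exists_le_sylow
      rw [Subsingleton.elim Q P] at hQ
      exact hQ (Subgroup.mem_zpowers n)
    · intro hn
      have : n ^ Nat.card (P : Subgroup N) = 1 := by
        have := pow_card_eq_one' (G := (P : Subgroup N)) (x := ⟨n, hn⟩)
        exact congrArg Subtype.val this
      rw [hPcard] at this
      exact this
  rw [hY]
  exact hPcard

variable [FaithfulSMul G X] [IsPretransitive G X]

/-- the simplicity criterion -/
theorem isSimpleGroup_of_rank3 {x0 : X} {P Q : Set X} (hcard : Nat.card X = 100)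
    (hP : P.ncard = 22) (hQ : Q.ncard = 77)
    (hcover : ∀ x, x = x0 ∨ x ∈ P ∨ x ∈ Q) (hx0P : x0 ∉ P) (hx0Q : x0 ∉ Q)
    (hSP : ∀ p ∈ P, ∀ p' ∈ P, ∃ s ∈ stabilizer G x0, s • p = p')
    (hSQ : ∀ q ∈ Q, ∀ q' ∈ Q, ∃ s ∈ stabilizer G x0, s • q = q')
    (hS : IsSimpleGroup (stabilizer G x0)) : IsSimpleGroup G := by
  classical
  have hfin : Finite X := Nat.finite_of_card_ne_zero (by rw [hcard]; norm_num)
  have hinvΔ := ncard_of_invariant (G := G) hcard hP hQ hcover hx0P hx0Q hSP hSQ
  have : Nontrivial G := by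
    obtain ⟨a, b, hab⟩ := hS.toNontrivial.exists_pair_ne
    exact ⟨⟨a.1, b.1, fun h => hab (Subtype.ext h)⟩⟩
  refine ⟨fun N hN => ?_⟩
  by_contra hcon
  push Not at hcon
  obtain ⟨hNbot, hNtop⟩ := hcon
  -- the orbit of the base point
  have hblock : IsBlock G (orbit N x0) := IsBlock.orbit_of_normal x0
  have hdvd : (orbit N x0).ncard ∣ 100 := by
    rw [← hcard]
    exact hblock.ncard_dvd_card ⟨x0, mem_orbit_self x0⟩
  have hinv : ∀ s ∈ stabilizer G x0, ∀ y ∈ orbit N x0, s • y ∈ orbit N x0 := by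
    rintro s hs y ⟨n, rfl⟩
    refine ⟨⟨s * n.1 * s⁻¹, hN.conj_mem n.1 n.2 s⟩, ?_⟩
    show (s * n.1 * s⁻¹) • x0 = s • (n.1 • x0)
    rw [mul_smul, mul_smul]
    congr 2
    rw [inv_smul_eq_iff]
    exact (mem_stabilizer_iff.1 hs).symm
  rcases hinvΔ (orbit N x0) (mem_orbit_self x0) hinv with h | h | h | h
  · -- the normal subgroup fixes the base point, hence every point
    obtain ⟨a, ha⟩ := Set.ncard_eq_one.1 h
    have hx0a : x0 = a := by
      have : x0 ∈ orbit N x0 := mem_orbit_self x0
      rw [ha] at this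
      exact this
    apply hNbot
    rw [Subgroup.eq_bot_iff_forall]
    intro n hn
    apply FaithfulSMul.eq_of_smul_eq_smul (α := X)
    intro x
    rw [one_smul]
    obtain ⟨g, rfl⟩ := exists_smul_eq G x0 x
    have h1 : (g⁻¹ * n * g) • x0 ∈ orbit N x0 :=
      ⟨⟨g⁻¹ * n * g, hN.conj_mem' n hn g⟩, rfl⟩
    rw [ha, Set.mem_singleton_iff, ← hx0a] at h1
    rw [mul_smul, mul_smul, inv_smul_eq_iff] at h1
    exact h1
  · rw [h] at hdvd; norm_num at hdvd
  · rw [h] at hdvd; norm_num at hdvd
  · -- the normal subgroup is transitive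
    have huniv : orbit N x0 = Set.univ := by
      apply Set.eq_of_subset_of_ncard_le (Set.subset_univ _) _ (Set.toFinite _)
      rw [Set.ncard_univ, hcard, h]
    have htrans : ∀ x : X, ∃ n : N, n.1 • x0 = x := by
      intro x
      have : x ∈ orbit N x0 := by rw [huniv]; trivial
      obtain ⟨n, rfl⟩ := this
      exact ⟨n, rfl⟩
    have hKn : (N.subgroupOf (stabilizer G x0)).Normal := inferInstance
    rcases hKn.eq_bot_or_eq_top with hK | hK
    · -- the regular case
      rw [Subgroup.subgroupOf_eq_bot] at hK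
      have hinj : Function.Injective (fun n : N => n.1 • x0) := by
        intro n n' hnn
        have h1 : n'.1⁻¹ * n.1 ∈ N ⊓ stabilizer G x0 := by
          rw [Subgroup.mem_inf]
          refine ⟨N.mul_mem (N.inv_mem n'.2) n.2, ?_⟩
          rw [mem_stabilizer_iff, mul_smul, inv_smul_eq_iff]
          exact hnn
        rw [hK.eq_bot, Subgroup.mem_bot, inv_mul_eq_one] at h1
        exact Subtype.ext h1.symm
      have hbij : Function.Bijective (fun n : N => n.1 • x0) := ⟨hinj, htrans⟩
      have hNcard : Nat.card N = 100 := by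
        rw [Nat.card_congr (Equiv.ofBijective _ hbij), hcard]
      have hY := ncard_pow25 hNcard
      set Y' : Set X := (fun n : N => n.1 • x0) '' {n : N | n ^ 25 = 1} with hY'
      have hY'card : Y'.ncard = 25 := by
        rw [hY', Set.ncard_image_of_injective _ hinj, hY]
      have hx0Y : x0 ∈ Y' := ⟨1, by simp, by simp⟩
      have hinvY : ∀ s ∈ stabilizer G x0, ∀ y ∈ Y', s • y ∈ Y' := by
        rintro s hs y ⟨n, hn, rfl⟩
        refine ⟨⟨s * n.1 * s⁻¹, hN.conj_mem n.1 n.2 s⟩, ?_, ?_⟩
        · have hn' : n ^ 25 = 1 := hn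
          apply Subtype.ext
          show (s * n.1 * s⁻¹) ^ 25 = 1
          rw [conj_pow]
          have : n.1 ^ 25 = 1 := congrArg Subtype.val hn'
          rw [this, mul_one, mul_inv_cancel]
        · show (s * n.1 * s⁻¹) • x0 = s • (n.1 • x0)
          rw [mul_smul, mul_smul]
          congr 2
          rw [inv_smul_eq_iff]
          exact (mem_stabilizer_iff.1 hs).symm
      rcases hinvΔ Y' hx0Y hinvY with h' | h' | h' | h' <;> rw [hY'card] at h' <;> norm_num at h'
    · -- the stabiliser lies in the normal subgroup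
      rw [Subgroup.subgroupOf_eq_top] at hK
      apply hNtop
      rw [eq_top_iff]
      intro g _
      obtain ⟨n, hn⟩ := htrans (g • x0)
      have h1 : n.1⁻¹ * g ∈ stabilizer G x0 := by
        rw [mem_stabilizer_iff, mul_smul, inv_smul_eq_iff]
        exact hn.symm
      have := N.mul_mem n.2 (hK h1)
      rwa [mul_inv_cancel_left] at this

end Cfsg.Agent.Lib.Helper6.Rank3
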