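import Mathlib
import Cfsg.Prelude.Def_Sporadic_a
import Cfsg.Agent.Lib.Helper6.HSGraphSign
import Cfsg.Agent.Lib.Helper6.Rank3Simple

/-! The even automorphisms of the reference graph form a simple group. -/

set_option autoImplicit false
set_option maxRecDepth 1000000

namespace Cfsg.Agent.Lib.Helper6.HSGraph

open Cfsg Cfsg.Agent.Lib.Helper6.SteinerSearch Cfsg.Agent.Lib.Helper6.SteinerG
open Cfsg.Agent.Lib.Helper6.M23Aut Cfsg.Agent.Lib.Helper6.M22Aut
open scoped Pointwise

section hom

universe u

variable {α : Type u} [DecidableEq α] (B : Set (Finset α))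

/-- the induced automorphisms, as a homomorphism -/
def indHom : setSystemAut B →* (pointBlockGraph B ≃g pointBlockGraph B) where
  toFun := indAut
  map_one' := by
    apply RelIso.ext
    rintro (_ | (a | b))
    · rfl
    · rfl
    · rw [indAut_blk]
      show _ = some (Sum.inr b)
      congr 2
      apply Subtype.ext
      show b.1.image (1 : Equiv.Perm α) = b.1
      simp
  map_mul' π ρ := by
    apply RelIso.ext
    rintro (_ | (a | b))
    · rfl
    · rfl
    · rw [indAut_blk]
      show _ = indAut π (indAut ρ (some (Sum.inr b)))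
      rw [indAut_blk, indAut_blk]
      congr 2
      apply Subtype.ext
      show b.1.image ((π.1 * ρ.1 : Equiv.Perm α)) = (b.1.image ρ.1).image π.1
      rw [Finset.image_image]
      rfl

theorem indHom_apply (π : setSystemAut B) : indHom B π = indAut π := rfl

theorem indHom_injective : Function.Injective (indHom B) := by
  intro π ρ h
  have h1 := ptEquiv_indAut π
  have h2 := ptEquiv_indAut ρ
  apply Subtype.ext
  rw [← h1, ← h2]
  congr 1

/-- conjugation of automorphisms along an isomorphism of graphs -/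
def autCongrMul {V : Type*} {W : Type*} {G : SimpleGraph V} {H : SimpleGraph W} (f : G ≃g H) :
    (G ≃g G) ≃* (H ≃g H) :=
  { autCongr f with
    map_mul' := fun φ ψ => by
      apply RelIso.ext
      intro x
      show f ((φ * ψ) (f.symm x)) = f (φ (f.symm (f (ψ (f.symm x)))))
      rw [f.symm_apply_apply]
      rfl }

end hom

theorem A23_trans : MulAction.IsMultiplyPretransitive (setSystemAut X23) (Fin 23) 4 := by
  have h5 : MulAction.IsMultiplyPretransitive (setSystemAut octads) GolayPt 5 := by
    rw [hM]; exact Cfsg.Agent.S0366.result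
  have h5' : MulAction.IsMultiplyPretransitive (setSystemAut X24) (Fin 24) 5 :=
    pretransitive_transport e24.symm (iff_symm e24 he24) 5 h5
  have h4 := derL_pretransitive 4 h5'
  rwa [derL_X24] at h4

/-- transitivity of the stabiliser of the last point -/
theorem stab_trans {n : ℕ} {B : Set (Finset (Fin (n + 1)))} (m : ℕ)
    (h : MulAction.IsMultiplyPretransitive (setSystemAut B) (Fin (n + 1)) (m + 1))
    (x y : Fin m ↪ Fin n) :
    ∃ g : Equiv.Perm (Fin n), extLast g ∈ setSystemAut B ∧ ∀ i, g (x i) = y i := by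
  rw [MulAction.isMultiplyPretransitive_iff] at h
  have hx : Fin.last n ∉ Set.range (x.trans Fin.castSuccEmb) := by
    rintro ⟨i, hi⟩
    exact absurd hi (Fin.castSucc_lt_last (x i)).ne
  have hy : Fin.last n ∉ Set.range (y.trans Fin.castSuccEmb) := by
    rintro ⟨i, hi⟩
    exact absurd hi (Fin.castSucc_lt_last (y i)).ne
  obtain ⟨⟨g, hg⟩, hgxy⟩ := h (Fin.Embedding.snoc (x.trans Fin.castSuccEmb) hx)
    (Fin.Embedding.snoc (y.trans Fin.castSuccEmb) hy)
  have hval : ∀ i, g (Fin.Embedding.snoc (x.trans Fin.castSuccEmb) hx i) =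
      Fin.Embedding.snoc (y.trans Fin.castSuccEmb) hy i := by
    intro i
    have := congrArg (fun e => e i) hgxy
    simpa [Function.Embedding.smul_apply] using this
  have hl : g (Fin.last n) = Fin.last n := by
    have := hval (Fin.last m)
    simpa using this
  have hc : ∀ i : Fin m, g (Fin.castSucc (x i)) = Fin.castSucc (y i) := by
    intro i
    have := hval (Fin.castSucc i)
    simpa using this
  refine ⟨restrLast g hl, ?_, fun i => ?_⟩
  · rw [extLast_restrLast]
    exact hg
  · have := castSucc_restrLast g hl (x i)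
    rw [hc i] at this
    exact Fin.castSucc_injective _ this

/-- the subgroup of index two is threefold transitive on the points -/
theorem K22_trans (x y : Fin 3 ↪ Fin 22) : ∃ g ∈ K22, ∀ i, g (x i) = y i := by
  obtain ⟨g, hg, hxy⟩ := stab_trans 3 A23_trans x y
  exact ⟨g, mem_K22.2 hg, hxy⟩

theorem K22_pretrans : MulAction.IsPretransitive K22 (Fin 22) := by
  have h3 : MulAction.IsMultiplyPretransitive K22 (Fin 22) 3 := by
    rw [MulAction.isMultiplyPretransitive_iff]
    intro x y
    obtain ⟨g, hg, hxy⟩ := K22_trans x y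
    refine ⟨⟨g, hg⟩, ?_⟩
    ext i
    rw [Function.Embedding.smul_apply]
    show (g (x i)).val = (y i).val
    rw [hxy i]
  have h1 : MulAction.IsMultiplyPretransitive K22 (Fin 22) 1 :=
    MulAction.isMultiplyPretransitive_of_le (n := 3) (by norm_num)
      (by rw [Nat.card_eq_fintype_card, Fintype.card_fin]; norm_num)
  exact MulAction.is_one_pretransitive_iff.1 h1

theorem K22_pt (a a' : Fin 22) : ∃ g ∈ K22, g a = a' := by
  have := K22_pretrans
  obtain ⟨g, hg⟩ := MulAction.exists_smul_eq K22 a a'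
  exact ⟨g.1, g.2, hg⟩

theorem K22_blk {b b' : Finset (Fin 22)} (hb : b ∈ X22) (hb' : b' ∈ X22) :
    ∃ g ∈ K22, b.image g = b' := by
  have hB := steiner_X22
  obtain ⟨s, hs, hs3⟩ := Finset.exists_subset_card_eq (s := b) (n := 3) (by rw [hB.1 b hb]; norm_num)
  obtain ⟨s', hs', hs3'⟩ := Finset.exists_subset_card_eq (s := b') (n := 3)
    (by rw [hB.1 b' hb']; norm_num)
  obtain ⟨g, hg, hxy⟩ := K22_trans (s.orderEmbOfFin hs3).toEmbedding
    (s'.orderEmbOfFin hs3').toEmbedding
  refine ⟨g, hg, ?_⟩
  have hmem : b.image g ∈ X22 := ((mem_aut_iff' X22 g).1 (K22_le hg) b).1 hb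
  have hsub : s' ⊆ b.image g := by
    intro y hy
    have hy' : y ∈ Set.range (s'.orderEmbOfFin hs3') := by
      rw [Finset.range_orderEmbOfFin]; exact hy
    obtain ⟨i, rfl⟩ := hy'
    have e : g (s.orderEmbOfFin hs3 i) = s'.orderEmbOfFin hs3' i := hxy i
    rw [← e]
    exact Finset.mem_image_of_mem _ (hs (Finset.orderEmbOfFin_mem s hs3 i))
  obtain ⟨c, _, hc⟩ := hB.2 s' hs3'
  rw [hc _ ⟨hmem, hsub⟩, hc _ ⟨hb', hs'⟩]

/-- homomorphisms from the simple subgroup of index two to the group of signs are trivial -/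
theorem H22_sign (π : setSystemAut X22) (hπ : π ∈ H22) : indAut π ∈ HS0 := by
  have hs := H22_simple
  let f : H22 →* ℤˣ := (signHom.comp (indHom X22)).comp H22.subtype
  have hker : f.ker = ⊤ := by
    rcases (MonoidHom.normal_ker f).eq_bot_or_eq_top with h | h
    · exfalso
      have hinj : Function.Injective f := (MonoidHom.ker_eq_bot_iff f).1 h
      have hfin : Finite H22 := Nat.finite_of_card_ne_zero (by rw [H22_card]; norm_num)
      have := Nat.card_le_card_of_injective f hinj
      rw [H22_card] at this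
      have h2 : Nat.card ℤˣ = 2 := by simp
      omega
    · exact h
  have : (⟨π, hπ⟩ : H22) ∈ f.ker := by rw [hker]; trivial
  exact this

/-- the even induced automorphisms come from the subgroup of index two -/
theorem mem_H22_of_even (π : setSystemAut X22) (hπ : indAut π ∈ HS0) : π ∈ H22 := by
  let S' : Subgroup (setSystemAut X22) := (signHom.comp (indHom X22)).ker
  have hle : H22 ≤ S' := fun ρ hρ => H22_sign ρ hρ
  have hfin : Finite (setSystemAut X22) := Nat.finite_of_card_ne_zero (by rw [A22_card]; norm_num)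
  have hidx : S'.index = 2 := by
    rw [Subgroup.index_ker]
    have : (signHom.comp (indHom X22)).range = ⊤ := by
      rw [eq_top_iff]
      intro u _
      rcases Int.units_eq_one_or u with rfl | rfl
      · exact ⟨1, map_one _⟩
      · obtain ⟨φ, h0, hφ⟩ := exists_odd
        refine ⟨⟨ptEquiv φ h0, ptEquiv_mem φ h0⟩, ?_⟩
        show signHom (indAut ⟨ptEquiv φ h0, ptEquiv_mem φ h0⟩) = -1
        rw [indAut_ptEquiv]
        exact hφ
    rw [this, Subgroup.card_top]
    simp
  have hcard : Nat.card S' = 443520 := by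
    have h := Subgroup.index_mul_card S'
    rw [hidx, A22_card] at h
    omega
  have heq : H22 = S' := Subgroup.eq_of_le_of_card_ge hle (by rw [hcard, H22_card])
  rw [heq]
  exact hπ

theorem exists_even (y : V0) : ∃ g : HS0, g.1 none = y := by
  obtain ⟨φ, hφ⟩ := trans_Γ0 y
  by_cases h : φ ∈ HS0
  · exact ⟨⟨φ, h⟩, hφ⟩
  · obtain ⟨θ, h0, hθ⟩ := exists_odd
    have h1 : Equiv.Perm.sign (toPermHom Γ0 φ) = -1 := by
      rcases Int.units_eq_one_or (Equiv.Perm.sign (toPermHom Γ0 φ)) with h' | h'
      · exact absurd h' h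
      · exact h'
    refine ⟨⟨φ * θ, ?_⟩, ?_⟩
    · rw [mem_HS0, map_mul, map_mul, h1, hθ]
      rfl
    · show φ (θ none) = y
      rw [h0, hφ]

instance : MulAction.IsPretransitive HS0 V0 := by
  refine ⟨fun x y => ?_⟩
  obtain ⟨g, hg⟩ := exists_even x
  obtain ⟨g', hg'⟩ := exists_even y
  refine ⟨g' * g⁻¹, ?_⟩
  show (g'.1 * g.1⁻¹) x = y
  rw [RelIso.mul_apply, ← hg, RelIso.inv_apply_self, hg']

instance : FaithfulSMul HS0 V0 := by
  refine ⟨fun {g g'} h => ?_⟩
  apply Subtype.ext
  apply RelIso.ext
  intro x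
  exact h x

/-- the stabiliser of the extra vertex in the group of even automorphisms -/
noncomputable def stabHom : H22 →* MulAction.stabilizer HS0 (none : V0) :=
  MonoidHom.codRestrict
    (MonoidHom.codRestrict ((indHom X22).comp H22.subtype) HS0 (fun π => H22_sign π.1 π.2))
    (MulAction.stabilizer HS0 (none : V0)) (fun π => by
      rw [MulAction.mem_stabilizer_iff]
      rfl)

theorem stabHom_bijective : Function.Bijective stabHom := by
  constructor
  · intro π ρ h
    have h1 : indHom X22 π.1 = indHom X22 ρ.1 :=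
      congrArg (fun s : MulAction.stabilizer HS0 (none : V0) => (s.1.1 : Γ0 ≃g Γ0)) h
    exact Subtype.ext (indHom_injective X22 h1)
  · rintro ⟨⟨φ, hφ⟩, hs⟩
    have h0 : φ none = none := MulAction.mem_stabilizer_iff.1 hs
    have hmem : indAut ⟨ptEquiv φ h0, ptEquiv_mem φ h0⟩ ∈ HS0 := by
      rw [indAut_ptEquiv]; exact hφ
    refine ⟨⟨⟨ptEquiv φ h0, ptEquiv_mem φ h0⟩, mem_H22_of_even _ hmem⟩, ?_⟩
    apply Subtype.ext
    apply Subtype.ext
    exact indAut_ptEquiv φ h0

theorem stab_simple : IsSimpleGroup (MulAction.stabilizer HS0 (none : V0)) := by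
  have := H22_simple
  exact (MulEquiv.ofBijective stabHom stabHom_bijective).symm.isSimpleGroup

/-- the group of even automorphisms of the reference graph is simple -/
theorem HS0_simple : IsSimpleGroup HS0 := by
  have hcardX : Nat.card X22 = 77 := by
    have := ncard_B0set (v := 22) S22.B0 c22lt (nodup_of_sincr _ c22s)
    rw [← Nat.card_coe_set_eq] at this
    rw [this]
    decide +kernel
  apply Rank3.isSimpleGroup_of_rank3 (G := HS0) (X := V0) (x0 := none)
    (P := Set.range (fun a : Fin 22 => (some (Sum.inl a) : V0)))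
    (Q := Set.range (fun b : X22 => (some (Sum.inr b) : V0))) card_V0
  · rw [Set.ncard_range_of_injective, Nat.card_eq_fintype_card, Fintype.card_fin]
    intro a a' h
    exact Sum.inl_injective (Option.some_injective _ h)
  · rw [Set.ncard_range_of_injective, hcardX]
    intro a a' h
    exact Sum.inr_injective (Option.some_injective _ h)
  · rintro (_ | (a | b))
    · exact Or.inl rfl
    · exact Or.inr (Or.inl ⟨a, rfl⟩)
    · exact Or.inr (Or.inr ⟨b, rfl⟩)
  · rintro ⟨a, h⟩
    exact absurd h (by simp)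
  · rintro ⟨a, h⟩
    exact absurd h (by simp)
  · rintro _ ⟨a, rfl⟩ _ ⟨a', rfl⟩
    obtain ⟨g, hg, hga⟩ := K22_pt a a'
    have hmem : (⟨g, K22_le hg⟩ : setSystemAut X22) ∈ H22 := Subgroup.mem_subgroupOf.2 hg
    refine ⟨⟨indAut ⟨g, K22_le hg⟩, H22_sign _ hmem⟩, ?_, ?_⟩
    · rw [MulAction.mem_stabilizer_iff]; rfl
    · show indAut ⟨g, K22_le hg⟩ (some (Sum.inl a)) = some (Sum.inl a')
      rw [indAut_pt]
      show some (Sum.inl (g a)) = _
      rw [hga]
  · rintro _ ⟨b, rfl⟩ _ ⟨b', rfl⟩
    obtain ⟨g, hg, hgb⟩ := K22_blk b.2 b'.2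
    have hmem : (⟨g, K22_le hg⟩ : setSystemAut X22) ∈ H22 := Subgroup.mem_subgroupOf.2 hg
    refine ⟨⟨indAut ⟨g, K22_le hg⟩, H22_sign _ hmem⟩, ?_, ?_⟩
    · rw [MulAction.mem_stabilizer_iff]; rfl
    · show indAut ⟨g, K22_le hg⟩ (some (Sum.inr b)) = some (Sum.inr b')
      rw [indAut_blk]
      congr 2
      exact Subtype.ext hgb
  · exact stab_simple

end Cfsg.Agent.Lib.Helper6.HSGraph
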