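import Cfsg.Agent.Lib.Helper6.HeBTCData
import Cfsg.Agent.Lib.Helper6.HeBSE
import Cfsg.Agent.Lib.Helper6.HeBSJ
import Cfsg.Agent.Lib.Helper6.HeBSM

/-! # HeB: the table with a proof for every entry -/

set_option autoImplicit false

namespace Cfsg.Agent.Lib.Helper6.HeBTC

open Cfsg.Agent.Lib.Helper6.TC Cfsg.Agent.Lib.Helper6.TCS

/-- the table with a proof for every entry -/
noncomputable def cert : SCert := ⟨cfg, 21, 266564, arrE, arrM, arrJ, arrJM, arrP⟩

end Cfsg.Agent.Lib.Helper6.HeBTC
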