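import Cfsg.Agent.Lib.Helper6.HeBSCert
import Cfsg.Agent.Lib.Helper6.HeBSRows2

/-! # HeB: the kernel check of the rows from 194304 on -/

set_option autoImplicit false

namespace Cfsg.Agent.Lib.Helper6.HeBTC

open Cfsg.Agent.Lib.Helper6.TC Cfsg.Agent.Lib.Helper6.TCS

theorem chk_rows14_0 : cert.rowsOK 194304 479 = true := by decide +kernel

theorem chk_rows14_1 : cert.rowsOK 194783 479 = true := by decide +kernel

theorem chk_rows14_2 : cert.rowsOK 195262 479 = true := by decide +kernel

theorem chk_rows14_3 : cert.rowsOK 195741 479 = true := by decide +kernel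

theorem chk_rows14_4 : cert.rowsOK 196220 479 = true := by decide +kernel

theorem chk_rows14_5 : cert.rowsOK 196699 479 = true := by decide +kernel

theorem chk_rows14_6 : cert.rowsOK 197178 479 = true := by decide +kernel

theorem chk_rows14_7 : cert.rowsOK 197657 479 = true := by decide +kernel

theorem chk_rows14_8 : cert.rowsOK 198136 479 = true := by decide +kernel

theorem chk_rows14_9 : cert.rowsOK 198615 479 = true := by decide +kernel

theorem chk_rows14_10 : cert.rowsOK 199094 479 = true := by decide +kernel

theorem chk_rows14_11 : cert.rowsOK 199573 479 = true := by decide +kernel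

theorem chk_rows14_12 : cert.rowsOK 200052 479 = true := by decide +kernel

theorem chk_rows14_13 : cert.rowsOK 200531 479 = true := by decide +kernel

theorem chk_rows14_14 : cert.rowsOK 201010 479 = true := by decide +kernel

theorem chk_rows14_15 : cert.rowsOK 201489 479 = true := by decide +kernel

theorem chk_rows14_16 : cert.rowsOK 201968 479 = true := by decide +kernel

theorem chk_rows14_17 : cert.rowsOK 202447 479 = true := by decide +kernel

theorem chk_rows14_18 : cert.rowsOK 202926 479 = true := by decide +kernel

theorem chk_rows14_19 : cert.rowsOK 203405 479 = true := by decide +kernel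

theorem chk_rows14_20 : cert.rowsOK 203884 479 = true := by decide +kernel

theorem chk_rows14_21 : cert.rowsOK 204363 479 = true := by decide +kernel

theorem chk_rows14_22 : cert.rowsOK 204842 479 = true := by decide +kernel

theorem chk_rows14_23 : cert.rowsOK 205321 479 = true := by decide +kernel

theorem chk_range14 : ∀ a, 194304 ≤ a → a < 205800 → ∀ x < cert.c.g, cert.slotOK a x = true := by
  refine cert.range_of_chunks 194304 479 24 (by norm_num) ?_
  intro k hk
  interval_cases k
  · exact chk_rows14_0
  · exact chk_rows14_1
  · exact chk_rows14_2
  · exact chk_rows14_3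
  · exact chk_rows14_4
  · exact chk_rows14_5
  · exact chk_rows14_6
  · exact chk_rows14_7
  · exact chk_rows14_8
  · exact chk_rows14_9
  · exact chk_rows14_10
  · exact chk_rows14_11
  · exact chk_rows14_12
  · exact chk_rows14_13
  · exact chk_rows14_14
  · exact chk_rows14_15
  · exact chk_rows14_16
  · exact chk_rows14_17
  · exact chk_rows14_18
  · exact chk_rows14_19
  · exact chk_rows14_20
  · exact chk_rows14_21
  · exact chk_rows14_22
  · exact chk_rows14_23

end Cfsg.Agent.Lib.Helper6.HeBTC
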