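import Cfsg.Agent.Lib.Helper6.HeBSCert

/-! # HeB: the kernel check of the rows from 45408 on -/

set_option autoImplicit false

namespace Cfsg.Agent.Lib.Helper6.HeBTC

open Cfsg.Agent.Lib.Helper6.TC Cfsg.Agent.Lib.Helper6.TCS

theorem chk_rows3_0 : cert.rowsOK 45408 564 = true := by decide +kernel

theorem chk_rows3_1 : cert.rowsOK 45972 564 = true := by decide +kernel

theorem chk_rows3_2 : cert.rowsOK 46536 564 = true := by decide +kernel

theorem chk_rows3_3 : cert.rowsOK 47100 564 = true := by decide +kernel

theorem chk_rows3_4 : cert.rowsOK 47664 564 = true := by decide +kernel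

theorem chk_rows3_5 : cert.rowsOK 48228 564 = true := by decide +kernel

theorem chk_rows3_6 : cert.rowsOK 48792 564 = true := by decide +kernel

theorem chk_rows3_7 : cert.rowsOK 49356 564 = true := by decide +kernel

theorem chk_rows3_8 : cert.rowsOK 49920 564 = true := by decide +kernel

theorem chk_rows3_9 : cert.rowsOK 50484 564 = true := by decide +kernel

theorem chk_rows3_10 : cert.rowsOK 51048 564 = true := by decide +kernel

theorem chk_rows3_11 : cert.rowsOK 51612 564 = true := by decide +kernel

theorem chk_rows3_12 : cert.rowsOK 52176 564 = true := by decide +kernel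

theorem chk_rows3_13 : cert.rowsOK 52740 564 = true := by decide +kernel

theorem chk_rows3_14 : cert.rowsOK 53304 564 = true := by decide +kernel

theorem chk_rows3_15 : cert.rowsOK 53868 564 = true := by decide +kernel

theorem chk_rows3_16 : cert.rowsOK 54432 564 = true := by decide +kernel

theorem chk_rows3_17 : cert.rowsOK 54996 564 = true := by decide +kernel

theorem chk_rows3_18 : cert.rowsOK 55560 564 = true := by decide +kernel

theorem chk_rows3_19 : cert.rowsOK 56124 564 = true := by decide +kernel

theorem chk_rows3_20 : cert.rowsOK 56688 564 = true := by decide +kernel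

theorem chk_rows3_21 : cert.rowsOK 57252 564 = true := by decide +kernel

theorem chk_rows3_22 : cert.rowsOK 57816 564 = true := by decide +kernel

theorem chk_rows3_23 : cert.rowsOK 58380 564 = true := by decide +kernel

theorem chk_range3 : ∀ a, 45408 ≤ a → a < 58944 → ∀ x < cert.c.g, cert.slotOK a x = true := by
  refine cert.range_of_chunks 45408 564 24 (by norm_num) ?_
  intro k hk
  interval_cases k
  · exact chk_rows3_0
  · exact chk_rows3_1
  · exact chk_rows3_2
  · exact chk_rows3_3
  · exact chk_rows3_4
  · exact chk_rows3_5
  · exact chk_rows3_6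
  · exact chk_rows3_7
  · exact chk_rows3_8
  · exact chk_rows3_9
  · exact chk_rows3_10
  · exact chk_rows3_11
  · exact chk_rows3_12
  · exact chk_rows3_13
  · exact chk_rows3_14
  · exact chk_rows3_15
  · exact chk_rows3_16
  · exact chk_rows3_17
  · exact chk_rows3_18
  · exact chk_rows3_19
  · exact chk_rows3_20
  · exact chk_rows3_21
  · exact chk_rows3_22
  · exact chk_rows3_23

end Cfsg.Agent.Lib.Helper6.HeBTC
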