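import Cfsg.Agent.Lib.Helper6.HeBSCert
import Cfsg.Agent.Lib.Helper6.HeBSRows15

/-! # HeB: the kernel check of the merge map from row 96000 on -/

set_option autoImplicit false

namespace Cfsg.Agent.Lib.Helper6.HeBTC

open Cfsg.Agent.Lib.Helper6.TC Cfsg.Agent.Lib.Helper6.TCS

theorem chk_mrows6_0 : cert.mrowsOK 96000 4000 = true := by decide +kernel

theorem chk_mrows6_1 : cert.mrowsOK 100000 4000 = true := by decide +kernel

theorem chk_mrows6_2 : cert.mrowsOK 104000 4000 = true := by decide +kernel

theorem chk_mrows6_3 : cert.mrowsOK 108000 4000 = true := by decide +kernel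

theorem chk_mrange6 : ∀ a, 96000 ≤ a → a < 96000 + 16000 → cert.mslotOK a = true := by
  refine cert.mrange_of_chunks 96000 4000 4 (by norm_num) ?_
  intro k hk
  interval_cases k
  · exact chk_mrows6_0
  · exact chk_mrows6_1
  · exact chk_mrows6_2
  · exact chk_mrows6_3

end Cfsg.Agent.Lib.Helper6.HeBTC
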