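import Cfsg.Agent.Lib.Helper6.HeBSCert
import Cfsg.Agent.Lib.Helper6.HeBSRows0

/-! # HeB: the kernel check of the rows from 167232 on -/

set_option autoImplicit false

namespace Cfsg.Agent.Lib.Helper6.HeBTC

open Cfsg.Agent.Lib.Helper6.TC Cfsg.Agent.Lib.Helper6.TCS

theorem chk_rows12_0 : cert.rowsOK 167232 564 = true := by decide +kernel

theorem chk_rows12_1 : cert.rowsOK 167796 564 = true := by decide +kernel

theorem chk_rows12_2 : cert.rowsOK 168360 564 = true := by decide +kernel

theorem chk_rows12_3 : cert.rowsOK 168924 564 = true := by decide +kernel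

theorem chk_rows12_4 : cert.rowsOK 169488 564 = true := by decide +kernel

theorem chk_rows12_5 : cert.rowsOK 170052 564 = true := by decide +kernel

theorem chk_rows12_6 : cert.rowsOK 170616 564 = true := by decide +kernel

theorem chk_rows12_7 : cert.rowsOK 171180 564 = true := by decide +kernel

theorem chk_rows12_8 : cert.rowsOK 171744 564 = true := by decide +kernel

theorem chk_rows12_9 : cert.rowsOK 172308 564 = true := by decide +kernel

theorem chk_rows12_10 : cert.rowsOK 172872 564 = true := by decide +kernel

theorem chk_rows12_11 : cert.rowsOK 173436 564 = true := by decide +kernel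

theorem chk_rows12_12 : cert.rowsOK 174000 564 = true := by decide +kernel

theorem chk_rows12_13 : cert.rowsOK 174564 564 = true := by decide +kernel

theorem chk_rows12_14 : cert.rowsOK 175128 564 = true := by decide +kernel

theorem chk_rows12_15 : cert.rowsOK 175692 564 = true := by decide +kernel

theorem chk_rows12_16 : cert.rowsOK 176256 564 = true := by decide +kernel

theorem chk_rows12_17 : cert.rowsOK 176820 564 = true := by decide +kernel

theorem chk_rows12_18 : cert.rowsOK 177384 564 = true := by decide +kernel

theorem chk_rows12_19 : cert.rowsOK 177948 564 = true := by decide +kernel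

theorem chk_rows12_20 : cert.rowsOK 178512 564 = true := by decide +kernel

theorem chk_rows12_21 : cert.rowsOK 179076 564 = true := by decide +kernel

theorem chk_rows12_22 : cert.rowsOK 179640 564 = true := by decide +kernel

theorem chk_rows12_23 : cert.rowsOK 180204 564 = true := by decide +kernel

theorem chk_range12 : ∀ a, 167232 ≤ a → a < 180768 → ∀ x < cert.c.g, cert.slotOK a x = true := by
  refine cert.range_of_chunks 167232 564 24 (by norm_num) ?_
  intro k hk
  interval_cases k
  · exact chk_rows12_0
  · exact chk_rows12_1
  · exact chk_rows12_2
  · exact chk_rows12_3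
  · exact chk_rows12_4
  · exact chk_rows12_5
  · exact chk_rows12_6
  · exact chk_rows12_7
  · exact chk_rows12_8
  · exact chk_rows12_9
  · exact chk_rows12_10
  · exact chk_rows12_11
  · exact chk_rows12_12
  · exact chk_rows12_13
  · exact chk_rows12_14
  · exact chk_rows12_15
  · exact chk_rows12_16
  · exact chk_rows12_17
  · exact chk_rows12_18
  · exact chk_rows12_19
  · exact chk_rows12_20
  · exact chk_rows12_21
  · exact chk_rows12_22
  · exact chk_rows12_23

end Cfsg.Agent.Lib.Helper6.HeBTC
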