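import Cfsg.Agent.Lib.Helper6.HeBSCert
import Cfsg.Agent.Lib.Helper6.TCChunk
import Cfsg.Agent.Lib.Helper6.HeBSMRows15

/-! # HeB: the kernel check that the first rows are closed, part 10 -/

set_option autoImplicit false

namespace Cfsg.Agent.Lib.Helper6.HeBTC

open Cfsg.Agent.Lib.Helper6.TC Cfsg.Agent.Lib.Helper6.TCS

theorem chk_fin90 : cert.finalOKc 266560 180000 2000 = true := by decide +kernel

theorem chk_fin91 : cert.finalOKc 266560 182000 2000 = true := by decide +kernel

theorem chk_fin92 : cert.finalOKc 266560 184000 2000 = true := by decide +kernel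

theorem chk_fin93 : cert.finalOKc 266560 186000 2000 = true := by decide +kernel

theorem chk_fin94 : cert.finalOKc 266560 188000 2000 = true := by decide +kernel

theorem chk_fin95 : cert.finalOKc 266560 190000 2000 = true := by decide +kernel

theorem chk_fin96 : cert.finalOKc 266560 192000 2000 = true := by decide +kernel

theorem chk_fin97 : cert.finalOKc 266560 194000 2000 = true := by decide +kernel

theorem chk_fin98 : cert.finalOKc 266560 196000 2000 = true := by decide +kernel

end Cfsg.Agent.Lib.Helper6.HeBTC
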