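import Cfsg.Agent.Lib.Helper6.HeBSCert

/-! # HeB: the kernel check of the rows from 15936 on -/

set_option autoImplicit false

namespace Cfsg.Agent.Lib.Helper6.HeBTC

open Cfsg.Agent.Lib.Helper6.TC Cfsg.Agent.Lib.Helper6.TCS

theorem chk_rows1_0 : cert.rowsOK 15936 664 = true := by decide +kernel

theorem chk_rows1_1 : cert.rowsOK 16600 664 = true := by decide +kernel

theorem chk_rows1_2 : cert.rowsOK 17264 664 = true := by decide +kernel

theorem chk_rows1_3 : cert.rowsOK 17928 664 = true := by decide +kernel

theorem chk_rows1_4 : cert.rowsOK 18592 664 = true := by decide +kernel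

theorem chk_rows1_5 : cert.rowsOK 19256 664 = true := by decide +kernel

theorem chk_rows1_6 : cert.rowsOK 19920 664 = true := by decide +kernel

theorem chk_rows1_7 : cert.rowsOK 20584 664 = true := by decide +kernel

theorem chk_rows1_8 : cert.rowsOK 21248 664 = true := by decide +kernel

theorem chk_rows1_9 : cert.rowsOK 21912 664 = true := by decide +kernel

theorem chk_rows1_10 : cert.rowsOK 22576 664 = true := by decide +kernel

theorem chk_rows1_11 : cert.rowsOK 23240 664 = true := by decide +kernel

theorem chk_rows1_12 : cert.rowsOK 23904 664 = true := by decide +kernel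

theorem chk_rows1_13 : cert.rowsOK 24568 664 = true := by decide +kernel

theorem chk_rows1_14 : cert.rowsOK 25232 664 = true := by decide +kernel

theorem chk_rows1_15 : cert.rowsOK 25896 664 = true := by decide +kernel

theorem chk_rows1_16 : cert.rowsOK 26560 664 = true := by decide +kernel

theorem chk_rows1_17 : cert.rowsOK 27224 664 = true := by decide +kernel

theorem chk_rows1_18 : cert.rowsOK 27888 664 = true := by decide +kernel

theorem chk_rows1_19 : cert.rowsOK 28552 664 = true := by decide +kernel

theorem chk_rows1_20 : cert.rowsOK 29216 664 = true := by decide +kernel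

theorem chk_rows1_21 : cert.rowsOK 29880 664 = true := by decide +kernel

theorem chk_rows1_22 : cert.rowsOK 30544 664 = true := by decide +kernel

theorem chk_rows1_23 : cert.rowsOK 31208 664 = true := by decide +kernel

theorem chk_range1 : ∀ a, 15936 ≤ a → a < 31872 → ∀ x < cert.c.g, cert.slotOK a x = true := by
  refine cert.range_of_chunks 15936 664 24 (by norm_num) ?_
  intro k hk
  interval_cases k
  · exact chk_rows1_0
  · exact chk_rows1_1
  · exact chk_rows1_2
  · exact chk_rows1_3
  · exact chk_rows1_4
  · exact chk_rows1_5
  · exact chk_rows1_6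
  · exact chk_rows1_7
  · exact chk_rows1_8
  · exact chk_rows1_9
  · exact chk_rows1_10
  · exact chk_rows1_11
  · exact chk_rows1_12
  · exact chk_rows1_13
  · exact chk_rows1_14
  · exact chk_rows1_15
  · exact chk_rows1_16
  · exact chk_rows1_17
  · exact chk_rows1_18
  · exact chk_rows1_19
  · exact chk_rows1_20
  · exact chk_rows1_21
  · exact chk_rows1_22
  · exact chk_rows1_23

end Cfsg.Agent.Lib.Helper6.HeBTC
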