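import Cfsg.Agent.Lib.Helper6.HeBSCert
import Cfsg.Agent.Lib.Helper6.HeBSRows1

/-! # HeB: the kernel check of the rows from 180768 on -/

set_option autoImplicit false

namespace Cfsg.Agent.Lib.Helper6.HeBTC

open Cfsg.Agent.Lib.Helper6.TC Cfsg.Agent.Lib.Helper6.TCS

theorem chk_rows13_0 : cert.rowsOK 180768 564 = true := by decide +kernel

theorem chk_rows13_1 : cert.rowsOK 181332 564 = true := by decide +kernel

theorem chk_rows13_2 : cert.rowsOK 181896 564 = true := by decide +kernel

theorem chk_rows13_3 : cert.rowsOK 182460 564 = true := by decide +kernel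

theorem chk_rows13_4 : cert.rowsOK 183024 564 = true := by decide +kernel

theorem chk_rows13_5 : cert.rowsOK 183588 564 = true := by decide +kernel

theorem chk_rows13_6 : cert.rowsOK 184152 564 = true := by decide +kernel

theorem chk_rows13_7 : cert.rowsOK 184716 564 = true := by decide +kernel

theorem chk_rows13_8 : cert.rowsOK 185280 564 = true := by decide +kernel

theorem chk_rows13_9 : cert.rowsOK 185844 564 = true := by decide +kernel

theorem chk_rows13_10 : cert.rowsOK 186408 564 = true := by decide +kernel

theorem chk_rows13_11 : cert.rowsOK 186972 564 = true := by decide +kernel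

theorem chk_rows13_12 : cert.rowsOK 187536 564 = true := by decide +kernel

theorem chk_rows13_13 : cert.rowsOK 188100 564 = true := by decide +kernel

theorem chk_rows13_14 : cert.rowsOK 188664 564 = true := by decide +kernel

theorem chk_rows13_15 : cert.rowsOK 189228 564 = true := by decide +kernel

theorem chk_rows13_16 : cert.rowsOK 189792 564 = true := by decide +kernel

theorem chk_rows13_17 : cert.rowsOK 190356 564 = true := by decide +kernel

theorem chk_rows13_18 : cert.rowsOK 190920 564 = true := by decide +kernel

theorem chk_rows13_19 : cert.rowsOK 191484 564 = true := by decide +kernel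

theorem chk_rows13_20 : cert.rowsOK 192048 564 = true := by decide +kernel

theorem chk_rows13_21 : cert.rowsOK 192612 564 = true := by decide +kernel

theorem chk_rows13_22 : cert.rowsOK 193176 564 = true := by decide +kernel

theorem chk_rows13_23 : cert.rowsOK 193740 564 = true := by decide +kernel

theorem chk_range13 : ∀ a, 180768 ≤ a → a < 194304 → ∀ x < cert.c.g, cert.slotOK a x = true := by
  refine cert.range_of_chunks 180768 564 24 (by norm_num) ?_
  intro k hk
  interval_cases k
  · exact chk_rows13_0
  · exact chk_rows13_1
  · exact chk_rows13_2
  · exact chk_rows13_3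
  · exact chk_rows13_4
  · exact chk_rows13_5
  · exact chk_rows13_6
  · exact chk_rows13_7
  · exact chk_rows13_8
  · exact chk_rows13_9
  · exact chk_rows13_10
  · exact chk_rows13_11
  · exact chk_rows13_12
  · exact chk_rows13_13
  · exact chk_rows13_14
  · exact chk_rows13_15
  · exact chk_rows13_16
  · exact chk_rows13_17
  · exact chk_rows13_18
  · exact chk_rows13_19
  · exact chk_rows13_20
  · exact chk_rows13_21
  · exact chk_rows13_22
  · exact chk_rows13_23

end Cfsg.Agent.Lib.Helper6.HeBTC
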