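import Cfsg.Agent.Lib.Helper6.HeBSCert
import Cfsg.Agent.Lib.Helper6.TCChunk
import Cfsg.Agent.Lib.Helper6.HeBSMRows16

/-! # HeB: the kernel check that the first rows are closed, part 11 -/

set_option autoImplicit false

namespace Cfsg.Agent.Lib.Helper6.HeBTC

open Cfsg.Agent.Lib.Helper6.TC Cfsg.Agent.Lib.Helper6.TCS

theorem chk_fin99 : cert.finalOKc 266560 198000 2000 = true := by decide +kernel

theorem chk_fin100 : cert.finalOKc 266560 200000 2000 = true := by decide +kernel

theorem chk_fin101 : cert.finalOKc 266560 202000 2000 = true := by decide +kernel

theorem chk_fin102 : cert.finalOKc 266560 204000 2000 = true := by decide +kernel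

theorem chk_fin103 : cert.finalOKc 266560 206000 2000 = true := by decide +kernel

theorem chk_fin104 : cert.finalOKc 266560 208000 2000 = true := by decide +kernel

theorem chk_fin105 : cert.finalOKc 266560 210000 2000 = true := by decide +kernel

theorem chk_fin106 : cert.finalOKc 266560 212000 2000 = true := by decide +kernel

theorem chk_fin107 : cert.finalOKc 266560 214000 2000 = true := by decide +kernel

end Cfsg.Agent.Lib.Helper6.HeBTC
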