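import Cfsg.Agent.Lib.Helper6.HeBSCert

/-! # HeB: the kernel check of the rows from 72480 on -/

set_option autoImplicit false

namespace Cfsg.Agent.Lib.Helper6.HeBTC

open Cfsg.Agent.Lib.Helper6.TC Cfsg.Agent.Lib.Helper6.TCS

theorem chk_rows5_0 : cert.rowsOK 72480 564 = true := by decide +kernel

theorem chk_rows5_1 : cert.rowsOK 73044 564 = true := by decide +kernel

theorem chk_rows5_2 : cert.rowsOK 73608 564 = true := by decide +kernel

theorem chk_rows5_3 : cert.rowsOK 74172 564 = true := by decide +kernel

theorem chk_rows5_4 : cert.rowsOK 74736 564 = true := by decide +kernel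

theorem chk_rows5_5 : cert.rowsOK 75300 564 = true := by decide +kernel

theorem chk_rows5_6 : cert.rowsOK 75864 564 = true := by decide +kernel

theorem chk_rows5_7 : cert.rowsOK 76428 564 = true := by decide +kernel

theorem chk_rows5_8 : cert.rowsOK 76992 564 = true := by decide +kernel

theorem chk_rows5_9 : cert.rowsOK 77556 564 = true := by decide +kernel

theorem chk_rows5_10 : cert.rowsOK 78120 564 = true := by decide +kernel

theorem chk_rows5_11 : cert.rowsOK 78684 564 = true := by decide +kernel

theorem chk_rows5_12 : cert.rowsOK 79248 564 = true := by decide +kernel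

theorem chk_rows5_13 : cert.rowsOK 79812 564 = true := by decide +kernel

theorem chk_rows5_14 : cert.rowsOK 80376 564 = true := by decide +kernel

theorem chk_rows5_15 : cert.rowsOK 80940 564 = true := by decide +kernel

theorem chk_rows5_16 : cert.rowsOK 81504 564 = true := by decide +kernel

theorem chk_rows5_17 : cert.rowsOK 82068 564 = true := by decide +kernel

theorem chk_rows5_18 : cert.rowsOK 82632 564 = true := by decide +kernel

theorem chk_rows5_19 : cert.rowsOK 83196 564 = true := by decide +kernel

theorem chk_rows5_20 : cert.rowsOK 83760 564 = true := by decide +kernel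

theorem chk_rows5_21 : cert.rowsOK 84324 564 = true := by decide +kernel

theorem chk_rows5_22 : cert.rowsOK 84888 564 = true := by decide +kernel

theorem chk_rows5_23 : cert.rowsOK 85452 564 = true := by decide +kernel

theorem chk_range5 : ∀ a, 72480 ≤ a → a < 86016 → ∀ x < cert.c.g, cert.slotOK a x = true := by
  refine cert.range_of_chunks 72480 564 24 (by norm_num) ?_
  intro k hk
  interval_cases k
  · exact chk_rows5_0
  · exact chk_rows5_1
  · exact chk_rows5_2
  · exact chk_rows5_3
  · exact chk_rows5_4
  · exact chk_rows5_5
  · exact chk_rows5_6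
  · exact chk_rows5_7
  · exact chk_rows5_8
  · exact chk_rows5_9
  · exact chk_rows5_10
  · exact chk_rows5_11
  · exact chk_rows5_12
  · exact chk_rows5_13
  · exact chk_rows5_14
  · exact chk_rows5_15
  · exact chk_rows5_16
  · exact chk_rows5_17
  · exact chk_rows5_18
  · exact chk_rows5_19
  · exact chk_rows5_20
  · exact chk_rows5_21
  · exact chk_rows5_22
  · exact chk_rows5_23

end Cfsg.Agent.Lib.Helper6.HeBTC
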