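import Cfsg.Agent.Lib.Helper6.HeBSCert
import Cfsg.Agent.Lib.Helper6.HeBSRows5

/-! # HeB: the kernel check of the rows from 228792 on -/

set_option autoImplicit false

namespace Cfsg.Agent.Lib.Helper6.HeBTC

open Cfsg.Agent.Lib.Helper6.TC Cfsg.Agent.Lib.Helper6.TCS

theorem chk_rows17_0 : cert.rowsOK 228792 479 = true := by decide +kernel

theorem chk_rows17_1 : cert.rowsOK 229271 479 = true := by decide +kernel

theorem chk_rows17_2 : cert.rowsOK 229750 479 = true := by decide +kernel

theorem chk_rows17_3 : cert.rowsOK 230229 479 = true := by decide +kernel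

theorem chk_rows17_4 : cert.rowsOK 230708 479 = true := by decide +kernel

theorem chk_rows17_5 : cert.rowsOK 231187 479 = true := by decide +kernel

theorem chk_rows17_6 : cert.rowsOK 231666 479 = true := by decide +kernel

theorem chk_rows17_7 : cert.rowsOK 232145 479 = true := by decide +kernel

theorem chk_rows17_8 : cert.rowsOK 232624 479 = true := by decide +kernel

theorem chk_rows17_9 : cert.rowsOK 233103 479 = true := by decide +kernel

theorem chk_rows17_10 : cert.rowsOK 233582 479 = true := by decide +kernel

theorem chk_rows17_11 : cert.rowsOK 234061 479 = true := by decide +kernel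

theorem chk_rows17_12 : cert.rowsOK 234540 479 = true := by decide +kernel

theorem chk_rows17_13 : cert.rowsOK 235019 479 = true := by decide +kernel

theorem chk_rows17_14 : cert.rowsOK 235498 479 = true := by decide +kernel

theorem chk_rows17_15 : cert.rowsOK 235977 479 = true := by decide +kernel

theorem chk_rows17_16 : cert.rowsOK 236456 479 = true := by decide +kernel

theorem chk_rows17_17 : cert.rowsOK 236935 479 = true := by decide +kernel

theorem chk_rows17_18 : cert.rowsOK 237414 479 = true := by decide +kernel

theorem chk_rows17_19 : cert.rowsOK 237893 479 = true := by decide +kernel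

theorem chk_rows17_20 : cert.rowsOK 238372 479 = true := by decide +kernel

theorem chk_rows17_21 : cert.rowsOK 238851 479 = true := by decide +kernel

theorem chk_rows17_22 : cert.rowsOK 239330 479 = true := by decide +kernel

theorem chk_rows17_23 : cert.rowsOK 239809 479 = true := by decide +kernel

theorem chk_range17 : ∀ a, 228792 ≤ a → a < 240288 → ∀ x < cert.c.g, cert.slotOK a x = true := by
  refine cert.range_of_chunks 228792 479 24 (by norm_num) ?_
  intro k hk
  interval_cases k
  · exact chk_rows17_0
  · exact chk_rows17_1
  · exact chk_rows17_2
  · exact chk_rows17_3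
  · exact chk_rows17_4
  · exact chk_rows17_5
  · exact chk_rows17_6
  · exact chk_rows17_7
  · exact chk_rows17_8
  · exact chk_rows17_9
  · exact chk_rows17_10
  · exact chk_rows17_11
  · exact chk_rows17_12
  · exact chk_rows17_13
  · exact chk_rows17_14
  · exact chk_rows17_15
  · exact chk_rows17_16
  · exact chk_rows17_17
  · exact chk_rows17_18
  · exact chk_rows17_19
  · exact chk_rows17_20
  · exact chk_rows17_21
  · exact chk_rows17_22
  · exact chk_rows17_23

end Cfsg.Agent.Lib.Helper6.HeBTC
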