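import Cfsg.Agent.Lib.Helper6.HeBSCert

/-! # HeB: the kernel check of the rows from 86016 on -/

set_option autoImplicit false

namespace Cfsg.Agent.Lib.Helper6.HeBTC

open Cfsg.Agent.Lib.Helper6.TC Cfsg.Agent.Lib.Helper6.TCS

theorem chk_rows6_0 : cert.rowsOK 86016 564 = true := by decide +kernel

theorem chk_rows6_1 : cert.rowsOK 86580 564 = true := by decide +kernel

theorem chk_rows6_2 : cert.rowsOK 87144 564 = true := by decide +kernel

theorem chk_rows6_3 : cert.rowsOK 87708 564 = true := by decide +kernel

theorem chk_rows6_4 : cert.rowsOK 88272 564 = true := by decide +kernel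

theorem chk_rows6_5 : cert.rowsOK 88836 564 = true := by decide +kernel

theorem chk_rows6_6 : cert.rowsOK 89400 564 = true := by decide +kernel

theorem chk_rows6_7 : cert.rowsOK 89964 564 = true := by decide +kernel

theorem chk_rows6_8 : cert.rowsOK 90528 564 = true := by decide +kernel

theorem chk_rows6_9 : cert.rowsOK 91092 564 = true := by decide +kernel

theorem chk_rows6_10 : cert.rowsOK 91656 564 = true := by decide +kernel

theorem chk_rows6_11 : cert.rowsOK 92220 564 = true := by decide +kernel

theorem chk_rows6_12 : cert.rowsOK 92784 564 = true := by decide +kernel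

theorem chk_rows6_13 : cert.rowsOK 93348 564 = true := by decide +kernel

theorem chk_rows6_14 : cert.rowsOK 93912 564 = true := by decide +kernel

theorem chk_rows6_15 : cert.rowsOK 94476 564 = true := by decide +kernel

theorem chk_rows6_16 : cert.rowsOK 95040 564 = true := by decide +kernel

theorem chk_rows6_17 : cert.rowsOK 95604 564 = true := by decide +kernel

theorem chk_rows6_18 : cert.rowsOK 96168 564 = true := by decide +kernel

theorem chk_rows6_19 : cert.rowsOK 96732 564 = true := by decide +kernel

theorem chk_rows6_20 : cert.rowsOK 97296 564 = true := by decide +kernel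

theorem chk_rows6_21 : cert.rowsOK 97860 564 = true := by decide +kernel

theorem chk_rows6_22 : cert.rowsOK 98424 564 = true := by decide +kernel

theorem chk_rows6_23 : cert.rowsOK 98988 564 = true := by decide +kernel

theorem chk_range6 : ∀ a, 86016 ≤ a → a < 99552 → ∀ x < cert.c.g, cert.slotOK a x = true := by
  refine cert.range_of_chunks 86016 564 24 (by norm_num) ?_
  intro k hk
  interval_cases k
  · exact chk_rows6_0
  · exact chk_rows6_1
  · exact chk_rows6_2
  · exact chk_rows6_3
  · exact chk_rows6_4
  · exact chk_rows6_5
  · exact chk_rows6_6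
  · exact chk_rows6_7
  · exact chk_rows6_8
  · exact chk_rows6_9
  · exact chk_rows6_10
  · exact chk_rows6_11
  · exact chk_rows6_12
  · exact chk_rows6_13
  · exact chk_rows6_14
  · exact chk_rows6_15
  · exact chk_rows6_16
  · exact chk_rows6_17
  · exact chk_rows6_18
  · exact chk_rows6_19
  · exact chk_rows6_20
  · exact chk_rows6_21
  · exact chk_rows6_22
  · exact chk_rows6_23

end Cfsg.Agent.Lib.Helper6.HeBTC
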