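import Cfsg.Agent.Lib.Helper6.HeBSCert

/-! # HeB: the kernel check of the rows from 113088 on -/

set_option autoImplicit false

namespace Cfsg.Agent.Lib.Helper6.HeBTC

open Cfsg.Agent.Lib.Helper6.TC Cfsg.Agent.Lib.Helper6.TCS

theorem chk_rows8_0 : cert.rowsOK 113088 564 = true := by decide +kernel

theorem chk_rows8_1 : cert.rowsOK 113652 564 = true := by decide +kernel

theorem chk_rows8_2 : cert.rowsOK 114216 564 = true := by decide +kernel

theorem chk_rows8_3 : cert.rowsOK 114780 564 = true := by decide +kernel

theorem chk_rows8_4 : cert.rowsOK 115344 564 = true := by decide +kernel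

theorem chk_rows8_5 : cert.rowsOK 115908 564 = true := by decide +kernel

theorem chk_rows8_6 : cert.rowsOK 116472 564 = true := by decide +kernel

theorem chk_rows8_7 : cert.rowsOK 117036 564 = true := by decide +kernel

theorem chk_rows8_8 : cert.rowsOK 117600 564 = true := by decide +kernel

theorem chk_rows8_9 : cert.rowsOK 118164 564 = true := by decide +kernel

theorem chk_rows8_10 : cert.rowsOK 118728 564 = true := by decide +kernel

theorem chk_rows8_11 : cert.rowsOK 119292 564 = true := by decide +kernel

theorem chk_rows8_12 : cert.rowsOK 119856 564 = true := by decide +kernel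

theorem chk_rows8_13 : cert.rowsOK 120420 564 = true := by decide +kernel

theorem chk_rows8_14 : cert.rowsOK 120984 564 = true := by decide +kernel

theorem chk_rows8_15 : cert.rowsOK 121548 564 = true := by decide +kernel

theorem chk_rows8_16 : cert.rowsOK 122112 564 = true := by decide +kernel

theorem chk_rows8_17 : cert.rowsOK 122676 564 = true := by decide +kernel

theorem chk_rows8_18 : cert.rowsOK 123240 564 = true := by decide +kernel

theorem chk_rows8_19 : cert.rowsOK 123804 564 = true := by decide +kernel

theorem chk_rows8_20 : cert.rowsOK 124368 564 = true := by decide +kernel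

theorem chk_rows8_21 : cert.rowsOK 124932 564 = true := by decide +kernel

theorem chk_rows8_22 : cert.rowsOK 125496 564 = true := by decide +kernel

theorem chk_rows8_23 : cert.rowsOK 126060 564 = true := by decide +kernel

theorem chk_range8 : ∀ a, 113088 ≤ a → a < 126624 → ∀ x < cert.c.g, cert.slotOK a x = true := by
  refine cert.range_of_chunks 113088 564 24 (by norm_num) ?_
  intro k hk
  interval_cases k
  · exact chk_rows8_0
  · exact chk_rows8_1
  · exact chk_rows8_2
  · exact chk_rows8_3
  · exact chk_rows8_4
  · exact chk_rows8_5
  · exact chk_rows8_6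
  · exact chk_rows8_7
  · exact chk_rows8_8
  · exact chk_rows8_9
  · exact chk_rows8_10
  · exact chk_rows8_11
  · exact chk_rows8_12
  · exact chk_rows8_13
  · exact chk_rows8_14
  · exact chk_rows8_15
  · exact chk_rows8_16
  · exact chk_rows8_17
  · exact chk_rows8_18
  · exact chk_rows8_19
  · exact chk_rows8_20
  · exact chk_rows8_21
  · exact chk_rows8_22
  · exact chk_rows8_23

end Cfsg.Agent.Lib.Helper6.HeBTC
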