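import Cfsg.Agent.Lib.Helper6.HeBSCert
import Cfsg.Agent.Lib.Helper6.TCChunk
import Cfsg.Agent.Lib.Helper6.HeBSMRows12

/-! # HeB: the kernel check that the first rows are closed, part 7 -/

set_option autoImplicit false

namespace Cfsg.Agent.Lib.Helper6.HeBTC

open Cfsg.Agent.Lib.Helper6.TC Cfsg.Agent.Lib.Helper6.TCS

theorem chk_fin63 : cert.finalOKc 266560 126000 2000 = true := by decide +kernel

theorem chk_fin64 : cert.finalOKc 266560 128000 2000 = true := by decide +kernel

theorem chk_fin65 : cert.finalOKc 266560 130000 2000 = true := by decide +kernel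

theorem chk_fin66 : cert.finalOKc 266560 132000 2000 = true := by decide +kernel

theorem chk_fin67 : cert.finalOKc 266560 134000 2000 = true := by decide +kernel

theorem chk_fin68 : cert.finalOKc 266560 136000 2000 = true := by decide +kernel

theorem chk_fin69 : cert.finalOKc 266560 138000 2000 = true := by decide +kernel

theorem chk_fin70 : cert.finalOKc 266560 140000 2000 = true := by decide +kernel

theorem chk_fin71 : cert.finalOKc 266560 142000 2000 = true := by decide +kernel

end Cfsg.Agent.Lib.Helper6.HeBTC
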