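import Cfsg.Agent.Lib.Helper6.HeBSCert

/-! # HeB: the kernel check of the rows from 153696 on -/

set_option autoImplicit false

namespace Cfsg.Agent.Lib.Helper6.HeBTC

open Cfsg.Agent.Lib.Helper6.TC Cfsg.Agent.Lib.Helper6.TCS

theorem chk_rows11_0 : cert.rowsOK 153696 564 = true := by decide +kernel

theorem chk_rows11_1 : cert.rowsOK 154260 564 = true := by decide +kernel

theorem chk_rows11_2 : cert.rowsOK 154824 564 = true := by decide +kernel

theorem chk_rows11_3 : cert.rowsOK 155388 564 = true := by decide +kernel

theorem chk_rows11_4 : cert.rowsOK 155952 564 = true := by decide +kernel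

theorem chk_rows11_5 : cert.rowsOK 156516 564 = true := by decide +kernel

theorem chk_rows11_6 : cert.rowsOK 157080 564 = true := by decide +kernel

theorem chk_rows11_7 : cert.rowsOK 157644 564 = true := by decide +kernel

theorem chk_rows11_8 : cert.rowsOK 158208 564 = true := by decide +kernel

theorem chk_rows11_9 : cert.rowsOK 158772 564 = true := by decide +kernel

theorem chk_rows11_10 : cert.rowsOK 159336 564 = true := by decide +kernel

theorem chk_rows11_11 : cert.rowsOK 159900 564 = true := by decide +kernel

theorem chk_rows11_12 : cert.rowsOK 160464 564 = true := by decide +kernel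

theorem chk_rows11_13 : cert.rowsOK 161028 564 = true := by decide +kernel

theorem chk_rows11_14 : cert.rowsOK 161592 564 = true := by decide +kernel

theorem chk_rows11_15 : cert.rowsOK 162156 564 = true := by decide +kernel

theorem chk_rows11_16 : cert.rowsOK 162720 564 = true := by decide +kernel

theorem chk_rows11_17 : cert.rowsOK 163284 564 = true := by decide +kernel

theorem chk_rows11_18 : cert.rowsOK 163848 564 = true := by decide +kernel

theorem chk_rows11_19 : cert.rowsOK 164412 564 = true := by decide +kernel

theorem chk_rows11_20 : cert.rowsOK 164976 564 = true := by decide +kernel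

theorem chk_rows11_21 : cert.rowsOK 165540 564 = true := by decide +kernel

theorem chk_rows11_22 : cert.rowsOK 166104 564 = true := by decide +kernel

theorem chk_rows11_23 : cert.rowsOK 166668 564 = true := by decide +kernel

theorem chk_range11 : ∀ a, 153696 ≤ a → a < 167232 → ∀ x < cert.c.g, cert.slotOK a x = true := by
  refine cert.range_of_chunks 153696 564 24 (by norm_num) ?_
  intro k hk
  interval_cases k
  · exact chk_rows11_0
  · exact chk_rows11_1
  · exact chk_rows11_2
  · exact chk_rows11_3
  · exact chk_rows11_4
  · exact chk_rows11_5
  · exact chk_rows11_6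
  · exact chk_rows11_7
  · exact chk_rows11_8
  · exact chk_rows11_9
  · exact chk_rows11_10
  · exact chk_rows11_11
  · exact chk_rows11_12
  · exact chk_rows11_13
  · exact chk_rows11_14
  · exact chk_rows11_15
  · exact chk_rows11_16
  · exact chk_rows11_17
  · exact chk_rows11_18
  · exact chk_rows11_19
  · exact chk_rows11_20
  · exact chk_rows11_21
  · exact chk_rows11_22
  · exact chk_rows11_23

end Cfsg.Agent.Lib.Helper6.HeBTC
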