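import Cfsg.Agent.Lib.Helper6.HeBSCert
import Cfsg.Agent.Lib.Helper6.TCChunk
import Cfsg.Agent.Lib.Helper6.HeBSMRows14

/-! # HeB: the kernel check that the first rows are closed, part 9 -/

set_option autoImplicit false

namespace Cfsg.Agent.Lib.Helper6.HeBTC

open Cfsg.Agent.Lib.Helper6.TC Cfsg.Agent.Lib.Helper6.TCS

theorem chk_fin81 : cert.finalOKc 266560 162000 2000 = true := by decide +kernel

theorem chk_fin82 : cert.finalOKc 266560 164000 2000 = true := by decide +kernel

theorem chk_fin83 : cert.finalOKc 266560 166000 2000 = true := by decide +kernel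

theorem chk_fin84 : cert.finalOKc 266560 168000 2000 = true := by decide +kernel

theorem chk_fin85 : cert.finalOKc 266560 170000 2000 = true := by decide +kernel

theorem chk_fin86 : cert.finalOKc 266560 172000 2000 = true := by decide +kernel

theorem chk_fin87 : cert.finalOKc 266560 174000 2000 = true := by decide +kernel

theorem chk_fin88 : cert.finalOKc 266560 176000 2000 = true := by decide +kernel

theorem chk_fin89 : cert.finalOKc 266560 178000 2000 = true := by decide +kernel

end Cfsg.Agent.Lib.Helper6.HeBTC
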