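import Cfsg.Agent.Lib.Helper6.HeBTCData
import Cfsg.Agent.Lib.Helper6.TCRel3
import Cfsg.Agent.Lib.Helper6.HeBSFin3

/-! # HeB: the kernel check of a part of the relators on the coset table -/

set_option autoImplicit false

namespace Cfsg.Agent.Lib.Helper6.HeBTC

open Cfsg.Agent.Lib.Helper6.TC

theorem chk_pow0_0_0 : tab.minOKc [0, 1] 4 0 4606 = true := by decide +kernel

theorem chk_pow0_0_1 : tab.minOKc [0, 1] 4 4606 4606 = true := by decide +kernel

theorem chk_pow0_0_2 : tab.minOKc [0, 1] 4 9212 4606 = true := by decide +kernel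

theorem chk_pow0_0_3 : tab.minOKc [0, 1] 4 13818 4606 = true := by decide +kernel

theorem chk_pow0_0_4 : tab.minOKc [0, 1] 4 18424 4606 = true := by decide +kernel

theorem chk_pow0_0_5 : tab.minOKc [0, 1] 4 23030 4606 = true := by decide +kernel

theorem chk_pow0_0_6 : tab.minOKc [0, 1] 4 27636 4606 = true := by decide +kernel

theorem chk_pow0_0_7 : tab.minOKc [0, 1] 4 32242 4606 = true := by decide +kernel

theorem chk_pow0_0_8 : tab.minOKc [0, 1] 4 36848 4606 = true := by decide +kernel

theorem chk_pow0_0_9 : tab.minOKc [0, 1] 4 41454 4606 = true := by decide +kernel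

theorem chk_pow0_0_10 : tab.minOKc [0, 1] 4 46060 4606 = true := by decide +kernel

theorem chk_pow0_0_11 : tab.minOKc [0, 1] 4 50666 4606 = true := by decide +kernel

theorem chk_pow0_0_12 : tab.minOKc [0, 1] 4 55272 4606 = true := by decide +kernel

theorem chk_pow0_0_13 : tab.minOKc [0, 1] 4 59878 4606 = true := by decide +kernel

theorem chk_pow0_0_14 : tab.minOKc [0, 1] 4 64484 4606 = true := by decide +kernel

theorem chk_pow0_0 : tab.minOKc [0, 1] 4 0 69090 = true := by
  refine tab.minOKc_of_chunks [0, 1] 4 0 4606 15 (by norm_num) ?_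
  intro i hi
  interval_cases i
  · exact chk_pow0_0_0
  · exact chk_pow0_0_1
  · exact chk_pow0_0_2
  · exact chk_pow0_0_3
  · exact chk_pow0_0_4
  · exact chk_pow0_0_5
  · exact chk_pow0_0_6
  · exact chk_pow0_0_7
  · exact chk_pow0_0_8
  · exact chk_pow0_0_9
  · exact chk_pow0_0_10
  · exact chk_pow0_0_11
  · exact chk_pow0_0_12
  · exact chk_pow0_0_13
  · exact chk_pow0_0_14

theorem chk_pow0_1_0 : tab.minOKc [0, 1] 4 69090 4606 = true := by decide +kernel

theorem chk_pow0_1_1 : tab.minOKc [0, 1] 4 73696 4606 = true := by decide +kernel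

theorem chk_pow0_1_2 : tab.minOKc [0, 1] 4 78302 4606 = true := by decide +kernel

theorem chk_pow0_1_3 : tab.minOKc [0, 1] 4 82908 4606 = true := by decide +kernel

theorem chk_pow0_1_4 : tab.minOKc [0, 1] 4 87514 4606 = true := by decide +kernel

theorem chk_pow0_1_5 : tab.minOKc [0, 1] 4 92120 4606 = true := by decide +kernel

theorem chk_pow0_1_6 : tab.minOKc [0, 1] 4 96726 4606 = true := by decide +kernel

theorem chk_pow0_1_7 : tab.minOKc [0, 1] 4 101332 4606 = true := by decide +kernel

theorem chk_pow0_1_8 : tab.minOKc [0, 1] 4 105938 4606 = true := by decide +kernel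

theorem chk_pow0_1_9 : tab.minOKc [0, 1] 4 110544 4606 = true := by decide +kernel

theorem chk_pow0_1_10 : tab.minOKc [0, 1] 4 115150 4606 = true := by decide +kernel

theorem chk_pow0_1_11 : tab.minOKc [0, 1] 4 119756 4606 = true := by decide +kernel

theorem chk_pow0_1_12 : tab.minOKc [0, 1] 4 124362 4606 = true := by decide +kernel

theorem chk_pow0_1_13 : tab.minOKc [0, 1] 4 128968 4606 = true := by decide +kernel

theorem chk_pow0_1_14 : tab.minOKc [0, 1] 4 133574 4606 = true := by decide +kernel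

theorem chk_pow0_1 : tab.minOKc [0, 1] 4 69090 69090 = true := by
  refine tab.minOKc_of_chunks [0, 1] 4 69090 4606 15 (by norm_num) ?_
  intro i hi
  interval_cases i
  · exact chk_pow0_1_0
  · exact chk_pow0_1_1
  · exact chk_pow0_1_2
  · exact chk_pow0_1_3
  · exact chk_pow0_1_4
  · exact chk_pow0_1_5
  · exact chk_pow0_1_6
  · exact chk_pow0_1_7
  · exact chk_pow0_1_8
  · exact chk_pow0_1_9
  · exact chk_pow0_1_10
  · exact chk_pow0_1_11
  · exact chk_pow0_1_12
  · exact chk_pow0_1_13
  · exact chk_pow0_1_14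

end Cfsg.Agent.Lib.Helper6.HeBTC
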