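import Cfsg.Agent.Lib.Helper6.HeBTCData
import Cfsg.Agent.Lib.Helper6.TCRel3
import Cfsg.Agent.Lib.Helper6.HeBSFin4

/-! # HeB: the kernel check of a part of the relators on the coset table -/

set_option autoImplicit false

namespace Cfsg.Agent.Lib.Helper6.HeBTC

open Cfsg.Agent.Lib.Helper6.TC

theorem chk_pow0_2_0 : tab.minOKc [0, 1] 4 138180 4606 = true := by decide +kernel

theorem chk_pow0_2_1 : tab.minOKc [0, 1] 4 142786 4606 = true := by decide +kernel

theorem chk_pow0_2_2 : tab.minOKc [0, 1] 4 147392 4606 = true := by decide +kernel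

theorem chk_pow0_2_3 : tab.minOKc [0, 1] 4 151998 4606 = true := by decide +kernel

theorem chk_pow0_2_4 : tab.minOKc [0, 1] 4 156604 4606 = true := by decide +kernel

theorem chk_pow0_2_5 : tab.minOKc [0, 1] 4 161210 4606 = true := by decide +kernel

theorem chk_pow0_2_6 : tab.minOKc [0, 1] 4 165816 4606 = true := by decide +kernel

theorem chk_pow0_2_7 : tab.minOKc [0, 1] 4 170422 4606 = true := by decide +kernel

theorem chk_pow0_2_8 : tab.minOKc [0, 1] 4 175028 4606 = true := by decide +kernel

theorem chk_pow0_2_9 : tab.minOKc [0, 1] 4 179634 4606 = true := by decide +kernel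

theorem chk_pow0_2_10 : tab.minOKc [0, 1] 4 184240 4606 = true := by decide +kernel

theorem chk_pow0_2_11 : tab.minOKc [0, 1] 4 188846 4606 = true := by decide +kernel

theorem chk_pow0_2_12 : tab.minOKc [0, 1] 4 193452 4606 = true := by decide +kernel

theorem chk_pow0_2_13 : tab.minOKc [0, 1] 4 198058 4606 = true := by decide +kernel

theorem chk_pow0_2_14 : tab.minOKc [0, 1] 4 202664 4606 = true := by decide +kernel

theorem chk_pow0_2 : tab.minOKc [0, 1] 4 138180 69090 = true := by
  refine tab.minOKc_of_chunks [0, 1] 4 138180 4606 15 (by norm_num) ?_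
  intro i hi
  interval_cases i
  · exact chk_pow0_2_0
  · exact chk_pow0_2_1
  · exact chk_pow0_2_2
  · exact chk_pow0_2_3
  · exact chk_pow0_2_4
  · exact chk_pow0_2_5
  · exact chk_pow0_2_6
  · exact chk_pow0_2_7
  · exact chk_pow0_2_8
  · exact chk_pow0_2_9
  · exact chk_pow0_2_10
  · exact chk_pow0_2_11
  · exact chk_pow0_2_12
  · exact chk_pow0_2_13
  · exact chk_pow0_2_14

theorem chk_pow0_3_0 : tab.minOKc [0, 1] 4 207270 4606 = true := by decide +kernel

theorem chk_pow0_3_1 : tab.minOKc [0, 1] 4 211876 4606 = true := by decide +kernel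

theorem chk_pow0_3_2 : tab.minOKc [0, 1] 4 216482 4606 = true := by decide +kernel

theorem chk_pow0_3_3 : tab.minOKc [0, 1] 4 221088 4606 = true := by decide +kernel

theorem chk_pow0_3_4 : tab.minOKc [0, 1] 4 225694 4606 = true := by decide +kernel

theorem chk_pow0_3_5 : tab.minOKc [0, 1] 4 230300 4606 = true := by decide +kernel

theorem chk_pow0_3_6 : tab.minOKc [0, 1] 4 234906 4606 = true := by decide +kernel

theorem chk_pow0_3_7 : tab.minOKc [0, 1] 4 239512 4606 = true := by decide +kernel

theorem chk_pow0_3_8 : tab.minOKc [0, 1] 4 244118 4606 = true := by decide +kernel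

theorem chk_pow0_3_9 : tab.minOKc [0, 1] 4 248724 4606 = true := by decide +kernel

theorem chk_pow0_3_10 : tab.minOKc [0, 1] 4 253330 4606 = true := by decide +kernel

theorem chk_pow0_3_11 : tab.minOKc [0, 1] 4 257936 4606 = true := by decide +kernel

theorem chk_pow0_3_12 : tab.minOKc [0, 1] 4 262542 4606 = true := by decide +kernel

theorem chk_pow0_3_13 : tab.minOKc [0, 1] 4 267148 4606 = true := by decide +kernel

theorem chk_pow0_3_14 : tab.minOKc [0, 1] 4 271754 4606 = true := by decide +kernel

theorem chk_pow0_3 : tab.minOKc [0, 1] 4 207270 69090 = true := by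
  refine tab.minOKc_of_chunks [0, 1] 4 207270 4606 15 (by norm_num) ?_
  intro i hi
  interval_cases i
  · exact chk_pow0_3_0
  · exact chk_pow0_3_1
  · exact chk_pow0_3_2
  · exact chk_pow0_3_3
  · exact chk_pow0_3_4
  · exact chk_pow0_3_5
  · exact chk_pow0_3_6
  · exact chk_pow0_3_7
  · exact chk_pow0_3_8
  · exact chk_pow0_3_9
  · exact chk_pow0_3_10
  · exact chk_pow0_3_11
  · exact chk_pow0_3_12
  · exact chk_pow0_3_13
  · exact chk_pow0_3_14

end Cfsg.Agent.Lib.Helper6.HeBTC
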