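import Cfsg.Agent.Lib.Helper6.HeBTCData
import Cfsg.Agent.Lib.Helper6.TCRel3
import Cfsg.Agent.Lib.Helper6.HeBSFin14

/-! # HeB: the kernel check of a part of the relators on the coset table -/

set_option autoImplicit false

namespace Cfsg.Agent.Lib.Helper6.HeBTC

open Cfsg.Agent.Lib.Helper6.TC

theorem chk_pow5_5_0 : tab.minOKc [2, 3] 10 249600 3328 = true := by decide +kernel

theorem chk_pow5_5_1 : tab.minOKc [2, 3] 10 252928 3328 = true := by decide +kernel

theorem chk_pow5_5_2 : tab.minOKc [2, 3] 10 256256 3328 = true := by decide +kernel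

theorem chk_pow5_5_3 : tab.minOKc [2, 3] 10 259584 3328 = true := by decide +kernel

theorem chk_pow5_5_4 : tab.minOKc [2, 3] 10 262912 3328 = true := by decide +kernel

theorem chk_pow5_5_5 : tab.minOKc [2, 3] 10 266240 3328 = true := by decide +kernel

theorem chk_pow5_5_6 : tab.minOKc [2, 3] 10 269568 3328 = true := by decide +kernel

theorem chk_pow5_5_7 : tab.minOKc [2, 3] 10 272896 3328 = true := by decide +kernel

theorem chk_pow5_5_8 : tab.minOKc [2, 3] 10 276224 3328 = true := by decide +kernel

theorem chk_pow5_5_9 : tab.minOKc [2, 3] 10 279552 3328 = true := by decide +kernel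

theorem chk_pow5_5_10 : tab.minOKc [2, 3] 10 282880 3328 = true := by decide +kernel

theorem chk_pow5_5_11 : tab.minOKc [2, 3] 10 286208 3328 = true := by decide +kernel

theorem chk_pow5_5_12 : tab.minOKc [2, 3] 10 289536 3328 = true := by decide +kernel

theorem chk_pow5_5_13 : tab.minOKc [2, 3] 10 292864 3328 = true := by decide +kernel

theorem chk_pow5_5_14 : tab.minOKc [2, 3] 10 296192 3328 = true := by decide +kernel

theorem chk_pow5_5 : tab.minOKc [2, 3] 10 249600 49920 = true := by
  refine tab.minOKc_of_chunks [2, 3] 10 249600 3328 15 (by norm_num) ?_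
  intro i hi
  interval_cases i
  · exact chk_pow5_5_0
  · exact chk_pow5_5_1
  · exact chk_pow5_5_2
  · exact chk_pow5_5_3
  · exact chk_pow5_5_4
  · exact chk_pow5_5_5
  · exact chk_pow5_5_6
  · exact chk_pow5_5_7
  · exact chk_pow5_5_8
  · exact chk_pow5_5_9
  · exact chk_pow5_5_10
  · exact chk_pow5_5_11
  · exact chk_pow5_5_12
  · exact chk_pow5_5_13
  · exact chk_pow5_5_14

theorem chk_pow6_0_0 : tab.minOKc [0, 4] 2 0 6659 = true := by decide +kernel

theorem chk_pow6_0_1 : tab.minOKc [0, 4] 2 6659 6659 = true := by decide +kernel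

theorem chk_pow6_0_2 : tab.minOKc [0, 4] 2 13318 6659 = true := by decide +kernel

theorem chk_pow6_0_3 : tab.minOKc [0, 4] 2 19977 6659 = true := by decide +kernel

theorem chk_pow6_0_4 : tab.minOKc [0, 4] 2 26636 6659 = true := by decide +kernel

theorem chk_pow6_0_5 : tab.minOKc [0, 4] 2 33295 6659 = true := by decide +kernel

theorem chk_pow6_0_6 : tab.minOKc [0, 4] 2 39954 6659 = true := by decide +kernel

theorem chk_pow6_0_7 : tab.minOKc [0, 4] 2 46613 6659 = true := by decide +kernel

theorem chk_pow6_0_8 : tab.minOKc [0, 4] 2 53272 6659 = true := by decide +kernel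

theorem chk_pow6_0_9 : tab.minOKc [0, 4] 2 59931 6659 = true := by decide +kernel

theorem chk_pow6_0_10 : tab.minOKc [0, 4] 2 66590 6659 = true := by decide +kernel

theorem chk_pow6_0_11 : tab.minOKc [0, 4] 2 73249 6659 = true := by decide +kernel

theorem chk_pow6_0_12 : tab.minOKc [0, 4] 2 79908 6659 = true := by decide +kernel

theorem chk_pow6_0_13 : tab.minOKc [0, 4] 2 86567 6659 = true := by decide +kernel

theorem chk_pow6_0_14 : tab.minOKc [0, 4] 2 93226 6659 = true := by decide +kernel

theorem chk_pow6_0 : tab.minOKc [0, 4] 2 0 99885 = true := by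
  refine tab.minOKc_of_chunks [0, 4] 2 0 6659 15 (by norm_num) ?_
  intro i hi
  interval_cases i
  · exact chk_pow6_0_0
  · exact chk_pow6_0_1
  · exact chk_pow6_0_2
  · exact chk_pow6_0_3
  · exact chk_pow6_0_4
  · exact chk_pow6_0_5
  · exact chk_pow6_0_6
  · exact chk_pow6_0_7
  · exact chk_pow6_0_8
  · exact chk_pow6_0_9
  · exact chk_pow6_0_10
  · exact chk_pow6_0_11
  · exact chk_pow6_0_12
  · exact chk_pow6_0_13
  · exact chk_pow6_0_14

end Cfsg.Agent.Lib.Helper6.HeBTC
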