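import Cfsg.Agent.Lib.Helper6.HeBTCData
import Cfsg.Agent.Lib.Helper6.TCRel3
import Cfsg.Agent.Lib.Helper6.HeBTCRel0

/-! # HeB: the kernel check of a part of the relators on the coset table -/

set_option autoImplicit false

namespace Cfsg.Agent.Lib.Helper6.HeBTC

open Cfsg.Agent.Lib.Helper6.TC

theorem chk_pow6_1_0 : tab.minOKc [0, 4] 2 99885 6659 = true := by decide +kernel

theorem chk_pow6_1_1 : tab.minOKc [0, 4] 2 106544 6659 = true := by decide +kernel

theorem chk_pow6_1_2 : tab.minOKc [0, 4] 2 113203 6659 = true := by decide +kernel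

theorem chk_pow6_1_3 : tab.minOKc [0, 4] 2 119862 6659 = true := by decide +kernel

theorem chk_pow6_1_4 : tab.minOKc [0, 4] 2 126521 6659 = true := by decide +kernel

theorem chk_pow6_1_5 : tab.minOKc [0, 4] 2 133180 6659 = true := by decide +kernel

theorem chk_pow6_1_6 : tab.minOKc [0, 4] 2 139839 6659 = true := by decide +kernel

theorem chk_pow6_1_7 : tab.minOKc [0, 4] 2 146498 6659 = true := by decide +kernel

theorem chk_pow6_1_8 : tab.minOKc [0, 4] 2 153157 6659 = true := by decide +kernel

theorem chk_pow6_1_9 : tab.minOKc [0, 4] 2 159816 6659 = true := by decide +kernel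

theorem chk_pow6_1_10 : tab.minOKc [0, 4] 2 166475 6659 = true := by decide +kernel

theorem chk_pow6_1_11 : tab.minOKc [0, 4] 2 173134 6659 = true := by decide +kernel

theorem chk_pow6_1_12 : tab.minOKc [0, 4] 2 179793 6659 = true := by decide +kernel

theorem chk_pow6_1_13 : tab.minOKc [0, 4] 2 186452 6659 = true := by decide +kernel

theorem chk_pow6_1_14 : tab.minOKc [0, 4] 2 193111 6659 = true := by decide +kernel

theorem chk_pow6_1 : tab.minOKc [0, 4] 2 99885 99885 = true := by
  refine tab.minOKc_of_chunks [0, 4] 2 99885 6659 15 (by norm_num) ?_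
  intro i hi
  interval_cases i
  · exact chk_pow6_1_0
  · exact chk_pow6_1_1
  · exact chk_pow6_1_2
  · exact chk_pow6_1_3
  · exact chk_pow6_1_4
  · exact chk_pow6_1_5
  · exact chk_pow6_1_6
  · exact chk_pow6_1_7
  · exact chk_pow6_1_8
  · exact chk_pow6_1_9
  · exact chk_pow6_1_10
  · exact chk_pow6_1_11
  · exact chk_pow6_1_12
  · exact chk_pow6_1_13
  · exact chk_pow6_1_14

theorem chk_pow6_2_0 : tab.minOKc [0, 4] 2 199770 6659 = true := by decide +kernel

theorem chk_pow6_2_1 : tab.minOKc [0, 4] 2 206429 6659 = true := by decide +kernel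

theorem chk_pow6_2_2 : tab.minOKc [0, 4] 2 213088 6659 = true := by decide +kernel

theorem chk_pow6_2_3 : tab.minOKc [0, 4] 2 219747 6659 = true := by decide +kernel

theorem chk_pow6_2_4 : tab.minOKc [0, 4] 2 226406 6659 = true := by decide +kernel

theorem chk_pow6_2_5 : tab.minOKc [0, 4] 2 233065 6659 = true := by decide +kernel

theorem chk_pow6_2_6 : tab.minOKc [0, 4] 2 239724 6659 = true := by decide +kernel

theorem chk_pow6_2_7 : tab.minOKc [0, 4] 2 246383 6659 = true := by decide +kernel

theorem chk_pow6_2_8 : tab.minOKc [0, 4] 2 253042 6659 = true := by decide +kernel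

theorem chk_pow6_2_9 : tab.minOKc [0, 4] 2 259701 6659 = true := by decide +kernel

theorem chk_pow6_2_10 : tab.minOKc [0, 4] 2 266360 6659 = true := by decide +kernel

theorem chk_pow6_2_11 : tab.minOKc [0, 4] 2 273019 6659 = true := by decide +kernel

theorem chk_pow6_2_12 : tab.minOKc [0, 4] 2 279678 6659 = true := by decide +kernel

theorem chk_pow6_2_13 : tab.minOKc [0, 4] 2 286337 6659 = true := by decide +kernel

theorem chk_pow6_2_14 : tab.minOKc [0, 4] 2 292996 6659 = true := by decide +kernel

theorem chk_pow6_2 : tab.minOKc [0, 4] 2 199770 99885 = true := by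
  refine tab.minOKc_of_chunks [0, 4] 2 199770 6659 15 (by norm_num) ?_
  intro i hi
  interval_cases i
  · exact chk_pow6_2_0
  · exact chk_pow6_2_1
  · exact chk_pow6_2_2
  · exact chk_pow6_2_3
  · exact chk_pow6_2_4
  · exact chk_pow6_2_5
  · exact chk_pow6_2_6
  · exact chk_pow6_2_7
  · exact chk_pow6_2_8
  · exact chk_pow6_2_9
  · exact chk_pow6_2_10
  · exact chk_pow6_2_11
  · exact chk_pow6_2_12
  · exact chk_pow6_2_13
  · exact chk_pow6_2_14

end Cfsg.Agent.Lib.Helper6.HeBTC
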