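import Cfsg.Agent.Lib.Helper6.HeBTCData
import Cfsg.Agent.Lib.Helper6.TCRel3
import Cfsg.Agent.Lib.Helper6.HeBTCRel1

/-! # HeB: the kernel check of a part of the relators on the coset table -/

set_option autoImplicit false

namespace Cfsg.Agent.Lib.Helper6.HeBTC

open Cfsg.Agent.Lib.Helper6.TC

theorem chk_pow7_0_0 : tab.minOKc [1, 4] 2 0 6594 = true := by decide +kernel

theorem chk_pow7_0_1 : tab.minOKc [1, 4] 2 6594 6594 = true := by decide +kernel

theorem chk_pow7_0_2 : tab.minOKc [1, 4] 2 13188 6594 = true := by decide +kernel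

theorem chk_pow7_0_3 : tab.minOKc [1, 4] 2 19782 6594 = true := by decide +kernel

theorem chk_pow7_0_4 : tab.minOKc [1, 4] 2 26376 6594 = true := by decide +kernel

theorem chk_pow7_0_5 : tab.minOKc [1, 4] 2 32970 6594 = true := by decide +kernel

theorem chk_pow7_0_6 : tab.minOKc [1, 4] 2 39564 6594 = true := by decide +kernel

theorem chk_pow7_0_7 : tab.minOKc [1, 4] 2 46158 6594 = true := by decide +kernel

theorem chk_pow7_0_8 : tab.minOKc [1, 4] 2 52752 6594 = true := by decide +kernel

theorem chk_pow7_0_9 : tab.minOKc [1, 4] 2 59346 6594 = true := by decide +kernel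

theorem chk_pow7_0_10 : tab.minOKc [1, 4] 2 65940 6594 = true := by decide +kernel

theorem chk_pow7_0_11 : tab.minOKc [1, 4] 2 72534 6594 = true := by decide +kernel

theorem chk_pow7_0_12 : tab.minOKc [1, 4] 2 79128 6594 = true := by decide +kernel

theorem chk_pow7_0_13 : tab.minOKc [1, 4] 2 85722 6594 = true := by decide +kernel

theorem chk_pow7_0_14 : tab.minOKc [1, 4] 2 92316 6594 = true := by decide +kernel

theorem chk_pow7_0 : tab.minOKc [1, 4] 2 0 98910 = true := by
  refine tab.minOKc_of_chunks [1, 4] 2 0 6594 15 (by norm_num) ?_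
  intro i hi
  interval_cases i
  · exact chk_pow7_0_0
  · exact chk_pow7_0_1
  · exact chk_pow7_0_2
  · exact chk_pow7_0_3
  · exact chk_pow7_0_4
  · exact chk_pow7_0_5
  · exact chk_pow7_0_6
  · exact chk_pow7_0_7
  · exact chk_pow7_0_8
  · exact chk_pow7_0_9
  · exact chk_pow7_0_10
  · exact chk_pow7_0_11
  · exact chk_pow7_0_12
  · exact chk_pow7_0_13
  · exact chk_pow7_0_14

theorem chk_pow7_1_0 : tab.minOKc [1, 4] 2 98910 6594 = true := by decide +kernel

theorem chk_pow7_1_1 : tab.minOKc [1, 4] 2 105504 6594 = true := by decide +kernel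

theorem chk_pow7_1_2 : tab.minOKc [1, 4] 2 112098 6594 = true := by decide +kernel

theorem chk_pow7_1_3 : tab.minOKc [1, 4] 2 118692 6594 = true := by decide +kernel

theorem chk_pow7_1_4 : tab.minOKc [1, 4] 2 125286 6594 = true := by decide +kernel

theorem chk_pow7_1_5 : tab.minOKc [1, 4] 2 131880 6594 = true := by decide +kernel

theorem chk_pow7_1_6 : tab.minOKc [1, 4] 2 138474 6594 = true := by decide +kernel

theorem chk_pow7_1_7 : tab.minOKc [1, 4] 2 145068 6594 = true := by decide +kernel

theorem chk_pow7_1_8 : tab.minOKc [1, 4] 2 151662 6594 = true := by decide +kernel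

theorem chk_pow7_1_9 : tab.minOKc [1, 4] 2 158256 6594 = true := by decide +kernel

theorem chk_pow7_1_10 : tab.minOKc [1, 4] 2 164850 6594 = true := by decide +kernel

theorem chk_pow7_1_11 : tab.minOKc [1, 4] 2 171444 6594 = true := by decide +kernel

theorem chk_pow7_1_12 : tab.minOKc [1, 4] 2 178038 6594 = true := by decide +kernel

theorem chk_pow7_1_13 : tab.minOKc [1, 4] 2 184632 6594 = true := by decide +kernel

theorem chk_pow7_1_14 : tab.minOKc [1, 4] 2 191226 6594 = true := by decide +kernel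

theorem chk_pow7_1 : tab.minOKc [1, 4] 2 98910 98910 = true := by
  refine tab.minOKc_of_chunks [1, 4] 2 98910 6594 15 (by norm_num) ?_
  intro i hi
  interval_cases i
  · exact chk_pow7_1_0
  · exact chk_pow7_1_1
  · exact chk_pow7_1_2
  · exact chk_pow7_1_3
  · exact chk_pow7_1_4
  · exact chk_pow7_1_5
  · exact chk_pow7_1_6
  · exact chk_pow7_1_7
  · exact chk_pow7_1_8
  · exact chk_pow7_1_9
  · exact chk_pow7_1_10
  · exact chk_pow7_1_11
  · exact chk_pow7_1_12
  · exact chk_pow7_1_13
  · exact chk_pow7_1_14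

end Cfsg.Agent.Lib.Helper6.HeBTC
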