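import Cfsg.Agent.Lib.Helper6.HeBTCData
import Cfsg.Agent.Lib.Helper6.TCRel3
import Cfsg.Agent.Lib.Helper6.HeBSFin5

/-! # HeB: the kernel check of a part of the relators on the coset table -/

set_option autoImplicit false

namespace Cfsg.Agent.Lib.Helper6.HeBTC

open Cfsg.Agent.Lib.Helper6.TC

theorem chk_pow1_0_0 : tab.minOKc [0, 2] 2 0 6685 = true := by decide +kernel

theorem chk_pow1_0_1 : tab.minOKc [0, 2] 2 6685 6685 = true := by decide +kernel

theorem chk_pow1_0_2 : tab.minOKc [0, 2] 2 13370 6685 = true := by decide +kernel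

theorem chk_pow1_0_3 : tab.minOKc [0, 2] 2 20055 6685 = true := by decide +kernel

theorem chk_pow1_0_4 : tab.minOKc [0, 2] 2 26740 6685 = true := by decide +kernel

theorem chk_pow1_0_5 : tab.minOKc [0, 2] 2 33425 6685 = true := by decide +kernel

theorem chk_pow1_0_6 : tab.minOKc [0, 2] 2 40110 6685 = true := by decide +kernel

theorem chk_pow1_0_7 : tab.minOKc [0, 2] 2 46795 6685 = true := by decide +kernel

theorem chk_pow1_0_8 : tab.minOKc [0, 2] 2 53480 6685 = true := by decide +kernel

theorem chk_pow1_0_9 : tab.minOKc [0, 2] 2 60165 6685 = true := by decide +kernel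

theorem chk_pow1_0_10 : tab.minOKc [0, 2] 2 66850 6685 = true := by decide +kernel

theorem chk_pow1_0_11 : tab.minOKc [0, 2] 2 73535 6685 = true := by decide +kernel

theorem chk_pow1_0_12 : tab.minOKc [0, 2] 2 80220 6685 = true := by decide +kernel

theorem chk_pow1_0_13 : tab.minOKc [0, 2] 2 86905 6685 = true := by decide +kernel

theorem chk_pow1_0_14 : tab.minOKc [0, 2] 2 93590 6685 = true := by decide +kernel

theorem chk_pow1_0 : tab.minOKc [0, 2] 2 0 100275 = true := by
  refine tab.minOKc_of_chunks [0, 2] 2 0 6685 15 (by norm_num) ?_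
  intro i hi
  interval_cases i
  · exact chk_pow1_0_0
  · exact chk_pow1_0_1
  · exact chk_pow1_0_2
  · exact chk_pow1_0_3
  · exact chk_pow1_0_4
  · exact chk_pow1_0_5
  · exact chk_pow1_0_6
  · exact chk_pow1_0_7
  · exact chk_pow1_0_8
  · exact chk_pow1_0_9
  · exact chk_pow1_0_10
  · exact chk_pow1_0_11
  · exact chk_pow1_0_12
  · exact chk_pow1_0_13
  · exact chk_pow1_0_14

theorem chk_pow1_1_0 : tab.minOKc [0, 2] 2 100275 6685 = true := by decide +kernel

theorem chk_pow1_1_1 : tab.minOKc [0, 2] 2 106960 6685 = true := by decide +kernel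

theorem chk_pow1_1_2 : tab.minOKc [0, 2] 2 113645 6685 = true := by decide +kernel

theorem chk_pow1_1_3 : tab.minOKc [0, 2] 2 120330 6685 = true := by decide +kernel

theorem chk_pow1_1_4 : tab.minOKc [0, 2] 2 127015 6685 = true := by decide +kernel

theorem chk_pow1_1_5 : tab.minOKc [0, 2] 2 133700 6685 = true := by decide +kernel

theorem chk_pow1_1_6 : tab.minOKc [0, 2] 2 140385 6685 = true := by decide +kernel

theorem chk_pow1_1_7 : tab.minOKc [0, 2] 2 147070 6685 = true := by decide +kernel

theorem chk_pow1_1_8 : tab.minOKc [0, 2] 2 153755 6685 = true := by decide +kernel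

theorem chk_pow1_1_9 : tab.minOKc [0, 2] 2 160440 6685 = true := by decide +kernel

theorem chk_pow1_1_10 : tab.minOKc [0, 2] 2 167125 6685 = true := by decide +kernel

theorem chk_pow1_1_11 : tab.minOKc [0, 2] 2 173810 6685 = true := by decide +kernel

theorem chk_pow1_1_12 : tab.minOKc [0, 2] 2 180495 6685 = true := by decide +kernel

theorem chk_pow1_1_13 : tab.minOKc [0, 2] 2 187180 6685 = true := by decide +kernel

theorem chk_pow1_1_14 : tab.minOKc [0, 2] 2 193865 6685 = true := by decide +kernel

theorem chk_pow1_1 : tab.minOKc [0, 2] 2 100275 100275 = true := by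
  refine tab.minOKc_of_chunks [0, 2] 2 100275 6685 15 (by norm_num) ?_
  intro i hi
  interval_cases i
  · exact chk_pow1_1_0
  · exact chk_pow1_1_1
  · exact chk_pow1_1_2
  · exact chk_pow1_1_3
  · exact chk_pow1_1_4
  · exact chk_pow1_1_5
  · exact chk_pow1_1_6
  · exact chk_pow1_1_7
  · exact chk_pow1_1_8
  · exact chk_pow1_1_9
  · exact chk_pow1_1_10
  · exact chk_pow1_1_11
  · exact chk_pow1_1_12
  · exact chk_pow1_1_13
  · exact chk_pow1_1_14

end Cfsg.Agent.Lib.Helper6.HeBTC
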