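import Cfsg.Agent.Lib.Helper6.HeBTCData
import Cfsg.Agent.Lib.Helper6.TCRel3
import Cfsg.Agent.Lib.Helper6.HeBTCRel2

/-! # HeB: the kernel check of a part of the relators on the coset table -/

set_option autoImplicit false

namespace Cfsg.Agent.Lib.Helper6.HeBTC

open Cfsg.Agent.Lib.Helper6.TC

theorem chk_pow7_2_0 : tab.minOKc [1, 4] 2 197820 6594 = true := by decide +kernel

theorem chk_pow7_2_1 : tab.minOKc [1, 4] 2 204414 6594 = true := by decide +kernel

theorem chk_pow7_2_2 : tab.minOKc [1, 4] 2 211008 6594 = true := by decide +kernel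

theorem chk_pow7_2_3 : tab.minOKc [1, 4] 2 217602 6594 = true := by decide +kernel

theorem chk_pow7_2_4 : tab.minOKc [1, 4] 2 224196 6594 = true := by decide +kernel

theorem chk_pow7_2_5 : tab.minOKc [1, 4] 2 230790 6594 = true := by decide +kernel

theorem chk_pow7_2_6 : tab.minOKc [1, 4] 2 237384 6594 = true := by decide +kernel

theorem chk_pow7_2_7 : tab.minOKc [1, 4] 2 243978 6594 = true := by decide +kernel

theorem chk_pow7_2_8 : tab.minOKc [1, 4] 2 250572 6594 = true := by decide +kernel

theorem chk_pow7_2_9 : tab.minOKc [1, 4] 2 257166 6594 = true := by decide +kernel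

theorem chk_pow7_2_10 : tab.minOKc [1, 4] 2 263760 6594 = true := by decide +kernel

theorem chk_pow7_2_11 : tab.minOKc [1, 4] 2 270354 6594 = true := by decide +kernel

theorem chk_pow7_2_12 : tab.minOKc [1, 4] 2 276948 6594 = true := by decide +kernel

theorem chk_pow7_2_13 : tab.minOKc [1, 4] 2 283542 6594 = true := by decide +kernel

theorem chk_pow7_2_14 : tab.minOKc [1, 4] 2 290136 6594 = true := by decide +kernel

theorem chk_pow7_2 : tab.minOKc [1, 4] 2 197820 98910 = true := by
  refine tab.minOKc_of_chunks [1, 4] 2 197820 6594 15 (by norm_num) ?_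
  intro i hi
  interval_cases i
  · exact chk_pow7_2_0
  · exact chk_pow7_2_1
  · exact chk_pow7_2_2
  · exact chk_pow7_2_3
  · exact chk_pow7_2_4
  · exact chk_pow7_2_5
  · exact chk_pow7_2_6
  · exact chk_pow7_2_7
  · exact chk_pow7_2_8
  · exact chk_pow7_2_9
  · exact chk_pow7_2_10
  · exact chk_pow7_2_11
  · exact chk_pow7_2_12
  · exact chk_pow7_2_13
  · exact chk_pow7_2_14

theorem chk_pow8_0_0 : tab.minOKc [2, 4] 2 0 6582 = true := by decide +kernel

theorem chk_pow8_0_1 : tab.minOKc [2, 4] 2 6582 6582 = true := by decide +kernel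

theorem chk_pow8_0_2 : tab.minOKc [2, 4] 2 13164 6582 = true := by decide +kernel

theorem chk_pow8_0_3 : tab.minOKc [2, 4] 2 19746 6582 = true := by decide +kernel

theorem chk_pow8_0_4 : tab.minOKc [2, 4] 2 26328 6582 = true := by decide +kernel

theorem chk_pow8_0_5 : tab.minOKc [2, 4] 2 32910 6582 = true := by decide +kernel

theorem chk_pow8_0_6 : tab.minOKc [2, 4] 2 39492 6582 = true := by decide +kernel

theorem chk_pow8_0_7 : tab.minOKc [2, 4] 2 46074 6582 = true := by decide +kernel

theorem chk_pow8_0_8 : tab.minOKc [2, 4] 2 52656 6582 = true := by decide +kernel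

theorem chk_pow8_0_9 : tab.minOKc [2, 4] 2 59238 6582 = true := by decide +kernel

theorem chk_pow8_0_10 : tab.minOKc [2, 4] 2 65820 6582 = true := by decide +kernel

theorem chk_pow8_0_11 : tab.minOKc [2, 4] 2 72402 6582 = true := by decide +kernel

theorem chk_pow8_0_12 : tab.minOKc [2, 4] 2 78984 6582 = true := by decide +kernel

theorem chk_pow8_0_13 : tab.minOKc [2, 4] 2 85566 6582 = true := by decide +kernel

theorem chk_pow8_0_14 : tab.minOKc [2, 4] 2 92148 6582 = true := by decide +kernel

theorem chk_pow8_0 : tab.minOKc [2, 4] 2 0 98730 = true := by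
  refine tab.minOKc_of_chunks [2, 4] 2 0 6582 15 (by norm_num) ?_
  intro i hi
  interval_cases i
  · exact chk_pow8_0_0
  · exact chk_pow8_0_1
  · exact chk_pow8_0_2
  · exact chk_pow8_0_3
  · exact chk_pow8_0_4
  · exact chk_pow8_0_5
  · exact chk_pow8_0_6
  · exact chk_pow8_0_7
  · exact chk_pow8_0_8
  · exact chk_pow8_0_9
  · exact chk_pow8_0_10
  · exact chk_pow8_0_11
  · exact chk_pow8_0_12
  · exact chk_pow8_0_13
  · exact chk_pow8_0_14

end Cfsg.Agent.Lib.Helper6.HeBTC
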