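import Cfsg.Agent.Lib.Helper6.HeBTCData
import Cfsg.Agent.Lib.Helper6.TCRel3
import Cfsg.Agent.Lib.Helper6.HeBSFin6

/-! # HeB: the kernel check of a part of the relators on the coset table -/

set_option autoImplicit false

namespace Cfsg.Agent.Lib.Helper6.HeBTC

open Cfsg.Agent.Lib.Helper6.TC

theorem chk_pow1_2_0 : tab.minOKc [0, 2] 2 200550 6685 = true := by decide +kernel

theorem chk_pow1_2_1 : tab.minOKc [0, 2] 2 207235 6685 = true := by decide +kernel

theorem chk_pow1_2_2 : tab.minOKc [0, 2] 2 213920 6685 = true := by decide +kernel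

theorem chk_pow1_2_3 : tab.minOKc [0, 2] 2 220605 6685 = true := by decide +kernel

theorem chk_pow1_2_4 : tab.minOKc [0, 2] 2 227290 6685 = true := by decide +kernel

theorem chk_pow1_2_5 : tab.minOKc [0, 2] 2 233975 6685 = true := by decide +kernel

theorem chk_pow1_2_6 : tab.minOKc [0, 2] 2 240660 6685 = true := by decide +kernel

theorem chk_pow1_2_7 : tab.minOKc [0, 2] 2 247345 6685 = true := by decide +kernel

theorem chk_pow1_2_8 : tab.minOKc [0, 2] 2 254030 6685 = true := by decide +kernel

theorem chk_pow1_2_9 : tab.minOKc [0, 2] 2 260715 6685 = true := by decide +kernel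

theorem chk_pow1_2_10 : tab.minOKc [0, 2] 2 267400 6685 = true := by decide +kernel

theorem chk_pow1_2_11 : tab.minOKc [0, 2] 2 274085 6685 = true := by decide +kernel

theorem chk_pow1_2_12 : tab.minOKc [0, 2] 2 280770 6685 = true := by decide +kernel

theorem chk_pow1_2_13 : tab.minOKc [0, 2] 2 287455 6685 = true := by decide +kernel

theorem chk_pow1_2_14 : tab.minOKc [0, 2] 2 294140 6685 = true := by decide +kernel

theorem chk_pow1_2 : tab.minOKc [0, 2] 2 200550 100275 = true := by
  refine tab.minOKc_of_chunks [0, 2] 2 200550 6685 15 (by norm_num) ?_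
  intro i hi
  interval_cases i
  · exact chk_pow1_2_0
  · exact chk_pow1_2_1
  · exact chk_pow1_2_2
  · exact chk_pow1_2_3
  · exact chk_pow1_2_4
  · exact chk_pow1_2_5
  · exact chk_pow1_2_6
  · exact chk_pow1_2_7
  · exact chk_pow1_2_8
  · exact chk_pow1_2_9
  · exact chk_pow1_2_10
  · exact chk_pow1_2_11
  · exact chk_pow1_2_12
  · exact chk_pow1_2_13
  · exact chk_pow1_2_14

theorem chk_pow2_0_0 : tab.minOKc [1, 2] 3 0 5301 = true := by decide +kernel

theorem chk_pow2_0_1 : tab.minOKc [1, 2] 3 5301 5301 = true := by decide +kernel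

theorem chk_pow2_0_2 : tab.minOKc [1, 2] 3 10602 5301 = true := by decide +kernel

theorem chk_pow2_0_3 : tab.minOKc [1, 2] 3 15903 5301 = true := by decide +kernel

theorem chk_pow2_0_4 : tab.minOKc [1, 2] 3 21204 5301 = true := by decide +kernel

theorem chk_pow2_0_5 : tab.minOKc [1, 2] 3 26505 5301 = true := by decide +kernel

theorem chk_pow2_0_6 : tab.minOKc [1, 2] 3 31806 5301 = true := by decide +kernel

theorem chk_pow2_0_7 : tab.minOKc [1, 2] 3 37107 5301 = true := by decide +kernel

theorem chk_pow2_0_8 : tab.minOKc [1, 2] 3 42408 5301 = true := by decide +kernel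

theorem chk_pow2_0_9 : tab.minOKc [1, 2] 3 47709 5301 = true := by decide +kernel

theorem chk_pow2_0_10 : tab.minOKc [1, 2] 3 53010 5301 = true := by decide +kernel

theorem chk_pow2_0_11 : tab.minOKc [1, 2] 3 58311 5301 = true := by decide +kernel

theorem chk_pow2_0_12 : tab.minOKc [1, 2] 3 63612 5301 = true := by decide +kernel

theorem chk_pow2_0_13 : tab.minOKc [1, 2] 3 68913 5301 = true := by decide +kernel

theorem chk_pow2_0_14 : tab.minOKc [1, 2] 3 74214 5301 = true := by decide +kernel

theorem chk_pow2_0 : tab.minOKc [1, 2] 3 0 79515 = true := by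
  refine tab.minOKc_of_chunks [1, 2] 3 0 5301 15 (by norm_num) ?_
  intro i hi
  interval_cases i
  · exact chk_pow2_0_0
  · exact chk_pow2_0_1
  · exact chk_pow2_0_2
  · exact chk_pow2_0_3
  · exact chk_pow2_0_4
  · exact chk_pow2_0_5
  · exact chk_pow2_0_6
  · exact chk_pow2_0_7
  · exact chk_pow2_0_8
  · exact chk_pow2_0_9
  · exact chk_pow2_0_10
  · exact chk_pow2_0_11
  · exact chk_pow2_0_12
  · exact chk_pow2_0_13
  · exact chk_pow2_0_14

end Cfsg.Agent.Lib.Helper6.HeBTC
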