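import Cfsg.Agent.Lib.Helper6.HeBTCData
import Cfsg.Agent.Lib.Helper6.TCRel3
import Cfsg.Agent.Lib.Helper6.HeBTCRel3

/-! # HeB: the kernel check of a part of the relators on the coset table -/

set_option autoImplicit false

namespace Cfsg.Agent.Lib.Helper6.HeBTC

open Cfsg.Agent.Lib.Helper6.TC

theorem chk_pow8_1_0 : tab.minOKc [2, 4] 2 98730 6582 = true := by decide +kernel

theorem chk_pow8_1_1 : tab.minOKc [2, 4] 2 105312 6582 = true := by decide +kernel

theorem chk_pow8_1_2 : tab.minOKc [2, 4] 2 111894 6582 = true := by decide +kernel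

theorem chk_pow8_1_3 : tab.minOKc [2, 4] 2 118476 6582 = true := by decide +kernel

theorem chk_pow8_1_4 : tab.minOKc [2, 4] 2 125058 6582 = true := by decide +kernel

theorem chk_pow8_1_5 : tab.minOKc [2, 4] 2 131640 6582 = true := by decide +kernel

theorem chk_pow8_1_6 : tab.minOKc [2, 4] 2 138222 6582 = true := by decide +kernel

theorem chk_pow8_1_7 : tab.minOKc [2, 4] 2 144804 6582 = true := by decide +kernel

theorem chk_pow8_1_8 : tab.minOKc [2, 4] 2 151386 6582 = true := by decide +kernel

theorem chk_pow8_1_9 : tab.minOKc [2, 4] 2 157968 6582 = true := by decide +kernel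

theorem chk_pow8_1_10 : tab.minOKc [2, 4] 2 164550 6582 = true := by decide +kernel

theorem chk_pow8_1_11 : tab.minOKc [2, 4] 2 171132 6582 = true := by decide +kernel

theorem chk_pow8_1_12 : tab.minOKc [2, 4] 2 177714 6582 = true := by decide +kernel

theorem chk_pow8_1_13 : tab.minOKc [2, 4] 2 184296 6582 = true := by decide +kernel

theorem chk_pow8_1_14 : tab.minOKc [2, 4] 2 190878 6582 = true := by decide +kernel

theorem chk_pow8_1 : tab.minOKc [2, 4] 2 98730 98730 = true := by
  refine tab.minOKc_of_chunks [2, 4] 2 98730 6582 15 (by norm_num) ?_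
  intro i hi
  interval_cases i
  · exact chk_pow8_1_0
  · exact chk_pow8_1_1
  · exact chk_pow8_1_2
  · exact chk_pow8_1_3
  · exact chk_pow8_1_4
  · exact chk_pow8_1_5
  · exact chk_pow8_1_6
  · exact chk_pow8_1_7
  · exact chk_pow8_1_8
  · exact chk_pow8_1_9
  · exact chk_pow8_1_10
  · exact chk_pow8_1_11
  · exact chk_pow8_1_12
  · exact chk_pow8_1_13
  · exact chk_pow8_1_14

theorem chk_pow8_2_0 : tab.minOKc [2, 4] 2 197460 6582 = true := by decide +kernel

theorem chk_pow8_2_1 : tab.minOKc [2, 4] 2 204042 6582 = true := by decide +kernel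

theorem chk_pow8_2_2 : tab.minOKc [2, 4] 2 210624 6582 = true := by decide +kernel

theorem chk_pow8_2_3 : tab.minOKc [2, 4] 2 217206 6582 = true := by decide +kernel

theorem chk_pow8_2_4 : tab.minOKc [2, 4] 2 223788 6582 = true := by decide +kernel

theorem chk_pow8_2_5 : tab.minOKc [2, 4] 2 230370 6582 = true := by decide +kernel

theorem chk_pow8_2_6 : tab.minOKc [2, 4] 2 236952 6582 = true := by decide +kernel

theorem chk_pow8_2_7 : tab.minOKc [2, 4] 2 243534 6582 = true := by decide +kernel

theorem chk_pow8_2_8 : tab.minOKc [2, 4] 2 250116 6582 = true := by decide +kernel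

theorem chk_pow8_2_9 : tab.minOKc [2, 4] 2 256698 6582 = true := by decide +kernel

theorem chk_pow8_2_10 : tab.minOKc [2, 4] 2 263280 6582 = true := by decide +kernel

theorem chk_pow8_2_11 : tab.minOKc [2, 4] 2 269862 6582 = true := by decide +kernel

theorem chk_pow8_2_12 : tab.minOKc [2, 4] 2 276444 6582 = true := by decide +kernel

theorem chk_pow8_2_13 : tab.minOKc [2, 4] 2 283026 6582 = true := by decide +kernel

theorem chk_pow8_2_14 : tab.minOKc [2, 4] 2 289608 6582 = true := by decide +kernel

theorem chk_pow8_2 : tab.minOKc [2, 4] 2 197460 98730 = true := by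
  refine tab.minOKc_of_chunks [2, 4] 2 197460 6582 15 (by norm_num) ?_
  intro i hi
  interval_cases i
  · exact chk_pow8_2_0
  · exact chk_pow8_2_1
  · exact chk_pow8_2_2
  · exact chk_pow8_2_3
  · exact chk_pow8_2_4
  · exact chk_pow8_2_5
  · exact chk_pow8_2_6
  · exact chk_pow8_2_7
  · exact chk_pow8_2_8
  · exact chk_pow8_2_9
  · exact chk_pow8_2_10
  · exact chk_pow8_2_11
  · exact chk_pow8_2_12
  · exact chk_pow8_2_13
  · exact chk_pow8_2_14

end Cfsg.Agent.Lib.Helper6.HeBTC
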