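import Cfsg.Agent.Lib.Helper6.HeBTCData
import Cfsg.Agent.Lib.Helper6.TCRel3
import Cfsg.Agent.Lib.Helper6.HeBSFin7

/-! # HeB: the kernel check of a part of the relators on the coset table -/

set_option autoImplicit false

namespace Cfsg.Agent.Lib.Helper6.HeBTC

open Cfsg.Agent.Lib.Helper6.TC

theorem chk_pow2_1_0 : tab.minOKc [1, 2] 3 79515 5301 = true := by decide +kernel

theorem chk_pow2_1_1 : tab.minOKc [1, 2] 3 84816 5301 = true := by decide +kernel

theorem chk_pow2_1_2 : tab.minOKc [1, 2] 3 90117 5301 = true := by decide +kernel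

theorem chk_pow2_1_3 : tab.minOKc [1, 2] 3 95418 5301 = true := by decide +kernel

theorem chk_pow2_1_4 : tab.minOKc [1, 2] 3 100719 5301 = true := by decide +kernel

theorem chk_pow2_1_5 : tab.minOKc [1, 2] 3 106020 5301 = true := by decide +kernel

theorem chk_pow2_1_6 : tab.minOKc [1, 2] 3 111321 5301 = true := by decide +kernel

theorem chk_pow2_1_7 : tab.minOKc [1, 2] 3 116622 5301 = true := by decide +kernel

theorem chk_pow2_1_8 : tab.minOKc [1, 2] 3 121923 5301 = true := by decide +kernel

theorem chk_pow2_1_9 : tab.minOKc [1, 2] 3 127224 5301 = true := by decide +kernel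

theorem chk_pow2_1_10 : tab.minOKc [1, 2] 3 132525 5301 = true := by decide +kernel

theorem chk_pow2_1_11 : tab.minOKc [1, 2] 3 137826 5301 = true := by decide +kernel

theorem chk_pow2_1_12 : tab.minOKc [1, 2] 3 143127 5301 = true := by decide +kernel

theorem chk_pow2_1_13 : tab.minOKc [1, 2] 3 148428 5301 = true := by decide +kernel

theorem chk_pow2_1_14 : tab.minOKc [1, 2] 3 153729 5301 = true := by decide +kernel

theorem chk_pow2_1 : tab.minOKc [1, 2] 3 79515 79515 = true := by
  refine tab.minOKc_of_chunks [1, 2] 3 79515 5301 15 (by norm_num) ?_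
  intro i hi
  interval_cases i
  · exact chk_pow2_1_0
  · exact chk_pow2_1_1
  · exact chk_pow2_1_2
  · exact chk_pow2_1_3
  · exact chk_pow2_1_4
  · exact chk_pow2_1_5
  · exact chk_pow2_1_6
  · exact chk_pow2_1_7
  · exact chk_pow2_1_8
  · exact chk_pow2_1_9
  · exact chk_pow2_1_10
  · exact chk_pow2_1_11
  · exact chk_pow2_1_12
  · exact chk_pow2_1_13
  · exact chk_pow2_1_14

theorem chk_pow2_2_0 : tab.minOKc [1, 2] 3 159030 5301 = true := by decide +kernel

theorem chk_pow2_2_1 : tab.minOKc [1, 2] 3 164331 5301 = true := by decide +kernel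

theorem chk_pow2_2_2 : tab.minOKc [1, 2] 3 169632 5301 = true := by decide +kernel

theorem chk_pow2_2_3 : tab.minOKc [1, 2] 3 174933 5301 = true := by decide +kernel

theorem chk_pow2_2_4 : tab.minOKc [1, 2] 3 180234 5301 = true := by decide +kernel

theorem chk_pow2_2_5 : tab.minOKc [1, 2] 3 185535 5301 = true := by decide +kernel

theorem chk_pow2_2_6 : tab.minOKc [1, 2] 3 190836 5301 = true := by decide +kernel

theorem chk_pow2_2_7 : tab.minOKc [1, 2] 3 196137 5301 = true := by decide +kernel

theorem chk_pow2_2_8 : tab.minOKc [1, 2] 3 201438 5301 = true := by decide +kernel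

theorem chk_pow2_2_9 : tab.minOKc [1, 2] 3 206739 5301 = true := by decide +kernel

theorem chk_pow2_2_10 : tab.minOKc [1, 2] 3 212040 5301 = true := by decide +kernel

theorem chk_pow2_2_11 : tab.minOKc [1, 2] 3 217341 5301 = true := by decide +kernel

theorem chk_pow2_2_12 : tab.minOKc [1, 2] 3 222642 5301 = true := by decide +kernel

theorem chk_pow2_2_13 : tab.minOKc [1, 2] 3 227943 5301 = true := by decide +kernel

theorem chk_pow2_2_14 : tab.minOKc [1, 2] 3 233244 5301 = true := by decide +kernel

theorem chk_pow2_2 : tab.minOKc [1, 2] 3 159030 79515 = true := by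
  refine tab.minOKc_of_chunks [1, 2] 3 159030 5301 15 (by norm_num) ?_
  intro i hi
  interval_cases i
  · exact chk_pow2_2_0
  · exact chk_pow2_2_1
  · exact chk_pow2_2_2
  · exact chk_pow2_2_3
  · exact chk_pow2_2_4
  · exact chk_pow2_2_5
  · exact chk_pow2_2_6
  · exact chk_pow2_2_7
  · exact chk_pow2_2_8
  · exact chk_pow2_2_9
  · exact chk_pow2_2_10
  · exact chk_pow2_2_11
  · exact chk_pow2_2_12
  · exact chk_pow2_2_13
  · exact chk_pow2_2_14

end Cfsg.Agent.Lib.Helper6.HeBTC
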