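import Cfsg.Agent.Lib.Helper6.HeBTCData
import Cfsg.Agent.Lib.Helper6.TCRel3
import Cfsg.Agent.Lib.Helper6.HeBSFin8

/-! # HeB: the kernel check of a part of the relators on the coset table -/

set_option autoImplicit false

namespace Cfsg.Agent.Lib.Helper6.HeBTC

open Cfsg.Agent.Lib.Helper6.TC

theorem chk_pow2_3_0 : tab.minOKc [1, 2] 3 238545 5301 = true := by decide +kernel

theorem chk_pow2_3_1 : tab.minOKc [1, 2] 3 243846 5301 = true := by decide +kernel

theorem chk_pow2_3_2 : tab.minOKc [1, 2] 3 249147 5301 = true := by decide +kernel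

theorem chk_pow2_3_3 : tab.minOKc [1, 2] 3 254448 5301 = true := by decide +kernel

theorem chk_pow2_3_4 : tab.minOKc [1, 2] 3 259749 5301 = true := by decide +kernel

theorem chk_pow2_3_5 : tab.minOKc [1, 2] 3 265050 5301 = true := by decide +kernel

theorem chk_pow2_3_6 : tab.minOKc [1, 2] 3 270351 5301 = true := by decide +kernel

theorem chk_pow2_3_7 : tab.minOKc [1, 2] 3 275652 5301 = true := by decide +kernel

theorem chk_pow2_3_8 : tab.minOKc [1, 2] 3 280953 5301 = true := by decide +kernel

theorem chk_pow2_3_9 : tab.minOKc [1, 2] 3 286254 5301 = true := by decide +kernel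

theorem chk_pow2_3_10 : tab.minOKc [1, 2] 3 291555 5301 = true := by decide +kernel

theorem chk_pow2_3_11 : tab.minOKc [1, 2] 3 296856 5301 = true := by decide +kernel

theorem chk_pow2_3_12 : tab.minOKc [1, 2] 3 302157 5301 = true := by decide +kernel

theorem chk_pow2_3_13 : tab.minOKc [1, 2] 3 307458 5301 = true := by decide +kernel

theorem chk_pow2_3_14 : tab.minOKc [1, 2] 3 312759 5301 = true := by decide +kernel

theorem chk_pow2_3 : tab.minOKc [1, 2] 3 238545 79515 = true := by
  refine tab.minOKc_of_chunks [1, 2] 3 238545 5301 15 (by norm_num) ?_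
  intro i hi
  interval_cases i
  · exact chk_pow2_3_0
  · exact chk_pow2_3_1
  · exact chk_pow2_3_2
  · exact chk_pow2_3_3
  · exact chk_pow2_3_4
  · exact chk_pow2_3_5
  · exact chk_pow2_3_6
  · exact chk_pow2_3_7
  · exact chk_pow2_3_8
  · exact chk_pow2_3_9
  · exact chk_pow2_3_10
  · exact chk_pow2_3_11
  · exact chk_pow2_3_12
  · exact chk_pow2_3_13
  · exact chk_pow2_3_14

theorem chk_pow3_0_0 : tab.minOKc [0, 3] 2 0 6663 = true := by decide +kernel

theorem chk_pow3_0_1 : tab.minOKc [0, 3] 2 6663 6663 = true := by decide +kernel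

theorem chk_pow3_0_2 : tab.minOKc [0, 3] 2 13326 6663 = true := by decide +kernel

theorem chk_pow3_0_3 : tab.minOKc [0, 3] 2 19989 6663 = true := by decide +kernel

theorem chk_pow3_0_4 : tab.minOKc [0, 3] 2 26652 6663 = true := by decide +kernel

theorem chk_pow3_0_5 : tab.minOKc [0, 3] 2 33315 6663 = true := by decide +kernel

theorem chk_pow3_0_6 : tab.minOKc [0, 3] 2 39978 6663 = true := by decide +kernel

theorem chk_pow3_0_7 : tab.minOKc [0, 3] 2 46641 6663 = true := by decide +kernel

theorem chk_pow3_0_8 : tab.minOKc [0, 3] 2 53304 6663 = true := by decide +kernel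

theorem chk_pow3_0_9 : tab.minOKc [0, 3] 2 59967 6663 = true := by decide +kernel

theorem chk_pow3_0_10 : tab.minOKc [0, 3] 2 66630 6663 = true := by decide +kernel

theorem chk_pow3_0_11 : tab.minOKc [0, 3] 2 73293 6663 = true := by decide +kernel

theorem chk_pow3_0_12 : tab.minOKc [0, 3] 2 79956 6663 = true := by decide +kernel

theorem chk_pow3_0_13 : tab.minOKc [0, 3] 2 86619 6663 = true := by decide +kernel

theorem chk_pow3_0_14 : tab.minOKc [0, 3] 2 93282 6663 = true := by decide +kernel

theorem chk_pow3_0 : tab.minOKc [0, 3] 2 0 99945 = true := by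
  refine tab.minOKc_of_chunks [0, 3] 2 0 6663 15 (by norm_num) ?_
  intro i hi
  interval_cases i
  · exact chk_pow3_0_0
  · exact chk_pow3_0_1
  · exact chk_pow3_0_2
  · exact chk_pow3_0_3
  · exact chk_pow3_0_4
  · exact chk_pow3_0_5
  · exact chk_pow3_0_6
  · exact chk_pow3_0_7
  · exact chk_pow3_0_8
  · exact chk_pow3_0_9
  · exact chk_pow3_0_10
  · exact chk_pow3_0_11
  · exact chk_pow3_0_12
  · exact chk_pow3_0_13
  · exact chk_pow3_0_14

end Cfsg.Agent.Lib.Helper6.HeBTC
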