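import Cfsg.Agent.Lib.Helper6.HeBTCData
import Cfsg.Agent.Lib.Helper6.TCRel3
import Cfsg.Agent.Lib.Helper6.HeBTCRel5

/-! # HeB: the kernel check of a part of the relators on the coset table -/

set_option autoImplicit false

namespace Cfsg.Agent.Lib.Helper6.HeBTC

open Cfsg.Agent.Lib.Helper6.TC

theorem chk_pow9_2_0 : tab.minOKc [3, 4] 3 163710 5457 = true := by decide +kernel

theorem chk_pow9_2_1 : tab.minOKc [3, 4] 3 169167 5457 = true := by decide +kernel

theorem chk_pow9_2_2 : tab.minOKc [3, 4] 3 174624 5457 = true := by decide +kernel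

theorem chk_pow9_2_3 : tab.minOKc [3, 4] 3 180081 5457 = true := by decide +kernel

theorem chk_pow9_2_4 : tab.minOKc [3, 4] 3 185538 5457 = true := by decide +kernel

theorem chk_pow9_2_5 : tab.minOKc [3, 4] 3 190995 5457 = true := by decide +kernel

theorem chk_pow9_2_6 : tab.minOKc [3, 4] 3 196452 5457 = true := by decide +kernel

theorem chk_pow9_2_7 : tab.minOKc [3, 4] 3 201909 5457 = true := by decide +kernel

theorem chk_pow9_2_8 : tab.minOKc [3, 4] 3 207366 5457 = true := by decide +kernel

theorem chk_pow9_2_9 : tab.minOKc [3, 4] 3 212823 5457 = true := by decide +kernel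

theorem chk_pow9_2_10 : tab.minOKc [3, 4] 3 218280 5457 = true := by decide +kernel

theorem chk_pow9_2_11 : tab.minOKc [3, 4] 3 223737 5457 = true := by decide +kernel

theorem chk_pow9_2_12 : tab.minOKc [3, 4] 3 229194 5457 = true := by decide +kernel

theorem chk_pow9_2_13 : tab.minOKc [3, 4] 3 234651 5457 = true := by decide +kernel

theorem chk_pow9_2_14 : tab.minOKc [3, 4] 3 240108 5457 = true := by decide +kernel

theorem chk_pow9_2 : tab.minOKc [3, 4] 3 163710 81855 = true := by
  refine tab.minOKc_of_chunks [3, 4] 3 163710 5457 15 (by norm_num) ?_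
  intro i hi
  interval_cases i
  · exact chk_pow9_2_0
  · exact chk_pow9_2_1
  · exact chk_pow9_2_2
  · exact chk_pow9_2_3
  · exact chk_pow9_2_4
  · exact chk_pow9_2_5
  · exact chk_pow9_2_6
  · exact chk_pow9_2_7
  · exact chk_pow9_2_8
  · exact chk_pow9_2_9
  · exact chk_pow9_2_10
  · exact chk_pow9_2_11
  · exact chk_pow9_2_12
  · exact chk_pow9_2_13
  · exact chk_pow9_2_14

theorem chk_pow9_3_0 : tab.minOKc [3, 4] 3 245565 5457 = true := by decide +kernel

theorem chk_pow9_3_1 : tab.minOKc [3, 4] 3 251022 5457 = true := by decide +kernel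

theorem chk_pow9_3_2 : tab.minOKc [3, 4] 3 256479 5457 = true := by decide +kernel

theorem chk_pow9_3_3 : tab.minOKc [3, 4] 3 261936 5457 = true := by decide +kernel

theorem chk_pow9_3_4 : tab.minOKc [3, 4] 3 267393 5457 = true := by decide +kernel

theorem chk_pow9_3_5 : tab.minOKc [3, 4] 3 272850 5457 = true := by decide +kernel

theorem chk_pow9_3_6 : tab.minOKc [3, 4] 3 278307 5457 = true := by decide +kernel

theorem chk_pow9_3_7 : tab.minOKc [3, 4] 3 283764 5457 = true := by decide +kernel

theorem chk_pow9_3_8 : tab.minOKc [3, 4] 3 289221 5457 = true := by decide +kernel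

theorem chk_pow9_3_9 : tab.minOKc [3, 4] 3 294678 5457 = true := by decide +kernel

theorem chk_pow9_3_10 : tab.minOKc [3, 4] 3 300135 5457 = true := by decide +kernel

theorem chk_pow9_3_11 : tab.minOKc [3, 4] 3 305592 5457 = true := by decide +kernel

theorem chk_pow9_3_12 : tab.minOKc [3, 4] 3 311049 5457 = true := by decide +kernel

theorem chk_pow9_3_13 : tab.minOKc [3, 4] 3 316506 5457 = true := by decide +kernel

theorem chk_pow9_3_14 : tab.minOKc [3, 4] 3 321963 5457 = true := by decide +kernel

theorem chk_pow9_3 : tab.minOKc [3, 4] 3 245565 81855 = true := by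
  refine tab.minOKc_of_chunks [3, 4] 3 245565 5457 15 (by norm_num) ?_
  intro i hi
  interval_cases i
  · exact chk_pow9_3_0
  · exact chk_pow9_3_1
  · exact chk_pow9_3_2
  · exact chk_pow9_3_3
  · exact chk_pow9_3_4
  · exact chk_pow9_3_5
  · exact chk_pow9_3_6
  · exact chk_pow9_3_7
  · exact chk_pow9_3_8
  · exact chk_pow9_3_9
  · exact chk_pow9_3_10
  · exact chk_pow9_3_11
  · exact chk_pow9_3_12
  · exact chk_pow9_3_13
  · exact chk_pow9_3_14

end Cfsg.Agent.Lib.Helper6.HeBTC
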