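import Cfsg.Agent.Lib.Helper6.HeBTCData
import Cfsg.Agent.Lib.Helper6.TCRel3
import Cfsg.Agent.Lib.Helper6.HeBSFin9

/-! # HeB: the kernel check of a part of the relators on the coset table -/

set_option autoImplicit false

namespace Cfsg.Agent.Lib.Helper6.HeBTC

open Cfsg.Agent.Lib.Helper6.TC

theorem chk_pow3_1_0 : tab.minOKc [0, 3] 2 99945 6663 = true := by decide +kernel

theorem chk_pow3_1_1 : tab.minOKc [0, 3] 2 106608 6663 = true := by decide +kernel

theorem chk_pow3_1_2 : tab.minOKc [0, 3] 2 113271 6663 = true := by decide +kernel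

theorem chk_pow3_1_3 : tab.minOKc [0, 3] 2 119934 6663 = true := by decide +kernel

theorem chk_pow3_1_4 : tab.minOKc [0, 3] 2 126597 6663 = true := by decide +kernel

theorem chk_pow3_1_5 : tab.minOKc [0, 3] 2 133260 6663 = true := by decide +kernel

theorem chk_pow3_1_6 : tab.minOKc [0, 3] 2 139923 6663 = true := by decide +kernel

theorem chk_pow3_1_7 : tab.minOKc [0, 3] 2 146586 6663 = true := by decide +kernel

theorem chk_pow3_1_8 : tab.minOKc [0, 3] 2 153249 6663 = true := by decide +kernel

theorem chk_pow3_1_9 : tab.minOKc [0, 3] 2 159912 6663 = true := by decide +kernel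

theorem chk_pow3_1_10 : tab.minOKc [0, 3] 2 166575 6663 = true := by decide +kernel

theorem chk_pow3_1_11 : tab.minOKc [0, 3] 2 173238 6663 = true := by decide +kernel

theorem chk_pow3_1_12 : tab.minOKc [0, 3] 2 179901 6663 = true := by decide +kernel

theorem chk_pow3_1_13 : tab.minOKc [0, 3] 2 186564 6663 = true := by decide +kernel

theorem chk_pow3_1_14 : tab.minOKc [0, 3] 2 193227 6663 = true := by decide +kernel

theorem chk_pow3_1 : tab.minOKc [0, 3] 2 99945 99945 = true := by
  refine tab.minOKc_of_chunks [0, 3] 2 99945 6663 15 (by norm_num) ?_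
  intro i hi
  interval_cases i
  · exact chk_pow3_1_0
  · exact chk_pow3_1_1
  · exact chk_pow3_1_2
  · exact chk_pow3_1_3
  · exact chk_pow3_1_4
  · exact chk_pow3_1_5
  · exact chk_pow3_1_6
  · exact chk_pow3_1_7
  · exact chk_pow3_1_8
  · exact chk_pow3_1_9
  · exact chk_pow3_1_10
  · exact chk_pow3_1_11
  · exact chk_pow3_1_12
  · exact chk_pow3_1_13
  · exact chk_pow3_1_14

theorem chk_pow3_2_0 : tab.minOKc [0, 3] 2 199890 6663 = true := by decide +kernel

theorem chk_pow3_2_1 : tab.minOKc [0, 3] 2 206553 6663 = true := by decide +kernel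

theorem chk_pow3_2_2 : tab.minOKc [0, 3] 2 213216 6663 = true := by decide +kernel

theorem chk_pow3_2_3 : tab.minOKc [0, 3] 2 219879 6663 = true := by decide +kernel

theorem chk_pow3_2_4 : tab.minOKc [0, 3] 2 226542 6663 = true := by decide +kernel

theorem chk_pow3_2_5 : tab.minOKc [0, 3] 2 233205 6663 = true := by decide +kernel

theorem chk_pow3_2_6 : tab.minOKc [0, 3] 2 239868 6663 = true := by decide +kernel

theorem chk_pow3_2_7 : tab.minOKc [0, 3] 2 246531 6663 = true := by decide +kernel

theorem chk_pow3_2_8 : tab.minOKc [0, 3] 2 253194 6663 = true := by decide +kernel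

theorem chk_pow3_2_9 : tab.minOKc [0, 3] 2 259857 6663 = true := by decide +kernel

theorem chk_pow3_2_10 : tab.minOKc [0, 3] 2 266520 6663 = true := by decide +kernel

theorem chk_pow3_2_11 : tab.minOKc [0, 3] 2 273183 6663 = true := by decide +kernel

theorem chk_pow3_2_12 : tab.minOKc [0, 3] 2 279846 6663 = true := by decide +kernel

theorem chk_pow3_2_13 : tab.minOKc [0, 3] 2 286509 6663 = true := by decide +kernel

theorem chk_pow3_2_14 : tab.minOKc [0, 3] 2 293172 6663 = true := by decide +kernel

theorem chk_pow3_2 : tab.minOKc [0, 3] 2 199890 99945 = true := by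
  refine tab.minOKc_of_chunks [0, 3] 2 199890 6663 15 (by norm_num) ?_
  intro i hi
  interval_cases i
  · exact chk_pow3_2_0
  · exact chk_pow3_2_1
  · exact chk_pow3_2_2
  · exact chk_pow3_2_3
  · exact chk_pow3_2_4
  · exact chk_pow3_2_5
  · exact chk_pow3_2_6
  · exact chk_pow3_2_7
  · exact chk_pow3_2_8
  · exact chk_pow3_2_9
  · exact chk_pow3_2_10
  · exact chk_pow3_2_11
  · exact chk_pow3_2_12
  · exact chk_pow3_2_13
  · exact chk_pow3_2_14

end Cfsg.Agent.Lib.Helper6.HeBTC
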