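import Cfsg.Agent.Lib.Helper6.HeBTCData
import Cfsg.Agent.Lib.Helper6.TCRel3
import Cfsg.Agent.Lib.Helper6.HeBTCRel6

/-! # HeB: the kernel check of a part of the relators on the coset table -/

set_option autoImplicit false

namespace Cfsg.Agent.Lib.Helper6.HeBTC

open Cfsg.Agent.Lib.Helper6.TC

theorem chk_pow10_0_0 : tab.minOKc [0, 5] 2 0 6684 = true := by decide +kernel

theorem chk_pow10_0_1 : tab.minOKc [0, 5] 2 6684 6684 = true := by decide +kernel

theorem chk_pow10_0_2 : tab.minOKc [0, 5] 2 13368 6684 = true := by decide +kernel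

theorem chk_pow10_0_3 : tab.minOKc [0, 5] 2 20052 6684 = true := by decide +kernel

theorem chk_pow10_0_4 : tab.minOKc [0, 5] 2 26736 6684 = true := by decide +kernel

theorem chk_pow10_0_5 : tab.minOKc [0, 5] 2 33420 6684 = true := by decide +kernel

theorem chk_pow10_0_6 : tab.minOKc [0, 5] 2 40104 6684 = true := by decide +kernel

theorem chk_pow10_0_7 : tab.minOKc [0, 5] 2 46788 6684 = true := by decide +kernel

theorem chk_pow10_0_8 : tab.minOKc [0, 5] 2 53472 6684 = true := by decide +kernel

theorem chk_pow10_0_9 : tab.minOKc [0, 5] 2 60156 6684 = true := by decide +kernel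

theorem chk_pow10_0_10 : tab.minOKc [0, 5] 2 66840 6684 = true := by decide +kernel

theorem chk_pow10_0_11 : tab.minOKc [0, 5] 2 73524 6684 = true := by decide +kernel

theorem chk_pow10_0_12 : tab.minOKc [0, 5] 2 80208 6684 = true := by decide +kernel

theorem chk_pow10_0_13 : tab.minOKc [0, 5] 2 86892 6684 = true := by decide +kernel

theorem chk_pow10_0_14 : tab.minOKc [0, 5] 2 93576 6684 = true := by decide +kernel

theorem chk_pow10_0 : tab.minOKc [0, 5] 2 0 100260 = true := by
  refine tab.minOKc_of_chunks [0, 5] 2 0 6684 15 (by norm_num) ?_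
  intro i hi
  interval_cases i
  · exact chk_pow10_0_0
  · exact chk_pow10_0_1
  · exact chk_pow10_0_2
  · exact chk_pow10_0_3
  · exact chk_pow10_0_4
  · exact chk_pow10_0_5
  · exact chk_pow10_0_6
  · exact chk_pow10_0_7
  · exact chk_pow10_0_8
  · exact chk_pow10_0_9
  · exact chk_pow10_0_10
  · exact chk_pow10_0_11
  · exact chk_pow10_0_12
  · exact chk_pow10_0_13
  · exact chk_pow10_0_14

theorem chk_pow10_1_0 : tab.minOKc [0, 5] 2 100260 6684 = true := by decide +kernel

theorem chk_pow10_1_1 : tab.minOKc [0, 5] 2 106944 6684 = true := by decide +kernel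

theorem chk_pow10_1_2 : tab.minOKc [0, 5] 2 113628 6684 = true := by decide +kernel

theorem chk_pow10_1_3 : tab.minOKc [0, 5] 2 120312 6684 = true := by decide +kernel

theorem chk_pow10_1_4 : tab.minOKc [0, 5] 2 126996 6684 = true := by decide +kernel

theorem chk_pow10_1_5 : tab.minOKc [0, 5] 2 133680 6684 = true := by decide +kernel

theorem chk_pow10_1_6 : tab.minOKc [0, 5] 2 140364 6684 = true := by decide +kernel

theorem chk_pow10_1_7 : tab.minOKc [0, 5] 2 147048 6684 = true := by decide +kernel

theorem chk_pow10_1_8 : tab.minOKc [0, 5] 2 153732 6684 = true := by decide +kernel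

theorem chk_pow10_1_9 : tab.minOKc [0, 5] 2 160416 6684 = true := by decide +kernel

theorem chk_pow10_1_10 : tab.minOKc [0, 5] 2 167100 6684 = true := by decide +kernel

theorem chk_pow10_1_11 : tab.minOKc [0, 5] 2 173784 6684 = true := by decide +kernel

theorem chk_pow10_1_12 : tab.minOKc [0, 5] 2 180468 6684 = true := by decide +kernel

theorem chk_pow10_1_13 : tab.minOKc [0, 5] 2 187152 6684 = true := by decide +kernel

theorem chk_pow10_1_14 : tab.minOKc [0, 5] 2 193836 6684 = true := by decide +kernel

theorem chk_pow10_1 : tab.minOKc [0, 5] 2 100260 100260 = true := by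
  refine tab.minOKc_of_chunks [0, 5] 2 100260 6684 15 (by norm_num) ?_
  intro i hi
  interval_cases i
  · exact chk_pow10_1_0
  · exact chk_pow10_1_1
  · exact chk_pow10_1_2
  · exact chk_pow10_1_3
  · exact chk_pow10_1_4
  · exact chk_pow10_1_5
  · exact chk_pow10_1_6
  · exact chk_pow10_1_7
  · exact chk_pow10_1_8
  · exact chk_pow10_1_9
  · exact chk_pow10_1_10
  · exact chk_pow10_1_11
  · exact chk_pow10_1_12
  · exact chk_pow10_1_13
  · exact chk_pow10_1_14

end Cfsg.Agent.Lib.Helper6.HeBTC
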