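import Cfsg.Agent.Lib.Helper6.HeBTCData
import Cfsg.Agent.Lib.Helper6.TCRel3
import Cfsg.Agent.Lib.Helper6.HeBSFin10

/-! # HeB: the kernel check of a part of the relators on the coset table -/

set_option autoImplicit false

namespace Cfsg.Agent.Lib.Helper6.HeBTC

open Cfsg.Agent.Lib.Helper6.TC

theorem chk_pow4_0_0 : tab.minOKc [1, 3] 2 0 6682 = true := by decide +kernel

theorem chk_pow4_0_1 : tab.minOKc [1, 3] 2 6682 6682 = true := by decide +kernel

theorem chk_pow4_0_2 : tab.minOKc [1, 3] 2 13364 6682 = true := by decide +kernel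

theorem chk_pow4_0_3 : tab.minOKc [1, 3] 2 20046 6682 = true := by decide +kernel

theorem chk_pow4_0_4 : tab.minOKc [1, 3] 2 26728 6682 = true := by decide +kernel

theorem chk_pow4_0_5 : tab.minOKc [1, 3] 2 33410 6682 = true := by decide +kernel

theorem chk_pow4_0_6 : tab.minOKc [1, 3] 2 40092 6682 = true := by decide +kernel

theorem chk_pow4_0_7 : tab.minOKc [1, 3] 2 46774 6682 = true := by decide +kernel

theorem chk_pow4_0_8 : tab.minOKc [1, 3] 2 53456 6682 = true := by decide +kernel

theorem chk_pow4_0_9 : tab.minOKc [1, 3] 2 60138 6682 = true := by decide +kernel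

theorem chk_pow4_0_10 : tab.minOKc [1, 3] 2 66820 6682 = true := by decide +kernel

theorem chk_pow4_0_11 : tab.minOKc [1, 3] 2 73502 6682 = true := by decide +kernel

theorem chk_pow4_0_12 : tab.minOKc [1, 3] 2 80184 6682 = true := by decide +kernel

theorem chk_pow4_0_13 : tab.minOKc [1, 3] 2 86866 6682 = true := by decide +kernel

theorem chk_pow4_0_14 : tab.minOKc [1, 3] 2 93548 6682 = true := by decide +kernel

theorem chk_pow4_0 : tab.minOKc [1, 3] 2 0 100230 = true := by
  refine tab.minOKc_of_chunks [1, 3] 2 0 6682 15 (by norm_num) ?_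
  intro i hi
  interval_cases i
  · exact chk_pow4_0_0
  · exact chk_pow4_0_1
  · exact chk_pow4_0_2
  · exact chk_pow4_0_3
  · exact chk_pow4_0_4
  · exact chk_pow4_0_5
  · exact chk_pow4_0_6
  · exact chk_pow4_0_7
  · exact chk_pow4_0_8
  · exact chk_pow4_0_9
  · exact chk_pow4_0_10
  · exact chk_pow4_0_11
  · exact chk_pow4_0_12
  · exact chk_pow4_0_13
  · exact chk_pow4_0_14

theorem chk_pow4_1_0 : tab.minOKc [1, 3] 2 100230 6682 = true := by decide +kernel

theorem chk_pow4_1_1 : tab.minOKc [1, 3] 2 106912 6682 = true := by decide +kernel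

theorem chk_pow4_1_2 : tab.minOKc [1, 3] 2 113594 6682 = true := by decide +kernel

theorem chk_pow4_1_3 : tab.minOKc [1, 3] 2 120276 6682 = true := by decide +kernel

theorem chk_pow4_1_4 : tab.minOKc [1, 3] 2 126958 6682 = true := by decide +kernel

theorem chk_pow4_1_5 : tab.minOKc [1, 3] 2 133640 6682 = true := by decide +kernel

theorem chk_pow4_1_6 : tab.minOKc [1, 3] 2 140322 6682 = true := by decide +kernel

theorem chk_pow4_1_7 : tab.minOKc [1, 3] 2 147004 6682 = true := by decide +kernel

theorem chk_pow4_1_8 : tab.minOKc [1, 3] 2 153686 6682 = true := by decide +kernel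

theorem chk_pow4_1_9 : tab.minOKc [1, 3] 2 160368 6682 = true := by decide +kernel

theorem chk_pow4_1_10 : tab.minOKc [1, 3] 2 167050 6682 = true := by decide +kernel

theorem chk_pow4_1_11 : tab.minOKc [1, 3] 2 173732 6682 = true := by decide +kernel

theorem chk_pow4_1_12 : tab.minOKc [1, 3] 2 180414 6682 = true := by decide +kernel

theorem chk_pow4_1_13 : tab.minOKc [1, 3] 2 187096 6682 = true := by decide +kernel

theorem chk_pow4_1_14 : tab.minOKc [1, 3] 2 193778 6682 = true := by decide +kernel

theorem chk_pow4_1 : tab.minOKc [1, 3] 2 100230 100230 = true := by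
  refine tab.minOKc_of_chunks [1, 3] 2 100230 6682 15 (by norm_num) ?_
  intro i hi
  interval_cases i
  · exact chk_pow4_1_0
  · exact chk_pow4_1_1
  · exact chk_pow4_1_2
  · exact chk_pow4_1_3
  · exact chk_pow4_1_4
  · exact chk_pow4_1_5
  · exact chk_pow4_1_6
  · exact chk_pow4_1_7
  · exact chk_pow4_1_8
  · exact chk_pow4_1_9
  · exact chk_pow4_1_10
  · exact chk_pow4_1_11
  · exact chk_pow4_1_12
  · exact chk_pow4_1_13
  · exact chk_pow4_1_14

end Cfsg.Agent.Lib.Helper6.HeBTC
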