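import Cfsg.Agent.Lib.Helper6.HeBTCData
import Cfsg.Agent.Lib.Helper6.TCRel3
import Cfsg.Agent.Lib.Helper6.HeBTCRel7

/-! # HeB: the kernel check of a part of the relators on the coset table -/

set_option autoImplicit false

namespace Cfsg.Agent.Lib.Helper6.HeBTC

open Cfsg.Agent.Lib.Helper6.TC

theorem chk_pow10_2_0 : tab.minOKc [0, 5] 2 200520 6684 = true := by decide +kernel

theorem chk_pow10_2_1 : tab.minOKc [0, 5] 2 207204 6684 = true := by decide +kernel

theorem chk_pow10_2_2 : tab.minOKc [0, 5] 2 213888 6684 = true := by decide +kernel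

theorem chk_pow10_2_3 : tab.minOKc [0, 5] 2 220572 6684 = true := by decide +kernel

theorem chk_pow10_2_4 : tab.minOKc [0, 5] 2 227256 6684 = true := by decide +kernel

theorem chk_pow10_2_5 : tab.minOKc [0, 5] 2 233940 6684 = true := by decide +kernel

theorem chk_pow10_2_6 : tab.minOKc [0, 5] 2 240624 6684 = true := by decide +kernel

theorem chk_pow10_2_7 : tab.minOKc [0, 5] 2 247308 6684 = true := by decide +kernel

theorem chk_pow10_2_8 : tab.minOKc [0, 5] 2 253992 6684 = true := by decide +kernel

theorem chk_pow10_2_9 : tab.minOKc [0, 5] 2 260676 6684 = true := by decide +kernel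

theorem chk_pow10_2_10 : tab.minOKc [0, 5] 2 267360 6684 = true := by decide +kernel

theorem chk_pow10_2_11 : tab.minOKc [0, 5] 2 274044 6684 = true := by decide +kernel

theorem chk_pow10_2_12 : tab.minOKc [0, 5] 2 280728 6684 = true := by decide +kernel

theorem chk_pow10_2_13 : tab.minOKc [0, 5] 2 287412 6684 = true := by decide +kernel

theorem chk_pow10_2_14 : tab.minOKc [0, 5] 2 294096 6684 = true := by decide +kernel

theorem chk_pow10_2 : tab.minOKc [0, 5] 2 200520 100260 = true := by
  refine tab.minOKc_of_chunks [0, 5] 2 200520 6684 15 (by norm_num) ?_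
  intro i hi
  interval_cases i
  · exact chk_pow10_2_0
  · exact chk_pow10_2_1
  · exact chk_pow10_2_2
  · exact chk_pow10_2_3
  · exact chk_pow10_2_4
  · exact chk_pow10_2_5
  · exact chk_pow10_2_6
  · exact chk_pow10_2_7
  · exact chk_pow10_2_8
  · exact chk_pow10_2_9
  · exact chk_pow10_2_10
  · exact chk_pow10_2_11
  · exact chk_pow10_2_12
  · exact chk_pow10_2_13
  · exact chk_pow10_2_14

theorem chk_pow11_0_0 : tab.minOKc [1, 5] 2 0 6604 = true := by decide +kernel

theorem chk_pow11_0_1 : tab.minOKc [1, 5] 2 6604 6604 = true := by decide +kernel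

theorem chk_pow11_0_2 : tab.minOKc [1, 5] 2 13208 6604 = true := by decide +kernel

theorem chk_pow11_0_3 : tab.minOKc [1, 5] 2 19812 6604 = true := by decide +kernel

theorem chk_pow11_0_4 : tab.minOKc [1, 5] 2 26416 6604 = true := by decide +kernel

theorem chk_pow11_0_5 : tab.minOKc [1, 5] 2 33020 6604 = true := by decide +kernel

theorem chk_pow11_0_6 : tab.minOKc [1, 5] 2 39624 6604 = true := by decide +kernel

theorem chk_pow11_0_7 : tab.minOKc [1, 5] 2 46228 6604 = true := by decide +kernel

theorem chk_pow11_0_8 : tab.minOKc [1, 5] 2 52832 6604 = true := by decide +kernel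

theorem chk_pow11_0_9 : tab.minOKc [1, 5] 2 59436 6604 = true := by decide +kernel

theorem chk_pow11_0_10 : tab.minOKc [1, 5] 2 66040 6604 = true := by decide +kernel

theorem chk_pow11_0_11 : tab.minOKc [1, 5] 2 72644 6604 = true := by decide +kernel

theorem chk_pow11_0_12 : tab.minOKc [1, 5] 2 79248 6604 = true := by decide +kernel

theorem chk_pow11_0_13 : tab.minOKc [1, 5] 2 85852 6604 = true := by decide +kernel

theorem chk_pow11_0_14 : tab.minOKc [1, 5] 2 92456 6604 = true := by decide +kernel

theorem chk_pow11_0 : tab.minOKc [1, 5] 2 0 99060 = true := by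
  refine tab.minOKc_of_chunks [1, 5] 2 0 6604 15 (by norm_num) ?_
  intro i hi
  interval_cases i
  · exact chk_pow11_0_0
  · exact chk_pow11_0_1
  · exact chk_pow11_0_2
  · exact chk_pow11_0_3
  · exact chk_pow11_0_4
  · exact chk_pow11_0_5
  · exact chk_pow11_0_6
  · exact chk_pow11_0_7
  · exact chk_pow11_0_8
  · exact chk_pow11_0_9
  · exact chk_pow11_0_10
  · exact chk_pow11_0_11
  · exact chk_pow11_0_12
  · exact chk_pow11_0_13
  · exact chk_pow11_0_14

end Cfsg.Agent.Lib.Helper6.HeBTC
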