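import Cfsg.Agent.Lib.Helper6.HeBTCData
import Cfsg.Agent.Lib.Helper6.TCRel3
import Cfsg.Agent.Lib.Helper6.HeBSFin11

/-! # HeB: the kernel check of a part of the relators on the coset table -/

set_option autoImplicit false

namespace Cfsg.Agent.Lib.Helper6.HeBTC

open Cfsg.Agent.Lib.Helper6.TC

theorem chk_pow4_2_0 : tab.minOKc [1, 3] 2 200460 6682 = true := by decide +kernel

theorem chk_pow4_2_1 : tab.minOKc [1, 3] 2 207142 6682 = true := by decide +kernel

theorem chk_pow4_2_2 : tab.minOKc [1, 3] 2 213824 6682 = true := by decide +kernel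

theorem chk_pow4_2_3 : tab.minOKc [1, 3] 2 220506 6682 = true := by decide +kernel

theorem chk_pow4_2_4 : tab.minOKc [1, 3] 2 227188 6682 = true := by decide +kernel

theorem chk_pow4_2_5 : tab.minOKc [1, 3] 2 233870 6682 = true := by decide +kernel

theorem chk_pow4_2_6 : tab.minOKc [1, 3] 2 240552 6682 = true := by decide +kernel

theorem chk_pow4_2_7 : tab.minOKc [1, 3] 2 247234 6682 = true := by decide +kernel

theorem chk_pow4_2_8 : tab.minOKc [1, 3] 2 253916 6682 = true := by decide +kernel

theorem chk_pow4_2_9 : tab.minOKc [1, 3] 2 260598 6682 = true := by decide +kernel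

theorem chk_pow4_2_10 : tab.minOKc [1, 3] 2 267280 6682 = true := by decide +kernel

theorem chk_pow4_2_11 : tab.minOKc [1, 3] 2 273962 6682 = true := by decide +kernel

theorem chk_pow4_2_12 : tab.minOKc [1, 3] 2 280644 6682 = true := by decide +kernel

theorem chk_pow4_2_13 : tab.minOKc [1, 3] 2 287326 6682 = true := by decide +kernel

theorem chk_pow4_2_14 : tab.minOKc [1, 3] 2 294008 6682 = true := by decide +kernel

theorem chk_pow4_2 : tab.minOKc [1, 3] 2 200460 100230 = true := by
  refine tab.minOKc_of_chunks [1, 3] 2 200460 6682 15 (by norm_num) ?_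
  intro i hi
  interval_cases i
  · exact chk_pow4_2_0
  · exact chk_pow4_2_1
  · exact chk_pow4_2_2
  · exact chk_pow4_2_3
  · exact chk_pow4_2_4
  · exact chk_pow4_2_5
  · exact chk_pow4_2_6
  · exact chk_pow4_2_7
  · exact chk_pow4_2_8
  · exact chk_pow4_2_9
  · exact chk_pow4_2_10
  · exact chk_pow4_2_11
  · exact chk_pow4_2_12
  · exact chk_pow4_2_13
  · exact chk_pow4_2_14

theorem chk_pow5_0_0 : tab.minOKc [2, 3] 10 0 3328 = true := by decide +kernel

theorem chk_pow5_0_1 : tab.minOKc [2, 3] 10 3328 3328 = true := by decide +kernel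

theorem chk_pow5_0_2 : tab.minOKc [2, 3] 10 6656 3328 = true := by decide +kernel

theorem chk_pow5_0_3 : tab.minOKc [2, 3] 10 9984 3328 = true := by decide +kernel

theorem chk_pow5_0_4 : tab.minOKc [2, 3] 10 13312 3328 = true := by decide +kernel

theorem chk_pow5_0_5 : tab.minOKc [2, 3] 10 16640 3328 = true := by decide +kernel

theorem chk_pow5_0_6 : tab.minOKc [2, 3] 10 19968 3328 = true := by decide +kernel

theorem chk_pow5_0_7 : tab.minOKc [2, 3] 10 23296 3328 = true := by decide +kernel

theorem chk_pow5_0_8 : tab.minOKc [2, 3] 10 26624 3328 = true := by decide +kernel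

theorem chk_pow5_0_9 : tab.minOKc [2, 3] 10 29952 3328 = true := by decide +kernel

theorem chk_pow5_0_10 : tab.minOKc [2, 3] 10 33280 3328 = true := by decide +kernel

theorem chk_pow5_0_11 : tab.minOKc [2, 3] 10 36608 3328 = true := by decide +kernel

theorem chk_pow5_0_12 : tab.minOKc [2, 3] 10 39936 3328 = true := by decide +kernel

theorem chk_pow5_0_13 : tab.minOKc [2, 3] 10 43264 3328 = true := by decide +kernel

theorem chk_pow5_0_14 : tab.minOKc [2, 3] 10 46592 3328 = true := by decide +kernel

theorem chk_pow5_0 : tab.minOKc [2, 3] 10 0 49920 = true := by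
  refine tab.minOKc_of_chunks [2, 3] 10 0 3328 15 (by norm_num) ?_
  intro i hi
  interval_cases i
  · exact chk_pow5_0_0
  · exact chk_pow5_0_1
  · exact chk_pow5_0_2
  · exact chk_pow5_0_3
  · exact chk_pow5_0_4
  · exact chk_pow5_0_5
  · exact chk_pow5_0_6
  · exact chk_pow5_0_7
  · exact chk_pow5_0_8
  · exact chk_pow5_0_9
  · exact chk_pow5_0_10
  · exact chk_pow5_0_11
  · exact chk_pow5_0_12
  · exact chk_pow5_0_13
  · exact chk_pow5_0_14

end Cfsg.Agent.Lib.Helper6.HeBTC
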