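import Cfsg.Agent.Lib.Helper6.HeBTCData
import Cfsg.Agent.Lib.Helper6.TCRel3
import Cfsg.Agent.Lib.Helper6.HeBTCRel8

/-! # HeB: the kernel check of a part of the relators on the coset table -/

set_option autoImplicit false

namespace Cfsg.Agent.Lib.Helper6.HeBTC

open Cfsg.Agent.Lib.Helper6.TC

theorem chk_pow11_1_0 : tab.minOKc [1, 5] 2 99060 6604 = true := by decide +kernel

theorem chk_pow11_1_1 : tab.minOKc [1, 5] 2 105664 6604 = true := by decide +kernel

theorem chk_pow11_1_2 : tab.minOKc [1, 5] 2 112268 6604 = true := by decide +kernel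

theorem chk_pow11_1_3 : tab.minOKc [1, 5] 2 118872 6604 = true := by decide +kernel

theorem chk_pow11_1_4 : tab.minOKc [1, 5] 2 125476 6604 = true := by decide +kernel

theorem chk_pow11_1_5 : tab.minOKc [1, 5] 2 132080 6604 = true := by decide +kernel

theorem chk_pow11_1_6 : tab.minOKc [1, 5] 2 138684 6604 = true := by decide +kernel

theorem chk_pow11_1_7 : tab.minOKc [1, 5] 2 145288 6604 = true := by decide +kernel

theorem chk_pow11_1_8 : tab.minOKc [1, 5] 2 151892 6604 = true := by decide +kernel

theorem chk_pow11_1_9 : tab.minOKc [1, 5] 2 158496 6604 = true := by decide +kernel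

theorem chk_pow11_1_10 : tab.minOKc [1, 5] 2 165100 6604 = true := by decide +kernel

theorem chk_pow11_1_11 : tab.minOKc [1, 5] 2 171704 6604 = true := by decide +kernel

theorem chk_pow11_1_12 : tab.minOKc [1, 5] 2 178308 6604 = true := by decide +kernel

theorem chk_pow11_1_13 : tab.minOKc [1, 5] 2 184912 6604 = true := by decide +kernel

theorem chk_pow11_1_14 : tab.minOKc [1, 5] 2 191516 6604 = true := by decide +kernel

theorem chk_pow11_1 : tab.minOKc [1, 5] 2 99060 99060 = true := by
  refine tab.minOKc_of_chunks [1, 5] 2 99060 6604 15 (by norm_num) ?_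
  intro i hi
  interval_cases i
  · exact chk_pow11_1_0
  · exact chk_pow11_1_1
  · exact chk_pow11_1_2
  · exact chk_pow11_1_3
  · exact chk_pow11_1_4
  · exact chk_pow11_1_5
  · exact chk_pow11_1_6
  · exact chk_pow11_1_7
  · exact chk_pow11_1_8
  · exact chk_pow11_1_9
  · exact chk_pow11_1_10
  · exact chk_pow11_1_11
  · exact chk_pow11_1_12
  · exact chk_pow11_1_13
  · exact chk_pow11_1_14

theorem chk_pow11_2_0 : tab.minOKc [1, 5] 2 198120 6604 = true := by decide +kernel

theorem chk_pow11_2_1 : tab.minOKc [1, 5] 2 204724 6604 = true := by decide +kernel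

theorem chk_pow11_2_2 : tab.minOKc [1, 5] 2 211328 6604 = true := by decide +kernel

theorem chk_pow11_2_3 : tab.minOKc [1, 5] 2 217932 6604 = true := by decide +kernel

theorem chk_pow11_2_4 : tab.minOKc [1, 5] 2 224536 6604 = true := by decide +kernel

theorem chk_pow11_2_5 : tab.minOKc [1, 5] 2 231140 6604 = true := by decide +kernel

theorem chk_pow11_2_6 : tab.minOKc [1, 5] 2 237744 6604 = true := by decide +kernel

theorem chk_pow11_2_7 : tab.minOKc [1, 5] 2 244348 6604 = true := by decide +kernel

theorem chk_pow11_2_8 : tab.minOKc [1, 5] 2 250952 6604 = true := by decide +kernel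

theorem chk_pow11_2_9 : tab.minOKc [1, 5] 2 257556 6604 = true := by decide +kernel

theorem chk_pow11_2_10 : tab.minOKc [1, 5] 2 264160 6604 = true := by decide +kernel

theorem chk_pow11_2_11 : tab.minOKc [1, 5] 2 270764 6604 = true := by decide +kernel

theorem chk_pow11_2_12 : tab.minOKc [1, 5] 2 277368 6604 = true := by decide +kernel

theorem chk_pow11_2_13 : tab.minOKc [1, 5] 2 283972 6604 = true := by decide +kernel

theorem chk_pow11_2_14 : tab.minOKc [1, 5] 2 290576 6604 = true := by decide +kernel

theorem chk_pow11_2 : tab.minOKc [1, 5] 2 198120 99060 = true := by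
  refine tab.minOKc_of_chunks [1, 5] 2 198120 6604 15 (by norm_num) ?_
  intro i hi
  interval_cases i
  · exact chk_pow11_2_0
  · exact chk_pow11_2_1
  · exact chk_pow11_2_2
  · exact chk_pow11_2_3
  · exact chk_pow11_2_4
  · exact chk_pow11_2_5
  · exact chk_pow11_2_6
  · exact chk_pow11_2_7
  · exact chk_pow11_2_8
  · exact chk_pow11_2_9
  · exact chk_pow11_2_10
  · exact chk_pow11_2_11
  · exact chk_pow11_2_12
  · exact chk_pow11_2_13
  · exact chk_pow11_2_14

end Cfsg.Agent.Lib.Helper6.HeBTC
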