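import Cfsg.Agent.Lib.Helper6.HeBTCData
import Cfsg.Agent.Lib.Helper6.TCRel3
import Cfsg.Agent.Lib.Helper6.HeBSFin12

/-! # HeB: the kernel check of a part of the relators on the coset table -/

set_option autoImplicit false

namespace Cfsg.Agent.Lib.Helper6.HeBTC

open Cfsg.Agent.Lib.Helper6.TC

theorem chk_pow5_1_0 : tab.minOKc [2, 3] 10 49920 3328 = true := by decide +kernel

theorem chk_pow5_1_1 : tab.minOKc [2, 3] 10 53248 3328 = true := by decide +kernel

theorem chk_pow5_1_2 : tab.minOKc [2, 3] 10 56576 3328 = true := by decide +kernel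

theorem chk_pow5_1_3 : tab.minOKc [2, 3] 10 59904 3328 = true := by decide +kernel

theorem chk_pow5_1_4 : tab.minOKc [2, 3] 10 63232 3328 = true := by decide +kernel

theorem chk_pow5_1_5 : tab.minOKc [2, 3] 10 66560 3328 = true := by decide +kernel

theorem chk_pow5_1_6 : tab.minOKc [2, 3] 10 69888 3328 = true := by decide +kernel

theorem chk_pow5_1_7 : tab.minOKc [2, 3] 10 73216 3328 = true := by decide +kernel

theorem chk_pow5_1_8 : tab.minOKc [2, 3] 10 76544 3328 = true := by decide +kernel

theorem chk_pow5_1_9 : tab.minOKc [2, 3] 10 79872 3328 = true := by decide +kernel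

theorem chk_pow5_1_10 : tab.minOKc [2, 3] 10 83200 3328 = true := by decide +kernel

theorem chk_pow5_1_11 : tab.minOKc [2, 3] 10 86528 3328 = true := by decide +kernel

theorem chk_pow5_1_12 : tab.minOKc [2, 3] 10 89856 3328 = true := by decide +kernel

theorem chk_pow5_1_13 : tab.minOKc [2, 3] 10 93184 3328 = true := by decide +kernel

theorem chk_pow5_1_14 : tab.minOKc [2, 3] 10 96512 3328 = true := by decide +kernel

theorem chk_pow5_1 : tab.minOKc [2, 3] 10 49920 49920 = true := by
  refine tab.minOKc_of_chunks [2, 3] 10 49920 3328 15 (by norm_num) ?_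
  intro i hi
  interval_cases i
  · exact chk_pow5_1_0
  · exact chk_pow5_1_1
  · exact chk_pow5_1_2
  · exact chk_pow5_1_3
  · exact chk_pow5_1_4
  · exact chk_pow5_1_5
  · exact chk_pow5_1_6
  · exact chk_pow5_1_7
  · exact chk_pow5_1_8
  · exact chk_pow5_1_9
  · exact chk_pow5_1_10
  · exact chk_pow5_1_11
  · exact chk_pow5_1_12
  · exact chk_pow5_1_13
  · exact chk_pow5_1_14

theorem chk_pow5_2_0 : tab.minOKc [2, 3] 10 99840 3328 = true := by decide +kernel

theorem chk_pow5_2_1 : tab.minOKc [2, 3] 10 103168 3328 = true := by decide +kernel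

theorem chk_pow5_2_2 : tab.minOKc [2, 3] 10 106496 3328 = true := by decide +kernel

theorem chk_pow5_2_3 : tab.minOKc [2, 3] 10 109824 3328 = true := by decide +kernel

theorem chk_pow5_2_4 : tab.minOKc [2, 3] 10 113152 3328 = true := by decide +kernel

theorem chk_pow5_2_5 : tab.minOKc [2, 3] 10 116480 3328 = true := by decide +kernel

theorem chk_pow5_2_6 : tab.minOKc [2, 3] 10 119808 3328 = true := by decide +kernel

theorem chk_pow5_2_7 : tab.minOKc [2, 3] 10 123136 3328 = true := by decide +kernel

theorem chk_pow5_2_8 : tab.minOKc [2, 3] 10 126464 3328 = true := by decide +kernel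

theorem chk_pow5_2_9 : tab.minOKc [2, 3] 10 129792 3328 = true := by decide +kernel

theorem chk_pow5_2_10 : tab.minOKc [2, 3] 10 133120 3328 = true := by decide +kernel

theorem chk_pow5_2_11 : tab.minOKc [2, 3] 10 136448 3328 = true := by decide +kernel

theorem chk_pow5_2_12 : tab.minOKc [2, 3] 10 139776 3328 = true := by decide +kernel

theorem chk_pow5_2_13 : tab.minOKc [2, 3] 10 143104 3328 = true := by decide +kernel

theorem chk_pow5_2_14 : tab.minOKc [2, 3] 10 146432 3328 = true := by decide +kernel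

theorem chk_pow5_2 : tab.minOKc [2, 3] 10 99840 49920 = true := by
  refine tab.minOKc_of_chunks [2, 3] 10 99840 3328 15 (by norm_num) ?_
  intro i hi
  interval_cases i
  · exact chk_pow5_2_0
  · exact chk_pow5_2_1
  · exact chk_pow5_2_2
  · exact chk_pow5_2_3
  · exact chk_pow5_2_4
  · exact chk_pow5_2_5
  · exact chk_pow5_2_6
  · exact chk_pow5_2_7
  · exact chk_pow5_2_8
  · exact chk_pow5_2_9
  · exact chk_pow5_2_10
  · exact chk_pow5_2_11
  · exact chk_pow5_2_12
  · exact chk_pow5_2_13
  · exact chk_pow5_2_14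

end Cfsg.Agent.Lib.Helper6.HeBTC
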