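import Cfsg.Agent.Lib.Helper6.HeBTCData
import Cfsg.Agent.Lib.Helper6.TCRel3
import Cfsg.Agent.Lib.Helper6.HeBTCRel9

/-! # HeB: the kernel check of a part of the relators on the coset table -/

set_option autoImplicit false

namespace Cfsg.Agent.Lib.Helper6.HeBTC

open Cfsg.Agent.Lib.Helper6.TC

theorem chk_pow12_0_0 : tab.minOKc [2, 5] 2 0 6608 = true := by decide +kernel

theorem chk_pow12_0_1 : tab.minOKc [2, 5] 2 6608 6608 = true := by decide +kernel

theorem chk_pow12_0_2 : tab.minOKc [2, 5] 2 13216 6608 = true := by decide +kernel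

theorem chk_pow12_0_3 : tab.minOKc [2, 5] 2 19824 6608 = true := by decide +kernel

theorem chk_pow12_0_4 : tab.minOKc [2, 5] 2 26432 6608 = true := by decide +kernel

theorem chk_pow12_0_5 : tab.minOKc [2, 5] 2 33040 6608 = true := by decide +kernel

theorem chk_pow12_0_6 : tab.minOKc [2, 5] 2 39648 6608 = true := by decide +kernel

theorem chk_pow12_0_7 : tab.minOKc [2, 5] 2 46256 6608 = true := by decide +kernel

theorem chk_pow12_0_8 : tab.minOKc [2, 5] 2 52864 6608 = true := by decide +kernel

theorem chk_pow12_0_9 : tab.minOKc [2, 5] 2 59472 6608 = true := by decide +kernel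

theorem chk_pow12_0_10 : tab.minOKc [2, 5] 2 66080 6608 = true := by decide +kernel

theorem chk_pow12_0_11 : tab.minOKc [2, 5] 2 72688 6608 = true := by decide +kernel

theorem chk_pow12_0_12 : tab.minOKc [2, 5] 2 79296 6608 = true := by decide +kernel

theorem chk_pow12_0_13 : tab.minOKc [2, 5] 2 85904 6608 = true := by decide +kernel

theorem chk_pow12_0_14 : tab.minOKc [2, 5] 2 92512 6608 = true := by decide +kernel

theorem chk_pow12_0 : tab.minOKc [2, 5] 2 0 99120 = true := by
  refine tab.minOKc_of_chunks [2, 5] 2 0 6608 15 (by norm_num) ?_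
  intro i hi
  interval_cases i
  · exact chk_pow12_0_0
  · exact chk_pow12_0_1
  · exact chk_pow12_0_2
  · exact chk_pow12_0_3
  · exact chk_pow12_0_4
  · exact chk_pow12_0_5
  · exact chk_pow12_0_6
  · exact chk_pow12_0_7
  · exact chk_pow12_0_8
  · exact chk_pow12_0_9
  · exact chk_pow12_0_10
  · exact chk_pow12_0_11
  · exact chk_pow12_0_12
  · exact chk_pow12_0_13
  · exact chk_pow12_0_14

theorem chk_pow12_1_0 : tab.minOKc [2, 5] 2 99120 6608 = true := by decide +kernel

theorem chk_pow12_1_1 : tab.minOKc [2, 5] 2 105728 6608 = true := by decide +kernel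

theorem chk_pow12_1_2 : tab.minOKc [2, 5] 2 112336 6608 = true := by decide +kernel

theorem chk_pow12_1_3 : tab.minOKc [2, 5] 2 118944 6608 = true := by decide +kernel

theorem chk_pow12_1_4 : tab.minOKc [2, 5] 2 125552 6608 = true := by decide +kernel

theorem chk_pow12_1_5 : tab.minOKc [2, 5] 2 132160 6608 = true := by decide +kernel

theorem chk_pow12_1_6 : tab.minOKc [2, 5] 2 138768 6608 = true := by decide +kernel

theorem chk_pow12_1_7 : tab.minOKc [2, 5] 2 145376 6608 = true := by decide +kernel

theorem chk_pow12_1_8 : tab.minOKc [2, 5] 2 151984 6608 = true := by decide +kernel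

theorem chk_pow12_1_9 : tab.minOKc [2, 5] 2 158592 6608 = true := by decide +kernel

theorem chk_pow12_1_10 : tab.minOKc [2, 5] 2 165200 6608 = true := by decide +kernel

theorem chk_pow12_1_11 : tab.minOKc [2, 5] 2 171808 6608 = true := by decide +kernel

theorem chk_pow12_1_12 : tab.minOKc [2, 5] 2 178416 6608 = true := by decide +kernel

theorem chk_pow12_1_13 : tab.minOKc [2, 5] 2 185024 6608 = true := by decide +kernel

theorem chk_pow12_1_14 : tab.minOKc [2, 5] 2 191632 6608 = true := by decide +kernel

theorem chk_pow12_1 : tab.minOKc [2, 5] 2 99120 99120 = true := by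
  refine tab.minOKc_of_chunks [2, 5] 2 99120 6608 15 (by norm_num) ?_
  intro i hi
  interval_cases i
  · exact chk_pow12_1_0
  · exact chk_pow12_1_1
  · exact chk_pow12_1_2
  · exact chk_pow12_1_3
  · exact chk_pow12_1_4
  · exact chk_pow12_1_5
  · exact chk_pow12_1_6
  · exact chk_pow12_1_7
  · exact chk_pow12_1_8
  · exact chk_pow12_1_9
  · exact chk_pow12_1_10
  · exact chk_pow12_1_11
  · exact chk_pow12_1_12
  · exact chk_pow12_1_13
  · exact chk_pow12_1_14

end Cfsg.Agent.Lib.Helper6.HeBTC
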