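import Cfsg.Agent.Lib.Helper6.HeBTCData
import Cfsg.Agent.Lib.Helper6.TCRel3
import Cfsg.Agent.Lib.Helper6.HeBTCRel11

/-! # HeB: the kernel check of a part of the relators on the coset table -/

set_option autoImplicit false

namespace Cfsg.Agent.Lib.Helper6.HeBTC

open Cfsg.Agent.Lib.Helper6.TC

theorem chk_pow13_1_0 : tab.minOKc [3, 5] 3 81150 5410 = true := by decide +kernel

theorem chk_pow13_1_1 : tab.minOKc [3, 5] 3 86560 5410 = true := by decide +kernel

theorem chk_pow13_1_2 : tab.minOKc [3, 5] 3 91970 5410 = true := by decide +kernel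

theorem chk_pow13_1_3 : tab.minOKc [3, 5] 3 97380 5410 = true := by decide +kernel

theorem chk_pow13_1_4 : tab.minOKc [3, 5] 3 102790 5410 = true := by decide +kernel

theorem chk_pow13_1_5 : tab.minOKc [3, 5] 3 108200 5410 = true := by decide +kernel

theorem chk_pow13_1_6 : tab.minOKc [3, 5] 3 113610 5410 = true := by decide +kernel

theorem chk_pow13_1_7 : tab.minOKc [3, 5] 3 119020 5410 = true := by decide +kernel

theorem chk_pow13_1_8 : tab.minOKc [3, 5] 3 124430 5410 = true := by decide +kernel

theorem chk_pow13_1_9 : tab.minOKc [3, 5] 3 129840 5410 = true := by decide +kernel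

theorem chk_pow13_1_10 : tab.minOKc [3, 5] 3 135250 5410 = true := by decide +kernel

theorem chk_pow13_1_11 : tab.minOKc [3, 5] 3 140660 5410 = true := by decide +kernel

theorem chk_pow13_1_12 : tab.minOKc [3, 5] 3 146070 5410 = true := by decide +kernel

theorem chk_pow13_1_13 : tab.minOKc [3, 5] 3 151480 5410 = true := by decide +kernel

theorem chk_pow13_1_14 : tab.minOKc [3, 5] 3 156890 5410 = true := by decide +kernel

theorem chk_pow13_1 : tab.minOKc [3, 5] 3 81150 81150 = true := by
  refine tab.minOKc_of_chunks [3, 5] 3 81150 5410 15 (by norm_num) ?_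
  intro i hi
  interval_cases i
  · exact chk_pow13_1_0
  · exact chk_pow13_1_1
  · exact chk_pow13_1_2
  · exact chk_pow13_1_3
  · exact chk_pow13_1_4
  · exact chk_pow13_1_5
  · exact chk_pow13_1_6
  · exact chk_pow13_1_7
  · exact chk_pow13_1_8
  · exact chk_pow13_1_9
  · exact chk_pow13_1_10
  · exact chk_pow13_1_11
  · exact chk_pow13_1_12
  · exact chk_pow13_1_13
  · exact chk_pow13_1_14

theorem chk_pow13_2_0 : tab.minOKc [3, 5] 3 162300 5410 = true := by decide +kernel

theorem chk_pow13_2_1 : tab.minOKc [3, 5] 3 167710 5410 = true := by decide +kernel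

theorem chk_pow13_2_2 : tab.minOKc [3, 5] 3 173120 5410 = true := by decide +kernel

theorem chk_pow13_2_3 : tab.minOKc [3, 5] 3 178530 5410 = true := by decide +kernel

theorem chk_pow13_2_4 : tab.minOKc [3, 5] 3 183940 5410 = true := by decide +kernel

theorem chk_pow13_2_5 : tab.minOKc [3, 5] 3 189350 5410 = true := by decide +kernel

theorem chk_pow13_2_6 : tab.minOKc [3, 5] 3 194760 5410 = true := by decide +kernel

theorem chk_pow13_2_7 : tab.minOKc [3, 5] 3 200170 5410 = true := by decide +kernel

theorem chk_pow13_2_8 : tab.minOKc [3, 5] 3 205580 5410 = true := by decide +kernel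

theorem chk_pow13_2_9 : tab.minOKc [3, 5] 3 210990 5410 = true := by decide +kernel

theorem chk_pow13_2_10 : tab.minOKc [3, 5] 3 216400 5410 = true := by decide +kernel

theorem chk_pow13_2_11 : tab.minOKc [3, 5] 3 221810 5410 = true := by decide +kernel

theorem chk_pow13_2_12 : tab.minOKc [3, 5] 3 227220 5410 = true := by decide +kernel

theorem chk_pow13_2_13 : tab.minOKc [3, 5] 3 232630 5410 = true := by decide +kernel

theorem chk_pow13_2_14 : tab.minOKc [3, 5] 3 238040 5410 = true := by decide +kernel

theorem chk_pow13_2 : tab.minOKc [3, 5] 3 162300 81150 = true := by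
  refine tab.minOKc_of_chunks [3, 5] 3 162300 5410 15 (by norm_num) ?_
  intro i hi
  interval_cases i
  · exact chk_pow13_2_0
  · exact chk_pow13_2_1
  · exact chk_pow13_2_2
  · exact chk_pow13_2_3
  · exact chk_pow13_2_4
  · exact chk_pow13_2_5
  · exact chk_pow13_2_6
  · exact chk_pow13_2_7
  · exact chk_pow13_2_8
  · exact chk_pow13_2_9
  · exact chk_pow13_2_10
  · exact chk_pow13_2_11
  · exact chk_pow13_2_12
  · exact chk_pow13_2_13
  · exact chk_pow13_2_14

end Cfsg.Agent.Lib.Helper6.HeBTC
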