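import Cfsg.Agent.Lib.Helper6.HeBTCData
import Cfsg.Agent.Lib.Helper6.TCRel3
import Cfsg.Agent.Lib.Helper6.HeBTCRel12

/-! # HeB: the kernel check of a part of the relators on the coset table -/

set_option autoImplicit false

namespace Cfsg.Agent.Lib.Helper6.HeBTC

open Cfsg.Agent.Lib.Helper6.TC

theorem chk_pow13_3_0 : tab.minOKc [3, 5] 3 243450 5410 = true := by decide +kernel

theorem chk_pow13_3_1 : tab.minOKc [3, 5] 3 248860 5410 = true := by decide +kernel

theorem chk_pow13_3_2 : tab.minOKc [3, 5] 3 254270 5410 = true := by decide +kernel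

theorem chk_pow13_3_3 : tab.minOKc [3, 5] 3 259680 5410 = true := by decide +kernel

theorem chk_pow13_3_4 : tab.minOKc [3, 5] 3 265090 5410 = true := by decide +kernel

theorem chk_pow13_3_5 : tab.minOKc [3, 5] 3 270500 5410 = true := by decide +kernel

theorem chk_pow13_3_6 : tab.minOKc [3, 5] 3 275910 5410 = true := by decide +kernel

theorem chk_pow13_3_7 : tab.minOKc [3, 5] 3 281320 5410 = true := by decide +kernel

theorem chk_pow13_3_8 : tab.minOKc [3, 5] 3 286730 5410 = true := by decide +kernel

theorem chk_pow13_3_9 : tab.minOKc [3, 5] 3 292140 5410 = true := by decide +kernel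

theorem chk_pow13_3_10 : tab.minOKc [3, 5] 3 297550 5410 = true := by decide +kernel

theorem chk_pow13_3_11 : tab.minOKc [3, 5] 3 302960 5410 = true := by decide +kernel

theorem chk_pow13_3_12 : tab.minOKc [3, 5] 3 308370 5410 = true := by decide +kernel

theorem chk_pow13_3_13 : tab.minOKc [3, 5] 3 313780 5410 = true := by decide +kernel

theorem chk_pow13_3_14 : tab.minOKc [3, 5] 3 319190 5410 = true := by decide +kernel

theorem chk_pow13_3 : tab.minOKc [3, 5] 3 243450 81150 = true := by
  refine tab.minOKc_of_chunks [3, 5] 3 243450 5410 15 (by norm_num) ?_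
  intro i hi
  interval_cases i
  · exact chk_pow13_3_0
  · exact chk_pow13_3_1
  · exact chk_pow13_3_2
  · exact chk_pow13_3_3
  · exact chk_pow13_3_4
  · exact chk_pow13_3_5
  · exact chk_pow13_3_6
  · exact chk_pow13_3_7
  · exact chk_pow13_3_8
  · exact chk_pow13_3_9
  · exact chk_pow13_3_10
  · exact chk_pow13_3_11
  · exact chk_pow13_3_12
  · exact chk_pow13_3_13
  · exact chk_pow13_3_14

theorem chk_pow14_0_0 : tab.minOKc [4, 5] 2 0 6612 = true := by decide +kernel

theorem chk_pow14_0_1 : tab.minOKc [4, 5] 2 6612 6612 = true := by decide +kernel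

theorem chk_pow14_0_2 : tab.minOKc [4, 5] 2 13224 6612 = true := by decide +kernel

theorem chk_pow14_0_3 : tab.minOKc [4, 5] 2 19836 6612 = true := by decide +kernel

theorem chk_pow14_0_4 : tab.minOKc [4, 5] 2 26448 6612 = true := by decide +kernel

theorem chk_pow14_0_5 : tab.minOKc [4, 5] 2 33060 6612 = true := by decide +kernel

theorem chk_pow14_0_6 : tab.minOKc [4, 5] 2 39672 6612 = true := by decide +kernel

theorem chk_pow14_0_7 : tab.minOKc [4, 5] 2 46284 6612 = true := by decide +kernel

theorem chk_pow14_0_8 : tab.minOKc [4, 5] 2 52896 6612 = true := by decide +kernel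

theorem chk_pow14_0_9 : tab.minOKc [4, 5] 2 59508 6612 = true := by decide +kernel

theorem chk_pow14_0_10 : tab.minOKc [4, 5] 2 66120 6612 = true := by decide +kernel

theorem chk_pow14_0_11 : tab.minOKc [4, 5] 2 72732 6612 = true := by decide +kernel

theorem chk_pow14_0_12 : tab.minOKc [4, 5] 2 79344 6612 = true := by decide +kernel

theorem chk_pow14_0_13 : tab.minOKc [4, 5] 2 85956 6612 = true := by decide +kernel

theorem chk_pow14_0_14 : tab.minOKc [4, 5] 2 92568 6612 = true := by decide +kernel

theorem chk_pow14_0 : tab.minOKc [4, 5] 2 0 99180 = true := by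
  refine tab.minOKc_of_chunks [4, 5] 2 0 6612 15 (by norm_num) ?_
  intro i hi
  interval_cases i
  · exact chk_pow14_0_0
  · exact chk_pow14_0_1
  · exact chk_pow14_0_2
  · exact chk_pow14_0_3
  · exact chk_pow14_0_4
  · exact chk_pow14_0_5
  · exact chk_pow14_0_6
  · exact chk_pow14_0_7
  · exact chk_pow14_0_8
  · exact chk_pow14_0_9
  · exact chk_pow14_0_10
  · exact chk_pow14_0_11
  · exact chk_pow14_0_12
  · exact chk_pow14_0_13
  · exact chk_pow14_0_14

end Cfsg.Agent.Lib.Helper6.HeBTC
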