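import Cfsg.Agent.Lib.Helper6.HeBTCData
import Cfsg.Agent.Lib.Helper6.TCRel3
import Cfsg.Agent.Lib.Helper6.HeBTCRel13

/-! # HeB: the kernel check of a part of the relators on the coset table -/

set_option autoImplicit false

namespace Cfsg.Agent.Lib.Helper6.HeBTC

open Cfsg.Agent.Lib.Helper6.TC

theorem chk_pow14_1_0 : tab.minOKc [4, 5] 2 99180 6612 = true := by decide +kernel

theorem chk_pow14_1_1 : tab.minOKc [4, 5] 2 105792 6612 = true := by decide +kernel

theorem chk_pow14_1_2 : tab.minOKc [4, 5] 2 112404 6612 = true := by decide +kernel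

theorem chk_pow14_1_3 : tab.minOKc [4, 5] 2 119016 6612 = true := by decide +kernel

theorem chk_pow14_1_4 : tab.minOKc [4, 5] 2 125628 6612 = true := by decide +kernel

theorem chk_pow14_1_5 : tab.minOKc [4, 5] 2 132240 6612 = true := by decide +kernel

theorem chk_pow14_1_6 : tab.minOKc [4, 5] 2 138852 6612 = true := by decide +kernel

theorem chk_pow14_1_7 : tab.minOKc [4, 5] 2 145464 6612 = true := by decide +kernel

theorem chk_pow14_1_8 : tab.minOKc [4, 5] 2 152076 6612 = true := by decide +kernel

theorem chk_pow14_1_9 : tab.minOKc [4, 5] 2 158688 6612 = true := by decide +kernel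

theorem chk_pow14_1_10 : tab.minOKc [4, 5] 2 165300 6612 = true := by decide +kernel

theorem chk_pow14_1_11 : tab.minOKc [4, 5] 2 171912 6612 = true := by decide +kernel

theorem chk_pow14_1_12 : tab.minOKc [4, 5] 2 178524 6612 = true := by decide +kernel

theorem chk_pow14_1_13 : tab.minOKc [4, 5] 2 185136 6612 = true := by decide +kernel

theorem chk_pow14_1_14 : tab.minOKc [4, 5] 2 191748 6612 = true := by decide +kernel

theorem chk_pow14_1 : tab.minOKc [4, 5] 2 99180 99180 = true := by
  refine tab.minOKc_of_chunks [4, 5] 2 99180 6612 15 (by norm_num) ?_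
  intro i hi
  interval_cases i
  · exact chk_pow14_1_0
  · exact chk_pow14_1_1
  · exact chk_pow14_1_2
  · exact chk_pow14_1_3
  · exact chk_pow14_1_4
  · exact chk_pow14_1_5
  · exact chk_pow14_1_6
  · exact chk_pow14_1_7
  · exact chk_pow14_1_8
  · exact chk_pow14_1_9
  · exact chk_pow14_1_10
  · exact chk_pow14_1_11
  · exact chk_pow14_1_12
  · exact chk_pow14_1_13
  · exact chk_pow14_1_14

theorem chk_pow14_2_0 : tab.minOKc [4, 5] 2 198360 6612 = true := by decide +kernel

theorem chk_pow14_2_1 : tab.minOKc [4, 5] 2 204972 6612 = true := by decide +kernel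

theorem chk_pow14_2_2 : tab.minOKc [4, 5] 2 211584 6612 = true := by decide +kernel

theorem chk_pow14_2_3 : tab.minOKc [4, 5] 2 218196 6612 = true := by decide +kernel

theorem chk_pow14_2_4 : tab.minOKc [4, 5] 2 224808 6612 = true := by decide +kernel

theorem chk_pow14_2_5 : tab.minOKc [4, 5] 2 231420 6612 = true := by decide +kernel

theorem chk_pow14_2_6 : tab.minOKc [4, 5] 2 238032 6612 = true := by decide +kernel

theorem chk_pow14_2_7 : tab.minOKc [4, 5] 2 244644 6612 = true := by decide +kernel

theorem chk_pow14_2_8 : tab.minOKc [4, 5] 2 251256 6612 = true := by decide +kernel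

theorem chk_pow14_2_9 : tab.minOKc [4, 5] 2 257868 6612 = true := by decide +kernel

theorem chk_pow14_2_10 : tab.minOKc [4, 5] 2 264480 6612 = true := by decide +kernel

theorem chk_pow14_2_11 : tab.minOKc [4, 5] 2 271092 6612 = true := by decide +kernel

theorem chk_pow14_2_12 : tab.minOKc [4, 5] 2 277704 6612 = true := by decide +kernel

theorem chk_pow14_2_13 : tab.minOKc [4, 5] 2 284316 6612 = true := by decide +kernel

theorem chk_pow14_2_14 : tab.minOKc [4, 5] 2 290928 6612 = true := by decide +kernel

theorem chk_pow14_2 : tab.minOKc [4, 5] 2 198360 99180 = true := by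
  refine tab.minOKc_of_chunks [4, 5] 2 198360 6612 15 (by norm_num) ?_
  intro i hi
  interval_cases i
  · exact chk_pow14_2_0
  · exact chk_pow14_2_1
  · exact chk_pow14_2_2
  · exact chk_pow14_2_3
  · exact chk_pow14_2_4
  · exact chk_pow14_2_5
  · exact chk_pow14_2_6
  · exact chk_pow14_2_7
  · exact chk_pow14_2_8
  · exact chk_pow14_2_9
  · exact chk_pow14_2_10
  · exact chk_pow14_2_11
  · exact chk_pow14_2_12
  · exact chk_pow14_2_13
  · exact chk_pow14_2_14

end Cfsg.Agent.Lib.Helper6.HeBTC
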