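import Cfsg.Agent.Lib.Helper6.HeBTCData
import Cfsg.Agent.Lib.Helper6.TCRel3
import Cfsg.Agent.Lib.Helper6.HeBTCRel18

/-! # HeB: the kernel check of a part of the relators on the coset table -/

set_option autoImplicit false

namespace Cfsg.Agent.Lib.Helper6.HeBTC

open Cfsg.Agent.Lib.Helper6.TC

theorem chk_pow17_2_0 : tab.minOKc [2, 6] 2 201360 6712 = true := by decide +kernel

theorem chk_pow17_2_1 : tab.minOKc [2, 6] 2 208072 6712 = true := by decide +kernel

theorem chk_pow17_2_2 : tab.minOKc [2, 6] 2 214784 6712 = true := by decide +kernel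

theorem chk_pow17_2_3 : tab.minOKc [2, 6] 2 221496 6712 = true := by decide +kernel

theorem chk_pow17_2_4 : tab.minOKc [2, 6] 2 228208 6712 = true := by decide +kernel

theorem chk_pow17_2_5 : tab.minOKc [2, 6] 2 234920 6712 = true := by decide +kernel

theorem chk_pow17_2_6 : tab.minOKc [2, 6] 2 241632 6712 = true := by decide +kernel

theorem chk_pow17_2_7 : tab.minOKc [2, 6] 2 248344 6712 = true := by decide +kernel

theorem chk_pow17_2_8 : tab.minOKc [2, 6] 2 255056 6712 = true := by decide +kernel

theorem chk_pow17_2_9 : tab.minOKc [2, 6] 2 261768 6712 = true := by decide +kernel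

theorem chk_pow17_2_10 : tab.minOKc [2, 6] 2 268480 6712 = true := by decide +kernel

theorem chk_pow17_2_11 : tab.minOKc [2, 6] 2 275192 6712 = true := by decide +kernel

theorem chk_pow17_2_12 : tab.minOKc [2, 6] 2 281904 6712 = true := by decide +kernel

theorem chk_pow17_2_13 : tab.minOKc [2, 6] 2 288616 6712 = true := by decide +kernel

theorem chk_pow17_2_14 : tab.minOKc [2, 6] 2 295328 6712 = true := by decide +kernel

theorem chk_pow17_2 : tab.minOKc [2, 6] 2 201360 100680 = true := by
  refine tab.minOKc_of_chunks [2, 6] 2 201360 6712 15 (by norm_num) ?_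
  intro i hi
  interval_cases i
  · exact chk_pow17_2_0
  · exact chk_pow17_2_1
  · exact chk_pow17_2_2
  · exact chk_pow17_2_3
  · exact chk_pow17_2_4
  · exact chk_pow17_2_5
  · exact chk_pow17_2_6
  · exact chk_pow17_2_7
  · exact chk_pow17_2_8
  · exact chk_pow17_2_9
  · exact chk_pow17_2_10
  · exact chk_pow17_2_11
  · exact chk_pow17_2_12
  · exact chk_pow17_2_13
  · exact chk_pow17_2_14

theorem chk_pow18_0_0 : tab.minOKc [3, 6] 3 0 5388 = true := by decide +kernel

theorem chk_pow18_0_1 : tab.minOKc [3, 6] 3 5388 5388 = true := by decide +kernel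

theorem chk_pow18_0_2 : tab.minOKc [3, 6] 3 10776 5388 = true := by decide +kernel

theorem chk_pow18_0_3 : tab.minOKc [3, 6] 3 16164 5388 = true := by decide +kernel

theorem chk_pow18_0_4 : tab.minOKc [3, 6] 3 21552 5388 = true := by decide +kernel

theorem chk_pow18_0_5 : tab.minOKc [3, 6] 3 26940 5388 = true := by decide +kernel

theorem chk_pow18_0_6 : tab.minOKc [3, 6] 3 32328 5388 = true := by decide +kernel

theorem chk_pow18_0_7 : tab.minOKc [3, 6] 3 37716 5388 = true := by decide +kernel

theorem chk_pow18_0_8 : tab.minOKc [3, 6] 3 43104 5388 = true := by decide +kernel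

theorem chk_pow18_0_9 : tab.minOKc [3, 6] 3 48492 5388 = true := by decide +kernel

theorem chk_pow18_0_10 : tab.minOKc [3, 6] 3 53880 5388 = true := by decide +kernel

theorem chk_pow18_0_11 : tab.minOKc [3, 6] 3 59268 5388 = true := by decide +kernel

theorem chk_pow18_0_12 : tab.minOKc [3, 6] 3 64656 5388 = true := by decide +kernel

theorem chk_pow18_0_13 : tab.minOKc [3, 6] 3 70044 5388 = true := by decide +kernel

theorem chk_pow18_0_14 : tab.minOKc [3, 6] 3 75432 5388 = true := by decide +kernel

theorem chk_pow18_0 : tab.minOKc [3, 6] 3 0 80820 = true := by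
  refine tab.minOKc_of_chunks [3, 6] 3 0 5388 15 (by norm_num) ?_
  intro i hi
  interval_cases i
  · exact chk_pow18_0_0
  · exact chk_pow18_0_1
  · exact chk_pow18_0_2
  · exact chk_pow18_0_3
  · exact chk_pow18_0_4
  · exact chk_pow18_0_5
  · exact chk_pow18_0_6
  · exact chk_pow18_0_7
  · exact chk_pow18_0_8
  · exact chk_pow18_0_9
  · exact chk_pow18_0_10
  · exact chk_pow18_0_11
  · exact chk_pow18_0_12
  · exact chk_pow18_0_13
  · exact chk_pow18_0_14

end Cfsg.Agent.Lib.Helper6.HeBTC
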