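import Cfsg.Agent.Lib.Helper6.HeBTCData
import Cfsg.Agent.Lib.Helper6.TCRel3
import Cfsg.Agent.Lib.Helper6.HeBTCRel19

/-! # HeB: the kernel check of a part of the relators on the coset table -/

set_option autoImplicit false

namespace Cfsg.Agent.Lib.Helper6.HeBTC

open Cfsg.Agent.Lib.Helper6.TC

theorem chk_pow18_1_0 : tab.minOKc [3, 6] 3 80820 5388 = true := by decide +kernel

theorem chk_pow18_1_1 : tab.minOKc [3, 6] 3 86208 5388 = true := by decide +kernel

theorem chk_pow18_1_2 : tab.minOKc [3, 6] 3 91596 5388 = true := by decide +kernel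

theorem chk_pow18_1_3 : tab.minOKc [3, 6] 3 96984 5388 = true := by decide +kernel

theorem chk_pow18_1_4 : tab.minOKc [3, 6] 3 102372 5388 = true := by decide +kernel

theorem chk_pow18_1_5 : tab.minOKc [3, 6] 3 107760 5388 = true := by decide +kernel

theorem chk_pow18_1_6 : tab.minOKc [3, 6] 3 113148 5388 = true := by decide +kernel

theorem chk_pow18_1_7 : tab.minOKc [3, 6] 3 118536 5388 = true := by decide +kernel

theorem chk_pow18_1_8 : tab.minOKc [3, 6] 3 123924 5388 = true := by decide +kernel

theorem chk_pow18_1_9 : tab.minOKc [3, 6] 3 129312 5388 = true := by decide +kernel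

theorem chk_pow18_1_10 : tab.minOKc [3, 6] 3 134700 5388 = true := by decide +kernel

theorem chk_pow18_1_11 : tab.minOKc [3, 6] 3 140088 5388 = true := by decide +kernel

theorem chk_pow18_1_12 : tab.minOKc [3, 6] 3 145476 5388 = true := by decide +kernel

theorem chk_pow18_1_13 : tab.minOKc [3, 6] 3 150864 5388 = true := by decide +kernel

theorem chk_pow18_1_14 : tab.minOKc [3, 6] 3 156252 5388 = true := by decide +kernel

theorem chk_pow18_1 : tab.minOKc [3, 6] 3 80820 80820 = true := by
  refine tab.minOKc_of_chunks [3, 6] 3 80820 5388 15 (by norm_num) ?_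
  intro i hi
  interval_cases i
  · exact chk_pow18_1_0
  · exact chk_pow18_1_1
  · exact chk_pow18_1_2
  · exact chk_pow18_1_3
  · exact chk_pow18_1_4
  · exact chk_pow18_1_5
  · exact chk_pow18_1_6
  · exact chk_pow18_1_7
  · exact chk_pow18_1_8
  · exact chk_pow18_1_9
  · exact chk_pow18_1_10
  · exact chk_pow18_1_11
  · exact chk_pow18_1_12
  · exact chk_pow18_1_13
  · exact chk_pow18_1_14

theorem chk_pow18_2_0 : tab.minOKc [3, 6] 3 161640 5388 = true := by decide +kernel

theorem chk_pow18_2_1 : tab.minOKc [3, 6] 3 167028 5388 = true := by decide +kernel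

theorem chk_pow18_2_2 : tab.minOKc [3, 6] 3 172416 5388 = true := by decide +kernel

theorem chk_pow18_2_3 : tab.minOKc [3, 6] 3 177804 5388 = true := by decide +kernel

theorem chk_pow18_2_4 : tab.minOKc [3, 6] 3 183192 5388 = true := by decide +kernel

theorem chk_pow18_2_5 : tab.minOKc [3, 6] 3 188580 5388 = true := by decide +kernel

theorem chk_pow18_2_6 : tab.minOKc [3, 6] 3 193968 5388 = true := by decide +kernel

theorem chk_pow18_2_7 : tab.minOKc [3, 6] 3 199356 5388 = true := by decide +kernel

theorem chk_pow18_2_8 : tab.minOKc [3, 6] 3 204744 5388 = true := by decide +kernel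

theorem chk_pow18_2_9 : tab.minOKc [3, 6] 3 210132 5388 = true := by decide +kernel

theorem chk_pow18_2_10 : tab.minOKc [3, 6] 3 215520 5388 = true := by decide +kernel

theorem chk_pow18_2_11 : tab.minOKc [3, 6] 3 220908 5388 = true := by decide +kernel

theorem chk_pow18_2_12 : tab.minOKc [3, 6] 3 226296 5388 = true := by decide +kernel

theorem chk_pow18_2_13 : tab.minOKc [3, 6] 3 231684 5388 = true := by decide +kernel

theorem chk_pow18_2_14 : tab.minOKc [3, 6] 3 237072 5388 = true := by decide +kernel

theorem chk_pow18_2 : tab.minOKc [3, 6] 3 161640 80820 = true := by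
  refine tab.minOKc_of_chunks [3, 6] 3 161640 5388 15 (by norm_num) ?_
  intro i hi
  interval_cases i
  · exact chk_pow18_2_0
  · exact chk_pow18_2_1
  · exact chk_pow18_2_2
  · exact chk_pow18_2_3
  · exact chk_pow18_2_4
  · exact chk_pow18_2_5
  · exact chk_pow18_2_6
  · exact chk_pow18_2_7
  · exact chk_pow18_2_8
  · exact chk_pow18_2_9
  · exact chk_pow18_2_10
  · exact chk_pow18_2_11
  · exact chk_pow18_2_12
  · exact chk_pow18_2_13
  · exact chk_pow18_2_14

end Cfsg.Agent.Lib.Helper6.HeBTC
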