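import Cfsg.Agent.Lib.Helper6.HeBTCData
import Cfsg.Agent.Lib.Helper6.TCRel3
import Cfsg.Agent.Lib.Helper6.HeBTCRel20

/-! # HeB: the kernel check of a part of the relators on the coset table -/

set_option autoImplicit false

namespace Cfsg.Agent.Lib.Helper6.HeBTC

open Cfsg.Agent.Lib.Helper6.TC

theorem chk_pow18_3_0 : tab.minOKc [3, 6] 3 242460 5388 = true := by decide +kernel

theorem chk_pow18_3_1 : tab.minOKc [3, 6] 3 247848 5388 = true := by decide +kernel

theorem chk_pow18_3_2 : tab.minOKc [3, 6] 3 253236 5388 = true := by decide +kernel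

theorem chk_pow18_3_3 : tab.minOKc [3, 6] 3 258624 5388 = true := by decide +kernel

theorem chk_pow18_3_4 : tab.minOKc [3, 6] 3 264012 5388 = true := by decide +kernel

theorem chk_pow18_3_5 : tab.minOKc [3, 6] 3 269400 5388 = true := by decide +kernel

theorem chk_pow18_3_6 : tab.minOKc [3, 6] 3 274788 5388 = true := by decide +kernel

theorem chk_pow18_3_7 : tab.minOKc [3, 6] 3 280176 5388 = true := by decide +kernel

theorem chk_pow18_3_8 : tab.minOKc [3, 6] 3 285564 5388 = true := by decide +kernel

theorem chk_pow18_3_9 : tab.minOKc [3, 6] 3 290952 5388 = true := by decide +kernel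

theorem chk_pow18_3_10 : tab.minOKc [3, 6] 3 296340 5388 = true := by decide +kernel

theorem chk_pow18_3_11 : tab.minOKc [3, 6] 3 301728 5388 = true := by decide +kernel

theorem chk_pow18_3_12 : tab.minOKc [3, 6] 3 307116 5388 = true := by decide +kernel

theorem chk_pow18_3_13 : tab.minOKc [3, 6] 3 312504 5388 = true := by decide +kernel

theorem chk_pow18_3_14 : tab.minOKc [3, 6] 3 317892 5388 = true := by decide +kernel

theorem chk_pow18_3 : tab.minOKc [3, 6] 3 242460 80820 = true := by
  refine tab.minOKc_of_chunks [3, 6] 3 242460 5388 15 (by norm_num) ?_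
  intro i hi
  interval_cases i
  · exact chk_pow18_3_0
  · exact chk_pow18_3_1
  · exact chk_pow18_3_2
  · exact chk_pow18_3_3
  · exact chk_pow18_3_4
  · exact chk_pow18_3_5
  · exact chk_pow18_3_6
  · exact chk_pow18_3_7
  · exact chk_pow18_3_8
  · exact chk_pow18_3_9
  · exact chk_pow18_3_10
  · exact chk_pow18_3_11
  · exact chk_pow18_3_12
  · exact chk_pow18_3_13
  · exact chk_pow18_3_14

theorem chk_pow19_0_0 : tab.minOKc [4, 6] 2 0 6584 = true := by decide +kernel

theorem chk_pow19_0_1 : tab.minOKc [4, 6] 2 6584 6584 = true := by decide +kernel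

theorem chk_pow19_0_2 : tab.minOKc [4, 6] 2 13168 6584 = true := by decide +kernel

theorem chk_pow19_0_3 : tab.minOKc [4, 6] 2 19752 6584 = true := by decide +kernel

theorem chk_pow19_0_4 : tab.minOKc [4, 6] 2 26336 6584 = true := by decide +kernel

theorem chk_pow19_0_5 : tab.minOKc [4, 6] 2 32920 6584 = true := by decide +kernel

theorem chk_pow19_0_6 : tab.minOKc [4, 6] 2 39504 6584 = true := by decide +kernel

theorem chk_pow19_0_7 : tab.minOKc [4, 6] 2 46088 6584 = true := by decide +kernel

theorem chk_pow19_0_8 : tab.minOKc [4, 6] 2 52672 6584 = true := by decide +kernel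

theorem chk_pow19_0_9 : tab.minOKc [4, 6] 2 59256 6584 = true := by decide +kernel

theorem chk_pow19_0_10 : tab.minOKc [4, 6] 2 65840 6584 = true := by decide +kernel

theorem chk_pow19_0_11 : tab.minOKc [4, 6] 2 72424 6584 = true := by decide +kernel

theorem chk_pow19_0_12 : tab.minOKc [4, 6] 2 79008 6584 = true := by decide +kernel

theorem chk_pow19_0_13 : tab.minOKc [4, 6] 2 85592 6584 = true := by decide +kernel

theorem chk_pow19_0_14 : tab.minOKc [4, 6] 2 92176 6584 = true := by decide +kernel

theorem chk_pow19_0 : tab.minOKc [4, 6] 2 0 98760 = true := by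
  refine tab.minOKc_of_chunks [4, 6] 2 0 6584 15 (by norm_num) ?_
  intro i hi
  interval_cases i
  · exact chk_pow19_0_0
  · exact chk_pow19_0_1
  · exact chk_pow19_0_2
  · exact chk_pow19_0_3
  · exact chk_pow19_0_4
  · exact chk_pow19_0_5
  · exact chk_pow19_0_6
  · exact chk_pow19_0_7
  · exact chk_pow19_0_8
  · exact chk_pow19_0_9
  · exact chk_pow19_0_10
  · exact chk_pow19_0_11
  · exact chk_pow19_0_12
  · exact chk_pow19_0_13
  · exact chk_pow19_0_14

end Cfsg.Agent.Lib.Helper6.HeBTC
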