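import Cfsg.Agent.Lib.Helper6.HeBTCData
import Cfsg.Agent.Lib.Helper6.TCRel3
import Cfsg.Agent.Lib.Helper6.HeBTCRel21

/-! # HeB: the kernel check of a part of the relators on the coset table -/

set_option autoImplicit false

namespace Cfsg.Agent.Lib.Helper6.HeBTC

open Cfsg.Agent.Lib.Helper6.TC

theorem chk_pow19_1_0 : tab.minOKc [4, 6] 2 98760 6584 = true := by decide +kernel

theorem chk_pow19_1_1 : tab.minOKc [4, 6] 2 105344 6584 = true := by decide +kernel

theorem chk_pow19_1_2 : tab.minOKc [4, 6] 2 111928 6584 = true := by decide +kernel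

theorem chk_pow19_1_3 : tab.minOKc [4, 6] 2 118512 6584 = true := by decide +kernel

theorem chk_pow19_1_4 : tab.minOKc [4, 6] 2 125096 6584 = true := by decide +kernel

theorem chk_pow19_1_5 : tab.minOKc [4, 6] 2 131680 6584 = true := by decide +kernel

theorem chk_pow19_1_6 : tab.minOKc [4, 6] 2 138264 6584 = true := by decide +kernel

theorem chk_pow19_1_7 : tab.minOKc [4, 6] 2 144848 6584 = true := by decide +kernel

theorem chk_pow19_1_8 : tab.minOKc [4, 6] 2 151432 6584 = true := by decide +kernel

theorem chk_pow19_1_9 : tab.minOKc [4, 6] 2 158016 6584 = true := by decide +kernel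

theorem chk_pow19_1_10 : tab.minOKc [4, 6] 2 164600 6584 = true := by decide +kernel

theorem chk_pow19_1_11 : tab.minOKc [4, 6] 2 171184 6584 = true := by decide +kernel

theorem chk_pow19_1_12 : tab.minOKc [4, 6] 2 177768 6584 = true := by decide +kernel

theorem chk_pow19_1_13 : tab.minOKc [4, 6] 2 184352 6584 = true := by decide +kernel

theorem chk_pow19_1_14 : tab.minOKc [4, 6] 2 190936 6584 = true := by decide +kernel

theorem chk_pow19_1 : tab.minOKc [4, 6] 2 98760 98760 = true := by
  refine tab.minOKc_of_chunks [4, 6] 2 98760 6584 15 (by norm_num) ?_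
  intro i hi
  interval_cases i
  · exact chk_pow19_1_0
  · exact chk_pow19_1_1
  · exact chk_pow19_1_2
  · exact chk_pow19_1_3
  · exact chk_pow19_1_4
  · exact chk_pow19_1_5
  · exact chk_pow19_1_6
  · exact chk_pow19_1_7
  · exact chk_pow19_1_8
  · exact chk_pow19_1_9
  · exact chk_pow19_1_10
  · exact chk_pow19_1_11
  · exact chk_pow19_1_12
  · exact chk_pow19_1_13
  · exact chk_pow19_1_14

theorem chk_pow19_2_0 : tab.minOKc [4, 6] 2 197520 6584 = true := by decide +kernel

theorem chk_pow19_2_1 : tab.minOKc [4, 6] 2 204104 6584 = true := by decide +kernel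

theorem chk_pow19_2_2 : tab.minOKc [4, 6] 2 210688 6584 = true := by decide +kernel

theorem chk_pow19_2_3 : tab.minOKc [4, 6] 2 217272 6584 = true := by decide +kernel

theorem chk_pow19_2_4 : tab.minOKc [4, 6] 2 223856 6584 = true := by decide +kernel

theorem chk_pow19_2_5 : tab.minOKc [4, 6] 2 230440 6584 = true := by decide +kernel

theorem chk_pow19_2_6 : tab.minOKc [4, 6] 2 237024 6584 = true := by decide +kernel

theorem chk_pow19_2_7 : tab.minOKc [4, 6] 2 243608 6584 = true := by decide +kernel

theorem chk_pow19_2_8 : tab.minOKc [4, 6] 2 250192 6584 = true := by decide +kernel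

theorem chk_pow19_2_9 : tab.minOKc [4, 6] 2 256776 6584 = true := by decide +kernel

theorem chk_pow19_2_10 : tab.minOKc [4, 6] 2 263360 6584 = true := by decide +kernel

theorem chk_pow19_2_11 : tab.minOKc [4, 6] 2 269944 6584 = true := by decide +kernel

theorem chk_pow19_2_12 : tab.minOKc [4, 6] 2 276528 6584 = true := by decide +kernel

theorem chk_pow19_2_13 : tab.minOKc [4, 6] 2 283112 6584 = true := by decide +kernel

theorem chk_pow19_2_14 : tab.minOKc [4, 6] 2 289696 6584 = true := by decide +kernel

theorem chk_pow19_2 : tab.minOKc [4, 6] 2 197520 98760 = true := by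
  refine tab.minOKc_of_chunks [4, 6] 2 197520 6584 15 (by norm_num) ?_
  intro i hi
  interval_cases i
  · exact chk_pow19_2_0
  · exact chk_pow19_2_1
  · exact chk_pow19_2_2
  · exact chk_pow19_2_3
  · exact chk_pow19_2_4
  · exact chk_pow19_2_5
  · exact chk_pow19_2_6
  · exact chk_pow19_2_7
  · exact chk_pow19_2_8
  · exact chk_pow19_2_9
  · exact chk_pow19_2_10
  · exact chk_pow19_2_11
  · exact chk_pow19_2_12
  · exact chk_pow19_2_13
  · exact chk_pow19_2_14

end Cfsg.Agent.Lib.Helper6.HeBTC
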