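import Cfsg.Agent.Lib.Helper6.HeBTCData
import Cfsg.Agent.Lib.Helper6.TCRel3
import Cfsg.Agent.Lib.Helper6.HeBTCRel23

/-! # HeB: the kernel check of a part of the relators on the coset table -/

set_option autoImplicit false

namespace Cfsg.Agent.Lib.Helper6.HeBTC

open Cfsg.Agent.Lib.Helper6.TC

theorem chk_pow20_2_0 : tab.minOKc [5, 6] 4 137220 4574 = true := by decide +kernel

theorem chk_pow20_2_1 : tab.minOKc [5, 6] 4 141794 4574 = true := by decide +kernel

theorem chk_pow20_2_2 : tab.minOKc [5, 6] 4 146368 4574 = true := by decide +kernel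

theorem chk_pow20_2_3 : tab.minOKc [5, 6] 4 150942 4574 = true := by decide +kernel

theorem chk_pow20_2_4 : tab.minOKc [5, 6] 4 155516 4574 = true := by decide +kernel

theorem chk_pow20_2_5 : tab.minOKc [5, 6] 4 160090 4574 = true := by decide +kernel

theorem chk_pow20_2_6 : tab.minOKc [5, 6] 4 164664 4574 = true := by decide +kernel

theorem chk_pow20_2_7 : tab.minOKc [5, 6] 4 169238 4574 = true := by decide +kernel

theorem chk_pow20_2_8 : tab.minOKc [5, 6] 4 173812 4574 = true := by decide +kernel

theorem chk_pow20_2_9 : tab.minOKc [5, 6] 4 178386 4574 = true := by decide +kernel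

theorem chk_pow20_2_10 : tab.minOKc [5, 6] 4 182960 4574 = true := by decide +kernel

theorem chk_pow20_2_11 : tab.minOKc [5, 6] 4 187534 4574 = true := by decide +kernel

theorem chk_pow20_2_12 : tab.minOKc [5, 6] 4 192108 4574 = true := by decide +kernel

theorem chk_pow20_2_13 : tab.minOKc [5, 6] 4 196682 4574 = true := by decide +kernel

theorem chk_pow20_2_14 : tab.minOKc [5, 6] 4 201256 4574 = true := by decide +kernel

theorem chk_pow20_2 : tab.minOKc [5, 6] 4 137220 68610 = true := by
  refine tab.minOKc_of_chunks [5, 6] 4 137220 4574 15 (by norm_num) ?_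
  intro i hi
  interval_cases i
  · exact chk_pow20_2_0
  · exact chk_pow20_2_1
  · exact chk_pow20_2_2
  · exact chk_pow20_2_3
  · exact chk_pow20_2_4
  · exact chk_pow20_2_5
  · exact chk_pow20_2_6
  · exact chk_pow20_2_7
  · exact chk_pow20_2_8
  · exact chk_pow20_2_9
  · exact chk_pow20_2_10
  · exact chk_pow20_2_11
  · exact chk_pow20_2_12
  · exact chk_pow20_2_13
  · exact chk_pow20_2_14

theorem chk_pow20_3_0 : tab.minOKc [5, 6] 4 205830 4574 = true := by decide +kernel

theorem chk_pow20_3_1 : tab.minOKc [5, 6] 4 210404 4574 = true := by decide +kernel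

theorem chk_pow20_3_2 : tab.minOKc [5, 6] 4 214978 4574 = true := by decide +kernel

theorem chk_pow20_3_3 : tab.minOKc [5, 6] 4 219552 4574 = true := by decide +kernel

theorem chk_pow20_3_4 : tab.minOKc [5, 6] 4 224126 4574 = true := by decide +kernel

theorem chk_pow20_3_5 : tab.minOKc [5, 6] 4 228700 4574 = true := by decide +kernel

theorem chk_pow20_3_6 : tab.minOKc [5, 6] 4 233274 4574 = true := by decide +kernel

theorem chk_pow20_3_7 : tab.minOKc [5, 6] 4 237848 4574 = true := by decide +kernel

theorem chk_pow20_3_8 : tab.minOKc [5, 6] 4 242422 4574 = true := by decide +kernel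

theorem chk_pow20_3_9 : tab.minOKc [5, 6] 4 246996 4574 = true := by decide +kernel

theorem chk_pow20_3_10 : tab.minOKc [5, 6] 4 251570 4574 = true := by decide +kernel

theorem chk_pow20_3_11 : tab.minOKc [5, 6] 4 256144 4574 = true := by decide +kernel

theorem chk_pow20_3_12 : tab.minOKc [5, 6] 4 260718 4574 = true := by decide +kernel

theorem chk_pow20_3_13 : tab.minOKc [5, 6] 4 265292 4574 = true := by decide +kernel

theorem chk_pow20_3_14 : tab.minOKc [5, 6] 4 269866 4574 = true := by decide +kernel

theorem chk_pow20_3 : tab.minOKc [5, 6] 4 205830 68610 = true := by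
  refine tab.minOKc_of_chunks [5, 6] 4 205830 4574 15 (by norm_num) ?_
  intro i hi
  interval_cases i
  · exact chk_pow20_3_0
  · exact chk_pow20_3_1
  · exact chk_pow20_3_2
  · exact chk_pow20_3_3
  · exact chk_pow20_3_4
  · exact chk_pow20_3_5
  · exact chk_pow20_3_6
  · exact chk_pow20_3_7
  · exact chk_pow20_3_8
  · exact chk_pow20_3_9
  · exact chk_pow20_3_10
  · exact chk_pow20_3_11
  · exact chk_pow20_3_12
  · exact chk_pow20_3_13
  · exact chk_pow20_3_14

end Cfsg.Agent.Lib.Helper6.HeBTC
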