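import Cfsg.Agent.Lib.Helper6.HeBTCData
import Cfsg.Agent.Lib.Helper6.TCRel3
import Cfsg.Agent.Lib.Helper6.HeBTCRel24

/-! # HeB: the kernel check of a part of the relators on the coset table -/

set_option autoImplicit false

namespace Cfsg.Agent.Lib.Helper6.HeBTC

open Cfsg.Agent.Lib.Helper6.TC

theorem chk_pow21_0_0 : tab.minOKc [4, 6, 5, 6, 5] 1 0 4000 = true := by decide +kernel

theorem chk_pow21_0_1 : tab.minOKc [4, 6, 5, 6, 5] 1 4000 4000 = true := by decide +kernel

theorem chk_pow21_0_2 : tab.minOKc [4, 6, 5, 6, 5] 1 8000 4000 = true := by decide +kernel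

theorem chk_pow21_0_3 : tab.minOKc [4, 6, 5, 6, 5] 1 12000 4000 = true := by decide +kernel

theorem chk_pow21_0_4 : tab.minOKc [4, 6, 5, 6, 5] 1 16000 4000 = true := by decide +kernel

theorem chk_pow21_0_5 : tab.minOKc [4, 6, 5, 6, 5] 1 20000 4000 = true := by decide +kernel

theorem chk_pow21_0_6 : tab.minOKc [4, 6, 5, 6, 5] 1 24000 4000 = true := by decide +kernel

theorem chk_pow21_0_7 : tab.minOKc [4, 6, 5, 6, 5] 1 28000 4000 = true := by decide +kernel

theorem chk_pow21_0_8 : tab.minOKc [4, 6, 5, 6, 5] 1 32000 4000 = true := by decide +kernel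

theorem chk_pow21_0_9 : tab.minOKc [4, 6, 5, 6, 5] 1 36000 4000 = true := by decide +kernel

theorem chk_pow21_0_10 : tab.minOKc [4, 6, 5, 6, 5] 1 40000 4000 = true := by decide +kernel

theorem chk_pow21_0_11 : tab.minOKc [4, 6, 5, 6, 5] 1 44000 4000 = true := by decide +kernel

theorem chk_pow21_0_12 : tab.minOKc [4, 6, 5, 6, 5] 1 48000 4000 = true := by decide +kernel

theorem chk_pow21_0_13 : tab.minOKc [4, 6, 5, 6, 5] 1 52000 4000 = true := by decide +kernel

theorem chk_pow21_0_14 : tab.minOKc [4, 6, 5, 6, 5] 1 56000 4000 = true := by decide +kernel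

theorem chk_pow21_0 : tab.minOKc [4, 6, 5, 6, 5] 1 0 60000 = true := by
  refine tab.minOKc_of_chunks [4, 6, 5, 6, 5] 1 0 4000 15 (by norm_num) ?_
  intro i hi
  interval_cases i
  · exact chk_pow21_0_0
  · exact chk_pow21_0_1
  · exact chk_pow21_0_2
  · exact chk_pow21_0_3
  · exact chk_pow21_0_4
  · exact chk_pow21_0_5
  · exact chk_pow21_0_6
  · exact chk_pow21_0_7
  · exact chk_pow21_0_8
  · exact chk_pow21_0_9
  · exact chk_pow21_0_10
  · exact chk_pow21_0_11
  · exact chk_pow21_0_12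
  · exact chk_pow21_0_13
  · exact chk_pow21_0_14

theorem chk_pow21_1_0 : tab.minOKc [4, 6, 5, 6, 5] 1 60000 4000 = true := by decide +kernel

theorem chk_pow21_1_1 : tab.minOKc [4, 6, 5, 6, 5] 1 64000 4000 = true := by decide +kernel

theorem chk_pow21_1_2 : tab.minOKc [4, 6, 5, 6, 5] 1 68000 4000 = true := by decide +kernel

theorem chk_pow21_1_3 : tab.minOKc [4, 6, 5, 6, 5] 1 72000 4000 = true := by decide +kernel

theorem chk_pow21_1_4 : tab.minOKc [4, 6, 5, 6, 5] 1 76000 4000 = true := by decide +kernel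

theorem chk_pow21_1_5 : tab.minOKc [4, 6, 5, 6, 5] 1 80000 4000 = true := by decide +kernel

theorem chk_pow21_1_6 : tab.minOKc [4, 6, 5, 6, 5] 1 84000 4000 = true := by decide +kernel

theorem chk_pow21_1_7 : tab.minOKc [4, 6, 5, 6, 5] 1 88000 4000 = true := by decide +kernel

theorem chk_pow21_1_8 : tab.minOKc [4, 6, 5, 6, 5] 1 92000 4000 = true := by decide +kernel

theorem chk_pow21_1_9 : tab.minOKc [4, 6, 5, 6, 5] 1 96000 4000 = true := by decide +kernel

theorem chk_pow21_1_10 : tab.minOKc [4, 6, 5, 6, 5] 1 100000 4000 = true := by decide +kernel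

theorem chk_pow21_1_11 : tab.minOKc [4, 6, 5, 6, 5] 1 104000 4000 = true := by decide +kernel

theorem chk_pow21_1_12 : tab.minOKc [4, 6, 5, 6, 5] 1 108000 4000 = true := by decide +kernel

theorem chk_pow21_1_13 : tab.minOKc [4, 6, 5, 6, 5] 1 112000 4000 = true := by decide +kernel

theorem chk_pow21_1_14 : tab.minOKc [4, 6, 5, 6, 5] 1 116000 4000 = true := by decide +kernel

theorem chk_pow21_1 : tab.minOKc [4, 6, 5, 6, 5] 1 60000 60000 = true := by
  refine tab.minOKc_of_chunks [4, 6, 5, 6, 5] 1 60000 4000 15 (by norm_num) ?_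
  intro i hi
  interval_cases i
  · exact chk_pow21_1_0
  · exact chk_pow21_1_1
  · exact chk_pow21_1_2
  · exact chk_pow21_1_3
  · exact chk_pow21_1_4
  · exact chk_pow21_1_5
  · exact chk_pow21_1_6
  · exact chk_pow21_1_7
  · exact chk_pow21_1_8
  · exact chk_pow21_1_9
  · exact chk_pow21_1_10
  · exact chk_pow21_1_11
  · exact chk_pow21_1_12
  · exact chk_pow21_1_13
  · exact chk_pow21_1_14

end Cfsg.Agent.Lib.Helper6.HeBTC
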