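import Cfsg.Agent.Lib.Helper6.HeBTCData
import Cfsg.Agent.Lib.Helper6.TCRel3
import Cfsg.Agent.Lib.Helper6.HeBTCRel25

/-! # HeB: the kernel check of a part of the relators on the coset table -/

set_option autoImplicit false

namespace Cfsg.Agent.Lib.Helper6.HeBTC

open Cfsg.Agent.Lib.Helper6.TC

theorem chk_pow21_2_0 : tab.minOKc [4, 6, 5, 6, 5] 1 120000 4000 = true := by decide +kernel

theorem chk_pow21_2_1 : tab.minOKc [4, 6, 5, 6, 5] 1 124000 4000 = true := by decide +kernel

theorem chk_pow21_2_2 : tab.minOKc [4, 6, 5, 6, 5] 1 128000 4000 = true := by decide +kernel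

theorem chk_pow21_2_3 : tab.minOKc [4, 6, 5, 6, 5] 1 132000 4000 = true := by decide +kernel

theorem chk_pow21_2_4 : tab.minOKc [4, 6, 5, 6, 5] 1 136000 4000 = true := by decide +kernel

theorem chk_pow21_2_5 : tab.minOKc [4, 6, 5, 6, 5] 1 140000 4000 = true := by decide +kernel

theorem chk_pow21_2_6 : tab.minOKc [4, 6, 5, 6, 5] 1 144000 4000 = true := by decide +kernel

theorem chk_pow21_2_7 : tab.minOKc [4, 6, 5, 6, 5] 1 148000 4000 = true := by decide +kernel

theorem chk_pow21_2_8 : tab.minOKc [4, 6, 5, 6, 5] 1 152000 4000 = true := by decide +kernel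

theorem chk_pow21_2_9 : tab.minOKc [4, 6, 5, 6, 5] 1 156000 4000 = true := by decide +kernel

theorem chk_pow21_2_10 : tab.minOKc [4, 6, 5, 6, 5] 1 160000 4000 = true := by decide +kernel

theorem chk_pow21_2_11 : tab.minOKc [4, 6, 5, 6, 5] 1 164000 4000 = true := by decide +kernel

theorem chk_pow21_2_12 : tab.minOKc [4, 6, 5, 6, 5] 1 168000 4000 = true := by decide +kernel

theorem chk_pow21_2_13 : tab.minOKc [4, 6, 5, 6, 5] 1 172000 4000 = true := by decide +kernel

theorem chk_pow21_2_14 : tab.minOKc [4, 6, 5, 6, 5] 1 176000 4000 = true := by decide +kernel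

theorem chk_pow21_2 : tab.minOKc [4, 6, 5, 6, 5] 1 120000 60000 = true := by
  refine tab.minOKc_of_chunks [4, 6, 5, 6, 5] 1 120000 4000 15 (by norm_num) ?_
  intro i hi
  interval_cases i
  · exact chk_pow21_2_0
  · exact chk_pow21_2_1
  · exact chk_pow21_2_2
  · exact chk_pow21_2_3
  · exact chk_pow21_2_4
  · exact chk_pow21_2_5
  · exact chk_pow21_2_6
  · exact chk_pow21_2_7
  · exact chk_pow21_2_8
  · exact chk_pow21_2_9
  · exact chk_pow21_2_10
  · exact chk_pow21_2_11
  · exact chk_pow21_2_12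
  · exact chk_pow21_2_13
  · exact chk_pow21_2_14

theorem chk_pow21_3_0 : tab.minOKc [4, 6, 5, 6, 5] 1 180000 4000 = true := by decide +kernel

theorem chk_pow21_3_1 : tab.minOKc [4, 6, 5, 6, 5] 1 184000 4000 = true := by decide +kernel

theorem chk_pow21_3_2 : tab.minOKc [4, 6, 5, 6, 5] 1 188000 4000 = true := by decide +kernel

theorem chk_pow21_3_3 : tab.minOKc [4, 6, 5, 6, 5] 1 192000 4000 = true := by decide +kernel

theorem chk_pow21_3_4 : tab.minOKc [4, 6, 5, 6, 5] 1 196000 4000 = true := by decide +kernel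

theorem chk_pow21_3_5 : tab.minOKc [4, 6, 5, 6, 5] 1 200000 4000 = true := by decide +kernel

theorem chk_pow21_3_6 : tab.minOKc [4, 6, 5, 6, 5] 1 204000 4000 = true := by decide +kernel

theorem chk_pow21_3_7 : tab.minOKc [4, 6, 5, 6, 5] 1 208000 4000 = true := by decide +kernel

theorem chk_pow21_3_8 : tab.minOKc [4, 6, 5, 6, 5] 1 212000 4000 = true := by decide +kernel

theorem chk_pow21_3_9 : tab.minOKc [4, 6, 5, 6, 5] 1 216000 4000 = true := by decide +kernel

theorem chk_pow21_3_10 : tab.minOKc [4, 6, 5, 6, 5] 1 220000 4000 = true := by decide +kernel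

theorem chk_pow21_3_11 : tab.minOKc [4, 6, 5, 6, 5] 1 224000 4000 = true := by decide +kernel

theorem chk_pow21_3_12 : tab.minOKc [4, 6, 5, 6, 5] 1 228000 4000 = true := by decide +kernel

theorem chk_pow21_3_13 : tab.minOKc [4, 6, 5, 6, 5] 1 232000 4000 = true := by decide +kernel

theorem chk_pow21_3_14 : tab.minOKc [4, 6, 5, 6, 5] 1 236000 4000 = true := by decide +kernel

theorem chk_pow21_3 : tab.minOKc [4, 6, 5, 6, 5] 1 180000 60000 = true := by
  refine tab.minOKc_of_chunks [4, 6, 5, 6, 5] 1 180000 4000 15 (by norm_num) ?_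
  intro i hi
  interval_cases i
  · exact chk_pow21_3_0
  · exact chk_pow21_3_1
  · exact chk_pow21_3_2
  · exact chk_pow21_3_3
  · exact chk_pow21_3_4
  · exact chk_pow21_3_5
  · exact chk_pow21_3_6
  · exact chk_pow21_3_7
  · exact chk_pow21_3_8
  · exact chk_pow21_3_9
  · exact chk_pow21_3_10
  · exact chk_pow21_3_11
  · exact chk_pow21_3_12
  · exact chk_pow21_3_13
  · exact chk_pow21_3_14

end Cfsg.Agent.Lib.Helper6.HeBTC
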