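import Cfsg.Agent.Lib.Helper6.HeBTCData
import Cfsg.Agent.Lib.Helper6.TCRel3
import Cfsg.Agent.Lib.Helper6.HeBTCRel26

/-! # HeB: the kernel check of a part of the relators on the coset table -/

set_option autoImplicit false

namespace Cfsg.Agent.Lib.Helper6.HeBTC

open Cfsg.Agent.Lib.Helper6.TC

theorem chk_pow21_4_0 : tab.minOKc [4, 6, 5, 6, 5] 1 240000 4000 = true := by decide +kernel

theorem chk_pow21_4_1 : tab.minOKc [4, 6, 5, 6, 5] 1 244000 4000 = true := by decide +kernel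

theorem chk_pow21_4_2 : tab.minOKc [4, 6, 5, 6, 5] 1 248000 4000 = true := by decide +kernel

theorem chk_pow21_4_3 : tab.minOKc [4, 6, 5, 6, 5] 1 252000 4000 = true := by decide +kernel

theorem chk_pow21_4_4 : tab.minOKc [4, 6, 5, 6, 5] 1 256000 4000 = true := by decide +kernel

theorem chk_pow21_4_5 : tab.minOKc [4, 6, 5, 6, 5] 1 260000 4000 = true := by decide +kernel

theorem chk_pow21_4_6 : tab.minOKc [4, 6, 5, 6, 5] 1 264000 4000 = true := by decide +kernel

theorem chk_pow21_4_7 : tab.minOKc [4, 6, 5, 6, 5] 1 268000 4000 = true := by decide +kernel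

theorem chk_pow21_4_8 : tab.minOKc [4, 6, 5, 6, 5] 1 272000 4000 = true := by decide +kernel

theorem chk_pow21_4_9 : tab.minOKc [4, 6, 5, 6, 5] 1 276000 4000 = true := by decide +kernel

theorem chk_pow21_4_10 : tab.minOKc [4, 6, 5, 6, 5] 1 280000 4000 = true := by decide +kernel

theorem chk_pow21_4_11 : tab.minOKc [4, 6, 5, 6, 5] 1 284000 4000 = true := by decide +kernel

theorem chk_pow21_4_12 : tab.minOKc [4, 6, 5, 6, 5] 1 288000 4000 = true := by decide +kernel

theorem chk_pow21_4_13 : tab.minOKc [4, 6, 5, 6, 5] 1 292000 4000 = true := by decide +kernel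

theorem chk_pow21_4_14 : tab.minOKc [4, 6, 5, 6, 5] 1 296000 4000 = true := by decide +kernel

theorem chk_pow21_4 : tab.minOKc [4, 6, 5, 6, 5] 1 240000 60000 = true := by
  refine tab.minOKc_of_chunks [4, 6, 5, 6, 5] 1 240000 4000 15 (by norm_num) ?_
  intro i hi
  interval_cases i
  · exact chk_pow21_4_0
  · exact chk_pow21_4_1
  · exact chk_pow21_4_2
  · exact chk_pow21_4_3
  · exact chk_pow21_4_4
  · exact chk_pow21_4_5
  · exact chk_pow21_4_6
  · exact chk_pow21_4_7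
  · exact chk_pow21_4_8
  · exact chk_pow21_4_9
  · exact chk_pow21_4_10
  · exact chk_pow21_4_11
  · exact chk_pow21_4_12
  · exact chk_pow21_4_13
  · exact chk_pow21_4_14

theorem chk_pow22_0_0 : tab.minOKc [4, 2, 1, 0, 2, 1, 0, 2, 1, 0] 1 0 2000 = true := by decide +kernel

theorem chk_pow22_0_1 : tab.minOKc [4, 2, 1, 0, 2, 1, 0, 2, 1, 0] 1 2000 2000 = true := by decide +kernel

theorem chk_pow22_0_2 : tab.minOKc [4, 2, 1, 0, 2, 1, 0, 2, 1, 0] 1 4000 2000 = true := by decide +kernel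

theorem chk_pow22_0_3 : tab.minOKc [4, 2, 1, 0, 2, 1, 0, 2, 1, 0] 1 6000 2000 = true := by decide +kernel

theorem chk_pow22_0_4 : tab.minOKc [4, 2, 1, 0, 2, 1, 0, 2, 1, 0] 1 8000 2000 = true := by decide +kernel

theorem chk_pow22_0_5 : tab.minOKc [4, 2, 1, 0, 2, 1, 0, 2, 1, 0] 1 10000 2000 = true := by decide +kernel

theorem chk_pow22_0_6 : tab.minOKc [4, 2, 1, 0, 2, 1, 0, 2, 1, 0] 1 12000 2000 = true := by decide +kernel

theorem chk_pow22_0_7 : tab.minOKc [4, 2, 1, 0, 2, 1, 0, 2, 1, 0] 1 14000 2000 = true := by decide +kernel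

theorem chk_pow22_0_8 : tab.minOKc [4, 2, 1, 0, 2, 1, 0, 2, 1, 0] 1 16000 2000 = true := by decide +kernel

theorem chk_pow22_0_9 : tab.minOKc [4, 2, 1, 0, 2, 1, 0, 2, 1, 0] 1 18000 2000 = true := by decide +kernel

theorem chk_pow22_0_10 : tab.minOKc [4, 2, 1, 0, 2, 1, 0, 2, 1, 0] 1 20000 2000 = true := by decide +kernel

theorem chk_pow22_0_11 : tab.minOKc [4, 2, 1, 0, 2, 1, 0, 2, 1, 0] 1 22000 2000 = true := by decide +kernel

theorem chk_pow22_0_12 : tab.minOKc [4, 2, 1, 0, 2, 1, 0, 2, 1, 0] 1 24000 2000 = true := by decide +kernel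

theorem chk_pow22_0_13 : tab.minOKc [4, 2, 1, 0, 2, 1, 0, 2, 1, 0] 1 26000 2000 = true := by decide +kernel

theorem chk_pow22_0_14 : tab.minOKc [4, 2, 1, 0, 2, 1, 0, 2, 1, 0] 1 28000 2000 = true := by decide +kernel

theorem chk_pow22_0 : tab.minOKc [4, 2, 1, 0, 2, 1, 0, 2, 1, 0] 1 0 30000 = true := by
  refine tab.minOKc_of_chunks [4, 2, 1, 0, 2, 1, 0, 2, 1, 0] 1 0 2000 15 (by norm_num) ?_
  intro i hi
  interval_cases i
  · exact chk_pow22_0_0
  · exact chk_pow22_0_1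
  · exact chk_pow22_0_2
  · exact chk_pow22_0_3
  · exact chk_pow22_0_4
  · exact chk_pow22_0_5
  · exact chk_pow22_0_6
  · exact chk_pow22_0_7
  · exact chk_pow22_0_8
  · exact chk_pow22_0_9
  · exact chk_pow22_0_10
  · exact chk_pow22_0_11
  · exact chk_pow22_0_12
  · exact chk_pow22_0_13
  · exact chk_pow22_0_14

end Cfsg.Agent.Lib.Helper6.HeBTC
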