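import Cfsg.Agent.Lib.Helper6.HeBTCData
import Cfsg.Agent.Lib.Helper6.TCRel3
import Cfsg.Agent.Lib.Helper6.HeBTCRel29

/-! # HeB: the kernel check of a part of the relators on the coset table -/

set_option autoImplicit false

namespace Cfsg.Agent.Lib.Helper6.HeBTC

open Cfsg.Agent.Lib.Helper6.TC

theorem chk_pow22_5_0 : tab.minOKc [4, 2, 1, 0, 2, 1, 0, 2, 1, 0] 1 150000 2000 = true := by decide +kernel

theorem chk_pow22_5_1 : tab.minOKc [4, 2, 1, 0, 2, 1, 0, 2, 1, 0] 1 152000 2000 = true := by decide +kernel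

theorem chk_pow22_5_2 : tab.minOKc [4, 2, 1, 0, 2, 1, 0, 2, 1, 0] 1 154000 2000 = true := by decide +kernel

theorem chk_pow22_5_3 : tab.minOKc [4, 2, 1, 0, 2, 1, 0, 2, 1, 0] 1 156000 2000 = true := by decide +kernel

theorem chk_pow22_5_4 : tab.minOKc [4, 2, 1, 0, 2, 1, 0, 2, 1, 0] 1 158000 2000 = true := by decide +kernel

theorem chk_pow22_5_5 : tab.minOKc [4, 2, 1, 0, 2, 1, 0, 2, 1, 0] 1 160000 2000 = true := by decide +kernel

theorem chk_pow22_5_6 : tab.minOKc [4, 2, 1, 0, 2, 1, 0, 2, 1, 0] 1 162000 2000 = true := by decide +kernel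

theorem chk_pow22_5_7 : tab.minOKc [4, 2, 1, 0, 2, 1, 0, 2, 1, 0] 1 164000 2000 = true := by decide +kernel

theorem chk_pow22_5_8 : tab.minOKc [4, 2, 1, 0, 2, 1, 0, 2, 1, 0] 1 166000 2000 = true := by decide +kernel

theorem chk_pow22_5_9 : tab.minOKc [4, 2, 1, 0, 2, 1, 0, 2, 1, 0] 1 168000 2000 = true := by decide +kernel

theorem chk_pow22_5_10 : tab.minOKc [4, 2, 1, 0, 2, 1, 0, 2, 1, 0] 1 170000 2000 = true := by decide +kernel

theorem chk_pow22_5_11 : tab.minOKc [4, 2, 1, 0, 2, 1, 0, 2, 1, 0] 1 172000 2000 = true := by decide +kernel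

theorem chk_pow22_5_12 : tab.minOKc [4, 2, 1, 0, 2, 1, 0, 2, 1, 0] 1 174000 2000 = true := by decide +kernel

theorem chk_pow22_5_13 : tab.minOKc [4, 2, 1, 0, 2, 1, 0, 2, 1, 0] 1 176000 2000 = true := by decide +kernel

theorem chk_pow22_5_14 : tab.minOKc [4, 2, 1, 0, 2, 1, 0, 2, 1, 0] 1 178000 2000 = true := by decide +kernel

theorem chk_pow22_5 : tab.minOKc [4, 2, 1, 0, 2, 1, 0, 2, 1, 0] 1 150000 30000 = true := by
  refine tab.minOKc_of_chunks [4, 2, 1, 0, 2, 1, 0, 2, 1, 0] 1 150000 2000 15 (by norm_num) ?_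
  intro i hi
  interval_cases i
  · exact chk_pow22_5_0
  · exact chk_pow22_5_1
  · exact chk_pow22_5_2
  · exact chk_pow22_5_3
  · exact chk_pow22_5_4
  · exact chk_pow22_5_5
  · exact chk_pow22_5_6
  · exact chk_pow22_5_7
  · exact chk_pow22_5_8
  · exact chk_pow22_5_9
  · exact chk_pow22_5_10
  · exact chk_pow22_5_11
  · exact chk_pow22_5_12
  · exact chk_pow22_5_13
  · exact chk_pow22_5_14

theorem chk_pow22_6_0 : tab.minOKc [4, 2, 1, 0, 2, 1, 0, 2, 1, 0] 1 180000 2000 = true := by decide +kernel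

theorem chk_pow22_6_1 : tab.minOKc [4, 2, 1, 0, 2, 1, 0, 2, 1, 0] 1 182000 2000 = true := by decide +kernel

theorem chk_pow22_6_2 : tab.minOKc [4, 2, 1, 0, 2, 1, 0, 2, 1, 0] 1 184000 2000 = true := by decide +kernel

theorem chk_pow22_6_3 : tab.minOKc [4, 2, 1, 0, 2, 1, 0, 2, 1, 0] 1 186000 2000 = true := by decide +kernel

theorem chk_pow22_6_4 : tab.minOKc [4, 2, 1, 0, 2, 1, 0, 2, 1, 0] 1 188000 2000 = true := by decide +kernel

theorem chk_pow22_6_5 : tab.minOKc [4, 2, 1, 0, 2, 1, 0, 2, 1, 0] 1 190000 2000 = true := by decide +kernel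

theorem chk_pow22_6_6 : tab.minOKc [4, 2, 1, 0, 2, 1, 0, 2, 1, 0] 1 192000 2000 = true := by decide +kernel

theorem chk_pow22_6_7 : tab.minOKc [4, 2, 1, 0, 2, 1, 0, 2, 1, 0] 1 194000 2000 = true := by decide +kernel

theorem chk_pow22_6_8 : tab.minOKc [4, 2, 1, 0, 2, 1, 0, 2, 1, 0] 1 196000 2000 = true := by decide +kernel

theorem chk_pow22_6_9 : tab.minOKc [4, 2, 1, 0, 2, 1, 0, 2, 1, 0] 1 198000 2000 = true := by decide +kernel

theorem chk_pow22_6_10 : tab.minOKc [4, 2, 1, 0, 2, 1, 0, 2, 1, 0] 1 200000 2000 = true := by decide +kernel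

theorem chk_pow22_6_11 : tab.minOKc [4, 2, 1, 0, 2, 1, 0, 2, 1, 0] 1 202000 2000 = true := by decide +kernel

theorem chk_pow22_6_12 : tab.minOKc [4, 2, 1, 0, 2, 1, 0, 2, 1, 0] 1 204000 2000 = true := by decide +kernel

theorem chk_pow22_6_13 : tab.minOKc [4, 2, 1, 0, 2, 1, 0, 2, 1, 0] 1 206000 2000 = true := by decide +kernel

theorem chk_pow22_6_14 : tab.minOKc [4, 2, 1, 0, 2, 1, 0, 2, 1, 0] 1 208000 2000 = true := by decide +kernel

theorem chk_pow22_6 : tab.minOKc [4, 2, 1, 0, 2, 1, 0, 2, 1, 0] 1 180000 30000 = true := by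
  refine tab.minOKc_of_chunks [4, 2, 1, 0, 2, 1, 0, 2, 1, 0] 1 180000 2000 15 (by norm_num) ?_
  intro i hi
  interval_cases i
  · exact chk_pow22_6_0
  · exact chk_pow22_6_1
  · exact chk_pow22_6_2
  · exact chk_pow22_6_3
  · exact chk_pow22_6_4
  · exact chk_pow22_6_5
  · exact chk_pow22_6_6
  · exact chk_pow22_6_7
  · exact chk_pow22_6_8
  · exact chk_pow22_6_9
  · exact chk_pow22_6_10
  · exact chk_pow22_6_11
  · exact chk_pow22_6_12
  · exact chk_pow22_6_13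
  · exact chk_pow22_6_14

end Cfsg.Agent.Lib.Helper6.HeBTC
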