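import Cfsg.Agent.Lib.Helper6.HeBTCData
import Cfsg.Agent.Lib.Helper6.TCRel3
import Cfsg.Agent.Lib.Helper6.HeBTCRel30

/-! # HeB: the kernel check of a part of the relators on the coset table -/

set_option autoImplicit false

namespace Cfsg.Agent.Lib.Helper6.HeBTC

open Cfsg.Agent.Lib.Helper6.TC

theorem chk_pow22_7_0 : tab.minOKc [4, 2, 1, 0, 2, 1, 0, 2, 1, 0] 1 210000 2000 = true := by decide +kernel

theorem chk_pow22_7_1 : tab.minOKc [4, 2, 1, 0, 2, 1, 0, 2, 1, 0] 1 212000 2000 = true := by decide +kernel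

theorem chk_pow22_7_2 : tab.minOKc [4, 2, 1, 0, 2, 1, 0, 2, 1, 0] 1 214000 2000 = true := by decide +kernel

theorem chk_pow22_7_3 : tab.minOKc [4, 2, 1, 0, 2, 1, 0, 2, 1, 0] 1 216000 2000 = true := by decide +kernel

theorem chk_pow22_7_4 : tab.minOKc [4, 2, 1, 0, 2, 1, 0, 2, 1, 0] 1 218000 2000 = true := by decide +kernel

theorem chk_pow22_7_5 : tab.minOKc [4, 2, 1, 0, 2, 1, 0, 2, 1, 0] 1 220000 2000 = true := by decide +kernel

theorem chk_pow22_7_6 : tab.minOKc [4, 2, 1, 0, 2, 1, 0, 2, 1, 0] 1 222000 2000 = true := by decide +kernel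

theorem chk_pow22_7_7 : tab.minOKc [4, 2, 1, 0, 2, 1, 0, 2, 1, 0] 1 224000 2000 = true := by decide +kernel

theorem chk_pow22_7_8 : tab.minOKc [4, 2, 1, 0, 2, 1, 0, 2, 1, 0] 1 226000 2000 = true := by decide +kernel

theorem chk_pow22_7_9 : tab.minOKc [4, 2, 1, 0, 2, 1, 0, 2, 1, 0] 1 228000 2000 = true := by decide +kernel

theorem chk_pow22_7_10 : tab.minOKc [4, 2, 1, 0, 2, 1, 0, 2, 1, 0] 1 230000 2000 = true := by decide +kernel

theorem chk_pow22_7_11 : tab.minOKc [4, 2, 1, 0, 2, 1, 0, 2, 1, 0] 1 232000 2000 = true := by decide +kernel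

theorem chk_pow22_7_12 : tab.minOKc [4, 2, 1, 0, 2, 1, 0, 2, 1, 0] 1 234000 2000 = true := by decide +kernel

theorem chk_pow22_7_13 : tab.minOKc [4, 2, 1, 0, 2, 1, 0, 2, 1, 0] 1 236000 2000 = true := by decide +kernel

theorem chk_pow22_7_14 : tab.minOKc [4, 2, 1, 0, 2, 1, 0, 2, 1, 0] 1 238000 2000 = true := by decide +kernel

theorem chk_pow22_7 : tab.minOKc [4, 2, 1, 0, 2, 1, 0, 2, 1, 0] 1 210000 30000 = true := by
  refine tab.minOKc_of_chunks [4, 2, 1, 0, 2, 1, 0, 2, 1, 0] 1 210000 2000 15 (by norm_num) ?_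
  intro i hi
  interval_cases i
  · exact chk_pow22_7_0
  · exact chk_pow22_7_1
  · exact chk_pow22_7_2
  · exact chk_pow22_7_3
  · exact chk_pow22_7_4
  · exact chk_pow22_7_5
  · exact chk_pow22_7_6
  · exact chk_pow22_7_7
  · exact chk_pow22_7_8
  · exact chk_pow22_7_9
  · exact chk_pow22_7_10
  · exact chk_pow22_7_11
  · exact chk_pow22_7_12
  · exact chk_pow22_7_13
  · exact chk_pow22_7_14

theorem chk_pow22_8_0 : tab.minOKc [4, 2, 1, 0, 2, 1, 0, 2, 1, 0] 1 240000 2000 = true := by decide +kernel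

theorem chk_pow22_8_1 : tab.minOKc [4, 2, 1, 0, 2, 1, 0, 2, 1, 0] 1 242000 2000 = true := by decide +kernel

theorem chk_pow22_8_2 : tab.minOKc [4, 2, 1, 0, 2, 1, 0, 2, 1, 0] 1 244000 2000 = true := by decide +kernel

theorem chk_pow22_8_3 : tab.minOKc [4, 2, 1, 0, 2, 1, 0, 2, 1, 0] 1 246000 2000 = true := by decide +kernel

theorem chk_pow22_8_4 : tab.minOKc [4, 2, 1, 0, 2, 1, 0, 2, 1, 0] 1 248000 2000 = true := by decide +kernel

theorem chk_pow22_8_5 : tab.minOKc [4, 2, 1, 0, 2, 1, 0, 2, 1, 0] 1 250000 2000 = true := by decide +kernel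

theorem chk_pow22_8_6 : tab.minOKc [4, 2, 1, 0, 2, 1, 0, 2, 1, 0] 1 252000 2000 = true := by decide +kernel

theorem chk_pow22_8_7 : tab.minOKc [4, 2, 1, 0, 2, 1, 0, 2, 1, 0] 1 254000 2000 = true := by decide +kernel

theorem chk_pow22_8_8 : tab.minOKc [4, 2, 1, 0, 2, 1, 0, 2, 1, 0] 1 256000 2000 = true := by decide +kernel

theorem chk_pow22_8_9 : tab.minOKc [4, 2, 1, 0, 2, 1, 0, 2, 1, 0] 1 258000 2000 = true := by decide +kernel

theorem chk_pow22_8_10 : tab.minOKc [4, 2, 1, 0, 2, 1, 0, 2, 1, 0] 1 260000 2000 = true := by decide +kernel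

theorem chk_pow22_8_11 : tab.minOKc [4, 2, 1, 0, 2, 1, 0, 2, 1, 0] 1 262000 2000 = true := by decide +kernel

theorem chk_pow22_8_12 : tab.minOKc [4, 2, 1, 0, 2, 1, 0, 2, 1, 0] 1 264000 2000 = true := by decide +kernel

theorem chk_pow22_8_13 : tab.minOKc [4, 2, 1, 0, 2, 1, 0, 2, 1, 0] 1 266000 2000 = true := by decide +kernel

theorem chk_pow22_8_14 : tab.minOKc [4, 2, 1, 0, 2, 1, 0, 2, 1, 0] 1 268000 2000 = true := by decide +kernel

theorem chk_pow22_8 : tab.minOKc [4, 2, 1, 0, 2, 1, 0, 2, 1, 0] 1 240000 30000 = true := by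
  refine tab.minOKc_of_chunks [4, 2, 1, 0, 2, 1, 0, 2, 1, 0] 1 240000 2000 15 (by norm_num) ?_
  intro i hi
  interval_cases i
  · exact chk_pow22_8_0
  · exact chk_pow22_8_1
  · exact chk_pow22_8_2
  · exact chk_pow22_8_3
  · exact chk_pow22_8_4
  · exact chk_pow22_8_5
  · exact chk_pow22_8_6
  · exact chk_pow22_8_7
  · exact chk_pow22_8_8
  · exact chk_pow22_8_9
  · exact chk_pow22_8_10
  · exact chk_pow22_8_11
  · exact chk_pow22_8_12
  · exact chk_pow22_8_13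
  · exact chk_pow22_8_14

end Cfsg.Agent.Lib.Helper6.HeBTC
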