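import Cfsg.Agent.Lib.Helper6.HeBTCData
import Cfsg.Agent.Lib.Helper6.TCRel3
import Cfsg.Agent.Lib.Helper6.HeBTCRel31

/-! # HeB: the kernel check of a part of the relators on the coset table -/

set_option autoImplicit false

namespace Cfsg.Agent.Lib.Helper6.HeBTC

open Cfsg.Agent.Lib.Helper6.TC

theorem chk_pow23_0_0 : tab.minOKc [0, 3, 2, 3, 2, 3, 2, 3, 2, 3, 2] 1 0 1818 = true := by decide +kernel

theorem chk_pow23_0_1 : tab.minOKc [0, 3, 2, 3, 2, 3, 2, 3, 2, 3, 2] 1 1818 1818 = true := by decide +kernel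

theorem chk_pow23_0_2 : tab.minOKc [0, 3, 2, 3, 2, 3, 2, 3, 2, 3, 2] 1 3636 1818 = true := by decide +kernel

theorem chk_pow23_0_3 : tab.minOKc [0, 3, 2, 3, 2, 3, 2, 3, 2, 3, 2] 1 5454 1818 = true := by decide +kernel

theorem chk_pow23_0_4 : tab.minOKc [0, 3, 2, 3, 2, 3, 2, 3, 2, 3, 2] 1 7272 1818 = true := by decide +kernel

theorem chk_pow23_0_5 : tab.minOKc [0, 3, 2, 3, 2, 3, 2, 3, 2, 3, 2] 1 9090 1818 = true := by decide +kernel

theorem chk_pow23_0_6 : tab.minOKc [0, 3, 2, 3, 2, 3, 2, 3, 2, 3, 2] 1 10908 1818 = true := by decide +kernel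

theorem chk_pow23_0_7 : tab.minOKc [0, 3, 2, 3, 2, 3, 2, 3, 2, 3, 2] 1 12726 1818 = true := by decide +kernel

theorem chk_pow23_0_8 : tab.minOKc [0, 3, 2, 3, 2, 3, 2, 3, 2, 3, 2] 1 14544 1818 = true := by decide +kernel

theorem chk_pow23_0_9 : tab.minOKc [0, 3, 2, 3, 2, 3, 2, 3, 2, 3, 2] 1 16362 1818 = true := by decide +kernel

theorem chk_pow23_0_10 : tab.minOKc [0, 3, 2, 3, 2, 3, 2, 3, 2, 3, 2] 1 18180 1818 = true := by decide +kernel

theorem chk_pow23_0_11 : tab.minOKc [0, 3, 2, 3, 2, 3, 2, 3, 2, 3, 2] 1 19998 1818 = true := by decide +kernel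

theorem chk_pow23_0_12 : tab.minOKc [0, 3, 2, 3, 2, 3, 2, 3, 2, 3, 2] 1 21816 1818 = true := by decide +kernel

theorem chk_pow23_0_13 : tab.minOKc [0, 3, 2, 3, 2, 3, 2, 3, 2, 3, 2] 1 23634 1818 = true := by decide +kernel

theorem chk_pow23_0_14 : tab.minOKc [0, 3, 2, 3, 2, 3, 2, 3, 2, 3, 2] 1 25452 1818 = true := by decide +kernel

theorem chk_pow23_0 : tab.minOKc [0, 3, 2, 3, 2, 3, 2, 3, 2, 3, 2] 1 0 27270 = true := by
  refine tab.minOKc_of_chunks [0, 3, 2, 3, 2, 3, 2, 3, 2, 3, 2] 1 0 1818 15 (by norm_num) ?_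
  intro i hi
  interval_cases i
  · exact chk_pow23_0_0
  · exact chk_pow23_0_1
  · exact chk_pow23_0_2
  · exact chk_pow23_0_3
  · exact chk_pow23_0_4
  · exact chk_pow23_0_5
  · exact chk_pow23_0_6
  · exact chk_pow23_0_7
  · exact chk_pow23_0_8
  · exact chk_pow23_0_9
  · exact chk_pow23_0_10
  · exact chk_pow23_0_11
  · exact chk_pow23_0_12
  · exact chk_pow23_0_13
  · exact chk_pow23_0_14

theorem chk_pow23_1_0 : tab.minOKc [0, 3, 2, 3, 2, 3, 2, 3, 2, 3, 2] 1 27270 1818 = true := by decide +kernel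

theorem chk_pow23_1_1 : tab.minOKc [0, 3, 2, 3, 2, 3, 2, 3, 2, 3, 2] 1 29088 1818 = true := by decide +kernel

theorem chk_pow23_1_2 : tab.minOKc [0, 3, 2, 3, 2, 3, 2, 3, 2, 3, 2] 1 30906 1818 = true := by decide +kernel

theorem chk_pow23_1_3 : tab.minOKc [0, 3, 2, 3, 2, 3, 2, 3, 2, 3, 2] 1 32724 1818 = true := by decide +kernel

theorem chk_pow23_1_4 : tab.minOKc [0, 3, 2, 3, 2, 3, 2, 3, 2, 3, 2] 1 34542 1818 = true := by decide +kernel

theorem chk_pow23_1_5 : tab.minOKc [0, 3, 2, 3, 2, 3, 2, 3, 2, 3, 2] 1 36360 1818 = true := by decide +kernel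

theorem chk_pow23_1_6 : tab.minOKc [0, 3, 2, 3, 2, 3, 2, 3, 2, 3, 2] 1 38178 1818 = true := by decide +kernel

theorem chk_pow23_1_7 : tab.minOKc [0, 3, 2, 3, 2, 3, 2, 3, 2, 3, 2] 1 39996 1818 = true := by decide +kernel

theorem chk_pow23_1_8 : tab.minOKc [0, 3, 2, 3, 2, 3, 2, 3, 2, 3, 2] 1 41814 1818 = true := by decide +kernel

theorem chk_pow23_1_9 : tab.minOKc [0, 3, 2, 3, 2, 3, 2, 3, 2, 3, 2] 1 43632 1818 = true := by decide +kernel

theorem chk_pow23_1_10 : tab.minOKc [0, 3, 2, 3, 2, 3, 2, 3, 2, 3, 2] 1 45450 1818 = true := by decide +kernel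

theorem chk_pow23_1_11 : tab.minOKc [0, 3, 2, 3, 2, 3, 2, 3, 2, 3, 2] 1 47268 1818 = true := by decide +kernel

theorem chk_pow23_1_12 : tab.minOKc [0, 3, 2, 3, 2, 3, 2, 3, 2, 3, 2] 1 49086 1818 = true := by decide +kernel

theorem chk_pow23_1_13 : tab.minOKc [0, 3, 2, 3, 2, 3, 2, 3, 2, 3, 2] 1 50904 1818 = true := by decide +kernel

theorem chk_pow23_1_14 : tab.minOKc [0, 3, 2, 3, 2, 3, 2, 3, 2, 3, 2] 1 52722 1818 = true := by decide +kernel

theorem chk_pow23_1 : tab.minOKc [0, 3, 2, 3, 2, 3, 2, 3, 2, 3, 2] 1 27270 27270 = true := by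
  refine tab.minOKc_of_chunks [0, 3, 2, 3, 2, 3, 2, 3, 2, 3, 2] 1 27270 1818 15 (by norm_num) ?_
  intro i hi
  interval_cases i
  · exact chk_pow23_1_0
  · exact chk_pow23_1_1
  · exact chk_pow23_1_2
  · exact chk_pow23_1_3
  · exact chk_pow23_1_4
  · exact chk_pow23_1_5
  · exact chk_pow23_1_6
  · exact chk_pow23_1_7
  · exact chk_pow23_1_8
  · exact chk_pow23_1_9
  · exact chk_pow23_1_10
  · exact chk_pow23_1_11
  · exact chk_pow23_1_12
  · exact chk_pow23_1_13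
  · exact chk_pow23_1_14

end Cfsg.Agent.Lib.Helper6.HeBTC
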