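import Cfsg.Agent.Lib.Helper6.HeBTCData
import Cfsg.Agent.Lib.Helper6.TCRel3
import Cfsg.Agent.Lib.Helper6.HeBTCRel33

/-! # HeB: the kernel check of a part of the relators on the coset table -/

set_option autoImplicit false

namespace Cfsg.Agent.Lib.Helper6.HeBTC

open Cfsg.Agent.Lib.Helper6.TC

theorem chk_pow23_4_0 : tab.minOKc [0, 3, 2, 3, 2, 3, 2, 3, 2, 3, 2] 1 109080 1818 = true := by decide +kernel

theorem chk_pow23_4_1 : tab.minOKc [0, 3, 2, 3, 2, 3, 2, 3, 2, 3, 2] 1 110898 1818 = true := by decide +kernel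

theorem chk_pow23_4_2 : tab.minOKc [0, 3, 2, 3, 2, 3, 2, 3, 2, 3, 2] 1 112716 1818 = true := by decide +kernel

theorem chk_pow23_4_3 : tab.minOKc [0, 3, 2, 3, 2, 3, 2, 3, 2, 3, 2] 1 114534 1818 = true := by decide +kernel

theorem chk_pow23_4_4 : tab.minOKc [0, 3, 2, 3, 2, 3, 2, 3, 2, 3, 2] 1 116352 1818 = true := by decide +kernel

theorem chk_pow23_4_5 : tab.minOKc [0, 3, 2, 3, 2, 3, 2, 3, 2, 3, 2] 1 118170 1818 = true := by decide +kernel

theorem chk_pow23_4_6 : tab.minOKc [0, 3, 2, 3, 2, 3, 2, 3, 2, 3, 2] 1 119988 1818 = true := by decide +kernel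

theorem chk_pow23_4_7 : tab.minOKc [0, 3, 2, 3, 2, 3, 2, 3, 2, 3, 2] 1 121806 1818 = true := by decide +kernel

theorem chk_pow23_4_8 : tab.minOKc [0, 3, 2, 3, 2, 3, 2, 3, 2, 3, 2] 1 123624 1818 = true := by decide +kernel

theorem chk_pow23_4_9 : tab.minOKc [0, 3, 2, 3, 2, 3, 2, 3, 2, 3, 2] 1 125442 1818 = true := by decide +kernel

theorem chk_pow23_4_10 : tab.minOKc [0, 3, 2, 3, 2, 3, 2, 3, 2, 3, 2] 1 127260 1818 = true := by decide +kernel

theorem chk_pow23_4_11 : tab.minOKc [0, 3, 2, 3, 2, 3, 2, 3, 2, 3, 2] 1 129078 1818 = true := by decide +kernel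

theorem chk_pow23_4_12 : tab.minOKc [0, 3, 2, 3, 2, 3, 2, 3, 2, 3, 2] 1 130896 1818 = true := by decide +kernel

theorem chk_pow23_4_13 : tab.minOKc [0, 3, 2, 3, 2, 3, 2, 3, 2, 3, 2] 1 132714 1818 = true := by decide +kernel

theorem chk_pow23_4_14 : tab.minOKc [0, 3, 2, 3, 2, 3, 2, 3, 2, 3, 2] 1 134532 1818 = true := by decide +kernel

theorem chk_pow23_4 : tab.minOKc [0, 3, 2, 3, 2, 3, 2, 3, 2, 3, 2] 1 109080 27270 = true := by
  refine tab.minOKc_of_chunks [0, 3, 2, 3, 2, 3, 2, 3, 2, 3, 2] 1 109080 1818 15 (by norm_num) ?_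
  intro i hi
  interval_cases i
  · exact chk_pow23_4_0
  · exact chk_pow23_4_1
  · exact chk_pow23_4_2
  · exact chk_pow23_4_3
  · exact chk_pow23_4_4
  · exact chk_pow23_4_5
  · exact chk_pow23_4_6
  · exact chk_pow23_4_7
  · exact chk_pow23_4_8
  · exact chk_pow23_4_9
  · exact chk_pow23_4_10
  · exact chk_pow23_4_11
  · exact chk_pow23_4_12
  · exact chk_pow23_4_13
  · exact chk_pow23_4_14

theorem chk_pow23_5_0 : tab.minOKc [0, 3, 2, 3, 2, 3, 2, 3, 2, 3, 2] 1 136350 1818 = true := by decide +kernel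

theorem chk_pow23_5_1 : tab.minOKc [0, 3, 2, 3, 2, 3, 2, 3, 2, 3, 2] 1 138168 1818 = true := by decide +kernel

theorem chk_pow23_5_2 : tab.minOKc [0, 3, 2, 3, 2, 3, 2, 3, 2, 3, 2] 1 139986 1818 = true := by decide +kernel

theorem chk_pow23_5_3 : tab.minOKc [0, 3, 2, 3, 2, 3, 2, 3, 2, 3, 2] 1 141804 1818 = true := by decide +kernel

theorem chk_pow23_5_4 : tab.minOKc [0, 3, 2, 3, 2, 3, 2, 3, 2, 3, 2] 1 143622 1818 = true := by decide +kernel

theorem chk_pow23_5_5 : tab.minOKc [0, 3, 2, 3, 2, 3, 2, 3, 2, 3, 2] 1 145440 1818 = true := by decide +kernel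

theorem chk_pow23_5_6 : tab.minOKc [0, 3, 2, 3, 2, 3, 2, 3, 2, 3, 2] 1 147258 1818 = true := by decide +kernel

theorem chk_pow23_5_7 : tab.minOKc [0, 3, 2, 3, 2, 3, 2, 3, 2, 3, 2] 1 149076 1818 = true := by decide +kernel

theorem chk_pow23_5_8 : tab.minOKc [0, 3, 2, 3, 2, 3, 2, 3, 2, 3, 2] 1 150894 1818 = true := by decide +kernel

theorem chk_pow23_5_9 : tab.minOKc [0, 3, 2, 3, 2, 3, 2, 3, 2, 3, 2] 1 152712 1818 = true := by decide +kernel

theorem chk_pow23_5_10 : tab.minOKc [0, 3, 2, 3, 2, 3, 2, 3, 2, 3, 2] 1 154530 1818 = true := by decide +kernel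

theorem chk_pow23_5_11 : tab.minOKc [0, 3, 2, 3, 2, 3, 2, 3, 2, 3, 2] 1 156348 1818 = true := by decide +kernel

theorem chk_pow23_5_12 : tab.minOKc [0, 3, 2, 3, 2, 3, 2, 3, 2, 3, 2] 1 158166 1818 = true := by decide +kernel

theorem chk_pow23_5_13 : tab.minOKc [0, 3, 2, 3, 2, 3, 2, 3, 2, 3, 2] 1 159984 1818 = true := by decide +kernel

theorem chk_pow23_5_14 : tab.minOKc [0, 3, 2, 3, 2, 3, 2, 3, 2, 3, 2] 1 161802 1818 = true := by decide +kernel

theorem chk_pow23_5 : tab.minOKc [0, 3, 2, 3, 2, 3, 2, 3, 2, 3, 2] 1 136350 27270 = true := by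
  refine tab.minOKc_of_chunks [0, 3, 2, 3, 2, 3, 2, 3, 2, 3, 2] 1 136350 1818 15 (by norm_num) ?_
  intro i hi
  interval_cases i
  · exact chk_pow23_5_0
  · exact chk_pow23_5_1
  · exact chk_pow23_5_2
  · exact chk_pow23_5_3
  · exact chk_pow23_5_4
  · exact chk_pow23_5_5
  · exact chk_pow23_5_6
  · exact chk_pow23_5_7
  · exact chk_pow23_5_8
  · exact chk_pow23_5_9
  · exact chk_pow23_5_10
  · exact chk_pow23_5_11
  · exact chk_pow23_5_12
  · exact chk_pow23_5_13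
  · exact chk_pow23_5_14

end Cfsg.Agent.Lib.Helper6.HeBTC
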