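import Cfsg.Agent.Lib.Helper6.HeBTCData
import Cfsg.Agent.Lib.Helper6.TCRel3
import Cfsg.Agent.Lib.Helper6.HeBTCRel35

/-! # HeB: the kernel check of a part of the relators on the coset table -/

set_option autoImplicit false

namespace Cfsg.Agent.Lib.Helper6.HeBTC

open Cfsg.Agent.Lib.Helper6.TC

theorem chk_pow23_8_0 : tab.minOKc [0, 3, 2, 3, 2, 3, 2, 3, 2, 3, 2] 1 218160 1818 = true := by decide +kernel

theorem chk_pow23_8_1 : tab.minOKc [0, 3, 2, 3, 2, 3, 2, 3, 2, 3, 2] 1 219978 1818 = true := by decide +kernel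

theorem chk_pow23_8_2 : tab.minOKc [0, 3, 2, 3, 2, 3, 2, 3, 2, 3, 2] 1 221796 1818 = true := by decide +kernel

theorem chk_pow23_8_3 : tab.minOKc [0, 3, 2, 3, 2, 3, 2, 3, 2, 3, 2] 1 223614 1818 = true := by decide +kernel

theorem chk_pow23_8_4 : tab.minOKc [0, 3, 2, 3, 2, 3, 2, 3, 2, 3, 2] 1 225432 1818 = true := by decide +kernel

theorem chk_pow23_8_5 : tab.minOKc [0, 3, 2, 3, 2, 3, 2, 3, 2, 3, 2] 1 227250 1818 = true := by decide +kernel

theorem chk_pow23_8_6 : tab.minOKc [0, 3, 2, 3, 2, 3, 2, 3, 2, 3, 2] 1 229068 1818 = true := by decide +kernel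

theorem chk_pow23_8_7 : tab.minOKc [0, 3, 2, 3, 2, 3, 2, 3, 2, 3, 2] 1 230886 1818 = true := by decide +kernel

theorem chk_pow23_8_8 : tab.minOKc [0, 3, 2, 3, 2, 3, 2, 3, 2, 3, 2] 1 232704 1818 = true := by decide +kernel

theorem chk_pow23_8_9 : tab.minOKc [0, 3, 2, 3, 2, 3, 2, 3, 2, 3, 2] 1 234522 1818 = true := by decide +kernel

theorem chk_pow23_8_10 : tab.minOKc [0, 3, 2, 3, 2, 3, 2, 3, 2, 3, 2] 1 236340 1818 = true := by decide +kernel

theorem chk_pow23_8_11 : tab.minOKc [0, 3, 2, 3, 2, 3, 2, 3, 2, 3, 2] 1 238158 1818 = true := by decide +kernel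

theorem chk_pow23_8_12 : tab.minOKc [0, 3, 2, 3, 2, 3, 2, 3, 2, 3, 2] 1 239976 1818 = true := by decide +kernel

theorem chk_pow23_8_13 : tab.minOKc [0, 3, 2, 3, 2, 3, 2, 3, 2, 3, 2] 1 241794 1818 = true := by decide +kernel

theorem chk_pow23_8_14 : tab.minOKc [0, 3, 2, 3, 2, 3, 2, 3, 2, 3, 2] 1 243612 1818 = true := by decide +kernel

theorem chk_pow23_8 : tab.minOKc [0, 3, 2, 3, 2, 3, 2, 3, 2, 3, 2] 1 218160 27270 = true := by
  refine tab.minOKc_of_chunks [0, 3, 2, 3, 2, 3, 2, 3, 2, 3, 2] 1 218160 1818 15 (by norm_num) ?_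
  intro i hi
  interval_cases i
  · exact chk_pow23_8_0
  · exact chk_pow23_8_1
  · exact chk_pow23_8_2
  · exact chk_pow23_8_3
  · exact chk_pow23_8_4
  · exact chk_pow23_8_5
  · exact chk_pow23_8_6
  · exact chk_pow23_8_7
  · exact chk_pow23_8_8
  · exact chk_pow23_8_9
  · exact chk_pow23_8_10
  · exact chk_pow23_8_11
  · exact chk_pow23_8_12
  · exact chk_pow23_8_13
  · exact chk_pow23_8_14

theorem chk_pow23_9_0 : tab.minOKc [0, 3, 2, 3, 2, 3, 2, 3, 2, 3, 2] 1 245430 1818 = true := by decide +kernel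

theorem chk_pow23_9_1 : tab.minOKc [0, 3, 2, 3, 2, 3, 2, 3, 2, 3, 2] 1 247248 1818 = true := by decide +kernel

theorem chk_pow23_9_2 : tab.minOKc [0, 3, 2, 3, 2, 3, 2, 3, 2, 3, 2] 1 249066 1818 = true := by decide +kernel

theorem chk_pow23_9_3 : tab.minOKc [0, 3, 2, 3, 2, 3, 2, 3, 2, 3, 2] 1 250884 1818 = true := by decide +kernel

theorem chk_pow23_9_4 : tab.minOKc [0, 3, 2, 3, 2, 3, 2, 3, 2, 3, 2] 1 252702 1818 = true := by decide +kernel

theorem chk_pow23_9_5 : tab.minOKc [0, 3, 2, 3, 2, 3, 2, 3, 2, 3, 2] 1 254520 1818 = true := by decide +kernel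

theorem chk_pow23_9_6 : tab.minOKc [0, 3, 2, 3, 2, 3, 2, 3, 2, 3, 2] 1 256338 1818 = true := by decide +kernel

theorem chk_pow23_9_7 : tab.minOKc [0, 3, 2, 3, 2, 3, 2, 3, 2, 3, 2] 1 258156 1818 = true := by decide +kernel

theorem chk_pow23_9_8 : tab.minOKc [0, 3, 2, 3, 2, 3, 2, 3, 2, 3, 2] 1 259974 1818 = true := by decide +kernel

theorem chk_pow23_9_9 : tab.minOKc [0, 3, 2, 3, 2, 3, 2, 3, 2, 3, 2] 1 261792 1818 = true := by decide +kernel

theorem chk_pow23_9_10 : tab.minOKc [0, 3, 2, 3, 2, 3, 2, 3, 2, 3, 2] 1 263610 1818 = true := by decide +kernel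

theorem chk_pow23_9_11 : tab.minOKc [0, 3, 2, 3, 2, 3, 2, 3, 2, 3, 2] 1 265428 1818 = true := by decide +kernel

theorem chk_pow23_9_12 : tab.minOKc [0, 3, 2, 3, 2, 3, 2, 3, 2, 3, 2] 1 267246 1818 = true := by decide +kernel

theorem chk_pow23_9_13 : tab.minOKc [0, 3, 2, 3, 2, 3, 2, 3, 2, 3, 2] 1 269064 1818 = true := by decide +kernel

theorem chk_pow23_9_14 : tab.minOKc [0, 3, 2, 3, 2, 3, 2, 3, 2, 3, 2] 1 270882 1818 = true := by decide +kernel

theorem chk_pow23_9 : tab.minOKc [0, 3, 2, 3, 2, 3, 2, 3, 2, 3, 2] 1 245430 27270 = true := by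
  refine tab.minOKc_of_chunks [0, 3, 2, 3, 2, 3, 2, 3, 2, 3, 2] 1 245430 1818 15 (by norm_num) ?_
  intro i hi
  interval_cases i
  · exact chk_pow23_9_0
  · exact chk_pow23_9_1
  · exact chk_pow23_9_2
  · exact chk_pow23_9_3
  · exact chk_pow23_9_4
  · exact chk_pow23_9_5
  · exact chk_pow23_9_6
  · exact chk_pow23_9_7
  · exact chk_pow23_9_8
  · exact chk_pow23_9_9
  · exact chk_pow23_9_10
  · exact chk_pow23_9_11
  · exact chk_pow23_9_12
  · exact chk_pow23_9_13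
  · exact chk_pow23_9_14

end Cfsg.Agent.Lib.Helper6.HeBTC
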