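import Cfsg.Agent.Lib.Helper6.HeBTCData
import Cfsg.Agent.Lib.Helper6.TCRel3
import Cfsg.Agent.Lib.Helper6.HeBTCRel36

/-! # HeB: the kernel check of a part of the relators on the coset table -/

set_option autoImplicit false

namespace Cfsg.Agent.Lib.Helper6.HeBTC

open Cfsg.Agent.Lib.Helper6.TC

theorem chk_pow24_0_0 : tab.minOKc [2, 3, 5, 6] 4 0 2423 = true := by decide +kernel

theorem chk_pow24_0_1 : tab.minOKc [2, 3, 5, 6] 4 2423 2423 = true := by decide +kernel

theorem chk_pow24_0_2 : tab.minOKc [2, 3, 5, 6] 4 4846 2423 = true := by decide +kernel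

theorem chk_pow24_0_3 : tab.minOKc [2, 3, 5, 6] 4 7269 2423 = true := by decide +kernel

theorem chk_pow24_0_4 : tab.minOKc [2, 3, 5, 6] 4 9692 2423 = true := by decide +kernel

theorem chk_pow24_0_5 : tab.minOKc [2, 3, 5, 6] 4 12115 2423 = true := by decide +kernel

theorem chk_pow24_0_6 : tab.minOKc [2, 3, 5, 6] 4 14538 2423 = true := by decide +kernel

theorem chk_pow24_0_7 : tab.minOKc [2, 3, 5, 6] 4 16961 2423 = true := by decide +kernel

theorem chk_pow24_0_8 : tab.minOKc [2, 3, 5, 6] 4 19384 2423 = true := by decide +kernel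

theorem chk_pow24_0_9 : tab.minOKc [2, 3, 5, 6] 4 21807 2423 = true := by decide +kernel

theorem chk_pow24_0_10 : tab.minOKc [2, 3, 5, 6] 4 24230 2423 = true := by decide +kernel

theorem chk_pow24_0_11 : tab.minOKc [2, 3, 5, 6] 4 26653 2423 = true := by decide +kernel

theorem chk_pow24_0_12 : tab.minOKc [2, 3, 5, 6] 4 29076 2423 = true := by decide +kernel

theorem chk_pow24_0_13 : tab.minOKc [2, 3, 5, 6] 4 31499 2423 = true := by decide +kernel

theorem chk_pow24_0_14 : tab.minOKc [2, 3, 5, 6] 4 33922 2423 = true := by decide +kernel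

theorem chk_pow24_0 : tab.minOKc [2, 3, 5, 6] 4 0 36345 = true := by
  refine tab.minOKc_of_chunks [2, 3, 5, 6] 4 0 2423 15 (by norm_num) ?_
  intro i hi
  interval_cases i
  · exact chk_pow24_0_0
  · exact chk_pow24_0_1
  · exact chk_pow24_0_2
  · exact chk_pow24_0_3
  · exact chk_pow24_0_4
  · exact chk_pow24_0_5
  · exact chk_pow24_0_6
  · exact chk_pow24_0_7
  · exact chk_pow24_0_8
  · exact chk_pow24_0_9
  · exact chk_pow24_0_10
  · exact chk_pow24_0_11
  · exact chk_pow24_0_12
  · exact chk_pow24_0_13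
  · exact chk_pow24_0_14

theorem chk_pow24_1_0 : tab.minOKc [2, 3, 5, 6] 4 36345 2423 = true := by decide +kernel

theorem chk_pow24_1_1 : tab.minOKc [2, 3, 5, 6] 4 38768 2423 = true := by decide +kernel

theorem chk_pow24_1_2 : tab.minOKc [2, 3, 5, 6] 4 41191 2423 = true := by decide +kernel

theorem chk_pow24_1_3 : tab.minOKc [2, 3, 5, 6] 4 43614 2423 = true := by decide +kernel

theorem chk_pow24_1_4 : tab.minOKc [2, 3, 5, 6] 4 46037 2423 = true := by decide +kernel

theorem chk_pow24_1_5 : tab.minOKc [2, 3, 5, 6] 4 48460 2423 = true := by decide +kernel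

theorem chk_pow24_1_6 : tab.minOKc [2, 3, 5, 6] 4 50883 2423 = true := by decide +kernel

theorem chk_pow24_1_7 : tab.minOKc [2, 3, 5, 6] 4 53306 2423 = true := by decide +kernel

theorem chk_pow24_1_8 : tab.minOKc [2, 3, 5, 6] 4 55729 2423 = true := by decide +kernel

theorem chk_pow24_1_9 : tab.minOKc [2, 3, 5, 6] 4 58152 2423 = true := by decide +kernel

theorem chk_pow24_1_10 : tab.minOKc [2, 3, 5, 6] 4 60575 2423 = true := by decide +kernel

theorem chk_pow24_1_11 : tab.minOKc [2, 3, 5, 6] 4 62998 2423 = true := by decide +kernel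

theorem chk_pow24_1_12 : tab.minOKc [2, 3, 5, 6] 4 65421 2423 = true := by decide +kernel

theorem chk_pow24_1_13 : tab.minOKc [2, 3, 5, 6] 4 67844 2423 = true := by decide +kernel

theorem chk_pow24_1_14 : tab.minOKc [2, 3, 5, 6] 4 70267 2423 = true := by decide +kernel

theorem chk_pow24_1 : tab.minOKc [2, 3, 5, 6] 4 36345 36345 = true := by
  refine tab.minOKc_of_chunks [2, 3, 5, 6] 4 36345 2423 15 (by norm_num) ?_
  intro i hi
  interval_cases i
  · exact chk_pow24_1_0
  · exact chk_pow24_1_1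
  · exact chk_pow24_1_2
  · exact chk_pow24_1_3
  · exact chk_pow24_1_4
  · exact chk_pow24_1_5
  · exact chk_pow24_1_6
  · exact chk_pow24_1_7
  · exact chk_pow24_1_8
  · exact chk_pow24_1_9
  · exact chk_pow24_1_10
  · exact chk_pow24_1_11
  · exact chk_pow24_1_12
  · exact chk_pow24_1_13
  · exact chk_pow24_1_14

end Cfsg.Agent.Lib.Helper6.HeBTC
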