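import Cfsg.Agent.Lib.Helper6.HeBTCData
import Cfsg.Agent.Lib.Helper6.TCRel3
import Cfsg.Agent.Lib.Helper6.HeBTCRel37

/-! # HeB: the kernel check of a part of the relators on the coset table -/

set_option autoImplicit false

namespace Cfsg.Agent.Lib.Helper6.HeBTC

open Cfsg.Agent.Lib.Helper6.TC

theorem chk_pow24_2_0 : tab.minOKc [2, 3, 5, 6] 4 72690 2423 = true := by decide +kernel

theorem chk_pow24_2_1 : tab.minOKc [2, 3, 5, 6] 4 75113 2423 = true := by decide +kernel

theorem chk_pow24_2_2 : tab.minOKc [2, 3, 5, 6] 4 77536 2423 = true := by decide +kernel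

theorem chk_pow24_2_3 : tab.minOKc [2, 3, 5, 6] 4 79959 2423 = true := by decide +kernel

theorem chk_pow24_2_4 : tab.minOKc [2, 3, 5, 6] 4 82382 2423 = true := by decide +kernel

theorem chk_pow24_2_5 : tab.minOKc [2, 3, 5, 6] 4 84805 2423 = true := by decide +kernel

theorem chk_pow24_2_6 : tab.minOKc [2, 3, 5, 6] 4 87228 2423 = true := by decide +kernel

theorem chk_pow24_2_7 : tab.minOKc [2, 3, 5, 6] 4 89651 2423 = true := by decide +kernel

theorem chk_pow24_2_8 : tab.minOKc [2, 3, 5, 6] 4 92074 2423 = true := by decide +kernel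

theorem chk_pow24_2_9 : tab.minOKc [2, 3, 5, 6] 4 94497 2423 = true := by decide +kernel

theorem chk_pow24_2_10 : tab.minOKc [2, 3, 5, 6] 4 96920 2423 = true := by decide +kernel

theorem chk_pow24_2_11 : tab.minOKc [2, 3, 5, 6] 4 99343 2423 = true := by decide +kernel

theorem chk_pow24_2_12 : tab.minOKc [2, 3, 5, 6] 4 101766 2423 = true := by decide +kernel

theorem chk_pow24_2_13 : tab.minOKc [2, 3, 5, 6] 4 104189 2423 = true := by decide +kernel

theorem chk_pow24_2_14 : tab.minOKc [2, 3, 5, 6] 4 106612 2423 = true := by decide +kernel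

theorem chk_pow24_2 : tab.minOKc [2, 3, 5, 6] 4 72690 36345 = true := by
  refine tab.minOKc_of_chunks [2, 3, 5, 6] 4 72690 2423 15 (by norm_num) ?_
  intro i hi
  interval_cases i
  · exact chk_pow24_2_0
  · exact chk_pow24_2_1
  · exact chk_pow24_2_2
  · exact chk_pow24_2_3
  · exact chk_pow24_2_4
  · exact chk_pow24_2_5
  · exact chk_pow24_2_6
  · exact chk_pow24_2_7
  · exact chk_pow24_2_8
  · exact chk_pow24_2_9
  · exact chk_pow24_2_10
  · exact chk_pow24_2_11
  · exact chk_pow24_2_12
  · exact chk_pow24_2_13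
  · exact chk_pow24_2_14

theorem chk_pow24_3_0 : tab.minOKc [2, 3, 5, 6] 4 109035 2423 = true := by decide +kernel

theorem chk_pow24_3_1 : tab.minOKc [2, 3, 5, 6] 4 111458 2423 = true := by decide +kernel

theorem chk_pow24_3_2 : tab.minOKc [2, 3, 5, 6] 4 113881 2423 = true := by decide +kernel

theorem chk_pow24_3_3 : tab.minOKc [2, 3, 5, 6] 4 116304 2423 = true := by decide +kernel

theorem chk_pow24_3_4 : tab.minOKc [2, 3, 5, 6] 4 118727 2423 = true := by decide +kernel

theorem chk_pow24_3_5 : tab.minOKc [2, 3, 5, 6] 4 121150 2423 = true := by decide +kernel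

theorem chk_pow24_3_6 : tab.minOKc [2, 3, 5, 6] 4 123573 2423 = true := by decide +kernel

theorem chk_pow24_3_7 : tab.minOKc [2, 3, 5, 6] 4 125996 2423 = true := by decide +kernel

theorem chk_pow24_3_8 : tab.minOKc [2, 3, 5, 6] 4 128419 2423 = true := by decide +kernel

theorem chk_pow24_3_9 : tab.minOKc [2, 3, 5, 6] 4 130842 2423 = true := by decide +kernel

theorem chk_pow24_3_10 : tab.minOKc [2, 3, 5, 6] 4 133265 2423 = true := by decide +kernel

theorem chk_pow24_3_11 : tab.minOKc [2, 3, 5, 6] 4 135688 2423 = true := by decide +kernel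

theorem chk_pow24_3_12 : tab.minOKc [2, 3, 5, 6] 4 138111 2423 = true := by decide +kernel

theorem chk_pow24_3_13 : tab.minOKc [2, 3, 5, 6] 4 140534 2423 = true := by decide +kernel

theorem chk_pow24_3_14 : tab.minOKc [2, 3, 5, 6] 4 142957 2423 = true := by decide +kernel

theorem chk_pow24_3 : tab.minOKc [2, 3, 5, 6] 4 109035 36345 = true := by
  refine tab.minOKc_of_chunks [2, 3, 5, 6] 4 109035 2423 15 (by norm_num) ?_
  intro i hi
  interval_cases i
  · exact chk_pow24_3_0
  · exact chk_pow24_3_1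
  · exact chk_pow24_3_2
  · exact chk_pow24_3_3
  · exact chk_pow24_3_4
  · exact chk_pow24_3_5
  · exact chk_pow24_3_6
  · exact chk_pow24_3_7
  · exact chk_pow24_3_8
  · exact chk_pow24_3_9
  · exact chk_pow24_3_10
  · exact chk_pow24_3_11
  · exact chk_pow24_3_12
  · exact chk_pow24_3_13
  · exact chk_pow24_3_14

end Cfsg.Agent.Lib.Helper6.HeBTC
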