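import Cfsg.Agent.Lib.Helper6.HeBTCData
import Cfsg.Agent.Lib.Helper6.TCRel3
import Cfsg.Agent.Lib.Helper6.HeBTCRel38

/-! # HeB: the kernel check of a part of the relators on the coset table -/

set_option autoImplicit false

namespace Cfsg.Agent.Lib.Helper6.HeBTC

open Cfsg.Agent.Lib.Helper6.TC

theorem chk_pow24_4_0 : tab.minOKc [2, 3, 5, 6] 4 145380 2423 = true := by decide +kernel

theorem chk_pow24_4_1 : tab.minOKc [2, 3, 5, 6] 4 147803 2423 = true := by decide +kernel

theorem chk_pow24_4_2 : tab.minOKc [2, 3, 5, 6] 4 150226 2423 = true := by decide +kernel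

theorem chk_pow24_4_3 : tab.minOKc [2, 3, 5, 6] 4 152649 2423 = true := by decide +kernel

theorem chk_pow24_4_4 : tab.minOKc [2, 3, 5, 6] 4 155072 2423 = true := by decide +kernel

theorem chk_pow24_4_5 : tab.minOKc [2, 3, 5, 6] 4 157495 2423 = true := by decide +kernel

theorem chk_pow24_4_6 : tab.minOKc [2, 3, 5, 6] 4 159918 2423 = true := by decide +kernel

theorem chk_pow24_4_7 : tab.minOKc [2, 3, 5, 6] 4 162341 2423 = true := by decide +kernel

theorem chk_pow24_4_8 : tab.minOKc [2, 3, 5, 6] 4 164764 2423 = true := by decide +kernel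

theorem chk_pow24_4_9 : tab.minOKc [2, 3, 5, 6] 4 167187 2423 = true := by decide +kernel

theorem chk_pow24_4_10 : tab.minOKc [2, 3, 5, 6] 4 169610 2423 = true := by decide +kernel

theorem chk_pow24_4_11 : tab.minOKc [2, 3, 5, 6] 4 172033 2423 = true := by decide +kernel

theorem chk_pow24_4_12 : tab.minOKc [2, 3, 5, 6] 4 174456 2423 = true := by decide +kernel

theorem chk_pow24_4_13 : tab.minOKc [2, 3, 5, 6] 4 176879 2423 = true := by decide +kernel

theorem chk_pow24_4_14 : tab.minOKc [2, 3, 5, 6] 4 179302 2423 = true := by decide +kernel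

theorem chk_pow24_4 : tab.minOKc [2, 3, 5, 6] 4 145380 36345 = true := by
  refine tab.minOKc_of_chunks [2, 3, 5, 6] 4 145380 2423 15 (by norm_num) ?_
  intro i hi
  interval_cases i
  · exact chk_pow24_4_0
  · exact chk_pow24_4_1
  · exact chk_pow24_4_2
  · exact chk_pow24_4_3
  · exact chk_pow24_4_4
  · exact chk_pow24_4_5
  · exact chk_pow24_4_6
  · exact chk_pow24_4_7
  · exact chk_pow24_4_8
  · exact chk_pow24_4_9
  · exact chk_pow24_4_10
  · exact chk_pow24_4_11
  · exact chk_pow24_4_12
  · exact chk_pow24_4_13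
  · exact chk_pow24_4_14

theorem chk_pow24_5_0 : tab.minOKc [2, 3, 5, 6] 4 181725 2423 = true := by decide +kernel

theorem chk_pow24_5_1 : tab.minOKc [2, 3, 5, 6] 4 184148 2423 = true := by decide +kernel

theorem chk_pow24_5_2 : tab.minOKc [2, 3, 5, 6] 4 186571 2423 = true := by decide +kernel

theorem chk_pow24_5_3 : tab.minOKc [2, 3, 5, 6] 4 188994 2423 = true := by decide +kernel

theorem chk_pow24_5_4 : tab.minOKc [2, 3, 5, 6] 4 191417 2423 = true := by decide +kernel

theorem chk_pow24_5_5 : tab.minOKc [2, 3, 5, 6] 4 193840 2423 = true := by decide +kernel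

theorem chk_pow24_5_6 : tab.minOKc [2, 3, 5, 6] 4 196263 2423 = true := by decide +kernel

theorem chk_pow24_5_7 : tab.minOKc [2, 3, 5, 6] 4 198686 2423 = true := by decide +kernel

theorem chk_pow24_5_8 : tab.minOKc [2, 3, 5, 6] 4 201109 2423 = true := by decide +kernel

theorem chk_pow24_5_9 : tab.minOKc [2, 3, 5, 6] 4 203532 2423 = true := by decide +kernel

theorem chk_pow24_5_10 : tab.minOKc [2, 3, 5, 6] 4 205955 2423 = true := by decide +kernel

theorem chk_pow24_5_11 : tab.minOKc [2, 3, 5, 6] 4 208378 2423 = true := by decide +kernel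

theorem chk_pow24_5_12 : tab.minOKc [2, 3, 5, 6] 4 210801 2423 = true := by decide +kernel

theorem chk_pow24_5_13 : tab.minOKc [2, 3, 5, 6] 4 213224 2423 = true := by decide +kernel

theorem chk_pow24_5_14 : tab.minOKc [2, 3, 5, 6] 4 215647 2423 = true := by decide +kernel

theorem chk_pow24_5 : tab.minOKc [2, 3, 5, 6] 4 181725 36345 = true := by
  refine tab.minOKc_of_chunks [2, 3, 5, 6] 4 181725 2423 15 (by norm_num) ?_
  intro i hi
  interval_cases i
  · exact chk_pow24_5_0
  · exact chk_pow24_5_1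
  · exact chk_pow24_5_2
  · exact chk_pow24_5_3
  · exact chk_pow24_5_4
  · exact chk_pow24_5_5
  · exact chk_pow24_5_6
  · exact chk_pow24_5_7
  · exact chk_pow24_5_8
  · exact chk_pow24_5_9
  · exact chk_pow24_5_10
  · exact chk_pow24_5_11
  · exact chk_pow24_5_12
  · exact chk_pow24_5_13
  · exact chk_pow24_5_14

end Cfsg.Agent.Lib.Helper6.HeBTC
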