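import Cfsg.Agent.Lib.Helper6.HeBTCData
import Cfsg.Agent.Lib.Helper6.TCRel3
import Cfsg.Agent.Lib.Helper6.HeBTCRel39

/-! # HeB: the kernel check of a part of the relators on the coset table -/

set_option autoImplicit false

namespace Cfsg.Agent.Lib.Helper6.HeBTC

open Cfsg.Agent.Lib.Helper6.TC

theorem chk_pow24_6_0 : tab.minOKc [2, 3, 5, 6] 4 218070 2423 = true := by decide +kernel

theorem chk_pow24_6_1 : tab.minOKc [2, 3, 5, 6] 4 220493 2423 = true := by decide +kernel

theorem chk_pow24_6_2 : tab.minOKc [2, 3, 5, 6] 4 222916 2423 = true := by decide +kernel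

theorem chk_pow24_6_3 : tab.minOKc [2, 3, 5, 6] 4 225339 2423 = true := by decide +kernel

theorem chk_pow24_6_4 : tab.minOKc [2, 3, 5, 6] 4 227762 2423 = true := by decide +kernel

theorem chk_pow24_6_5 : tab.minOKc [2, 3, 5, 6] 4 230185 2423 = true := by decide +kernel

theorem chk_pow24_6_6 : tab.minOKc [2, 3, 5, 6] 4 232608 2423 = true := by decide +kernel

theorem chk_pow24_6_7 : tab.minOKc [2, 3, 5, 6] 4 235031 2423 = true := by decide +kernel

theorem chk_pow24_6_8 : tab.minOKc [2, 3, 5, 6] 4 237454 2423 = true := by decide +kernel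

theorem chk_pow24_6_9 : tab.minOKc [2, 3, 5, 6] 4 239877 2423 = true := by decide +kernel

theorem chk_pow24_6_10 : tab.minOKc [2, 3, 5, 6] 4 242300 2423 = true := by decide +kernel

theorem chk_pow24_6_11 : tab.minOKc [2, 3, 5, 6] 4 244723 2423 = true := by decide +kernel

theorem chk_pow24_6_12 : tab.minOKc [2, 3, 5, 6] 4 247146 2423 = true := by decide +kernel

theorem chk_pow24_6_13 : tab.minOKc [2, 3, 5, 6] 4 249569 2423 = true := by decide +kernel

theorem chk_pow24_6_14 : tab.minOKc [2, 3, 5, 6] 4 251992 2423 = true := by decide +kernel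

theorem chk_pow24_6 : tab.minOKc [2, 3, 5, 6] 4 218070 36345 = true := by
  refine tab.minOKc_of_chunks [2, 3, 5, 6] 4 218070 2423 15 (by norm_num) ?_
  intro i hi
  interval_cases i
  · exact chk_pow24_6_0
  · exact chk_pow24_6_1
  · exact chk_pow24_6_2
  · exact chk_pow24_6_3
  · exact chk_pow24_6_4
  · exact chk_pow24_6_5
  · exact chk_pow24_6_6
  · exact chk_pow24_6_7
  · exact chk_pow24_6_8
  · exact chk_pow24_6_9
  · exact chk_pow24_6_10
  · exact chk_pow24_6_11
  · exact chk_pow24_6_12
  · exact chk_pow24_6_13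
  · exact chk_pow24_6_14

theorem chk_pow24_7_0 : tab.minOKc [2, 3, 5, 6] 4 254415 2423 = true := by decide +kernel

theorem chk_pow24_7_1 : tab.minOKc [2, 3, 5, 6] 4 256838 2423 = true := by decide +kernel

theorem chk_pow24_7_2 : tab.minOKc [2, 3, 5, 6] 4 259261 2423 = true := by decide +kernel

theorem chk_pow24_7_3 : tab.minOKc [2, 3, 5, 6] 4 261684 2423 = true := by decide +kernel

theorem chk_pow24_7_4 : tab.minOKc [2, 3, 5, 6] 4 264107 2423 = true := by decide +kernel

theorem chk_pow24_7_5 : tab.minOKc [2, 3, 5, 6] 4 266530 2423 = true := by decide +kernel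

theorem chk_pow24_7_6 : tab.minOKc [2, 3, 5, 6] 4 268953 2423 = true := by decide +kernel

theorem chk_pow24_7_7 : tab.minOKc [2, 3, 5, 6] 4 271376 2423 = true := by decide +kernel

theorem chk_pow24_7_8 : tab.minOKc [2, 3, 5, 6] 4 273799 2423 = true := by decide +kernel

theorem chk_pow24_7_9 : tab.minOKc [2, 3, 5, 6] 4 276222 2423 = true := by decide +kernel

theorem chk_pow24_7_10 : tab.minOKc [2, 3, 5, 6] 4 278645 2423 = true := by decide +kernel

theorem chk_pow24_7_11 : tab.minOKc [2, 3, 5, 6] 4 281068 2423 = true := by decide +kernel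

theorem chk_pow24_7_12 : tab.minOKc [2, 3, 5, 6] 4 283491 2423 = true := by decide +kernel

theorem chk_pow24_7_13 : tab.minOKc [2, 3, 5, 6] 4 285914 2423 = true := by decide +kernel

theorem chk_pow24_7_14 : tab.minOKc [2, 3, 5, 6] 4 288337 2423 = true := by decide +kernel

theorem chk_pow24_7 : tab.minOKc [2, 3, 5, 6] 4 254415 36345 = true := by
  refine tab.minOKc_of_chunks [2, 3, 5, 6] 4 254415 2423 15 (by norm_num) ?_
  intro i hi
  interval_cases i
  · exact chk_pow24_7_0
  · exact chk_pow24_7_1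
  · exact chk_pow24_7_2
  · exact chk_pow24_7_3
  · exact chk_pow24_7_4
  · exact chk_pow24_7_5
  · exact chk_pow24_7_6
  · exact chk_pow24_7_7
  · exact chk_pow24_7_8
  · exact chk_pow24_7_9
  · exact chk_pow24_7_10
  · exact chk_pow24_7_11
  · exact chk_pow24_7_12
  · exact chk_pow24_7_13
  · exact chk_pow24_7_14

end Cfsg.Agent.Lib.Helper6.HeBTC
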