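import Cfsg.Agent.Lib.Helper6.HeBTCData
import Cfsg.Agent.Lib.Helper6.TCRel3
import Cfsg.Agent.Lib.Helper6.HeBTCRel0
import Cfsg.Agent.Lib.Helper6.HeBTCRel1
import Cfsg.Agent.Lib.Helper6.HeBTCRel2
import Cfsg.Agent.Lib.Helper6.HeBTCRel3
import Cfsg.Agent.Lib.Helper6.HeBTCRel4
import Cfsg.Agent.Lib.Helper6.HeBTCRel5
import Cfsg.Agent.Lib.Helper6.HeBTCRel6
import Cfsg.Agent.Lib.Helper6.HeBTCRel7
import Cfsg.Agent.Lib.Helper6.HeBTCRel8
import Cfsg.Agent.Lib.Helper6.HeBTCRel9
import Cfsg.Agent.Lib.Helper6.HeBTCRel10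
import Cfsg.Agent.Lib.Helper6.HeBTCRel11
import Cfsg.Agent.Lib.Helper6.HeBTCRel12
import Cfsg.Agent.Lib.Helper6.HeBTCRel13
import Cfsg.Agent.Lib.Helper6.HeBTCRel14
import Cfsg.Agent.Lib.Helper6.HeBTCRel15
import Cfsg.Agent.Lib.Helper6.HeBTCRel16
import Cfsg.Agent.Lib.Helper6.HeBTCRel17
import Cfsg.Agent.Lib.Helper6.HeBTCRel18
import Cfsg.Agent.Lib.Helper6.HeBTCRel19
import Cfsg.Agent.Lib.Helper6.HeBTCRel20
import Cfsg.Agent.Lib.Helper6.HeBTCRel21
import Cfsg.Agent.Lib.Helper6.HeBTCRel22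
import Cfsg.Agent.Lib.Helper6.HeBTCRel23
import Cfsg.Agent.Lib.Helper6.HeBTCRel24
import Cfsg.Agent.Lib.Helper6.HeBTCRel25
import Cfsg.Agent.Lib.Helper6.HeBTCRel26
import Cfsg.Agent.Lib.Helper6.HeBTCRel27
import Cfsg.Agent.Lib.Helper6.HeBTCRel28
import Cfsg.Agent.Lib.Helper6.HeBTCRel29
import Cfsg.Agent.Lib.Helper6.HeBTCRel30
import Cfsg.Agent.Lib.Helper6.HeBTCRel31
import Cfsg.Agent.Lib.Helper6.HeBTCRel32
import Cfsg.Agent.Lib.Helper6.HeBTCRel33
import Cfsg.Agent.Lib.Helper6.HeBTCRel34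
import Cfsg.Agent.Lib.Helper6.HeBTCRel35
import Cfsg.Agent.Lib.Helper6.HeBTCRel36
import Cfsg.Agent.Lib.Helper6.HeBTCRel37
import Cfsg.Agent.Lib.Helper6.HeBTCRel38
import Cfsg.Agent.Lib.Helper6.HeBTCRel39
import Cfsg.Agent.Lib.Helper6.HeBTCRel40
import Cfsg.Agent.Lib.Helper6.HeBTCRel41
import Cfsg.Agent.Lib.Helper6.HeBTCRel42
import Cfsg.Agent.Lib.Helper6.HeBTCRel43
import Cfsg.Agent.Lib.Helper6.HeBTCRel44
import Cfsg.Agent.Lib.Helper6.HeBTCRel45
import Cfsg.Agent.Lib.Helper6.HeBTCRel46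
import Cfsg.Agent.Lib.Helper6.HeBTCRel47
import Cfsg.Agent.Lib.Helper6.HeBTCRel48
import Cfsg.Agent.Lib.Helper6.HeBTCRel49
import Cfsg.Agent.Lib.Helper6.HeBTCRel50
import Cfsg.Agent.Lib.Helper6.HeBTCRel51

/-! # HeB: the relators hold on the coset table -/

set_option autoImplicit false

namespace Cfsg.Agent.Lib.Helper6.HeBTC

open Cfsg.Agent.Lib.Helper6.TC

theorem chk_pow0 : tab.minOK [0, 1] 4 = true := by
  refine tab.minOK_of_chunks [0, 1] 4 69090 4 (by decide +kernel) (by norm_num) (by show 266560 ≤ 4 * 69090; norm_num) ?_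
  intro i hi
  interval_cases i
  · exact chk_pow0_0
  · exact chk_pow0_1
  · exact chk_pow0_2
  · exact chk_pow0_3

theorem chk_pow1 : tab.minOK [0, 2] 2 = true := by
  refine tab.minOK_of_chunks [0, 2] 2 100275 3 (by decide +kernel) (by norm_num) (by show 266560 ≤ 3 * 100275; norm_num) ?_
  intro i hi
  interval_cases i
  · exact chk_pow1_0
  · exact chk_pow1_1
  · exact chk_pow1_2

theorem chk_pow2 : tab.minOK [1, 2] 3 = true := by
  refine tab.minOK_of_chunks [1, 2] 3 79515 4 (by decide +kernel) (by norm_num) (by show 266560 ≤ 4 * 79515; norm_num) ?_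
  intro i hi
  interval_cases i
  · exact chk_pow2_0
  · exact chk_pow2_1
  · exact chk_pow2_2
  · exact chk_pow2_3

theorem chk_pow3 : tab.minOK [0, 3] 2 = true := by
  refine tab.minOK_of_chunks [0, 3] 2 99945 3 (by decide +kernel) (by norm_num) (by show 266560 ≤ 3 * 99945; norm_num) ?_
  intro i hi
  interval_cases i
  · exact chk_pow3_0
  · exact chk_pow3_1
  · exact chk_pow3_2

theorem chk_pow4 : tab.minOK [1, 3] 2 = true := by
  refine tab.minOK_of_chunks [1, 3] 2 100230 3 (by decide +kernel) (by norm_num) (by show 266560 ≤ 3 * 100230; norm_num) ?_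
  intro i hi
  interval_cases i
  · exact chk_pow4_0
  · exact chk_pow4_1
  · exact chk_pow4_2

theorem chk_pow5 : tab.minOK [2, 3] 10 = true := by
  refine tab.minOK_of_chunks [2, 3] 10 49920 6 (by decide +kernel) (by norm_num) (by show 266560 ≤ 6 * 49920; norm_num) ?_
  intro i hi
  interval_cases i
  · exact chk_pow5_0
  · exact chk_pow5_1
  · exact chk_pow5_2
  · exact chk_pow5_3
  · exact chk_pow5_4
  · exact chk_pow5_5

theorem chk_pow6 : tab.minOK [0, 4] 2 = true := by
  refine tab.minOK_of_chunks [0, 4] 2 99885 3 (by decide +kernel) (by norm_num) (by show 266560 ≤ 3 * 99885; norm_num) ?_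
  intro i hi
  interval_cases i
  · exact chk_pow6_0
  · exact chk_pow6_1
  · exact chk_pow6_2

theorem chk_pow7 : tab.minOK [1, 4] 2 = true := by
  refine tab.minOK_of_chunks [1, 4] 2 98910 3 (by decide +kernel) (by norm_num) (by show 266560 ≤ 3 * 98910; norm_num) ?_
  intro i hi
  interval_cases i
  · exact chk_pow7_0
  · exact chk_pow7_1
  · exact chk_pow7_2

theorem chk_pow8 : tab.minOK [2, 4] 2 = true := by
  refine tab.minOK_of_chunks [2, 4] 2 98730 3 (by decide +kernel) (by norm_num) (by show 266560 ≤ 3 * 98730; norm_num) ?_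
  intro i hi
  interval_cases i
  · exact chk_pow8_0
  · exact chk_pow8_1
  · exact chk_pow8_2

theorem chk_pow9 : tab.minOK [3, 4] 3 = true := by
  refine tab.minOK_of_chunks [3, 4] 3 81855 4 (by decide +kernel) (by norm_num) (by show 266560 ≤ 4 * 81855; norm_num) ?_
  intro i hi
  interval_cases i
  · exact chk_pow9_0
  · exact chk_pow9_1
  · exact chk_pow9_2
  · exact chk_pow9_3

theorem chk_pow10 : tab.minOK [0, 5] 2 = true := by
  refine tab.minOK_of_chunks [0, 5] 2 100260 3 (by decide +kernel) (by norm_num) (by show 266560 ≤ 3 * 100260; norm_num) ?_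
  intro i hi
  interval_cases i
  · exact chk_pow10_0
  · exact chk_pow10_1
  · exact chk_pow10_2

theorem chk_pow11 : tab.minOK [1, 5] 2 = true := by
  refine tab.minOK_of_chunks [1, 5] 2 99060 3 (by decide +kernel) (by norm_num) (by show 266560 ≤ 3 * 99060; norm_num) ?_
  intro i hi
  interval_cases i
  · exact chk_pow11_0
  · exact chk_pow11_1
  · exact chk_pow11_2

theorem chk_pow12 : tab.minOK [2, 5] 2 = true := by
  refine tab.minOK_of_chunks [2, 5] 2 99120 3 (by decide +kernel) (by norm_num) (by show 266560 ≤ 3 * 99120; norm_num) ?_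
  intro i hi
  interval_cases i
  · exact chk_pow12_0
  · exact chk_pow12_1
  · exact chk_pow12_2

theorem chk_pow13 : tab.minOK [3, 5] 3 = true := by
  refine tab.minOK_of_chunks [3, 5] 3 81150 4 (by decide +kernel) (by norm_num) (by show 266560 ≤ 4 * 81150; norm_num) ?_
  intro i hi
  interval_cases i
  · exact chk_pow13_0
  · exact chk_pow13_1
  · exact chk_pow13_2
  · exact chk_pow13_3

theorem chk_pow14 : tab.minOK [4, 5] 2 = true := by
  refine tab.minOK_of_chunks [4, 5] 2 99180 3 (by decide +kernel) (by norm_num) (by show 266560 ≤ 3 * 99180; norm_num) ?_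
  intro i hi
  interval_cases i
  · exact chk_pow14_0
  · exact chk_pow14_1
  · exact chk_pow14_2

theorem chk_pow15 : tab.minOK [0, 6] 2 = true := by
  refine tab.minOK_of_chunks [0, 6] 2 99885 3 (by decide +kernel) (by norm_num) (by show 266560 ≤ 3 * 99885; norm_num) ?_
  intro i hi
  interval_cases i
  · exact chk_pow15_0
  · exact chk_pow15_1
  · exact chk_pow15_2

theorem chk_pow16 : tab.minOK [1, 6] 2 = true := by
  refine tab.minOK_of_chunks [1, 6] 2 99060 3 (by decide +kernel) (by norm_num) (by show 266560 ≤ 3 * 99060; norm_num) ?_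
  intro i hi
  interval_cases i
  · exact chk_pow16_0
  · exact chk_pow16_1
  · exact chk_pow16_2

theorem chk_pow17 : tab.minOK [2, 6] 2 = true := by
  refine tab.minOK_of_chunks [2, 6] 2 100680 3 (by decide +kernel) (by norm_num) (by show 266560 ≤ 3 * 100680; norm_num) ?_
  intro i hi
  interval_cases i
  · exact chk_pow17_0
  · exact chk_pow17_1
  · exact chk_pow17_2

theorem chk_pow18 : tab.minOK [3, 6] 3 = true := by
  refine tab.minOK_of_chunks [3, 6] 3 80820 4 (by decide +kernel) (by norm_num) (by show 266560 ≤ 4 * 80820; norm_num) ?_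
  intro i hi
  interval_cases i
  · exact chk_pow18_0
  · exact chk_pow18_1
  · exact chk_pow18_2
  · exact chk_pow18_3

theorem chk_pow19 : tab.minOK [4, 6] 2 = true := by
  refine tab.minOK_of_chunks [4, 6] 2 98760 3 (by decide +kernel) (by norm_num) (by show 266560 ≤ 3 * 98760; norm_num) ?_
  intro i hi
  interval_cases i
  · exact chk_pow19_0
  · exact chk_pow19_1
  · exact chk_pow19_2

theorem chk_pow20 : tab.minOK [5, 6] 4 = true := by
  refine tab.minOK_of_chunks [5, 6] 4 68610 4 (by decide +kernel) (by norm_num) (by show 266560 ≤ 4 * 68610; norm_num) ?_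
  intro i hi
  interval_cases i
  · exact chk_pow20_0
  · exact chk_pow20_1
  · exact chk_pow20_2
  · exact chk_pow20_3

theorem chk_pow21 : tab.minOK [4, 6, 5, 6, 5] 1 = true := by
  refine tab.minOK_of_chunks [4, 6, 5, 6, 5] 1 60000 5 (by decide +kernel) (by norm_num) (by show 266560 ≤ 5 * 60000; norm_num) ?_
  intro i hi
  interval_cases i
  · exact chk_pow21_0
  · exact chk_pow21_1
  · exact chk_pow21_2
  · exact chk_pow21_3
  · exact chk_pow21_4

theorem chk_pow22 : tab.minOK [4, 2, 1, 0, 2, 1, 0, 2, 1, 0] 1 = true := by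
  refine tab.minOK_of_chunks [4, 2, 1, 0, 2, 1, 0, 2, 1, 0] 1 30000 9 (by decide +kernel) (by norm_num) (by show 266560 ≤ 9 * 30000; norm_num) ?_
  intro i hi
  interval_cases i
  · exact chk_pow22_0
  · exact chk_pow22_1
  · exact chk_pow22_2
  · exact chk_pow22_3
  · exact chk_pow22_4
  · exact chk_pow22_5
  · exact chk_pow22_6
  · exact chk_pow22_7
  · exact chk_pow22_8

theorem chk_pow23 : tab.minOK [0, 3, 2, 3, 2, 3, 2, 3, 2, 3, 2] 1 = true := by
  refine tab.minOK_of_chunks [0, 3, 2, 3, 2, 3, 2, 3, 2, 3, 2] 1 27270 10 (by decide +kernel) (by norm_num) (by show 266560 ≤ 10 * 27270; norm_num) ?_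
  intro i hi
  interval_cases i
  · exact chk_pow23_0
  · exact chk_pow23_1
  · exact chk_pow23_2
  · exact chk_pow23_3
  · exact chk_pow23_4
  · exact chk_pow23_5
  · exact chk_pow23_6
  · exact chk_pow23_7
  · exact chk_pow23_8
  · exact chk_pow23_9

theorem chk_pow24 : tab.minOK [2, 3, 5, 6] 4 = true := by
  refine tab.minOK_of_chunks [2, 3, 5, 6] 4 36345 8 (by decide +kernel) (by norm_num) (by show 266560 ≤ 8 * 36345; norm_num) ?_
  intro i hi
  interval_cases i
  · exact chk_pow24_0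
  · exact chk_pow24_1
  · exact chk_pow24_2
  · exact chk_pow24_3
  · exact chk_pow24_4
  · exact chk_pow24_5
  · exact chk_pow24_6
  · exact chk_pow24_7

end Cfsg.Agent.Lib.Helper6.HeBTC
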