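import Cfsg.Agent.Lib.Helper6.HeBTCData
import Cfsg.Agent.Lib.Helper6.TCChunk
import Cfsg.Agent.Lib.Helper6.HeBTCRel50

/-! # HeB: the kernel check of the coset table, part 10 -/

set_option autoImplicit false

namespace Cfsg.Agent.Lib.Helper6.HeBTC

open Cfsg.Agent.Lib.Helper6.TC Cfsg.Agent.Lib.Helper6.TCS

theorem chk_tab90 : tab.tabOKc 180000 2000 = true := by decide +kernel

theorem chk_tab91 : tab.tabOKc 182000 2000 = true := by decide +kernel

theorem chk_tab92 : tab.tabOKc 184000 2000 = true := by decide +kernel

theorem chk_tab93 : tab.tabOKc 186000 2000 = true := by decide +kernel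

theorem chk_tab94 : tab.tabOKc 188000 2000 = true := by decide +kernel

theorem chk_tab95 : tab.tabOKc 190000 2000 = true := by decide +kernel

theorem chk_tab96 : tab.tabOKc 192000 2000 = true := by decide +kernel

theorem chk_tab97 : tab.tabOKc 194000 2000 = true := by decide +kernel

theorem chk_tab98 : tab.tabOKc 196000 2000 = true := by decide +kernel

end Cfsg.Agent.Lib.Helper6.HeBTC
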