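import Cfsg.Agent.Lib.Helper6.HeBTCData
import Cfsg.Agent.Lib.Helper6.TCChunk
import Cfsg.Agent.Lib.Helper6.HeBTCTab1

/-! # HeB: the kernel check of the coset table, part 13 -/

set_option autoImplicit false

namespace Cfsg.Agent.Lib.Helper6.HeBTC

open Cfsg.Agent.Lib.Helper6.TC Cfsg.Agent.Lib.Helper6.TCS

theorem chk_tab117 : tab.tabOKc 234000 2000 = true := by decide +kernel

theorem chk_tab118 : tab.tabOKc 236000 2000 = true := by decide +kernel

theorem chk_tab119 : tab.tabOKc 238000 2000 = true := by decide +kernel

theorem chk_tab120 : tab.tabOKc 240000 2000 = true := by decide +kernel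

theorem chk_tab121 : tab.tabOKc 242000 2000 = true := by decide +kernel

theorem chk_tab122 : tab.tabOKc 244000 2000 = true := by decide +kernel

theorem chk_tab123 : tab.tabOKc 246000 2000 = true := by decide +kernel

theorem chk_tab124 : tab.tabOKc 248000 2000 = true := by decide +kernel

theorem chk_tab125 : tab.tabOKc 250000 2000 = true := by decide +kernel

end Cfsg.Agent.Lib.Helper6.HeBTC
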