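import Cfsg.Agent.Lib.Helper6.HeBTCData
import Cfsg.Agent.Lib.Helper6.TCChunk
import Cfsg.Agent.Lib.Helper6.HeBTCTab2

/-! # HeB: the kernel check of the coset table, part 14 -/

set_option autoImplicit false

namespace Cfsg.Agent.Lib.Helper6.HeBTC

open Cfsg.Agent.Lib.Helper6.TC Cfsg.Agent.Lib.Helper6.TCS

theorem chk_tab126 : tab.tabOKc 252000 2000 = true := by decide +kernel

theorem chk_tab127 : tab.tabOKc 254000 2000 = true := by decide +kernel

theorem chk_tab128 : tab.tabOKc 256000 2000 = true := by decide +kernel

theorem chk_tab129 : tab.tabOKc 258000 2000 = true := by decide +kernel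

theorem chk_tab130 : tab.tabOKc 260000 2000 = true := by decide +kernel

theorem chk_tab131 : tab.tabOKc 262000 2000 = true := by decide +kernel

theorem chk_tab132 : tab.tabOKc 264000 2000 = true := by decide +kernel

theorem chk_tab133 : tab.tabOKc 266000 2000 = true := by decide +kernel

end Cfsg.Agent.Lib.Helper6.HeBTC
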