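import Cfsg.Agent.Lib.Helper6.HeBTCData
import Cfsg.Agent.Lib.Helper6.TCChunk
import Cfsg.Agent.Lib.Helper6.HeBTCRel43

/-! # HeB: the kernel check of the coset table, part 3 -/

set_option autoImplicit false

namespace Cfsg.Agent.Lib.Helper6.HeBTC

open Cfsg.Agent.Lib.Helper6.TC Cfsg.Agent.Lib.Helper6.TCS

theorem chk_tab27 : tab.tabOKc 54000 2000 = true := by decide +kernel

theorem chk_tab28 : tab.tabOKc 56000 2000 = true := by decide +kernel

theorem chk_tab29 : tab.tabOKc 58000 2000 = true := by decide +kernel

theorem chk_tab30 : tab.tabOKc 60000 2000 = true := by decide +kernel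

theorem chk_tab31 : tab.tabOKc 62000 2000 = true := by decide +kernel

theorem chk_tab32 : tab.tabOKc 64000 2000 = true := by decide +kernel

theorem chk_tab33 : tab.tabOKc 66000 2000 = true := by decide +kernel

theorem chk_tab34 : tab.tabOKc 68000 2000 = true := by decide +kernel

theorem chk_tab35 : tab.tabOKc 70000 2000 = true := by decide +kernel

end Cfsg.Agent.Lib.Helper6.HeBTC
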