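import Cfsg.Agent.Lib.Helper6.HeBTCData
import Cfsg.Agent.Lib.Helper6.TCRel3
import Cfsg.Agent.Lib.Helper6.HeBSFin13

/-! # HeB: the kernel check of a part of the relators on the coset table -/

set_option autoImplicit false

namespace Cfsg.Agent.Lib.Helper6.HeBTC

open Cfsg.Agent.Lib.Helper6.TC

theorem chk_pow5_3_0 : tab.minOKc [2, 3] 10 149760 3328 = true := by decide +kernel

theorem chk_pow5_3_1 : tab.minOKc [2, 3] 10 153088 3328 = true := by decide +kernel

theorem chk_pow5_3_2 : tab.minOKc [2, 3] 10 156416 3328 = true := by decide +kernel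

theorem chk_pow5_3_3 : tab.minOKc [2, 3] 10 159744 3328 = true := by decide +kernel

theorem chk_pow5_3_4 : tab.minOKc [2, 3] 10 163072 3328 = true := by decide +kernel

theorem chk_pow5_3_5 : tab.minOKc [2, 3] 10 166400 3328 = true := by decide +kernel

theorem chk_pow5_3_6 : tab.minOKc [2, 3] 10 169728 3328 = true := by decide +kernel

theorem chk_pow5_3_7 : tab.minOKc [2, 3] 10 173056 3328 = true := by decide +kernel

theorem chk_pow5_3_8 : tab.minOKc [2, 3] 10 176384 3328 = true := by decide +kernel

theorem chk_pow5_3_9 : tab.minOKc [2, 3] 10 179712 3328 = true := by decide +kernel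

theorem chk_pow5_3_10 : tab.minOKc [2, 3] 10 183040 3328 = true := by decide +kernel

theorem chk_pow5_3_11 : tab.minOKc [2, 3] 10 186368 3328 = true := by decide +kernel

theorem chk_pow5_3_12 : tab.minOKc [2, 3] 10 189696 3328 = true := by decide +kernel

theorem chk_pow5_3_13 : tab.minOKc [2, 3] 10 193024 3328 = true := by decide +kernel

theorem chk_pow5_3_14 : tab.minOKc [2, 3] 10 196352 3328 = true := by decide +kernel

theorem chk_pow5_3 : tab.minOKc [2, 3] 10 149760 49920 = true := by
  refine tab.minOKc_of_chunks [2, 3] 10 149760 3328 15 (by norm_num) ?_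
  intro i hi
  interval_cases i
  · exact chk_pow5_3_0
  · exact chk_pow5_3_1
  · exact chk_pow5_3_2
  · exact chk_pow5_3_3
  · exact chk_pow5_3_4
  · exact chk_pow5_3_5
  · exact chk_pow5_3_6
  · exact chk_pow5_3_7
  · exact chk_pow5_3_8
  · exact chk_pow5_3_9
  · exact chk_pow5_3_10
  · exact chk_pow5_3_11
  · exact chk_pow5_3_12
  · exact chk_pow5_3_13
  · exact chk_pow5_3_14

theorem chk_pow5_4_0 : tab.minOKc [2, 3] 10 199680 3328 = true := by decide +kernel

theorem chk_pow5_4_1 : tab.minOKc [2, 3] 10 203008 3328 = true := by decide +kernel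

theorem chk_pow5_4_2 : tab.minOKc [2, 3] 10 206336 3328 = true := by decide +kernel

theorem chk_pow5_4_3 : tab.minOKc [2, 3] 10 209664 3328 = true := by decide +kernel

theorem chk_pow5_4_4 : tab.minOKc [2, 3] 10 212992 3328 = true := by decide +kernel

theorem chk_pow5_4_5 : tab.minOKc [2, 3] 10 216320 3328 = true := by decide +kernel

theorem chk_pow5_4_6 : tab.minOKc [2, 3] 10 219648 3328 = true := by decide +kernel

theorem chk_pow5_4_7 : tab.minOKc [2, 3] 10 222976 3328 = true := by decide +kernel

theorem chk_pow5_4_8 : tab.minOKc [2, 3] 10 226304 3328 = true := by decide +kernel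

theorem chk_pow5_4_9 : tab.minOKc [2, 3] 10 229632 3328 = true := by decide +kernel

theorem chk_pow5_4_10 : tab.minOKc [2, 3] 10 232960 3328 = true := by decide +kernel

theorem chk_pow5_4_11 : tab.minOKc [2, 3] 10 236288 3328 = true := by decide +kernel

theorem chk_pow5_4_12 : tab.minOKc [2, 3] 10 239616 3328 = true := by decide +kernel

theorem chk_pow5_4_13 : tab.minOKc [2, 3] 10 242944 3328 = true := by decide +kernel

theorem chk_pow5_4_14 : tab.minOKc [2, 3] 10 246272 3328 = true := by decide +kernel

theorem chk_pow5_4 : tab.minOKc [2, 3] 10 199680 49920 = true := by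
  refine tab.minOKc_of_chunks [2, 3] 10 199680 3328 15 (by norm_num) ?_
  intro i hi
  interval_cases i
  · exact chk_pow5_4_0
  · exact chk_pow5_4_1
  · exact chk_pow5_4_2
  · exact chk_pow5_4_3
  · exact chk_pow5_4_4
  · exact chk_pow5_4_5
  · exact chk_pow5_4_6
  · exact chk_pow5_4_7
  · exact chk_pow5_4_8
  · exact chk_pow5_4_9
  · exact chk_pow5_4_10
  · exact chk_pow5_4_11
  · exact chk_pow5_4_12
  · exact chk_pow5_4_13
  · exact chk_pow5_4_14

end Cfsg.Agent.Lib.Helper6.HeBTC
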