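import Cfsg.Agent.Lib.Helper6.HeBTCData
import Cfsg.Agent.Lib.Helper6.TCRel3
import Cfsg.Agent.Lib.Helper6.HeBTCRel10

/-! # HeB: the kernel check of a part of the relators on the coset table -/

set_option autoImplicit false

namespace Cfsg.Agent.Lib.Helper6.HeBTC

open Cfsg.Agent.Lib.Helper6.TC

theorem chk_pow12_2_0 : tab.minOKc [2, 5] 2 198240 6608 = true := by decide +kernel

theorem chk_pow12_2_1 : tab.minOKc [2, 5] 2 204848 6608 = true := by decide +kernel

theorem chk_pow12_2_2 : tab.minOKc [2, 5] 2 211456 6608 = true := by decide +kernel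

theorem chk_pow12_2_3 : tab.minOKc [2, 5] 2 218064 6608 = true := by decide +kernel

theorem chk_pow12_2_4 : tab.minOKc [2, 5] 2 224672 6608 = true := by decide +kernel

theorem chk_pow12_2_5 : tab.minOKc [2, 5] 2 231280 6608 = true := by decide +kernel

theorem chk_pow12_2_6 : tab.minOKc [2, 5] 2 237888 6608 = true := by decide +kernel

theorem chk_pow12_2_7 : tab.minOKc [2, 5] 2 244496 6608 = true := by decide +kernel

theorem chk_pow12_2_8 : tab.minOKc [2, 5] 2 251104 6608 = true := by decide +kernel

theorem chk_pow12_2_9 : tab.minOKc [2, 5] 2 257712 6608 = true := by decide +kernel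

theorem chk_pow12_2_10 : tab.minOKc [2, 5] 2 264320 6608 = true := by decide +kernel

theorem chk_pow12_2_11 : tab.minOKc [2, 5] 2 270928 6608 = true := by decide +kernel

theorem chk_pow12_2_12 : tab.minOKc [2, 5] 2 277536 6608 = true := by decide +kernel

theorem chk_pow12_2_13 : tab.minOKc [2, 5] 2 284144 6608 = true := by decide +kernel

theorem chk_pow12_2_14 : tab.minOKc [2, 5] 2 290752 6608 = true := by decide +kernel

theorem chk_pow12_2 : tab.minOKc [2, 5] 2 198240 99120 = true := by
  refine tab.minOKc_of_chunks [2, 5] 2 198240 6608 15 (by norm_num) ?_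
  intro i hi
  interval_cases i
  · exact chk_pow12_2_0
  · exact chk_pow12_2_1
  · exact chk_pow12_2_2
  · exact chk_pow12_2_3
  · exact chk_pow12_2_4
  · exact chk_pow12_2_5
  · exact chk_pow12_2_6
  · exact chk_pow12_2_7
  · exact chk_pow12_2_8
  · exact chk_pow12_2_9
  · exact chk_pow12_2_10
  · exact chk_pow12_2_11
  · exact chk_pow12_2_12
  · exact chk_pow12_2_13
  · exact chk_pow12_2_14

theorem chk_pow13_0_0 : tab.minOKc [3, 5] 3 0 5410 = true := by decide +kernel

theorem chk_pow13_0_1 : tab.minOKc [3, 5] 3 5410 5410 = true := by decide +kernel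

theorem chk_pow13_0_2 : tab.minOKc [3, 5] 3 10820 5410 = true := by decide +kernel

theorem chk_pow13_0_3 : tab.minOKc [3, 5] 3 16230 5410 = true := by decide +kernel

theorem chk_pow13_0_4 : tab.minOKc [3, 5] 3 21640 5410 = true := by decide +kernel

theorem chk_pow13_0_5 : tab.minOKc [3, 5] 3 27050 5410 = true := by decide +kernel

theorem chk_pow13_0_6 : tab.minOKc [3, 5] 3 32460 5410 = true := by decide +kernel

theorem chk_pow13_0_7 : tab.minOKc [3, 5] 3 37870 5410 = true := by decide +kernel

theorem chk_pow13_0_8 : tab.minOKc [3, 5] 3 43280 5410 = true := by decide +kernel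

theorem chk_pow13_0_9 : tab.minOKc [3, 5] 3 48690 5410 = true := by decide +kernel

theorem chk_pow13_0_10 : tab.minOKc [3, 5] 3 54100 5410 = true := by decide +kernel

theorem chk_pow13_0_11 : tab.minOKc [3, 5] 3 59510 5410 = true := by decide +kernel

theorem chk_pow13_0_12 : tab.minOKc [3, 5] 3 64920 5410 = true := by decide +kernel

theorem chk_pow13_0_13 : tab.minOKc [3, 5] 3 70330 5410 = true := by decide +kernel

theorem chk_pow13_0_14 : tab.minOKc [3, 5] 3 75740 5410 = true := by decide +kernel

theorem chk_pow13_0 : tab.minOKc [3, 5] 3 0 81150 = true := by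
  refine tab.minOKc_of_chunks [3, 5] 3 0 5410 15 (by norm_num) ?_
  intro i hi
  interval_cases i
  · exact chk_pow13_0_0
  · exact chk_pow13_0_1
  · exact chk_pow13_0_2
  · exact chk_pow13_0_3
  · exact chk_pow13_0_4
  · exact chk_pow13_0_5
  · exact chk_pow13_0_6
  · exact chk_pow13_0_7
  · exact chk_pow13_0_8
  · exact chk_pow13_0_9
  · exact chk_pow13_0_10
  · exact chk_pow13_0_11
  · exact chk_pow13_0_12
  · exact chk_pow13_0_13
  · exact chk_pow13_0_14

end Cfsg.Agent.Lib.Helper6.HeBTC
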