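import Cfsg.Agent.Lib.Helper6.HeBTCData
import Cfsg.Agent.Lib.Helper6.TCRel3
import Cfsg.Agent.Lib.Helper6.HeBTCRel22

/-! # HeB: the kernel check of a part of the relators on the coset table -/

set_option autoImplicit false

namespace Cfsg.Agent.Lib.Helper6.HeBTC

open Cfsg.Agent.Lib.Helper6.TC

theorem chk_pow20_0_0 : tab.minOKc [5, 6] 4 0 4574 = true := by decide +kernel

theorem chk_pow20_0_1 : tab.minOKc [5, 6] 4 4574 4574 = true := by decide +kernel

theorem chk_pow20_0_2 : tab.minOKc [5, 6] 4 9148 4574 = true := by decide +kernel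

theorem chk_pow20_0_3 : tab.minOKc [5, 6] 4 13722 4574 = true := by decide +kernel

theorem chk_pow20_0_4 : tab.minOKc [5, 6] 4 18296 4574 = true := by decide +kernel

theorem chk_pow20_0_5 : tab.minOKc [5, 6] 4 22870 4574 = true := by decide +kernel

theorem chk_pow20_0_6 : tab.minOKc [5, 6] 4 27444 4574 = true := by decide +kernel

theorem chk_pow20_0_7 : tab.minOKc [5, 6] 4 32018 4574 = true := by decide +kernel

theorem chk_pow20_0_8 : tab.minOKc [5, 6] 4 36592 4574 = true := by decide +kernel

theorem chk_pow20_0_9 : tab.minOKc [5, 6] 4 41166 4574 = true := by decide +kernel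

theorem chk_pow20_0_10 : tab.minOKc [5, 6] 4 45740 4574 = true := by decide +kernel

theorem chk_pow20_0_11 : tab.minOKc [5, 6] 4 50314 4574 = true := by decide +kernel

theorem chk_pow20_0_12 : tab.minOKc [5, 6] 4 54888 4574 = true := by decide +kernel

theorem chk_pow20_0_13 : tab.minOKc [5, 6] 4 59462 4574 = true := by decide +kernel

theorem chk_pow20_0_14 : tab.minOKc [5, 6] 4 64036 4574 = true := by decide +kernel

theorem chk_pow20_0 : tab.minOKc [5, 6] 4 0 68610 = true := by
  refine tab.minOKc_of_chunks [5, 6] 4 0 4574 15 (by norm_num) ?_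
  intro i hi
  interval_cases i
  · exact chk_pow20_0_0
  · exact chk_pow20_0_1
  · exact chk_pow20_0_2
  · exact chk_pow20_0_3
  · exact chk_pow20_0_4
  · exact chk_pow20_0_5
  · exact chk_pow20_0_6
  · exact chk_pow20_0_7
  · exact chk_pow20_0_8
  · exact chk_pow20_0_9
  · exact chk_pow20_0_10
  · exact chk_pow20_0_11
  · exact chk_pow20_0_12
  · exact chk_pow20_0_13
  · exact chk_pow20_0_14

theorem chk_pow20_1_0 : tab.minOKc [5, 6] 4 68610 4574 = true := by decide +kernel

theorem chk_pow20_1_1 : tab.minOKc [5, 6] 4 73184 4574 = true := by decide +kernel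

theorem chk_pow20_1_2 : tab.minOKc [5, 6] 4 77758 4574 = true := by decide +kernel

theorem chk_pow20_1_3 : tab.minOKc [5, 6] 4 82332 4574 = true := by decide +kernel

theorem chk_pow20_1_4 : tab.minOKc [5, 6] 4 86906 4574 = true := by decide +kernel

theorem chk_pow20_1_5 : tab.minOKc [5, 6] 4 91480 4574 = true := by decide +kernel

theorem chk_pow20_1_6 : tab.minOKc [5, 6] 4 96054 4574 = true := by decide +kernel

theorem chk_pow20_1_7 : tab.minOKc [5, 6] 4 100628 4574 = true := by decide +kernel

theorem chk_pow20_1_8 : tab.minOKc [5, 6] 4 105202 4574 = true := by decide +kernel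

theorem chk_pow20_1_9 : tab.minOKc [5, 6] 4 109776 4574 = true := by decide +kernel

theorem chk_pow20_1_10 : tab.minOKc [5, 6] 4 114350 4574 = true := by decide +kernel

theorem chk_pow20_1_11 : tab.minOKc [5, 6] 4 118924 4574 = true := by decide +kernel

theorem chk_pow20_1_12 : tab.minOKc [5, 6] 4 123498 4574 = true := by decide +kernel

theorem chk_pow20_1_13 : tab.minOKc [5, 6] 4 128072 4574 = true := by decide +kernel

theorem chk_pow20_1_14 : tab.minOKc [5, 6] 4 132646 4574 = true := by decide +kernel

theorem chk_pow20_1 : tab.minOKc [5, 6] 4 68610 68610 = true := by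
  refine tab.minOKc_of_chunks [5, 6] 4 68610 4574 15 (by norm_num) ?_
  intro i hi
  interval_cases i
  · exact chk_pow20_1_0
  · exact chk_pow20_1_1
  · exact chk_pow20_1_2
  · exact chk_pow20_1_3
  · exact chk_pow20_1_4
  · exact chk_pow20_1_5
  · exact chk_pow20_1_6
  · exact chk_pow20_1_7
  · exact chk_pow20_1_8
  · exact chk_pow20_1_9
  · exact chk_pow20_1_10
  · exact chk_pow20_1_11
  · exact chk_pow20_1_12
  · exact chk_pow20_1_13
  · exact chk_pow20_1_14

end Cfsg.Agent.Lib.Helper6.HeBTC
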