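import Cfsg.Agent.Lib.Helper6.HeBTCData
import Cfsg.Agent.Lib.Helper6.TCRel3
import Cfsg.Agent.Lib.Helper6.HeBTCRel34

/-! # HeB: the kernel check of a part of the relators on the coset table -/

set_option autoImplicit false

namespace Cfsg.Agent.Lib.Helper6.HeBTC

open Cfsg.Agent.Lib.Helper6.TC

theorem chk_pow23_6_0 : tab.minOKc [0, 3, 2, 3, 2, 3, 2, 3, 2, 3, 2] 1 163620 1818 = true := by decide +kernel

theorem chk_pow23_6_1 : tab.minOKc [0, 3, 2, 3, 2, 3, 2, 3, 2, 3, 2] 1 165438 1818 = true := by decide +kernel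

theorem chk_pow23_6_2 : tab.minOKc [0, 3, 2, 3, 2, 3, 2, 3, 2, 3, 2] 1 167256 1818 = true := by decide +kernel

theorem chk_pow23_6_3 : tab.minOKc [0, 3, 2, 3, 2, 3, 2, 3, 2, 3, 2] 1 169074 1818 = true := by decide +kernel

theorem chk_pow23_6_4 : tab.minOKc [0, 3, 2, 3, 2, 3, 2, 3, 2, 3, 2] 1 170892 1818 = true := by decide +kernel

theorem chk_pow23_6_5 : tab.minOKc [0, 3, 2, 3, 2, 3, 2, 3, 2, 3, 2] 1 172710 1818 = true := by decide +kernel

theorem chk_pow23_6_6 : tab.minOKc [0, 3, 2, 3, 2, 3, 2, 3, 2, 3, 2] 1 174528 1818 = true := by decide +kernel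

theorem chk_pow23_6_7 : tab.minOKc [0, 3, 2, 3, 2, 3, 2, 3, 2, 3, 2] 1 176346 1818 = true := by decide +kernel

theorem chk_pow23_6_8 : tab.minOKc [0, 3, 2, 3, 2, 3, 2, 3, 2, 3, 2] 1 178164 1818 = true := by decide +kernel

theorem chk_pow23_6_9 : tab.minOKc [0, 3, 2, 3, 2, 3, 2, 3, 2, 3, 2] 1 179982 1818 = true := by decide +kernel

theorem chk_pow23_6_10 : tab.minOKc [0, 3, 2, 3, 2, 3, 2, 3, 2, 3, 2] 1 181800 1818 = true := by decide +kernel

theorem chk_pow23_6_11 : tab.minOKc [0, 3, 2, 3, 2, 3, 2, 3, 2, 3, 2] 1 183618 1818 = true := by decide +kernel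

theorem chk_pow23_6_12 : tab.minOKc [0, 3, 2, 3, 2, 3, 2, 3, 2, 3, 2] 1 185436 1818 = true := by decide +kernel

theorem chk_pow23_6_13 : tab.minOKc [0, 3, 2, 3, 2, 3, 2, 3, 2, 3, 2] 1 187254 1818 = true := by decide +kernel

theorem chk_pow23_6_14 : tab.minOKc [0, 3, 2, 3, 2, 3, 2, 3, 2, 3, 2] 1 189072 1818 = true := by decide +kernel

theorem chk_pow23_6 : tab.minOKc [0, 3, 2, 3, 2, 3, 2, 3, 2, 3, 2] 1 163620 27270 = true := by
  refine tab.minOKc_of_chunks [0, 3, 2, 3, 2, 3, 2, 3, 2, 3, 2] 1 163620 1818 15 (by norm_num) ?_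
  intro i hi
  interval_cases i
  · exact chk_pow23_6_0
  · exact chk_pow23_6_1
  · exact chk_pow23_6_2
  · exact chk_pow23_6_3
  · exact chk_pow23_6_4
  · exact chk_pow23_6_5
  · exact chk_pow23_6_6
  · exact chk_pow23_6_7
  · exact chk_pow23_6_8
  · exact chk_pow23_6_9
  · exact chk_pow23_6_10
  · exact chk_pow23_6_11
  · exact chk_pow23_6_12
  · exact chk_pow23_6_13
  · exact chk_pow23_6_14

theorem chk_pow23_7_0 : tab.minOKc [0, 3, 2, 3, 2, 3, 2, 3, 2, 3, 2] 1 190890 1818 = true := by decide +kernel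

theorem chk_pow23_7_1 : tab.minOKc [0, 3, 2, 3, 2, 3, 2, 3, 2, 3, 2] 1 192708 1818 = true := by decide +kernel

theorem chk_pow23_7_2 : tab.minOKc [0, 3, 2, 3, 2, 3, 2, 3, 2, 3, 2] 1 194526 1818 = true := by decide +kernel

theorem chk_pow23_7_3 : tab.minOKc [0, 3, 2, 3, 2, 3, 2, 3, 2, 3, 2] 1 196344 1818 = true := by decide +kernel

theorem chk_pow23_7_4 : tab.minOKc [0, 3, 2, 3, 2, 3, 2, 3, 2, 3, 2] 1 198162 1818 = true := by decide +kernel

theorem chk_pow23_7_5 : tab.minOKc [0, 3, 2, 3, 2, 3, 2, 3, 2, 3, 2] 1 199980 1818 = true := by decide +kernel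

theorem chk_pow23_7_6 : tab.minOKc [0, 3, 2, 3, 2, 3, 2, 3, 2, 3, 2] 1 201798 1818 = true := by decide +kernel

theorem chk_pow23_7_7 : tab.minOKc [0, 3, 2, 3, 2, 3, 2, 3, 2, 3, 2] 1 203616 1818 = true := by decide +kernel

theorem chk_pow23_7_8 : tab.minOKc [0, 3, 2, 3, 2, 3, 2, 3, 2, 3, 2] 1 205434 1818 = true := by decide +kernel

theorem chk_pow23_7_9 : tab.minOKc [0, 3, 2, 3, 2, 3, 2, 3, 2, 3, 2] 1 207252 1818 = true := by decide +kernel

theorem chk_pow23_7_10 : tab.minOKc [0, 3, 2, 3, 2, 3, 2, 3, 2, 3, 2] 1 209070 1818 = true := by decide +kernel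

theorem chk_pow23_7_11 : tab.minOKc [0, 3, 2, 3, 2, 3, 2, 3, 2, 3, 2] 1 210888 1818 = true := by decide +kernel

theorem chk_pow23_7_12 : tab.minOKc [0, 3, 2, 3, 2, 3, 2, 3, 2, 3, 2] 1 212706 1818 = true := by decide +kernel

theorem chk_pow23_7_13 : tab.minOKc [0, 3, 2, 3, 2, 3, 2, 3, 2, 3, 2] 1 214524 1818 = true := by decide +kernel

theorem chk_pow23_7_14 : tab.minOKc [0, 3, 2, 3, 2, 3, 2, 3, 2, 3, 2] 1 216342 1818 = true := by decide +kernel

theorem chk_pow23_7 : tab.minOKc [0, 3, 2, 3, 2, 3, 2, 3, 2, 3, 2] 1 190890 27270 = true := by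
  refine tab.minOKc_of_chunks [0, 3, 2, 3, 2, 3, 2, 3, 2, 3, 2] 1 190890 1818 15 (by norm_num) ?_
  intro i hi
  interval_cases i
  · exact chk_pow23_7_0
  · exact chk_pow23_7_1
  · exact chk_pow23_7_2
  · exact chk_pow23_7_3
  · exact chk_pow23_7_4
  · exact chk_pow23_7_5
  · exact chk_pow23_7_6
  · exact chk_pow23_7_7
  · exact chk_pow23_7_8
  · exact chk_pow23_7_9
  · exact chk_pow23_7_10
  · exact chk_pow23_7_11
  · exact chk_pow23_7_12
  · exact chk_pow23_7_13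
  · exact chk_pow23_7_14

end Cfsg.Agent.Lib.Helper6.HeBTC
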