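import Cfsg.Agent.Lib.Helper6.HeBTCData
import Cfsg.Agent.Lib.Helper6.TCChunk
import Cfsg.Agent.Lib.Helper6.HeBTCRel46

/-! # HeB: the kernel check of the coset table, part 6 -/

set_option autoImplicit false

namespace Cfsg.Agent.Lib.Helper6.HeBTC

open Cfsg.Agent.Lib.Helper6.TC Cfsg.Agent.Lib.Helper6.TCS

theorem chk_tab54 : tab.tabOKc 108000 2000 = true := by decide +kernel

theorem chk_tab55 : tab.tabOKc 110000 2000 = true := by decide +kernel

theorem chk_tab56 : tab.tabOKc 112000 2000 = true := by decide +kernel

theorem chk_tab57 : tab.tabOKc 114000 2000 = true := by decide +kernel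

theorem chk_tab58 : tab.tabOKc 116000 2000 = true := by decide +kernel

theorem chk_tab59 : tab.tabOKc 118000 2000 = true := by decide +kernel

theorem chk_tab60 : tab.tabOKc 120000 2000 = true := by decide +kernel

theorem chk_tab61 : tab.tabOKc 122000 2000 = true := by decide +kernel

theorem chk_tab62 : tab.tabOKc 124000 2000 = true := by decide +kernel

end Cfsg.Agent.Lib.Helper6.HeBTC
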