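import Cfsg.Agent.Lib.Helper6.HeBTCData
import Cfsg.Agent.Lib.Helper6.TCChunk
import Cfsg.Agent.Lib.Helper6.HeBTCRel47

/-! # HeB: the kernel check of the coset table, part 7 -/

set_option autoImplicit false

namespace Cfsg.Agent.Lib.Helper6.HeBTC

open Cfsg.Agent.Lib.Helper6.TC Cfsg.Agent.Lib.Helper6.TCS

theorem chk_tab63 : tab.tabOKc 126000 2000 = true := by decide +kernel

theorem chk_tab64 : tab.tabOKc 128000 2000 = true := by decide +kernel

theorem chk_tab65 : tab.tabOKc 130000 2000 = true := by decide +kernel

theorem chk_tab66 : tab.tabOKc 132000 2000 = true := by decide +kernel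

theorem chk_tab67 : tab.tabOKc 134000 2000 = true := by decide +kernel

theorem chk_tab68 : tab.tabOKc 136000 2000 = true := by decide +kernel

theorem chk_tab69 : tab.tabOKc 138000 2000 = true := by decide +kernel

theorem chk_tab70 : tab.tabOKc 140000 2000 = true := by decide +kernel

theorem chk_tab71 : tab.tabOKc 142000 2000 = true := by decide +kernel

end Cfsg.Agent.Lib.Helper6.HeBTC
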