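import Cfsg.Agent.Lib.Helper6.HeBTCData
import Cfsg.Agent.Lib.Helper6.TCChunk
import Cfsg.Agent.Lib.Helper6.HeBTCTab4

/-! # HeB: the kernel check that the coset table is connected, part 1 -/

set_option autoImplicit false

namespace Cfsg.Agent.Lib.Helper6.HeBTC

open Cfsg.Agent.Lib.Helper6.TC Cfsg.Agent.Lib.Helper6.TCS

theorem chk_tree27 : tab.treeOKc 54000 2000 = true := by decide +kernel

theorem chk_tree28 : tab.treeOKc 56000 2000 = true := by decide +kernel

theorem chk_tree29 : tab.treeOKc 58000 2000 = true := by decide +kernel

theorem chk_tree30 : tab.treeOKc 60000 2000 = true := by decide +kernel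

theorem chk_tree31 : tab.treeOKc 62000 2000 = true := by decide +kernel

theorem chk_tree32 : tab.treeOKc 64000 2000 = true := by decide +kernel

theorem chk_tree33 : tab.treeOKc 66000 2000 = true := by decide +kernel

theorem chk_tree34 : tab.treeOKc 68000 2000 = true := by decide +kernel

theorem chk_tree35 : tab.treeOKc 70000 2000 = true := by decide +kernel

theorem chk_tree36 : tab.treeOKc 72000 2000 = true := by decide +kernel

theorem chk_tree37 : tab.treeOKc 74000 2000 = true := by decide +kernel

theorem chk_tree38 : tab.treeOKc 76000 2000 = true := by decide +kernel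

theorem chk_tree39 : tab.treeOKc 78000 2000 = true := by decide +kernel

theorem chk_tree40 : tab.treeOKc 80000 2000 = true := by decide +kernel

theorem chk_tree41 : tab.treeOKc 82000 2000 = true := by decide +kernel

theorem chk_tree42 : tab.treeOKc 84000 2000 = true := by decide +kernel

theorem chk_tree43 : tab.treeOKc 86000 2000 = true := by decide +kernel

theorem chk_tree44 : tab.treeOKc 88000 2000 = true := by decide +kernel

theorem chk_tree45 : tab.treeOKc 90000 2000 = true := by decide +kernel

theorem chk_tree46 : tab.treeOKc 92000 2000 = true := by decide +kernel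

theorem chk_tree47 : tab.treeOKc 94000 2000 = true := by decide +kernel

theorem chk_tree48 : tab.treeOKc 96000 2000 = true := by decide +kernel

theorem chk_tree49 : tab.treeOKc 98000 2000 = true := by decide +kernel

theorem chk_tree50 : tab.treeOKc 100000 2000 = true := by decide +kernel

theorem chk_tree51 : tab.treeOKc 102000 2000 = true := by decide +kernel

theorem chk_tree52 : tab.treeOKc 104000 2000 = true := by decide +kernel

theorem chk_tree53 : tab.treeOKc 106000 2000 = true := by decide +kernel

end Cfsg.Agent.Lib.Helper6.HeBTC
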