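import Cfsg.Agent.Lib.Helper6.HeBTCData
import Cfsg.Agent.Lib.Helper6.TCChunk
import Cfsg.Agent.Lib.Helper6.HeBTCTab5

/-! # HeB: the kernel check that the coset table is connected, part 2 -/

set_option autoImplicit false

namespace Cfsg.Agent.Lib.Helper6.HeBTC

open Cfsg.Agent.Lib.Helper6.TC Cfsg.Agent.Lib.Helper6.TCS

theorem chk_tree54 : tab.treeOKc 108000 2000 = true := by decide +kernel

theorem chk_tree55 : tab.treeOKc 110000 2000 = true := by decide +kernel

theorem chk_tree56 : tab.treeOKc 112000 2000 = true := by decide +kernel

theorem chk_tree57 : tab.treeOKc 114000 2000 = true := by decide +kernel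

theorem chk_tree58 : tab.treeOKc 116000 2000 = true := by decide +kernel

theorem chk_tree59 : tab.treeOKc 118000 2000 = true := by decide +kernel

theorem chk_tree60 : tab.treeOKc 120000 2000 = true := by decide +kernel

theorem chk_tree61 : tab.treeOKc 122000 2000 = true := by decide +kernel

theorem chk_tree62 : tab.treeOKc 124000 2000 = true := by decide +kernel

theorem chk_tree63 : tab.treeOKc 126000 2000 = true := by decide +kernel

theorem chk_tree64 : tab.treeOKc 128000 2000 = true := by decide +kernel

theorem chk_tree65 : tab.treeOKc 130000 2000 = true := by decide +kernel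

theorem chk_tree66 : tab.treeOKc 132000 2000 = true := by decide +kernel

theorem chk_tree67 : tab.treeOKc 134000 2000 = true := by decide +kernel

theorem chk_tree68 : tab.treeOKc 136000 2000 = true := by decide +kernel

theorem chk_tree69 : tab.treeOKc 138000 2000 = true := by decide +kernel

theorem chk_tree70 : tab.treeOKc 140000 2000 = true := by decide +kernel

theorem chk_tree71 : tab.treeOKc 142000 2000 = true := by decide +kernel

theorem chk_tree72 : tab.treeOKc 144000 2000 = true := by decide +kernel

theorem chk_tree73 : tab.treeOKc 146000 2000 = true := by decide +kernel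

theorem chk_tree74 : tab.treeOKc 148000 2000 = true := by decide +kernel

theorem chk_tree75 : tab.treeOKc 150000 2000 = true := by decide +kernel

theorem chk_tree76 : tab.treeOKc 152000 2000 = true := by decide +kernel

theorem chk_tree77 : tab.treeOKc 154000 2000 = true := by decide +kernel

theorem chk_tree78 : tab.treeOKc 156000 2000 = true := by decide +kernel

theorem chk_tree79 : tab.treeOKc 158000 2000 = true := by decide +kernel

theorem chk_tree80 : tab.treeOKc 160000 2000 = true := by decide +kernel

end Cfsg.Agent.Lib.Helper6.HeBTC
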