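import Cfsg.Agent.Lib.Helper6.HeBTCData
import Cfsg.Agent.Lib.Helper6.TCChunk
import Cfsg.Agent.Lib.Helper6.HeBTCTab6

/-! # HeB: the kernel check that the coset table is connected, part 3 -/

set_option autoImplicit false

namespace Cfsg.Agent.Lib.Helper6.HeBTC

open Cfsg.Agent.Lib.Helper6.TC Cfsg.Agent.Lib.Helper6.TCS

theorem chk_tree81 : tab.treeOKc 162000 2000 = true := by decide +kernel

theorem chk_tree82 : tab.treeOKc 164000 2000 = true := by decide +kernel

theorem chk_tree83 : tab.treeOKc 166000 2000 = true := by decide +kernel

theorem chk_tree84 : tab.treeOKc 168000 2000 = true := by decide +kernel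

theorem chk_tree85 : tab.treeOKc 170000 2000 = true := by decide +kernel

theorem chk_tree86 : tab.treeOKc 172000 2000 = true := by decide +kernel

theorem chk_tree87 : tab.treeOKc 174000 2000 = true := by decide +kernel

theorem chk_tree88 : tab.treeOKc 176000 2000 = true := by decide +kernel

theorem chk_tree89 : tab.treeOKc 178000 2000 = true := by decide +kernel

theorem chk_tree90 : tab.treeOKc 180000 2000 = true := by decide +kernel

theorem chk_tree91 : tab.treeOKc 182000 2000 = true := by decide +kernel

theorem chk_tree92 : tab.treeOKc 184000 2000 = true := by decide +kernel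

theorem chk_tree93 : tab.treeOKc 186000 2000 = true := by decide +kernel

theorem chk_tree94 : tab.treeOKc 188000 2000 = true := by decide +kernel

theorem chk_tree95 : tab.treeOKc 190000 2000 = true := by decide +kernel

theorem chk_tree96 : tab.treeOKc 192000 2000 = true := by decide +kernel

theorem chk_tree97 : tab.treeOKc 194000 2000 = true := by decide +kernel

theorem chk_tree98 : tab.treeOKc 196000 2000 = true := by decide +kernel

theorem chk_tree99 : tab.treeOKc 198000 2000 = true := by decide +kernel

theorem chk_tree100 : tab.treeOKc 200000 2000 = true := by decide +kernel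

theorem chk_tree101 : tab.treeOKc 202000 2000 = true := by decide +kernel

theorem chk_tree102 : tab.treeOKc 204000 2000 = true := by decide +kernel

theorem chk_tree103 : tab.treeOKc 206000 2000 = true := by decide +kernel

theorem chk_tree104 : tab.treeOKc 208000 2000 = true := by decide +kernel

theorem chk_tree105 : tab.treeOKc 210000 2000 = true := by decide +kernel

theorem chk_tree106 : tab.treeOKc 212000 2000 = true := by decide +kernel

theorem chk_tree107 : tab.treeOKc 214000 2000 = true := by decide +kernel

end Cfsg.Agent.Lib.Helper6.HeBTC
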