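import Cfsg.Agent.Lib.Helper6.TCRel3
import Cfsg.Agent.Lib.Helper6.HeBSRows0
import Cfsg.Agent.Lib.Helper6.HeBSRows1
import Cfsg.Agent.Lib.Helper6.HeBSRows2
import Cfsg.Agent.Lib.Helper6.HeBSRows3
import Cfsg.Agent.Lib.Helper6.HeBSRows4
import Cfsg.Agent.Lib.Helper6.HeBSRows5
import Cfsg.Agent.Lib.Helper6.HeBSRows6
import Cfsg.Agent.Lib.Helper6.HeBSRows7
import Cfsg.Agent.Lib.Helper6.HeBSRows8
import Cfsg.Agent.Lib.Helper6.HeBSRows9
import Cfsg.Agent.Lib.Helper6.HeBSRows10
import Cfsg.Agent.Lib.Helper6.HeBSRows11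
import Cfsg.Agent.Lib.Helper6.HeBSRows12
import Cfsg.Agent.Lib.Helper6.HeBSRows13
import Cfsg.Agent.Lib.Helper6.HeBSRows14
import Cfsg.Agent.Lib.Helper6.HeBSRows15
import Cfsg.Agent.Lib.Helper6.HeBSRows16
import Cfsg.Agent.Lib.Helper6.HeBSRows17
import Cfsg.Agent.Lib.Helper6.HeBSRows18
import Cfsg.Agent.Lib.Helper6.HeBSRows19
import Cfsg.Agent.Lib.Helper6.HeBSRows20

/-! # HeB: the rows of the coset enumeration are checked -/

set_option autoImplicit false

namespace Cfsg.Agent.Lib.Helper6.HeBTC

open Cfsg.Agent.Lib.Helper6.TC Cfsg.Agent.Lib.Helper6.TCS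

theorem chk_rows : ∀ a < cert.N, ∀ x < cert.c.g, cert.slotOK a x = true := by
  have r0 : ∀ a, a < 0 → ∀ x < cert.c.g, cert.slotOK a x = true := upto_zero
  have r1 := upto_step (P := fun a => ∀ x < cert.c.g, cert.slotOK a x = true) r0 chk_range0
  have r2 := upto_step (P := fun a => ∀ x < cert.c.g, cert.slotOK a x = true) r1 chk_range1
  have r3 := upto_step (P := fun a => ∀ x < cert.c.g, cert.slotOK a x = true) r2 chk_range2
  have r4 := upto_step (P := fun a => ∀ x < cert.c.g, cert.slotOK a x = true) r3 chk_range3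
  have r5 := upto_step (P := fun a => ∀ x < cert.c.g, cert.slotOK a x = true) r4 chk_range4
  have r6 := upto_step (P := fun a => ∀ x < cert.c.g, cert.slotOK a x = true) r5 chk_range5
  have r7 := upto_step (P := fun a => ∀ x < cert.c.g, cert.slotOK a x = true) r6 chk_range6
  have r8 := upto_step (P := fun a => ∀ x < cert.c.g, cert.slotOK a x = true) r7 chk_range7
  have r9 := upto_step (P := fun a => ∀ x < cert.c.g, cert.slotOK a x = true) r8 chk_range8
  have r10 := upto_step (P := fun a => ∀ x < cert.c.g, cert.slotOK a x = true) r9 chk_range9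
  have r11 := upto_step (P := fun a => ∀ x < cert.c.g, cert.slotOK a x = true) r10 chk_range10
  have r12 := upto_step (P := fun a => ∀ x < cert.c.g, cert.slotOK a x = true) r11 chk_range11
  have r13 := upto_step (P := fun a => ∀ x < cert.c.g, cert.slotOK a x = true) r12 chk_range12
  have r14 := upto_step (P := fun a => ∀ x < cert.c.g, cert.slotOK a x = true) r13 chk_range13
  have r15 := upto_step (P := fun a => ∀ x < cert.c.g, cert.slotOK a x = true) r14 chk_range14
  have r16 := upto_step (P := fun a => ∀ x < cert.c.g, cert.slotOK a x = true) r15 chk_range15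
  have r17 := upto_step (P := fun a => ∀ x < cert.c.g, cert.slotOK a x = true) r16 chk_range16
  have r18 := upto_step (P := fun a => ∀ x < cert.c.g, cert.slotOK a x = true) r17 chk_range17
  have r19 := upto_step (P := fun a => ∀ x < cert.c.g, cert.slotOK a x = true) r18 chk_range18
  have r20 := upto_step (P := fun a => ∀ x < cert.c.g, cert.slotOK a x = true) r19 chk_range19
  have r21 := upto_step (P := fun a => ∀ x < cert.c.g, cert.slotOK a x = true) r20 chk_range20
  intro a ha
  exact r21 a (lt_of_lt_of_le ha (by show 266564 ≤ 274776; norm_num))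

end Cfsg.Agent.Lib.Helper6.HeBTC
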