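import Cfsg.Agent.Lib.Helper6.HeBTCTb0

/-! # Coset enumeration data for HeB: the coset table (generated) -/

set_option autoImplicit false
set_option maxRecDepth 1000000
set_option maxHeartbeats 40000000

namespace Cfsg.Agent.Lib.Helper6.HeBTC

open Cfsg.Agent.Lib.Helper6.TC

/-- the coset table -/
noncomputable def arrT : BT :=
  (.node arrT_0 arrT_1)

end Cfsg.Agent.Lib.Helper6.HeBTC
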