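import Mathlib

/-! # Words for the elements of a transversal of the matrix group of the centralizer (generated) -/

set_option autoImplicit false

namespace Cfsg.Agent.Lib.Helper6.HeCMatData

/-- words for the 128 elements with trivial block -/
def Uw : List (List ℕ) := [[], [3, 4, 3], [4, 5, 4, 5], [3, 5, 4, 3, 5], [1, 5, 1, 4, 5, 1, 4, 5], [4, 6, 1, 5, 4, 5, 1, 6],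
    [1, 4, 5, 4, 5, 1], [0, 1, 5, 4, 5, 1, 0], [4, 3, 4], [4, 3], [4, 3, 5, 4, 5], [5, 4, 3, 5], [3,
    6, 1, 5, 4, 5, 1, 6], [2, 1, 5, 4, 3, 5, 1, 2], [1, 4, 3, 5, 4, 5, 1], [1, 5, 4, 3, 5, 1], [1, 6,
    1, 3, 6, 1, 3, 6], [4, 5, 1, 6, 3, 6, 1, 5], [0, 1, 3, 6, 3, 6, 1], [1, 0, 5, 4, 5, 1, 0], [2, 1,
    0, 1, 2], [0, 1, 0, 1, 4], [1, 0, 1, 3, 6, 3, 6], [0, 5, 4, 5, 1, 0, 1], [3, 5, 1, 6, 3, 6, 1,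
    5], [2, 1, 4, 6, 3, 6, 1, 2], [1, 6, 3, 6, 1, 0], [0, 1, 4, 6, 3, 6, 1], [0, 1, 0, 1, 3], [0, 1,
    0, 1, 3, 4], [6, 3, 6, 1, 0, 1], [0, 6, 1, 0, 1, 3, 6], [3, 6, 3, 6], [3, 4, 6, 3, 6], [0], [0,
    3, 4, 3], [1, 4, 5, 4, 5, 1, 0], [0, 1, 5, 4, 5, 1], [0, 6, 1, 5, 4, 5, 1, 6], [0, 2, 1, 5, 4, 5,
    1, 2], [4, 6, 3, 4, 6], [4, 6, 3, 6], [0, 4, 3, 4], [0, 4, 3], [0, 1, 0, 6, 3, 6, 1], [0, 1, 3,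
    5, 4, 5, 1], [0, 2, 1, 0, 6, 3, 6, 1, 2], [1, 5, 4, 5, 1, 6, 3, 6], [1, 3, 6, 3, 6, 1], [1, 3, 4,
    6, 3, 6, 1], [5, 1, 6, 3, 6, 1, 0, 5], [0, 4, 5, 1, 6, 3, 6, 1, 5], [4, 5, 4, 5, 1, 0, 1], [1, 0,
    1, 5, 4, 5], [1, 0, 1], [1, 0, 1, 3, 4, 3], [0, 1, 6, 3, 6, 1, 0], [1, 4, 6, 3, 6, 1], [2, 1, 6,
    3, 6, 1, 0, 2], [1, 6, 3, 6, 1, 5, 4, 5], [0, 1, 0, 1, 6, 3, 6], [0, 5, 1, 0, 1, 4, 5], [1, 0, 1,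
    4, 3, 4], [1, 0, 1, 4, 3], [3, 4, 3, 4], [4], [3, 4, 3, 5, 4, 5], [5, 4, 5], [6, 1, 5, 4, 5, 1,
    6], [2, 1, 5, 4, 5, 1, 2], [0, 1, 4, 5, 4, 5, 1, 0], [1, 5, 4, 5, 1], [3], [3, 4], [0, 6, 3, 6],
    [3, 5, 4, 5], [2, 1, 0, 6, 3, 6, 1, 2], [2, 1, 3, 5, 4, 5, 1, 2], [1, 0, 6, 3, 6, 1], [1, 3, 5,
    4, 5, 1], [5, 1, 6, 3, 6, 1, 5], [2, 1, 0, 5, 4, 5, 1, 2], [1, 3, 6, 3, 6, 1, 0], [0, 1, 0, 5, 4,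
    5, 1], [0, 1, 0, 1], [2, 1, 0, 1, 2, 4], [3, 6, 3, 6, 1, 0, 1], [0, 1, 0, 1, 5, 4, 5], [2, 1, 6,
    3, 6, 1, 2], [2, 1, 6, 3, 4, 6, 1, 2], [0, 1, 6, 3, 6, 1], [0, 1, 6, 3, 4, 6, 1], [2, 1, 0, 1, 2,
    3], [0, 1, 0, 1, 4, 3], [1, 0, 1, 6, 3, 6], [5, 1, 0, 1, 4, 5], [3, 4, 6, 3, 4, 6], [0, 5, 4, 5],
    [0, 3, 4, 3, 4], [0, 4], [0, 1, 4, 5, 4, 5, 1], [1, 5, 4, 5, 1, 0], [6, 1, 5, 4, 5, 1, 0, 6], [2,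
    1, 5, 4, 5, 1, 0, 2], [6, 3, 6], [6, 3, 4, 6], [0, 3], [0, 3, 4], [1, 0, 6, 3, 6, 1, 0], [0, 1,
    5, 4, 3, 5, 1], [0, 3, 6, 1, 5, 4, 5, 1, 6], [0, 2, 1, 5, 4, 3, 5, 1, 2], [0, 1, 3, 6, 3, 6, 1,
    0], [1, 0, 5, 4, 5, 1], [0, 5, 1, 6, 3, 6, 1, 5], [0, 2, 1, 0, 5, 4, 5, 1, 2], [1, 0, 1, 4, 5, 4,
    5], [5, 4, 5, 1, 0, 1], [0, 2, 1, 0, 1, 2], [1, 0, 1, 4], [1, 6, 3, 6, 1], [1, 6, 3, 4, 6, 1],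
    [0, 2, 1, 6, 3, 6, 1, 2], [0, 2, 1, 6, 3, 4, 6, 1, 2], [0, 6, 3, 6, 1, 0, 1], [6, 1, 0, 1, 3, 6],
    [1, 0, 1, 3], [1, 0, 1, 3, 4]]

/-- words for 168 elements with distinct blocks -/
def Rw : List (List ℕ) := [[6, 1, 2, 5, 1, 6], [1, 2, 1, 5, 1, 6], [1, 6, 1, 5, 1, 6], [2, 1, 6, 5, 1, 6], [2, 6, 1, 2, 5, 1,
    6], [1, 2, 5, 1, 6], [2, 1, 6, 1, 5, 1, 6], [1, 6, 5, 1, 6], [1, 6, 5, 1, 6, 5, 1], [1, 2, 5, 1,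
    6, 5, 1, 2], [6, 5, 1, 6, 5, 1, 6], [1, 2, 5, 1, 6, 5, 1], [5, 1, 6, 5, 1, 6, 5], [1, 6, 5, 1, 2,
    6, 1], [5, 1, 6, 1, 5, 1, 6], [5, 1, 6, 5, 1, 6], [1, 6, 5, 1, 6, 5], [2, 1, 6, 5, 1, 2, 6], [6,
    1, 2, 5, 1, 2, 6], [1, 2, 5, 1, 6, 5], [2, 1, 6, 5, 1, 6, 5], [1, 6, 5, 1, 2, 6], [5, 6, 1, 2, 5,
    1, 6], [1, 2, 5, 1, 2, 6], [1, 5, 6, 1, 5, 6, 1], [5, 1, 6], [1, 5, 6, 1, 5, 6], [5, 1, 6, 1],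
    [6, 1, 5, 6, 1, 5, 6], [2, 5, 1, 6], [2, 1, 5, 6, 1, 5, 6], [6, 5, 1, 6], [1, 2, 1], [6, 1, 2],
    [2, 1, 6], [1, 6, 1], [5, 1, 2], [5, 6, 1, 2], [1, 2, 6, 1, 5, 6, 1, 2], [1, 5, 6, 1, 2, 5], [1,
    2], [2, 6, 1, 2], [1, 6], [2, 1, 6, 1], [2, 5, 1, 2], [6, 5, 1, 2], [1, 5, 6, 1, 2, 5, 1], [2, 1,
    5, 6, 1, 2, 5], [5, 6, 1, 5, 6, 1], [1, 5, 1, 6], [5, 6, 1, 5, 6], [1, 5, 1, 6, 1], [6, 1, 5, 1,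
    6, 1], [2, 1, 5, 1, 6], [6, 1, 5, 1, 6], [2, 1, 5, 1, 6, 1], [2, 1, 5], [6, 1, 5], [2, 1, 5, 6],
    [6, 1, 5, 6], [1, 5, 1], [5, 6, 1, 5], [2, 6, 1, 5, 6, 1], [1, 5, 6, 1], [2, 1, 5, 1], [6, 1, 5,
    1], [6, 1, 5, 6, 1], [2, 1, 5, 6, 1], [1, 5], [2, 6, 1, 5], [1, 5, 6], [2, 6, 1, 5, 6], [5, 1, 2,
    6, 1, 5], [5, 1, 2, 6, 1, 2], [5, 1, 2, 6, 1, 2, 5], [5, 1, 2, 6, 1], [], [1, 2, 1, 6, 1, 2], [2,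
    6], [1, 2, 6, 1], [2, 5], [1, 2, 1, 6, 1, 5], [6, 5], [1, 2, 6, 1, 2, 5], [2, 5, 1, 2, 6, 1, 5],
    [6, 5, 1, 2, 6, 1], [5, 1, 2, 6, 1, 5, 6], [2, 5, 1, 2, 6, 1], [2], [1, 2, 6, 1, 2], [6], [1, 2,
    1, 6, 1], [5], [1, 2, 6, 1, 5], [5, 6], [1, 2, 6, 1, 5, 6], [5, 1, 6, 1, 5, 1], [5, 1, 6, 5, 1,
    2], [5, 1, 6, 1, 5, 1, 2], [5, 1, 6, 5, 1], [1, 2, 1, 5, 1, 2], [2, 1, 6, 5, 1, 2], [6, 1, 2, 5,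
    1, 2], [1, 6, 1, 5, 1, 2], [1, 2, 5, 1], [2, 1, 6, 1, 5, 1], [2, 6, 1, 2, 5, 1], [1, 6, 5, 1],
    [6, 5, 1, 6, 5, 1], [2, 5, 1, 6, 5, 1, 2], [6, 5, 1, 6, 5, 1, 2], [2, 5, 1, 6, 5, 1], [1, 2, 1,
    5, 1], [1, 6, 1, 5, 1], [6, 1, 2, 5, 1], [2, 1, 6, 5, 1], [1, 2, 5, 1, 2], [1, 6, 5, 1, 2], [5,
    6, 1, 2, 5, 1], [2, 1, 6, 1, 5, 1, 2], [1, 5, 1, 6, 1, 5], [5, 1, 6, 1, 2], [5, 6, 1, 5, 6, 1,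
    5], [5, 1, 2, 6], [1], [2, 1, 6, 1, 2], [1, 2, 6], [2, 6, 1], [2, 5, 1], [2, 1, 5, 6, 1, 5], [6,
    1, 5, 6, 1, 5], [6, 5, 1], [2, 1], [1, 6, 1, 2], [1, 2, 1, 6], [6, 1], [5, 1], [1, 5, 6, 1, 5],
    [1, 2, 6, 1, 5, 6, 1], [5, 6, 1], [2, 1, 5, 1, 6, 1, 5], [6, 5, 1, 2, 6], [6, 1, 5, 1, 6, 1, 5],
    [2, 5, 1, 2, 6], [5, 1, 6, 1, 5], [1, 5, 1, 6, 1, 2], [5, 6, 1, 5, 6, 1, 2], [5, 1, 6, 5], [2, 1,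
    5, 1, 2], [2, 1, 5, 6, 1, 2], [6, 1, 5, 6, 1, 2], [6, 1, 5, 1, 2], [1, 2, 5], [2, 1, 6, 1, 5],
    [1, 6, 5], [2, 6, 1, 2, 5], [1, 2, 1, 5], [1, 6, 1, 5], [2, 1, 6, 5], [6, 1, 2, 5], [1, 5, 1, 2],
    [1, 5, 6, 1, 2], [2, 6, 1, 5, 6, 1, 2], [5, 6, 1, 2, 5], [6, 5, 1, 6, 5], [2, 1, 5, 1, 6, 1, 2],
    [6, 1, 5, 1, 6, 1, 2], [2, 5, 1, 6, 5]]

end Cfsg.Agent.Lib.Helper6.HeCMatData
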