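import Cfsg.Agent.Lib.Helper6.SimpUB

/-! # A presentation of the centralizer of an involution of the Held group on seven involutions -/

set_option autoImplicit false
set_option linter.unusedSimpArgs false

namespace Cfsg.Agent.Lib.Helper6.HeCSub

open Cfsg.Spor Cfsg.Agent.Lib.Helper6.Simp

namespace PC

/-- the generators p, q, r, s, t, u, v -/
inductive Gen
  | p
  | q
  | r
  | s
  | t
  | u
  | v
  deriving DecidableEq

abbrev p : FreeGroup Gen := FreeGroup.of Gen.p
abbrev q : FreeGroup Gen := FreeGroup.of Gen.q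
abbrev r : FreeGroup Gen := FreeGroup.of Gen.r
abbrev s : FreeGroup Gen := FreeGroup.of Gen.s
abbrev t : FreeGroup Gen := FreeGroup.of Gen.t
abbrev u : FreeGroup Gen := FreeGroup.of Gen.u
abbrev v : FreeGroup Gen := FreeGroup.of Gen.v

/-- the Coxeter graph -/
def edges : List (Gen × ℕ × Gen) :=
  [(.p, 4, .q), (.q, 3, .r), (.q, 3, .u), (.q, 3, .v), (.s, 4, .t), (.s, 4, .v), (.t, 4, .u), (.u, 4, .v)]

/-- the further relators -/
def extra : List (FreeGroup Gen) := [  u * v * s * v * t * u * t * s * p,
  u * v * u * v * t * s * t * s * r,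
  p * u * q * p * q * u * s * q * p * q,
  p * v * q * p * q * v * t * q * p * q]

end PC

/-- the presented group -/
abbrev PC : Type := CoxPresented PC.Gen PC.edges PC.extra

end Cfsg.Agent.Lib.Helper6.HeCSub
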