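import Cfsg.Agent.Lib.Helper6.HeCTCData
import Cfsg.Agent.Lib.Helper6.TCChunk
import Cfsg.Agent.Lib.Helper6.HeCTCRel5

/-! # HeC: the kernel check that the coset table is connected, part 0 -/

set_option autoImplicit false

namespace Cfsg.Agent.Lib.Helper6.HeCTC

open Cfsg.Agent.Lib.Helper6.TC Cfsg.Agent.Lib.Helper6.TCS

theorem chk_tree0 : tab.treeOKc 0 3000 = true := by decide +kernel

theorem chk_tree1 : tab.treeOKc 3000 3000 = true := by decide +kernel

theorem chk_tree2 : tab.treeOKc 6000 3000 = true := by decide +kernel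

theorem chk_tree3 : tab.treeOKc 9000 3000 = true := by decide +kernel

theorem chk_tree4 : tab.treeOKc 12000 3000 = true := by decide +kernel

theorem chk_tree5 : tab.treeOKc 15000 3000 = true := by decide +kernel

end Cfsg.Agent.Lib.Helper6.HeCTC
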