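import Cfsg.Agent.Lib.Helper6.HeCTCData
import Cfsg.Agent.Lib.Helper6.TCInst
import Cfsg.Agent.Lib.Helper6.TCChunk
import Cfsg.Agent.Lib.Helper6.HeCSub
import Cfsg.Agent.Lib.Helper6.HeCTCRel0
import Cfsg.Agent.Lib.Helper6.HeCTCRel1
import Cfsg.Agent.Lib.Helper6.HeCTCRel2
import Cfsg.Agent.Lib.Helper6.HeCTCRel3
import Cfsg.Agent.Lib.Helper6.HeCTCRel4
import Cfsg.Agent.Lib.Helper6.HeCTCRel5
import Cfsg.Agent.Lib.Helper6.HeCTCRel6
import Cfsg.Agent.Lib.Helper6.HeCTCTab0
import Cfsg.Agent.Lib.Helper6.HeCTCTab1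
import Cfsg.Agent.Lib.Helper6.HeCTCTree0
import Cfsg.Agent.Lib.Helper6.HeCTCTree1

/-! # HeC: the checks of the words, the coset table and the relators -/

set_option autoImplicit false

namespace Cfsg.Agent.Lib.Helper6.HeCTC

open Cfsg.Agent.Lib.Helper6.TC Cfsg.Spor Cfsg.Agent.Lib.Helper6.HeCSub

/-- the generator with a given code -/
def gen : ℕ → PC.Gen
  | 0 => .p
  | 1 => .q
  | 2 => .r
  | 3 => .s
  | 4 => .t
  | 5 => .u
  | _ => .v

/-- the code of a generator -/
def code : PC.Gen → ℕ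
  | .p => 0
  | .q => 1
  | .r => 2
  | .s => 3
  | .t => 4
  | .u => 5
  | .v => 6

theorem chk_words : wordsSrcOK cfg (coxWordsL PC.edges gen cfg.g ++ extraWords) nw srcs = true := by
  decide +kernel

theorem chk_tab : tab.tabOK = true := by
  refine tab.tabOK_of_chunks 3000 8 (by norm_num) (by show 21504 ≤ 8 * 3000; norm_num) ?_
  intro k hk
  interval_cases k
  · exact chk_tab0
  · exact chk_tab1
  · exact chk_tab2
  · exact chk_tab3
  · exact chk_tab4
  · exact chk_tab5
  · exact chk_tab6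
  · exact chk_tab7

theorem chk_tree : tab.treeOK = true := by
  refine tab.treeOK_of_chunks 3000 8 (by norm_num) (by show 21504 ≤ 8 * 3000; norm_num) ?_
  intro k hk
  interval_cases k
  · exact chk_tree0
  · exact chk_tree1
  · exact chk_tree2
  · exact chk_tree3
  · exact chk_tree4
  · exact chk_tree5
  · exact chk_tree6
  · exact chk_tree7

theorem extraWords_eq : (extraPow.map fun p => (List.replicate p.2 p.1).flatten) = extraWords := by
  decide +kernel

theorem pows_eq : coxPairs PC.edges gen tab.g ++ extraPow = allPow := by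
  decide +kernel

theorem chk_pows : tab.powsOK (coxPairs PC.edges gen tab.g ++ extraPow) = true := by
  rw [pows_eq]
  simp only [allPow, Tab.powsOK_cons, Tab.powsOK_nil, Bool.and_eq_true, and_true]
  exact ⟨chk_pow0, chk_pow1, chk_pow2, chk_pow3, chk_pow4, chk_pow5, chk_pow6, chk_pow7, chk_pow8, chk_pow9, chk_pow10, chk_pow11, chk_pow12, chk_pow13, chk_pow14, chk_pow15, chk_pow16, chk_pow17, chk_pow18, chk_pow19, chk_pow20, chk_pow21, chk_pow22, chk_pow23, chk_pow24⟩

theorem chk_rels : tab.relsOK (coxWordsL PC.edges gen cfg.g ++ extraWords) = true := by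
  rw [← extraWords_eq]
  exact Tab.relsOK_of_powsOK chk_tab PC.edges gen extraPow chk_pows

theorem chk_sub : subOK cfg tab subW = true := by decide +kernel

end Cfsg.Agent.Lib.Helper6.HeCTC
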