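import Mathlib

/-! # The centralizer of a transvection in `SL(5, 2)` has at most `2^7 * 168` elements

A matrix commuting with `1 + E₀₁` has first column `e₀` and second row `e₁`; the block on the last
three rows and columns is multiplicative on the centralizer, hence invertible, and the matrix is
determined by the block and seven further entries. -/

set_option autoImplicit false

namespace Cfsg.Agent.Lib.Helper6.SL52Cent

open Matrix

/-- the matrices -/
abbrev M5 : Type := Matrix (Fin 5) (Fin 5) (ZMod 2)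

/-- the group -/
abbrev SL : Type := Matrix.SpecialLinearGroup (Fin 5) (ZMod 2)

/-- a transvection in the group -/
def tv (i j : Fin 5) (h : i ≠ j) : SL :=
  ⟨Matrix.transvection i j 1, Matrix.det_transvection_of_ne i j h 1⟩

/-- the transvection `1 + E₀₁` -/
def sT : SL := tv 0 1 (by decide)

/-- its centralizer -/
abbrev C : Subgroup SL := Subgroup.centralizer {sT}

theorem comm_iff (A : M5) : A * Matrix.transvection 0 1 1 = Matrix.transvection 0 1 1 * A ↔
    ∀ i j : Fin 5, (if j = 1 then A i 0 else 0) = (if i = 0 then A 1 j else 0) := by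
  have h1 : A * Matrix.transvection 0 1 1 = Matrix.transvection 0 1 1 * A ↔
      A * Matrix.single 0 1 1 = Matrix.single 0 1 1 * A := by
    rw [Matrix.transvection, Matrix.mul_add, Matrix.add_mul, Matrix.mul_one, Matrix.one_mul,
      add_right_inj]
  rw [h1, ← Matrix.ext_iff]
  refine forall_congr' fun i => forall_congr' fun j => ?_
  rw [Matrix.mul_apply, Matrix.mul_apply, Fin.sum_univ_five, Fin.sum_univ_five]
  simp only [Matrix.single_apply]
  fin_cases i <;> fin_cases j <;> simp

theorem mem_C_iff (g : SL) : g ∈ C ↔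
    ∀ i j : Fin 5, (if j = 1 then g.1 i 0 else 0) = (if i = 0 then g.1 1 j else 0) := by
  rw [← comm_iff, Subgroup.mem_centralizer_singleton_iff]
  constructor
  · intro h
    have h2 : (g * sT).1 = (sT * g).1 := congrArg Subtype.val h
    rw [Matrix.SpecialLinearGroup.coe_mul, Matrix.SpecialLinearGroup.coe_mul] at h2
    exact h2
  · intro h
    apply Subtype.ext
    rw [Matrix.SpecialLinearGroup.coe_mul, Matrix.SpecialLinearGroup.coe_mul]
    exact h

theorem col0 {g : SL} (hg : g ∈ C) {i : Fin 5} (hi : i ≠ 0) : g.1 i 0 = 0 := by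
  have := (mem_C_iff g).1 hg i 1
  simpa [hi] using this

theorem row1 {g : SL} (hg : g ∈ C) {j : Fin 5} (hj : j ≠ 1) : g.1 1 j = 0 := by
  have := (mem_C_iff g).1 hg 0 j
  simpa [hj] using this.symm

theorem diag01 {g : SL} (hg : g ∈ C) : g.1 0 0 = g.1 1 1 := by
  have := (mem_C_iff g).1 hg 0 1
  simpa using this

theorem zmod2_eq_one : ∀ x : ZMod 2, x ≠ 0 → x = 1 := by decide

theorem entry00 {g : SL} (hg : g ∈ C) : g.1 0 0 = 1 := by
  apply zmod2_eq_one
  intro h0
  have h1 : (g⁻¹ * g).1 0 0 = 1 := by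
    rw [inv_mul_cancel]
    rfl
  rw [Matrix.SpecialLinearGroup.coe_mul, Matrix.mul_apply, Fin.sum_univ_five, h0,
    col0 hg (i := 1) (by decide), col0 hg (i := 2) (by decide), col0 hg (i := 3) (by decide),
    col0 hg (i := 4) (by decide)] at h1
  simp at h1

theorem entry11 {g : SL} (hg : g ∈ C) : g.1 1 1 = 1 := by
  rw [← diag01 hg, entry00 hg]

/-- the inclusion of the last three indices -/
def f3 : Fin 3 → Fin 5 := ![2, 3, 4]

/-- the block on the last three rows and columns -/
def βM (g : C) : Matrix (Fin 3) (Fin 3) (ZMod 2) := (g.1.1).submatrix f3 f3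

theorem βM_one : βM 1 = 1 :=
  Matrix.submatrix_one f3 (by decide)

theorem βM_mul (g h : C) : βM (g * h) = βM g * βM h := by
  ext a b
  have e : ((g * h : C) : SL).1 = g.1.1 * h.1.1 := by
    rw [Subgroup.coe_mul, Matrix.SpecialLinearGroup.coe_mul]
  simp only [βM, Matrix.submatrix_apply, Matrix.mul_apply, e, Fin.sum_univ_five,
    Fin.sum_univ_three]
  have h0 : g.1.1 (f3 a) 0 = 0 := col0 g.2 (by fin_cases a <;> simp [f3])
  have h1 : h.1.1 1 (f3 b) = 0 := row1 h.2 (by fin_cases b <;> simp [f3])
  rw [h0, h1]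
  simp [f3]

/-- the block, as a homomorphism -/
def βhom : C →* Matrix (Fin 3) (Fin 3) (ZMod 2) where
  toFun := βM
  map_one' := βM_one
  map_mul' := βM_mul

/-- the block, as a homomorphism to the general linear group -/
def β : C →* GL (Fin 3) (ZMod 2) := βhom.toHomUnits

theorem β_coe (g : C) : (β g : Matrix (Fin 3) (Fin 3) (ZMod 2)) = βM g :=
  MonoidHom.coe_toHomUnits βhom g

/-- the seven further entries -/
def tup (g : C) : Fin 7 → ZMod 2 :=
  ![g.1.1 0 1, g.1.1 0 2, g.1.1 0 3, g.1.1 0 4, g.1.1 2 1, g.1.1 3 1, g.1.1 4 1]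

/-- the matrix with given entries and block -/
def recon (t : Fin 7 → ZMod 2) (B : Matrix (Fin 3) (Fin 3) (ZMod 2)) : M5 :=
  Matrix.of ![![1, t 0, t 1, t 2, t 3], ![0, 1, 0, 0, 0], ![0, t 4, B 0 0, B 0 1, B 0 2],
    ![0, t 5, B 1 0, B 1 1, B 1 2], ![0, t 6, B 2 0, B 2 1, B 2 2]]

theorem eq_recon (g : C) : g.1.1 = recon (tup g) (βM g) := by
  have hg := g.2
  have c1 := col0 hg (i := 1) (by decide)
  have c2 := col0 hg (i := 2) (by decide)
  have c3 := col0 hg (i := 3) (by decide)
  have c4 := col0 hg (i := 4) (by decide)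
  have r2 := row1 hg (j := 2) (by decide)
  have r3 := row1 hg (j := 3) (by decide)
  have r4 := row1 hg (j := 4) (by decide)
  have e0 := entry00 hg
  have e1 := entry11 hg
  ext i j
  fin_cases i <;> fin_cases j <;>
    simp [recon, tup, βM, f3, c1, c2, c3, c4, r2, r3, r4, e0, e1]

theorem enc_injective : Function.Injective fun g : C => (tup g, β g) := by
  intro g g' h
  have h1 : tup g = tup g' := congrArg Prod.fst h
  have h2 : βM g = βM g' := by
    rw [← β_coe, ← β_coe]
    exact congrArg (fun p => ((p.2 : GL (Fin 3) (ZMod 2)) : Matrix (Fin 3) (Fin 3) (ZMod 2))) h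
  apply Subtype.ext
  apply Subtype.ext
  rw [eq_recon g, eq_recon g', h1, h2]

/-- **the centralizer has at most `21504` elements** -/
theorem card_C_le : Nat.card C ≤ 21504 := by
  have h := Nat.card_le_card_of_injective _ enc_injective
  have h3 : Nat.card (GL (Fin 3) (ZMod 2)) = 168 := by
    rw [Matrix.card_GL_field, ZMod.card]
    decide
  rw [Nat.card_prod, Nat.card_fun, Nat.card_zmod, Nat.card_fin, h3] at h
  exact h.trans (by norm_num)

end Cfsg.Agent.Lib.Helper6.SL52Cent
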