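import Cfsg.Agent.Lib.Helper6.PackMat
import Cfsg.Agent.Lib.Helper6.SL52Cent
import Cfsg.Agent.Lib.Helper6.CoxLift
import Cfsg.Agent.Lib.Helper6.HeCMatData
import Cfsg.Agent.Lib.Helper6.HeCTC

/-! # The presented group `PC` is the centralizer of a transvection in `SL(5, 2)`

The generators go to products of transvections; the relators are checked with packed matrices. The
image has at least `128 * 168` elements: 128 elements with trivial block and 168 elements with
distinct blocks are exhibited. -/

set_option autoImplicit false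
set_option linter.constructorNameAsVariable false

namespace Cfsg.Agent.Lib.Helper6.HeCMat

open Cfsg.Agent.Lib.Helper6.TC Cfsg.Agent.Lib.Helper6.HeCSub Cfsg.Spor
  Cfsg.Agent.Lib.Helper6.Simp Cfsg.Agent.Lib.Helper6.PackMat Cfsg.Agent.Lib.Helper6.SL52Cent
  Cfsg.Agent.Lib.Helper6.HeCMatData Cfsg.Agent.Lib.Helper6.HeCTC

instance fact2 : Fact (Nat.Prime 2) := ⟨Nat.prime_two⟩

/-- the matrix of a list of row codes -/
def dec (X : List ℕ) : M5 := natM 32 2 (Equiv.refl (Fin 5)) X

/-- the codes of the matrices of the generators -/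
def gcode : ℕ → List ℕ
  | 0 => [1025, 32, 1024, 32800, 1048576]
  | 1 => [33, 32, 33792, 32768, 1048576]
  | 2 => [33, 32, 1024, 33792, 1048576]
  | 3 => [1048609, 32, 1024, 32768, 1048576]
  | 4 => [33, 32, 1024, 32768, 1048608]
  | 5 => [33, 32, 1024, 1082368, 1048576]
  | _ => [33, 32, 1024, 33792, 1049600]

/-- the code of the transvection -/
def scode : List ℕ := [33, 32, 1024, 32768, 1048576]

/-- the matrices of the generators -/
def gmat : PC.Gen → SL
  | .p => tv 0 2 (by decide) * tv 3 1 (by decide)
  | .q => tv 0 1 (by decide) * tv 2 3 (by decide)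
  | .r => tv 0 1 (by decide) * tv 3 2 (by decide)
  | .s => tv 0 1 (by decide) * tv 0 4 (by decide)
  | .t => tv 0 1 (by decide) * tv 4 1 (by decide)
  | .u => tv 0 1 (by decide) * tv 3 2 (by decide) * tv 3 4 (by decide)
  | .v => tv 0 1 (by decide) * tv 3 2 (by decide) * tv 4 2 (by decide)

theorem dec_apply (X : List ℕ) (i j : Fin 5) :
    dec X i j = ((dig 32 (X.getD i.val 0) j.val : ℕ) : ZMod 2) := rfl

theorem gmat_coe0 : (gmat .p).1 = dec (gcode 0) := by
  show (Matrix.transvection 0 2 1 * Matrix.transvection 3 1 1 : M5) = dec (gcode 0)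
  ext i j
  fin_cases i <;> fin_cases j <;>
    simp [Matrix.transvection, Matrix.mul_apply, Fin.sum_univ_five, Matrix.single_apply,
      Matrix.one_apply, dec_apply, gcode, dig]

theorem gmat_coe1 : (gmat .q).1 = dec (gcode 1) := by
  show (Matrix.transvection 0 1 1 * Matrix.transvection 2 3 1 : M5) = dec (gcode 1)
  ext i j
  fin_cases i <;> fin_cases j <;>
    simp [Matrix.transvection, Matrix.mul_apply, Fin.sum_univ_five, Matrix.single_apply,
      Matrix.one_apply, dec_apply, gcode, dig]

theorem gmat_coe2 : (gmat .r).1 = dec (gcode 2) := by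
  show (Matrix.transvection 0 1 1 * Matrix.transvection 3 2 1 : M5) = dec (gcode 2)
  ext i j
  fin_cases i <;> fin_cases j <;>
    simp [Matrix.transvection, Matrix.mul_apply, Fin.sum_univ_five, Matrix.single_apply,
      Matrix.one_apply, dec_apply, gcode, dig]

theorem gmat_coe3 : (gmat .s).1 = dec (gcode 3) := by
  show (Matrix.transvection 0 1 1 * Matrix.transvection 0 4 1 : M5) = dec (gcode 3)
  ext i j
  fin_cases i <;> fin_cases j <;>
    simp [Matrix.transvection, Matrix.mul_apply, Fin.sum_univ_five, Matrix.single_apply,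
      Matrix.one_apply, dec_apply, gcode, dig]

theorem gmat_coe4 : (gmat .t).1 = dec (gcode 4) := by
  show (Matrix.transvection 0 1 1 * Matrix.transvection 4 1 1 : M5) = dec (gcode 4)
  ext i j
  fin_cases i <;> fin_cases j <;>
    simp [Matrix.transvection, Matrix.mul_apply, Fin.sum_univ_five, Matrix.single_apply,
      Matrix.one_apply, dec_apply, gcode, dig]

theorem gmat_coe5 : (gmat .u).1 = dec (gcode 5) := by
  show (Matrix.transvection 0 1 1 * Matrix.transvection 3 2 1 * Matrix.transvection 3 4 1 : M5) = dec (gcode 5)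
  ext i j
  fin_cases i <;> fin_cases j <;>
    simp [Matrix.transvection, Matrix.mul_apply, Fin.sum_univ_five, Matrix.single_apply,
      Matrix.one_apply, dec_apply, gcode, dig]

theorem gmat_coe6 : (gmat .v).1 = dec (gcode 6) := by
  show (Matrix.transvection 0 1 1 * Matrix.transvection 3 2 1 * Matrix.transvection 4 2 1 : M5) = dec (gcode 6)
  ext i j
  fin_cases i <;> fin_cases j <;>
    simp [Matrix.transvection, Matrix.mul_apply, Fin.sum_univ_five, Matrix.single_apply,
      Matrix.one_apply, dec_apply, gcode, dig]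

theorem sT_coe : sT.1 = dec scode := by
  show (Matrix.transvection 0 1 1 : M5) = dec scode
  ext i j
  fin_cases i <;> fin_cases j <;>
    simp [Matrix.transvection, Matrix.single_apply, Matrix.one_apply, dec_apply, scode, dig]

theorem gmat_coe : ∀ x : ℕ, (gmat (gen x)).1 = dec (gcode x)
  | 0 => gmat_coe0
  | 1 => gmat_coe1
  | 2 => gmat_coe2
  | 3 => gmat_coe3
  | 4 => gmat_coe4
  | 5 => gmat_coe5
  | _ + 6 => gmat_coe6

theorem good_gcode : ∀ x : ℕ, Good 32 2 5 (gcode x)
  | 0 => good_of_goodB 32 2 (by decide +kernel)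
  | 1 => good_of_goodB 32 2 (by decide +kernel)
  | 2 => good_of_goodB 32 2 (by decide +kernel)
  | 3 => good_of_goodB 32 2 (by decide +kernel)
  | 4 => good_of_goodB 32 2 (by decide +kernel)
  | 5 => good_of_goodB 32 2 (by decide +kernel)
  | _ + 6 => good_of_goodB 32 2 (n := 5) (X := gcode 6) (by decide +kernel)

theorem good_scode : Good 32 2 5 scode := good_of_goodB 32 2 (by decide +kernel)

/-- the code of the matrix of a word -/
def evC (w : List ℕ) : List ℕ := prodC 32 2 5 (w.map gcode)

theorem good_evC (w : List ℕ) : Good 32 2 5 (evC w) :=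
  good_prodC (by norm_num) (by norm_num) (by norm_num) _

/-- the matrix of a word -/
def mw (w : List ℕ) : SL := (w.map fun x => gmat (gen x)).prod

theorem coe_list_prod : ∀ l : List SL, (l.prod).1 = (l.map fun A => A.1).prod
  | [] => rfl
  | A :: l => by
    rw [List.prod_cons, Matrix.SpecialLinearGroup.coe_mul, coe_list_prod l, List.map_cons,
      List.prod_cons]

theorem mw_coe (w : List ℕ) : (mw w).1 = dec (evC w) := by
  unfold mw evC dec
  rw [coe_list_prod, natM_prodC (Equiv.refl (Fin 5)) (by norm_num) (by norm_num) (by norm_num) _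
    (by
      intro M hM
      obtain ⟨x, -, rfl⟩ := List.mem_map.1 hM
      exact good_gcode x), List.map_map, List.map_map]
  congr 1
  apply List.map_congr_left
  intro x _
  exact gmat_coe x

theorem dec_idC : dec (idC 32 5) = 1 := natM_idC (Equiv.refl (Fin 5)) (by norm_num)

theorem mw_eq_one {w : List ℕ} (h : evC w = idC 32 5) : mw w = 1 := by
  apply Subtype.ext
  rw [mw_coe, h, dec_idC]
  rfl

/-! ### the homomorphism -/

theorem chk_rel : (coxWordsL PC.edges gen 7 ++ extraWords).all
    (fun w => decide (evC w = idC 32 5)) = true := by decide +kernel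

theorem word_one (w : List ℕ) (hw : w ∈ coxWordsL PC.edges gen 7 ++ extraWords) :
    (w.map fun x => gmat (gen x)).prod = 1 :=
  mw_eq_one (of_decide_eq_true (List.all_eq_true.1 chk_rel w hw))

theorem chk_sq : (List.range 7).all (fun x => decide (evC [x, x] = idC 32 5)) = true := by
  decide +kernel

theorem gmat_sq (a : PC.Gen) : gmat a * gmat a = 1 := by
  have hc : code a < 7 ∧ gen (code a) = a := by cases a <;> exact ⟨by decide, rfl⟩
  have h := mw_eq_one (of_decide_eq_true (List.all_eq_true.1 chk_sq (code a)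
    (List.mem_range.2 hc.1)))
  unfold mw at h
  rw [List.map_cons, List.map_cons, List.map_nil, List.prod_cons, List.prod_cons, List.prod_nil,
    mul_one, hc.2] at h
  exact h

theorem lift_rel : ∀ r ∈ coxRelators PC.edges ∪ {r | r ∈ PC.extra}, FreeGroup.lift gmat r = 1 :=
  CoxLift.lift_eq_one_of_words gen code 7 extraWords
    (by intro a; cases a <;> exact ⟨by decide, rfl⟩) gmat (extra_iff gmat gmat_sq) word_one

/-- the homomorphism to the special linear group -/
def ψ : PC →* SL := PresentedGroup.toGroup lift_rel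

theorem ψ_of (a : PC.Gen) : ψ (PresentedGroup.of a) = gmat a := PresentedGroup.toGroup.of _

/-- the element of a word -/
def wordP (w : List ℕ) : PC := (w.map fun x => (PresentedGroup.of (gen x) : PC)).prod

theorem ψ_wordP (w : List ℕ) : ψ (wordP w) = mw w := by
  unfold wordP mw
  rw [map_list_prod, List.map_map]
  congr 1
  apply List.map_congr_left
  intro x _
  exact ψ_of _

/-! ### the image lies in the centralizer -/

theorem chk_comm : (List.range 7).all (fun x =>
    decide (mulC 32 2 5 (gcode x) scode = mulC 32 2 5 scode (gcode x))) = true := by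
  decide +kernel

theorem gmat_mem_C (a : PC.Gen) : gmat a ∈ C := by
  have hc : code a < 7 ∧ gen (code a) = a := by cases a <;> exact ⟨by decide, rfl⟩
  have h := of_decide_eq_true (List.all_eq_true.1 chk_comm (code a) (List.mem_range.2 hc.1))
  rw [Subgroup.mem_centralizer_singleton_iff]
  apply Subtype.ext
  rw [Matrix.SpecialLinearGroup.coe_mul, Matrix.SpecialLinearGroup.coe_mul, ← hc.2, gmat_coe,
    sT_coe]
  unfold dec
  rw [← natM_mulC (Equiv.refl (Fin 5)) (by norm_num) (good_gcode _) good_scode,
    ← natM_mulC (Equiv.refl (Fin 5)) (by norm_num) good_scode (good_gcode _), h]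

theorem range_le : ψ.range ≤ C := by
  rintro _ ⟨x, rfl⟩
  induction x using PresentedGroup.induction_on with
  | _ z =>
    induction z using FreeGroup.induction_on with
    | C1 => simp
    | of x =>
      show ψ (PresentedGroup.of x) ∈ C
      rw [ψ_of]
      exact gmat_mem_C x
    | inv_of x hx =>
      rw [map_inv, map_inv]
      exact Subgroup.inv_mem _ hx
    | mul x y hx hy =>
      rw [map_mul, map_mul]
      exact Subgroup.mul_mem _ hx hy

theorem mw_mem_C (w : List ℕ) : mw w ∈ C := by
  rw [← ψ_wordP]
  exact range_le ⟨_, rfl⟩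

/-! ### the entries of the matrix of a code -/

theorem val_dec {X : List ℕ} (hX : Good 32 2 5 X) (a b : Fin 5) :
    (dec X a b).val = dig 32 (X.getD a.val 0) b.val := by
  rw [dec_apply, ZMod.val_natCast]
  exact Nat.mod_eq_of_lt ((good_getD hX (by norm_num) (by norm_num) a.val).2 b.val b.isLt)

/-- all the entries of a matrix -/
def fullM (M : M5) : List ℕ :=
  (List.finRange 5).flatMap fun a => (List.finRange 5).map fun b => (M a b).val

/-- all the digits of a code -/
def full (X : List ℕ) : List ℕ :=
  (List.finRange 5).flatMap fun a => (List.finRange 5).map fun b => dig 32 (X.getD a.val 0) b.val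

theorem fullM_dec {X : List ℕ} (hX : Good 32 2 5 X) : fullM (dec X) = full X := by
  unfold fullM full
  congr 1
  funext a
  congr 1
  funext b
  exact val_dec hX a b

/-- the number of a code -/
def keyN (X : List ℕ) : ℕ := (full X).foldl (fun acc d => 2 * acc + d) 0

/-- the entries of the block of a matrix -/
def blM (M : M5) : List ℕ :=
  [(M 2 2).val, (M 2 3).val, (M 2 4).val, (M 3 2).val, (M 3 3).val, (M 3 4).val, (M 4 2).val,
    (M 4 3).val, (M 4 4).val]

/-- the digits of the block of a code -/
def bl (X : List ℕ) : List ℕ :=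
  [dig 32 (X.getD 2 0) 2, dig 32 (X.getD 2 0) 3, dig 32 (X.getD 2 0) 4, dig 32 (X.getD 3 0) 2,
    dig 32 (X.getD 3 0) 3, dig 32 (X.getD 3 0) 4, dig 32 (X.getD 4 0) 2, dig 32 (X.getD 4 0) 3,
    dig 32 (X.getD 4 0) 4]

theorem blM_dec {X : List ℕ} (hX : Good 32 2 5 X) : blM (dec X) = bl X := by
  unfold blM bl
  rw [val_dec hX, val_dec hX, val_dec hX, val_dec hX, val_dec hX, val_dec hX, val_dec hX,
    val_dec hX, val_dec hX]
  rfl

/-- the number of the block of a code -/
def blkey (X : List ℕ) : ℕ := (bl X).foldl (fun acc d => 2 * acc + d) 0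

/-- the entries of a matrix of degree three -/
def blB (B : Matrix (Fin 3) (Fin 3) (ZMod 2)) : List ℕ :=
  [(B 0 0).val, (B 0 1).val, (B 0 2).val, (B 1 0).val, (B 1 1).val, (B 1 2).val, (B 2 0).val,
    (B 2 1).val, (B 2 2).val]

theorem blM_eq (g : C) : blM g.1.1 = blB (βM g) := rfl

theorem val_eq_zero : ∀ x : ZMod 2, x.val = 0 → x = 0 := by decide

theorem val_eq_one : ∀ x : ZMod 2, x.val = 1 → x = 1 := by decide

theorem eq_one_of_blB {B : Matrix (Fin 3) (Fin 3) (ZMod 2)}
    (h : blB B = [1, 0, 0, 0, 1, 0, 0, 0, 1]) : B = 1 := by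
  unfold blB at h
  simp only [List.cons.injEq, and_true] at h
  obtain ⟨h00, h01, h02, h10, h11, h12, h20, h21, h22⟩ := h
  ext a b
  fin_cases a <;> fin_cases b
  · exact val_eq_one _ h00
  · exact val_eq_zero _ h01
  · exact val_eq_zero _ h02
  · exact val_eq_zero _ h10
  · exact val_eq_one _ h11
  · exact val_eq_zero _ h12
  · exact val_eq_zero _ h20
  · exact val_eq_zero _ h21
  · exact val_eq_one _ h22

/-! ### increasing lists -/

/-- the list is strictly increasing -/
def isInc : List ℕ → Bool
  | [] => true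
  | [_] => true
  | a :: b :: l => decide (a < b) && isInc (b :: l)

theorem lt_of_isInc : ∀ (l : List ℕ) (a : ℕ), isInc (a :: l) = true → ∀ c ∈ l, a < c
  | [], _, _, c, hc => by simp at hc
  | b :: l, a, h, c, hc => by
    rw [isInc, Bool.and_eq_true, decide_eq_true_eq] at h
    rcases List.mem_cons.1 hc with rfl | hc
    · exact h.1
    · exact h.1.trans (lt_of_isInc l b h.2 c hc)

theorem nodup_of_isInc : ∀ l : List ℕ, isInc l = true → l.Nodup
  | [], _ => List.nodup_nil
  | a :: l, h => by
    rw [List.nodup_cons]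
    refine ⟨fun ha => lt_irrefl a (lt_of_isInc l a h a ha), nodup_of_isInc l ?_⟩
    cases l with
    | nil => rfl
    | cons b l =>
      rw [isInc, Bool.and_eq_true] at h
      exact h.2

/-! ### the lower bound for the order of the image -/

theorem chkU_block : Uw.all (fun w => decide (bl (evC w) = [1, 0, 0, 0, 1, 0, 0, 0, 1])) = true := by
  decide +kernel

theorem chkU_inc : isInc (Uw.map fun w => keyN (evC w)) = true := by decide +kernel

theorem chkR_inc : isInc (Rw.map fun w => blkey (evC w)) = true := by decide +kernel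

theorem Uw_length : Uw.length = 128 := by decide +kernel

theorem Rw_length : Rw.length = 168 := by decide +kernel

/-- the element of the centralizer of a word -/
def cw (w : List ℕ) : C := ⟨mw w, mw_mem_C w⟩

theorem β_cw_U {w : List ℕ} (hw : w ∈ Uw) : β (cw w) = 1 := by
  apply Units.ext
  rw [β_coe, Units.val_one]
  apply eq_one_of_blB
  rw [← blM_eq]
  show blM (mw w).1 = _
  rw [mw_coe, blM_dec (good_evC w)]
  exact of_decide_eq_true (List.all_eq_true.1 chkU_block w hw)

theorem Uw_inj {w w' : List ℕ} (hw : w ∈ Uw) (hw' : w' ∈ Uw) (h : mw w = mw w') : w = w' := by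
  have hn := nodup_of_isInc _ chkU_inc
  refine List.inj_on_of_nodup_map hn hw hw' ?_
  have h1 : dec (evC w) = dec (evC w') := by rw [← mw_coe, ← mw_coe, h]
  have h2 : full (evC w) = full (evC w') := by
    rw [← fullM_dec (good_evC w), ← fullM_dec (good_evC w'), h1]
  show keyN (evC w) = keyN (evC w')
  unfold keyN
  rw [h2]

theorem Rw_inj {w w' : List ℕ} (hw : w ∈ Rw) (hw' : w' ∈ Rw) (h : β (cw w) = β (cw w')) :
    w = w' := by
  have hn := nodup_of_isInc _ chkR_inc
  refine List.inj_on_of_nodup_map hn hw hw' ?_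
  have h1 : βM (cw w) = βM (cw w') := by rw [← β_coe, ← β_coe, h]
  have h2 : blM (mw w).1 = blM (mw w').1 := by
    show blM (cw w).1.1 = blM (cw w').1.1
    rw [blM_eq, blM_eq, h1]
  rw [mw_coe, mw_coe, blM_dec (good_evC w), blM_dec (good_evC w')] at h2
  show blkey (evC w) = blkey (evC w')
  unfold blkey
  rw [h2]

theorem card_range_ge : 21504 ≤ Nat.card ψ.range := by
  have hUn : Uw.Nodup := (nodup_of_isInc _ chkU_inc).of_map _
  have hRn : Rw.Nodup := (nodup_of_isInc _ chkR_inc).of_map _
  let F : Fin Uw.length × Fin Rw.length → ψ.range := fun ij =>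
    ⟨mw (Uw.get ij.1) * mw (Rw.get ij.2), by
      rw [← ψ_wordP, ← ψ_wordP, ← map_mul]
      exact ⟨_, rfl⟩⟩
  have hF : Function.Injective F := by
    rintro ⟨i, j⟩ ⟨i', j'⟩ h
    have h1 : mw (Uw.get i) * mw (Rw.get j) = mw (Uw.get i') * mw (Rw.get j') :=
      congrArg Subtype.val h
    have h2 : cw (Uw.get i) * cw (Rw.get j) = cw (Uw.get i') * cw (Rw.get j') :=
      Subtype.ext h1
    have h3 := congrArg β h2
    rw [map_mul, map_mul, β_cw_U (List.get_mem _ _), β_cw_U (List.get_mem _ _), one_mul,
      one_mul] at h3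
    have hj : Rw.get j = Rw.get j' := Rw_inj (List.get_mem _ _) (List.get_mem _ _) h3
    have hj' : j = j' := (List.nodup_iff_injective_get.1 hRn) hj
    subst hj'
    have h4 : mw (Uw.get i) = mw (Uw.get i') := mul_right_cancel h1
    have hi : Uw.get i = Uw.get i' := Uw_inj (List.get_mem _ _) (List.get_mem _ _) h4
    have hi' : i = i' := (List.nodup_iff_injective_get.1 hUn) hi
    rw [hi']
  have h := Nat.card_le_card_of_injective F hF
  rw [Nat.card_prod, Nat.card_fin, Nat.card_fin, Uw_length, Rw_length] at h
  exact h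

/-! ### the isomorphism -/

theorem card_PC : Finite PC ∧ Nat.card PC = 21504 :=
  finite_card_of_index_empty HeCTC.main (by norm_num)

instance finitePC : Finite PC := card_PC.1

theorem ψ_injective : Function.Injective ψ := by
  have hsurj : Function.Surjective ψ.rangeRestrict := ψ.rangeRestrict_surjective
  have hle : Nat.card PC ≤ Nat.card ψ.range := by
    rw [card_PC.2]
    exact card_range_ge
  have hbij : Function.Bijective ψ.rangeRestrict := hsurj.bijective_of_nat_card_le hle
  intro x y hxy
  exact hbij.1 (Subtype.ext hxy)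

instance finiteSL : Finite SL := Finite.of_injective (fun A : SL => A.1) Subtype.val_injective

theorem range_eq : ψ.range = C := by
  refine Subgroup.eq_of_le_of_card_ge range_le ?_
  exact card_C_le.trans card_range_ge

/-- **the presented group is the centralizer of the transvection** -/
theorem equivC : Nonempty (PC ≃* C) :=
  ⟨(MonoidHom.ofInjective ψ_injective).trans (MulEquiv.subgroupCongr range_eq)⟩

end Cfsg.Agent.Lib.Helper6.HeCMat
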