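import Cfsg.Agent.Lib.Helper6.HeCSCert

/-! # HeC: the kernel check of the merge map from row 0 on -/

set_option autoImplicit false

namespace Cfsg.Agent.Lib.Helper6.HeCTC

open Cfsg.Agent.Lib.Helper6.TC Cfsg.Agent.Lib.Helper6.TCS

theorem chk_mrows0_0 : cert.mrowsOK 0 5000 = true := by decide +kernel

theorem chk_mrows0_1 : cert.mrowsOK 5000 5000 = true := by decide +kernel

theorem chk_mrows0_2 : cert.mrowsOK 10000 5000 = true := by decide +kernel

theorem chk_mrows0_3 : cert.mrowsOK 15000 5000 = true := by decide +kernel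

theorem chk_mrows0_4 : cert.mrowsOK 20000 5000 = true := by decide +kernel

theorem chk_mrows0_5 : cert.mrowsOK 25000 5000 = true := by decide +kernel

theorem chk_mrows0_6 : cert.mrowsOK 30000 5000 = true := by decide +kernel

theorem chk_mrows0_7 : cert.mrowsOK 35000 5000 = true := by decide +kernel

theorem chk_mrange0 : ∀ a, 0 ≤ a → a < 0 + 40000 → cert.mslotOK a = true := by
  refine cert.mrange_of_chunks 0 5000 8 (by norm_num) ?_
  intro k hk
  interval_cases k
  · exact chk_mrows0_0
  · exact chk_mrows0_1
  · exact chk_mrows0_2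
  · exact chk_mrows0_3
  · exact chk_mrows0_4
  · exact chk_mrows0_5
  · exact chk_mrows0_6
  · exact chk_mrows0_7

end Cfsg.Agent.Lib.Helper6.HeCTC
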