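import Cfsg.Agent.Lib.Helper6.HeCSCert

/-! # HeC: the kernel check of the rows from 19200 on -/

set_option autoImplicit false

namespace Cfsg.Agent.Lib.Helper6.HeCTC

open Cfsg.Agent.Lib.Helper6.TC Cfsg.Agent.Lib.Helper6.TCS

theorem chk_rows2_0 : cert.rowsOK 19200 600 = true := by decide +kernel

theorem chk_rows2_1 : cert.rowsOK 19800 600 = true := by decide +kernel

theorem chk_rows2_2 : cert.rowsOK 20400 600 = true := by decide +kernel

theorem chk_rows2_3 : cert.rowsOK 21000 600 = true := by decide +kernel

theorem chk_rows2_4 : cert.rowsOK 21600 600 = true := by decide +kernel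

theorem chk_rows2_5 : cert.rowsOK 22200 600 = true := by decide +kernel

theorem chk_rows2_6 : cert.rowsOK 22800 600 = true := by decide +kernel

theorem chk_rows2_7 : cert.rowsOK 23400 600 = true := by decide +kernel

theorem chk_rows2_8 : cert.rowsOK 24000 600 = true := by decide +kernel

theorem chk_rows2_9 : cert.rowsOK 24600 600 = true := by decide +kernel

theorem chk_rows2_10 : cert.rowsOK 25200 600 = true := by decide +kernel

theorem chk_rows2_11 : cert.rowsOK 25800 600 = true := by decide +kernel

theorem chk_rows2_12 : cert.rowsOK 26400 600 = true := by decide +kernel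

theorem chk_rows2_13 : cert.rowsOK 27000 600 = true := by decide +kernel

theorem chk_rows2_14 : cert.rowsOK 27600 600 = true := by decide +kernel

theorem chk_rows2_15 : cert.rowsOK 28200 600 = true := by decide +kernel

theorem chk_range2 : ∀ a, 19200 ≤ a → a < 19200 + 9600 → ∀ x < cert.c.g, cert.slotOK a x = true := by
  refine cert.range_of_chunks 19200 600 16 (by norm_num) ?_
  intro k hk
  interval_cases k
  · exact chk_rows2_0
  · exact chk_rows2_1
  · exact chk_rows2_2
  · exact chk_rows2_3
  · exact chk_rows2_4
  · exact chk_rows2_5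
  · exact chk_rows2_6
  · exact chk_rows2_7
  · exact chk_rows2_8
  · exact chk_rows2_9
  · exact chk_rows2_10
  · exact chk_rows2_11
  · exact chk_rows2_12
  · exact chk_rows2_13
  · exact chk_rows2_14
  · exact chk_rows2_15

end Cfsg.Agent.Lib.Helper6.HeCTC
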