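import Cfsg.Agent.Lib.Helper6.SimpLB

/-! # Lower bounds for the order of a group of permutations generated by words

The variant of the chain of stabilizers where the group only has to contain the permutations of
the words of the levels. -/

set_option autoImplicit false

noncomputable section

namespace Cfsg.Agent.Lib.Helper6.Simp

open Cfsg.Agent.Lib.Helper6.TC Cfsg.Agent.Lib.Helper6.NatArr

variable {T : Tab} (h : T.tabOK = true)

/-- **the step**, for a group that contains the permutations of the words of the level -/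
theorem card_pstab_ge_words {Γ : Subgroup (Equiv.Perm (Fin T.n))} {fixed : List ℕ} {L : Level}
    (hΓ : ∀ w ∈ L.ws, elt T h w ∈ Γ) (hL : LevelOK T fixed L) :
    L.m * Nat.card (pstab T Γ (L.b :: fixed)) ≤ Nat.card (pstab T Γ fixed) := by
  classical
  set b' : Fin T.n := ⟨L.b, hL.hb⟩ with hb'
  have hwM : ∀ w ∈ L.ws, elt T h w ∈ pstab T Γ fixed := by
    intro w hw
    refine ⟨hΓ w hw, fun c hc hcn => ?_⟩
    apply Fin.ext
    rw [elt_apply T h (hL.hlt w hw)]
    exact hL.hfix w hw c hc
  have hreach : ∀ k, L.B.testBit k = true → ∃ σ ∈ pstab T Γ fixed, (σ b').val = k := by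
    refine T.orbRun_sound (Q := fun k => ∃ σ ∈ pstab T Γ fixed, (σ b').val = k) L.ws ?_
      L.instrs [L.b] (bset 0 L.b) L.B hL.horb ?_ ?_
    · rintro top w r hw ⟨σ, hσ, rfl⟩ htr
      refine ⟨elt T h w * σ, (pstab T Γ fixed).mul_mem (hwM w hw) hσ, ?_⟩
      rw [Equiv.Perm.mul_apply, elt_apply T h (hL.hlt w hw)]
      exact htr
    · intro s hs
      rw [List.mem_singleton] at hs
      subst hs
      exact ⟨1, (pstab T Γ fixed).one_mem, rfl⟩
    · intro k hk
      rw [testBit_bset] at hk
      simp only [Nat.zero_testBit, Bool.false_or, decide_eq_true_eq] at hk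
      subst hk
      exact ⟨1, (pstab T Γ fixed).one_mem, rfl⟩
  have hch : ∀ k : {k : Fin T.n // L.B.testBit k.val = true},
      ∃ σ ∈ pstab T Γ fixed, σ b' = k.1 := by
    intro k
    obtain ⟨σ, hσ, hv⟩ := hreach k.1.val k.2
    exact ⟨σ, hσ, Fin.ext hv⟩
  choose u hu hub using hch
  have hle : pstab T Γ (L.b :: fixed) ≤ pstab T Γ fixed := by
    intro σ hσ
    exact ⟨hσ.1, fun c hc hcn => hσ.2 c (List.mem_cons_of_mem _ hc) hcn⟩
  have hfixb : ∀ σ ∈ pstab T Γ (L.b :: fixed), σ b' = b' := by
    intro σ hσ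
    exact hσ.2 L.b (List.mem_cons_self ..) hL.hb
  let f : {k : Fin T.n // L.B.testBit k.val = true} × pstab T Γ (L.b :: fixed) →
      pstab T Γ fixed := fun x =>
    ⟨u x.1 * x.2.1, (pstab T Γ fixed).mul_mem (hu x.1) (hle x.2.2)⟩
  have hf : Function.Injective f := by
    rintro ⟨k, s⟩ ⟨k', s'⟩ hkk
    have hval : u k * s.1 = u k' * s'.1 := congrArg Subtype.val hkk
    have hk : k = k' := by
      apply Subtype.ext
      have := congrArg (fun σ : Equiv.Perm (Fin T.n) => σ b') hval
      simp only [Equiv.Perm.mul_apply] at this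
      rw [hfixb s.1 s.2, hfixb s'.1 s'.2, hub, hub] at this
      exact this
    subst hk
    have hs : s.1 = s'.1 := mul_left_cancel hval
    rw [Subtype.ext hs]
  have hcard := Nat.card_le_card_of_injective f hf
  rw [Nat.card_prod] at hcard
  have hcnt : Nat.card {k : Fin T.n // L.B.testBit k.val = true} = L.m := by
    have h1 := ncard_testBit L.B T.n
    rw [hL.hcnt] at h1
    rw [← h1]
    exact (Nat.card_coe_set_eq {b : Fin T.n | L.B.testBit b.val = true})
  rw [hcnt] at hcard
  exact hcard

/-- the order is at least the product of the orbit lengths -/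
theorem chainProd_le_words {Γ : Subgroup (Equiv.Perm (Fin T.n))} :
    ∀ (Ls : List Level) (fixed : List ℕ), (∀ L ∈ Ls, ∀ w ∈ L.ws, elt T h w ∈ Γ) →
      ChainOK T fixed Ls → chainProd Ls ≤ Nat.card (pstab T Γ fixed)
  | [], fixed, _, _ => by
    rw [chainProd]
    exact Nat.card_pos
  | L :: Ls, fixed, hΓ, hc => by
    cases hc with
    | cons hL hLs =>
      rw [chainProd]
      exact (Nat.mul_le_mul_left _ (chainProd_le_words Ls (L.b :: fixed)
        (fun L' hL' => hΓ L' (List.mem_cons_of_mem _ hL')) hLs)).trans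
        (card_pstab_ge_words h (hΓ L (List.mem_cons_self ..)) hL)

theorem chainProd_le_card_words {Γ : Subgroup (Equiv.Perm (Fin T.n))} {Ls : List Level}
    (hΓ : ∀ L ∈ Ls, ∀ w ∈ L.ws, elt T h w ∈ Γ) (hc : ChainOK T [] Ls) :
    chainProd Ls ≤ Nat.card Γ := by
  have := chainProd_le_words h Ls [] hΓ hc
  rwa [pstab_nil] at this

end Cfsg.Agent.Lib.Helper6.Simp

end
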