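import Cfsg.Agent.Lib.Helper6.HeSimple
import Cfsg.Agent.Lib.Helper6.SimpWPC
import Cfsg.Agent.Lib.Helper6.T3Gen
import Cfsg.Agent.Lib.Helper6.SimpLBW
import Cfsg.Agent.Lib.Helper6.CentCount
import Cfsg.Agent.Lib.Helper6.CoxLift
import Cfsg.Agent.Lib.Helper6.HeCTC
import Cfsg.Agent.Lib.Helper6.HeCentData

/-! # The centralizer of the generator `d` of the presented Held group is the presented group `PC`

The relators of `PC` hold for seven words of the Held group that commute with `d` (word problem on
four base points of the action of degree 2058); the image has at least 21504 elements (chain of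
stabilizers); the centralizer has at most 21504 elements, since 3825 distinct conjugates of `d`
fix a point, `d` fixes 42 points and the point stabilizer has 1958400 elements. -/

set_option autoImplicit false
set_option linter.constructorNameAsVariable false
set_option maxRecDepth 100000

noncomputable section

namespace Cfsg.Agent.Lib.Helper6.HeCent

open Cfsg.Spor Cfsg.Agent.Lib.Helper6.TC Cfsg.Agent.Lib.Helper6.Simp
  Cfsg.Agent.Lib.Helper6.SimpWP Cfsg.Agent.Lib.Helper6.SimpWPC Cfsg.Agent.Lib.Helper6.HeCSub
  Cfsg.Agent.Lib.Helper6.HeCentData Cfsg.Agent.Lib.Helper6.NatArr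

instance finiteHe : Finite He := HeSimple.ub.1

local notation "ρ" => HeTC.data.cert.ρ

local notation "NN" => HeTC.data.cert.T.n

theorem NN_eq : NN = 2058 := rfl

local notation "wG" => Simp.wordG HeTC.data

theorem ρ_ne_one : ρ (wG [3, 0]) ≠ 1 := by
  intro h1
  have h2 := ρ_wordG_apply HeTC.data (w := [3, 0]) (by show ∀ x ∈ [3, 0], x < 7; decide) 2
    (by show 2 < 2058; norm_num)
  rw [h1] at h2
  have h3 : HeTC.tab.trace 2 [0, 3] ≠ 2 := by decide +kernel
  exact h3 h2.symm

/-- the action on the 2058 rows is faithful -/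
theorem ρ_inj : Function.Injective ρ := by
  have : IsSimpleGroup He := HeSimple.main.1
  exact T3Gen.injective_of_simple _ ρ_ne_one

/-- the base points -/
def base : List ℕ := [34, 15, 1, 0]

theorem base_eq : allFixed HeSimp.levels [] = base := by decide +kernel

/-- **the word problem** of the presented Held group -/
theorem wp (w : List ℕ) (h : SimpWPC.fixOK HeTC.tab base w = true) : wG w = 1 := by
  refine wordG_eq_one_of_fixOK HeTC.data HeSimple.main.2 ρ_inj HeSimp.levels
    HeSimp.chain_ok HeSimp.chain_prod (by norm_num) w ?_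
  rw [base_eq]
  exact h

theorem wG_eq {u v : List ℕ} (h : SimpWPC.fixOK HeTC.tab base (u ++ v.reverse) = true) :
    wG u = wG v := by
  have h1 := wp _ h
  rw [wordG_append, wordG_reverse] at h1
  exact mul_inv_eq_one.1 h1

theorem expand_lt : ∀ x : ℕ, ∀ y ∈ expand x, y < 7
  | 0 => by decide
  | 1 => by decide
  | 2 => by decide
  | 3 => by decide
  | 4 => by decide
  | 5 => by decide
  | _ + 6 => by
    show ∀ y ∈ [6, 3, 2, 3, 6], y < 7
    decide

theorem flatMap_expand_lt (w : List ℕ) : ∀ y ∈ w.flatMap expand, y < 7 := by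
  intro y hy
  obtain ⟨x, -, hx⟩ := List.mem_flatMap.1 hy
  exact expand_lt x y hx

/-! ### the homomorphism -/

/-- the images of the generators -/
def fgen (a : PC.Gen) : He := wG (expand (HeCTC.code a))

theorem fgen_gen : ∀ x : ℕ, fgen (HeCTC.gen x) = wG (expand x)
  | 0 => rfl
  | 1 => rfl
  | 2 => rfl
  | 3 => rfl
  | 4 => rfl
  | 5 => rfl
  | _ + 6 => rfl

theorem prod_fgen (w : List ℕ) :
    (w.map fun x => fgen (HeCTC.gen x)).prod = wG (w.flatMap expand) := by
  induction w with
  | nil => rfl
  | cons x w ih =>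
    rw [List.map_cons, List.prod_cons, List.flatMap_cons, wordG_append, fgen_gen, ih]

theorem chk_rel : (coxWordsL PC.edges HeCTC.gen 7 ++ HeCTC.extraWords).all
    (fun w => SimpWPC.fixOK HeTC.tab base (w.flatMap expand)) = true := by decide +kernel

theorem word_one (w : List ℕ) (hw : w ∈ coxWordsL PC.edges HeCTC.gen 7 ++ HeCTC.extraWords) :
    (w.map fun x => fgen (HeCTC.gen x)).prod = 1 := by
  rw [prod_fgen]
  exact wp _ (List.all_eq_true.1 chk_rel w hw)

theorem chk_sq : (List.range 7).all
    (fun x => SimpWPC.fixOK HeTC.tab base ([x, x].flatMap expand)) = true := by decide +kernel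

theorem fgen_sq (a : PC.Gen) : fgen a * fgen a = 1 := by
  have hc : HeCTC.code a < 7 ∧ HeCTC.gen (HeCTC.code a) = a := by
    cases a <;> exact ⟨by decide, rfl⟩
  have h := prod_fgen [HeCTC.code a, HeCTC.code a]
  rw [wp _ (List.all_eq_true.1 chk_sq _ (List.mem_range.2 hc.1)), List.map_cons, List.map_cons,
    List.map_nil, List.prod_cons, List.prod_cons, List.prod_nil, mul_one, hc.2] at h
  exact h

theorem lift_rel : ∀ r ∈ coxRelators PC.edges ∪ {r | r ∈ PC.extra}, FreeGroup.lift fgen r = 1 :=
  CoxLift.lift_eq_one_of_words HeCTC.gen HeCTC.code 7 HeCTC.extraWords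
    (by intro a; cases a <;> exact ⟨by decide, rfl⟩) fgen (HeCTC.extra_iff fgen fgen_sq) word_one

/-- the homomorphism to the Held group -/
def φ : PC →* He := PresentedGroup.toGroup lift_rel

theorem φ_of (a : PC.Gen) : φ (PresentedGroup.of a) = fgen a := PresentedGroup.toGroup.of _

/-- the element of a word -/
def wordP (w : List ℕ) : PC := (w.map fun x => (PresentedGroup.of (HeCTC.gen x) : PC)).prod

theorem φ_wordP (w : List ℕ) : φ (wordP w) = wG (w.flatMap expand) := by
  unfold wordP
  rw [map_list_prod, List.map_map, ← prod_fgen]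
  congr 1
  apply List.map_congr_left
  intro x _
  exact φ_of _

/-! ### the involution -/

/-- the involution `d` -/
def z : He := wG [3]

theorem z_sq : z * z = 1 := by
  show wG [3] * wG [3] = 1
  rw [← wordG_append]
  exact wp _ (by decide +kernel)

theorem z_ne_one : z ≠ 1 :=
  SimpWPC.wordG_ne_one HeTC.data (c := 2) (by show ∀ x ∈ [3], x < 7; decide)
    (by show 2 < 2058; norm_num) (by show HeTC.tab.trace 2 [3].reverse ≠ 2; decide +kernel)

theorem orderOf_z : orderOf z = 2 := by
  have : Fact (Nat.Prime 2) := ⟨Nat.prime_two⟩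
  exact orderOf_eq_prime (by rw [pow_two]; exact z_sq) z_ne_one

/-! ### the image lies in the centralizer -/

theorem chk_comm : (List.range 7).all (fun x =>
    SimpWPC.fixOK HeTC.tab base ((expand x ++ [3]) ++ ([3] ++ expand x).reverse)) = true := by
  decide +kernel

theorem fgen_mem (a : PC.Gen) : fgen a ∈ Subgroup.centralizer ({z} : Set He) := by
  have hc : HeCTC.code a < 7 := by cases a <;> decide
  rw [Subgroup.mem_centralizer_singleton_iff]
  show wG (expand (HeCTC.code a)) * wG [3] = wG [3] * wG (expand (HeCTC.code a))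
  rw [← wordG_append, ← wordG_append]
  exact wG_eq (List.all_eq_true.1 chk_comm _ (List.mem_range.2 hc))

theorem range_le : φ.range ≤ Subgroup.centralizer ({z} : Set He) := by
  rintro _ ⟨x, rfl⟩
  induction x using PresentedGroup.induction_on with
  | _ y =>
    induction y using FreeGroup.induction_on with
    | C1 => simp
    | of x =>
      show φ (PresentedGroup.of x) ∈ _
      rw [φ_of]
      exact fgen_mem x
    | inv_of x hx =>
      rw [map_inv, map_inv]
      exact Subgroup.inv_mem _ hx
    | mul x y hx hy =>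
      rw [map_mul, map_mul]
      exact Subgroup.mul_mem _ hx hy

/-! ### the image has at least 21504 elements -/

theorem elt_eq (w : List ℕ) (hw : ∀ x ∈ w, x < 7) :
    elt HeTC.tab HeTC.data.chk_tab w = ρ (wG w)⁻¹ := by
  rw [← wordG_reverse, ρ_wordG HeTC.data (w := w.reverse)
    (fun x hx => hw x (List.mem_reverse.1 hx))]
  rfl

theorem elt_mem (pw : List ℕ) :
    elt HeTC.tab HeTC.data.chk_tab (pw.flatMap expand) ∈ φ.range.map ρ := by
  rw [elt_eq _ (flatMap_expand_lt pw), ← φ_wordP, ← map_inv]
  exact Subgroup.mem_map_of_mem _ ⟨_, rfl⟩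

theorem card_range_ge : 21504 ≤ Nat.card φ.range := by
  have h1 : chainProd levels ≤ Nat.card (φ.range.map ρ) := by
    refine chainProd_le_card_words HeTC.data.chk_tab ?_ chain_ok
    intro L hL w hw
    simp only [levels, List.mem_cons, List.not_mem_nil, or_false] at hL
    rcases hL with rfl | rfl
    · obtain ⟨pw, -, rfl⟩ := List.mem_map.1 hw
      exact elt_mem pw
    · obtain ⟨pw, -, rfl⟩ := List.mem_map.1 hw
      exact elt_mem pw
  rw [chain_prod] at h1
  have h2 : Nat.card (φ.range.map ρ) ≤ Nat.card φ.range :=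
    Nat.card_le_card_of_surjective (fun x : φ.range => (⟨ρ x.1, Subgroup.mem_map_of_mem _ x.2⟩ :
      φ.range.map ρ)) (by
        rintro ⟨_, y, hy, rfl⟩
        exact ⟨⟨y, hy⟩, rfl⟩)
  exact h1.trans h2

/-! ### the centralizer has at most 21504 elements -/

local notation "o" => HeTC.data.cert.o

theorem ρ_wG_apply {w : List ℕ} (hw : ∀ x ∈ w, x < 7) (c : ℕ) (hc : c < NN) :
    (ρ (wG w) ⟨c, hc⟩).val = HeTC.tab.trace c w.reverse :=
  ρ_wordG_apply HeTC.data hw c hc

theorem chk_fix : allBelow 2058 (fun c => !(Nat.beq (HeTC.tab.trace c [3]) c) ||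
    fixB.testBit c) = true := by decide +kernel

theorem chk_cnt : cnt fixB 2058 = 42 := by decide +kernel

theorem card_fixed : Nat.card {ω : Fin NN // ρ z ω = ω} ≤ 42 := by
  have h1 : {ω : Fin NN | ρ z ω = ω} ⊆ {b : Fin NN | fixB.testBit b.val = true} := by
    intro ω hω
    have h2 := allBelow_spec _ _ chk_fix ω.val ω.isLt
    have h3 : HeTC.tab.trace ω.val [3] = ω.val := by
      have h5 : _ = HeTC.tab.trace ω.val [3] := ρ_wG_apply (w := [3]) (by decide) ω.val ω.isLt
      rw [← h5]
      exact congrArg Fin.val hω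
    rw [h3] at h2
    simpa using h2
  have h4 := Set.ncard_le_ncard h1 (Set.toFinite _)
  rw [ncard_testBit] at h4
  exact h4.trans (le_of_eq chk_cnt)

/-- the numbers of the images of three rows under a conjugate -/
def sigN (w : List ℕ) : ℕ :=
  [551, 2030, 259].foldl (fun acc b => acc * 2058 + HeTC.tab.trace b (w.reverse ++ 3 :: w)) 0

/-- a strictly increasing list -/
def isInc : List ℕ → Bool
  | [] => true
  | [_] => true
  | a :: b :: l => decide (a < b) && isInc (b :: l)

theorem lt_of_isInc : ∀ (l : List ℕ) (a : ℕ), isInc (a :: l) = true → ∀ c ∈ l, a < c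
  | [], _, _, c, hc => by simp at hc
  | b :: l, a, h, c, hc => by
    rw [isInc, Bool.and_eq_true, decide_eq_true_eq] at h
    rcases List.mem_cons.1 hc with rfl | hc
    · exact h.1
    · exact h.1.trans (lt_of_isInc l b h.2 c hc)

theorem nodup_of_isInc : ∀ l : List ℕ, isInc l = true → l.Nodup
  | [], _ => List.nodup_nil
  | a :: l, h => by
    rw [List.nodup_cons]
    refine ⟨fun ha => lt_irrefl a (lt_of_isInc l a h a ha), nodup_of_isInc l ?_⟩
    cases l with
    | nil => rfl
    | cons b l =>
      rw [isInc, Bool.and_eq_true] at h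
      exact h.2

theorem chk_lt : cws.all (fun w => w.all fun x => decide (x < 7)) = true := by decide +kernel

theorem chk_pt : cws.all (fun w =>
    Nat.beq (HeTC.tab.trace 0 (w.reverse ++ [3])) (HeTC.tab.trace 0 w.reverse)) = true := by
  decide +kernel

theorem chk_sig : isInc (cws.map sigN) = true := by decide +kernel

theorem cws_length : cws.length = 3825 := by decide +kernel

theorem cws_lt {w : List ℕ} (hw : w ∈ cws) : ∀ x ∈ w, x < 7 := fun x hx =>
  of_decide_eq_true (List.all_eq_true.1 (List.all_eq_true.1 chk_lt w hw) x hx)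

theorem conj_eq (w : List ℕ) : (wG w)⁻¹ * z * wG w = wG (w.reverse ++ 3 :: w) := by
  rw [← wordG_reverse, wordG_append]
  show _ = wG w.reverse * wG ([3] ++ w)
  rw [wordG_append, mul_assoc]
  rfl

theorem sig_eq {w w' : List ℕ} (hw : w ∈ cws) (hw' : w' ∈ cws)
    (h : (wG w)⁻¹ * z * wG w = (wG w')⁻¹ * z * wG w') : sigN w = sigN w' := by
  rw [conj_eq, conj_eq] at h
  have hl : ∀ {v : List ℕ}, v ∈ cws → ∀ x ∈ v.reverse ++ 3 :: v, x < 7 := by
    intro v hv x hx
    rcases List.mem_append.1 hx with hx | hx
    · exact cws_lt hv x (List.mem_reverse.1 hx)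
    · rcases List.mem_cons.1 hx with rfl | hx
      · norm_num
      · exact cws_lt hv x hx
  have hr : ∀ v : List ℕ, (v.reverse ++ 3 :: v).reverse = v.reverse ++ 3 :: v := by
    intro v
    simp
  have key : ∀ (b : ℕ) (hb : b < NN), HeTC.tab.trace b (w.reverse ++ 3 :: w) =
      HeTC.tab.trace b (w'.reverse ++ 3 :: w') := by
    intro b hb
    have h1 := ρ_wG_apply (hl hw) b hb
    have h2 := ρ_wG_apply (hl hw') b hb
    rw [hr] at h1 h2
    rw [← h1, ← h2, h]
  unfold sigN
  simp only [List.foldl_cons, List.foldl_nil]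
  rw [key 551 (by show 551 < 2058; norm_num), key 2030 (by show 2030 < 2058; norm_num),
    key 259 (by show 259 < 2058; norm_num)]

theorem card_stab_le : Nat.card {x : He // ρ x o = o} ≤ 1958400 := by
  have htrans : ∀ ω : Fin NN, ∃ x : He, ρ x o = ω := HeTC.data.cert.trans
  choose t ht using htrans
  have h1 : Nat.card ({x : He // ρ x o = o} × Fin NN) ≤ Nat.card He := by
    refine Nat.card_le_card_of_injective (fun p => t p.2 * p.1.1) ?_
    rintro ⟨⟨x, hx⟩, a⟩ ⟨⟨y, hy⟩, b⟩ h
    have h' : t a * x = t b * y := h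
    have hab : a = b := by
      have h2 : ρ (t a * x) o = ρ (t b * y) o := by rw [h']
      rw [map_mul, map_mul] at h2
      have h3 : ρ (t a) (ρ x o) = ρ (t b) (ρ y o) := h2
      rw [hx, hy, ht, ht] at h3
      exact h3
    subst hab
    have hxy : x = y := mul_left_cancel h'
    subst hxy
    rfl
  rw [Nat.card_prod, Nat.card_fin, HeSimple.main.2] at h1
  have h2 : Nat.card {x : He // ρ x o = o} * 2058 ≤ 4030387200 := h1
  omega

/-- **the centralizer of the involution has at most 21504 elements** -/
theorem card_centralizer_le : Nat.card (Subgroup.centralizer ({z} : Set He)) ≤ 21504 := by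
  have hn := nodup_of_isInc _ chk_sig
  have hcn : cws.Nodup := hn.of_map _
  have hmain := CentCount.card_centralizer_mul_le ρ o HeTC.data.cert.trans z
    (fun i : Fin cws.length => wG (cws.get i)) (by
      intro i
      have hw : cws.get i ∈ cws := List.get_mem _ _
      have hpt : HeTC.tab.trace 0 ((cws.get i).reverse ++ [3]) =
          HeTC.tab.trace 0 (cws.get i).reverse :=
        Nat.eq_of_beq_eq_true (List.all_eq_true.1 chk_pt _ hw)
      apply Fin.ext
      have h1 := ρ_wG_apply (w := 3 :: cws.get i) (by
        intro x hx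
        rcases List.mem_cons.1 hx with rfl | hx
        · norm_num
        · exact cws_lt hw x hx) 0 HeTC.data.cert.hTn
      have h2 := ρ_wG_apply (cws_lt hw) 0 HeTC.data.cert.hTn
      rw [List.reverse_cons] at h1
      have h3 : wG (3 :: cws.get i) = z * wG (cws.get i) := by
        show wG ([3] ++ cws.get i) = _
        rw [wordG_append]
        rfl
      rw [h3, map_mul] at h1
      have h4 : (ρ z (ρ (wG (cws.get i)) o)).val =
          HeTC.tab.trace 0 ((cws.get i).reverse ++ [3]) := h1
      have h5 : (ρ (wG (cws.get i)) o).val = HeTC.tab.trace 0 (cws.get i).reverse := h2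
      rw [h4, h5, hpt]) (by
      intro i j hij
      have h1 := sig_eq (List.get_mem _ i) (List.get_mem _ j) hij
      have h2 : cws.get i = cws.get j :=
        List.inj_on_of_nodup_map hn (List.get_mem _ _) (List.get_mem _ _) h1
      exact (List.nodup_iff_injective_get.1 hcn) h2)
  rw [cws_length] at hmain
  have h2 : Nat.card (Subgroup.centralizer ({z} : Set He)) * 3825 ≤ 42 * 1958400 :=
    hmain.trans (Nat.mul_le_mul card_fixed card_stab_le)
  omega

/-! ### the isomorphism -/

theorem card_PC : Finite PC ∧ Nat.card PC = 21504 :=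
  finite_card_of_index_empty HeCTC.main (by norm_num)

theorem φ_injective : Function.Injective φ := by
  have : Finite PC := card_PC.1
  have hsurj : Function.Surjective φ.rangeRestrict := φ.rangeRestrict_surjective
  have hle : Nat.card PC ≤ Nat.card φ.range := by
    rw [card_PC.2]
    exact card_range_ge
  have hbij : Function.Bijective φ.rangeRestrict := hsurj.bijective_of_nat_card_le hle
  intro x y hxy
  exact hbij.1 (Subtype.ext hxy)

theorem range_eq : φ.range = Subgroup.centralizer ({z} : Set He) :=
  Subgroup.eq_of_le_of_card_ge range_le (card_centralizer_le.trans card_range_ge)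

/-- **the centralizer of the involution is the presented group** -/
theorem equivC : Nonempty (PC ≃* Subgroup.centralizer ({z} : Set He)) :=
  ⟨(MonoidHom.ofInjective φ_injective).trans (MulEquiv.subgroupCongr range_eq)⟩

end Cfsg.Agent.Lib.Helper6.HeCent

end
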