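import Cfsg.Agent.Lib.Helper6.SimpUB
import Cfsg.Prelude.Def_Spor_He

/-! # Sub-presentations of the presented Held group -/

set_option autoImplicit false
set_option linter.unusedSimpArgs false

namespace Cfsg.Agent.Lib.Helper6.HeSub

open Cfsg.Spor Cfsg.Agent.Lib.Helper6.Simp

namespace Q5

/-- the generators a, b, c, d, e -/
inductive Gen
  | a
  | b
  | c
  | d
  | e
  deriving DecidableEq

abbrev a : FreeGroup Gen := FreeGroup.of Gen.a
abbrev b : FreeGroup Gen := FreeGroup.of Gen.b
abbrev c : FreeGroup Gen := FreeGroup.of Gen.c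
abbrev d : FreeGroup Gen := FreeGroup.of Gen.d
abbrev e : FreeGroup Gen := FreeGroup.of Gen.e

/-- the Coxeter graph -/
def edges : List (Gen × ℕ × Gen) :=
  [(.a, 4, .b), (.b, 3, .c), (.c, 10, .d), (.d, 3, .e)]

/-- the further relators -/
def extra : List (FreeGroup Gen) := [  e * ((a * b * c) ^ 3)⁻¹,
  a * ((c * d) ^ 5)⁻¹]

/-- the inclusion of the generators -/
def ι : Gen → He.Gen
  | .a => .a
  | .b => .b
  | .c => .c
  | .d => .d
  | .e => .e

end Q5

/-- the group of the sub-presentation on a, b, c, d, e -/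
abbrev Q5 : Type := CoxPresented Q5.Gen Q5.edges Q5.extra

namespace Q4

/-- the generators a, b, c, e -/
inductive Gen
  | a
  | b
  | c
  | e
  deriving DecidableEq

abbrev a : FreeGroup Gen := FreeGroup.of Gen.a
abbrev b : FreeGroup Gen := FreeGroup.of Gen.b
abbrev c : FreeGroup Gen := FreeGroup.of Gen.c
abbrev e : FreeGroup Gen := FreeGroup.of Gen.e

/-- the Coxeter graph -/
def edges : List (Gen × ℕ × Gen) :=
  [(.a, 4, .b), (.b, 3, .c), (.a, 2, .e)]

/-- the further relators -/
def extra : List (FreeGroup Gen) := [  e * ((a * b * c) ^ 3)⁻¹]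

/-- the inclusion of the generators -/
def ι : Gen → Q5.Gen
  | .a => .a
  | .b => .b
  | .c => .c
  | .e => .e

end Q4

/-- the group of the sub-presentation on a, b, c, e -/
abbrev Q4 : Type := CoxPresented Q4.Gen Q4.edges Q4.extra

/-- `Q5` maps to `He` -/
def subQ5 : SubPres He.edges He.extra Q5.edges Q5.extra where
  ι := Q5.ι
  hnode := by decide
  hlabel := by decide
  hextra := by
    intro r hr
    simp only [Q5.extra, List.mem_cons, List.not_mem_nil, or_false] at hr
    rcases hr with rfl | rfl <;>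
      simp only [map_mul, map_inv, map_pow, FreeGroup.map.of, Q5.ι, He.extra, List.mem_cons,
        true_or, or_true]

/-- `Q4` maps to `Q5` -/
def subQ4 : SubPres Q5.edges Q5.extra Q4.edges Q4.extra where
  ι := Q4.ι
  hnode := by decide
  hlabel := by decide
  hextra := by
    intro r hr
    simp only [Q4.extra, List.mem_cons, List.not_mem_nil, or_false] at hr
    rcases hr with rfl
    simp only [map_mul, map_inv, map_pow, FreeGroup.map.of, Q4.ι, Q5.extra, List.mem_cons,
      true_or, or_true]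

theorem rangeQ5 : (Set.range fun y => FreeGroup.of (subQ5.ι y)) =
    ({He.a, He.b, He.c, He.d, He.e} : Set (FreeGroup He.Gen)) := by
  ext z
  constructor
  · rintro ⟨y, rfl⟩
    cases y <;> simp [subQ5, Q5.ι]
  · intro hz
    simp only [Set.mem_insert_iff, Set.mem_singleton_iff] at hz
    rcases hz with rfl | rfl | rfl | rfl | rfl
    · exact ⟨.a, rfl⟩
    · exact ⟨.b, rfl⟩
    · exact ⟨.c, rfl⟩
    · exact ⟨.d, rfl⟩
    · exact ⟨.e, rfl⟩

theorem rangeQ4 : (Set.range fun y => FreeGroup.of (subQ4.ι y)) =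
    ({Q5.a, Q5.b, Q5.c, Q5.e} : Set (FreeGroup Q5.Gen)) := by
  ext z
  constructor
  · rintro ⟨y, rfl⟩
    cases y <;> simp [subQ4, Q4.ι]
  · intro hz
    simp only [Set.mem_insert_iff, Set.mem_singleton_iff] at hz
    rcases hz with rfl | rfl | rfl | rfl
    · exact ⟨.a, rfl⟩
    · exact ⟨.b, rfl⟩
    · exact ⟨.c, rfl⟩
    · exact ⟨.e, rfl⟩

end Cfsg.Agent.Lib.Helper6.HeSub
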