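import Cfsg.Agent.Lib.Helper6.HeQ4TCData
import Cfsg.Agent.Lib.Helper6.TCInst
import Cfsg.Agent.Lib.Helper6.HeSub

/-! # HeQ4: the kernel checks of the words, the coset table and the orbits -/

set_option autoImplicit false

namespace Cfsg.Agent.Lib.Helper6.HeQ4TC

open Cfsg.Agent.Lib.Helper6.TC Cfsg.Spor Cfsg.Agent.Lib.Helper6.HeSub

/-- the generator with a given code -/
def gen : ℕ → Q4.Gen
  | 0 => .a
  | 1 => .b
  | 2 => .c
  | _ => .e

/-- the code of a generator -/
def code : Q4.Gen → ℕ
  | .a => 0
  | .b => 1
  | .c => 2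
  | .e => 3

theorem chk_words : wordsSrcOK cfg (coxWordsL Q4.edges gen cfg.g ++ extraWords) nw srcs = true := by
  decide +kernel

theorem chk_tab : tab.tabOK = true := by decide +kernel

theorem chk_rels : tab.relsOK (coxWordsL Q4.edges gen cfg.g ++ extraWords) = true := by
  decide +kernel

theorem chk_tree : tab.treeOK = true := by decide +kernel

theorem chk_sub : subOK cfg tab subW = true := by decide +kernel


end Cfsg.Agent.Lib.Helper6.HeQ4TC
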