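import Cfsg.Agent.Lib.Helper6.TCCheck

/-! # Coset enumeration data for HeQ4: the trace (generated) -/

set_option autoImplicit false
set_option maxRecDepth 1000000
set_option maxHeartbeats 4000000

namespace Cfsg.Agent.Lib.Helper6.HeQ4TC

open Cfsg.Agent.Lib.Helper6.TC

/-- the operations of the enumeration -/
def trace : List (List ℕ) := [[0, 67108864, 134217728, 201326592, 67108868, 134217732, 201326596, 8, 134217736, 201326600, 67108876, 201326604, 20, 134217748, 201326612, 67108888, 201326616, 67108896, 134217760, 201326624, 67108900, 201326628, 44, 201326636, 67108916, 134217780, 201326644, 67108920, 201326648, 64, 201326656, 134217800, 201326664, 67108940, 201326668, 84, 201326676, 67108956, 201326684, 134217828, 201326692, 67108968, 201326696, 112, 201326704, 67108984, 201326712, 1099578736641, 549957140481, 550091358209, 825170591745, 550426902529, 550628229121, 825170591749, 550426902533, 1100920913925, 550628229125, 549957140489, 550091358217, 826110115849, 550628229129, 826714095625, 824767938573, 550426902541, 275280560141, 549957140501, 550091358229, 1100786696213, 550628229141, 826714095637, 1650810945593, 550426902553, 550292684833, 550426902561, 826043007009, 826244333601, 550628229153, 825774571553, 550829555745, 550426902565,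 1376201474085, 275280560165, 1650341183525, 826982531109, 275079233581, 550426902581, 826244333621, 551970406453, 550628229173, 550829555765, 550426902585, 275280560185, 275146342473, 275750322249, 1101592002633, 275548995661]]

end Cfsg.Agent.Lib.Helper6.HeQ4TC
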