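import Cfsg.Agent.Lib.Helper6.TCPerm

/-! # Coset enumeration data for HeQ4: configuration, table, words (generated) -/

set_option autoImplicit false
set_option maxRecDepth 1000000
set_option maxHeartbeats 4000000

namespace Cfsg.Agent.Lib.Helper6.HeQ4TC

open Cfsg.Agent.Lib.Helper6.TC

/-- the configuration of the enumeration -/
def cfg : Cfg := ⟨4, 6, 1000000, 0, 48, 0x21021021030a10210210320a02102103210a21021032100a10210321020a02103210210a21032102100a10321021020a03210210210a32102102100a12012012300a20120123010a01201230120a12012301200a20123012010a01230120120a12301201200a23012012010a30120120120a01201201230a000000003302000000232304000000323204000000002202000000131304000000313104000012121206000021212106000000001102000000030304000000303004000000020204000000202004000101010108001010101008000000000002⟩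

/-- the number of words -/
def nw : ℕ := 36

/-- the words of the further relators -/
def extraWords : List (List ℕ) := [[3, 2, 1, 0, 2, 1, 0, 2, 1, 0]]

/-- where the words come from -/
def srcs : List ℕ := [0, 512, 514, 1024, 1026, 1536, 1538, 2560, 3072, 3074, 3584, 3586, 5120, 5632, 5634, 7680, 8192, 8194, 8196, 8198, 8200, 8202, 8204, 8206, 8208, 8210, 8193, 8195, 8197, 8199, 8201, 8203, 8205, 8207, 8209, 8211]

/-- the coset table -/
def tab : Tab := ⟨4, 6, 48, .leaf 0x1f8e182189f9dd81e8e37e475b7257a5a1b99a9dc8a76a8858ae9669a98bd6657aeb62c59456d5edc14b93bd5aaf4f0a51b92c30b6f44f42eb2e44fb4eb2a42c3ab3eaa4e4cc98da2896730a2e692630a9499222e42632a28496872203607477c678871e19d6dc6da1841594995846035c55570d65155130c24901520911103c238134b20d04c1cb2812481c6045103080⟩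

/-- the words of the generators of the subgroup -/
def subW : List (List ℕ) := []


end Cfsg.Agent.Lib.Helper6.HeQ4TC
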