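import Cfsg.Agent.Lib.Helper6.SimpUB

/-! # A presented group in which a cyclic subgroup has finite index -/

set_option autoImplicit false

namespace Cfsg.Agent.Lib.Helper6.PGen2

/-- a cyclic group generated by an element with a trivial power -/
theorem cyclic_card_le {G : Type*} [Group G] (x : G) {k : ℕ} (hk : 0 < k) (h : x ^ k = 1) :
    Finite (Subgroup.zpowers x) ∧ Nat.card (Subgroup.zpowers x) ≤ k := by
  have hfo : IsOfFinOrder x := isOfFinOrder_iff_pow_eq_one.mpr ⟨k, hk, h⟩
  refine ⟨hfo.finite_zpowers.to_subtype, ?_⟩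
  rw [Nat.card_zpowers]
  exact orderOf_le_of_pow_eq_one hk h

/-- the bound for the order of a presented group, by the index of a cyclic subgroup one power of
whose generator is a relator -/
theorem ub_of_cyclic {α : Type} {rels : Set (FreeGroup α)} (x : FreeGroup α) {n k : ℕ}
    (hidx : ((Subgroup.closure {x}).map (PresentedGroup.mk rels)).index = n) (hn0 : n ≠ 0)
    (hk : 0 < k) (hx : x ^ k ∈ rels) :
    Finite (PresentedGroup rels) ∧ Nat.card (PresentedGroup rels) ≤ n * k := by
  have e : (Subgroup.closure {x}).map (PresentedGroup.mk rels) =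
      Subgroup.zpowers (PresentedGroup.mk rels x) := by
    rw [MonoidHom.map_closure, Set.image_singleton, Subgroup.zpowers_eq_closure]
  have h1 : (PresentedGroup.mk rels x) ^ k = 1 := by
    rw [← map_pow]
    exact PresentedGroup.one_of_mem hx
  obtain ⟨hf, hc⟩ := cyclic_card_le _ hk h1
  rw [e] at hidx
  exact Cfsg.Agent.Lib.Helper6.Simp.finite_card_le_of_index _ hidx hn0 hf hc

end Cfsg.Agent.Lib.Helper6.PGen2
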