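import Cfsg.Prelude.Def_SporCoxeter

/-! # A presentation of the symplectic group of dimension four over the field with four elements
on two generators -/

set_option autoImplicit false

namespace Cfsg.Agent.Lib.Helper6.PGrp

open Cfsg.Spor

namespace PS44

/-- the two generators -/
inductive Gen
  | a
  | b
  deriving DecidableEq

/-- the generator a as a word -/ abbrev a : FreeGroup Gen := FreeGroup.of Gen.a
/-- the generator b as a word -/ abbrev b : FreeGroup Gen := FreeGroup.of Gen.b

/-- no Coxeter graph -/
def edges : List (Gen × ℕ × Gen) := []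

/-- the relators -/
def extra : List (FreeGroup Gen) := [
  a ^ 2,
  b ^ 5,
  (a * b * a * b⁻¹) ^ 2,
  (a * b * b * a * b⁻¹ * b⁻¹) ^ 5,
  (a * b⁻¹ * b⁻¹ * a * b⁻¹ * b⁻¹ * a * b⁻¹) ^ 4,
  (a * b) ^ 17 ]

end PS44

/-- the presented group -/
abbrev PS44 : Type := CoxPresented PS44.Gen PS44.edges PS44.extra

end Cfsg.Agent.Lib.Helper6.PGrp
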