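import Cfsg.Agent.Lib.Helper6.PS44BTCData
import Cfsg.Agent.Lib.Helper6.TCGIndex

/-! # PS44B: the kernel check of the coset table, part 0 -/

set_option autoImplicit false

namespace Cfsg.Agent.Lib.Helper6.PS44BTC

open Cfsg.Agent.Lib.Helper6.TC Cfsg.Agent.Lib.Helper6.TCGS

theorem chk_tab0 : Cfsg.Agent.Lib.Helper6.TCG.tabOKc tab ivs 0 85 = true := by decide +kernel

end Cfsg.Agent.Lib.Helper6.PS44BTC
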