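import Cfsg.Agent.Lib.Helper6.TCCox
import Cfsg.Agent.Lib.Helper6.BTree

/-! # A static checker for coset enumerations, for letters that come in inverse pairs: the table
with a proof for every entry

This is `TCStatic` again, with one more piece of data: the map that takes a letter to its inverse
(a letter that is its own inverse stands for an involution).

All the entries that a coset enumeration ever writes into its table (rows are never reused,
entries never overwritten) are kept in one array, each with the time at which it was written and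
the reason for it: the definition of a row, the entry of the same generator in the other
direction, a relator or a subgroup word scanned from some row that closes up to this entry, or
the transfer of an entry of a row that was found to be equal to a smaller row.  A reason may only
use entries written before.  Nothing is ever changed, so every entry can be checked by itself. -/

set_option autoImplicit false

namespace Cfsg.Agent.Lib.Helper6.TCGS

open Cfsg.Agent.Lib.Helper6.NatArr Cfsg.Agent.Lib.Helper6.TC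

/-- the data: the words (as for the replaying checker, `c.w` is the width of a row number plus
one), the width of the times, the number of rows, the table and the merge map (entries
`value + 2 ^ c.w * time`), the reasons for them, and the definitions of the rows
(`16 * row + generator`) -/
structure SCert where
  c : Cfg
  tb : ℕ
  N : ℕ
  E : BT
  M : BT
  J : BT
  JM : BT
  P : BT
  ivs : ℕ

namespace SCert

variable (Z : SCert)

/-- the width of an entry -/
def W : ℕ := Nat.add Z.c.w Z.tb

/-- the inverse of a letter (four binary digits for each letter) -/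
def ivOf (x : ℕ) : ℕ := Nat.land (Nat.shiftRight Z.ivs (Nat.mul 4 x)) 15

/-- the place of the entry of row `a` and generator `x` -/
def slotS (a x : ℕ) : ℕ := Nat.add (Nat.mul a Z.c.g) x

/-- the entry of the table at a place -/
noncomputable def eget (i : ℕ) : ℕ := Z.E.entry Z.W i

/-- the entry of the merge map for a row -/
noncomputable def mget (b : ℕ) : ℕ := Z.M.entry Z.W b

/-- the reason for the entry of the table at a place -/
noncomputable def jget (i : ℕ) : ℕ := Z.J.entry (Nat.add 21 Z.c.w) i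

/-- the reason for the entry of the merge map for a row -/
noncomputable def jmget (b : ℕ) : ℕ := Z.JM.entry (Nat.add 21 Z.c.w) b

/-- the definition of a row -/
noncomputable def pget (r : ℕ) : ℕ := Z.P.entry (Nat.add Z.c.w 4) r

/-- the value of an entry -/
def valOf (e : ℕ) : ℕ := Nat.land e (Nat.pred (Nat.shiftLeft 1 Z.c.w))

/-- the time of an entry -/
def timeOf (e : ℕ) : ℕ := Nat.shiftRight e Z.c.w

/-- an entry as seen at time `t` -/
def filt (t e : ℕ) : ℕ := bif Nat.blt (Z.timeOf e) t then Z.valOf e else 0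

/-- the table at time `t` -/
noncomputable def rd (t a x : ℕ) : ℕ :=
  bif Nat.blt a Z.N then force (Z.eget (Z.slotS a x)) fun e => Z.filt t e else 0

/-- the merge map at time `t` -/
noncomputable def rm (t b : ℕ) : ℕ :=
  bif Nat.blt b Z.N then force (Z.mget b) fun e => Z.filt t e else 0

/-- follow the merge map -/
noncomputable def find (t : ℕ) : ℕ → ℕ → ℕ
  | 0, b => b
  | f + 1, b => force (Z.rm t b) fun e => bif Nat.beq e 0 then b else find t f (Nat.pred e)

/-- trace `n` letters of a packed word from place `i` on; `none` if an entry is missing -/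
noncomputable def scanF (t wd : ℕ) : ℕ → ℕ → ℕ → Option ℕ
  | 0, _, cur => some cur
  | n + 1, i, cur => force (Z.rd t cur (letter wd i)) fun e =>
      bif Nat.beq e 0 then none
      else force (Z.find t Z.c.fuel (Nat.pred e)) fun nxt => scanF t wd n (Nat.succ i) nxt

/-- trace `n` letters of a packed word backwards, from place `i - 1` down -/
noncomputable def scanB (t wd : ℕ) : ℕ → ℕ → ℕ → Option ℕ
  | 0, _, cur => some cur
  | n + 1, i, cur => force (Z.rd t cur (Z.ivOf (letter wd (Nat.pred i)))) fun e =>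
      bif Nat.beq e 0 then none
      else force (Z.find t Z.c.fuel (Nat.pred e)) fun nxt => scanB t wd n (Nat.pred i) nxt

/-- the entry `(f, x) ↦ b` follows at time `t` from the word `k` scanned from row `a0` with a
gap at place `p` -/
noncomputable def dedOK (t f x b a0 k p : ℕ) : Bool :=
  force (wordAt Z.c k) fun wd =>
  (Nat.ble Z.c.nsub k || Nat.beq a0 0) && (Nat.blt p (wlen wd) && (Nat.beq (letter wd p) x &&
  ((match Z.scanF t wd p 0 a0 with
    | none => false
    | some f' => Nat.beq f' f) &&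
   (match Z.scanB t wd (Nat.sub (wlen wd) (Nat.succ p)) (wlen wd) a0 with
    | none => false
    | some b' => Nat.beq b' b))))

/-- the entry `(a, x) ↦ r` is, at time `t`, the entry of the row `v` that was merged into `a` -/
noncomputable def moveOK (t a x r v : ℕ) : Bool :=
  Nat.beq (Z.find t Z.c.fuel v) a &&
  (force (Z.rd t v x) fun y => !Nat.beq y 0 && Nat.beq (Z.find t Z.c.fuel (Nat.pred y)) r)

/-- the fields of a reason -/
def fA (j : ℕ) : ℕ := Nat.div j 2097152
def fB (j : ℕ) : ℕ := Nat.mod (Nat.div j 512) 4096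
def fC (j : ℕ) : ℕ := Nat.mod (Nat.div j 4) 128

/-- check the entry of row `a` and generator `x` -/
noncomputable def slotOK (a x : ℕ) : Bool :=
  force (Z.eget (Z.slotS a x)) fun e =>
  force (Z.valOf e) fun v =>
  bif Nat.beq v 0 then true else
  force (Z.timeOf e) fun t =>
  force (Nat.pred v) fun r =>
  force (Z.jget (Z.slotS a x)) fun j =>
  force (Nat.mod j 4) fun kind =>
  bif Nat.beq kind 0 then
    Nat.blt a r && (Nat.blt x 16 &&
      Nat.beq (Z.pget r) (Nat.add (Nat.mul a 16) x))
  else bif Nat.beq kind 1 then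
    force (Z.eget (Z.slotS r (Z.ivOf x))) fun e' =>
      Nat.blt r Z.N && (Nat.beq (Z.valOf e') (Nat.succ a) && Nat.blt (Z.timeOf e') t)
  else bif Nat.beq kind 2 then Z.dedOK t a x r (fA j) (fB j) (fC j)
  else Z.moveOK t a x r (fA j)

/-- two pairs with the same members -/
def pairEq (p q hi lo : ℕ) : Bool :=
  (Nat.beq p hi && Nat.beq q lo) || (Nat.beq p lo && Nat.beq q hi)

/-- the rows `hi` and `lo` are the two ends of the word `k` scanned from row `a0`, forwards up to
place `p` and backwards from the end -/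
noncomputable def coinOK (t hi lo a0 k p : ℕ) : Bool :=
  force (wordAt Z.c k) fun wd =>
  (Nat.ble Z.c.nsub k || Nat.beq a0 0) && (Nat.ble p (wlen wd) &&
  (match Z.scanF t wd p 0 a0 with
    | none => false
    | some f =>
      match Z.scanB t wd (Nat.sub (wlen wd) p) (wlen wd) a0 with
      | none => false
      | some b => pairEq f b hi lo))

/-- the word `k` scanned from row `a0` with a gap at place `p`, where there is an entry already -/
noncomputable def dedCoinOK (t hi lo a0 k p : ℕ) : Bool :=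
  force (wordAt Z.c k) fun wd =>
  (Nat.ble Z.c.nsub k || Nat.beq a0 0) && (Nat.blt p (wlen wd) &&
  (Nat.blt (letter wd p) Z.c.g &&
  (match Z.scanF t wd p 0 a0 with
    | none => false
    | some f =>
      match Z.scanB t wd (Nat.sub (wlen wd) (Nat.succ p)) (wlen wd) a0 with
      | none => false
      | some b =>
        force (Z.rd t f (letter wd p)) fun e =>
          !Nat.beq e 0 && pairEq (Z.find t Z.c.fuel (Nat.pred e)) b hi lo)))

/-- the entry of generator `x` of the merged row `v` against the entry of the row it was merged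
into -/
noncomputable def moveCoinOK (t hi lo v x : ℕ) : Bool :=
  Nat.blt x Z.c.g &&
  (force (Z.find t Z.c.fuel v) fun r0 =>
   force (Z.rd t v x) fun y => !Nat.beq y 0 &&
   (force (Z.find t Z.c.fuel (Nat.pred y)) fun r =>
    force (Z.rd t r0 x) fun e =>
      !Nat.beq e 0 && pairEq r (Z.find t Z.c.fuel (Nat.pred e)) hi lo))

/-- check the entry of row `b` in the merge map -/
noncomputable def mslotOK (b : ℕ) : Bool :=
  force (Z.mget b) fun e =>
  force (Z.valOf e) fun v =>
  bif Nat.beq v 0 then true else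
  force (Z.timeOf e) fun t =>
  force (Nat.pred v) fun lo =>
  force (Z.jmget b) fun j =>
  force (Nat.mod j 4) fun kind =>
  bif Nat.beq kind 0 then Z.coinOK t b lo (fA j) (fB j) (fC j)
  else bif Nat.beq kind 1 then Z.dedCoinOK t b lo (fA j) (fB j) (fC j)
  else Z.moveCoinOK t b lo (fA j) (fB j)

/-- the rows from `lo` on, `len` of them, are checked -/
noncomputable def rowsOK (lo len : ℕ) : Bool :=
  allBelow len fun i => allBelow Z.c.g fun x => Z.slotOK (Nat.add lo i) x

/-- the entries of the merge map from `lo` on, `len` of them, are checked -/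
noncomputable def mrowsOK (lo len : ℕ) : Bool := allBelow len fun i => Z.mslotOK (Nat.add lo i)

/-- the first `n` rows are complete and closed -/
noncomputable def finalOK (n : ℕ) : Bool :=
  allBelow n fun a => allBelow Z.c.g fun x =>
    force (Z.rd (Nat.pow 2 Z.W) a x) fun e =>
      !Nat.beq e 0 && Nat.blt (Z.find (Nat.pow 2 Z.W) Z.c.fuel (Nat.pred e)) n

/-! ### soundness -/

section

variable {G : Type*} [Group G] (γ : ℕ → G) (H : Subgroup G)

/-- the row from which a row is defined -/
noncomputable def parOf (r : ℕ) : ℕ := Nat.div (Z.pget r) 16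

/-- the generator with which a row is defined -/
noncomputable def pgenOf (r : ℕ) : ℕ := Nat.mod (Z.pget r) 16

/-- the element of the group that belongs to a row -/
noncomputable def τ (r : ℕ) : G :=
  if h : Z.parOf r < r then τ (Z.parOf r) * γ (Z.pgenOf r) else 1
termination_by r
decreasing_by exact h

theorem τ_zero : Z.τ γ 0 = 1 := by
  rw [τ]
  simp

theorem τ_def {a x r : ℕ} (har : a < r) (hx : x < 16)
    (hP : Z.pget r = a * 16 + x) : Z.τ γ r = Z.τ γ a * γ x := by
  have h1 : Z.parOf r = a := by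
    unfold parOf
    rw [hP]
    show (a * 16 + x) / 16 = a
    omega
  have h2 : Z.pgenOf r = x := by
    unfold pgenOf
    rw [hP]
    show (a * 16 + x) % 16 = x
    omega
  rw [τ, dif_pos (by rw [h1]; exact har), h1, h2]

/-- all that the table and the merge map say at time `t` is true -/
def Good (t : ℕ) : Prop :=
  (∀ a x r, x < Z.c.g → Z.rd t a x = r + 1 → R H (Z.τ γ a * γ x) (Z.τ γ r)) ∧
  (∀ b lo, Z.rm t b = lo + 1 → R H (Z.τ γ b) (Z.τ γ lo))

variable {Z γ H}

theorem find_spec {t : ℕ} (hG : Z.Good γ H t) : ∀ (fuel b : ℕ),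
    R H (Z.τ γ b) (Z.τ γ (Z.find t fuel b))
  | 0, b => R.refl _
  | fuel + 1, b => by
    unfold find
    rw [force_eq]
    cases he : Z.rm t b with
    | zero => exact R.refl _
    | succ a =>
      simp only [Nat.beq, cond_false, Nat.pred_succ]
      exact (hG.2 b a he).trans (find_spec hG fuel a)

theorem scanF_spec {t : ℕ} (hG : Z.Good γ H t) (wd : ℕ) : ∀ (n i cur r : ℕ),
    (∀ j, i ≤ j → j < i + n → letter wd j < Z.c.g) →
    Z.scanF t wd n i cur = some r → R H (Z.τ γ cur * ev γ wd i n) (Z.τ γ r)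
  | 0, i, cur, r, _, h => by
    simp only [scanF, Option.some.injEq] at h
    subst h
    simpa [ev] using R.refl (H := H) (Z.τ γ cur)
  | n + 1, i, cur, r, hl, h => by
    unfold scanF at h
    rw [force_eq] at h
    cases he : Z.rd t cur (letter wd i) with
    | zero => rw [he] at h; simp at h
    | succ e =>
      rw [he] at h
      simp only [Nat.beq, cond_false, force_eq, Nat.pred_succ] at h
      have hlt : letter wd i < Z.c.g := hl i le_rfl (by omega)
      have hR1 := hG.1 cur (letter wd i) e hlt he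
      have hR2 := find_spec hG Z.c.fuel e
      have hR3 := scanF_spec hG wd n (Nat.succ i) _ r
        (fun j h1 h2 => hl j (by omega) (by omega)) h
      rw [ev, ← mul_assoc]
      exact ((hR1.trans hR2).mul_right _).trans hR3

theorem scanB_spec (hinv : ∀ x, x < Z.c.g → Z.ivOf x < Z.c.g ∧ γ (Z.ivOf x) = (γ x)⁻¹) {t : ℕ} (hG : Z.Good γ H t)
    (wd : ℕ) : ∀ (n i cur r : ℕ), n ≤ i →
    (∀ j, i - n ≤ j → j < i → letter wd j < Z.c.g) →
    Z.scanB t wd n i cur = some r → R H (Z.τ γ cur * (ev γ wd (i - n) n)⁻¹) (Z.τ γ r)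
  | 0, i, cur, r, _, _, h => by
    simp only [scanB, Option.some.injEq] at h
    subst h
    simpa [ev] using R.refl (H := H) (Z.τ γ cur)
  | n + 1, i, cur, r, hni, hl, h => by
    unfold scanB at h
    rw [force_eq] at h
    cases he : Z.rd t cur (Z.ivOf (letter wd (Nat.pred i))) with
    | zero => rw [he] at h; simp at h
    | succ e =>
      rw [he] at h
      simp only [Nat.beq, cond_false, force_eq, Nat.pred_succ] at h
      have hlt : letter wd (Nat.pred i) < Z.c.g :=
        hl (Nat.pred i) (by simp only [Nat.pred_eq_sub_one]; omega)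
          (by simp only [Nat.pred_eq_sub_one]; omega)
      have hR1 := hG.1 cur (Z.ivOf (letter wd (Nat.pred i))) e (hinv _ hlt).1 he
      have hR2 := find_spec hG Z.c.fuel e
      have hR3 := scanB_spec hinv hG wd n (Nat.pred i) _ r
        (by simp only [Nat.pred_eq_sub_one]; omega)
        (fun j h1 h2 => hl j (by simp only [Nat.pred_eq_sub_one] at h1; omega)
          (by simp only [Nat.pred_eq_sub_one] at h2; omega)) h
      have e1 : i - (n + 1) = Nat.pred i - n := by simp only [Nat.pred_eq_sub_one]; omega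
      have e2 : Nat.pred i - n + n = Nat.pred i := by simp only [Nat.pred_eq_sub_one]; omega
      rw [e1, ev_succ_right, e2, mul_inv_rev]
      have e3 : (γ (letter wd (Nat.pred i)))⁻¹ = γ (Z.ivOf (letter wd (Nat.pred i))) :=
        ((hinv _ hlt).2).symm
      rw [e3, ← mul_assoc]
      exact ((hR1.trans hR2).mul_right _).trans hR3

theorem word_fact (hW : WordsOK Z.c γ H) {a k : ℕ}
    (h : (Nat.ble Z.c.nsub k || Nat.beq a 0) = true) :
    R H (Z.τ γ a * ev γ (wordAt Z.c k) 0 (wlen (wordAt Z.c k))) (Z.τ γ a) := by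
  by_cases hk : Z.c.nsub ≤ k
  · rw [hW.rel k hk, mul_one]
    exact R.refl _
  · have h1 : Nat.ble Z.c.nsub k = false := by
      cases hb : Nat.ble Z.c.nsub k
      · rfl
      · exact absurd (Nat.le_of_ble_eq_true hb) hk
    rw [h1, Bool.false_or] at h
    have ha : a = 0 := Nat.eq_of_beq_eq_true h
    subst ha
    rw [Z.τ_zero γ]
    simpa [R] using hW.sub k (by omega)

/-- the fact deduced from a word scanned with a gap -/
theorem gap_fact (hinv : ∀ x, x < Z.c.g → Z.ivOf x < Z.c.g ∧ γ (Z.ivOf x) = (γ x)⁻¹) (hW : WordsOK Z.c γ H) {t : ℕ}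
    (hG : Z.Good γ H t) {a k p f b : ℕ}
    (hsub : (Nat.ble Z.c.nsub k || Nat.beq a 0) = true) (hp : p < wlen (wordAt Z.c k))
    (hf : Z.scanF t (wordAt Z.c k) p 0 a = some f)
    (hb : Z.scanB t (wordAt Z.c k) (Nat.sub (wlen (wordAt Z.c k)) (Nat.succ p))
      (wlen (wordAt Z.c k)) a = some b) :
    R H (Z.τ γ f * γ (letter (wordAt Z.c k) p)) (Z.τ γ b) := by
  have hRf := scanF_spec hG (wordAt Z.c k) p 0 a f
    (fun j _ h2 => hW.lett k j (by omega)) hf
  have hRb := scanB_spec hinv hG (wordAt Z.c k) _ _ a b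
    (Nat.sub_le _ _) (fun j _ h2 => hW.lett k j h2) hb
  have hWf := word_fact hW (a := a) (k := k) hsub
  have eL : wlen (wordAt Z.c k) = p + ((wlen (wordAt Z.c k) - (p + 1)) + 1) := by omega
  have e1 : wlen (wordAt Z.c k) - (wlen (wordAt Z.c k) - Nat.succ p) = p + 1 := by omega
  rw [e1] at hRb
  have e2 : wlen (wordAt Z.c k) - Nat.succ p = wlen (wordAt Z.c k) - (p + 1) := rfl
  rw [e2] at hRb
  rw [eL, ev_add, ev, zero_add] at hWf
  have h1 := (hRf.mul_right (γ (letter (wordAt Z.c k) p))).symm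
  have h2 := hWf.mul_right (ev γ (wordAt Z.c k) (p + 1) (wlen (wordAt Z.c k) - (p + 1)))⁻¹
  have e3 : Z.τ γ a * (ev γ (wordAt Z.c k) 0 p * (γ (letter (wordAt Z.c k) p) *
      ev γ (wordAt Z.c k) (p + 1) (wlen (wordAt Z.c k) - (p + 1)))) *
      (ev γ (wordAt Z.c k) (p + 1) (wlen (wordAt Z.c k) - (p + 1)))⁻¹ =
      Z.τ γ a * ev γ (wordAt Z.c k) 0 p * γ (letter (wordAt Z.c k) p) := by
    simp only [mul_assoc, mul_inv_cancel, mul_one]
  rw [e3] at h2
  exact h1.trans (h2.trans hRb)

/-- the fact deduced from a word scanned without a gap -/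
theorem nogap_fact (hinv : ∀ x, x < Z.c.g → Z.ivOf x < Z.c.g ∧ γ (Z.ivOf x) = (γ x)⁻¹) (hW : WordsOK Z.c γ H) {t : ℕ}
    (hG : Z.Good γ H t) {a k p f b : ℕ}
    (hsub : (Nat.ble Z.c.nsub k || Nat.beq a 0) = true) (hp : p ≤ wlen (wordAt Z.c k))
    (hf : Z.scanF t (wordAt Z.c k) p 0 a = some f)
    (hb : Z.scanB t (wordAt Z.c k) (Nat.sub (wlen (wordAt Z.c k)) p)
      (wlen (wordAt Z.c k)) a = some b) :
    R H (Z.τ γ f) (Z.τ γ b) := by
  have hRf := scanF_spec hG (wordAt Z.c k) p 0 a f
    (fun j _ h2 => hW.lett k j (by omega)) hf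
  have hRb := scanB_spec hinv hG (wordAt Z.c k) _ _ a b
    (Nat.sub_le _ _) (fun j _ h2 => hW.lett k j h2) hb
  have hWf := word_fact hW (a := a) (k := k) hsub
  have eL : wlen (wordAt Z.c k) = p + (wlen (wordAt Z.c k) - p) := by omega
  have e1 : wlen (wordAt Z.c k) - (wlen (wordAt Z.c k) - p) = p := by omega
  rw [e1] at hRb
  rw [eL, ev_add, zero_add] at hWf
  have h2 := hWf.mul_right (ev γ (wordAt Z.c k) p (wlen (wordAt Z.c k) - p))⁻¹
  have e3 : Z.τ γ a * (ev γ (wordAt Z.c k) 0 p * ev γ (wordAt Z.c k) p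
      (wlen (wordAt Z.c k) - p)) *
      (ev γ (wordAt Z.c k) p (wlen (wordAt Z.c k) - p))⁻¹ = Z.τ γ a * ev γ (wordAt Z.c k) 0 p := by
    simp only [mul_assoc, mul_inv_cancel, mul_one]
  rw [e3] at h2
  exact hRf.symm.trans (h2.trans hRb)

theorem dedOK_spec (hinv : ∀ x, x < Z.c.g → Z.ivOf x < Z.c.g ∧ γ (Z.ivOf x) = (γ x)⁻¹) (hW : WordsOK Z.c γ H) {t : ℕ}
    (hG : Z.Good γ H t) {f x b a0 k p : ℕ} (h : Z.dedOK t f x b a0 k p = true) :
    R H (Z.τ γ f * γ x) (Z.τ γ b) := by
  unfold dedOK at h
  rw [force_eq] at h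
  simp only [Bool.and_eq_true, Nat.blt_eq] at h
  obtain ⟨hsub, hp, hx, hf, hb⟩ := h
  cases hf' : Z.scanF t (wordAt Z.c k) p 0 a0 with
  | none => rw [hf'] at hf; simp at hf
  | some f' =>
    rw [hf'] at hf
    simp only at hf
    cases hb' : Z.scanB t (wordAt Z.c k) (Nat.sub (wlen (wordAt Z.c k)) (Nat.succ p))
        (wlen (wordAt Z.c k)) a0 with
    | none => rw [hb'] at hb; simp at hb
    | some b' =>
      rw [hb'] at hb
      simp only at hb
      have := gap_fact hinv hW hG hsub hp hf' hb'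
      rw [Nat.eq_of_beq_eq_true hf, Nat.eq_of_beq_eq_true hb, Nat.eq_of_beq_eq_true hx] at this
      exact this

theorem moveOK_spec {t : ℕ} (hG : Z.Good γ H t) {a x r v : ℕ} (hx : x < Z.c.g)
    (h : Z.moveOK t a x r v = true) : R H (Z.τ γ a * γ x) (Z.τ γ r) := by
  unfold moveOK at h
  rw [force_eq] at h
  simp only [Bool.and_eq_true, Bool.not_eq_true'] at h
  obtain ⟨h1, h2, h3⟩ := h
  have hRa := find_spec hG Z.c.fuel v
  rw [Nat.eq_of_beq_eq_true h1] at hRa
  cases hy : Z.rd t v x with
  | zero => rw [hy] at h2; simp [Nat.beq] at h2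
  | succ y =>
    rw [hy] at h3
    simp only [Nat.pred_succ] at h3
    have hRy := hG.1 v x y hx hy
    have hRr := find_spec hG Z.c.fuel y
    rw [Nat.eq_of_beq_eq_true h3] at hRr
    exact ((hRa.symm.mul_right (γ x)).trans hRy).trans hRr

theorem filt_succ {t e v : ℕ} (h : Z.filt (t + 1) e = v + 1) :
    Z.filt t e = v + 1 ∨ (Z.timeOf e = t ∧ Z.valOf e = v + 1) := by
  unfold filt at h ⊢
  cases hb : Nat.blt (Z.timeOf e) (t + 1)
  · rw [hb] at h; simp at h
  · rw [hb, cond_true] at h
    have hlt : Z.timeOf e < t + 1 := by simpa [Nat.blt_eq] using hb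
    by_cases h2 : Z.timeOf e < t
    · left
      have : Nat.blt (Z.timeOf e) t = true := by simpa [Nat.blt_eq] using h2
      rw [this, cond_true]
      exact h
    · right
      exact ⟨by omega, h⟩

theorem filt_zero (e : ℕ) : Z.filt 0 e = 0 := by
  unfold filt
  cases h : Nat.blt (Z.timeOf e) 0
  · rfl
  · have : Z.timeOf e < 0 := by simpa [Nat.blt_eq] using h
    exact absurd this (Nat.not_lt_zero _)

theorem filt_of {t e v : ℕ} (h1 : Z.valOf e = v) (h2 : Z.timeOf e < t) : Z.filt t e = v := by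
  unfold filt
  have : Nat.blt (Z.timeOf e) t = true := by simpa [Nat.blt_eq] using h2
  rw [this, cond_true, h1]

theorem rd_eq {t a x v : ℕ} (h : Z.rd t a x = v + 1) :
    a < Z.N ∧ Z.filt t (Z.eget (Z.slotS a x)) = v + 1 := by
  unfold rd at h
  cases hb : Nat.blt a Z.N
  · rw [hb, cond_false] at h; omega
  · rw [hb, cond_true, force_eq] at h
    exact ⟨by simpa [Nat.blt_eq] using hb, h⟩

theorem rd_of {t a x v : ℕ} (ha : a < Z.N) (h : Z.filt t (Z.eget (Z.slotS a x)) = v) :
    Z.rd t a x = v := by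
  unfold rd
  have : Nat.blt a Z.N = true := by simpa [Nat.blt_eq] using ha
  rw [this, cond_true, force_eq]
  exact h

theorem rm_eq {t b v : ℕ} (h : Z.rm t b = v + 1) :
    b < Z.N ∧ Z.filt t (Z.mget b) = v + 1 := by
  unfold rm at h
  cases hb : Nat.blt b Z.N
  · rw [hb, cond_false] at h; omega
  · rw [hb, cond_true, force_eq] at h
    exact ⟨by simpa [Nat.blt_eq] using hb, h⟩

theorem rm_of {t b v : ℕ} (hb : b < Z.N) (h : Z.filt t (Z.mget b) = v) : Z.rm t b = v := by
  unfold rm
  have : Nat.blt b Z.N = true := by simpa [Nat.blt_eq] using hb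
  rw [this, cond_true, force_eq]
  exact h

theorem slotOK_spec (hinv : ∀ x, x < Z.c.g → Z.ivOf x < Z.c.g ∧ γ (Z.ivOf x) = (γ x)⁻¹) (hW : WordsOK Z.c γ H) {a x r : ℕ}
    (hx : x < Z.c.g) (h : Z.slotOK a x = true)
    (hv : Z.valOf (Z.eget (Z.slotS a x)) = r + 1)
    (hG : Z.Good γ H (Z.timeOf (Z.eget (Z.slotS a x)))) :
    R H (Z.τ γ a * γ x) (Z.τ γ r) := by
  unfold slotOK at h
  simp only [force_eq] at h
  rw [hv] at h
  simp only [Nat.beq, cond_false, Nat.pred_succ] at h
  cases h0 : Nat.beq (Nat.mod (Z.jget (Z.slotS a x)) 4) 0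
  · rw [h0, cond_false] at h
    cases h1 : Nat.beq (Nat.mod (Z.jget (Z.slotS a x)) 4) 1
    · rw [h1, cond_false] at h
      cases h2 : Nat.beq (Nat.mod (Z.jget (Z.slotS a x)) 4) 2
      · rw [h2, cond_false] at h
        exact moveOK_spec hG hx h
      · rw [h2, cond_true] at h
        exact dedOK_spec hinv hW hG h
    · rw [h1, cond_true] at h
      simp only [Bool.and_eq_true, Nat.blt_eq] at h
      obtain ⟨hrN, h3, h4⟩ := h
      have h5 : Z.rd (Z.timeOf (Z.eget (Z.slotS a x))) r (Z.ivOf x) = a + 1 :=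
        rd_of hrN (filt_of (Nat.eq_of_beq_eq_true h3) h4)
      have h6 := hG.1 r (Z.ivOf x) a (hinv x hx).1 h5
      rw [(hinv x hx).2] at h6
      have := h6.mul_right (γ x)
      rw [mul_assoc, inv_mul_cancel, mul_one] at this
      exact this.symm
  · rw [h0, cond_true] at h
    simp only [Bool.and_eq_true, Nat.blt_eq] at h
    obtain ⟨h3, h4, h5⟩ := h
    rw [Z.τ_def γ h3 h4 (Nat.eq_of_beq_eq_true h5)]
    exact R.refl _

theorem pairEq_spec {p q hi lo : ℕ} (h : pairEq p q hi lo = true) (hR : R H (Z.τ γ p) (Z.τ γ q)) :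
    R H (Z.τ γ hi) (Z.τ γ lo) := by
  unfold pairEq at h
  simp only [Bool.or_eq_true, Bool.and_eq_true] at h
  rcases h with ⟨h1, h2⟩ | ⟨h1, h2⟩
  · rw [Nat.eq_of_beq_eq_true h1, Nat.eq_of_beq_eq_true h2] at hR
    exact hR
  · rw [Nat.eq_of_beq_eq_true h1, Nat.eq_of_beq_eq_true h2] at hR
    exact hR.symm

theorem coinOK_spec (hinv : ∀ x, x < Z.c.g → Z.ivOf x < Z.c.g ∧ γ (Z.ivOf x) = (γ x)⁻¹) (hW : WordsOK Z.c γ H) {t : ℕ}
    (hG : Z.Good γ H t) {hi lo a0 k p : ℕ} (h : Z.coinOK t hi lo a0 k p = true) :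
    R H (Z.τ γ hi) (Z.τ γ lo) := by
  unfold coinOK at h
  rw [force_eq] at h
  simp only [Bool.and_eq_true, Nat.ble_eq] at h
  obtain ⟨hsub, hp, h3⟩ := h
  cases hf : Z.scanF t (wordAt Z.c k) p 0 a0 with
  | none => rw [hf] at h3; simp at h3
  | some f =>
    rw [hf] at h3
    simp only at h3
    cases hb : Z.scanB t (wordAt Z.c k) (Nat.sub (wlen (wordAt Z.c k)) p)
        (wlen (wordAt Z.c k)) a0 with
    | none => rw [hb] at h3; simp at h3
    | some b =>
      rw [hb] at h3
      simp only at h3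
      exact pairEq_spec h3 (nogap_fact hinv hW hG hsub hp hf hb)

theorem dedCoinOK_spec (hinv : ∀ x, x < Z.c.g → Z.ivOf x < Z.c.g ∧ γ (Z.ivOf x) = (γ x)⁻¹) (hW : WordsOK Z.c γ H) {t : ℕ}
    (hG : Z.Good γ H t) {hi lo a0 k p : ℕ} (h : Z.dedCoinOK t hi lo a0 k p = true) :
    R H (Z.τ γ hi) (Z.τ γ lo) := by
  unfold dedCoinOK at h
  rw [force_eq] at h
  simp only [Bool.and_eq_true, Nat.blt_eq] at h
  obtain ⟨hsub, hp, hx, h3⟩ := h
  cases hf : Z.scanF t (wordAt Z.c k) p 0 a0 with
  | none => rw [hf] at h3; simp at h3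
  | some f =>
    rw [hf] at h3
    simp only at h3
    cases hb : Z.scanB t (wordAt Z.c k) (Nat.sub (wlen (wordAt Z.c k)) (Nat.succ p))
        (wlen (wordAt Z.c k)) a0 with
    | none => rw [hb] at h3; simp at h3
    | some b =>
      rw [hb] at h3
      simp only [force_eq, Bool.and_eq_true, Bool.not_eq_true'] at h3
      obtain ⟨h4, h5⟩ := h3
      have hkey := gap_fact hinv hW hG hsub hp hf hb
      cases he : Z.rd t f (letter (wordAt Z.c k) p) with
      | zero => rw [he] at h4; simp [Nat.beq] at h4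
      | succ e =>
        rw [he] at h5
        simp only [Nat.pred_succ] at h5
        have hRe := hG.1 f _ e hx he
        have hRc := find_spec hG Z.c.fuel e
        exact pairEq_spec h5 (hRc.symm.trans (hRe.symm.trans hkey))

theorem moveCoinOK_spec {t : ℕ} (hG : Z.Good γ H t) {hi lo v x : ℕ}
    (h : Z.moveCoinOK t hi lo v x = true) : R H (Z.τ γ hi) (Z.τ γ lo) := by
  unfold moveCoinOK at h
  simp only [force_eq, Bool.and_eq_true, Bool.not_eq_true', Nat.blt_eq] at h
  obtain ⟨hx, h2, h3, h4⟩ := h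
  have hRa := find_spec hG Z.c.fuel v
  cases hy : Z.rd t v x with
  | zero => rw [hy] at h2; simp [Nat.beq] at h2
  | succ y =>
    rw [hy] at h4
    simp only [Nat.pred_succ] at h4
    have hRy := hG.1 v x y hx hy
    have hRr := find_spec hG Z.c.fuel y
    have hkey : R H (Z.τ γ (Z.find t Z.c.fuel v) * γ x) (Z.τ γ (Z.find t Z.c.fuel y)) :=
      ((hRa.symm.mul_right (γ x)).trans hRy).trans hRr
    cases he : Z.rd t (Z.find t Z.c.fuel v) x with
    | zero => rw [he] at h3; simp [Nat.beq] at h3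
    | succ e =>
      rw [he] at h4
      simp only [Nat.pred_succ] at h4
      have hRe := hG.1 _ x e hx he
      have hRd := find_spec hG Z.c.fuel e
      exact pairEq_spec h4 (hkey.symm.trans (hRe.trans hRd))

theorem mslotOK_spec (hinv : ∀ x, x < Z.c.g → Z.ivOf x < Z.c.g ∧ γ (Z.ivOf x) = (γ x)⁻¹) (hW : WordsOK Z.c γ H) {b lo : ℕ}
    (h : Z.mslotOK b = true) (hv : Z.valOf (Z.mget b) = lo + 1)
    (hG : Z.Good γ H (Z.timeOf (Z.mget b))) : R H (Z.τ γ b) (Z.τ γ lo) := by
  unfold mslotOK at h
  simp only [force_eq] at h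
  rw [hv] at h
  simp only [Nat.beq, cond_false, Nat.pred_succ] at h
  cases h0 : Nat.beq (Nat.mod (Z.jmget b) 4) 0
  · rw [h0, cond_false] at h
    cases h1 : Nat.beq (Nat.mod (Z.jmget b) 4) 1
    · rw [h1, cond_false] at h
      exact moveCoinOK_spec hG h
    · rw [h1, cond_true] at h
      exact dedCoinOK_spec hinv hW hG h
  · rw [h0, cond_true] at h
    exact coinOK_spec hinv hW hG h

/-- **all the entries are true** -/
theorem good_all (hinv : ∀ x, x < Z.c.g → Z.ivOf x < Z.c.g ∧ γ (Z.ivOf x) = (γ x)⁻¹) (hW : WordsOK Z.c γ H)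
    (hrows : ∀ a < Z.N, ∀ x < Z.c.g, Z.slotOK a x = true)
    (hmrows : ∀ b < Z.N, Z.mslotOK b = true) : ∀ t, Z.Good γ H t := by
  intro t
  induction t with
  | zero =>
    constructor
    · intro a x r _ h
      have := (rd_eq h).2
      rw [filt_zero] at this
      omega
    · intro b lo h
      have := (rm_eq h).2
      rw [filt_zero] at this
      omega
  | succ t ih =>
    constructor
    · intro a x r hx h
      obtain ⟨ha, h⟩ := rd_eq h
      rcases filt_succ h with h1 | ⟨h1, h2⟩
      · exact ih.1 a x r hx (rd_of ha h1)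
      · exact slotOK_spec hinv hW hx (hrows a ha x hx) h2 (by rw [h1]; exact ih)
    · intro b lo h
      obtain ⟨hb, h⟩ := rm_eq h
      rcases filt_succ h with h1 | ⟨h1, h2⟩
      · exact ih.2 b lo (rm_of hb h1)
      · exact mslotOK_spec hinv hW (hmrows b hb) h2 (by rw [h1]; exact ih)

theorem final_spec (hG : Z.Good γ H (Nat.pow 2 Z.W)) {n : ℕ}
    (h : Z.finalOK n = true) {a x : ℕ} (ha : a < n) (hx : x < Z.c.g) :
    ∃ b, b < n ∧ R H (Z.τ γ a * γ x) (Z.τ γ b) := by
  have h1 := allBelow_spec _ _ (allBelow_spec _ _ h a ha) x hx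
  simp only [force_eq, Bool.and_eq_true, Bool.not_eq_true', Nat.blt_eq] at h1
  obtain ⟨h2, h3⟩ := h1
  cases he : Z.rd (Nat.pow 2 Z.W) a x with
  | zero => rw [he] at h2; simp [Nat.beq] at h2
  | succ e =>
    rw [he] at h3
    simp only [Nat.pred_succ] at h3
    exact ⟨_, h3, (hG.1 a x e hx he).trans (find_spec hG Z.c.fuel e)⟩

end

end SCert

/-- the rows of a table that is closed under the generators cover the group -/
theorem index_le_of_closed {G : Type*} [Group G] {γ : ℕ → G} {H : Subgroup G} {g n : ℕ}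
    (τ : ℕ → G) (hτ : τ 0 = 1) (hn : 0 < n)
    (hcl : ∀ a, a < n → ∀ x, x < g → ∃ b, b < n ∧ R H (τ a * γ x) (τ b))
    (hgen : ∀ z : G, ∃ u : List ℕ, (∀ x ∈ u, x < g) ∧ z = (u.map γ).prod) :
    H.index ≤ n ∧ H.index ≠ 0 := by
  have key : ∀ (u : List ℕ), (∀ x ∈ u, x < g) → ∀ a, a < n →
      ∃ b, b < n ∧ R H (τ a * (u.map γ).prod) (τ b) := by
    intro u
    induction u with
    | nil =>
      intro _ a ha
      exact ⟨a, ha, by simpa using R.refl (H := H) (τ a)⟩
    | cons x u ih =>
      intro hu a ha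
      obtain ⟨b, hb, hRb⟩ := hcl a ha x (hu x (List.mem_cons_self ..))
      obtain ⟨b', hb', hRb'⟩ := ih (fun y hy => hu y (List.mem_cons_of_mem _ hy)) b hb
      refine ⟨b', hb', ?_⟩
      rw [List.map_cons, List.prod_cons, ← mul_assoc]
      exact (hRb.mul_right _).trans hRb'
  let φ : Fin n → G ⧸ H := fun b => QuotientGroup.mk ((τ b.val)⁻¹)
  have hsurj : Function.Surjective φ := by
    intro q
    induction q using QuotientGroup.induction_on with
    | H z =>
      obtain ⟨u, hu, hz⟩ := hgen z⁻¹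
      obtain ⟨b, hb, hRb⟩ := key u hu 0 hn
      refine ⟨⟨b, hb⟩, ?_⟩
      show (QuotientGroup.mk ((τ b)⁻¹) : G ⧸ H) = QuotientGroup.mk z
      rw [QuotientGroup.eq]
      rw [hτ, one_mul, ← hz] at hRb
      have := H.inv_mem hRb
      simpa [R, mul_inv_rev] using this
  have hfin : Finite (G ⧸ H) := Finite.of_surjective φ hsurj
  have hle : Nat.card (G ⧸ H) ≤ Nat.card (Fin n) := Nat.card_le_card_of_surjective φ hsurj
  rw [Nat.card_fin] at hle
  refine ⟨hle, ?_⟩
  show Nat.card (G ⧸ H) ≠ 0
  exact Nat.card_pos.ne'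

/-- **the checked table bounds the index** -/
theorem index_le_of_static {G : Type*} [Group G] {γ : ℕ → G} {H : Subgroup G} (Z : SCert)
    (hinv : ∀ x, x < Z.c.g → Z.ivOf x < Z.c.g ∧ γ (Z.ivOf x) = (γ x)⁻¹) (hW : WordsOK Z.c γ H)
    (hgen : ∀ z : G, ∃ u : List ℕ, (∀ x ∈ u, x < Z.c.g) ∧ z = (u.map γ).prod)
    (n : ℕ) (hn : 0 < n)
    (hrows : ∀ a < Z.N, ∀ x < Z.c.g, Z.slotOK a x = true)
    (hmrows : ∀ b < Z.N, Z.mslotOK b = true)
    (hfin : Z.finalOK n = true) : H.index ≤ n ∧ H.index ≠ 0 := by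
  have hG := SCert.good_all hinv hW hrows hmrows (Nat.pow 2 Z.W)
  exact index_le_of_closed (Z.τ γ) (Z.τ_zero γ) hn
    (fun a ha x hx => SCert.final_spec hG hfin ha hx) hgen

/-- the inverse of a letter, from the packed map -/
def ivN (ivs x : ℕ) : ℕ := Nat.land (Nat.shiftRight ivs (Nat.mul 4 x)) 15

/-- what a checked coset enumeration gives, for letters that come in inverse pairs: in a group
generated by elements `γ x` with `γ (iv x) = (γ x)⁻¹`, in which the words of the configuration are
relators or lie in the subgroup `H`, the index of `H` is at most `n` -/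
def RunCertG (c : Cfg) (ivs n : ℕ) : Prop :=
  ∀ {G : Type} [Group G] (γ : ℕ → G) (H : Subgroup G),
    (∀ x, x < c.g → ivN ivs x < c.g ∧ γ (ivN ivs x) = (γ x)⁻¹) → WordsOK c γ H →
    (∀ z : G, ∃ u : List ℕ, (∀ x ∈ u, x < c.g) ∧ z = (u.map γ).prod) →
    H.index ≤ n ∧ H.index ≠ 0

theorem RunCertG.of_static (Z : SCert) (n : ℕ) (hn : 0 < n)
    (hrows : ∀ a < Z.N, ∀ x < Z.c.g, Z.slotOK a x = true)
    (hmrows : ∀ b < Z.N, Z.mslotOK b = true) (hfin : Z.finalOK n = true) :
    RunCertG Z.c Z.ivs n :=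
  fun _ _ hinv hW hgen => index_le_of_static Z hinv hW hgen n hn hrows hmrows hfin

/-- the rows are checked in parts of `L` rows -/
theorem SCert.rows_of_chunks (Z : SCert) (L K : ℕ) (hL : 0 < L) (hN : Z.N ≤ K * L)
    (h : ∀ k < K, Z.rowsOK (Nat.mul k L) L = true) :
    ∀ a < Z.N, ∀ x < Z.c.g, Z.slotOK a x = true := by
  intro a ha x hx
  have hk : a / L < K := by
    apply Nat.div_lt_of_lt_mul
    rw [Nat.mul_comm]
    omega
  have h1 := allBelow_spec _ _ (allBelow_spec _ _ (h (a / L) hk) (a % L) (Nat.mod_lt _ hL)) x hx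
  have e : Nat.add (Nat.mul (a / L) L) (a % L) = a := by
    show a / L * L + a % L = a
    rw [Nat.mul_comm]
    exact Nat.div_add_mod a L
  rw [e] at h1
  exact h1

/-- the merge map is checked in parts of `L` rows -/
theorem SCert.mrows_of_chunks (Z : SCert) (L K : ℕ) (hL : 0 < L) (hN : Z.N ≤ K * L)
    (h : ∀ k < K, Z.mrowsOK (Nat.mul k L) L = true) : ∀ b < Z.N, Z.mslotOK b = true := by
  intro a ha
  have hk : a / L < K := by
    apply Nat.div_lt_of_lt_mul
    rw [Nat.mul_comm]
    omega
  have h1 := allBelow_spec _ _ (h (a / L) hk) (a % L) (Nat.mod_lt _ hL)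
  have e : Nat.add (Nat.mul (a / L) L) (a % L) = a := by
    show a / L * L + a % L = a
    rw [Nat.mul_comm]
    exact Nat.div_add_mod a L
  rw [e] at h1
  exact h1

/-- a range of rows is checked in parts of `L` rows -/
theorem SCert.range_of_chunks (Z : SCert) (lo L F : ℕ) (hL : 0 < L)
    (h : ∀ k < F, Z.rowsOK (Nat.add lo (Nat.mul k L)) L = true) :
    ∀ a, lo ≤ a → a < lo + F * L → ∀ x < Z.c.g, Z.slotOK a x = true := by
  intro a h1 h2 x hx
  have hk : (a - lo) / L < F := by
    apply Nat.div_lt_of_lt_mul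
    rw [Nat.mul_comm]
    omega
  have h3 := allBelow_spec _ _ (allBelow_spec _ _ (h ((a - lo) / L) hk) ((a - lo) % L)
    (Nat.mod_lt _ hL)) x hx
  have e : Nat.add (Nat.add lo (Nat.mul ((a - lo) / L) L)) ((a - lo) % L) = a := by
    show lo + (a - lo) / L * L + (a - lo) % L = a
    have := Nat.div_add_mod (a - lo) L
    rw [Nat.mul_comm] at this
    omega
  rw [e] at h3
  exact h3

/-- all rows are checked in ranges of `B` rows -/
theorem SCert.rows_of_ranges (Z : SCert) (B Q : ℕ) (hB : 0 < B) (hN : Z.N ≤ Q * B)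
    (h : ∀ f < Q, ∀ a, Nat.mul f B ≤ a → a < Nat.mul f B + B → ∀ x < Z.c.g,
      Z.slotOK a x = true) : ∀ a < Z.N, ∀ x < Z.c.g, Z.slotOK a x = true := by
  intro a ha x hx
  have hf : a / B < Q := by
    apply Nat.div_lt_of_lt_mul
    rw [Nat.mul_comm]
    omega
  have h1 := Nat.div_add_mod a B
  have h2 := Nat.mod_lt a hB
  refine h (a / B) hf a ?_ ?_ x hx
  · show a / B * B ≤ a
    rw [Nat.mul_comm]
    omega
  · show a < a / B * B + B
    rw [Nat.mul_comm]
    omega

/-- a range of the merge map is checked in parts of `L` rows -/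
theorem SCert.mrange_of_chunks (Z : SCert) (lo L F : ℕ) (hL : 0 < L)
    (h : ∀ k < F, Z.mrowsOK (Nat.add lo (Nat.mul k L)) L = true) :
    ∀ a, lo ≤ a → a < lo + F * L → Z.mslotOK a = true := by
  intro a h1 h2
  have hk : (a - lo) / L < F := by
    apply Nat.div_lt_of_lt_mul
    rw [Nat.mul_comm]
    omega
  have h3 := allBelow_spec _ _ (h ((a - lo) / L) hk) ((a - lo) % L) (Nat.mod_lt _ hL)
  have e : Nat.add (Nat.add lo (Nat.mul ((a - lo) / L) L)) ((a - lo) % L) = a := by
    show lo + (a - lo) / L * L + (a - lo) % L = a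
    have := Nat.div_add_mod (a - lo) L
    rw [Nat.mul_comm] at this
    omega
  rw [e] at h3
  exact h3

/-- the merge map is checked in ranges of `B` rows -/
theorem SCert.mrows_of_ranges (Z : SCert) (B Q : ℕ) (hB : 0 < B) (hN : Z.N ≤ Q * B)
    (h : ∀ f < Q, ∀ a, Nat.mul f B ≤ a → a < Nat.mul f B + B → Z.mslotOK a = true) :
    ∀ a < Z.N, Z.mslotOK a = true := by
  intro a ha
  have hf : a / B < Q := by
    apply Nat.div_lt_of_lt_mul
    rw [Nat.mul_comm]
    omega
  have h1 := Nat.div_add_mod a B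
  have h2 := Nat.mod_lt a hB
  refine h (a / B) hf a ?_ ?_
  · show a / B * B ≤ a
    rw [Nat.mul_comm]
    omega
  · show a < a / B * B + B
    rw [Nat.mul_comm]
    omega

end Cfsg.Agent.Lib.Helper6.TCGS
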