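import Cfsg.Agent.Lib.Helper6.PS44BTCData
import Cfsg.Agent.Lib.Helper6.TCGInst
import Cfsg.Agent.Lib.Helper6.PGrpS44
import Cfsg.Agent.Lib.Helper6.PS44BTCChk3
import Cfsg.Agent.Lib.Helper6.PS44BTCTab0
import Cfsg.Agent.Lib.Helper6.PS44BTCTree0

/-! # PS44B: the checks of the words, the coset table and the relators -/

set_option autoImplicit false

namespace Cfsg.Agent.Lib.Helper6.PS44BTC

open Cfsg.Agent.Lib.Helper6.TC Cfsg.Agent.Lib.Helper6.TCG Cfsg.Spor Cfsg.Agent.Lib.Helper6.PGrp

/-- the generator of a letter -/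
def gen : ℕ → PS44.Gen
  | 0 => .a
  | 1 => .a
  | 2 => .b
  | _ => .b

/-- is the letter the inverse of its generator? -/
def sgn : ℕ → Bool
  | 1 => true
  | 3 => true
  | _ => false

/-- the letter of a generator -/
def code : PS44.Gen → ℕ
  | .a => 0
  | .b => 2

theorem chk_words : TCG.wordsSrcOK cfg ivs (relWords PS44.edges gen 0 extraPow) nw srcs = true := by
  decide +kernel

theorem chk_tab : TCG.tabOK tab ivs = true := by
  refine TCG.tabOK_of_chunks tab ivs 85 1 (by decide +kernel) (by norm_num) (by show 85 ≤ 1 * 85; norm_num) ?_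
  intro k hk
  interval_cases k
  · exact chk_tab0

theorem chk_tree : tab.treeOK = true := by
  refine tab.treeOK_of_chunks 85 1 (by norm_num) (by show 85 ≤ 1 * 85; norm_num) ?_
  intro k hk
  interval_cases k
  · exact chk_tree0

theorem pows_eq : coxPairs PS44.edges gen 0 ++ extraPow = allPow := by
  decide +kernel

theorem chk_pows : tab.minsOK (coxPairs PS44.edges gen 0 ++ extraPow) = true := by
  rw [pows_eq]
  simp only [allPow, Tab.minsOK_cons, Tab.minsOK_nil, Bool.and_eq_true, and_true]
  exact ⟨chk_pow0, chk_pow1, chk_pow2, chk_pow3, chk_pow4, chk_pow5⟩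

theorem chk_sub : TCG.subOK cfg tab subW = true := by decide +kernel

end Cfsg.Agent.Lib.Helper6.PS44BTC
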