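import Cfsg.Agent.Lib.Helper6.PS44CSCert

/-! # PS44C: the kernel check of the rows from 61200 on -/

set_option autoImplicit false

namespace Cfsg.Agent.Lib.Helper6.PS44CTC

open Cfsg.Agent.Lib.Helper6.TC Cfsg.Agent.Lib.Helper6.TCGS

theorem chk_rows2_0 : cert.rowsOK 61200 782 = true := by decide +kernel

theorem chk_rows2_1 : cert.rowsOK 61982 782 = true := by decide +kernel

theorem chk_rows2_2 : cert.rowsOK 62764 782 = true := by decide +kernel

theorem chk_rows2_3 : cert.rowsOK 63546 782 = true := by decide +kernel

theorem chk_rows2_4 : cert.rowsOK 64328 782 = true := by decide +kernel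

theorem chk_rows2_5 : cert.rowsOK 65110 782 = true := by decide +kernel

theorem chk_rows2_6 : cert.rowsOK 65892 782 = true := by decide +kernel

theorem chk_rows2_7 : cert.rowsOK 66674 782 = true := by decide +kernel

theorem chk_rows2_8 : cert.rowsOK 67456 782 = true := by decide +kernel

theorem chk_rows2_9 : cert.rowsOK 68238 782 = true := by decide +kernel

theorem chk_rows2_10 : cert.rowsOK 69020 782 = true := by decide +kernel

theorem chk_rows2_11 : cert.rowsOK 69802 782 = true := by decide +kernel

theorem chk_rows2_12 : cert.rowsOK 70584 782 = true := by decide +kernel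

theorem chk_rows2_13 : cert.rowsOK 71366 782 = true := by decide +kernel

theorem chk_rows2_14 : cert.rowsOK 72148 782 = true := by decide +kernel

theorem chk_rows2_15 : cert.rowsOK 72930 782 = true := by decide +kernel

theorem chk_rows2_16 : cert.rowsOK 73712 782 = true := by decide +kernel

theorem chk_rows2_17 : cert.rowsOK 74494 782 = true := by decide +kernel

theorem chk_rows2_18 : cert.rowsOK 75276 782 = true := by decide +kernel

theorem chk_rows2_19 : cert.rowsOK 76058 782 = true := by decide +kernel

theorem chk_rows2_20 : cert.rowsOK 76840 782 = true := by decide +kernel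

theorem chk_rows2_21 : cert.rowsOK 77622 782 = true := by decide +kernel

theorem chk_rows2_22 : cert.rowsOK 78404 782 = true := by decide +kernel

theorem chk_rows2_23 : cert.rowsOK 79186 782 = true := by decide +kernel

theorem chk_range2 : ∀ a, 61200 ≤ a → a < 79968 → ∀ x < cert.c.g, cert.slotOK a x = true := by
  refine cert.range_of_chunks 61200 782 24 (by norm_num) ?_
  intro k hk
  interval_cases k
  · exact chk_rows2_0
  · exact chk_rows2_1
  · exact chk_rows2_2
  · exact chk_rows2_3
  · exact chk_rows2_4
  · exact chk_rows2_5
  · exact chk_rows2_6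
  · exact chk_rows2_7
  · exact chk_rows2_8
  · exact chk_rows2_9
  · exact chk_rows2_10
  · exact chk_rows2_11
  · exact chk_rows2_12
  · exact chk_rows2_13
  · exact chk_rows2_14
  · exact chk_rows2_15
  · exact chk_rows2_16
  · exact chk_rows2_17
  · exact chk_rows2_18
  · exact chk_rows2_19
  · exact chk_rows2_20
  · exact chk_rows2_21
  · exact chk_rows2_22
  · exact chk_rows2_23

end Cfsg.Agent.Lib.Helper6.PS44CTC
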