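import Cfsg.Agent.Lib.Helper6.PS44CTCData
import Cfsg.Agent.Lib.Helper6.TCRel3
import Cfsg.Agent.Lib.Helper6.PS44CSRows2

/-! # PS44C: the kernel check of a part of the relators on the coset table -/

set_option autoImplicit false

namespace Cfsg.Agent.Lib.Helper6.PS44CTC

open Cfsg.Agent.Lib.Helper6.TC

theorem chk_pow0_0_0 : tab.minOKc [0] 2 0 13327 = true := by decide +kernel

theorem chk_pow0_0_1 : tab.minOKc [0] 2 13327 13327 = true := by decide +kernel

theorem chk_pow0_0_2 : tab.minOKc [0] 2 26654 13327 = true := by decide +kernel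

theorem chk_pow0_0_3 : tab.minOKc [0] 2 39981 13327 = true := by decide +kernel

theorem chk_pow0_0_4 : tab.minOKc [0] 2 53308 13327 = true := by decide +kernel

theorem chk_pow0_0 : tab.minOKc [0] 2 0 66635 = true := by
  refine tab.minOKc_of_chunks [0] 2 0 13327 5 (by norm_num) ?_
  intro i hi
  interval_cases i
  · exact chk_pow0_0_0
  · exact chk_pow0_0_1
  · exact chk_pow0_0_2
  · exact chk_pow0_0_3
  · exact chk_pow0_0_4

theorem chk_pow1_0_0 : tab.minOKc [2] 5 0 8261 = true := by decide +kernel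

theorem chk_pow1_0_1 : tab.minOKc [2] 5 8261 8261 = true := by decide +kernel

theorem chk_pow1_0_2 : tab.minOKc [2] 5 16522 8261 = true := by decide +kernel

theorem chk_pow1_0_3 : tab.minOKc [2] 5 24783 8261 = true := by decide +kernel

theorem chk_pow1_0_4 : tab.minOKc [2] 5 33044 8261 = true := by decide +kernel

theorem chk_pow1_0_5 : tab.minOKc [2] 5 41305 8261 = true := by decide +kernel

theorem chk_pow1_0_6 : tab.minOKc [2] 5 49566 8261 = true := by decide +kernel

theorem chk_pow1_0 : tab.minOKc [2] 5 0 57827 = true := by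
  refine tab.minOKc_of_chunks [2] 5 0 8261 7 (by norm_num) ?_
  intro i hi
  interval_cases i
  · exact chk_pow1_0_0
  · exact chk_pow1_0_1
  · exact chk_pow1_0_2
  · exact chk_pow1_0_3
  · exact chk_pow1_0_4
  · exact chk_pow1_0_5
  · exact chk_pow1_0_6

theorem chk_pow2_0_0 : tab.minOKc [0, 2, 0, 3] 2 0 3331 = true := by decide +kernel

theorem chk_pow2_0_1 : tab.minOKc [0, 2, 0, 3] 2 3331 3331 = true := by decide +kernel

theorem chk_pow2_0_2 : tab.minOKc [0, 2, 0, 3] 2 6662 3331 = true := by decide +kernel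

theorem chk_pow2_0_3 : tab.minOKc [0, 2, 0, 3] 2 9993 3331 = true := by decide +kernel

theorem chk_pow2_0_4 : tab.minOKc [0, 2, 0, 3] 2 13324 3331 = true := by decide +kernel

theorem chk_pow2_0_5 : tab.minOKc [0, 2, 0, 3] 2 16655 3331 = true := by decide +kernel

theorem chk_pow2_0_6 : tab.minOKc [0, 2, 0, 3] 2 19986 3331 = true := by decide +kernel

theorem chk_pow2_0_7 : tab.minOKc [0, 2, 0, 3] 2 23317 3331 = true := by decide +kernel

theorem chk_pow2_0_8 : tab.minOKc [0, 2, 0, 3] 2 26648 3331 = true := by decide +kernel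

theorem chk_pow2_0_9 : tab.minOKc [0, 2, 0, 3] 2 29979 3331 = true := by decide +kernel

theorem chk_pow2_0_10 : tab.minOKc [0, 2, 0, 3] 2 33310 3331 = true := by decide +kernel

theorem chk_pow2_0_11 : tab.minOKc [0, 2, 0, 3] 2 36641 3331 = true := by decide +kernel

theorem chk_pow2_0_12 : tab.minOKc [0, 2, 0, 3] 2 39972 3331 = true := by decide +kernel

theorem chk_pow2_0_13 : tab.minOKc [0, 2, 0, 3] 2 43303 3331 = true := by decide +kernel

theorem chk_pow2_0_14 : tab.minOKc [0, 2, 0, 3] 2 46634 3331 = true := by decide +kernel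

theorem chk_pow2_0 : tab.minOKc [0, 2, 0, 3] 2 0 49965 = true := by
  refine tab.minOKc_of_chunks [0, 2, 0, 3] 2 0 3331 15 (by norm_num) ?_
  intro i hi
  interval_cases i
  · exact chk_pow2_0_0
  · exact chk_pow2_0_1
  · exact chk_pow2_0_2
  · exact chk_pow2_0_3
  · exact chk_pow2_0_4
  · exact chk_pow2_0_5
  · exact chk_pow2_0_6
  · exact chk_pow2_0_7
  · exact chk_pow2_0_8
  · exact chk_pow2_0_9
  · exact chk_pow2_0_10
  · exact chk_pow2_0_11
  · exact chk_pow2_0_12
  · exact chk_pow2_0_13
  · exact chk_pow2_0_14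

end Cfsg.Agent.Lib.Helper6.PS44CTC
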