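import Cfsg.Agent.Lib.Helper6.PS44CTCData
import Cfsg.Agent.Lib.Helper6.TCRel3
import Cfsg.Agent.Lib.Helper6.PS44CSRows3

/-! # PS44C: the kernel check of a part of the relators on the coset table -/

set_option autoImplicit false

namespace Cfsg.Agent.Lib.Helper6.PS44CTC

open Cfsg.Agent.Lib.Helper6.TC

theorem chk_pow2_1_0 : tab.minOKc [0, 2, 0, 3] 2 49965 3331 = true := by decide +kernel

theorem chk_pow2_1_1 : tab.minOKc [0, 2, 0, 3] 2 53296 3331 = true := by decide +kernel

theorem chk_pow2_1_2 : tab.minOKc [0, 2, 0, 3] 2 56627 3331 = true := by decide +kernel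

theorem chk_pow2_1_3 : tab.minOKc [0, 2, 0, 3] 2 59958 3331 = true := by decide +kernel

theorem chk_pow2_1_4 : tab.minOKc [0, 2, 0, 3] 2 63289 3331 = true := by decide +kernel

theorem chk_pow2_1_5 : tab.minOKc [0, 2, 0, 3] 2 66620 3331 = true := by decide +kernel

theorem chk_pow2_1_6 : tab.minOKc [0, 2, 0, 3] 2 69951 3331 = true := by decide +kernel

theorem chk_pow2_1_7 : tab.minOKc [0, 2, 0, 3] 2 73282 3331 = true := by decide +kernel

theorem chk_pow2_1_8 : tab.minOKc [0, 2, 0, 3] 2 76613 3331 = true := by decide +kernel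

theorem chk_pow2_1_9 : tab.minOKc [0, 2, 0, 3] 2 79944 3331 = true := by decide +kernel

theorem chk_pow2_1_10 : tab.minOKc [0, 2, 0, 3] 2 83275 3331 = true := by decide +kernel

theorem chk_pow2_1_11 : tab.minOKc [0, 2, 0, 3] 2 86606 3331 = true := by decide +kernel

theorem chk_pow2_1_12 : tab.minOKc [0, 2, 0, 3] 2 89937 3331 = true := by decide +kernel

theorem chk_pow2_1_13 : tab.minOKc [0, 2, 0, 3] 2 93268 3331 = true := by decide +kernel

theorem chk_pow2_1_14 : tab.minOKc [0, 2, 0, 3] 2 96599 3331 = true := by decide +kernel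

theorem chk_pow2_1 : tab.minOKc [0, 2, 0, 3] 2 49965 49965 = true := by
  refine tab.minOKc_of_chunks [0, 2, 0, 3] 2 49965 3331 15 (by norm_num) ?_
  intro i hi
  interval_cases i
  · exact chk_pow2_1_0
  · exact chk_pow2_1_1
  · exact chk_pow2_1_2
  · exact chk_pow2_1_3
  · exact chk_pow2_1_4
  · exact chk_pow2_1_5
  · exact chk_pow2_1_6
  · exact chk_pow2_1_7
  · exact chk_pow2_1_8
  · exact chk_pow2_1_9
  · exact chk_pow2_1_10
  · exact chk_pow2_1_11
  · exact chk_pow2_1_12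
  · exact chk_pow2_1_13
  · exact chk_pow2_1_14

theorem chk_pow3_0_0 : tab.minOKc [0, 2, 2, 0, 3, 3] 5 0 1436 = true := by decide +kernel

theorem chk_pow3_0_1 : tab.minOKc [0, 2, 2, 0, 3, 3] 5 1436 1436 = true := by decide +kernel

theorem chk_pow3_0_2 : tab.minOKc [0, 2, 2, 0, 3, 3] 5 2872 1436 = true := by decide +kernel

theorem chk_pow3_0_3 : tab.minOKc [0, 2, 2, 0, 3, 3] 5 4308 1436 = true := by decide +kernel

theorem chk_pow3_0_4 : tab.minOKc [0, 2, 2, 0, 3, 3] 5 5744 1436 = true := by decide +kernel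

theorem chk_pow3_0_5 : tab.minOKc [0, 2, 2, 0, 3, 3] 5 7180 1436 = true := by decide +kernel

theorem chk_pow3_0_6 : tab.minOKc [0, 2, 2, 0, 3, 3] 5 8616 1436 = true := by decide +kernel

theorem chk_pow3_0_7 : tab.minOKc [0, 2, 2, 0, 3, 3] 5 10052 1436 = true := by decide +kernel

theorem chk_pow3_0_8 : tab.minOKc [0, 2, 2, 0, 3, 3] 5 11488 1436 = true := by decide +kernel

theorem chk_pow3_0_9 : tab.minOKc [0, 2, 2, 0, 3, 3] 5 12924 1436 = true := by decide +kernel

theorem chk_pow3_0_10 : tab.minOKc [0, 2, 2, 0, 3, 3] 5 14360 1436 = true := by decide +kernel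

theorem chk_pow3_0_11 : tab.minOKc [0, 2, 2, 0, 3, 3] 5 15796 1436 = true := by decide +kernel

theorem chk_pow3_0_12 : tab.minOKc [0, 2, 2, 0, 3, 3] 5 17232 1436 = true := by decide +kernel

theorem chk_pow3_0_13 : tab.minOKc [0, 2, 2, 0, 3, 3] 5 18668 1436 = true := by decide +kernel

theorem chk_pow3_0_14 : tab.minOKc [0, 2, 2, 0, 3, 3] 5 20104 1436 = true := by decide +kernel

theorem chk_pow3_0 : tab.minOKc [0, 2, 2, 0, 3, 3] 5 0 21540 = true := by
  refine tab.minOKc_of_chunks [0, 2, 2, 0, 3, 3] 5 0 1436 15 (by norm_num) ?_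
  intro i hi
  interval_cases i
  · exact chk_pow3_0_0
  · exact chk_pow3_0_1
  · exact chk_pow3_0_2
  · exact chk_pow3_0_3
  · exact chk_pow3_0_4
  · exact chk_pow3_0_5
  · exact chk_pow3_0_6
  · exact chk_pow3_0_7
  · exact chk_pow3_0_8
  · exact chk_pow3_0_9
  · exact chk_pow3_0_10
  · exact chk_pow3_0_11
  · exact chk_pow3_0_12
  · exact chk_pow3_0_13
  · exact chk_pow3_0_14

end Cfsg.Agent.Lib.Helper6.PS44CTC
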