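import Cfsg.Agent.Lib.Helper6.PS44CTCData
import Cfsg.Agent.Lib.Helper6.TCRel3
import Cfsg.Agent.Lib.Helper6.PS44CSMRows0

/-! # PS44C: the kernel check of a part of the relators on the coset table -/

set_option autoImplicit false

namespace Cfsg.Agent.Lib.Helper6.PS44CTC

open Cfsg.Agent.Lib.Helper6.TC

theorem chk_pow3_1_0 : tab.minOKc [0, 2, 2, 0, 3, 3] 5 21540 1436 = true := by decide +kernel

theorem chk_pow3_1_1 : tab.minOKc [0, 2, 2, 0, 3, 3] 5 22976 1436 = true := by decide +kernel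

theorem chk_pow3_1_2 : tab.minOKc [0, 2, 2, 0, 3, 3] 5 24412 1436 = true := by decide +kernel

theorem chk_pow3_1_3 : tab.minOKc [0, 2, 2, 0, 3, 3] 5 25848 1436 = true := by decide +kernel

theorem chk_pow3_1_4 : tab.minOKc [0, 2, 2, 0, 3, 3] 5 27284 1436 = true := by decide +kernel

theorem chk_pow3_1_5 : tab.minOKc [0, 2, 2, 0, 3, 3] 5 28720 1436 = true := by decide +kernel

theorem chk_pow3_1_6 : tab.minOKc [0, 2, 2, 0, 3, 3] 5 30156 1436 = true := by decide +kernel

theorem chk_pow3_1_7 : tab.minOKc [0, 2, 2, 0, 3, 3] 5 31592 1436 = true := by decide +kernel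

theorem chk_pow3_1_8 : tab.minOKc [0, 2, 2, 0, 3, 3] 5 33028 1436 = true := by decide +kernel

theorem chk_pow3_1_9 : tab.minOKc [0, 2, 2, 0, 3, 3] 5 34464 1436 = true := by decide +kernel

theorem chk_pow3_1_10 : tab.minOKc [0, 2, 2, 0, 3, 3] 5 35900 1436 = true := by decide +kernel

theorem chk_pow3_1_11 : tab.minOKc [0, 2, 2, 0, 3, 3] 5 37336 1436 = true := by decide +kernel

theorem chk_pow3_1_12 : tab.minOKc [0, 2, 2, 0, 3, 3] 5 38772 1436 = true := by decide +kernel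

theorem chk_pow3_1_13 : tab.minOKc [0, 2, 2, 0, 3, 3] 5 40208 1436 = true := by decide +kernel

theorem chk_pow3_1_14 : tab.minOKc [0, 2, 2, 0, 3, 3] 5 41644 1436 = true := by decide +kernel

theorem chk_pow3_1 : tab.minOKc [0, 2, 2, 0, 3, 3] 5 21540 21540 = true := by
  refine tab.minOKc_of_chunks [0, 2, 2, 0, 3, 3] 5 21540 1436 15 (by norm_num) ?_
  intro i hi
  interval_cases i
  · exact chk_pow3_1_0
  · exact chk_pow3_1_1
  · exact chk_pow3_1_2
  · exact chk_pow3_1_3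
  · exact chk_pow3_1_4
  · exact chk_pow3_1_5
  · exact chk_pow3_1_6
  · exact chk_pow3_1_7
  · exact chk_pow3_1_8
  · exact chk_pow3_1_9
  · exact chk_pow3_1_10
  · exact chk_pow3_1_11
  · exact chk_pow3_1_12
  · exact chk_pow3_1_13
  · exact chk_pow3_1_14

theorem chk_pow3_2_0 : tab.minOKc [0, 2, 2, 0, 3, 3] 5 43080 1436 = true := by decide +kernel

theorem chk_pow3_2_1 : tab.minOKc [0, 2, 2, 0, 3, 3] 5 44516 1436 = true := by decide +kernel

theorem chk_pow3_2_2 : tab.minOKc [0, 2, 2, 0, 3, 3] 5 45952 1436 = true := by decide +kernel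

theorem chk_pow3_2_3 : tab.minOKc [0, 2, 2, 0, 3, 3] 5 47388 1436 = true := by decide +kernel

theorem chk_pow3_2_4 : tab.minOKc [0, 2, 2, 0, 3, 3] 5 48824 1436 = true := by decide +kernel

theorem chk_pow3_2_5 : tab.minOKc [0, 2, 2, 0, 3, 3] 5 50260 1436 = true := by decide +kernel

theorem chk_pow3_2_6 : tab.minOKc [0, 2, 2, 0, 3, 3] 5 51696 1436 = true := by decide +kernel

theorem chk_pow3_2_7 : tab.minOKc [0, 2, 2, 0, 3, 3] 5 53132 1436 = true := by decide +kernel

theorem chk_pow3_2_8 : tab.minOKc [0, 2, 2, 0, 3, 3] 5 54568 1436 = true := by decide +kernel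

theorem chk_pow3_2_9 : tab.minOKc [0, 2, 2, 0, 3, 3] 5 56004 1436 = true := by decide +kernel

theorem chk_pow3_2_10 : tab.minOKc [0, 2, 2, 0, 3, 3] 5 57440 1436 = true := by decide +kernel

theorem chk_pow3_2_11 : tab.minOKc [0, 2, 2, 0, 3, 3] 5 58876 1436 = true := by decide +kernel

theorem chk_pow3_2_12 : tab.minOKc [0, 2, 2, 0, 3, 3] 5 60312 1436 = true := by decide +kernel

theorem chk_pow3_2_13 : tab.minOKc [0, 2, 2, 0, 3, 3] 5 61748 1436 = true := by decide +kernel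

theorem chk_pow3_2_14 : tab.minOKc [0, 2, 2, 0, 3, 3] 5 63184 1436 = true := by decide +kernel

theorem chk_pow3_2 : tab.minOKc [0, 2, 2, 0, 3, 3] 5 43080 21540 = true := by
  refine tab.minOKc_of_chunks [0, 2, 2, 0, 3, 3] 5 43080 1436 15 (by norm_num) ?_
  intro i hi
  interval_cases i
  · exact chk_pow3_2_0
  · exact chk_pow3_2_1
  · exact chk_pow3_2_2
  · exact chk_pow3_2_3
  · exact chk_pow3_2_4
  · exact chk_pow3_2_5
  · exact chk_pow3_2_6
  · exact chk_pow3_2_7
  · exact chk_pow3_2_8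
  · exact chk_pow3_2_9
  · exact chk_pow3_2_10
  · exact chk_pow3_2_11
  · exact chk_pow3_2_12
  · exact chk_pow3_2_13
  · exact chk_pow3_2_14

end Cfsg.Agent.Lib.Helper6.PS44CTC
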