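import Cfsg.Agent.Lib.Helper6.PS44CTCData
import Cfsg.Agent.Lib.Helper6.TCRel3
import Cfsg.Agent.Lib.Helper6.PS44CSMRows1

/-! # PS44C: the kernel check of a part of the relators on the coset table -/

set_option autoImplicit false

namespace Cfsg.Agent.Lib.Helper6.PS44CTC

open Cfsg.Agent.Lib.Helper6.TC

theorem chk_pow4_0_0 : tab.minOKc [0, 3, 3, 0, 3, 3, 0, 3] 4 0 1192 = true := by decide +kernel

theorem chk_pow4_0_1 : tab.minOKc [0, 3, 3, 0, 3, 3, 0, 3] 4 1192 1192 = true := by decide +kernel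

theorem chk_pow4_0_2 : tab.minOKc [0, 3, 3, 0, 3, 3, 0, 3] 4 2384 1192 = true := by decide +kernel

theorem chk_pow4_0_3 : tab.minOKc [0, 3, 3, 0, 3, 3, 0, 3] 4 3576 1192 = true := by decide +kernel

theorem chk_pow4_0_4 : tab.minOKc [0, 3, 3, 0, 3, 3, 0, 3] 4 4768 1192 = true := by decide +kernel

theorem chk_pow4_0_5 : tab.minOKc [0, 3, 3, 0, 3, 3, 0, 3] 4 5960 1192 = true := by decide +kernel

theorem chk_pow4_0_6 : tab.minOKc [0, 3, 3, 0, 3, 3, 0, 3] 4 7152 1192 = true := by decide +kernel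

theorem chk_pow4_0_7 : tab.minOKc [0, 3, 3, 0, 3, 3, 0, 3] 4 8344 1192 = true := by decide +kernel

theorem chk_pow4_0_8 : tab.minOKc [0, 3, 3, 0, 3, 3, 0, 3] 4 9536 1192 = true := by decide +kernel

theorem chk_pow4_0_9 : tab.minOKc [0, 3, 3, 0, 3, 3, 0, 3] 4 10728 1192 = true := by decide +kernel

theorem chk_pow4_0_10 : tab.minOKc [0, 3, 3, 0, 3, 3, 0, 3] 4 11920 1192 = true := by decide +kernel

theorem chk_pow4_0_11 : tab.minOKc [0, 3, 3, 0, 3, 3, 0, 3] 4 13112 1192 = true := by decide +kernel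

theorem chk_pow4_0_12 : tab.minOKc [0, 3, 3, 0, 3, 3, 0, 3] 4 14304 1192 = true := by decide +kernel

theorem chk_pow4_0_13 : tab.minOKc [0, 3, 3, 0, 3, 3, 0, 3] 4 15496 1192 = true := by decide +kernel

theorem chk_pow4_0_14 : tab.minOKc [0, 3, 3, 0, 3, 3, 0, 3] 4 16688 1192 = true := by decide +kernel

theorem chk_pow4_0 : tab.minOKc [0, 3, 3, 0, 3, 3, 0, 3] 4 0 17880 = true := by
  refine tab.minOKc_of_chunks [0, 3, 3, 0, 3, 3, 0, 3] 4 0 1192 15 (by norm_num) ?_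
  intro i hi
  interval_cases i
  · exact chk_pow4_0_0
  · exact chk_pow4_0_1
  · exact chk_pow4_0_2
  · exact chk_pow4_0_3
  · exact chk_pow4_0_4
  · exact chk_pow4_0_5
  · exact chk_pow4_0_6
  · exact chk_pow4_0_7
  · exact chk_pow4_0_8
  · exact chk_pow4_0_9
  · exact chk_pow4_0_10
  · exact chk_pow4_0_11
  · exact chk_pow4_0_12
  · exact chk_pow4_0_13
  · exact chk_pow4_0_14

theorem chk_pow4_1_0 : tab.minOKc [0, 3, 3, 0, 3, 3, 0, 3] 4 17880 1192 = true := by decide +kernel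

theorem chk_pow4_1_1 : tab.minOKc [0, 3, 3, 0, 3, 3, 0, 3] 4 19072 1192 = true := by decide +kernel

theorem chk_pow4_1_2 : tab.minOKc [0, 3, 3, 0, 3, 3, 0, 3] 4 20264 1192 = true := by decide +kernel

theorem chk_pow4_1_3 : tab.minOKc [0, 3, 3, 0, 3, 3, 0, 3] 4 21456 1192 = true := by decide +kernel

theorem chk_pow4_1_4 : tab.minOKc [0, 3, 3, 0, 3, 3, 0, 3] 4 22648 1192 = true := by decide +kernel

theorem chk_pow4_1_5 : tab.minOKc [0, 3, 3, 0, 3, 3, 0, 3] 4 23840 1192 = true := by decide +kernel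

theorem chk_pow4_1_6 : tab.minOKc [0, 3, 3, 0, 3, 3, 0, 3] 4 25032 1192 = true := by decide +kernel

theorem chk_pow4_1_7 : tab.minOKc [0, 3, 3, 0, 3, 3, 0, 3] 4 26224 1192 = true := by decide +kernel

theorem chk_pow4_1_8 : tab.minOKc [0, 3, 3, 0, 3, 3, 0, 3] 4 27416 1192 = true := by decide +kernel

theorem chk_pow4_1_9 : tab.minOKc [0, 3, 3, 0, 3, 3, 0, 3] 4 28608 1192 = true := by decide +kernel

theorem chk_pow4_1_10 : tab.minOKc [0, 3, 3, 0, 3, 3, 0, 3] 4 29800 1192 = true := by decide +kernel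

theorem chk_pow4_1_11 : tab.minOKc [0, 3, 3, 0, 3, 3, 0, 3] 4 30992 1192 = true := by decide +kernel

theorem chk_pow4_1_12 : tab.minOKc [0, 3, 3, 0, 3, 3, 0, 3] 4 32184 1192 = true := by decide +kernel

theorem chk_pow4_1_13 : tab.minOKc [0, 3, 3, 0, 3, 3, 0, 3] 4 33376 1192 = true := by decide +kernel

theorem chk_pow4_1_14 : tab.minOKc [0, 3, 3, 0, 3, 3, 0, 3] 4 34568 1192 = true := by decide +kernel

theorem chk_pow4_1 : tab.minOKc [0, 3, 3, 0, 3, 3, 0, 3] 4 17880 17880 = true := by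
  refine tab.minOKc_of_chunks [0, 3, 3, 0, 3, 3, 0, 3] 4 17880 1192 15 (by norm_num) ?_
  intro i hi
  interval_cases i
  · exact chk_pow4_1_0
  · exact chk_pow4_1_1
  · exact chk_pow4_1_2
  · exact chk_pow4_1_3
  · exact chk_pow4_1_4
  · exact chk_pow4_1_5
  · exact chk_pow4_1_6
  · exact chk_pow4_1_7
  · exact chk_pow4_1_8
  · exact chk_pow4_1_9
  · exact chk_pow4_1_10
  · exact chk_pow4_1_11
  · exact chk_pow4_1_12
  · exact chk_pow4_1_13
  · exact chk_pow4_1_14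

end Cfsg.Agent.Lib.Helper6.PS44CTC
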