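import Cfsg.Agent.Lib.Helper6.PS44CTCData
import Cfsg.Agent.Lib.Helper6.TCRel3
import Cfsg.Agent.Lib.Helper6.PS44CSMRows2

/-! # PS44C: the kernel check of a part of the relators on the coset table -/

set_option autoImplicit false

namespace Cfsg.Agent.Lib.Helper6.PS44CTC

open Cfsg.Agent.Lib.Helper6.TC

theorem chk_pow4_2_0 : tab.minOKc [0, 3, 3, 0, 3, 3, 0, 3] 4 35760 1192 = true := by decide +kernel

theorem chk_pow4_2_1 : tab.minOKc [0, 3, 3, 0, 3, 3, 0, 3] 4 36952 1192 = true := by decide +kernel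

theorem chk_pow4_2_2 : tab.minOKc [0, 3, 3, 0, 3, 3, 0, 3] 4 38144 1192 = true := by decide +kernel

theorem chk_pow4_2_3 : tab.minOKc [0, 3, 3, 0, 3, 3, 0, 3] 4 39336 1192 = true := by decide +kernel

theorem chk_pow4_2_4 : tab.minOKc [0, 3, 3, 0, 3, 3, 0, 3] 4 40528 1192 = true := by decide +kernel

theorem chk_pow4_2_5 : tab.minOKc [0, 3, 3, 0, 3, 3, 0, 3] 4 41720 1192 = true := by decide +kernel

theorem chk_pow4_2_6 : tab.minOKc [0, 3, 3, 0, 3, 3, 0, 3] 4 42912 1192 = true := by decide +kernel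

theorem chk_pow4_2_7 : tab.minOKc [0, 3, 3, 0, 3, 3, 0, 3] 4 44104 1192 = true := by decide +kernel

theorem chk_pow4_2_8 : tab.minOKc [0, 3, 3, 0, 3, 3, 0, 3] 4 45296 1192 = true := by decide +kernel

theorem chk_pow4_2_9 : tab.minOKc [0, 3, 3, 0, 3, 3, 0, 3] 4 46488 1192 = true := by decide +kernel

theorem chk_pow4_2_10 : tab.minOKc [0, 3, 3, 0, 3, 3, 0, 3] 4 47680 1192 = true := by decide +kernel

theorem chk_pow4_2_11 : tab.minOKc [0, 3, 3, 0, 3, 3, 0, 3] 4 48872 1192 = true := by decide +kernel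

theorem chk_pow4_2_12 : tab.minOKc [0, 3, 3, 0, 3, 3, 0, 3] 4 50064 1192 = true := by decide +kernel

theorem chk_pow4_2_13 : tab.minOKc [0, 3, 3, 0, 3, 3, 0, 3] 4 51256 1192 = true := by decide +kernel

theorem chk_pow4_2_14 : tab.minOKc [0, 3, 3, 0, 3, 3, 0, 3] 4 52448 1192 = true := by decide +kernel

theorem chk_pow4_2 : tab.minOKc [0, 3, 3, 0, 3, 3, 0, 3] 4 35760 17880 = true := by
  refine tab.minOKc_of_chunks [0, 3, 3, 0, 3, 3, 0, 3] 4 35760 1192 15 (by norm_num) ?_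
  intro i hi
  interval_cases i
  · exact chk_pow4_2_0
  · exact chk_pow4_2_1
  · exact chk_pow4_2_2
  · exact chk_pow4_2_3
  · exact chk_pow4_2_4
  · exact chk_pow4_2_5
  · exact chk_pow4_2_6
  · exact chk_pow4_2_7
  · exact chk_pow4_2_8
  · exact chk_pow4_2_9
  · exact chk_pow4_2_10
  · exact chk_pow4_2_11
  · exact chk_pow4_2_12
  · exact chk_pow4_2_13
  · exact chk_pow4_2_14

theorem chk_pow4_3_0 : tab.minOKc [0, 3, 3, 0, 3, 3, 0, 3] 4 53640 1192 = true := by decide +kernel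

theorem chk_pow4_3_1 : tab.minOKc [0, 3, 3, 0, 3, 3, 0, 3] 4 54832 1192 = true := by decide +kernel

theorem chk_pow4_3_2 : tab.minOKc [0, 3, 3, 0, 3, 3, 0, 3] 4 56024 1192 = true := by decide +kernel

theorem chk_pow4_3_3 : tab.minOKc [0, 3, 3, 0, 3, 3, 0, 3] 4 57216 1192 = true := by decide +kernel

theorem chk_pow4_3_4 : tab.minOKc [0, 3, 3, 0, 3, 3, 0, 3] 4 58408 1192 = true := by decide +kernel

theorem chk_pow4_3_5 : tab.minOKc [0, 3, 3, 0, 3, 3, 0, 3] 4 59600 1192 = true := by decide +kernel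

theorem chk_pow4_3_6 : tab.minOKc [0, 3, 3, 0, 3, 3, 0, 3] 4 60792 1192 = true := by decide +kernel

theorem chk_pow4_3_7 : tab.minOKc [0, 3, 3, 0, 3, 3, 0, 3] 4 61984 1192 = true := by decide +kernel

theorem chk_pow4_3_8 : tab.minOKc [0, 3, 3, 0, 3, 3, 0, 3] 4 63176 1192 = true := by decide +kernel

theorem chk_pow4_3_9 : tab.minOKc [0, 3, 3, 0, 3, 3, 0, 3] 4 64368 1192 = true := by decide +kernel

theorem chk_pow4_3_10 : tab.minOKc [0, 3, 3, 0, 3, 3, 0, 3] 4 65560 1192 = true := by decide +kernel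

theorem chk_pow4_3_11 : tab.minOKc [0, 3, 3, 0, 3, 3, 0, 3] 4 66752 1192 = true := by decide +kernel

theorem chk_pow4_3_12 : tab.minOKc [0, 3, 3, 0, 3, 3, 0, 3] 4 67944 1192 = true := by decide +kernel

theorem chk_pow4_3_13 : tab.minOKc [0, 3, 3, 0, 3, 3, 0, 3] 4 69136 1192 = true := by decide +kernel

theorem chk_pow4_3_14 : tab.minOKc [0, 3, 3, 0, 3, 3, 0, 3] 4 70328 1192 = true := by decide +kernel

theorem chk_pow4_3 : tab.minOKc [0, 3, 3, 0, 3, 3, 0, 3] 4 53640 17880 = true := by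
  refine tab.minOKc_of_chunks [0, 3, 3, 0, 3, 3, 0, 3] 4 53640 1192 15 (by norm_num) ?_
  intro i hi
  interval_cases i
  · exact chk_pow4_3_0
  · exact chk_pow4_3_1
  · exact chk_pow4_3_2
  · exact chk_pow4_3_3
  · exact chk_pow4_3_4
  · exact chk_pow4_3_5
  · exact chk_pow4_3_6
  · exact chk_pow4_3_7
  · exact chk_pow4_3_8
  · exact chk_pow4_3_9
  · exact chk_pow4_3_10
  · exact chk_pow4_3_11
  · exact chk_pow4_3_12
  · exact chk_pow4_3_13
  · exact chk_pow4_3_14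

end Cfsg.Agent.Lib.Helper6.PS44CTC
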