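import Cfsg.Agent.Lib.Helper6.PS44CTCData
import Cfsg.Agent.Lib.Helper6.TCRel3
import Cfsg.Agent.Lib.Helper6.PS44CSMRows3

/-! # PS44C: the kernel check of a part of the relators on the coset table -/

set_option autoImplicit false

namespace Cfsg.Agent.Lib.Helper6.PS44CTC

open Cfsg.Agent.Lib.Helper6.TC

theorem chk_pow5_0_0 : tab.minOKc [0, 2] 17 0 2174 = true := by decide +kernel

theorem chk_pow5_0_1 : tab.minOKc [0, 2] 17 2174 2174 = true := by decide +kernel

theorem chk_pow5_0_2 : tab.minOKc [0, 2] 17 4348 2174 = true := by decide +kernel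

theorem chk_pow5_0_3 : tab.minOKc [0, 2] 17 6522 2174 = true := by decide +kernel

theorem chk_pow5_0_4 : tab.minOKc [0, 2] 17 8696 2174 = true := by decide +kernel

theorem chk_pow5_0_5 : tab.minOKc [0, 2] 17 10870 2174 = true := by decide +kernel

theorem chk_pow5_0_6 : tab.minOKc [0, 2] 17 13044 2174 = true := by decide +kernel

theorem chk_pow5_0_7 : tab.minOKc [0, 2] 17 15218 2174 = true := by decide +kernel

theorem chk_pow5_0_8 : tab.minOKc [0, 2] 17 17392 2174 = true := by decide +kernel

theorem chk_pow5_0_9 : tab.minOKc [0, 2] 17 19566 2174 = true := by decide +kernel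

theorem chk_pow5_0_10 : tab.minOKc [0, 2] 17 21740 2174 = true := by decide +kernel

theorem chk_pow5_0_11 : tab.minOKc [0, 2] 17 23914 2174 = true := by decide +kernel

theorem chk_pow5_0_12 : tab.minOKc [0, 2] 17 26088 2174 = true := by decide +kernel

theorem chk_pow5_0_13 : tab.minOKc [0, 2] 17 28262 2174 = true := by decide +kernel

theorem chk_pow5_0_14 : tab.minOKc [0, 2] 17 30436 2174 = true := by decide +kernel

theorem chk_pow5_0 : tab.minOKc [0, 2] 17 0 32610 = true := by
  refine tab.minOKc_of_chunks [0, 2] 17 0 2174 15 (by norm_num) ?_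
  intro i hi
  interval_cases i
  · exact chk_pow5_0_0
  · exact chk_pow5_0_1
  · exact chk_pow5_0_2
  · exact chk_pow5_0_3
  · exact chk_pow5_0_4
  · exact chk_pow5_0_5
  · exact chk_pow5_0_6
  · exact chk_pow5_0_7
  · exact chk_pow5_0_8
  · exact chk_pow5_0_9
  · exact chk_pow5_0_10
  · exact chk_pow5_0_11
  · exact chk_pow5_0_12
  · exact chk_pow5_0_13
  · exact chk_pow5_0_14

theorem chk_pow5_1_0 : tab.minOKc [0, 2] 17 32610 2174 = true := by decide +kernel

theorem chk_pow5_1_1 : tab.minOKc [0, 2] 17 34784 2174 = true := by decide +kernel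

theorem chk_pow5_1_2 : tab.minOKc [0, 2] 17 36958 2174 = true := by decide +kernel

theorem chk_pow5_1_3 : tab.minOKc [0, 2] 17 39132 2174 = true := by decide +kernel

theorem chk_pow5_1_4 : tab.minOKc [0, 2] 17 41306 2174 = true := by decide +kernel

theorem chk_pow5_1_5 : tab.minOKc [0, 2] 17 43480 2174 = true := by decide +kernel

theorem chk_pow5_1_6 : tab.minOKc [0, 2] 17 45654 2174 = true := by decide +kernel

theorem chk_pow5_1_7 : tab.minOKc [0, 2] 17 47828 2174 = true := by decide +kernel

theorem chk_pow5_1_8 : tab.minOKc [0, 2] 17 50002 2174 = true := by decide +kernel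

theorem chk_pow5_1_9 : tab.minOKc [0, 2] 17 52176 2174 = true := by decide +kernel

theorem chk_pow5_1_10 : tab.minOKc [0, 2] 17 54350 2174 = true := by decide +kernel

theorem chk_pow5_1_11 : tab.minOKc [0, 2] 17 56524 2174 = true := by decide +kernel

theorem chk_pow5_1_12 : tab.minOKc [0, 2] 17 58698 2174 = true := by decide +kernel

theorem chk_pow5_1_13 : tab.minOKc [0, 2] 17 60872 2174 = true := by decide +kernel

theorem chk_pow5_1_14 : tab.minOKc [0, 2] 17 63046 2174 = true := by decide +kernel

theorem chk_pow5_1 : tab.minOKc [0, 2] 17 32610 32610 = true := by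
  refine tab.minOKc_of_chunks [0, 2] 17 32610 2174 15 (by norm_num) ?_
  intro i hi
  interval_cases i
  · exact chk_pow5_1_0
  · exact chk_pow5_1_1
  · exact chk_pow5_1_2
  · exact chk_pow5_1_3
  · exact chk_pow5_1_4
  · exact chk_pow5_1_5
  · exact chk_pow5_1_6
  · exact chk_pow5_1_7
  · exact chk_pow5_1_8
  · exact chk_pow5_1_9
  · exact chk_pow5_1_10
  · exact chk_pow5_1_11
  · exact chk_pow5_1_12
  · exact chk_pow5_1_13
  · exact chk_pow5_1_14

end Cfsg.Agent.Lib.Helper6.PS44CTC
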