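import Cfsg.Agent.Lib.Helper6.PS44CTCData
import Cfsg.Agent.Lib.Helper6.TCRel3
import Cfsg.Agent.Lib.Helper6.PS44CTCRel0
import Cfsg.Agent.Lib.Helper6.PS44CTCRel1
import Cfsg.Agent.Lib.Helper6.PS44CTCRel2
import Cfsg.Agent.Lib.Helper6.PS44CTCRel3
import Cfsg.Agent.Lib.Helper6.PS44CTCRel4
import Cfsg.Agent.Lib.Helper6.PS44CTCRel5

/-! # PS44C: the relators hold on the coset table -/

set_option autoImplicit false

namespace Cfsg.Agent.Lib.Helper6.PS44CTC

open Cfsg.Agent.Lib.Helper6.TC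

theorem chk_pow0 : tab.minOK [0] 2 = true := by
  refine tab.minOK_of_chunks [0] 2 66635 1 (by decide +kernel) (by norm_num) (by show 57600 ≤ 1 * 66635; norm_num) ?_
  intro i hi
  interval_cases i
  · exact chk_pow0_0

theorem chk_pow1 : tab.minOK [2] 5 = true := by
  refine tab.minOK_of_chunks [2] 5 57827 1 (by decide +kernel) (by norm_num) (by show 57600 ≤ 1 * 57827; norm_num) ?_
  intro i hi
  interval_cases i
  · exact chk_pow1_0

theorem chk_pow2 : tab.minOK [0, 2, 0, 3] 2 = true := by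
  refine tab.minOK_of_chunks [0, 2, 0, 3] 2 49965 2 (by decide +kernel) (by norm_num) (by show 57600 ≤ 2 * 49965; norm_num) ?_
  intro i hi
  interval_cases i
  · exact chk_pow2_0
  · exact chk_pow2_1

theorem chk_pow3 : tab.minOK [0, 2, 2, 0, 3, 3] 5 = true := by
  refine tab.minOK_of_chunks [0, 2, 2, 0, 3, 3] 5 21540 3 (by decide +kernel) (by norm_num) (by show 57600 ≤ 3 * 21540; norm_num) ?_
  intro i hi
  interval_cases i
  · exact chk_pow3_0
  · exact chk_pow3_1
  · exact chk_pow3_2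

theorem chk_pow4 : tab.minOK [0, 3, 3, 0, 3, 3, 0, 3] 4 = true := by
  refine tab.minOK_of_chunks [0, 3, 3, 0, 3, 3, 0, 3] 4 17880 4 (by decide +kernel) (by norm_num) (by show 57600 ≤ 4 * 17880; norm_num) ?_
  intro i hi
  interval_cases i
  · exact chk_pow4_0
  · exact chk_pow4_1
  · exact chk_pow4_2
  · exact chk_pow4_3

theorem chk_pow5 : tab.minOK [0, 2] 17 = true := by
  refine tab.minOK_of_chunks [0, 2] 17 32610 2 (by decide +kernel) (by norm_num) (by show 57600 ≤ 2 * 32610; norm_num) ?_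
  intro i hi
  interval_cases i
  · exact chk_pow5_0
  · exact chk_pow5_1

end Cfsg.Agent.Lib.Helper6.PS44CTC
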