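import Cfsg.Agent.Lib.Helper6.PS44CSCert

/-! # PS44C: the kernel check of the merge map from row 80000 on -/

set_option autoImplicit false

namespace Cfsg.Agent.Lib.Helper6.PS44CTC

open Cfsg.Agent.Lib.Helper6.TC Cfsg.Agent.Lib.Helper6.TCGS

theorem chk_mrows5_0 : cert.mrowsOK 80000 4000 = true := by decide +kernel

theorem chk_mrows5_1 : cert.mrowsOK 84000 4000 = true := by decide +kernel

theorem chk_mrows5_2 : cert.mrowsOK 88000 4000 = true := by decide +kernel

theorem chk_mrows5_3 : cert.mrowsOK 92000 4000 = true := by decide +kernel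

theorem chk_mrange5 : ∀ a, 80000 ≤ a → a < 80000 + 16000 → cert.mslotOK a = true := by
  refine cert.mrange_of_chunks 80000 4000 4 (by norm_num) ?_
  intro k hk
  interval_cases k
  · exact chk_mrows5_0
  · exact chk_mrows5_1
  · exact chk_mrows5_2
  · exact chk_mrows5_3

end Cfsg.Agent.Lib.Helper6.PS44CTC
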