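import Cfsg.Agent.Lib.Helper6.PS44CTCData
import Cfsg.Agent.Lib.Helper6.TCGIndex
import Cfsg.Agent.Lib.Helper6.PS44CSFin1

/-! # PS44C: the kernel check of the coset table, part 3 -/

set_option autoImplicit false

namespace Cfsg.Agent.Lib.Helper6.PS44CTC

open Cfsg.Agent.Lib.Helper6.TC Cfsg.Agent.Lib.Helper6.TCGS

theorem chk_tab27 : Cfsg.Agent.Lib.Helper6.TCG.tabOKc tab ivs 54000 2000 = true := by decide +kernel

theorem chk_tab28 : Cfsg.Agent.Lib.Helper6.TCG.tabOKc tab ivs 56000 2000 = true := by decide +kernel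

end Cfsg.Agent.Lib.Helper6.PS44CTC
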