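import Cfsg.Agent.Lib.Helper6.PS44CSCert

/-! # PS44C: the kernel check of the rows from 0 on -/

set_option autoImplicit false

namespace Cfsg.Agent.Lib.Helper6.PS44CTC

open Cfsg.Agent.Lib.Helper6.TC Cfsg.Agent.Lib.Helper6.TCGS

theorem chk_rows0_0 : cert.rowsOK 0 1275 = true := by decide +kernel

theorem chk_rows0_1 : cert.rowsOK 1275 1275 = true := by decide +kernel

theorem chk_rows0_2 : cert.rowsOK 2550 1275 = true := by decide +kernel

theorem chk_rows0_3 : cert.rowsOK 3825 1275 = true := by decide +kernel

theorem chk_rows0_4 : cert.rowsOK 5100 1275 = true := by decide +kernel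

theorem chk_rows0_5 : cert.rowsOK 6375 1275 = true := by decide +kernel

theorem chk_rows0_6 : cert.rowsOK 7650 1275 = true := by decide +kernel

theorem chk_rows0_7 : cert.rowsOK 8925 1275 = true := by decide +kernel

theorem chk_rows0_8 : cert.rowsOK 10200 1275 = true := by decide +kernel

theorem chk_rows0_9 : cert.rowsOK 11475 1275 = true := by decide +kernel

theorem chk_rows0_10 : cert.rowsOK 12750 1275 = true := by decide +kernel

theorem chk_rows0_11 : cert.rowsOK 14025 1275 = true := by decide +kernel

theorem chk_rows0_12 : cert.rowsOK 15300 1275 = true := by decide +kernel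

theorem chk_rows0_13 : cert.rowsOK 16575 1275 = true := by decide +kernel

theorem chk_rows0_14 : cert.rowsOK 17850 1275 = true := by decide +kernel

theorem chk_rows0_15 : cert.rowsOK 19125 1275 = true := by decide +kernel

theorem chk_rows0_16 : cert.rowsOK 20400 1275 = true := by decide +kernel

theorem chk_rows0_17 : cert.rowsOK 21675 1275 = true := by decide +kernel

theorem chk_rows0_18 : cert.rowsOK 22950 1275 = true := by decide +kernel

theorem chk_rows0_19 : cert.rowsOK 24225 1275 = true := by decide +kernel

theorem chk_rows0_20 : cert.rowsOK 25500 1275 = true := by decide +kernel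

theorem chk_rows0_21 : cert.rowsOK 26775 1275 = true := by decide +kernel

theorem chk_rows0_22 : cert.rowsOK 28050 1275 = true := by decide +kernel

theorem chk_rows0_23 : cert.rowsOK 29325 1275 = true := by decide +kernel

theorem chk_range0 : ∀ a, 0 ≤ a → a < 30600 → ∀ x < cert.c.g, cert.slotOK a x = true := by
  refine cert.range_of_chunks 0 1275 24 (by norm_num) ?_
  intro k hk
  interval_cases k
  · exact chk_rows0_0
  · exact chk_rows0_1
  · exact chk_rows0_2
  · exact chk_rows0_3
  · exact chk_rows0_4
  · exact chk_rows0_5
  · exact chk_rows0_6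
  · exact chk_rows0_7
  · exact chk_rows0_8
  · exact chk_rows0_9
  · exact chk_rows0_10
  · exact chk_rows0_11
  · exact chk_rows0_12
  · exact chk_rows0_13
  · exact chk_rows0_14
  · exact chk_rows0_15
  · exact chk_rows0_16
  · exact chk_rows0_17
  · exact chk_rows0_18
  · exact chk_rows0_19
  · exact chk_rows0_20
  · exact chk_rows0_21
  · exact chk_rows0_22
  · exact chk_rows0_23

end Cfsg.Agent.Lib.Helper6.PS44CTC
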