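import Cfsg.Agent.Lib.Helper6.PS44CSCert
import Cfsg.Agent.Lib.Helper6.TCGIndex
import Cfsg.Agent.Lib.Helper6.PS44CSRows1

/-! # PS44C: the kernel check that the first rows are closed, part 3 -/

set_option autoImplicit false

namespace Cfsg.Agent.Lib.Helper6.PS44CTC

open Cfsg.Agent.Lib.Helper6.TC Cfsg.Agent.Lib.Helper6.TCGS

theorem chk_fin27 : cert.finalOKc 57600 54000 2000 = true := by decide +kernel

theorem chk_fin28 : cert.finalOKc 57600 56000 2000 = true := by decide +kernel

end Cfsg.Agent.Lib.Helper6.PS44CTC
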