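import Cfsg.Agent.Lib.Helper6.PS44CTCData
import Cfsg.Agent.Lib.Helper6.TCChunk
import Cfsg.Agent.Lib.Helper6.TCGStatic
import Cfsg.Agent.Lib.Helper6.PS44CSFin3

/-! # PS44C: the kernel check that the coset table is connected, part 1 -/

set_option autoImplicit false

namespace Cfsg.Agent.Lib.Helper6.PS44CTC

open Cfsg.Agent.Lib.Helper6.TC Cfsg.Agent.Lib.Helper6.TCGS

theorem chk_tree27 : tab.treeOKc 54000 2000 = true := by decide +kernel

theorem chk_tree28 : tab.treeOKc 56000 2000 = true := by decide +kernel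

end Cfsg.Agent.Lib.Helper6.PS44CTC
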