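import Cfsg.Agent.Lib.Helper6.PS44CTCData
import Cfsg.Agent.Lib.Helper6.TCGInst
import Cfsg.Agent.Lib.Helper6.PGrpS44
import Cfsg.Agent.Lib.Helper6.PS44CTCChk3
import Cfsg.Agent.Lib.Helper6.PS44CTCTab0
import Cfsg.Agent.Lib.Helper6.PS44CTCTab1
import Cfsg.Agent.Lib.Helper6.PS44CTCTab2
import Cfsg.Agent.Lib.Helper6.PS44CTCTab3
import Cfsg.Agent.Lib.Helper6.PS44CTCTree0
import Cfsg.Agent.Lib.Helper6.PS44CTCTree1

/-! # PS44C: the checks of the words, the coset table and the relators -/

set_option autoImplicit false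

namespace Cfsg.Agent.Lib.Helper6.PS44CTC

open Cfsg.Agent.Lib.Helper6.TC Cfsg.Agent.Lib.Helper6.TCG Cfsg.Spor Cfsg.Agent.Lib.Helper6.PGrp

/-- the generator of a letter -/
def gen : ℕ → PS44.Gen
  | 0 => .a
  | 1 => .a
  | 2 => .b
  | _ => .b

/-- is the letter the inverse of its generator? -/
def sgn : ℕ → Bool
  | 1 => true
  | 3 => true
  | _ => false

/-- the letter of a generator -/
def code : PS44.Gen → ℕ
  | .a => 0
  | .b => 2

theorem chk_words : TCG.wordsSrcOK cfg ivs (relWords PS44.edges gen 0 extraPow) nw srcs = true := by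
  decide +kernel

theorem chk_tab : TCG.tabOK tab ivs = true := by
  refine TCG.tabOK_of_chunks tab ivs 2000 29 (by decide +kernel) (by norm_num) (by show 57600 ≤ 29 * 2000; norm_num) ?_
  intro k hk
  interval_cases k
  · exact chk_tab0
  · exact chk_tab1
  · exact chk_tab2
  · exact chk_tab3
  · exact chk_tab4
  · exact chk_tab5
  · exact chk_tab6
  · exact chk_tab7
  · exact chk_tab8
  · exact chk_tab9
  · exact chk_tab10
  · exact chk_tab11
  · exact chk_tab12
  · exact chk_tab13
  · exact chk_tab14
  · exact chk_tab15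
  · exact chk_tab16
  · exact chk_tab17
  · exact chk_tab18
  · exact chk_tab19
  · exact chk_tab20
  · exact chk_tab21
  · exact chk_tab22
  · exact chk_tab23
  · exact chk_tab24
  · exact chk_tab25
  · exact chk_tab26
  · exact chk_tab27
  · exact chk_tab28

theorem chk_tree : tab.treeOK = true := by
  refine tab.treeOK_of_chunks 2000 29 (by norm_num) (by show 57600 ≤ 29 * 2000; norm_num) ?_
  intro k hk
  interval_cases k
  · exact chk_tree0
  · exact chk_tree1
  · exact chk_tree2
  · exact chk_tree3
  · exact chk_tree4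
  · exact chk_tree5
  · exact chk_tree6
  · exact chk_tree7
  · exact chk_tree8
  · exact chk_tree9
  · exact chk_tree10
  · exact chk_tree11
  · exact chk_tree12
  · exact chk_tree13
  · exact chk_tree14
  · exact chk_tree15
  · exact chk_tree16
  · exact chk_tree17
  · exact chk_tree18
  · exact chk_tree19
  · exact chk_tree20
  · exact chk_tree21
  · exact chk_tree22
  · exact chk_tree23
  · exact chk_tree24
  · exact chk_tree25
  · exact chk_tree26
  · exact chk_tree27
  · exact chk_tree28

theorem pows_eq : coxPairs PS44.edges gen 0 ++ extraPow = allPow := by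
  decide +kernel

theorem chk_pows : tab.minsOK (coxPairs PS44.edges gen 0 ++ extraPow) = true := by
  rw [pows_eq]
  simp only [allPow, Tab.minsOK_cons, Tab.minsOK_nil, Bool.and_eq_true, and_true]
  exact ⟨chk_pow0, chk_pow1, chk_pow2, chk_pow3, chk_pow4, chk_pow5⟩

theorem chk_sub : TCG.subOK cfg tab subW = true := by decide +kernel

end Cfsg.Agent.Lib.Helper6.PS44CTC
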