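import Cfsg.Agent.Lib.Helper6.PS44CTCChk1
import Cfsg.Agent.Lib.Helper6.PS44CTCChk2

/-! # A presented group on two generators: the index of a subgroup (PS44C) -/

set_option autoImplicit false
set_option maxRecDepth 1000000
set_option maxHeartbeats 4000000
set_option linter.constructorNameAsVariable false
set_option linter.unusedSimpArgs false

namespace Cfsg.Agent.Lib.Helper6.PS44CTC

open Cfsg.Agent.Lib.Helper6.TC Cfsg.Agent.Lib.Helper6.TCG Cfsg.Agent.Lib.Helper6.TCGS Cfsg.Spor
  Cfsg.Agent.Lib.Helper6.PGrp

theorem extra_iff {K : Type} [Group K] (f : PS44.Gen → K)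
    (hf : ∀ a ∈ coxNodes PS44.edges, f a * f a = 1) :
    (∀ r ∈ PS44.extra, FreeGroup.lift f r = 1) ↔
      ∀ p ∈ extraPow, (((List.replicate p.2 p.1).flatten).map
        (fun x => FreeGroup.lift f (lt gen sgn x))).prod = 1 := by
  simp only [PS44.extra, extraPow, List.forall_mem_cons, List.not_mem_nil, false_imp_iff,
    implies_true, and_true, IsEmpty.forall_iff]
  simp only [PS44.a, PS44.b, map_mul, map_inv, map_pow,
    FreeGroup.lift_apply_of, List.map_cons, List.map_nil, List.prod_cons, List.prod_nil, gen, sgn, lt,
    List.replicate, List.flatten_cons, List.flatten_nil, List.cons_append, List.nil_append, List.append_nil,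
    cond_true, cond_false,
    mul_inv_rev, inv_pow, inv_inv, pow_succ, pow_zero, one_mul, mul_one, mul_assoc]

/-- the generating set of the subgroup -/
abbrev S : Set (FreeGroup PS44.Gen) :=
  {PS44.a * PS44.b}

theorem hS (s : FreeGroup PS44.Gen) : s ∈ S ↔ ∃ w ∈ subW, s = fgWord gen sgn w := by
  simp only [S, subW, fgWord, lt, Set.mem_insert_iff, Set.mem_singleton_iff, List.mem_cons,
    List.not_mem_nil, or_false, exists_eq_or_imp, exists_eq_left, List.map_cons, List.map_nil,
    List.prod_cons, List.prod_nil, mul_one, gen, sgn, cond_false, cond_true, mul_assoc]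

/-- the data of the enumeration -/
noncomputable def data : GenData PS44.edges PS44.extra S where
  gen := gen
  sgn := sgn
  code := code
  c := cfg
  ivs := ivs
  gn := 0
  extraPow := extraPow
  nw := nw
  srcs := srcs
  T := tab
  subW := subW
  hnode := by decide
  hlow := by
    intro x hx
    exact absurd hx (Nat.not_lt_zero _)
  hgn := by decide
  hcode := by intro a; cases a <;> decide
  hletter := by
    intro x hx
    have hx' : x < 4 := hx
    interval_cases x <;> decide
  hTg := rfl
  hTn := show 0 < 57600 by norm_num
  chk_words := chk_words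
  hrun := hrun
  chk_tab := chk_tab
  chk_pows := chk_pows
  chk_tree := chk_tree
  hextra := fun f hf => extra_iff f hf
  hS := hS
  chk_sub := chk_sub

theorem main : ((Subgroup.closure S).map (PresentedGroup.mk
      (coxRelators PS44.edges ∪ {r | r ∈ PS44.extra}))).index = 57600 :=
  data.index_eq

end Cfsg.Agent.Lib.Helper6.PS44CTC
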