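import Cfsg.Agent.Lib.Helper6.PS44BTCTb

/-! # Coset enumeration data for PS44B: configuration, table, words (generated) -/

set_option autoImplicit false
set_option maxRecDepth 1000000
set_option maxHeartbeats 40000000

namespace Cfsg.Agent.Lib.Helper6.PS44BTC

open Cfsg.Agent.Lib.Helper6.TC

/-- the configuration of the enumeration -/
def cfg : Cfg := ⟨4, 11, 1000000, 2, 144, 0x31313131313131313131313131313131312213131313131313131313131313131313132202020202020202020202020202020202022220202020202020202020202020202020202200221221212212212122122121221221212000212212122122121221221212212212122000122121221221212212212122122121222000221212212212122122121221221212212000212122122121221221212212212122122000121221221212212212122122121221222000212212212122122121221221212212212000122122121221221212212212122122122000033033030330330303303303033033032000330330303303303033033030330330302000303303033033030330330303303303032000033030330330303303303033033030332000330303303303033033030330330303302000303033033030330330303303303033032000030330330303303303033033030330332000303303303033033030330330303303302000003312213312213312213312213312211e00003122133122133122133122133122131e00001221331221331221331221331221331e00002213312213312213312213312213311e00002133122133122133122133122133121e000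01331221331221331221331221331221e00003022033022033022033022033022031e00000220330220330220330220330220331e00002203302203302203302203302203301e00002033022033022033022033022033021e00000330220330220330220330220330221e00003302203302203302203302203302201e00000000000000000000000000312131210800000000000000000000000000121312130800000000000000000000000000213121310800000000000000000000000000131213120800000000000000000000000000020302030800000000000000000000000000203020300800000000000000000000000000030203020800000000000000000000000000302030200800000000000000000000000000000333330500000000000000000000000000000222220500000000000000000000000000000000110200000000000000000000000000000000000200000000000000000000000133122020200b00000000000000000000000021330330220a⟩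

/-- the inverses of the letters -/
def ivs : ℕ := 0x2301

/-- the number of words -/
def nw : ℕ := 46

/-- the further relators as powers -/
def extraPow : List (List ℕ × ℕ) := [([0], 2), ([2], 5), ([0, 2, 0, 3], 2), ([0, 2, 2, 0, 3, 3], 5), ([0, 3, 3, 0, 3, 3, 0, 3], 4), ([0, 2], 17)]

/-- all the relators as powers -/
def allPow : List (List ℕ × ℕ) := [([0], 2), ([2], 5), ([0, 2, 0, 3], 2), ([0, 2, 2, 0, 3, 3], 5), ([0, 3, 3, 0, 3, 3, 0, 3], 4), ([0, 2], 17)]

/-- where the words come from -/
def srcs : List ℕ := [0, 1, 512, 513, 1024, 1026, 1028, 1030, 1025, 1027, 1029, 1031, 1536, 1538, 1540, 1542, 1544, 1546, 1537, 1539, 1541, 1543, 1545, 1547, 2048, 2050, 2052, 2054, 2056, 2058, 2060, 2062, 2049, 2051, 2053, 2055, 2057, 2059, 2061, 2063, 2560, 2562, 2561, 2563]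

/-- the coset table -/
noncomputable def tab : Tab := ⟨4, 7, 85, arrT⟩

/-- the words of the generators of the subgroup -/
def subW : List (List ℕ) := [[2, 2, 0, 3, 3, 0, 3, 3, 1, 2], [0, 2, 0, 2, 0, 2, 2, 1, 3, 3, 1]]

end Cfsg.Agent.Lib.Helper6.PS44BTC
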