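import Cfsg.Agent.Lib.Helper6.SimpG
import Cfsg.Agent.Lib.Helper6.PS44BTCData

/-! # The presented group of order 979200: data of the certificate of order and simplicity (generated) -/

set_option autoImplicit false
set_option maxRecDepth 1000000

namespace Cfsg.Agent.Lib.Helper6.PS44Simp

open Cfsg.Agent.Lib.Helper6.TC Cfsg.Agent.Lib.Helper6.Simp Cfsg.Agent.Lib.Helper6.SimpG Cfsg.Agent.Lib.Helper6.NatArr Cfsg.Agent.Lib.Helper6.PS44BTC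

/-- level 1: base point 1, orbit of length 20 -/
def lvl1 : Level where
  b := 1
  ws := [[2, 2, 0, 3, 3, 0, 3, 3, 1, 2], [0, 2, 0, 2, 0, 2, 2, 1, 3, 3, 1]]
  instrs := [7, 18, 78, 55, 1048639, 21, 33, 73, 6, 0, 1048621, 68, 16, 67, 52, 0, 0, 1048617, 15, 19, 69, 49]
  B := 0x211c404911010016c062
  m := 20

theorem lvl1_ok : LevelOK tab [0] lvl1 :=
  ⟨by decide +kernel, by decide +kernel, by decide +kernel, by decide +kernel, by decide +kernel⟩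

/-- level 2: base point 2, orbit of length 16 -/
def lvl2 : Level where
  b := 2
  ws := [[0, 2, 0, 2, 0, 2, 2, 1, 3, 0, 2, 0, 2, 2, 1, 3, 0, 2, 0, 2, 2, 1, 3, 3, 1, 2, 2, 0, 3, 3, 0, 3, 3,
    1, 2, 0, 2, 2, 0, 3, 3, 1, 3, 1, 3, 1, 3, 0, 2, 2, 1, 2, 2, 1, 3, 3], [0, 2, 0, 2, 0, 2, 2, 1, 3,
    3, 1, 2, 2, 0, 3, 3, 0, 3, 3, 1, 2, 0, 2, 0, 2, 0, 2, 2, 1, 3, 0, 2, 0, 2, 2, 1, 3, 0, 2, 0, 2,
    2, 1, 3, 3, 1, 3, 0, 2, 2, 1, 2, 2, 1, 3, 3]]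
  instrs := [53, 1048634, 27, 13, 44, 40, 29, 1048600, 85, 22, 61, 51, 37, 0, 0, 0, 1048608, 66]
  B := 0x1000021214089094a01004
  m := 16

theorem lvl2_ok : LevelOK tab [1, 0] lvl2 :=
  ⟨by decide +kernel, by decide +kernel, by decide +kernel, by decide +kernel, by decide +kernel⟩

/-- level 3: base point 3, orbit of length 36 -/
def lvl3 : Level where
  b := 3
  ws := [[0, 2, 0, 2, 0, 2, 2, 1, 3, 0, 2, 0, 2, 2, 1, 3, 0, 2, 0, 2, 2, 1, 3, 3, 1, 2, 2, 0, 3, 3, 0, 3, 3,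
    1, 2, 0, 2, 2, 0, 3, 3, 1, 3, 1, 3, 1, 3, 0, 2, 2, 1, 2, 2, 1, 3, 3, 0, 2, 0, 2, 0, 2, 2, 1, 3,
    0, 2, 0, 2, 2, 1, 3, 0, 2, 0, 2, 2, 1, 3, 3, 1, 2, 2, 0, 3, 3, 0, 3, 3, 1, 2, 0, 2, 2, 0, 3, 3,
    1, 3, 1, 3, 1, 3, 0, 2, 2, 1, 2, 2, 1, 3, 3], [0, 2, 0, 2, 0, 2, 2, 1, 3, 3, 1, 2, 2, 0, 3, 3, 0,
    3, 3, 1, 2, 0, 2, 0, 2, 0, 2, 2, 1, 3, 0, 2, 0, 2, 2, 1, 3, 0, 2, 0, 2, 2, 1, 3, 3, 1, 3, 0, 2,
    2, 1, 2, 2, 1, 3, 3, 0, 2, 0, 2, 0, 2, 2, 1, 3, 0, 2, 0, 2, 2, 1, 3, 0, 2, 0, 2, 2, 1, 3, 3, 1,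
    2, 2, 0, 3, 3, 0, 3, 3, 1, 2, 0, 2, 2, 0, 3, 3, 1, 3, 1, 3, 1, 3, 0, 2, 2, 1, 2, 2, 1, 3, 3, 0,
    2, 0, 2, 0, 2, 2, 1, 3, 3, 1, 2, 2, 0, 3, 3, 0, 3, 3, 1, 2, 0, 2, 0, 2, 0, 2, 2, 1, 3, 0, 2, 0,
    2, 2, 1, 3, 0, 2, 0, 2, 2, 1, 3, 3, 1, 3, 0, 2, 2, 1, 2, 2, 1, 3, 3]]
  instrs := [70, 76, 1048641, 26, 25, 1048615, 59, 83, 0, 1048610, 36, 17, 1048630, 8, 56, 0, 1048658, 72, 10, 0,
    1048650, 80, 20, 1048606, 47, 50, 0, 1048590, 71, 43, 0, 1048651, 62, 64, 0, 0, 1048588, 35, 48,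
    0, 0, 0, 0, 0, 0, 0, 1048655, 42, 11]
  B := 0x6cee1a4a2c64e23092e88
  m := 36

theorem lvl3_ok : LevelOK tab [2, 1, 0] lvl3 :=
  ⟨by decide +kernel, by decide +kernel, by decide +kernel, by decide +kernel, by decide +kernel⟩

/-- the chain -/
def levels : List Level := [lvl1, lvl2, lvl3]

theorem chain_ok : ChainOK tab [0] levels :=
  ChainOK.cons lvl1_ok (
  ChainOK.cons lvl2_ok (
  ChainOK.cons lvl3_ok (
  ChainOK.nil _)))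

theorem chain_prod : 85 * chainProd levels = 979200 := by decide +kernel

/-- the instructions of the search of orbit 0 of the subgroup -/
def orb0_instrs : List ℕ := [7, 18, 78, 55, 1048639, 21, 33, 73, 6, 0, 1048621, 68, 16, 67, 52, 0, 0, 1048617, 15, 19, 69, 49]

/-- orbit 0 of the subgroup -/
def orb0_B : ℕ := 0x211c404911010016c062

theorem orb0_seg : Tab.segOK2 tab subW orb0_instrs [1] 2 orb0_B = true := by decide +kernel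

theorem orb0_B0_eq : (2 : ℕ) = bset 0 1 := by decide +kernel

theorem orb0_run : RunsTo tab subW (bset 0 1) orb0_B := by
  rw [← orb0_B0_eq]
  exact RunsTo.step [1] orb0_instrs (RunsTo.refl _) orb0_seg

theorem orb0_cnt : cnt orb0_B 85 = 20 := by decide +kernel

/-- the instructions of the search of orbit 1 of the subgroup -/
def orb1_instrs : List ℕ := [12, 82, 17, 58, 1048620, 38, 8, 71, 53, 1048603, 11, 81, 46, 13, 0, 1048586, 9, 59, 47, 84, 1048600,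
    48, 60, 37, 35, 1048606, 1048637, 79, 22, 4, 83, 1048650, 85, 57, 66, 42, 0, 0, 1048610, 0, 0,
    1048638, 50, 40, 29, 70, 0, 0, 0, 1048653, 64, 20, 14, 39, 1048627, 28, 26, 32, 76, 1048619, 0,
    0, 0, 0, 0, 0, 0, 0, 0, 0, 1048641, 36, 25, 75, 72, 0, 0, 0, 0, 0, 0, 0, 1048632, 5, 31, 80, 54,
    0, 0, 0, 0, 0, 0, 0, 0, 0, 0, 0, 1048599]

/-- orbit 1 of the subgroup -/
def orb1_B : ℕ := 0x1fdee3bfb6eefeffe93f9c

theorem orb1_seg : Tab.segOK2 tab subW orb1_instrs [2] 4 orb1_B = true := by decide +kernel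

theorem orb1_B0_eq : (4 : ℕ) = bset 0 2 := by decide +kernel

theorem orb1_run : RunsTo tab subW (bset 0 2) orb1_B := by
  rw [← orb1_B0_eq]
  exact RunsTo.step [2] orb1_instrs (RunsTo.refl _) orb1_seg

theorem orb1_cnt : cnt orb1_B 85 = 64 := by decide +kernel

theorem chk_pow0u : tab.minOK [2, 0, 2, 0, 2] 17 = true := by decide +kernel

theorem chk_pow0x : tab.minOK (0 :: [2, 0, 2, 0, 2]) 17 = true := by decide +kernel

theorem chk_pow2u : tab.minOK [0, 2, 0, 2] 17 = true := by decide +kernel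

theorem chk_pow2x : tab.minOK (2 :: [0, 2, 0, 2]) 17 = true := by decide +kernel

end Cfsg.Agent.Lib.Helper6.PS44Simp
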