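import Cfsg.Agent.Lib.Helper6.SimpG
import Cfsg.Agent.Lib.Helper6.PGen2
import Cfsg.Agent.Lib.Helper6.PS44BTC
import Cfsg.Agent.Lib.Helper6.PS44CTC
import Cfsg.Agent.Lib.Helper6.PS44Simp

/-! # The presented symplectic group of dimension four over the field with four elements is simple
of order 99792000 -/

set_option autoImplicit false
set_option maxRecDepth 100000

namespace Cfsg.Agent.Lib.Helper6.PS44Simple

open Cfsg.Spor Cfsg.Agent.Lib.Helper6.Simp Cfsg.Agent.Lib.Helper6.SimpG
  Cfsg.Agent.Lib.Helper6.TC Cfsg.Agent.Lib.Helper6.TCG Cfsg.Agent.Lib.Helper6.NatArr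
  Cfsg.Agent.Lib.Helper6.PGrp

/-- the upper bound for the order, by the cosets of a cyclic subgroup of order seventeen -/
theorem ub : Finite PS44 ∧ Nat.card PS44 ≤ 979200 := by
  have h := PGen2.ub_of_cyclic (PS44.a * PS44.b) (k := 17) PS44CTC.main (by norm_num) (by norm_num)
    (Or.inr (by simp [PS44.extra]))
  exact ⟨h.1, h.2.trans (by norm_num)⟩

/-- the order, and the action on the 85 cosets is faithful -/
theorem card_inj : Nat.card PS44 = 979200 ∧ Function.Injective PS44BTC.data.ρ :=
  card_eq_and_injective' PS44BTC.data ub PS44Simp.levels PS44Simp.chain_ok PS44Simp.chain_prod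

/-- the rows of the first orbit of the subgroup -/
def orb0 : OrbS PS44BTC.data where
  a := 1
  ha := show 1 < 85 by norm_num
  B := PS44Simp.orb0_B
  chk_run := PS44Simp.orb0_run

/-- the rows of the second orbit of the subgroup -/
def orb1 : OrbS PS44BTC.data where
  a := 2
  ha := show 2 < 85 by norm_num
  B := PS44Simp.orb1_B
  chk_run := PS44Simp.orb1_run

theorem chk_cover : ((1 ||| PS44Simp.orb0_B) ||| PS44Simp.orb1_B) = 2 ^ 85 - 1 := by decide +kernel

theorem chk_disj0_1 : Nat.land PS44Simp.orb0_B PS44Simp.orb1_B = 0 := by decide +kernel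

theorem chk_disj1_0 : Nat.land PS44Simp.orb1_B PS44Simp.orb0_B = 0 := by decide +kernel

theorem chk_o0 : PS44Simp.orb0_B.testBit 0 = false := by decide +kernel

theorem chk_o1 : PS44Simp.orb1_B.testBit 0 = false := by decide +kernel

/-- the group is generated by its elements of order seventeen -/
theorem hgen : Subgroup.closure {g : PS44 | g ^ 17 = 1} = ⊤ := by
  have hinj := card_inj.2
  have key : ∀ (x0 : ℕ) (u : List ℕ), PS44BTC.data.T.minOK u 17 = true →
      PS44BTC.data.T.minOK (x0 :: u) 17 = true →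
      PS44BTC.data.γ x0 ∈ Subgroup.closure {g : PS44 | g ^ 17 = 1} := by
    intro x0 u h1 h2
    have e1 := wordG_pow_eq_one PS44BTC.data hinj h1
    have e2 := wordG_pow_eq_one PS44BTC.data hinj h2
    have : PS44BTC.data.γ x0 =
        SimpG.wordG PS44BTC.data (x0 :: u) * (SimpG.wordG PS44BTC.data u)⁻¹ := by
      unfold SimpG.wordG
      rw [List.map_cons, List.prod_cons]
      group
    rw [this]
    exact Subgroup.mul_mem _ (Subgroup.subset_closure e2)
      (Subgroup.inv_mem _ (Subgroup.subset_closure e1))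
  have ha : (PresentedGroup.of PS44.Gen.a : PS44) ∈ Subgroup.closure {g : PS44 | g ^ 17 = 1} :=
    key 0 [2, 0, 2, 0, 2] PS44Simp.chk_pow0u PS44Simp.chk_pow0x
  have hb : (PresentedGroup.of PS44.Gen.b : PS44) ∈ Subgroup.closure {g : PS44 | g ^ 17 = 1} :=
    key 2 [0, 2, 0, 2] PS44Simp.chk_pow2u PS44Simp.chk_pow2x
  rw [eq_top_iff, ← PresentedGroup.closure_range_of, Subgroup.closure_le]
  rintro _ ⟨x, rfl⟩
  cases x <;> assumption

/-- **The presented group is simple of order 979200** -/
theorem main : IsSimpleGroup PS44 ∧ Nat.card PS44 = 979200 := by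
  have hfin : Finite PS44 := ub.1
  refine ⟨?_, card_inj.1⟩
  refine simple_of_conn PS44BTC.data card_inj.2 (r := 2) ![orb0, orb1] ![20, 64] ?_ ?_ ?_ ?_ ?_ 17 ?_ hgen ?_
  · intro i
    fin_cases i
    · exact PS44Simp.orb0_cnt
    · exact PS44Simp.orb1_cnt
  · intro b hb
    have hb' : b < 85 := hb
    have h1 : (2 ^ 85 - 1).testBit b = true := by
      rw [Nat.testBit_two_pow_sub_one]
      exact decide_eq_true hb'
    rw [← chk_cover] at h1
    simp only [Nat.testBit_or, Bool.or_eq_true] at h1
    rcases h1 with (h | h) | h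
    · exact Or.inl (Nat.testBit_one_eq_true_iff_self_eq_zero.mp h)
    · exact Or.inr ⟨0, h⟩
    · exact Or.inr ⟨1, h⟩
  · intro i j hij
    fin_cases i <;> fin_cases j
    · exact absurd rfl hij
    · exact chk_disj0_1
    · exact chk_disj1_0
    · exact absurd rfl hij
  · intro i
    fin_cases i
    · exact chk_o0
    · exact chk_o1
  · show ∀ I : Finset (Fin 2), I.Nonempty → (1 + ∑ i ∈ I, ![20, 64] i) ∣ 85 →
      1 + ∑ i ∈ I, ![20, 64] i = 85
    decide
  · rw [card_inj.1]
    show (979200 / 85).Coprime 17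
    norm_num
  · show 1 < 85
    norm_num

end Cfsg.Agent.Lib.Helper6.PS44Simple
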