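import Cfsg.Agent.Lib.Helper6.PS44Mat
import Cfsg.Agent.Lib.Helper6.PS44Simple
import Cfsg.Agent.Lib.Helper6.T3Gen
import Cfsg.Agent.S0245

/-! # The presented group is isomorphic to the symplectic group of dimension four over the field
with four elements -/

set_option autoImplicit false

noncomputable section

namespace Cfsg.Agent.Lib.Helper6.PS44Iso

open Matrix Cfsg.Spor Cfsg.Agent.Lib.Helper6.M21 Cfsg.Agent.Lib.Helper6.PS44Mat
  Cfsg.Agent.Lib.Helper6.PGrp Cfsg.Agent.Lib.Helper6.TCG

/-- the symplectic group -/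
abbrev Sp : Type := symplecticGroup (Fin 2) F4c

/-- the image of the generator a -/
def gX : Sp := ⟨mX, SymplecticGroup.mem_iff.2 mX_mem⟩

/-- the image of the generator b -/
def gY : Sp := ⟨mY, SymplecticGroup.mem_iff.2 mY_mem⟩

/-- the inverse of the image of the generator b -/
def gYi : Sp := ⟨mYi, SymplecticGroup.mem_iff.2 mYi_mem⟩

theorem gX_inv : gX⁻¹ = gX := by
  apply inv_eq_of_mul_eq_one_left
  apply Subtype.ext
  exact mX_mul_mX

theorem gY_inv : gY⁻¹ = gYi := by
  apply inv_eq_of_mul_eq_one_right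
  apply Subtype.ext
  exact mY_mul_mYi

/-- the images of the generators -/
def f : PS44.Gen → Sp
  | .a => gX
  | .b => gY

theorem lift_pos {x : ℕ} (h : PS44CTC.sgn x = false) :
    FreeGroup.lift f (lt PS44CTC.gen PS44CTC.sgn x) = f (PS44CTC.gen x) := by
  unfold lt
  rw [h, cond_false, FreeGroup.lift_apply_of]

theorem lift_neg {x : ℕ} (h : PS44CTC.sgn x = true) :
    FreeGroup.lift f (lt PS44CTC.gen PS44CTC.sgn x) = (f (PS44CTC.gen x))⁻¹ := by
  unfold lt
  rw [h, cond_true, map_inv, FreeGroup.lift_apply_of]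

theorem coe_letter (x : ℕ) :
    ((FreeGroup.lift f (lt PS44CTC.gen PS44CTC.sgn x) : Sp) : M4) = letterM x := by
  match x with
  | 0 =>
    rw [lift_pos rfl]
    rfl
  | 1 =>
    rw [lift_neg rfl]
    show ((gX⁻¹ : Sp) : M4) = mX
    rw [gX_inv]
    rfl
  | 2 =>
    rw [lift_pos rfl]
    rfl
  | 3 =>
    rw [lift_neg rfl]
    show ((gY⁻¹ : Sp) : M4) = mYi
    rw [gY_inv]
    rfl
  | n + 4 =>
    rw [lift_pos rfl]
    rfl

theorem prod_eq_one {L : List ℕ} (h : (L.map letterM).prod = 1) :
    (L.map fun x => FreeGroup.lift f (lt PS44CTC.gen PS44CTC.sgn x)).prod = 1 := by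
  apply Subtype.ext
  rw [Submonoid.coe_list_prod, List.map_map]
  have : ((fun z : Sp => (z : M4)) ∘ fun x => FreeGroup.lift f (lt PS44CTC.gen PS44CTC.sgn x)) =
      letterM := by
    funext x
    exact coe_letter x
  rw [this, h]
  rfl

theorem hrels : ∀ r ∈ coxRelators PS44.edges ∪ {r | r ∈ PS44.extra}, FreeGroup.lift f r = 1 := by
  have hf : ∀ z ∈ coxNodes PS44.edges, f z * f z = 1 := by
    intro z hz
    simp [coxNodes, PS44.edges] at hz
  have h := (PS44CTC.extra_iff f hf).mpr (by
    intro p hp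
    apply prod_eq_one
    simp only [PS44CTC.extraPow, List.mem_cons, List.not_mem_nil, or_false] at hp
    rcases hp with rfl | rfl | rfl | rfl | rfl | rfl
    · exact rel0
    · exact rel1
    · exact rel2
    · exact rel3
    · exact rel4
    · exact rel5)
  rintro r (hr | hr)
  · obtain ⟨x, hx, -⟩ := hr
    simp [coxNodes, PS44.edges] at hx
  · exact h r hr

/-- the homomorphism to the symplectic group -/
def θ : PS44 →* Sp := PresentedGroup.toGroup hrels

theorem θ_inj : Function.Injective θ := by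
  have : IsSimpleGroup PS44 := PS44Simple.main.1
  refine T3Gen.injective_of_simple θ (x := PresentedGroup.of PS44.Gen.a) ?_
  have h1 : θ (PresentedGroup.of PS44.Gen.a) = gX := PresentedGroup.toGroup.of _
  rw [h1]
  intro h2
  exact mX_ne_one (congrArg Subtype.val h2)

theorem card_Sp : Nat.card Sp = 979200 := by
  have h := Cfsg.Agent.S0245.result (F := F4c) (q := 4) F4c.card 2
  rw [h]
  norm_num [Finset.prod_range_succ]

/-- **the isomorphism** -/
theorem nonempty_equiv : Nonempty (PS44 ≃* Sp) := by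
  have hfin : Finite PS44 := PS44Simple.ub.1
  have hle : Nat.card Sp ≤ Nat.card PS44 := by
    rw [card_Sp, PS44Simple.main.2]
  exact ⟨MulEquiv.ofBijective θ (θ_inj.bijective_of_nat_card_le hle)⟩

end Cfsg.Agent.Lib.Helper6.PS44Iso

end
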