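import Mathlib

/-! # A faithful transitive action of a group on `Fin n` as a group of permutations -/

set_option autoImplicit false

namespace Cfsg.Agent.Lib.Helper6.PermReal

variable {G : Type*} [Group G] {n : ℕ}

/-- the image of a faithful action is isomorphic to the group -/
noncomputable def rangeEquiv (ρ : G →* Equiv.Perm (Fin n)) (hinj : Function.Injective ρ) :
    G ≃* ρ.range := MonoidHom.ofInjective hinj

theorem pretransitive_range (ρ : G →* Equiv.Perm (Fin n)) (o : Fin n)
    (htrans : ∀ a : Fin n, ∃ z : G, ρ z o = a) : MulAction.IsPretransitive ρ.range (Fin n) := by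
  constructor
  intro x y
  obtain ⟨zx, hzx⟩ := htrans x
  obtain ⟨zy, hzy⟩ := htrans y
  refine ⟨⟨ρ zy * (ρ zx)⁻¹, ρ.range.mul_mem ⟨zy, rfl⟩ (ρ.range.inv_mem ⟨zx, rfl⟩)⟩, ?_⟩
  show (ρ zy * (ρ zx)⁻¹) x = y
  rw [← hzx, Equiv.Perm.mul_apply]
  have : (ρ zx)⁻¹ ((ρ zx) o) = o := by simp
  rw [this, hzy]

/-- the order of the stabilizer of a point, by the formula for the length of the orbit -/
theorem card_stabilizer_mul (Γ : Subgroup (Equiv.Perm (Fin n)))
    [MulAction.IsPretransitive Γ (Fin n)] (o : Fin n) :
    Nat.card (MulAction.stabilizer Γ o) * n = Nat.card Γ := by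
  have h1 := Subgroup.card_mul_index (MulAction.stabilizer Γ o)
  rw [MulAction.index_stabilizer_of_transitive, Nat.card_fin] at h1
  exact h1

/-- the image of an injective homomorphism, as a subgroup of the image of the action -/
theorem exists_subgroup {P : Type*} [Group P] (ρ : G →* Equiv.Perm (Fin n))
    (hinj : Function.Injective ρ) (ψ : P →* G) (hψ : Function.Injective ψ) :
    ∃ K : Subgroup ρ.range, Nonempty (P ≃* K) := by
  have h : Function.Injective (ρ.rangeRestrict.comp ψ) := by
    intro x y hxy
    apply hψ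
    apply hinj
    exact congrArg Subtype.val hxy
  exact ⟨(ρ.rangeRestrict.comp ψ).range, ⟨MonoidHom.ofInjective h⟩⟩

end Cfsg.Agent.Lib.Helper6.PermReal
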