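import Cfsg.Agent.Lib.Helper6.HeS44Sub
import Cfsg.Agent.Lib.Helper6.PS44Iso
import Cfsg.Agent.Lib.Helper6.PermReal
import Cfsg.Prelude.Def_Sporadic

/-! # The subgroup of index 2058 of the presented Held group has a subgroup of index two that is
isomorphic to the symplectic group of dimension four over the field with four elements -/

set_option autoImplicit false

noncomputable section

namespace Cfsg.Agent.Lib.Helper6.HeS44Main

open Cfsg.Spor Cfsg.Agent.Lib.Helper6.HeS44Sub Cfsg.Agent.Lib.Helper6.PGrp
  Cfsg.Agent.Lib.Helper6.M21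

/-- the index of a subgroup in a larger one, by the orders -/
theorem index_subgroupOf {G : Type*} [Group G] (A B : Subgroup G) (h : A ≤ B) {a b k : ℕ}
    (ha : Nat.card A = a) (hb : Nat.card B = b) (hk : a * k = b) (ha0 : 0 < a) :
    (A.subgroupOf B).index = k := by
  have h1 := Subgroup.card_mul_index (A.subgroupOf B)
  rw [Nat.card_congr (Subgroup.subgroupOfEquivOfLe h).toEquiv, ha, hb, ← hk] at h1
  exact Nat.eq_of_mul_eq_mul_left ha0 h1

/-- the subgroup of index 2058 -/
abbrev Hs : Subgroup He := HeTC.data.cert.H

theorem card_Hs : Nat.card Hs = 1958400 := by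
  have h1 := Subgroup.card_mul_index Hs
  have h2 : Hs.index = 2058 := HeTC.main.1
  rw [h2, HeSimple.main.2] at h1
  exact Nat.eq_of_mul_eq_mul_right (by norm_num : 0 < 2058) (h1.trans (by norm_num))

theorem card_range : Nat.card φ.range = 979200 := by
  rw [← PS44Simple.main.2]
  exact (Nat.card_congr (MonoidHom.ofInjective φ_inj).toEquiv).symm

/-- the image of the presented symplectic group is isomorphic to the symplectic group -/
theorem range_equiv : Nonempty (φ.range ≃* PS44Iso.Sp) := by
  obtain ⟨e⟩ := PS44Iso.nonempty_equiv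
  exact ⟨(MonoidHom.ofInjective φ_inj).symm.trans e⟩

/-- the subgroup of index two -/
def N : Subgroup Hs := φ.range.subgroupOf Hs

theorem N_index : N.index = 2 :=
  index_subgroupOf φ.range Hs range_le card_range card_Hs (by norm_num) (by norm_num)

theorem N_normal : N.Normal := Subgroup.normal_of_index_eq_two N_index

theorem N_equiv : Nonempty (N ≃* PS44Iso.Sp) := by
  obtain ⟨e⟩ := range_equiv
  exact ⟨(Subgroup.subgroupOfEquivOfLe range_le).trans e⟩

/-! ### the group of permutations of the 2058 cosets -/

/-- the action on the cosets -/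
abbrev ρ : He →* Equiv.Perm (Fin 2058) := HeTC.data.cert.ρ

theorem ρ_inj : Function.Injective ρ := HeS44Sub.hinj

/-- the image of the symplectic subgroup in the group of permutations -/
def K : Subgroup ρ.range := φ.range.map (MonoidHom.ofInjective ρ_inj).toMonoidHom

theorem card_K : Nat.card K = 979200 := by
  rw [← card_range]
  exact (Nat.card_congr (Subgroup.equivMapOfInjective φ.range _
    (MonoidHom.ofInjective ρ_inj).injective).toEquiv).symm

theorem K_equiv : Nonempty (K ≃* PS44Iso.Sp) := by
  obtain ⟨e⟩ := range_equiv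
  exact ⟨(Subgroup.equivMapOfInjective φ.range _
    (MonoidHom.ofInjective ρ_inj).injective).symm.trans e⟩

theorem pretrans : MulAction.IsPretransitive ρ.range (Fin 2058) :=
  PermReal.pretransitive_range ρ HeTC.data.cert.o HeTC.data.cert.trans

theorem card_range_ρ : Nat.card ρ.range = 4030387200 := by
  rw [← HeSimple.main.2]
  exact (Nat.card_congr (MonoidHom.ofInjective ρ_inj).toEquiv).symm

theorem card_stab : Nat.card (MulAction.stabilizer ρ.range (0 : Fin 2058)) = 1958400 := by
  have := pretrans
  have h1 := PermReal.card_stabilizer_mul ρ.range (0 : Fin 2058)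
  rw [card_range_ρ] at h1
  exact Nat.eq_of_mul_eq_mul_right (by norm_num : 0 < 2058) (h1.trans (by norm_num))

theorem K_le : K ≤ MulAction.stabilizer ρ.range (0 : Fin 2058) := by
  rintro _ ⟨z, hz, rfl⟩
  rw [MulAction.mem_stabilizer_iff]
  exact HeTC.data.cert.fix z (range_le hz)

theorem K_index : (K.subgroupOf (MulAction.stabilizer ρ.range (0 : Fin 2058))).index = 2 :=
  index_subgroupOf K _ K_le card_K card_stab (by norm_num) (by norm_num)

theorem K_sub_equiv :
    Nonempty (K.subgroupOf (MulAction.stabilizer ρ.range (0 : Fin 2058)) ≃* PS44Iso.Sp) := by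
  obtain ⟨e⟩ := K_equiv
  exact ⟨(Subgroup.subgroupOfEquivOfLe K_le).trans e⟩

theorem isHe_range : Cfsg.IsHe ρ.range := by
  have : IsSimpleGroup He := HeSimple.main.1
  exact ⟨(MonoidHom.ofInjective ρ_inj).symm.isSimpleGroup, card_range_ρ⟩

end Cfsg.Agent.Lib.Helper6.HeS44Main

end
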