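import Cfsg.Agent.Lib.Helper6.HeSimple
import Cfsg.Agent.Lib.Helper6.SimpWPC
import Cfsg.Agent.Lib.Helper6.PS44Simple
import Cfsg.Agent.Lib.Helper6.T3Gen

/-! # The presented Held group contains the symplectic group of dimension four over the field with
four elements, inside the subgroup of index 2058: the image of the presented symplectic group, the
relators being checked by the word problem -/

set_option autoImplicit false
set_option maxRecDepth 100000

noncomputable section

namespace Cfsg.Agent.Lib.Helper6.HeS44Sub

open Cfsg.Spor Cfsg.Agent.Lib.Helper6.TC Cfsg.Agent.Lib.Helper6.Simp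
  Cfsg.Agent.Lib.Helper6.SimpWP Cfsg.Agent.Lib.Helper6.SimpWPC Cfsg.Agent.Lib.Helper6.PGrp

instance finiteHe : Finite He := HeSimple.ub.1

/-- the product of two generators is not trivial on the cosets -/
theorem ρ_a_ne_one : HeTC.data.cert.ρ (Simp.wordG HeTC.data [3, 0]) ≠ 1 := by
  intro h1
  have h2 := ρ_wordG_apply HeTC.data (w := [3, 0]) (by show ∀ x ∈ [3, 0], x < 7; decide) 2
    (by show 2 < 2058; norm_num)
  rw [h1] at h2
  have h3 : HeTC.tab.trace 2 [0, 3] ≠ 2 := by decide +kernel
  exact h3 h2.symm

/-- the action on the 2058 cosets is faithful -/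
theorem hinj : Function.Injective HeTC.data.cert.ρ := by
  have : IsSimpleGroup He := HeSimple.main.1
  exact T3Gen.injective_of_simple _ ρ_a_ne_one

/-- the base points -/
def base : List ℕ := [34, 15, 1, 0]

theorem base_eq : allFixed HeSimp.levels [] = base := by decide +kernel

/-- **the word problem** of the presented Held group -/
theorem wp (w : List ℕ) (h : SimpWPC.fixOK HeTC.tab base w = true) :
    Simp.wordG HeTC.data w = 1 := by
  refine wordG_eq_one_of_fixOK HeTC.data HeSimple.main.2 hinj HeSimp.levels
    HeSimp.chain_ok HeSimp.chain_prod (by norm_num) w ?_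
  rw [base_eq]
  exact h

/-- the generators as products of the generators of the subgroup of index 2058 -/
def wOfL : PS44.Gen → List (List ℕ)
  | .a => [[3], [0]]
  | .b => [[4], [2], [3],
      [1, 2, 3, 4, 1, 2, 3, 4, 1, 2, 3, 4, 1, 2, 3, 4, 1, 2, 3, 4, 1, 2, 3, 4, 1, 2, 3, 4],
      [5], [2], [4]]

/-- the words of the generators -/
def wOf (z : PS44.Gen) : List ℕ := (wOfL z).flatten

theorem wOfL_sub : ∀ z, ∀ w ∈ wOfL z, w ∈ HeTC.data.subW := by
  intro z
  show ∀ w ∈ wOfL z, w ∈ HeTC.subW
  cases z <;> decide

/-- the word of a letter -/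
abbrev subS : ℕ → List ℕ := SimpWPC.sub PS44CTC.gen PS44CTC.sgn wOf

theorem chk0 : SimpWPC.fixOK HeTC.tab base (((List.replicate 2 [0]).flatten).flatMap subS) = true := by
  decide +kernel

theorem chk1 : SimpWPC.fixOK HeTC.tab base (((List.replicate 5 [2]).flatten).flatMap subS) = true := by
  decide +kernel

theorem chk2 : SimpWPC.fixOK HeTC.tab base
    (((List.replicate 2 [0, 2, 0, 3]).flatten).flatMap subS) = true := by
  decide +kernel

theorem chk3 : SimpWPC.fixOK HeTC.tab base
    (((List.replicate 5 [0, 2, 2, 0, 3, 3]).flatten).flatMap subS) = true := by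
  decide +kernel

theorem chk4 : SimpWPC.fixOK HeTC.tab base
    (((List.replicate 4 [0, 3, 3, 0, 3, 3, 0, 3]).flatten).flatMap subS) = true := by
  decide +kernel

theorem chk5 : SimpWPC.fixOK HeTC.tab base
    (((List.replicate 17 [0, 2]).flatten).flatMap subS) = true := by
  decide +kernel

theorem hrels : ∀ r ∈ coxRelators PS44.edges ∪ {r | r ∈ PS44.extra},
    FreeGroup.lift (SimpWPC.img HeTC.data wOf) r = 1 := by
  have hf : ∀ z ∈ coxNodes PS44.edges,
      SimpWPC.img HeTC.data wOf z * SimpWPC.img HeTC.data wOf z = 1 := by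
    intro z hz
    simp [coxNodes, PS44.edges] at hz
  have h := (PS44CTC.extra_iff (SimpWPC.img HeTC.data wOf) hf).mpr (by
    intro p hp
    rw [SimpWPC.prod_letters HeTC.data PS44CTC.gen PS44CTC.sgn wOf]
    apply wp
    simp only [PS44CTC.extraPow, List.mem_cons, List.not_mem_nil, or_false] at hp
    rcases hp with rfl | rfl | rfl | rfl | rfl | rfl
    · exact chk0
    · exact chk1
    · exact chk2
    · exact chk3
    · exact chk4
    · exact chk5)
  rintro r (hr | hr)
  · obtain ⟨x, hx, -⟩ := hr
    simp [coxNodes, PS44.edges] at hx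
  · exact h r hr

/-- the homomorphism from the presented symplectic group -/
def φ : PS44 →* He := PresentedGroup.toGroup hrels

theorem φ_of (z : PS44.Gen) : φ (PresentedGroup.of z) = Simp.wordG HeTC.data (wOf z) :=
  PresentedGroup.toGroup.of _

theorem φ_inj : Function.Injective φ := by
  have : IsSimpleGroup PS44 := PS44Simple.main.1
  refine T3Gen.injective_of_simple φ (x := PresentedGroup.of PS44.Gen.a) ?_
  rw [φ_of]
  refine SimpWPC.wordG_ne_one HeTC.data (c := 2) ?_ ?_ ?_
  · show ∀ x ∈ wOf .a, x < 7
    decide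
  · show 2 < 2058
    norm_num
  · show HeTC.tab.trace 2 (wOf .a).reverse ≠ 2
    decide +kernel

/-- the image lies in the subgroup of index 2058 -/
theorem range_le : φ.range ≤ HeTC.data.cert.H := by
  rintro _ ⟨x, rfl⟩
  induction x using PresentedGroup.induction_on with
  | _ z =>
    induction z using FreeGroup.induction_on with
    | C1 => simp
    | of x =>
      show φ (PresentedGroup.of x) ∈ HeTC.data.cert.H
      rw [φ_of]
      exact wordG_flatten_mem_H HeTC.data (wOfL_sub x)
    | inv_of x hx =>
      rw [map_inv, map_inv]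
      exact Subgroup.inv_mem _ hx
    | mul x y hx hy =>
      rw [map_mul, map_mul]
      exact Subgroup.mul_mem _ hx hy

end Cfsg.Agent.Lib.Helper6.HeS44Sub

end
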