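import Cfsg.Agent.Lib.Helper6.HeTCChk1
import Cfsg.Agent.Lib.Helper6.HeTCChk2

/-! # The presented Held group: the subgroup generated by `a, c, d, e, f, (ab)², (bcde)⁷` has
index 2058, with orbits of lengths 1, 136, 136, 425, 1360 on its cosets -/

set_option autoImplicit false
set_option linter.constructorNameAsVariable false
set_option linter.unusedSimpArgs false

namespace Cfsg.Agent.Lib.Helper6.HeTC

open Cfsg.Agent.Lib.Helper6.TC Cfsg.Spor

theorem extra_iff {K : Type} [Group K] (f : He.Gen → K) (hf : ∀ a, f a * f a = 1) :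
    (∀ r ∈ He.extra, FreeGroup.lift f r = 1) ↔
      ∀ w ∈ extraWords, (w.map (fun x => f (gen x))).prod = 1 := by
  have hi : ∀ a, (f a)⁻¹ = f a := fun a => inv_eq_of_mul_eq_one_left (hf a)
  simp only [He.extra, extraWords, List.forall_mem_cons, List.not_mem_nil, false_imp_iff,
    implies_true, and_true, IsEmpty.forall_iff]
  simp only [He.a, He.b, He.c, He.d, He.e, He.f, He.g, map_mul, map_inv, map_pow,
    FreeGroup.lift_apply_of, List.map_cons, List.map_nil, List.prod_cons, List.prod_nil, gen,
    mul_inv_rev, inv_pow, hi, pow_succ, pow_zero, one_mul, mul_one, mul_assoc]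

/-- the generating set of the subgroup -/
abbrev S : Set (FreeGroup He.Gen) :=
  {He.a, He.c, He.d, He.e, He.f, (He.a * He.b) ^ 2, (He.b * He.c * He.d * He.e) ^ 7}

theorem hS (s : FreeGroup He.Gen) : s ∈ S ↔ ∃ w ∈ subW, s = fgWord gen w := by
  simp only [S, subW, fgWord, Set.mem_insert_iff, Set.mem_singleton_iff, List.mem_cons,
    List.not_mem_nil, or_false, exists_eq_or_imp, exists_eq_left, List.map_cons, List.map_nil,
    List.prod_cons, List.prod_nil, mul_one, gen, pow_succ, pow_zero, one_mul, mul_assoc]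

/-- the data of the enumeration -/
def data : CoxData He.edges He.extra S where
  gen := gen
  code := code
  c := cfg
  extraWords := extraWords
  nw := nw
  srcs := srcs
  T := tab
  subW := subW
  hnode := by intro a; cases a <;> decide
  hcode := by intro a; cases a <;> exact ⟨by decide, rfl⟩
  hgen := by
    intro x hx
    have hx' : x < 7 := hx
    interval_cases x <;> rfl
  hTg := rfl
  hTn := show 0 < 2058 by norm_num
  hw := show 1 < 2 ^ 14 by norm_num
  chk_words := chk_words
  hrun := RunCert.of_run (show 1 < 2 ^ 14 by norm_num) (show 0 < 2058 by norm_num) chk_run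
  chk_tab := chk_tab
  chk_rels := chk_rels
  chk_tree := chk_tree
  hextra := fun f hf => extra_iff f hf
  hS := hS
  chk_sub := chk_sub

theorem tab_n : tab.n = 2058 := rfl

/-- the orbit of length 1360 -/
def orb1 : data.Orb where
  a := orbRoot1
  ha := by show orbRoot1 < tab.n; rw [tab_n]; decide
  instrs := orbInstr1
  B := orbB1
  chk_orb := chk_orb1
  chk_closed := chk_closed1

/-- the orbit of length 425 -/
def orb2 : data.Orb where
  a := orbRoot2
  ha := by show orbRoot2 < tab.n; rw [tab_n]; decide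
  instrs := orbInstr2
  B := orbB2
  chk_orb := chk_orb2
  chk_closed := chk_closed2

/-- an orbit of length 136 -/
def orb3 : data.Orb where
  a := orbRoot3
  ha := by show orbRoot3 < tab.n; rw [tab_n]; decide
  instrs := orbInstr3
  B := orbB3
  chk_orb := chk_orb3
  chk_closed := chk_closed3

/-- the other orbit of length 136 -/
def orb4 : data.Orb where
  a := orbRoot4
  ha := by show orbRoot4 < tab.n; rw [tab_n]; decide
  instrs := orbInstr4
  B := orbB4
  chk_orb := chk_orb4
  chk_closed := chk_closed4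

theorem chk_ne : btest orbB3 orbRoot4 = false := by decide +kernel

theorem main : ((Subgroup.closure S).map (PresentedGroup.mk
      (coxRelators He.edges ∪ {r | r ∈ He.extra}))).index = 2058 ∧
    ∃ q₁ q₂ q₃ q₄ : He ⧸ ((Subgroup.closure S).map (PresentedGroup.mk
        (coxRelators He.edges ∪ {r | r ∈ He.extra}))),
      MulAction.orbit ((Subgroup.closure S).map (PresentedGroup.mk
        (coxRelators He.edges ∪ {r | r ∈ He.extra}))) q₁ ≠
      MulAction.orbit ((Subgroup.closure S).map (PresentedGroup.mk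
        (coxRelators He.edges ∪ {r | r ∈ He.extra}))) q₂ ∧
      (MulAction.orbit ((Subgroup.closure S).map (PresentedGroup.mk
        (coxRelators He.edges ∪ {r | r ∈ He.extra}))) q₁).ncard = 136 ∧
      (MulAction.orbit ((Subgroup.closure S).map (PresentedGroup.mk
        (coxRelators He.edges ∪ {r | r ∈ He.extra}))) q₂).ncard = 136 ∧
      (MulAction.orbit ((Subgroup.closure S).map (PresentedGroup.mk
        (coxRelators He.edges ∪ {r | r ∈ He.extra}))) q₃).ncard = 425 ∧
      (MulAction.orbit ((Subgroup.closure S).map (PresentedGroup.mk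
        (coxRelators He.edges ∪ {r | r ∈ He.extra}))) q₄).ncard = 1360 := by
  refine ⟨data.index_eq, ?_⟩
  obtain ⟨Φ, hinj, hΦ⟩ := data.exists_orbit_map
  obtain ⟨q₁, h₁⟩ := hΦ orb3
  obtain ⟨q₂, h₂⟩ := hΦ orb4
  obtain ⟨q₃, h₃⟩ := hΦ orb2
  obtain ⟨q₄, h₄⟩ := hΦ orb1
  refine ⟨q₁, q₂, q₃, q₄, ?_, (ncard_of_img hinj h₁).trans chk_cnt3,
    (ncard_of_img hinj h₂).trans chk_cnt4, (ncard_of_img hinj h₃).trans chk_cnt2,
    (ncard_of_img hinj h₄).trans chk_cnt1⟩
  refine orbit_ne_of_img h₁ h₂ orb4.ha ?_ orb4.root_mem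
  rw [← btest_eq]
  exact chk_ne

end Cfsg.Agent.Lib.Helper6.HeTC
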