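import Cfsg.Agent.Lib.Helper6.HeSimp
import Cfsg.Agent.Lib.Helper6.HeTC
import Cfsg.Agent.Lib.Helper6.HeBTC
import Cfsg.Agent.Lib.Helper6.HeQ5TC
import Cfsg.Agent.Lib.Helper6.HeQ4TC

/-! # The presented Held group is simple of order 4030387200 -/

set_option autoImplicit false

namespace Cfsg.Agent.Lib.Helper6.HeSimple

open Cfsg.Spor Cfsg.Agent.Lib.Helper6.Simp Cfsg.Agent.Lib.Helper6.HeSub Cfsg.Agent.Lib.Helper6.TC
  Cfsg.Agent.Lib.Helper6.NatArr 

/-- the upper bound for the order, along the chain of sub-presentations -/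
theorem ub : Finite He ∧ Nat.card He ≤ 4030387200 := by
  have h2 := finite_card_of_index_empty HeQ4TC.main (by norm_num)
  have h1 := subQ4.finite_card_le HeQ5TC.S rangeQ4.symm HeQ5TC.main (by norm_num) h2.1
    (le_of_eq h2.2)
  have h0 := subQ5.finite_card_le HeBTC.S rangeQ5.symm HeBTC.main (by norm_num) h1.1
    h1.2
  exact ⟨h0.1, h0.2.trans (by norm_num)⟩

theorem chk_cover : allBelow 2058 (fun b => Nat.beq b 0 ||
    (btest HeTC.orbB1 b || (btest HeTC.orbB2 b || (btest HeTC.orbB3 b || btest HeTC.orbB4 b)))) = true := by decide +kernel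

theorem chk_disj0_1 : Nat.land HeTC.orbB1 HeTC.orbB2 = 0 := by decide +kernel

theorem chk_disj0_2 : Nat.land HeTC.orbB1 HeTC.orbB3 = 0 := by decide +kernel

theorem chk_disj0_3 : Nat.land HeTC.orbB1 HeTC.orbB4 = 0 := by decide +kernel

theorem chk_disj1_0 : Nat.land HeTC.orbB2 HeTC.orbB1 = 0 := by decide +kernel

theorem chk_disj1_2 : Nat.land HeTC.orbB2 HeTC.orbB3 = 0 := by decide +kernel

theorem chk_disj1_3 : Nat.land HeTC.orbB2 HeTC.orbB4 = 0 := by decide +kernel

theorem chk_disj2_0 : Nat.land HeTC.orbB3 HeTC.orbB1 = 0 := by decide +kernel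

theorem chk_disj2_1 : Nat.land HeTC.orbB3 HeTC.orbB2 = 0 := by decide +kernel

theorem chk_disj2_3 : Nat.land HeTC.orbB3 HeTC.orbB4 = 0 := by decide +kernel

theorem chk_disj3_0 : Nat.land HeTC.orbB4 HeTC.orbB1 = 0 := by decide +kernel

theorem chk_disj3_1 : Nat.land HeTC.orbB4 HeTC.orbB2 = 0 := by decide +kernel

theorem chk_disj3_2 : Nat.land HeTC.orbB4 HeTC.orbB3 = 0 := by decide +kernel

theorem chk_o0 : HeTC.orbB1.testBit 0 = false := by decide +kernel

theorem chk_o1 : HeTC.orbB2.testBit 0 = false := by decide +kernel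

theorem chk_o2 : HeTC.orbB3.testBit 0 = false := by decide +kernel

theorem chk_o3 : HeTC.orbB4.testBit 0 = false := by decide +kernel

/-- **The presented Held group is simple of order 4030387200** -/
theorem main : IsSimpleGroup He ∧ Nat.card He = 4030387200 := by
  refine simple_card HeTC.data ub HeSimp.levels HeSimp.chain_ok HeSimp.chain_prod
    (r := 4) ![HeTC.orb1, HeTC.orb2, HeTC.orb3, HeTC.orb4] ![1360, 425, 136, 136] ?_ ?_ ?_ ?_ ?_ 7 ?_ HeSimp.us
    HeSimp.chk_pow ?_
  · intro i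
    fin_cases i
    · exact HeTC.chk_cnt1
    · exact HeTC.chk_cnt2
    · exact HeTC.chk_cnt3
    · exact HeTC.chk_cnt4
  · intro b hb
    have h := allBelow_spec _ _ chk_cover b hb
    simp only [Bool.or_eq_true, btest_eq] at h
    rcases h with h | h | h | h | h
    · exact Or.inl (Nat.eq_of_beq_eq_true h)
    · exact Or.inr ⟨0, h⟩
    · exact Or.inr ⟨1, h⟩
    · exact Or.inr ⟨2, h⟩
    · exact Or.inr ⟨3, h⟩
  · intro i j hij
    fin_cases i <;> fin_cases j
    · exact absurd rfl hij
    · exact chk_disj0_1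
    · exact chk_disj0_2
    · exact chk_disj0_3
    · exact chk_disj1_0
    · exact absurd rfl hij
    · exact chk_disj1_2
    · exact chk_disj1_3
    · exact chk_disj2_0
    · exact chk_disj2_1
    · exact absurd rfl hij
    · exact chk_disj2_3
    · exact chk_disj3_0
    · exact chk_disj3_1
    · exact chk_disj3_2
    · exact absurd rfl hij
  · intro i
    fin_cases i
    · exact chk_o0
    · exact chk_o1
    · exact chk_o2
    · exact chk_o3
  · show ∀ I : Finset (Fin 4), I.Nonempty → (1 + ∑ i ∈ I, ![1360, 425, 136, 136] i) ∣ 2058 →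
      1 + ∑ i ∈ I, ![1360, 425, 136, 136] i = 2058
    decide
  · show (4030387200 / 2058).Coprime 7
    norm_num
  · show 1 < 2058
    norm_num

end Cfsg.Agent.Lib.Helper6.HeSimple
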