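import Cfsg.Agent.Lib.Helper6.J1Data
import Cfsg.Prelude.Def_Spor_J1
import Cfsg.Prelude.Def_Sporadic

/-! # The Janko group J₁ in GL₇(11): order and simplicity -/

set_option autoImplicit false
set_option maxRecDepth 1000000

namespace Cfsg.Agent.Lib.Helper6.J1

open Cfsg.Agent.Lib.Helper6.MatN Cfsg.Spor

/-! ### the finite checks -/

set_option maxHeartbeats 0 in
theorem chk_chain : chainOK [cX, cY] chain = true := by decide +kernel

theorem chk_prod : (chain.map fun L => L.U.length).prod = 175560 := by decide +kernel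

theorem toM_cX : toM cX = Cfsg.jankoMatrixX := by decide +kernel
theorem toM_cY : toM cY = Cfsg.jankoMatrixY := by decide +kernel
theorem toM_cXi : toM cXi = Cfsg.jankoMatrixX.transpose := by decide +kernel
theorem toM_cYi : toM cYi = Cfsg.jankoMatrixY.transpose := by decide +kernel

/-! ### the upper bound for the order -/

/-- the group -/
abbrev G : Subgroup (GL (Fin 7) (ZMod 11)) := Cfsg.Spor.J1

theorem val_jankoX : (jankoX : Matrix (Fin 7) (Fin 7) (ZMod 11)) = toM cX := toM_cX.symm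
theorem val_jankoY : (jankoY : Matrix (Fin 7) (Fin 7) (ZMod 11)) = toM cY := toM_cY.symm

theorem val_mem_Nmon {g : GL (Fin 7) (ZMod 11)} (hg : g ∈ G) :
    (g : Matrix (Fin 7) (Fin 7) (ZMod 11)) ∈ Nmon [cX, cY] := by
  have hg' : g ∈ (Subgroup.closure ({jankoX, jankoY} : Set (GL (Fin 7) (ZMod 11)))).toSubmonoid :=
    hg
  rw [Subgroup.closure_toSubmonoid_of_finite] at hg'
  clear hg
  induction hg' using Submonoid.closure_induction with
  | mem x hx =>
    rcases hx with rfl | rfl
    · rw [val_jankoX]; exact toM_mem_Nmon (by simp)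
    · rw [val_jankoY]; exact toM_mem_Nmon (by simp)
  | one => exact Submonoid.one_mem _
  | mul x y _ _ hx hy => rw [Units.val_mul]; exact Submonoid.mul_mem _ hx hy

theorem card_le : Nat.card G ≤ 175560 := by
  have hinj : Function.Injective
      (fun g : G => (⟨(g.1 : Matrix (Fin 7) (Fin 7) (ZMod 11)),
        chain_sound chain [cX, cY] chk_chain _ (val_mem_Nmon g.2)⟩ : ↥(Tfin chain))) := by
    intro a b h
    have := congrArg Subtype.val h
    exact Subtype.ext (Units.ext this)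
  have h1 := Nat.card_le_card_of_injective _ hinj
  rw [Nat.card_eq_finsetCard] at h1
  exact h1.trans ((Tfin_card_le chain).trans_eq chk_prod)

/-! ### words as group elements -/

/-- the letters -/
def gen : ℕ → GL (Fin 7) (ZMod 11)
  | 0 => jankoX
  | 1 => jankoY
  | 2 => jankoX⁻¹
  | 3 => jankoY⁻¹
  | _ => 1

/-- the codes of the letters -/
def codes4 : List ℕ := [cX, cY, cXi, cYi]

theorem jankoX_mem : jankoX ∈ G := Subgroup.subset_closure (by simp)
theorem jankoY_mem : jankoY ∈ G := Subgroup.subset_closure (by simp)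

theorem hgen : ∀ i, ((gen i : GL (Fin 7) (ZMod 11)) : Matrix (Fin 7) (Fin 7) (ZMod 11)) =
    toM (codes4.getD i lone) := by
  intro i
  match i with
  | 0 => exact val_jankoX
  | 1 => exact val_jankoY
  | 2 => exact toM_cXi.symm
  | 3 => exact toM_cYi.symm
  | n + 4 =>
    show ((1 : GL (Fin 7) (ZMod 11)) : Matrix (Fin 7) (Fin 7) (ZMod 11)) = _
    have : codes4.getD (n + 4) lone = lone := by
      apply List.getD_eq_default
      simp [codes4]
    rw [this, toM_lone]; rfl

theorem hinv : ∀ i, gen (invL i) = (gen i)⁻¹ := by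
  intro i
  match i with
  | 0 => rfl
  | 1 => rfl
  | 2 => exact (inv_inv _).symm
  | 3 => exact (inv_inv _).symm
  | n + 4 => exact inv_one.symm

theorem hH : ∀ i, gen i ∈ G := by
  intro i
  match i with
  | 0 => exact jankoX_mem
  | 1 => exact jankoY_mem
  | 2 => exact G.inv_mem jankoX_mem
  | 3 => exact G.inv_mem jankoY_mem
  | n + 4 => exact G.one_mem

/-! ### the Sylow subgroups -/

set_option maxHeartbeats 0 in
theorem chk_syl2 : sylOK codes4 cX cY sylD2 = true := by decide +kernel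
set_option maxHeartbeats 0 in
theorem chk_syl3 : sylOK codes4 cX cY sylD3 = true := by decide +kernel
set_option maxHeartbeats 0 in
theorem chk_syl5 : sylOK codes4 cX cY sylD5 = true := by decide +kernel
set_option maxHeartbeats 0 in
theorem chk_syl7 : sylOK codes4 cX cY sylD7 = true := by decide +kernel
set_option maxHeartbeats 0 in
theorem chk_syl11 : sylOK codes4 cX cY sylD11 = true := by decide +kernel
set_option maxHeartbeats 0 in
theorem chk_syl19 : sylOK codes4 cX cY sylD19 = true := by decide +kernel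

theorem chk_len : sylD2.length = 8 ∧ sylD3.length = 3 ∧ sylD5.length = 5 ∧ sylD7.length = 7 ∧
    sylD11.length = 11 ∧ sylD19.length = 19 := by decide +kernel

open Cfsg.Agent.Lib.Helper6.SylowSimple

/-- what the Sylow data give -/
theorem syl_spec {D : SylData} (hD : sylOK codes4 cX cY D = true) :
    ∃ F : Finset (GL (Fin 7) (ZMod 11)), 1 ∈ F ∧ (∀ a ∈ F, ∀ b ∈ F, a * b ∈ F) ∧
      (∀ a ∈ F, a ∈ G) ∧ F.card = D.length ∧
      ∀ (a : GL (Fin 7) (ZMod 11)) (ha : a ∈ G), a ∈ F → a ≠ 1 →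
        Subgroup.normalClosure ({⟨a, ha⟩} : Set ↥G) = ⊤ := by
  obtain ⟨F, h1, h2, h3, h4, h5⟩ := sylOK_sound hgen hinv G hH val_jankoX val_jankoY hD
  refine ⟨F, h1, h2, h3, h4, fun a ha haF hne => ?_⟩
  obtain ⟨i1, i2⟩ := h5 a ha haF hne
  exact normalClosure_eq_top_of_gens rfl i1 i2

theorem card_G : Nat.card G = 175560 := by
  obtain ⟨F2, a1, a2, a3, a4, -⟩ := syl_spec chk_syl2
  obtain ⟨F3, b1, b2, b3, b4, -⟩ := syl_spec chk_syl3
  obtain ⟨F5, c1, c2, c3, c4, -⟩ := syl_spec chk_syl5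
  obtain ⟨F7, d1, d2, d3, d4, -⟩ := syl_spec chk_syl7
  obtain ⟨F11, e1, e2, e3, e4, -⟩ := syl_spec chk_syl11
  obtain ⟨F19, f1, f2, f3, f4, -⟩ := syl_spec chk_syl19
  obtain ⟨l2, l3, l5, l7, l11, l19⟩ := chk_len
  have h2 := card_dvd_of_finset G F2 a1 a2 a3
  have h3 := card_dvd_of_finset G F3 b1 b2 b3
  have h5 := card_dvd_of_finset G F5 c1 c2 c3
  have h7 := card_dvd_of_finset G F7 d1 d2 d3
  have h11 := card_dvd_of_finset G F11 e1 e2 e3
  have h19 := card_dvd_of_finset G F19 f1 f2 f3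
  rw [a4, l2] at h2
  rw [b4, l3] at h3
  rw [c4, l5] at h5
  rw [d4, l7] at h7
  rw [e4, l11] at h11
  rw [f4, l19] at h19
  have hdvd : 175560 ∣ Nat.card G := by
    have s1 : 8 * 3 ∣ Nat.card G := Nat.Coprime.mul_dvd_of_dvd_of_dvd (by norm_num) h2 h3
    have s2 : 8 * 3 * 5 ∣ Nat.card G := Nat.Coprime.mul_dvd_of_dvd_of_dvd (by norm_num) s1 h5
    have s3 : 8 * 3 * 5 * 7 ∣ Nat.card G := Nat.Coprime.mul_dvd_of_dvd_of_dvd (by norm_num) s2 h7
    have s4 : 8 * 3 * 5 * 7 * 11 ∣ Nat.card G :=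
      Nat.Coprime.mul_dvd_of_dvd_of_dvd (by norm_num) s3 h11
    have s5 : 8 * 3 * 5 * 7 * 11 * 19 ∣ Nat.card G :=
      Nat.Coprime.mul_dvd_of_dvd_of_dvd (by norm_num) s4 h19
    exact s5
  have hpos : 0 < Nat.card G := Nat.card_pos
  exact le_antisymm card_le (Nat.le_of_dvd hpos hdvd)

instance : Nontrivial ↥G := by
  rw [← Finite.one_lt_card_iff_nontrivial, card_G]
  norm_num

/-- the Sylow step, for one prime -/
theorem syl_step (p k : ℕ) [Fact p.Prime] {D : SylData} (hD : sylOK codes4 cX cY D = true)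
    (hlen : D.length = p ^ k) (hidx : ¬ p ∣ 175560 / p ^ k) :
    ∃ P : Sylow p ↥G, ∀ e ∈ (P : Subgroup ↥G), e ≠ 1 →
      Subgroup.normalClosure ({e} : Set ↥G) = ⊤ := by
  obtain ⟨F, h1, h2, h3, h4, h5⟩ := syl_spec hD
  obtain ⟨P, hP⟩ := exists_sylow_of_finset G p k F h1 h2 h3 (h4.trans hlen)
    (by rw [card_G]; exact hidx)
  refine ⟨P, fun e he hne => ?_⟩
  have := h5 e.1 e.2 ((hP e).1 he) (fun h => hne (Subtype.ext h))
  exact this

/-- **J₁ is simple** -/
theorem G_simple : IsSimpleGroup ↥G := by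
  apply isSimpleGroup_of_sylows
  intro p hp hpd
  rw [card_G] at hpd
  have hp' : p ∣ 2 ^ 3 * 3 * 5 * 7 * 11 * 19 := by norm_num; exact hpd
  obtain ⟨l2, l3, l5, l7, l11, l19⟩ := chk_len
  have hcases : p = 2 ∨ p = 3 ∨ p = 5 ∨ p = 7 ∨ p = 11 ∨ p = 19 := by
    rcases (Nat.Prime.dvd_mul hp).1 hp' with h | h
    · rcases (Nat.Prime.dvd_mul hp).1 h with h | h
      · rcases (Nat.Prime.dvd_mul hp).1 h with h | h
        · rcases (Nat.Prime.dvd_mul hp).1 h with h | h
          · rcases (Nat.Prime.dvd_mul hp).1 h with h | h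
            · left
              exact (Nat.prime_dvd_prime_iff_eq hp Nat.prime_two).1 (hp.dvd_of_dvd_pow h)
            · right; left
              exact (Nat.prime_dvd_prime_iff_eq hp Nat.prime_three).1 h
          · right; right; left
            exact (Nat.prime_dvd_prime_iff_eq hp Nat.prime_five).1 h
        · right; right; right; left
          exact (Nat.prime_dvd_prime_iff_eq hp (by norm_num)).1 h
      · right; right; right; right; left
        exact (Nat.prime_dvd_prime_iff_eq hp (by norm_num)).1 h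
    · right; right; right; right; right
      exact (Nat.prime_dvd_prime_iff_eq hp (by norm_num)).1 h
  rcases hcases with rfl | rfl | rfl | rfl | rfl | rfl
  · have : Fact (Nat.Prime 2) := ⟨hp⟩
    exact ⟨inferInstance, syl_step 2 3 chk_syl2 (by rw [l2]; norm_num) (by norm_num)⟩
  · have : Fact (Nat.Prime 3) := ⟨hp⟩
    exact ⟨inferInstance, syl_step 3 1 chk_syl3 (by rw [l3]; norm_num) (by norm_num)⟩
  · have : Fact (Nat.Prime 5) := ⟨hp⟩
    exact ⟨inferInstance, syl_step 5 1 chk_syl5 (by rw [l5]; norm_num) (by norm_num)⟩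
  · have : Fact (Nat.Prime 7) := ⟨hp⟩
    exact ⟨inferInstance, syl_step 7 1 chk_syl7 (by rw [l7]; norm_num) (by norm_num)⟩
  · have : Fact (Nat.Prime 11) := ⟨hp⟩
    exact ⟨inferInstance, syl_step 11 1 chk_syl11 (by rw [l11]; norm_num) (by norm_num)⟩
  · have : Fact (Nat.Prime 19) := ⟨hp⟩
    exact ⟨inferInstance, syl_step 19 1 chk_syl19 (by rw [l19]; norm_num) (by norm_num)⟩

/-- **J₁, as the explicit matrix group, is simple of order 175560** -/
theorem isJ1 : Cfsg.IsJ1 ↥Cfsg.Spor.J1 := ⟨G_simple, card_G⟩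

end Cfsg.Agent.Lib.Helper6.J1
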