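import Cfsg.Agent.Lib.Helper6.J1CentData
import Cfsg.Agent.Lib.Helper6.J1Group
import Cfsg.Agent.Lib.Helper6.CentAux
import Cfsg.Agent.S0494

/-! # The centralizer of an involution of J₁ is `2 × A₅` -/

set_option autoImplicit false
set_option maxRecDepth 1000000

namespace Cfsg.Agent.Lib.Helper6.J1

open Cfsg.Agent.Lib.Helper6.MatN Cfsg.Agent.Lib.Helper6.SylowSimple
open Cfsg.Agent.Lib.Helper6.CentAux Cfsg.Spor

/-! ### the finite checks -/

set_option maxHeartbeats 0 in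
theorem chk_cw : cT = evalW codes4 wT ∧ cR = evalW codes4 wR ∧ cS = evalW codes4 wS ∧
    cRi = evalW codes4 (invW wR) ∧ cSi = evalW codes4 (invW wS) := by decide +kernel

theorem chk_t : lmul cT cT = lone ∧ cT ≠ lone := by decide +kernel

theorem chk_comm : lmul cR cT = lmul cT cR ∧ lmul cS cT = lmul cT cS := by decide +kernel

set_option maxHeartbeats 0 in
theorem chk_chainA : chainOK [cR, cS] chainA = true := by decide +kernel

theorem chk_prodA : (chainA.map fun L => L.U.length).prod = 60 := by decide +kernel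

/-- the codes of the letters of `A₅` -/
def codesA : List ℕ := [cR, cS, cRi, cSi]

set_option maxHeartbeats 0 in
theorem chk_sylA2 : sylOK codesA cR cS sylA2 = true := by decide +kernel
set_option maxHeartbeats 0 in
theorem chk_sylA3 : sylOK codesA cR cS sylA3 = true := by decide +kernel
set_option maxHeartbeats 0 in
theorem chk_sylA5 : sylOK codesA cR cS sylA5 = true := by decide +kernel

theorem chk_lenA : sylA2.length = 4 ∧ sylA3.length = 3 ∧ sylA5.length = 5 := by decide +kernel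

set_option maxHeartbeats 0 in
theorem chk_class : classOK codes4 clCh 40 cT = true := by decide +kernel

theorem chk_class_len : (clCh.flatten.map fun e => e.1).length = 1463 := by decide +kernel

/-! ### the elements -/

/-- the involution and the generators of `A₅`, in GL₇(11) -/
def tΓ : GL (Fin 7) (ZMod 11) := evalGL gen wT
def rΓ : GL (Fin 7) (ZMod 11) := evalGL gen wR
def sΓ : GL (Fin 7) (ZMod 11) := evalGL gen wS

theorem val_tΓ : (tΓ : Matrix (Fin 7) (Fin 7) (ZMod 11)) = toM cT := by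
  rw [tΓ, val_evalGL hgen, ← chk_cw.1]
theorem val_rΓ : (rΓ : Matrix (Fin 7) (Fin 7) (ZMod 11)) = toM cR := by
  rw [rΓ, val_evalGL hgen, ← chk_cw.2.1]
theorem val_sΓ : (sΓ : Matrix (Fin 7) (Fin 7) (ZMod 11)) = toM cS := by
  rw [sΓ, val_evalGL hgen, ← chk_cw.2.2.1]
theorem val_rΓ_inv : ((rΓ⁻¹ : GL (Fin 7) (ZMod 11)) : Matrix (Fin 7) (Fin 7) (ZMod 11)) =
    toM cRi := by
  rw [rΓ, ← evalGL_invW hinv, val_evalGL hgen, ← chk_cw.2.2.2.1]
theorem val_sΓ_inv : ((sΓ⁻¹ : GL (Fin 7) (ZMod 11)) : Matrix (Fin 7) (Fin 7) (ZMod 11)) =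
    toM cSi := by
  rw [sΓ, ← evalGL_invW hinv, val_evalGL hgen, ← chk_cw.2.2.2.2]

theorem tΓ_mem : tΓ ∈ G := evalGL_mem G hH _
theorem rΓ_mem : rΓ ∈ G := evalGL_mem G hH _
theorem sΓ_mem : sΓ ∈ G := evalGL_mem G hH _

attribute [irreducible] tΓ rΓ sΓ

/-- the copy of `A₅` -/
def A : Subgroup (GL (Fin 7) (ZMod 11)) := Subgroup.closure {rΓ, sΓ}

theorem A_le : A ≤ G := by
  unfold A
  rw [Subgroup.closure_le]
  rintro x (rfl | rfl)
  · exact rΓ_mem
  · exact sΓ_mem

/-- the letters of `A₅` -/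
def genA : ℕ → GL (Fin 7) (ZMod 11)
  | 0 => rΓ
  | 1 => sΓ
  | 2 => rΓ⁻¹
  | 3 => sΓ⁻¹
  | _ => 1

theorem rΓ_memA : rΓ ∈ A := Subgroup.subset_closure (by simp)
theorem sΓ_memA : sΓ ∈ A := Subgroup.subset_closure (by simp)

theorem hgenA : ∀ i, ((genA i : GL (Fin 7) (ZMod 11)) : Matrix (Fin 7) (Fin 7) (ZMod 11)) =
    toM (codesA.getD i lone) := by
  intro i
  match i with
  | 0 => exact val_rΓ
  | 1 => exact val_sΓ
  | 2 => exact val_rΓ_inv
  | 3 => exact val_sΓ_inv
  | n + 4 =>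
    show ((1 : GL (Fin 7) (ZMod 11)) : Matrix (Fin 7) (Fin 7) (ZMod 11)) = _
    have : codesA.getD (n + 4) lone = lone := by
      apply List.getD_eq_default
      simp [codesA]
    rw [this, toM_lone]; rfl

theorem hinvA : ∀ i, genA (invL i) = (genA i)⁻¹ := by
  intro i
  match i with
  | 0 => rfl
  | 1 => rfl
  | 2 => exact (inv_inv _).symm
  | 3 => exact (inv_inv _).symm
  | n + 4 => exact inv_one.symm

theorem hHA : ∀ i, genA i ∈ A := by
  intro i
  match i with
  | 0 => exact rΓ_memA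
  | 1 => exact sΓ_memA
  | 2 => exact A.inv_mem rΓ_memA
  | 3 => exact A.inv_mem sΓ_memA
  | n + 4 => exact A.one_mem

/-! ### the order of `A₅` -/

theorem val_mem_NmonA {g : GL (Fin 7) (ZMod 11)} (hg : g ∈ A) :
    (g : Matrix (Fin 7) (Fin 7) (ZMod 11)) ∈ Nmon [cR, cS] := by
  have hg' : g ∈ (Subgroup.closure ({rΓ, sΓ} : Set (GL (Fin 7) (ZMod 11)))).toSubmonoid := hg
  rw [Subgroup.closure_toSubmonoid_of_finite] at hg'
  clear hg
  induction hg' using Submonoid.closure_induction with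
  | mem x hx =>
    rcases hx with rfl | rfl
    · rw [val_rΓ]; exact toM_mem_Nmon (by simp)
    · rw [val_sΓ]; exact toM_mem_Nmon (by simp)
  | one => exact Submonoid.one_mem _
  | mul x y _ _ hx hy => rw [Units.val_mul]; exact Submonoid.mul_mem _ hx hy

theorem cardA_le : Nat.card A ≤ 60 := by
  have hinj : Function.Injective
      (fun g : A => (⟨(g.1 : Matrix (Fin 7) (Fin 7) (ZMod 11)),
        chain_sound chainA [cR, cS] chk_chainA _ (val_mem_NmonA g.2)⟩ : ↥(Tfin chainA))) := by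
    intro a b h
    have := congrArg Subtype.val h
    exact Subtype.ext (Units.ext this)
  have h1 := Nat.card_le_card_of_injective _ hinj
  rw [Nat.card_eq_finsetCard] at h1
  exact h1.trans ((Tfin_card_le chainA).trans_eq chk_prodA)

/-- what the Sylow data of `A₅` give -/
theorem sylA_spec {D : SylData} (hD : sylOK codesA cR cS D = true) :
    ∃ F : Finset (GL (Fin 7) (ZMod 11)), 1 ∈ F ∧ (∀ a ∈ F, ∀ b ∈ F, a * b ∈ F) ∧
      (∀ a ∈ F, a ∈ A) ∧ F.card = D.length ∧
      ∀ (a : GL (Fin 7) (ZMod 11)) (ha : a ∈ A), a ∈ F → a ≠ 1 →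
        Subgroup.normalClosure ({⟨a, ha⟩} : Set ↥A) = ⊤ := by
  obtain ⟨F, h1, h2, h3, h4, h5⟩ := sylOK_sound hgenA hinvA A hHA val_rΓ val_sΓ hD
  refine ⟨F, h1, h2, h3, h4, fun a ha haF hne => ?_⟩
  obtain ⟨i1, i2⟩ := h5 a ha haF hne
  exact normalClosure_eq_top_of_gens rfl i1 i2

theorem card_A : Nat.card A = 60 := by
  obtain ⟨F2, a1, a2, a3, a4, -⟩ := sylA_spec chk_sylA2
  obtain ⟨F3, b1, b2, b3, b4, -⟩ := sylA_spec chk_sylA3
  obtain ⟨F5, c1, c2, c3, c4, -⟩ := sylA_spec chk_sylA5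
  obtain ⟨l2, l3, l5⟩ := chk_lenA
  have h2 := card_dvd_of_finset A F2 a1 a2 a3
  have h3 := card_dvd_of_finset A F3 b1 b2 b3
  have h5 := card_dvd_of_finset A F5 c1 c2 c3
  rw [a4, l2] at h2
  rw [b4, l3] at h3
  rw [c4, l5] at h5
  have hdvd : 60 ∣ Nat.card A := by
    have s1 : 4 * 3 ∣ Nat.card A := Nat.Coprime.mul_dvd_of_dvd_of_dvd (by norm_num) h2 h3
    have s2 : 4 * 3 * 5 ∣ Nat.card A := Nat.Coprime.mul_dvd_of_dvd_of_dvd (by norm_num) s1 h5
    exact s2
  have hpos : 0 < Nat.card A := Nat.card_pos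
  exact le_antisymm cardA_le (Nat.le_of_dvd hpos hdvd)

instance : Nontrivial ↥A := by
  rw [← Finite.one_lt_card_iff_nontrivial, card_A]
  norm_num

theorem sylA_step (p k : ℕ) [Fact p.Prime] {D : SylData} (hD : sylOK codesA cR cS D = true)
    (hlen : D.length = p ^ k) (hidx : ¬ p ∣ 60 / p ^ k) :
    ∃ P : Sylow p ↥A, ∀ e ∈ (P : Subgroup ↥A), e ≠ 1 →
      Subgroup.normalClosure ({e} : Set ↥A) = ⊤ := by
  obtain ⟨F, h1, h2, h3, h4, h5⟩ := sylA_spec hD
  obtain ⟨P, hP⟩ := exists_sylow_of_finset A p k F h1 h2 h3 (h4.trans hlen)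
    (by rw [card_A]; exact hidx)
  refine ⟨P, fun e he hne => ?_⟩
  have := h5 e.1 e.2 ((hP e).1 he) (fun h => hne (Subtype.ext h))
  exact this

theorem A_simple : IsSimpleGroup ↥A := by
  apply isSimpleGroup_of_sylows
  intro p hp hpd
  rw [card_A] at hpd
  have hp' : p ∣ 2 ^ 2 * 3 * 5 := by norm_num; exact hpd
  obtain ⟨l2, l3, l5⟩ := chk_lenA
  have hcases : p = 2 ∨ p = 3 ∨ p = 5 := by
    rcases (Nat.Prime.dvd_mul hp).1 hp' with h | h
    · rcases (Nat.Prime.dvd_mul hp).1 h with h | h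
      · left
        exact (Nat.prime_dvd_prime_iff_eq hp Nat.prime_two).1 (hp.dvd_of_dvd_pow h)
      · right; left
        exact (Nat.prime_dvd_prime_iff_eq hp Nat.prime_three).1 h
    · right; right
      exact (Nat.prime_dvd_prime_iff_eq hp Nat.prime_five).1 h
  rcases hcases with rfl | rfl | rfl
  · have : Fact (Nat.Prime 2) := ⟨hp⟩
    exact ⟨inferInstance, sylA_step 2 2 chk_sylA2 (by rw [l2]; norm_num) (by norm_num)⟩
  · have : Fact (Nat.Prime 3) := ⟨hp⟩
    exact ⟨inferInstance, sylA_step 3 1 chk_sylA3 (by rw [l3]; norm_num) (by norm_num)⟩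
  · have : Fact (Nat.Prime 5) := ⟨hp⟩
    exact ⟨inferInstance, sylA_step 5 1 chk_sylA5 (by rw [l5]; norm_num) (by norm_num)⟩

/-- the copy of `A₅` is isomorphic to `A₅` -/
theorem A_iso : Nonempty (↥A ≃* alternatingGroup (Fin 5)) := by
  have := A_simple
  exact Cfsg.Agent.S0494.result card_A

/-! ### the centralizer -/

/-- the involution, in J₁ -/
def t : ↥G := ⟨tΓ, tΓ_mem⟩

theorem tΓ_sq : tΓ * tΓ = 1 := by
  apply Units.ext
  rw [Units.val_mul, val_tΓ, ← toM_lmul, chk_t.1, toM_lone]; rfl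

theorem tΓ_ne : tΓ ≠ 1 := by
  intro h
  have h1 : toM cT = toM lone := by rw [← val_tΓ, h, toM_lone]; rfl
  have hc : Canon cT := by rw [chk_cw.1]; exact canon_evalW _ _
  exact chk_t.2 (toM_inj hc canon_lone h1)

theorem orderOf_t : orderOf t = 2 := by
  have : Fact (Nat.Prime 2) := ⟨Nat.prime_two⟩
  apply orderOf_eq_prime
  · apply Subtype.ext
    rw [Subgroup.coe_pow, Subgroup.coe_one, pow_two]
    exact tΓ_sq
  · intro h
    exact tΓ_ne (congrArg Subtype.val h)

theorem A_comm : A ≤ Subgroup.centralizer ({tΓ} : Set (GL (Fin 7) (ZMod 11))) := by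
  unfold A
  rw [Subgroup.closure_le]
  rintro x (rfl | rfl)
  · rw [SetLike.mem_coe, Subgroup.mem_centralizer_singleton_iff]
    apply Units.ext
    rw [Units.val_mul, Units.val_mul, val_tΓ, val_rΓ, ← toM_lmul, ← toM_lmul, chk_comm.1]
  · rw [SetLike.mem_coe, Subgroup.mem_centralizer_singleton_iff]
    apply Units.ext
    rw [Units.val_mul, Units.val_mul, val_tΓ, val_sΓ, ← toM_lmul, ← toM_lmul, chk_comm.2]

theorem AH_le : A.subgroupOf G ≤ Subgroup.centralizer ({t} : Set ↥G) := by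
  intro a ha
  rw [Subgroup.mem_subgroupOf] at ha
  have := Subgroup.mem_centralizer_singleton_iff.1 (A_comm ha)
  rw [Subgroup.mem_centralizer_singleton_iff]
  exact Subtype.ext this

theorem AH_iso : Nonempty (↥(A.subgroupOf G) ≃* alternatingGroup (Fin 5)) := by
  obtain ⟨e⟩ := A_iso
  exact ⟨(Subgroup.subgroupOfEquivOfLe A_le).trans e⟩

theorem card_cent_le : Nat.card (Subgroup.centralizer ({t} : Set ↥G)) ≤ 120 := by
  classical
  have hcT : Canon cT := by rw [chk_cw.1]; exact canon_evalW _ _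
  obtain ⟨hnd, hcan, hconj⟩ := classOK_sound hgen hinv G hH chk_class tΓ val_tΓ hcT
  set clL := clCh.flatten.map fun e => e.1 with hclL
  choose! g hgG hgv using hconj
  -- the conjugates, in J₁
  let φ : ℕ → ↥G := fun c =>
    if hc : c ∈ clL then ⟨g c, hgG c hc⟩ * t * ⟨g c, hgG c hc⟩⁻¹ else 1
  have hφ' : ∀ c ∈ clL, ∃ x : ↥G, φ c = x * t * x⁻¹ := by
    intro c hc
    exact ⟨⟨g c, hgG c hc⟩, dif_pos hc⟩
  have hφ : ∀ c ∈ clL, ((φ c).1 : Matrix (Fin 7) (Fin 7) (ZMod 11)) = toM c := by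
    intro c hc
    have : φ c = ⟨g c, hgG c hc⟩ * t * ⟨g c, hgG c hc⟩⁻¹ := dif_pos hc
    rw [this]
    exact hgv c hc
  have hinj : Set.InjOn φ (clL.toFinset : Set ℕ) := by
    intro c hc c' hc' h
    rw [Finset.mem_coe, List.mem_toFinset] at hc hc'
    apply toM_inj (hcan c hc) (hcan c' hc')
    rw [← hφ c hc, ← hφ c' hc', h]
  have hcard : (clL.toFinset.image φ).card = 1463 := by
    rw [Finset.card_image_of_injOn hinj, List.toFinset_card_of_nodup hnd, chk_class_len]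
  have hb := card_mul_card_centralizer_le t (clL.toFinset.image φ) (by
    intro x hx
    rw [Finset.mem_image] at hx
    obtain ⟨c, hc, rfl⟩ := hx
    exact hφ' c (List.mem_toFinset.1 hc))
  rw [hcard, card_G] at hb
  omega

/-- **the centralizer of the involution `t` of J₁ is `2 × A₅`** -/
theorem cent_iso : Nonempty (↥(Subgroup.centralizer ({t} : Set ↥G)) ≃*
    Multiplicative (ZMod 2) × ↥(alternatingGroup (Fin 5))) := by
  obtain ⟨e⟩ := AH_iso
  exact centralizer_iso t orderOf_t (A.subgroupOf G) AH_le e card_cent_le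

end Cfsg.Agent.Lib.Helper6.J1
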