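import Cfsg.Agent.Lib.Helper6.J2Data

/-! # The finite checks for the Hall–Janko group on 100 points -/

set_option autoImplicit false
set_option maxRecDepth 1000000

namespace Cfsg.Agent.Lib.Helper6.J2

open Cfsg.Agent.Lib.Helper6.SS

theorem chk_basic : valid 100 aL = true ∧ valid 100 bL = true ∧ progOK 2 prog = true ∧
    sgs = sel.map (fun i => (slpRun [aL, bL] prog).getD i []) ∧
    sel.all (fun i => decide (i < (slpRun [aL, bL] prog).length)) = true ∧
    aL ∈ sgs ∧ bL ∈ sgs := by decide +kernel

theorem chk_levels : checkLevels 100 sgs [] levels = true := by decide +kernel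

theorem chk_card : (levels.map (fun l => l.U.length)).prod = 604800 := by decide +kernel

theorem chk_trans : ∀ y : Fin 100, U0.any (fun u => u.getD 0 0 == y.val) = true := by
  decide +kernel

/-- the first suborbit -/
def imgs2 : List ℕ := U1.map (fun u => u.getD 5 0)

theorem chk_P : (Finset.univ.filter (fun x : Fin 100 => x.val ∈ imgs2)).card = 36 := by
  decide +kernel

theorem chk_Q : (Finset.univ.filter (fun x : Fin 100 => x.val ∈ qL)).card = 63 := by
  decide +kernel

theorem chk_cover : ∀ x : Fin 100, x.val = 0 ∨ x.val ∈ imgs2 ∨ x.val ∈ qL := by decide +kernel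

theorem chk_x0 : 0 ∉ imgs2 ∧ 0 ∉ qL := by decide +kernel

theorem chk_qtree : ptreeOK (sgs.filter (fixesAll [0])) qL qtree = true ∧ qL.all (· < 100) = true ∧
    qL.length = 63 ∧ qL.getD 0 0 = 37 := by decide +kernel

theorem chk5 : valid 100 cL = true ∧ valid 100 dL = true ∧ inT 100 levels cL = true ∧
    inT 100 levels dL = true ∧ checkLevels 100 [cL, dL] [] levels5 = true ∧ U5.length = 25 := by
  decide +kernel

theorem chk_reps : U5.all (fun u => u == idL 100 || (List.range 6).any fun i =>
    [1, 2, 3, 4].any fun j => prodL 100 (List.replicate j u) == reps.getD i []) = true := by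
  decide +kernel

theorem chk_certs : (List.range 6).all (fun i =>
    valid 100 (reps.getD i []) &&
    certOK 100 levels (reps.getD i []) (certsA.getD i []) aL &&
      certOK 100 levels (reps.getD i []) (certsB.getD i []) bL) = true := by
  decide +kernel

end Cfsg.Agent.Lib.Helper6.J2
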