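import Mathlib

/-!
# Normal subgroups of rank 3 groups are transitive; a simplicity criterion via a Sylow subgroup
-/

set_option autoImplicit false

namespace Cfsg.Agent.Lib.Helper6.Rank3Gen

open MulAction

variable {G X : Type*} [Group G] [MulAction G X]

/-- subsets containing the base point which are invariant under its stabiliser -/
theorem ncard_of_invariant {x0 : X} {P Q : Set X} {n k l : ℕ} (hcard : Nat.card X = n)
    (hn : 0 < n) (hP : P.ncard = k) (hQ : Q.ncard = l)
    (hcover : ∀ x, x = x0 ∨ x ∈ P ∨ x ∈ Q) (hx0P : x0 ∉ P) (hx0Q : x0 ∉ Q)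
    (hSP : ∀ p ∈ P, ∀ p' ∈ P, ∃ s ∈ stabilizer G x0, s • p = p')
    (hSQ : ∀ q ∈ Q, ∀ q' ∈ Q, ∃ s ∈ stabilizer G x0, s • q = q')
    (Δ : Set X) (hx0 : x0 ∈ Δ) (hinv : ∀ s ∈ stabilizer G x0, ∀ y ∈ Δ, s • y ∈ Δ) :
    Δ.ncard = 1 ∨ Δ.ncard = 1 + k ∨ Δ.ncard = 1 + l ∨ Δ.ncard = n := by
  classical
  have hfin : Finite X := Nat.finite_of_card_ne_zero (by rw [hcard]; omega)
  have hPall : (∃ p ∈ P, p ∈ Δ) → P ⊆ Δ := by
    rintro ⟨p, hp, hpΔ⟩ p' hp'
    obtain ⟨s, hs, rfl⟩ := hSP p hp p' hp'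
    exact hinv s hs p hpΔ
  have hQall : (∃ q ∈ Q, q ∈ Δ) → Q ⊆ Δ := by
    rintro ⟨q, hq, hqΔ⟩ q' hq'
    obtain ⟨s, hs, rfl⟩ := hSQ q hq q' hq'
    exact hinv s hs q hqΔ
  have hdP : Disjoint ({x0} : Set X) P := Set.disjoint_singleton_left.2 hx0P
  have hdQ : Disjoint ({x0} : Set X) Q := Set.disjoint_singleton_left.2 hx0Q
  by_cases h1 : ∃ p ∈ P, p ∈ Δ <;> by_cases h2 : ∃ q ∈ Q, q ∈ Δ
  · right; right; right
    have : Δ = Set.univ := by
      apply Set.eq_univ_of_forall
      intro x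
      rcases hcover x with rfl | hx | hx
      · exact hx0
      · exact hPall h1 hx
      · exact hQall h2 hx
    rw [this, Set.ncard_univ, hcard]
  · right; left
    have : Δ = {x0} ∪ P := by
      ext x
      constructor
      · intro hx
        rcases hcover x with rfl | hx' | hx'
        · exact Or.inl rfl
        · exact Or.inr hx'
        · exact absurd ⟨x, hx', hx⟩ h2
      · rintro (rfl | hx)
        · exact hx0
        · exact hPall h1 hx
    rw [this, Set.ncard_union_eq hdP (Set.toFinite _) (Set.toFinite _), Set.ncard_singleton, hP]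
  · right; right; left
    have : Δ = {x0} ∪ Q := by
      ext x
      constructor
      · intro hx
        rcases hcover x with rfl | hx' | hx'
        · exact Or.inl rfl
        · exact absurd ⟨x, hx', hx⟩ h1
        · exact Or.inr hx'
      · rintro (rfl | hx)
        · exact hx0
        · exact hQall h2 hx
    rw [this, Set.ncard_union_eq hdQ (Set.toFinite _) (Set.toFinite _), Set.ncard_singleton, hQ]
  · left
    have : Δ = {x0} := by
      ext x
      constructor
      · intro hx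
        rcases hcover x with rfl | hx' | hx'
        · rfl
        · exact absurd ⟨x, hx', hx⟩ h1
        · exact absurd ⟨x, hx', hx⟩ h2
      · rintro rfl
        exact hx0
    rw [this, Set.ncard_singleton]

/-- **a nontrivial normal subgroup of a faithful transitive rank 3 group whose subdegrees do not
allow blocks is transitive**, so that the degree divides its order -/
theorem dvd_card_of_normal [FaithfulSMul G X] [IsPretransitive G X] [Finite G]
    {x0 : X} {P Q : Set X} {n k l : ℕ}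
    (hcard : Nat.card X = n) (hn : 0 < n) (hP : P.ncard = k) (hQ : Q.ncard = l)
    (hcover : ∀ x, x = x0 ∨ x ∈ P ∨ x ∈ Q) (hx0P : x0 ∉ P) (hx0Q : x0 ∉ Q)
    (hSP : ∀ p ∈ P, ∀ p' ∈ P, ∃ s ∈ stabilizer G x0, s • p = p')
    (hSQ : ∀ q ∈ Q, ∀ q' ∈ Q, ∃ s ∈ stabilizer G x0, s • q = q')
    (hk : ¬ (1 + k) ∣ n) (hl : ¬ (1 + l) ∣ n) (hn1 : n ≠ 1)
    (N : Subgroup G) [hN : N.Normal] (hNbot : N ≠ ⊥) : n ∣ Nat.card N := by
  classical
  have hfin : Finite X := Nat.finite_of_card_ne_zero (by rw [hcard]; omega)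
  have hinvΔ := ncard_of_invariant (G := G) hcard hn hP hQ hcover hx0P hx0Q hSP hSQ
  have hblock : IsBlock G (orbit N x0) := IsBlock.orbit_of_normal x0
  have hdvd : (orbit N x0).ncard ∣ n := by
    rw [← hcard]
    exact hblock.ncard_dvd_card ⟨x0, mem_orbit_self x0⟩
  have hinv : ∀ s ∈ stabilizer G x0, ∀ y ∈ orbit N x0, s • y ∈ orbit N x0 := by
    rintro s hs y ⟨m, rfl⟩
    refine ⟨⟨s * m.1 * s⁻¹, hN.conj_mem m.1 m.2 s⟩, ?_⟩
    show (s * m.1 * s⁻¹) • x0 = s • (m.1 • x0)
    rw [mul_smul, mul_smul]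
    congr 2
    rw [inv_smul_eq_iff]
    exact (mem_stabilizer_iff.1 hs).symm
  rcases hinvΔ (orbit N x0) (mem_orbit_self x0) hinv with h | h | h | h
  · -- the normal subgroup fixes the base point, hence every point
    exfalso
    obtain ⟨a, ha⟩ := Set.ncard_eq_one.1 h
    have hx0a : x0 = a := by
      have : x0 ∈ orbit N x0 := mem_orbit_self x0
      rw [ha] at this
      exact this
    apply hNbot
    rw [Subgroup.eq_bot_iff_forall]
    intro m hm
    apply FaithfulSMul.eq_of_smul_eq_smul (α := X)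
    intro x
    rw [one_smul]
    obtain ⟨g, rfl⟩ := exists_smul_eq G x0 x
    have h1 : (g⁻¹ * m * g) • x0 ∈ orbit N x0 :=
      ⟨⟨g⁻¹ * m * g, hN.conj_mem' m hm g⟩, rfl⟩
    rw [ha, Set.mem_singleton_iff, ← hx0a] at h1
    rw [mul_smul, mul_smul, inv_smul_eq_iff] at h1
    exact h1
  · rw [h] at hdvd; exact absurd hdvd hk
  · rw [h] at hdvd; exact absurd hdvd hl
  · -- the normal subgroup is transitive
    have : Nat.card (orbit N x0) = n := by rw [Nat.card_coe_set_eq, h]
    rw [← this]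
    have e := Nat.card_congr (orbitProdStabilizerEquivGroup N x0)
    rw [Nat.card_prod] at e
    exact Dvd.intro _ e

/-- **simplicity from a Sylow subgroup all of whose nontrivial elements normally generate** -/
theorem isSimpleGroup_of_sylow {G : Type*} [Group G] [Finite G] [Nontrivial G] (p : ℕ)
    [hp : Fact p.Prime] (P : Sylow p G)
    (hP : ∀ e ∈ (P : Subgroup G), e ≠ 1 → Subgroup.normalClosure {e} = ⊤)
    (hN : ∀ N : Subgroup G, N.Normal → N ≠ ⊥ → p ∣ Nat.card N) : IsSimpleGroup G := by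
  refine ⟨fun N hNn => ?_⟩
  by_cases hbot : N = ⊥
  · exact Or.inl hbot
  right
  have hdvd := hN N hNn hbot
  obtain ⟨τ, hτ⟩ := exists_prime_orderOf_dvd_card' p hdvd
  have hτ' : orderOf (τ : G) = p := by rw [Subgroup.orderOf_coe]; exact hτ
  have hpg : IsPGroup p (Subgroup.zpowers (τ : G)) := by
    apply IsPGroup.of_card (n := 1)
    rw [Nat.card_zpowers, hτ', pow_one]
  obtain ⟨Q, hQ⟩ := hpg.exists_le_sylow
  obtain ⟨g, hg⟩ := MulAction.exists_smul_eq G Q P
  have hτQ : (τ : G) ∈ (Q : Subgroup G) := hQ (Subgroup.mem_zpowers _)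
  have hmem : g * τ * g⁻¹ ∈ (P : Subgroup G) := by
    rw [← hg, Sylow.coe_subgroup_smul, Subgroup.mem_pointwise_smul_iff_inv_smul_mem,
      MulAut.smul_def, ← map_inv, MulAut.conj_apply, inv_inv]
    have : g⁻¹ * (g * τ * g⁻¹) * g = τ := by group
    rw [this]; exact hτQ
  have hne : g * τ * g⁻¹ ≠ 1 := by
    intro h
    have : (τ : G) = 1 := by
      have := congrArg (fun x => g⁻¹ * x * g) h
      simp only [mul_one, inv_mul_cancel] at this
      rw [← this]; group
    rw [this, orderOf_one] at hτ'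
    exact hp.out.one_lt.ne hτ'
  have hcl := hP _ hmem hne
  rw [eq_top_iff, ← hcl]
  apply Subgroup.normalClosure_le_normal
  rw [Set.singleton_subset_iff]
  exact hNn.conj_mem _ τ.2 g

end Cfsg.Agent.Lib.Helper6.Rank3Gen
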