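import Cfsg.Agent.Lib.Helper6.J2Check
import Cfsg.Agent.Lib.Helper6.Rank3Gen
import Cfsg.Prelude.Def_Sporadic

/-!
# The Hall–Janko group as a permutation group on 100 points: order and simplicity
-/

set_option autoImplicit false
set_option maxRecDepth 1000000

namespace Cfsg.Agent.Lib.Helper6.J2

open Cfsg.Agent.Lib.Helper6.SS

noncomputable def A : Equiv.Perm (Fin 100) := toPerm 100 aL
noncomputable def B : Equiv.Perm (Fin 100) := toPerm 100 bL

/-- the group -/
noncomputable def J : Subgroup (Equiv.Perm (Fin 100)) := Subgroup.closure {A, B}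

theorem valid_a : Valid 100 aL := valid_iff.1 chk_basic.1
theorem valid_b : Valid 100 bL := valid_iff.1 chk_basic.2.1

theorem sgs_spec : ∀ s ∈ sgs, Valid 100 s ∧ toPerm 100 s ∈ J := by
  have hE := slpRun_mem J prog [aL, bL] (by
    intro g hg
    simp only [List.mem_cons, List.not_mem_nil, or_false] at hg
    rcases hg with rfl | rfl
    · exact ⟨valid_a, Subgroup.subset_closure (Or.inl rfl)⟩
    · exact ⟨valid_b, Subgroup.subset_closure (Or.inr rfl)⟩) chk_basic.2.2.1
  intro s hs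
  rw [chk_basic.2.2.2.1] at hs
  obtain ⟨i, hi, rfl⟩ := List.mem_map.1 hs
  have hall := chk_basic.2.2.2.2.1
  rw [List.all_eq_true] at hall
  have hlt : i < (slpRun [aL, bL] prog).length := by simpa using hall i hi
  rw [List.getD_eq_getElem _ _ hlt]
  exact hE _ (List.getElem_mem _)

theorem sgs_valid : ∀ s ∈ sgs, Valid 100 s := fun s hs => (sgs_spec s hs).1

theorem J_eq : J = Hgrp 100 sgs [] := by
  rw [Hgrp_nil]
  apply le_antisymm
  · rw [J, Subgroup.closure_le]
    rintro g (rfl | rfl)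
    · exact Subgroup.subset_closure ⟨aL, chk_basic.2.2.2.2.2.1, rfl⟩
    · exact Subgroup.subset_closure ⟨bL, chk_basic.2.2.2.2.2.2, rfl⟩
  · rw [Subgroup.closure_le]
    rintro g ⟨s, hs, rfl⟩
    exact (sgs_spec s hs).2

/-- the groups of the chain -/
noncomputable abbrev H2 : Subgroup (Equiv.Perm (Fin 100)) := Hgrp 100 sgs [0]
noncomputable abbrev H3 : Subgroup (Equiv.Perm (Fin 100)) := Hgrp 100 sgs [0, 5]

theorem pre1 : ([] ++ [lv0.b] : List ℕ) = [0] := rfl
theorem pre2 : ([0] ++ [lv1.b] : List ℕ) = [0, 5] := rfl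

theorem chk_levels1 : checkLevels 100 sgs [0] (lv1 :: levelsTT) = true := by
  have h : checkLevels 100 sgs ([] ++ [lv0.b]) (lv1 :: levelsTT) = true :=
    checkLevels_tail (lv := lv0) (rest := lv1 :: levelsTT) chk_levels
  rwa [pre1] at h

theorem chk_levels2 : checkLevels 100 sgs [0, 5] levelsTT = true := by
  have h : checkLevels 100 sgs ([0] ++ [lv1.b]) levelsTT = true :=
    checkLevels_tail (lv := lv1) (rest := levelsTT) chk_levels1
  rwa [pre2] at h

theorem main0 : (Hgrp 100 sgs [] : Set (Equiv.Perm (Fin 100))) = Tset 100 levels ∧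
    (∀ l ∈ levels, ∀ u ∈ l.U, Valid 100 u) ∧
    Nat.card (Hgrp 100 sgs []) = (levels.map (fun l => l.U.length)).prod :=
  main sgs sgs_valid levels [] chk_levels

theorem main1 : (Hgrp 100 sgs [0] : Set (Equiv.Perm (Fin 100))) = Tset 100 (lv1 :: levelsTT) ∧
    (∀ l ∈ lv1 :: levelsTT, ∀ u ∈ l.U, Valid 100 u) ∧
    Nat.card (Hgrp 100 sgs [0]) = ((lv1 :: levelsTT).map (fun l => l.U.length)).prod :=
  main sgs sgs_valid (lv1 :: levelsTT) [0] chk_levels1

theorem main2 : (Hgrp 100 sgs [0, 5] : Set (Equiv.Perm (Fin 100))) = Tset 100 levelsTT ∧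
    (∀ l ∈ levelsTT, ∀ u ∈ l.U, Valid 100 u) ∧
    Nat.card (Hgrp 100 sgs [0, 5]) = (levelsTT.map (fun l => l.U.length)).prod :=
  main sgs sgs_valid levelsTT [0, 5] chk_levels2

theorem card_J : Nat.card J = 604800 := by
  rw [J_eq, main0.2.2, chk_card]

instance : Finite ↥J := inferInstance

theorem mem_J_of_inT {x : List ℕ} (h : inT 100 levels x = true) :
    Valid 100 x ∧ toPerm 100 x ∈ J := by
  refine ⟨inT_valid h main0.2.1, ?_⟩
  have := inT_sound h main0.2.1
  rw [← main0.1] at this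
  rw [J_eq]; exact this

theorem H2_le : H2 ≤ J := by rw [J_eq]; exact Hgrp_mono sgs [] 0

/-- the base point -/
def x0 : Fin 100 := ⟨0, by norm_num⟩

theorem H2_fix {g : Equiv.Perm (Fin 100)} (hg : g ∈ H2) : g x0 = x0 :=
  Hgrp_fix sgs sgs_valid [] (b := 0) (by norm_num) hg

/-- transitivity -/
theorem exists_map (y : Fin 100) : ∃ g ∈ J, g x0 = y := by
  have h := chk_trans y
  rw [List.any_eq_true] at h
  obtain ⟨u, hu, huy⟩ := h
  rw [beq_iff_eq] at huy
  have hmem : toPerm 100 u ∈ Hgrp 100 sgs [] :=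
    toPerm_mem_of_mem_U (lv := lv0) (rest := lv1 :: levelsTT) main0.1 main1.1 hu
  refine ⟨toPerm 100 u, by rw [J_eq]; exact hmem, ?_⟩
  apply Fin.ext
  rw [x0, toPerm_apply (main0.2.1 lv0 List.mem_cons_self u hu)]
  exact huy

instance : MulAction.IsPretransitive ↥J (Fin 100) := by
  refine ⟨fun x y => ?_⟩
  obtain ⟨g, hg, hgx⟩ := exists_map x
  obtain ⟨h, hh, hhy⟩ := exists_map y
  refine ⟨⟨h * g⁻¹, J.mul_mem hh (J.inv_mem hg)⟩, ?_⟩
  show (h * g⁻¹) x = y
  rw [Equiv.Perm.mul_apply, ← hgx, ← Equiv.Perm.mul_apply g⁻¹ g, inv_mul_cancel,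
    Equiv.Perm.one_apply, hhy]

/-- the two suborbits -/
def P : Set (Fin 100) := {x | x.val ∈ imgs2}
def Q : Set (Fin 100) := {x | x.val ∈ qL}

theorem ncard_P : P.ncard = 36 := by
  have : P = ↑(Finset.univ.filter (fun x : Fin 100 => x.val ∈ imgs2)) := by
    ext x; simp [P]
  rw [this, Set.ncard_coe_finset, chk_P]

theorem ncard_Q : Q.ncard = 63 := by
  have : Q = ↑(Finset.univ.filter (fun x : Fin 100 => x.val ∈ qL)) := by
    ext x; simp [Q]
  rw [this, Set.ncard_coe_finset, chk_Q]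

/-- transitivity of the stabiliser on a set reached from one point by the second group -/
theorem stab_trans (R : Set (Fin 100)) (r0 : Fin 100)
    (h : ∀ r ∈ R, ∃ g ∈ H2, g r0 = r) :
    ∀ r ∈ R, ∀ r' ∈ R, ∃ s ∈ MulAction.stabilizer ↥J x0, s • r = r' := by
  intro r hr r' hr'
  obtain ⟨g, hg, hgr⟩ := h r hr
  obtain ⟨g', hg', hgr'⟩ := h r' hr'
  refine ⟨⟨g' * g⁻¹, J.mul_mem (H2_le hg') (J.inv_mem (H2_le hg))⟩, ?_, ?_⟩
  · rw [MulAction.mem_stabilizer_iff]
    show (g' * g⁻¹) x0 = x0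
    rw [Equiv.Perm.mul_apply]
    have : g⁻¹ x0 = x0 := by
      rw [Equiv.Perm.inv_eq_iff_eq]; exact (H2_fix hg).symm
    rw [this, H2_fix hg']
  · show (g' * g⁻¹) r = r'
    rw [Equiv.Perm.mul_apply, ← hgr, ← Equiv.Perm.mul_apply g⁻¹ g, inv_mul_cancel,
      Equiv.Perm.one_apply, hgr']

theorem P_reach : ∀ r ∈ P, ∃ g ∈ H2, g (⟨5, by norm_num⟩ : Fin 100) = r := by
  intro r hr
  have hr' : r.val ∈ imgs2 := hr
  rw [imgs2, List.mem_map] at hr'
  obtain ⟨u, hu, hur⟩ := hr'
  have hmem : toPerm 100 u ∈ H2 :=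
    toPerm_mem_of_mem_U (lv := lv1) (rest := levelsTT) main1.1 main2.1 hu
  refine ⟨toPerm 100 u, hmem, ?_⟩
  apply Fin.ext
  rw [toPerm_apply (main1.2.1 lv1 List.mem_cons_self u hu)]
  exact hur

theorem Q_reach : ∀ r ∈ Q, ∃ g ∈ H2, g (⟨37, by norm_num⟩ : Fin 100) = r := by
  intro r hr
  have hr' : r.val ∈ qL := hr
  obtain ⟨k, hk, hkr⟩ := List.getElem_of_mem hr'
  have hS : ∀ s ∈ sgs.filter (fixesAll [0]), Valid 100 s ∧ toPerm 100 s ∈ H2 := by
    intro s hs
    rw [List.mem_filter] at hs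
    exact ⟨sgs_valid s hs.1, Subgroup.subset_closure ⟨s, hs.1, hs.2, rfl⟩⟩
  have hlt : ∀ p ∈ qL, p < 100 := by
    have := chk_qtree.2.1
    rw [List.all_eq_true] at this
    intro p hp
    simpa using this p hp
  have h0 : 0 < qL.length := by rw [chk_qtree.2.2.1]; norm_num
  obtain ⟨h, hh, hhk⟩ := ptree_mem H2 hS hlt chk_qtree.1 h0 k hk
  refine ⟨h, hh, ?_⟩
  apply Fin.ext
  have e0 : qL[0] = 37 := by
    have := chk_qtree.2.2.2
    rwa [List.getD_eq_getElem _ _ h0] at this
  have : (⟨qL[0], hlt _ (List.getElem_mem h0)⟩ : Fin 100) = ⟨37, by norm_num⟩ := Fin.ext e0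
  rw [this] at hhk
  rw [hhk, hkr]

instance : FaithfulSMul ↥J (Fin 100) := by
  refine ⟨fun {g h} hgh => ?_⟩
  apply Subtype.ext
  apply Equiv.ext
  intro x
  exact hgh x

/-- **every nontrivial normal subgroup has order divisible by 5** -/
theorem five_dvd_card_of_normal (N : Subgroup ↥J) (hN : N.Normal) (hNbot : N ≠ ⊥) :
    5 ∣ Nat.card N := by
  have h100 : 100 ∣ Nat.card N :=
    Rank3Gen.dvd_card_of_normal (G := ↥J) (X := Fin 100) (x0 := x0) (P := P) (Q := Q)
      (n := 100) (k := 36) (l := 63) (by simp) (by norm_num) ncard_P ncard_Q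
      (by
        intro x
        rcases chk_cover x with h | h | h
        · exact Or.inl (Fin.ext h)
        · exact Or.inr (Or.inl h)
        · exact Or.inr (Or.inr h))
      (fun h => chk_x0.1 h) (fun h => chk_x0.2 h)
      (stab_trans P _ P_reach) (stab_trans Q _ Q_reach)
      (by norm_num) (by norm_num) (by norm_num) N hNbot
  exact Dvd.dvd.trans (by norm_num) h100

/-! ### the Sylow 5-subgroup -/

noncomputable def P5 : Subgroup (Equiv.Perm (Fin 100)) := Hgrp 100 [cL, dL] []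

theorem valid5 : ∀ s ∈ [cL, dL], Valid 100 s := by
  intro s hs
  simp only [List.mem_cons, List.not_mem_nil, or_false] at hs
  rcases hs with rfl | rfl
  · exact valid_iff.1 chk5.1
  · exact valid_iff.1 chk5.2.1

theorem main5 : (Hgrp 100 [cL, dL] [] : Set (Equiv.Perm (Fin 100))) = Tset 100 levels5 ∧
    (∀ l ∈ levels5, ∀ u ∈ l.U, Valid 100 u) ∧
    Nat.card (Hgrp 100 [cL, dL] []) = (levels5.map (fun l => l.U.length)).prod :=
  main [cL, dL] valid5 levels5 [] chk5.2.2.2.2.1

theorem card_P5 : Nat.card P5 = 25 := by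
  rw [P5, main5.2.2]
  show ([U5.length] : List ℕ).prod = 25
  rw [chk5.2.2.2.2.2]; rfl

theorem P5_le : P5 ≤ J := by
  rw [P5, Hgrp_nil, Subgroup.closure_le]
  rintro g ⟨s, hs, rfl⟩
  simp only [List.mem_cons, List.not_mem_nil, or_false] at hs
  rcases hs with rfl | rfl
  · exact (mem_J_of_inT chk5.2.2.1).2
  · exact (mem_J_of_inT chk5.2.2.2.1).2

/-- the elements of the Sylow subgroup -/
theorem mem_P5 {g : Equiv.Perm (Fin 100)} (hg : g ∈ P5) : ∃ u ∈ U5, g = toPerm 100 u := by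
  have : g ∈ Tset 100 levels5 := by rw [← main5.1]; exact hg
  obtain ⟨u, hu, t, ht, rfl⟩ := this
  have ht' : t = 1 := ht
  exact ⟨u, hu, by rw [ht', mul_one]⟩

theorem valid_U5 {u : List ℕ} (hu : u ∈ U5) : Valid 100 u :=
  main5.2.1 _ List.mem_cons_self u hu

theorem valid_reps {i : ℕ} (hi : i < 6) : Valid 100 (reps.getD i []) := by
  have := chk_certs
  rw [List.all_eq_true] at this
  have h := this i (List.mem_range.2 hi)
  rw [Bool.and_eq_true, Bool.and_eq_true] at h
  exact valid_iff.1 h.1.1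

/-- the generators lie in the normal closure of every nontrivial element of the Sylow subgroup -/
theorem inNC_gens (e : ↥J) (he : e.1 ∈ P5) (hne : e ≠ 1) : InNC J e A ∧ InNC J e B := by
  obtain ⟨u, hu, heu⟩ := mem_P5 he
  have hall := chk_reps
  rw [List.all_eq_true] at hall
  have h1 := hall u hu
  rw [Bool.or_eq_true, beq_iff_eq] at h1
  rcases h1 with h1 | h1
  · exfalso
    apply hne
    apply Subtype.ext
    rw [heu, h1, toPerm_idL]; rfl
  · rw [List.any_eq_true] at h1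
    obtain ⟨i, hi, h2⟩ := h1
    rw [List.any_eq_true] at h2
    obtain ⟨j, _, h3⟩ := h2
    rw [beq_iff_eq] at h3
    have hi6 : i < 6 := List.mem_range.1 hi
    have hrv := valid_reps hi6
    have hre : InNC J e (toPerm 100 (reps.getD i [])) := by
      rw [← h3, toPerm_replicate (valid_U5 hu), ← heu]
      exact (InNC.self J e).pow J e j
    have hc := chk_certs
    rw [List.all_eq_true] at hc
    have h4 := hc i hi
    rw [Bool.and_eq_true, Bool.and_eq_true] at h4
    obtain ⟨⟨_, hA⟩, hB⟩ := h4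
    rw [certOK, Bool.and_eq_true, beq_iff_eq] at hA hB
    have sA := cert_sound J e (fun x hx => mem_J_of_inT hx) hrv hre _ hA.1
    have sB := cert_sound J e (fun x hx => mem_J_of_inT hx) hrv hre _ hB.1
    rw [hA.2] at sA
    rw [hB.2] at sB
    exact ⟨sA.2, sB.2⟩

theorem normalClosure_eq_top (e : ↥J) (he : e.1 ∈ P5) (hne : e ≠ 1) :
    Subgroup.normalClosure ({e} : Set ↥J) = ⊤ := by
  obtain ⟨⟨hA, hA'⟩, ⟨hB, hB'⟩⟩ := inNC_gens e he hne
  rw [eq_top_iff]
  have htop : Subgroup.closure (((↑) : ↥J → Equiv.Perm (Fin 100)) ⁻¹' {A, B}) = ⊤ :=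
    Subgroup.closure_closure_coe_preimage
  rw [← htop, Subgroup.closure_le]
  rintro z (hz | hz)
  · have : z = ⟨A, hA⟩ := Subtype.ext hz
    rw [this]; exact hA'
  · have : z = ⟨B, hB⟩ := Subtype.ext hz
    rw [this]; exact hB'

theorem card_J' : Nat.card ↥J = 604800 := card_J

instance : Nontrivial ↥J := by
  rw [← Finite.one_lt_card_iff_nontrivial, card_J']
  norm_num

instance : Fact (Nat.Prime 5) := ⟨by norm_num⟩

/-- the Sylow 5-subgroup -/
noncomputable def syl5 : Sylow 5 ↥J := by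
  have hcard : Nat.card (P5.subgroupOf J) = 25 := by
    rw [← card_P5]
    exact Nat.card_congr (Subgroup.subgroupOfEquivOfLe P5_le).toEquiv
  have hp : IsPGroup 5 (P5.subgroupOf J) := IsPGroup.of_card (n := 2) (by rw [hcard]; norm_num)
  refine hp.toSylow ?_
  have h1 := Subgroup.card_mul_index (P5.subgroupOf J)
  rw [hcard, card_J'] at h1
  have : (P5.subgroupOf J).index = 24192 := by omega
  rw [this]
  norm_num

theorem syl5_coe : (syl5 : Subgroup ↥J) = P5.subgroupOf J := by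
  rw [syl5]; rfl

/-- **the group is simple** -/
theorem J_simple : IsSimpleGroup ↥J := by
  apply Rank3Gen.isSimpleGroup_of_sylow 5 syl5
  · intro e he hne
    rw [syl5_coe, Subgroup.mem_subgroupOf] at he
    exact normalClosure_eq_top e he hne
  · intro N hN hNbot
    exact five_dvd_card_of_normal N hN hNbot

/-- **S0423** -/
theorem j2_exists : ∃ G : Subgroup (Equiv.Perm (Fin 100)), Cfsg.IsJ2 G :=
  ⟨J, J_simple, card_J'⟩

end Cfsg.Agent.Lib.Helper6.J2
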