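import Cfsg.Agent.Lib.Helper6.F4Core
import Cfsg.Agent.Lib.Helper6.CodBlocks
import Cfsg.Agent.Lib.Helper6.J3Letters
import Cfsg.Agent.Lib.Helper6.J3Chain0a
import Cfsg.Agent.Lib.Helper6.J3Chain0b
import Cfsg.Agent.Lib.Helper6.J3Chain0c
import Cfsg.Agent.Lib.Helper6.J3Chain0d
import Cfsg.Agent.Lib.Helper6.J3ChainK

/-! # The chain of 3·J₃: the top level in parts -/

set_option autoImplicit false

namespace Cfsg.Agent.Lib.Helper6.J3

open Cfsg.Agent.Lib.Helper6.Cod Cfsg.Agent.Lib.Helper6.F4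

/-- the transversal of the top level, in blocks -/
def B0 : List (List ℕ) := B0a ++ (B0b ++ (B0c ++ B0d))
/-- the certificates of the top level -/
def C0 : List (List (ℕ × List ℕ)) := C0a ++ (C0b ++ (C0c ++ C0d))

/-- the test of a part of the top level -/
def chunkOK (Bx : List (List ℕ)) (Cx : List (List (ℕ × List ℕ))) : Bool :=
  (Bx.flatten.zip Cx).all (rowOK2 lmul lone B0 81 S1c [ca, cb])

end Cfsg.Agent.Lib.Helper6.J3
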