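import Cfsg.Agent.Lib.Helper6.F4Orb
import Cfsg.Agent.Lib.Helper6.J3Letters
import Cfsg.Agent.Lib.Helper6.J3OrbD1
import Cfsg.Agent.Lib.Helper6.J3OrbBm

/-! # Orbits of 3·J₃ on lines: kernel checks for the search of the first orbit -/

set_option autoImplicit false

namespace Cfsg.Agent.Lib.Helper6.J3

open Cfsg.Agent.Lib.Helper6.F4

theorem chk_run1 : runAll ca cb orbD1 [1] = true := by decide +kernel

theorem chk_bm1 : Nat.beq (bmAll orbD1 0) orbB1 = true := by decide +kernel

end Cfsg.Agent.Lib.Helper6.J3
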