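import Cfsg.Agent.Lib.Helper6.F4Orb
import Cfsg.Agent.Lib.Helper6.J3Letters
import Cfsg.Agent.Lib.Helper6.J3OrbC1
import Cfsg.Agent.Lib.Helper6.J3OrbBm

/-! # Orbits of 3·J₃ on lines: kernel checks for the closure of the first orbit -/

set_option autoImplicit false

namespace Cfsg.Agent.Lib.Helper6.J3

open Cfsg.Agent.Lib.Helper6.F4

theorem chk_clos1 : (orbC1.all fun L => L.all (closOK ca cb orbB1)) = true := by decide +kernel

theorem chk_sorted1 : sortedOK orbC1.flatten 0 = true := by decide +kernel

theorem chk_len1 : orbC1.flatten.length = 23256 := by decide +kernel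

theorem chk_bmc1 : Nat.beq (bmcAll orbC1 0) orbB1 = true := by decide +kernel

theorem chk_root1 : tb orbB1 1 = true := by decide +kernel

end Cfsg.Agent.Lib.Helper6.J3
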