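import Cfsg.Agent.Lib.Helper6.F4Orb
import Cfsg.Agent.Lib.Helper6.J3Letters
import Cfsg.Agent.Lib.Helper6.J3OrbD2a
import Cfsg.Agent.Lib.Helper6.J3OrbD2b
import Cfsg.Agent.Lib.Helper6.J3OrbBm

/-! # Orbits of 3·J₃ on lines: kernel checks for the search of the isotropic lines -/

set_option autoImplicit false

namespace Cfsg.Agent.Lib.Helper6.J3

open Cfsg.Agent.Lib.Helper6.F4

theorem chk_run2 : runAll ca cb (orbD2a ++ orbD2b) [3] = true := by decide +kernel

theorem chk_bm2 : Nat.beq (bmAll (orbD2a ++ orbD2b) 0) orbB2 = true := by decide +kernel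

end Cfsg.Agent.Lib.Helper6.J3
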