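import Cfsg.Agent.Lib.Helper6.J3Group
import Cfsg.Agent.Lib.Helper6.J3OrbChk1
import Cfsg.Agent.Lib.Helper6.J3OrbChk2
import Cfsg.Agent.Lib.Helper6.J3OrbChk3
import Cfsg.Agent.Lib.Helper6.J3OrbChk4

/-! # The orbits of 3·J₃ on the lines of its 9-dimensional module over the field with four elements -/

set_option autoImplicit false

namespace Cfsg.Agent.Lib.Helper6.J3

open Cfsg.Spor Cfsg.Agent.Lib.Helper6.Cod Cfsg.Agent.Lib.Helper6.F4 Matrix

section

variable {F : Type*} [Field F] [Fintype F] (hF : Fintype.card F = 4) {ω : F}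
  (hω : ω ^ 2 + ω + 1 = 0)

omit [Fintype F] in
include hω in
theorem ω_ne_zero : ω ≠ 0 := by
  intro e
  rw [e] at hω
  simp at hω

include hF hω in
/-- the meaning of a checked step -/
theorem stepOK_spec {g n j n' : ℕ} (h : stepOK g n j n' = true) :
    ∃ k : ℕ, (den F ω g) *ᵥ vecd F ω n = ω ^ k • vecd F ω n' := by
  have h2 := two_eq_zero_of_card hF
  have e : lmul g (expand n) = expand (sm j n') := Nat.eq_of_beq_eq_true h
  have e' := congrArg (den F ω) e
  rw [den_mul hω h2, den_expand, den_expand, mul_colMat] at e'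
  obtain ⟨k, hk⟩ := vecd_sm hω h2 j n' (F := F)
  exact ⟨k, (colMat_inj e').trans hk⟩

/-- the line of the second coded vector is in the orbit of the line of the first -/
def Reach (F : Type*) [Field F] (ω : F) (n₀ n : ℕ) : Prop :=
  ∃ g ∈ threeJ3 F ω, ∃ c : F, c ≠ 0 ∧ (g : Matrix F9 F9 F) *ᵥ vecd F ω n₀ = c • vecd F ω n

omit [Fintype F] in
theorem reach_refl (n₀ : ℕ) : Reach F ω n₀ n₀ :=
  ⟨1, Subgroup.one_mem _, 1, one_ne_zero, by simp⟩

include hF hω in
theorem gen_mem {g : ℕ} (hg : g = ca ∨ g = cb) :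
    ∃ s ∈ threeJ3 F ω, (s : Matrix F9 F9 F) = den F ω g := by
  have h2 := two_eq_zero_of_card hF
  rcases hg with rfl | rfl
  · exact ⟨aΓ hω h2, by rw [threeJ3_eq hω h2]; exact aΓ_mem hω h2, rfl⟩
  · exact ⟨bΓ hω h2, by rw [threeJ3_eq hω h2]; exact bΓ_mem hω h2, rfl⟩

include hF hω in
theorem reach_step (n₀ : ℕ) (g n j n' : ℕ) (hg : g = ca ∨ g = cb) (hn : Reach F ω n₀ n)
    (h : stepOK g n j n' = true) : Reach F ω n₀ n' := by
  obtain ⟨s, hs, hsg⟩ := gen_mem hF hω hg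
  obtain ⟨g₁, hg₁, c, hc, hgc⟩ := hn
  obtain ⟨k, hk⟩ := stepOK_spec hF hω h
  refine ⟨s * g₁, Subgroup.mul_mem _ hs hg₁, c * ω ^ k,
    mul_ne_zero hc (pow_ne_zero _ (ω_ne_zero hω)), ?_⟩
  rw [Units.val_mul, ← Matrix.mulVec_mulVec, hgc, Matrix.mulVec_smul, hsg, hk, smul_smul]

include hF hω in
/-- everything in the first bitmap is reached from the first basis vector -/
theorem reach1 {n : ℕ} (hn : orbB1.testBit n = true) : Reach F ω 1 n := by
  have hb : bmAll orbD1 0 = orbB1 := Nat.eq_of_beq_eq_true chk_bm1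
  rw [← hb] at hn
  refine search_sound (P := Reach F ω 1) (reach_step hF hω 1) orbD1 [1] chk_run1 ?_ n hn
  intro s hs
  rw [List.mem_singleton] at hs
  subst hs
  exact reach_refl 1

include hF hω in
/-- everything in the second bitmap is reached from the sum of the first two basis vectors -/
theorem reach2 {n : ℕ} (hn : orbB2.testBit n = true) : Reach F ω 3 n := by
  have hb : bmAll (orbD2a ++ orbD2b) 0 = orbB2 := Nat.eq_of_beq_eq_true chk_bm2
  rw [← hb] at hn
  refine search_sound (P := Reach F ω 3) (reach_step hF hω 3) _ [3] chk_run2 ?_ n hn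
  intro s hs
  rw [List.mem_singleton] at hs
  subst hs
  exact reach_refl 3

/-! ### the isotropic lines -/

include hF hω in
theorem reach_iso {v : F9 → F} (hv : v ≠ 0) (hiso : ∑ z, (v z) ^ 3 = 0) :
    ∃ g ∈ threeJ3 F ω, ∃ c : F, c ≠ 0 ∧ (g : Matrix F9 F9 F) *ᵥ vecd F ω 3 = c • v := by
  have h2 := two_eq_zero_of_card hF
  obtain ⟨n, hn, rfl⟩ := vecd_surj hF hω v
  have h0 : n ≠ 0 := by
    rintro rfl
    exact hv vecd_zero
  have hw : wpar n = 0 := (iso_iff hω h2 n).1 hiso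
  rcases isoAll_spec chk_iso2 hn h0 hw with h | h | h
  · exact reach2 hF hω h
  · obtain ⟨g, hg, c, hc, hgc⟩ := reach2 hF hω h
    refine ⟨g, hg, c * ω, mul_ne_zero hc (ω_ne_zero hω), ?_⟩
    rw [hgc, vecd_sm1 hω h2, smul_smul]
  · obtain ⟨g, hg, c, hc, hgc⟩ := reach2 hF hω h
    refine ⟨g, hg, c * (ω * ω), mul_ne_zero hc (mul_ne_zero (ω_ne_zero hω) (ω_ne_zero hω)), ?_⟩
    rw [hgc, vecd_sm1 hω h2, vecd_sm1 hω h2, smul_smul, smul_smul, mul_assoc]

include hF hω in
/-- **the isotropic lines form one orbit** -/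
theorem iso_transitive (v w : F9 → F) (hv : v ≠ 0) (hw : w ≠ 0) (hvi : ∑ z, (v z) ^ 3 = 0)
    (hwi : ∑ z, (w z) ^ 3 = 0) :
    ∃ g ∈ threeJ3 F ω, ∃ c : F, c ≠ 0 ∧ (g : Matrix F9 F9 F) *ᵥ v = c • w := by
  obtain ⟨g, hg, c, hc, hgc⟩ := reach_iso hF hω hv hvi
  obtain ⟨g', hg', c', hc', hgc'⟩ := reach_iso hF hω hw hwi
  refine ⟨g' * g⁻¹, Subgroup.mul_mem _ hg' (Subgroup.inv_mem _ hg), c⁻¹ * c',
    mul_ne_zero (inv_ne_zero hc) hc', ?_⟩
  have e : ((g⁻¹ : GL F9 F) : Matrix F9 F9 F) *ᵥ v = c⁻¹ • vecd F ω 3 := by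
    have h1 : ((g⁻¹ : GL F9 F) : Matrix F9 F9 F) *ᵥ ((g : Matrix F9 F9 F) *ᵥ vecd F ω 3) =
        vecd F ω 3 := by
      rw [Matrix.mulVec_mulVec, ← Units.val_mul, inv_mul_cancel, Units.val_one, Matrix.one_mulVec]
    rw [hgc, Matrix.mulVec_smul] at h1
    rw [← h1, smul_smul, inv_mul_cancel₀ hc, one_smul]
  rw [Units.val_mul, ← Matrix.mulVec_mulVec, e, Matrix.mulVec_smul, hgc', smul_smul]

/-! ### the orbit of the first basis vector -/

/-- the codes of the lines of the first orbit -/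
def orbM : List ℕ := orbC1.flatten.map nOf

theorem orbM_length : orbM.length = 23256 := by
  rw [orbM, List.length_map]
  exact chk_len1

theorem orbM_sorted : orbM.Pairwise (· < ·) ∧ ∀ n ∈ orbM, 0 < n ∧ n < 262144 := by
  obtain ⟨h1, _, h3⟩ := sortedOK_spec _ _ chk_sorted1
  exact ⟨h1, h3⟩

theorem orbM_nodup : orbM.Nodup := orbM_sorted.1.imp (fun h => Nat.ne_of_lt h)

theorem mem_orbM_of_testBit {n : ℕ} (h : orbB1.testBit n = true) : n ∈ orbM := by
  have hb : bmcAll orbC1 0 = orbB1 := Nat.eq_of_beq_eq_true chk_bmc1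
  rw [← hb] at h
  rcases testBit_bmcAll orbC1 0 n h with h0 | h0
  · simp at h0
  · exact h0

theorem orbM_spec {n : ℕ} (hn : n ∈ orbM) :
    orbB1.testBit n = true ∧ orbB1.testBit (sm1 n) = false ∧
    orbB1.testBit (sm1 (sm1 n)) = false ∧
    (∃ j n', n' ∈ orbM ∧ stepOK ca n j n' = true) ∧
    (∃ j n', n' ∈ orbM ∧ stepOK cb n j n' = true) := by
  rw [orbM, List.mem_map] at hn
  obtain ⟨e, he, rfl⟩ := hn
  obtain ⟨L, hL, heL⟩ := List.mem_flatten.1 he
  have h1 := List.all_eq_true.1 chk_clos1 L hL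
  have h2 := List.all_eq_true.1 h1 e heL
  obtain ⟨a1, a2, a3, ⟨j, n', b1, b2⟩, ⟨j', n'', c1, c2⟩⟩ := closOK_spec h2
  exact ⟨a1, a2, a3, ⟨j, n', mem_orbM_of_testBit b1, b2⟩, ⟨j', n'', mem_orbM_of_testBit c1, c2⟩⟩

theorem one_mem_orbM : 1 ∈ orbM := by
  apply mem_orbM_of_testBit
  rw [← tb_eq]
  exact chk_root1

theorem testBit_one' (i : ℕ) : Nat.testBit 1 i = decide (i = 0) := by
  cases i with
  | zero => rfl
  | succ i => rw [Nat.testBit_succ]; simp

omit [Fintype F] in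
theorem vecd_one : vecd F ω 1 = Pi.single (0 : F9) (1 : F) := by
  funext z
  simp only [vecd, testBit_one']
  have h9 : decide (9 + idx z = 0) = false := by
    rw [decide_eq_false_iff_not]; omega
  rw [h9]
  by_cases hz : z = 0
  · subst hz
    have : idx (0 : F9) = 0 := rfl
    rw [this]
    simp [β]
  · have : idx z ≠ 0 := fun h => hz (idx_eq_zero.1 h)
    simp [β, hz, this]

include hF hω in
theorem vecd_ne_zero {n : ℕ} (hn : n ∈ orbM) : vecd F ω n ≠ 0 := by
  have h2 := two_eq_zero_of_card hF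
  intro h
  obtain ⟨h0, h1⟩ := orbM_sorted.2 n hn
  have := vecd_inj hω h2 (by norm_num; exact h1) (by norm_num) (h.trans (vecd_zero (F := F) (ω := ω)).symm)
  omega

include hF hω in
/-- the lines of the coded vectors of the first orbit are distinct -/
theorem line_injOn : Set.InjOn (fun n => Submodule.span F {vecd F ω n}) {n | n ∈ orbM} := by
  have h2 := two_eq_zero_of_card hF
  intro n hn n' hn' h
  simp only at h
  have hmem : vecd F ω n' ∈ Submodule.span F {vecd F ω n} := by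
    rw [h]; exact Submodule.mem_span_singleton_self _
  obtain ⟨c, hc⟩ := Submodule.mem_span_singleton.1 hmem
  have hc0 : c ≠ 0 := by
    rintro rfl
    rw [zero_smul] at hc
    exact vecd_ne_zero hF hω hn' hc.symm
  have hb := (orbM_sorted.2 n hn).2
  have hb' := (orbM_sorted.2 n' hn').2
  have hlt : n < 2 ^ 18 := by norm_num; exact hb
  have hlt' : n' < 2 ^ 18 := by norm_num; exact hb'
  obtain ⟨_, s1, s2, _, _⟩ := orbM_spec hn
  have t' := (orbM_spec hn').1
  rcases eq_pow_of_ne_zero hF hω hc0 with rfl | rfl | rfl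
  · rw [pow_zero, one_smul] at hc
    exact vecd_inj hω h2 hlt hlt' hc
  · rw [pow_one, ← vecd_sm1 hω h2] at hc
    have := vecd_inj hω h2 (sm1_lt n) hlt' hc
    rw [this, t'] at s1
    exact absurd s1 (by simp)
  · rw [pow_two, ← smul_smul, ← vecd_sm1 hω h2, ← vecd_sm1 hω h2] at hc
    have := vecd_inj hω h2 (sm1_lt _) hlt' hc
    rw [this, t'] at s2
    exact absurd s2 (by simp)

include hF hω in
/-- the coded lines of the first orbit are permuted by the group -/
theorem orbM_closed {g : GL F9 F} (hg : g ∈ threeJ3 F ω) :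
    ∀ n ∈ orbM, ∃ n' ∈ orbM, ∃ c : F, c ≠ 0 ∧
      (g : Matrix F9 F9 F) *ᵥ vecd F ω n = c • vecd F ω n' := by
  have h2 := two_eq_zero_of_card hF
  rw [threeJ3_eq hω h2] at hg
  have hg' : g ∈ (Subgroup.closure {aΓ hω h2, bΓ hω h2}).toSubmonoid := hg
  rw [Subgroup.closure_toSubmonoid_of_finite] at hg'
  clear hg
  induction hg' using Submonoid.closure_induction with
  | mem x hx =>
    intro n hn
    obtain ⟨_, _, _, ⟨j, n', m1, m2⟩, ⟨j', n'', m3, m4⟩⟩ := orbM_spec hn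
    rcases hx with rfl | hx
    · obtain ⟨k, hk⟩ := stepOK_spec hF hω m2
      exact ⟨n', m1, ω ^ k, pow_ne_zero _ (ω_ne_zero hω), hk⟩
    · rw [Set.mem_singleton_iff] at hx
      subst hx
      obtain ⟨k, hk⟩ := stepOK_spec hF hω m4
      exact ⟨n'', m3, ω ^ k, pow_ne_zero _ (ω_ne_zero hω), hk⟩
  | one =>
    intro n hn
    exact ⟨n, hn, 1, one_ne_zero, by simp⟩
  | mul x y _ _ hx hy =>
    intro n hn
    obtain ⟨n', hn', c, hc, e⟩ := hy n hn
    obtain ⟨n'', hn'', c', hc', e'⟩ := hx n' hn'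
    refine ⟨n'', hn'', c * c', mul_ne_zero hc hc', ?_⟩
    rw [Units.val_mul, ← Matrix.mulVec_mulVec, e, Matrix.mulVec_smul, e', smul_smul]

omit [Fintype F] in
theorem span_smul_eq {c : F} (hc : c ≠ 0) (v : F9 → F) :
    Submodule.span F {c • v} = Submodule.span F {v} :=
  Submodule.span_singleton_smul_eq (IsUnit.mk0 c hc) v

include hF hω in
/-- **the orbit of the line through the first basis vector has 23256 lines** -/
theorem orbit_card : {L : Submodule F (F9 → F) | ∃ g ∈ threeJ3 F ω,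
    L = Submodule.span F {(g : Matrix F9 F9 F) *ᵥ (Pi.single (0 : F9) (1 : F) : F9 → F)}}.ncard =
      23256 := by
  have hset : {L : Submodule F (F9 → F) | ∃ g ∈ threeJ3 F ω,
      L = Submodule.span F {(g : Matrix F9 F9 F) *ᵥ (Pi.single (0 : F9) (1 : F) : F9 → F)}} =
      (fun n => Submodule.span F {vecd F ω n}) '' {n | n ∈ orbM} := by
    ext L
    simp only [Set.mem_ofPred_eq, Set.mem_image]
    constructor
    · rintro ⟨g, hg, rfl⟩
      obtain ⟨n', hn', c, hc, e⟩ := orbM_closed hF hω hg 1 one_mem_orbM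
      refine ⟨n', hn', ?_⟩
      rw [← vecd_one (ω := ω), e, span_smul_eq hc]
    · rintro ⟨n, hn, rfl⟩
      obtain ⟨g, hg, c, hc, e⟩ := reach1 hF hω (orbM_spec hn).1
      refine ⟨g, hg, ?_⟩
      rw [← vecd_one (ω := ω), e, span_smul_eq hc]
  rw [hset, Set.InjOn.ncard_image (line_injOn hF hω)]
  have : {n | n ∈ orbM} = ↑orbM.toFinset := by
    ext n; simp
  rw [this, Set.ncard_coe_finset, List.toFinset_card_of_nodup orbM_nodup, orbM_length]

end

end Cfsg.Agent.Lib.Helper6.J3
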