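import Mathlib

/-! # Permutation realisations of simple central quotients

A finite group with simple central quotient, acting on the cosets of a proper subgroup
containing the centre, gives a transitive permutation group isomorphic to the central quotient. -/

set_option autoImplicit false

namespace Cfsg.Agent.Lib.Helper6.PermReal

variable {G : Type*} [Group G]

/-- the kernel of the action on the cosets of a proper subgroup containing the centre is the
centre, if the central quotient is simple -/
theorem ker_toPermHom_eq_center (K : Subgroup G) (hC : Subgroup.center G ≤ K) (hK : K ≠ ⊤)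
    (hs : IsSimpleGroup (G ⧸ Subgroup.center G)) :
    (MulAction.toPermHom G (G ⧸ K)).ker = Subgroup.center G := by
  rw [← Subgroup.normalCore_eq_ker]
  apply le_antisymm
  · have hn : (K.normalCore.map (QuotientGroup.mk' (Subgroup.center G))).Normal :=
      Subgroup.Normal.map inferInstance _ (QuotientGroup.mk'_surjective _)
    rcases hs.eq_bot_or_eq_top_of_normal _ hn with h | h
    · intro g hg
      have : (QuotientGroup.mk' (Subgroup.center G)) g ∈
          K.normalCore.map (QuotientGroup.mk' (Subgroup.center G)) := Subgroup.mem_map_of_mem _ hg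
      rw [h, Subgroup.mem_bot] at this
      exact (QuotientGroup.eq_one_iff g).1 this
    · exfalso
      apply hK
      rw [eq_top_iff]
      intro g _
      have : (QuotientGroup.mk' (Subgroup.center G)) g ∈
          K.normalCore.map (QuotientGroup.mk' (Subgroup.center G)) := by
        rw [h]; exact Subgroup.mem_top _
      obtain ⟨x, hx, hxg⟩ := Subgroup.mem_map.1 this
      have hxK : x ∈ K := Subgroup.normalCore_le K hx
      have : x⁻¹ * g ∈ Subgroup.center G := by
        have h1 : ((x⁻¹ * g : G) : G ⧸ Subgroup.center G) = 1 := by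
          have h2 : ((x : G) : G ⧸ Subgroup.center G) = (g : G ⧸ Subgroup.center G) := hxg
          rw [QuotientGroup.mk_mul, QuotientGroup.mk_inv, h2, inv_mul_cancel]
        exact (QuotientGroup.eq_one_iff _).1 h1
      have h3 : x⁻¹ * g ∈ K := hC this
      have : g = x * (x⁻¹ * g) := by group
      rw [this]
      exact K.mul_mem hxK h3
  · exact Subgroup.normal_le_normalCore.2 hC

/-- **the permutation realisation** -/
theorem exists_perm_realization [Finite G] (K : Subgroup G) (hC : Subgroup.center G ≤ K)
    (hK : K ≠ ⊤) (hs : IsSimpleGroup (G ⧸ Subgroup.center G)) (n : ℕ) (hn : K.index = n) :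
    ∃ H : Subgroup (Equiv.Perm (Fin n)), Nonempty (↥H ≃* G ⧸ Subgroup.center G) ∧
      MulAction.IsPretransitive H (Fin n) := by
  have hcard : Nat.card (G ⧸ K) = n := by rw [← Subgroup.index_eq_card]; exact hn
  let e : G ⧸ K ≃ Fin n := Finite.equivFinOfCardEq hcard
  let ψ : G →* Equiv.Perm (Fin n) :=
    (e.permCongrHom : Equiv.Perm (G ⧸ K) →* Equiv.Perm (Fin n)).comp
      (MulAction.toPermHom G (G ⧸ K))
  have hker : ψ.ker = Subgroup.center G := by
    rw [← ker_toPermHom_eq_center K hC hK hs]
    ext g
    rw [MonoidHom.mem_ker, MonoidHom.mem_ker]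
    show e.permCongrHom (MulAction.toPermHom G (G ⧸ K) g) = 1 ↔ _
    exact e.permCongrHom.map_eq_one_iff
  refine ⟨ψ.range, ⟨?_⟩, ?_⟩
  · exact (QuotientGroup.quotientKerEquivRange ψ).symm.trans
      (QuotientGroup.quotientMulEquivOfEq hker)
  · refine ⟨fun x y => ?_⟩
    obtain ⟨g, hg⟩ := MulAction.exists_smul_eq G (e.symm x) (e.symm y)
    refine ⟨⟨ψ g, g, rfl⟩, ?_⟩
    show (ψ g) x = y
    show e (g • e.symm x) = y
    rw [hg, e.apply_symm_apply]

/-- the order of a point stabiliser of a transitive permutation group -/
theorem card_stabilizer {n : ℕ} (H : Subgroup (Equiv.Perm (Fin n)))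
    [MulAction.IsPretransitive H (Fin n)] (x : Fin n) :
    Nat.card (MulAction.stabilizer H x) * n = Nat.card H := by
  have h1 := Subgroup.card_mul_index (MulAction.stabilizer H x)
  rw [MulAction.index_stabilizer_of_transitive, Nat.card_fin] at h1
  exact h1

end Cfsg.Agent.Lib.Helper6.PermReal
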