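import Cfsg.Agent.Lib.Helper6.J3Group
import Cfsg.Agent.Lib.Helper6.J3KData
import Cfsg.Agent.Lib.Helper6.PermRealA
import Cfsg.Prelude.Def_Sporadic

/-! # J₃ as a transitive permutation group of degree 6156 -/

set_option autoImplicit false
set_option maxRecDepth 1000000

namespace Cfsg.Agent.Lib.Helper6.J3

open Cfsg.Spor Cfsg.Agent.Lib.Helper6.Cod Cfsg.Agent.Lib.Helper6.F4
  Cfsg.Agent.Lib.Helper6.SylowSimple

set_option maxHeartbeats 0 in
theorem chk_chainK : chainOK lmul lone (LQK.map fun i => codesX.getD i lone) chainK = true := by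
  decide +kernel

theorem chk_prodK : (chainK.map fun L => L.U.length).prod = 24480 := by decide +kernel

set_option maxHeartbeats 0 in
theorem chk_sub32 : subOK lmul lone codesX LQK subK32 = true := by decide +kernel
set_option maxHeartbeats 0 in
theorem chk_sub9 : subOK lmul lone codesX LQK subK9 = true := by decide +kernel
set_option maxHeartbeats 0 in
theorem chk_sub5 : subOK lmul lone codesX LQK subK5 = true := by decide +kernel
set_option maxHeartbeats 0 in
theorem chk_sub17 : subOK lmul lone codesX LQK subK17 = true := by decide +kernel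

theorem chk_lenK : subK32.length = 32 ∧ subK9.length = 9 ∧ subK5.length = 5 ∧
    subK17.length = 17 := by decide +kernel

theorem chk_zK : codesX.getD 8 lone = evalW lmul lone codesX wzK ∧
    wzK.all (fun l => LQK.contains l) = true := by decide +kernel

section

variable {F : Type*} [Field F] [Finite F] {ω : F} (hω : ω ^ 2 + ω + 1 = 0) (h2 : (2 : F) = 0)

/-- the subgroup of index 6156, in the general linear group -/
def K' : Subgroup (GL F9 F) := lettersClosure (sys hω h2) LQK

theorem K'_le : K' hω h2 ≤ G₂ hω h2 := lettersClosure_le _ _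

theorem card_K' : Nat.card (K' hω h2) = 24480 := by
  have hchain : chainOK (coding hω h2).mul (coding hω h2).one
      (LQK.map fun i => (sys hω h2).codes.getD i (coding hω h2).one) chainK = true := by
    rw [sys_codes]; exact chk_chainK
  have hle := card_lettersClosure_le (ι := ι F) ι_inj (sys hω h2) LQK chainK hchain
  rw [chk_prodK] at hle
  have hsub : ∀ D : List (ℕ × List ℕ), subOK lmul lone codesX LQK D = true →
      D.length ∣ Nat.card (K' hω h2) := by
    intro D hD
    have hD' : subOK (coding hω h2).mul (coding hω h2).one (sys hω h2).codes LQK D = true := by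
      rw [sys_codes]; exact hD
    exact subOK_dvd (ι := ι F) ι_inj (sys hω h2) LQK D hD'
  obtain ⟨l32, l9, l5, l17⟩ := chk_lenK
  have d32 := hsub _ chk_sub32
  have d9 := hsub _ chk_sub9
  have d5 := hsub _ chk_sub5
  have d17 := hsub _ chk_sub17
  rw [l32] at d32
  rw [l9] at d9
  rw [l5] at d5
  rw [l17] at d17
  have s1 : 32 * 9 ∣ Nat.card (K' hω h2) := Nat.Coprime.mul_dvd_of_dvd_of_dvd (by norm_num) d32 d9
  have s2 : 32 * 9 * 5 ∣ Nat.card (K' hω h2) :=
    Nat.Coprime.mul_dvd_of_dvd_of_dvd (by norm_num) s1 d5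
  have s3 : 32 * 9 * 5 * 17 ∣ Nat.card (K' hω h2) :=
    Nat.Coprime.mul_dvd_of_dvd_of_dvd (by norm_num) s2 d17
  exact le_antisymm hle (Nat.le_of_dvd Nat.card_pos s3)

theorem z_mem_K' : (zG hω h2).1 ∈ K' hω h2 := by
  have : (zG hω h2).1 = evalGL (sys hω h2).gen wzK := by
    apply ι_inj
    rw [ι_z, val_evalGL', ← chk_zK.1]
  rw [this]
  exact evalGL_mem_lettersClosure _ _ _ chk_zK.2

theorem center_eq : Subgroup.center ↥(G₂ hω h2) = Subgroup.zpowers (zG hω h2) :=
  (center_eq_and_simple (Subgroup.zpowers (zG hω h2)) (proper_normal hω h2)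
    (zpowers_le_center hω h2) (center_ne_top hω h2)).1

include hω h2 in
/-- **J₃ as a transitive permutation group of degree 6156 with point stabiliser of order
8160** -/
theorem perm_main : ∃ H : Subgroup (Equiv.Perm (Fin 6156)), Cfsg.IsJ3 H ∧
    MulAction.IsPretransitive H (Fin 6156) ∧
    Nat.card (MulAction.stabilizer H (0 : Fin 6156)) = 8160 := by
  obtain ⟨m1, m2, m3, m4⟩ := main_G₂ hω h2
  set Ks : Subgroup ↥(G₂ hω h2) := (K' hω h2).subgroupOf (G₂ hω h2) with hKs
  have hcK : Nat.card Ks = 24480 := by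
    rw [← card_K' hω h2]
    exact Nat.card_congr (Subgroup.subgroupOfEquivOfLe (K'_le hω h2)).toEquiv
  have hidx : Ks.index = 6156 := by
    have := Subgroup.card_mul_index Ks
    rw [hcK, m2] at this
    omega
  have hC : Subgroup.center ↥(G₂ hω h2) ≤ Ks := by
    rw [center_eq, Subgroup.zpowers_le, hKs, Subgroup.mem_subgroupOf]
    exact z_mem_K' hω h2
  have hne : Ks ≠ ⊤ := by
    intro h
    rw [h, Subgroup.index_top] at hidx
    omega
  obtain ⟨H, ⟨e⟩, htr⟩ := PermReal.exists_perm_realization Ks hC hne m4 6156 hidx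
  have hcH : Nat.card H = 50232960 := by rw [Nat.card_congr e.toEquiv, m3]
  refine ⟨H, ⟨(MulEquiv.isSimpleGroup_congr e).2 m4, hcH⟩, htr, ?_⟩
  have := PermReal.card_stabilizer H (0 : Fin 6156)
  rw [hcH] at this
  omega

end

end Cfsg.Agent.Lib.Helper6.J3
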