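import Cfsg.Agent.Lib.Helper6.J3Group
import Cfsg.Agent.Lib.Helper6.M21F4
import Cfsg.Prelude.Def_Classical
import Cfsg.Prelude.Def_Sporadic

/-! # The group 3·J₃ inside the special unitary group of dimension nine over the field with four
elements -/

set_option autoImplicit false
set_option maxRecDepth 1000000

namespace Cfsg.Agent.Lib.Helper6.J3

open Cfsg.Spor Cfsg.Agent.Lib.Helper6.Cod Cfsg.Agent.Lib.Helper6.F4
  Cfsg.Agent.Lib.Helper6.SylowSimple Matrix

/-! ### transfer along isomorphisms -/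

theorem map_center_eq {G H : Type*} [Group G] [Group H] (e : G ≃* H) :
    (Subgroup.center G).map (e : G →* H) = Subgroup.center H := by
  ext y
  rw [Subgroup.mem_map]
  constructor
  · rintro ⟨x, hx, rfl⟩
    rw [Subgroup.mem_center_iff] at hx ⊢
    intro h
    have := hx (e.symm h)
    have h2 := congrArg e this
    rw [map_mul, map_mul, e.apply_symm_apply] at h2
    exact h2
  · intro hy
    refine ⟨e.symm y, ?_, e.apply_symm_apply y⟩
    rw [Subgroup.mem_center_iff] at hy ⊢
    intro g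
    have := hy (e g)
    apply e.injective
    rw [map_mul, map_mul, e.apply_symm_apply]
    exact this

/-- the order of the centre and the central quotient, along an isomorphism -/
theorem transfer_central {G H : Type*} [Group G] [Group H] (e : G ≃* H) :
    Nat.card (Subgroup.center H) = Nat.card (Subgroup.center G) ∧
      Nonempty (G ⧸ Subgroup.center G ≃* H ⧸ Subgroup.center H) :=
  ⟨(Nat.card_congr (Subgroup.centerCongr e).toEquiv).symm,
    ⟨QuotientGroup.congr _ _ e (map_center_eq e)⟩⟩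

/-! ### characters on certificates -/

theorem hom_certGL_eq_one {Γ A : Type*} [Group Γ] [CommGroup A] (χ : Γ →* A) (gen : ℕ → Γ)
    (e : Γ) (he : χ e = 1) (cert : List (List ℕ × ℕ)) : χ (certGL gen e cert) = 1 := by
  induction cert with
  | nil => exact map_one χ
  | cons vn cert ih =>
    show χ (evalGL gen vn.1 * e ^ vn.2 * (evalGL gen vn.1)⁻¹ * certGL gen e cert) = 1
    rw [map_mul, ih, mul_one, map_mul, map_mul, map_pow, he, one_pow, mul_one, map_inv,
      mul_inv_cancel]

/-! ### unitary matrices -/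

/-- a matrix over a field with four elements is unitary -/
def IsU {n F : Type*} [Fintype n] [DecidableEq n] [Field F] (M : Matrix n n F) : Prop :=
  Mᵀ * M.map (fun x => x ^ 2) = 1

theorem IsU.reindex {n m F : Type*} [Fintype n] [DecidableEq n] [Fintype m] [DecidableEq m]
    [Field F] {M : Matrix n n F} (h : IsU M) (e : n ≃ m) : IsU (Matrix.reindex e e M) := by
  unfold IsU at h ⊢
  rw [Matrix.reindex_apply, Matrix.transpose_submatrix, ← Matrix.submatrix_map,
    Matrix.submatrix_mul_equiv, h, Matrix.submatrix_one_equiv]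

theorem IsU.form {n F : Type*} [Fintype n] [DecidableEq n] [Field F] (h2 : (2 : F) = 0)
    {M : Matrix n n F} (h : IsU M) (u v : n → F) :
    ∑ i, (M *ᵥ u) i * ((M *ᵥ v) i) ^ 2 = ∑ i, u i * (v i) ^ 2 := by
  have : CharP F 2 := CharTwo.of_one_ne_zero_of_two_eq_zero one_ne_zero h2
  have hsq : (fun i => ((M *ᵥ v) i) ^ 2) = (M.map fun x => x ^ 2) *ᵥ (fun i => (v i) ^ 2) := by
    funext i
    simp only [Matrix.mulVec, dotProduct, Matrix.map_apply]
    rw [sum_pow_char 2]
    exact Finset.sum_congr rfl fun j _ => mul_pow _ _ _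
  have h1 : ∑ i, (M *ᵥ u) i * ((M *ᵥ v) i) ^ 2 = (M *ᵥ u) ⬝ᵥ (fun i => ((M *ᵥ v) i) ^ 2) := rfl
  have h3 : ∑ i, u i * (v i) ^ 2 = u ⬝ᵥ (fun i => (v i) ^ 2) := rfl
  rw [h1, h3, hsq, dotProduct_comm, Matrix.dotProduct_mulVec, dotProduct_comm,
    ← Matrix.mulVec_transpose, Matrix.mulVec_mulVec, h, Matrix.one_mulVec]

/-- the Frobenius map on symbols -/
def frobS : ℕ → ℕ
  | 2 => 3
  | 3 => 2
  | s => s

theorem φ_frobS {F : Type*} [Field F] {ω : F} (hω : ω ^ 2 + ω + 1 = 0) (h2 : (2 : F) = 0)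
    (s : ℕ) : φ F ω (frobS s) = (φ F ω s) ^ 2 := by
  have hω' : ω ^ 2 = 1 + ω := by linear_combination hω - (ω + 1) * h2
  match s with
  | 0 => simp [frobS, φ]
  | 1 => simp [frobS, φ]
  | 2 => simp only [frobS, φ]; rw [hω']
  | 3 =>
    simp only [frobS, φ]
    linear_combination (-1 : F) * hω' - (1 + ω) * h2
  | n + 4 => simp [frobS, φ]

/-- a coded matrix whose inverse is coded by the conjugate transpose is unitary -/
theorem isU_of_codes {F : Type*} [Field F] {ω : F} (hω : ω ^ 2 + ω + 1 = 0) (h2 : (2 : F) = 0)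
    {c c' : ℕ} (hinv : lmul c' c = lone)
    (hsym : ∀ w z : F9, sym c' (idx w) (idx z) = frobS (sym c (idx z) (idx w))) :
    IsU (den F ω c) := by
  unfold IsU
  have h1 : (den F ω c).map (fun x => x ^ 2) = (den F ω c')ᵀ := by
    ext z w
    rw [Matrix.map_apply, Matrix.transpose_apply, den_eq_φ, den_eq_φ, hsym, φ_frobS hω h2]
  rw [h1, ← Matrix.transpose_mul, ← den_mul hω h2, hinv, F4.den_one, Matrix.transpose_one]

theorem chk_unit : lmul ca ca = lone ∧
    (∀ w z : F9, sym cai (idx w) (idx z) = frobS (sym ca (idx z) (idx w))) ∧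
    (∀ w z : F9, sym cbi (idx w) (idx z) = frobS (sym cb (idx z) (idx w))) := by
  decide +kernel

theorem chk_certb :
    certVal lmul lone codesX ca ((root2.getD 0 (0, [], [])).2.2.getD 1 []) = cb := by
  decide +kernel

section

variable {F : Type*} [Field F] [Finite F] {ω : F} (hω : ω ^ 2 + ω + 1 = 0) (h2 : (2 : F) = 0)

theorem isU_a : IsU (aΓ hω h2 : Matrix F9 F9 F) := isU_of_codes hω h2 chk_inv.2.1 chk_unit.2.1
theorem isU_b : IsU (bΓ hω h2 : Matrix F9 F9 F) := isU_of_codes hω h2 chk_inv.2.2.2 chk_unit.2.2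

theorem det_a : Matrix.GeneralLinearGroup.det (aΓ hω h2) = 1 := by
  have hsq : aΓ hω h2 * aΓ hω h2 = 1 := by
    apply ι_inj
    rw [map_mul, map_one]
    show den F ω ca * den F ω ca = 1
    rw [← den_mul hω h2, chk_unit.1, F4.den_one]
  have h1 := congrArg Matrix.GeneralLinearGroup.det hsq
  rw [map_mul, map_one] at h1
  have h3 : ((Matrix.GeneralLinearGroup.det (aΓ hω h2) : Fˣ) : F) *
      (Matrix.GeneralLinearGroup.det (aΓ hω h2) : Fˣ) = 1 := by
    rw [← Units.val_mul, h1]; rfl
  apply Units.ext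
  set d : F := ((Matrix.GeneralLinearGroup.det (aΓ hω h2) : Fˣ) : F) with hd
  have h4 : (d - 1) * (d - 1) = 0 := by linear_combination h3 + (1 - d) * h2
  have h5 := mul_self_eq_zero.1 h4
  show d = 1
  linear_combination h5

theorem det_b : Matrix.GeneralLinearGroup.det (bΓ hω h2) = 1 := by
  have hb : bΓ hω h2 = certGL (sys hω h2).gen (aΓ hω h2)
      ((root2.getD 0 (0, [], [])).2.2.getD 1 []) := by
    apply ι_inj
    have hgen : ∀ i, ι F ((sys hω h2).gen i) =
        (coding hω h2).den (codesX.getD i (coding hω h2).one) := sys_hgen hω h2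
    rw [val_certGL (K := coding hω h2) (S := codesX) hgen (sys hω h2).hinv
      (e := aΓ hω h2) (c := ca) rfl]
    show den F ω cb = den F ω _
    exact congrArg (den F ω) chk_certb.symm
  rw [hb]
  exact hom_certGL_eq_one _ _ _ (det_a hω h2) _

end

/-! ### the embedding into the special unitary group -/

/-- the index equivalence -/
noncomputable def e9 : F9 ≃ Fin 9 := Fintype.equivFinOfCardEq (by decide)

/-- reindexing, on general linear groups -/
noncomputable def ρ (F : Type*) [Field F] : GL F9 F ≃* GL (Fin 9) F :=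
  Units.mapEquiv (Matrix.reindexAlgEquiv F F e9).toMulEquiv

/-- the special unitary group in the general linear group -/
def jSU (F : Type*) [Field F] : ↥(Cfsg.SU 9 F 2) →* GL (Fin 9) F :=
  Matrix.SpecialLinearGroup.toGL.comp (Subgroup.subtype _)

theorem jSU_inj (F : Type*) [Field F] : Function.Injective (jSU F) := by
  intro x y h
  exact Subtype.ext (Matrix.SpecialLinearGroup.toGL_injective h)

theorem mem_range_jSU {F : Type*} [Field F] (h2 : (2 : F) = 0) (g : GL F9 F)
    (hd : Matrix.GeneralLinearGroup.det g = 1) (hu : IsU (g : Matrix F9 F9 F)) :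
    ρ F g ∈ (jSU F).range := by
  have hdet : (Matrix.reindex e9 e9 (g : Matrix F9 F9 F)).det = 1 := by
    rw [Matrix.det_reindex_self]
    have := congrArg Units.val hd
    rwa [Matrix.GeneralLinearGroup.val_det_apply] at this
  have hs : (⟨_, hdet⟩ : Matrix.SpecialLinearGroup (Fin 9) F) ∈ Cfsg.SU 9 F 2 := by
    intro u v
    exact (hu.reindex e9).form h2 u v
  exact ⟨⟨⟨_, hdet⟩, hs⟩, Units.ext rfl⟩

section

variable {F : Type*} [Field F] [Finite F] {ω : F} (hω : ω ^ 2 + ω + 1 = 0) (h2 : (2 : F) = 0)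

theorem map_le_range : (G₂ hω h2).map (ρ F).toMonoidHom ≤ (jSU F).range := by
  rw [Subgroup.map_le_iff_le_comap]
  unfold G₂
  rw [Subgroup.closure_le]
  rintro t (rfl | rfl)
  · exact mem_range_jSU h2 _ (det_a hω h2) (isU_a hω h2)
  · exact mem_range_jSU h2 _ (det_b hω h2) (isU_b hω h2)

/-- the group inside the special unitary group -/
noncomputable def HSU : Subgroup ↥(Cfsg.SU 9 F 2) := ((G₂ hω h2).map (ρ F).toMonoidHom).comap (jSU F)

/-- it is isomorphic to the matrix group -/
noncomputable def equivHSU : ↥(G₂ hω h2) ≃* ↥(HSU hω h2) :=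
  ((G₂ hω h2).equivMapOfInjective (ρ F).toMonoidHom (ρ F).injective).trans
    (((HSU hω h2).equivMapOfInjective (jSU F) (jSU_inj F)).trans
      (MulEquiv.subgroupCongr (Subgroup.map_comap_eq_self (map_le_range hω h2)))).symm

include hω h2 in
/-- **a triple cover of J₃ inside SU₉(2)** -/
theorem su_main : ∃ H : Subgroup ↥(Cfsg.SU 9 F 2),
    Nat.card (Subgroup.center H) = 3 ∧ Cfsg.IsJ3 (H ⧸ Subgroup.center H) := by
  obtain ⟨m1, -, m3, m4⟩ := main_G₂ hω h2
  obtain ⟨t1, ⟨t2⟩⟩ := transfer_central (equivHSU hω h2)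
  refine ⟨HSU hω h2, by rw [t1, m1], ?_, ?_⟩
  · exact (MulEquiv.isSimpleGroup_congr t2).1 m4
  · rw [← Nat.card_congr t2.toEquiv, m3]

end

end Cfsg.Agent.Lib.Helper6.J3
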