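import Cfsg.Agent.Lib.Helper6.LeechCount
import Cfsg.Prelude.Def_Spor_Conway

/-!
# The rank-24 lattice is generated by its minimal vectors
-/

set_option autoImplicit false

namespace Cfsg.Agent.Lib.Helper6.Leech

open Cfsg
open Cfsg.Agent.Lib.Helper6.Golay

theorem mem_octads_iff_isC {o : Finset GolayPt} : o ∈ octads ↔ IsC o ∧ o.card = 8 := Iff.rfl

theorem mem_dodecads_iff_isC {o : Finset GolayPt} : o ∈ dodecads ↔ IsC o ∧ o.card = 12 := Iff.rfl

/-- every dodecad is the symmetric difference of two octads -/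
theorem dodecad_eq_symmDiff {d : Finset GolayPt} (hd : d ∈ dodecads) :
    ∃ o ∈ octads, ∃ o' ∈ octads, d = symmDiff o o' := by
  obtain ⟨s, hsd, hs5⟩ := Finset.exists_subset_card_eq (s := d) (n := 5) (by rw [hd.2]; norm_num)
  obtain ⟨o, ho, hso⟩ := exists_octad s hs5
  have h6 : (o ∩ d).card = 6 := by
    have h5 : 5 ≤ (o ∩ d).card := by
      rw [← hs5]; exact Finset.card_le_card (Finset.subset_inter hso hsd)
    rcases card_octad_inter_dodecad ho hd with h | h | h <;> omega
  have hoC : IsC o := ho.1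
  have hdC : IsC d := hd.1
  have hC : IsC (symmDiff o d) := hoC.symmDiff hdC
  have hcard : (symmDiff o d).card = 8 := by
    have := card_symmDiff_add o d
    rw [h6, ho.2, hd.2] at this
    omega
  refine ⟨o, ho, symmDiff o d, ⟨hC, hcard⟩, ?_⟩
  rw [← symmDiff_assoc, symmDiff_self, bot_symmDiff]

/-- induction over the codewords: they are generated by the octads -/
theorem isC_induction {P : Finset GolayPt → Prop} (h0 : P ∅) (hoct : ∀ o ∈ octads, P o)
    (hadd : ∀ s t, IsC s → IsC t → P s → P t → P (symmDiff s t)) : ∀ c, IsC c → P c := by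
  have hdod : ∀ d ∈ dodecads, P d := by
    intro d hd
    obtain ⟨o, ho, o', ho', rfl⟩ := dodecad_eq_symmDiff hd
    exact hadd o o' ho.1 ho'.1 (hoct o ho) (hoct o' ho')
  have huniv : P Finset.univ := by
    obtain ⟨d, hd⟩ : ∃ d, d ∈ dodecads := by
      have : dodecads.Nonempty := by
        rw [← Set.ncard_pos (Set.toFinite _), ncard_dodecads]; norm_num
      exact this
    have hdC : IsC d := hd.1
    have hdc : dᶜ ∈ dodecads := ⟨hdC.compl, by rw [Finset.card_compl, hd.2, card_golayPt]⟩
    have := hadd d dᶜ hd.1 hdc.1 (hdod d hd) (hdod dᶜ hdc)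
    have e : symmDiff d dᶜ = Finset.univ := by
      ext i; simp
    rwa [e] at this
  intro c hc
  rcases hc.card_cases with h | h | h | h | h
  · rw [Finset.card_eq_zero.mp h]; exact h0
  · exact hoct c ⟨hc, h⟩
  · exact hdod c ⟨hc, h⟩
  · have hcc : cᶜ ∈ octads := ⟨hc.compl, by rw [Finset.card_compl, h, card_golayPt]⟩
    have := hadd Finset.univ cᶜ isC_univ hcc.1 huniv (hoct _ hcc)
    have e : symmDiff Finset.univ cᶜ = c := by
      ext i; simp [Finset.mem_symmDiff]
    rwa [e] at this
  · have : c = Finset.univ := by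
      apply Finset.eq_univ_of_card; rw [h, card_golayPt]
    rw [this]; exact huniv

/-! ### Some minimal vectors -/

/-- `4 e_i` -/
def e4 (i : GolayPt) : GolayPt → ℤ := fun j => if j = i then 4 else 0

theorem sum_e4 (i : GolayPt) : ∑ j, e4 i j = 4 := by
  simp [e4]

theorem sum_sq_ite (i : GolayPt) (a : ℤ) : ∑ j, (if j = i then a else 0) = a := by
  simp

/-- the minimal vectors -/
def minVecs : Set (GolayPt → ℤ) := {x | x ∈ leechLattice ∧ sqNorm x = 32}

theorem mem_leechSet_of_four_dvd {x : GolayPt → ℤ} (h4 : ∀ i, x i % 4 = 0) (h8 : (∑ i, x i) % 8 = 0) :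
    x ∈ leechSet := by
  have key : ∀ i, x i % 4 = if i ∈ (∅ : Finset GolayPt) then 2 else 0 := by
    intro i; rw [if_neg (Finset.notMem_empty i)]; exact h4 i
  exact mem_leechSet.mpr ⟨0, fun i => by have := h4 i; omega, by omega,
    isC_cls_of_key isC_empty (by norm_num) key⟩

theorem e4_add_mem {i j : GolayPt} (hij : i ≠ j) : e4 i + e4 j ∈ minVecs := by
  refine ⟨mem_leechLattice.mpr (mem_leechSet_of_four_dvd (fun k => ?_) ?_), ?_⟩
  · simp only [Pi.add_apply, e4]; split_ifs <;> norm_num
  · simp only [Pi.add_apply, Finset.sum_add_distrib, sum_e4]; norm_num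
  · rw [sqNorm_def]
    have : ∀ k, (e4 i + e4 j) k ^ 2 = (if k = i then 16 else 0) + (if k = j then 16 else 0) := by
      intro k
      simp only [Pi.add_apply, e4]
      by_cases h1 : k = i
      · have h2 : k ≠ j := fun h => hij (h1.symm.trans h)
        rw [if_pos h1, if_neg h2, if_pos h1, if_neg h2]; norm_num
      · by_cases h2 : k = j
        · rw [if_neg h1, if_pos h2, if_neg h1, if_pos h2]; norm_num
        · rw [if_neg h1, if_neg h2, if_neg h1, if_neg h2]; norm_num
    rw [Finset.sum_congr rfl (fun k _ => this k), Finset.sum_add_distrib, sum_sq_ite, sum_sq_ite]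
    norm_num

theorem e4_sub_mem {i j : GolayPt} (hij : i ≠ j) : e4 i - e4 j ∈ minVecs := by
  refine ⟨mem_leechLattice.mpr (mem_leechSet_of_four_dvd (fun k => ?_) ?_), ?_⟩
  · simp only [Pi.sub_apply, e4]; split_ifs <;> norm_num
  · simp only [Pi.sub_apply, Finset.sum_sub_distrib, sum_e4]; norm_num
  · rw [sqNorm_def]
    have : ∀ k, (e4 i - e4 j) k ^ 2 = (if k = i then 16 else 0) + (if k = j then 16 else 0) := by
      intro k
      simp only [Pi.sub_apply, e4]
      by_cases h1 : k = i
      · have h2 : k ≠ j := fun h => hij (h1.symm.trans h)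
        rw [if_pos h1, if_neg h2, if_pos h1, if_neg h2]; norm_num
      · by_cases h2 : k = j
        · rw [if_neg h1, if_pos h2, if_neg h1, if_pos h2]; norm_num
        · rw [if_neg h1, if_neg h2, if_neg h1, if_neg h2]; norm_num
    rw [Finset.sum_congr rfl (fun k _ => this k), Finset.sum_add_distrib, sum_sq_ite, sum_sq_ite]
    norm_num

/-- the vector `2` on an octad, `0` elsewhere -/
def octVec (o : Finset GolayPt) : GolayPt → ℤ := fun i => if i ∈ o then 2 else 0

theorem octVec_mem {o : Finset GolayPt} (ho : o ∈ octads) : octVec o ∈ minVecs := by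
  have key : ∀ i, octVec o i % 4 = if i ∈ o then 2 else 0 := by
    intro i; simp only [octVec]; split_ifs <;> norm_num
  refine ⟨mem_leechLattice.mpr (mem_leechSet.mpr ⟨0, fun i => ?_, ?_,
    isC_cls_of_key ho.1 (by norm_num) key⟩), ?_⟩
  · simp only [octVec]; split_ifs <;> norm_num
  · simp only [octVec]
    rw [Finset.sum_ite_mem, Finset.univ_inter, Finset.sum_const, ho.2]; norm_num
  · rw [sqNorm_def]
    have : ∀ i, octVec o i ^ 2 = if i ∈ o then 4 else 0 := by
      intro i; simp only [octVec]; split_ifs <;> norm_num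
    rw [Finset.sum_congr rfl (fun i _ => this i), Finset.sum_ite_mem, Finset.univ_inter,
      Finset.sum_const, ho.2]; norm_num

/-- the vector `(-3, 1, ..., 1)` -/
def oddVec : GolayPt → ℤ := fun i => if i = none then -3 else 1

theorem oddVec_mem : oddVec ∈ minVecs := by
  refine ⟨mem_leechLattice.mpr (Spor.mem_leechSet_of_const_mod_four oddVec 1 1 (by decide) (by decide)
    (by decide)), by decide⟩

end Cfsg.Agent.Lib.Helper6.Leech
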