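import Cfsg.Agent.Lib.Helper6.LeechSym
import Cfsg.Agent.Lib.Helper6.LeechGen
import Cfsg.Agent.Lib.Helper6.GolayBSGS

/-!
# Automorphisms of the rank-24 lattice: the monomial ones, inner products
-/

set_option autoImplicit false

namespace Cfsg.Agent.Lib.Helper6.Leech

open Cfsg
open Cfsg.Agent.Lib.Helper6.Golay

/-- an element of `Co0` from a pair of mutually inverse additive norm-preserving maps of the
ambient space preserving the lattice -/
def mkCo0 (f f' : (GolayPt → ℤ) → (GolayPt → ℤ))
    (hf : ∀ x ∈ leechLattice, f x ∈ leechLattice) (hf' : ∀ x ∈ leechLattice, f' x ∈ leechLattice)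
    (h1 : ∀ x, f' (f x) = x) (h2 : ∀ x, f (f' x) = x) (hadd : ∀ x y, f (x + y) = f x + f y)
    (hn : ∀ x, sqNorm (f x) = sqNorm x) : Co0 :=
  ⟨{ toFun := fun v => ⟨f v.1, hf v.1 v.2⟩
     invFun := fun v => ⟨f' v.1, hf' v.1 v.2⟩
     left_inv := fun v => Subtype.ext (h1 v.1)
     right_inv := fun v => Subtype.ext (h2 v.1) },
   ⟨fun v w => Subtype.ext (hadd v.1 w.1), fun v => hn v.1⟩⟩

theorem mkCo0_apply (f f' : (GolayPt → ℤ) → (GolayPt → ℤ)) (hf hf' h1 h2 hadd hn) (v : leechLattice) :
    (((mkCo0 f f' hf hf' h1 h2 hadd hn).1 v : leechLattice) : GolayPt → ℤ) = f v.1 := rfl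

/-- negation -/
def negC : Co0 :=
  mkCo0 (fun x => -x) (fun x => -x) (fun _ hx => leechLattice.neg_mem hx) (fun _ hx => leechLattice.neg_mem hx)
    (fun x => neg_neg x) (fun x => neg_neg x) (fun x y => neg_add x y)
    (fun x => by simp [sqNorm])

/-- sign change on a set of coordinates -/
def signF (c : Finset GolayPt) (x : GolayPt → ℤ) : GolayPt → ℤ := fun i => if i ∈ c then -x i else x i

theorem signF_signF (c : Finset GolayPt) (x : GolayPt → ℤ) : signF c (signF c x) = x := by
  funext i; simp only [signF]; split_ifs <;> simp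

theorem signF_mem {c : Finset GolayPt} (hc : IsC c) {x : GolayPt → ℤ} (hx : x ∈ leechLattice) :
    signF c x ∈ leechLattice :=
  mem_leechLattice.mpr (sign_mem hc (mem_leechLattice.mp hx))

/-- the sign change on a codeword, as a lattice automorphism -/
def signC (c : Finset GolayPt) (hc : IsC c) : Co0 :=
  mkCo0 (signF c) (signF c) (fun _ hx => signF_mem hc hx) (fun _ hx => signF_mem hc hx)
    (signF_signF c) (signF_signF c)
    (fun x y => by funext i; simp only [signF, Pi.add_apply]; split_ifs <;> ring)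
    (fun x => by
      simp only [sqNorm, signF]
      apply Finset.sum_congr rfl
      intro i _
      split_ifs <;> ring)

/-- coordinate permutation -/
def permF (σ : Equiv.Perm GolayPt) (x : GolayPt → ℤ) : GolayPt → ℤ := fun i => x (σ i)

theorem permF_mem {σ : Equiv.Perm GolayPt} (hσ : σ ∈ M24) {x : GolayPt → ℤ} (hx : x ∈ leechLattice) :
    permF σ x ∈ leechLattice :=
  mem_leechLattice.mpr (comp_mem hσ (mem_leechLattice.mp hx))

/-- a coordinate permutation from `M24`, as a lattice automorphism -/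
def permC (σ : Equiv.Perm GolayPt) (hσ : σ ∈ M24) : Co0 :=
  mkCo0 (permF σ) (permF σ⁻¹) (fun _ hx => permF_mem hσ hx) (fun _ hx => permF_mem (M24.inv_mem hσ) hx)
    (fun x => by funext i; simp [permF]) (fun x => by funext i; simp [permF])
    (fun x y => by funext i; simp [permF])
    (fun x => by
      simp only [sqNorm, permF]
      exact Equiv.sum_comp σ (fun i => x i ^ 2))

/-! ### Additivity and inner products -/

theorem co0_add (g : Co0) (v w : leechLattice) : g.1 (v + w) = g.1 v + g.1 w := g.2.1 v w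

theorem co0_norm (g : Co0) (v : leechLattice) :
    sqNorm ((g.1 v : leechLattice) : GolayPt → ℤ) = sqNorm (v : GolayPt → ℤ) := g.2.2 v

theorem co0_zero (g : Co0) : g.1 0 = 0 := by
  have := co0_add g 0 0
  rw [add_zero] at this
  exact (add_eq_left.mp this.symm)

theorem co0_neg (g : Co0) (v : leechLattice) : g.1 (-v) = -g.1 v := by
  have := co0_add g v (-v)
  rw [add_neg_cancel, co0_zero] at this
  exact (neg_eq_of_add_eq_zero_right this.symm).symm

theorem sqNorm_add (a b : GolayPt → ℤ) : sqNorm (a + b) = sqNorm a + 2 * dotInt a b + sqNorm b := by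
  simp only [sqNorm, dotInt, Pi.add_apply]
  rw [Finset.mul_sum, ← Finset.sum_add_distrib, ← Finset.sum_add_distrib]
  exact Finset.sum_congr rfl (fun i _ => by ring)

/-- lattice automorphisms preserve inner products -/
theorem co0_dot (g : Co0) (v w : leechLattice) :
    dotInt ((g.1 v : leechLattice) : GolayPt → ℤ) ((g.1 w : leechLattice) : GolayPt → ℤ) =
      dotInt (v : GolayPt → ℤ) (w : GolayPt → ℤ) := by
  have h := co0_norm g (v + w)
  rw [co0_add] at h
  have e1 : ((g.1 v + g.1 w : leechLattice) : GolayPt → ℤ) =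
      ((g.1 v : leechLattice) : GolayPt → ℤ) + ((g.1 w : leechLattice) : GolayPt → ℤ) := rfl
  have e2 : ((v + w : leechLattice) : GolayPt → ℤ) = (v : GolayPt → ℤ) + (w : GolayPt → ℤ) := rfl
  rw [e1, e2, sqNorm_add, sqNorm_add, co0_norm, co0_norm] at h
  linarith

/-- the vector `8 e_i` -/
def v8 (i : GolayPt) : leechLattice :=
  ⟨Pi.single i 8, mem_leechLattice.mpr (mem_leechSet_of_four_dvd
    (fun j => by rw [Pi.single_apply]; split_ifs <;> norm_num)
    (by rw [Finset.sum_pi_single']; simp))⟩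

theorem v8_apply (i j : GolayPt) : (v8 i : GolayPt → ℤ) j = if j = i then 8 else 0 := by
  show (Pi.single i (8 : ℤ) : GolayPt → ℤ) j = _
  rw [Pi.single_apply]

theorem dot_v8 (x : GolayPt → ℤ) (i : GolayPt) : dotInt x (v8 i : GolayPt → ℤ) = 8 * x i := by
  simp only [dotInt, v8_apply]
  rw [Finset.sum_congr rfl (fun j _ => by rw [mul_ite, mul_zero]),
    Finset.sum_ite_eq' Finset.univ i (fun j => x j * 8), if_pos (Finset.mem_univ i)]
  ring

/-- codewords separate points -/
theorem exists_isC_sep : ∀ i j : GolayPt, i ≠ j → ∃ c, IsC c ∧ ((i ∈ c ∧ j ∉ c) ∨ (i ∉ c ∧ j ∈ c)) := by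
  have h : ∀ i j : GolayPt, i ≠ j → ∃ b ∈ basis, (b.testBit (idx i) = true ∧ b.testBit (idx j) = false) ∨
      (b.testBit (idx i) = false ∧ b.testBit (idx j) = true) := by decide
  intro i j hij
  obtain ⟨b, hb, h⟩ := h i j hij
  refine ⟨fs b, ⟨dec b, dec_basis_mem b hb, support₂_dec b⟩, ?_⟩
  simp only [mem_fs]
  rcases h with ⟨h1, h2⟩ | ⟨h1, h2⟩
  · left; exact ⟨h1, by rw [h2]; simp⟩
  · right; exact ⟨by rw [h1]; simp, h2⟩

end Cfsg.Agent.Lib.Helper6.Leech
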