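import Cfsg.Agent.Lib.Helper6.LeechTrans2

/-!
# Transitivity on minimal vectors: fusion of the three shapes
-/

set_option autoImplicit false

namespace Cfsg.Agent.Lib.Helper6.Leech

open Cfsg
open Cfsg.Agent.Lib.Helper6.Golay
open scoped Pointwise

theorem sqNorm_xiF_of_mem {x : GolayPt → ℤ} (hx : x ∈ leechLattice) : sqNorm (xiF x) = sqNorm x :=
  sqNorm_xiF (evenTs_of_mem hx)

set_option maxRecDepth 100000 in
theorem va_facts : (∀ i, (e4 none + e4 (pt 3)) i % 4 = 0) ∧ xiF (e4 none + e4 (pt 3)) none % 2 = 0 ∧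
    ∃ i, xiF (e4 none + e4 (pt 3)) i % 4 ≠ 0 := by decide +kernel

theorem R_voct_v0 : R voct v0 := by
  have hva := e4_add_mem (i := none) (j := pt 3) (by decide)
  obtain ⟨f1, f2, f3⟩ := va_facts
  have h1 := R_shapeA hva.1 hva.2 f1
  have h2 := R_xi hva.1
  have h3 := R_shapeB (xiF_mem hva.1) (by rw [sqNorm_xiF_of_mem hva.1]; exact hva.2) f2 f3
  exact h3.symm.trans (h2.symm.trans h1)

set_option maxRecDepth 100000 in
theorem vb_facts : inCode 9347075 = true ∧ pc 24 9347075 = 8 ∧ octVecM 9347075 none % 2 = 0 ∧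
    (∃ i, octVecM 9347075 i % 4 ≠ 0) ∧ xiF (octVecM 9347075) none % 2 = 1 := by decide +kernel

theorem R_vodd_v0 : R vodd v0 := by
  obtain ⟨f1, f2, f3, f4, f5⟩ := vb_facts
  have ho : fs 9347075 ∈ octads := fs_mem_octads f1 f2
  have hvb := octVec_mem ho
  rw [octVec_fs] at hvb
  have h1 := R_shapeB hvb.1 hvb.2 f3 f4
  have h2 := R_xi hvb.1
  have h3 := R_shapeC (xiF_mem hvb.1) (by rw [sqNorm_xiF_of_mem hvb.1]; exact hvb.2) f5
  exact h3.symm.trans (h2.symm.trans (h1.trans R_voct_v0))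

/-- every minimal vector is in the orbit of the reference vector -/
theorem R_min {x : GolayPt → ℤ} (hx : x ∈ leechLattice) (hn : sqNorm x = 32) : R ⟨x, hx⟩ v0 := by
  by_cases hodd : x none % 2 = 1
  · exact (R_shapeC hx hn hodd).trans R_vodd_v0
  · have heven : x none % 2 = 0 := by omega
    by_cases h4 : ∀ i, x i % 4 = 0
    · exact R_shapeA hx hn h4
    · push Not at h4
      exact (R_shapeB hx hn heven h4).trans R_voct_v0

/-- **The automorphism group is transitive on the minimal vectors.** -/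
theorem co0_transitive_min (v w : leechLattice) (hv : sqNorm (v : GolayPt → ℤ) = 32)
    (hw : sqNorm (w : GolayPt → ℤ) = 32) : ∃ g : Co0, g • v = w := by
  have h1 : R v v0 := R_min v.2 hv
  have h2 : R w v0 := R_min w.2 hw
  obtain ⟨g, hg⟩ := h1.trans h2.symm
  exact ⟨g, hg⟩

end Cfsg.Agent.Lib.Helper6.Leech
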