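import Cfsg.Agent.Lib.Helper6.LeechCount4
import Cfsg.Agent.Lib.Helper6.LeechTrans3

/-!
# The census of minimal vectors by inner product with a fixed minimal vector
-/

set_option autoImplicit false

namespace Cfsg.Agent.Lib.Helper6.Leech

open Cfsg
open Cfsg.Agent.Lib.Helper6.Golay

theorem dot_w2 (a b : ℤ) (x : GolayPt → ℤ) : dotInt (w2 a b) x = a * x none + b * x (some 0) := by
  rw [dotInt]
  have h : ∀ i : GolayPt, w2 a b i * x i =
      (if i = none then a * x none else 0) + (if i = some 0 then b * x (some 0) else 0) := by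
    intro i
    by_cases h1 : i = none
    · subst h1; simp [w2]
    · by_cases h2 : i = some 0
      · subst h2; simp [w2]
      · simp [w2, h1, h2]
  rw [Finset.sum_congr rfl (fun i _ => h i), Finset.sum_add_distrib, Finset.sum_ite_eq',
    Finset.sum_ite_eq']
  simp

/-- the set of minimal vectors with given inner product with `v` -/
def census (v : GolayPt → ℤ) (k : ℤ) : Set (GolayPt → ℤ) :=
  {w | w ∈ leechLattice ∧ sqNorm w = 32 ∧ dotInt v w = k}

theorem census_ncard_eq (v w : leechLattice) (g : Co0) (hg : g.1 v = w) (k : ℤ) :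
    (census (v : GolayPt → ℤ) k).ncard = (census (w : GolayPt → ℤ) k).ncard := by
  refine Set.ncard_congr (fun x hx => ((g.1 ⟨x, hx.1⟩ : leechLattice) : GolayPt → ℤ)) ?_ ?_ ?_
  · rintro x ⟨hx, hn, hd⟩
    refine ⟨(g.1 ⟨x, hx⟩).2, ?_, ?_⟩
    · rw [co0_norm]; exact hn
    · rw [← hg, co0_dot]; exact hd
  · rintro x y ⟨hx, _, _⟩ ⟨hy, _, _⟩ h
    have := g.1.injective (Subtype.ext h)
    exact congrArg Subtype.val this
  · rintro y ⟨hy, hn, hd⟩
    refine ⟨((g.1.symm ⟨y, hy⟩ : leechLattice) : GolayPt → ℤ), ⟨(g.1.symm ⟨y, hy⟩).2, ?_, ?_⟩, ?_⟩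
    · have := co0_norm g (g.1.symm ⟨y, hy⟩)
      rw [Equiv.apply_symm_apply] at this
      rw [← this]; exact hn
    · have := co0_dot g v (g.1.symm ⟨y, hy⟩)
      rw [Equiv.apply_symm_apply, hg] at this
      rw [← this]; exact hd
    · simp

theorem census_v0 (t : ℤ) : (census (v0 : GolayPt → ℤ) (4 * t)).ncard = total2 t := by
  rw [← ncard_min_sum2']
  congr 1
  ext x
  simp only [census, Set.mem_ofPred_eq]
  have : dotInt ((v0 : leechLattice) : GolayPt → ℤ) x = 4 * (x none + x (some 0)) := by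
    show dotInt (w2 4 4) x = _
    rw [dot_w2]; ring
  rw [this]
  constructor
  · rintro ⟨h1, h2, h3⟩; exact ⟨h1, h2, by omega⟩
  · rintro ⟨h1, h2, h3⟩; exact ⟨h1, h2, by omega⟩

theorem census_vals (v : GolayPt → ℤ) (hv : v ∈ leechLattice) (hvn : sqNorm v = 32) :
    (census v (-16)).ncard = 4600 ∧ (census v (-8)).ncard = 47104 ∧ (census v 0).ncard = 93150 := by
  obtain ⟨g, hg⟩ := R_min hv hvn
  have h := fun k => census_ncard_eq ⟨v, hv⟩ v0 g hg k
  simp only at h
  obtain ⟨h1, h2, h3⟩ := total2_vals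
  refine ⟨?_, ?_, ?_⟩
  · rw [h, show (-16 : ℤ) = 4 * (-4) by norm_num, census_v0, h1]
  · rw [h, show (-8 : ℤ) = 4 * (-2) by norm_num, census_v0, h2]
  · rw [h, show (0 : ℤ) = 4 * 0 by norm_num, census_v0, h3]

end Cfsg.Agent.Lib.Helper6.Leech
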