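import Cfsg.Agent.Lib.Helper6.LeechAut

/-!
# The centre of the automorphism group of the rank-24 lattice
-/

set_option autoImplicit false

namespace Cfsg.Agent.Lib.Helper6.Leech

open Cfsg
open Cfsg.Agent.Lib.Helper6.Golay

/-- commuting with `h`, pointwise -/
theorem comm_apply {g h : Co0} (hc : h * g = g * h) (v : leechLattice) : h.1 (g.1 v) = g.1 (h.1 v) := by
  have := congrArg (fun k : Co0 => k.1 v) hc
  exact this

theorem signC_apply (c : Finset GolayPt) (hc : IsC c) (v : leechLattice) (j : GolayPt) :
    (((signC c hc).1 v : leechLattice) : GolayPt → ℤ) j = if j ∈ c then -(v : GolayPt → ℤ) j else (v : GolayPt → ℤ) j := rfl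

theorem permC_apply (σ : Equiv.Perm GolayPt) (hσ : σ ∈ M24) (v : leechLattice) (j : GolayPt) :
    (((permC σ hσ).1 v : leechLattice) : GolayPt → ℤ) j = (v : GolayPt → ℤ) (σ j) := rfl

theorem negC_apply (v : leechLattice) : negC.1 v = -v := rfl

/-- a central automorphism maps `8 e_i` to a multiple of itself -/
theorem central_v8_off {g : Co0} (hg : ∀ h : Co0, h * g = g * h) {i j : GolayPt} (hij : i ≠ j) :
    ((g.1 (v8 i) : leechLattice) : GolayPt → ℤ) j = 0 := by
  obtain ⟨c, hc, h⟩ := exists_isC_sep i j hij
  have hcomm := comm_apply (hg (signC c hc)) (v8 i)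
  rcases h with ⟨hi, hj⟩ | ⟨hi, hj⟩
  · -- the sign change negates `8 e_i`
    have e : (signC c hc).1 (v8 i) = -v8 i := by
      apply Subtype.ext
      funext k
      rw [signC_apply]
      show _ = -((v8 i : GolayPt → ℤ) k)
      rw [v8_apply]
      by_cases hk : k ∈ c
      · rw [if_pos hk]
      · have : k ≠ i := fun h => hk (h ▸ hi)
        rw [if_neg hk, if_neg this]; rfl
    rw [e, co0_neg] at hcomm
    have := congrArg (fun w : leechLattice => (w : GolayPt → ℤ) j) hcomm
    simp only [signC_apply, if_neg hj] at this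
    have e2 : ((-(g.1 (v8 i)) : leechLattice) : GolayPt → ℤ) j = -((g.1 (v8 i) : leechLattice) : GolayPt → ℤ) j := rfl
    rw [e2] at this
    omega
  · have e : (signC c hc).1 (v8 i) = v8 i := by
      apply Subtype.ext
      funext k
      rw [signC_apply, v8_apply]
      by_cases hk : k ∈ c
      · have : k ≠ i := fun h => hi (h ▸ hk)
        rw [if_pos hk, if_neg this]; rfl
      · rw [if_neg hk]
    rw [e] at hcomm
    have := congrArg (fun w : leechLattice => (w : GolayPt → ℤ) j) hcomm
    simp only [signC_apply, if_pos hj] at this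
    omega

theorem central_v8_diag {g : Co0} (hg : ∀ h : Co0, h * g = g * h) (i : GolayPt) :
    ((g.1 (v8 i) : leechLattice) : GolayPt → ℤ) i = 8 ∨ ((g.1 (v8 i) : leechLattice) : GolayPt → ℤ) i = -8 := by
  have hn := co0_norm g (v8 i)
  have h1 : sqNorm ((g.1 (v8 i) : leechLattice) : GolayPt → ℤ) =
      (((g.1 (v8 i) : leechLattice) : GolayPt → ℤ) i) ^ 2 := by
    rw [sqNorm_def]
    apply Finset.sum_eq_single i
    · intro j _ hji
      rw [central_v8_off hg (Ne.symm hji)]; norm_num
    · intro h; exact absurd (Finset.mem_univ i) h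
  have h2 : sqNorm (v8 i : GolayPt → ℤ) = 64 := by
    rw [sqNorm_def]
    rw [Finset.sum_eq_single i]
    · rw [v8_apply, if_pos rfl]; norm_num
    · intro j _ hji
      rw [v8_apply, if_neg hji]; norm_num
    · intro h; exact absurd (Finset.mem_univ i) h
  rw [h1, h2] at hn
  have : (((g.1 (v8 i) : leechLattice) : GolayPt → ℤ) i - 8) * (((g.1 (v8 i) : leechLattice) : GolayPt → ℤ) i + 8) = 0 := by
    ring_nf; linarith
  rcases mul_eq_zero.mp this with h | h
  · left; linarith
  · right; linarith

theorem central_v8_const {g : Co0} (hg : ∀ h : Co0, h * g = g * h) (i i' : GolayPt) :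
    ((g.1 (v8 i) : leechLattice) : GolayPt → ℤ) i = ((g.1 (v8 i') : leechLattice) : GolayPt → ℤ) i' := by
  -- a permutation in `M24` with `σ i' = i`
  obtain ⟨σ, hσ, hmap⟩ := exists_M24_map (n := 1) (by norm_num)
    ⟨fun _ => i', fun a b _ => Subsingleton.elim a b⟩ ⟨fun _ => i, fun a b _ => Subsingleton.elim a b⟩
  have hσi : σ i' = i := hmap 0
  have hcomm := comm_apply (hg (permC σ hσ)) (v8 i)
  have e : (permC σ hσ).1 (v8 i) = v8 i' := by
    apply Subtype.ext
    funext k
    rw [permC_apply, v8_apply, v8_apply]
    by_cases hk : k = i'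
    · rw [if_pos hk, if_pos (by rw [hk, hσi])]
    · rw [if_neg hk, if_neg]
      intro h
      apply hk
      apply σ.injective
      rw [h, hσi]
  rw [e] at hcomm
  have := congrArg (fun w : leechLattice => (w : GolayPt → ℤ) i') hcomm
  simp only [permC_apply, hσi] at this
  exact this

/-- **A central automorphism is `1` or `-1`.** -/
theorem central_eq {g : Co0} (hg : ∀ h : Co0, h * g = g * h) : g = 1 ∨ g = negC := by
  have key : ∀ (s : ℤ), ((g.1 (v8 none) : leechLattice) : GolayPt → ℤ) none = 8 * s → s * s = 1 →
      ∀ v : leechLattice, ((g.1 v : leechLattice) : GolayPt → ℤ) = fun i => s * (v : GolayPt → ℤ) i := by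
    intro s hs hss v
    funext i
    have hd := co0_dot g v (v8 i)
    rw [dot_v8] at hd
    -- the image of `8 e_i`
    have hv : ((g.1 (v8 i) : leechLattice) : GolayPt → ℤ) = fun j => if j = i then 8 * s else 0 := by
      funext j
      by_cases hj : j = i
      · rw [if_pos hj, hj, central_v8_const hg i none, hs]
      · rw [if_neg hj, central_v8_off hg (Ne.symm hj)]
    rw [hv] at hd
    simp only [dotInt] at hd
    rw [Finset.sum_congr rfl (fun j _ => by rw [mul_ite, mul_zero]),
      Finset.sum_ite_eq' Finset.univ i (fun j => ((g.1 v : leechLattice) : GolayPt → ℤ) j * (8 * s)),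
      if_pos (Finset.mem_univ i)] at hd
    have h8 : ((g.1 v : leechLattice) : GolayPt → ℤ) i * s = (v : GolayPt → ℤ) i := by linarith
    have : ((g.1 v : leechLattice) : GolayPt → ℤ) i * (s * s) = s * (v : GolayPt → ℤ) i := by
      rw [← mul_assoc, h8, mul_comm]
    rw [hss, mul_one] at this
    exact this
  rcases central_v8_diag hg none with h | h
  · left
    have := key 1 (by rw [h]; norm_num) (by norm_num)
    apply Subtype.ext
    apply Equiv.ext
    intro v
    apply Subtype.ext
    rw [this v]
    funext i
    simp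
  · right
    have := key (-1) (by rw [h]; norm_num) (by norm_num)
    apply Subtype.ext
    apply Equiv.ext
    intro v
    apply Subtype.ext
    rw [this v]
    funext i
    show _ = ((-v : leechLattice) : GolayPt → ℤ) i
    simp

theorem negC_central (h : Co0) : h * negC = negC * h := by
  apply Subtype.ext
  apply Equiv.ext
  intro v
  show h.1 (negC.1 v) = negC.1 (h.1 v)
  rw [negC_apply, negC_apply, co0_neg]

theorem one_ne_negC : (1 : Co0) ≠ negC := by
  intro h
  have := congrArg (fun k : Co0 => ((k.1 (v8 none) : leechLattice) : GolayPt → ℤ) none) h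
  simp only [negC_apply] at this
  have e : ((-(v8 none) : leechLattice) : GolayPt → ℤ) none = -((v8 none : GolayPt → ℤ) none) := rfl
  have e1 : (((1 : Co0).1 (v8 none) : leechLattice) : GolayPt → ℤ) none = (v8 none : GolayPt → ℤ) none := rfl
  rw [e, e1, v8_apply, if_pos rfl] at this
  norm_num at this

/-- **The centre of the automorphism group has order 2.** -/
theorem card_center_Co0 : Nat.card (Subgroup.center Co0) = 2 := by
  rw [Nat.card_eq_two_iff]
  refine ⟨⟨1, Subgroup.one_mem _⟩, ⟨negC, Subgroup.mem_center_iff.mpr negC_central⟩, ?_, ?_⟩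
  · intro h
    exact one_ne_negC (congrArg Subtype.val h)
  · rw [Set.eq_univ_iff_forall]
    rintro ⟨g, hg⟩
    rcases central_eq (Subgroup.mem_center_iff.mp hg) with h | h
    · left; exact Subtype.ext h
    · right; exact Subtype.ext h

end Cfsg.Agent.Lib.Helper6.Leech
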