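import Cfsg.Agent.Lib.Helper6.LeechCount

/-!
# A computable membership test for the rank-24 lattice
-/

set_option autoImplicit false

namespace Cfsg.Agent.Lib.Helper6.Leech

open Cfsg
open Cfsg.Agent.Lib.Helper6.Golay

/-- the vector with the given list of coordinates -/
def vecOf (l : List ℤ) : GolayPt → ℤ := fun p => l.getD (idx p) 0

/-- the list of coordinates of a vector -/
def listOf (x : GolayPt → ℤ) : List ℤ := (List.range 24).map (fun i => x (pt i))

theorem getD_listOf (x : GolayPt → ℤ) {i : ℕ} (hi : i < 24) : (listOf x).getD i 0 = x (pt i) := by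
  simp [listOf, List.getD_eq_getElem?_getD, hi]

theorem vecOf_listOf (x : GolayPt → ℤ) : vecOf (listOf x) = x := by
  funext p
  rw [vecOf, getD_listOf x (idx_lt p), pt_idx]

theorem sum_golayPt (g : GolayPt → ℤ) : ∑ p, g p = ∑ i ∈ Finset.range 24, g (pt i) := by
  symm
  apply Finset.sum_nbij' (fun i => pt i) (fun p => idx p)
  · intro i _; exact Finset.mem_univ _
  · intro p _; exact Finset.mem_range.mpr (idx_lt p)
  · intro i hi; exact idx_pt i (Finset.mem_range.mp hi)
  · intro p _; exact pt_idx p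
  · intro i _; rfl

theorem list_sum_range (f : ℕ → ℤ) (n : ℕ) : ((List.range n).map f).sum = ∑ i ∈ Finset.range n, f i := by
  induction n with
  | zero => simp
  | succ n ih => rw [List.range_succ, List.map_append, List.sum_append, ih, Finset.sum_range_succ]; simp

/-- the mask of the positions with coordinate congruent to `k` modulo 4 -/
def maskK (l : List ℤ) (k : ℤ) : ℕ :=
  (List.range 24).foldr (fun i acc => if l.getD i 0 % 4 = k then acc ||| 2 ^ i else acc) 0

theorem testBit_maskK (l : List ℤ) (k : ℤ) (j : ℕ) :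
    (maskK l k).testBit j = true ↔ j < 24 ∧ l.getD j 0 % 4 = k := by
  rw [maskK, testBit_foldr_gen (fun i => l.getD i 0 % 4 = k) (fun i => i)]
  constructor
  · rintro ⟨i, hi, h, rfl⟩; exact ⟨List.mem_range.mp hi, h⟩
  · rintro ⟨hj, h⟩; exact ⟨j, List.mem_range.mpr hj, h, rfl⟩

theorem maskK_lt (l : List ℤ) (k : ℤ) : maskK l k < 2 ^ 24 := by
  apply Nat.lt_pow_two_of_testBit
  intro i hi
  rw [Bool.eq_false_iff]
  intro h
  have := ((testBit_maskK l k i).mp h).1
  omega

theorem fs_maskK (l : List ℤ) (k : ℤ) (hk : k % 4 = k) : fs (maskK l k) = cls (vecOf l) k := by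
  ext p
  rw [mem_fs, testBit_maskK, mem_cls, vecOf, hk]
  constructor
  · rintro ⟨_, h⟩; exact h
  · intro h; exact ⟨idx_lt p, h⟩

/-- the membership test -/
def inLeechL (l : List ℤ) : Bool :=
  (List.range 24).all (fun i => l.getD i 0 % 2 == l.getD 0 0 % 2) &&
  (((List.range 24).map (fun i => l.getD i 0)).sum % 8 == (4 * l.getD 0 0) % 8) &&
  inCode (maskK l 0) && inCode (maskK l 1) && inCode (maskK l 2) && inCode (maskK l 3)

theorem inLeechL_sound (l : List ℤ) (h : inLeechL l = true) : vecOf l ∈ leechSet := by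
  simp only [inLeechL, Bool.and_eq_true, List.all_eq_true, List.mem_range, beq_iff_eq] at h
  obtain ⟨⟨⟨⟨⟨h1, h2⟩, c0⟩, c1⟩, c2⟩, c3⟩ := h
  rw [mem_leechSet]
  refine ⟨l.getD 0 0, fun p => h1 (idx p) (idx_lt p), ?_, fun k => ?_⟩
  · rw [sum_golayPt]
    have : ∀ i ∈ Finset.range 24, vecOf l (pt i) = l.getD i 0 := by
      intro i hi
      rw [vecOf, idx_pt i (Finset.mem_range.mp hi)]
    rw [Finset.sum_congr rfl this, ← list_sum_range]
    exact h2
  · have hk : k % 4 = 0 ∨ k % 4 = 1 ∨ k % 4 = 2 ∨ k % 4 = 3 := by omega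
    have hcls : cls (vecOf l) k = cls (vecOf l) (k % 4) := by
      ext p; rw [mem_cls, mem_cls]; constructor <;> intro h <;> omega
    rw [hcls]
    rcases hk with hk | hk | hk | hk <;> rw [hk]
    · rw [← fs_maskK l 0 (by norm_num)]; exact (fs_mem_supports_iff (maskK_lt l 0)).mpr c0
    · rw [← fs_maskK l 1 (by norm_num)]; exact (fs_mem_supports_iff (maskK_lt l 1)).mpr c1
    · rw [← fs_maskK l 2 (by norm_num)]; exact (fs_mem_supports_iff (maskK_lt l 2)).mpr c2
    · rw [← fs_maskK l 3 (by norm_num)]; exact (fs_mem_supports_iff (maskK_lt l 3)).mpr c3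

/-- the membership test on vectors -/
def inLeechV (x : GolayPt → ℤ) : Bool := inLeechL (listOf x)

theorem inLeechV_sound (x : GolayPt → ℤ) (h : inLeechV x = true) : x ∈ leechLattice := by
  have := inLeechL_sound (listOf x) h
  rw [vecOf_listOf] at this
  exact mem_leechLattice.mpr this

end Cfsg.Agent.Lib.Helper6.Leech
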