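import Cfsg.Agent.Lib.Helper6.LeechCo0T48c0
import Cfsg.Agent.Lib.Helper6.LeechCo0T48c1
import Cfsg.Agent.Lib.Helper6.LeechCo0T48c2
import Cfsg.Agent.Lib.Helper6.LeechCo0T48c3
import Cfsg.Agent.Lib.Helper6.LeechCo0T48c4
import Cfsg.Agent.Lib.Helper6.LeechCo0T48c5
import Cfsg.Agent.Lib.Helper6.LeechCo0T48c6
import Cfsg.Agent.Lib.Helper6.LeechCo0T48c7
import Cfsg.Agent.Lib.Helper6.LeechCo0T48c8
import Cfsg.Agent.Lib.Helper6.LeechCo0T48c9
import Cfsg.Agent.Lib.Helper6.LeechCo0T48c10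
import Cfsg.Agent.Lib.Helper6.LeechCo0T48c11
import Cfsg.Agent.Lib.Helper6.LeechCo0T48c12
import Cfsg.Agent.Lib.Helper6.LeechCo0T48c13
import Cfsg.Agent.Lib.Helper6.LeechCo0T48c14
import Cfsg.Agent.Lib.Helper6.LeechCo0T48c15
import Cfsg.Agent.Lib.Helper6.LeechCo0T48c16
import Cfsg.Agent.Lib.Helper6.LeechCo0T48c17
import Cfsg.Agent.Lib.Helper6.LeechCo0T48c18
import Cfsg.Agent.Lib.Helper6.LeechCo0T48c19
import Cfsg.Agent.Lib.Helper6.LeechCo0T48c20
import Cfsg.Agent.Lib.Helper6.LeechCo0T48c21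
import Cfsg.Agent.Lib.Helper6.LeechCo0T48c22
import Cfsg.Agent.Lib.Helper6.LeechCo0T48c23
import Cfsg.Agent.Lib.Helper6.LeechCo0T48c24
import Cfsg.Agent.Lib.Helper6.LeechCo0T48c25
import Cfsg.Agent.Lib.Helper6.LeechCo0T48c26
import Cfsg.Agent.Lib.Helper6.LeechCo0T48c27
import Cfsg.Agent.Lib.Helper6.LeechCo0T48c28
import Cfsg.Agent.Lib.Helper6.LeechCo0T48c29
import Cfsg.Agent.Lib.Helper6.LeechCo0T48c30
import Cfsg.Agent.Lib.Helper6.LeechCo0T48c31
import Cfsg.Agent.Lib.Helper6.LeechCo0T48c32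
import Cfsg.Agent.Lib.Helper6.LeechCo0T48c33
import Cfsg.Agent.Lib.Helper6.LeechCo0T48c34
import Cfsg.Agent.Lib.Helper6.LeechCo0T48c35
import Cfsg.Agent.Lib.Helper6.LeechCo0T48c36
import Cfsg.Agent.Lib.Helper6.LeechCo0T48c37
import Cfsg.Agent.Lib.Helper6.LeechCo0T48c38

/-!
# Transitivity on the vectors of norm 48
-/

set_option autoImplicit false

namespace Cfsg.Agent.Lib.Helper6.Leech

open Cfsg
open Cfsg.Agent.Lib.Helper6.Golay

def co0T48Chunks : List Chunk := [co0T48Chunk0, co0T48Chunk1, co0T48Chunk2, co0T48Chunk3, co0T48Chunk4, co0T48Chunk5, co0T48Chunk6, co0T48Chunk7, co0T48Chunk8, co0T48Chunk9, co0T48Chunk10, co0T48Chunk11, co0T48Chunk12, co0T48Chunk13, co0T48Chunk14, co0T48Chunk15, co0T48Chunk16, co0T48Chunk17, co0T48Chunk18, co0T48Chunk19, co0T48Chunk20, co0T48Chunk21, co0T48Chunk22, co0T48Chunk23, co0T48Chunk24, co0T48Chunk25, co0T48Chunk26, co0T48Chunk27, co0T48Chunk28, co0T48Chunk29, co0T48Chunk30,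 co0T48Chunk31, co0T48Chunk32, co0T48Chunk33, co0T48Chunk34, co0T48Chunk35, co0T48Chunk36, co0T48Chunk37, co0T48Chunk38]

theorem co0T48Chunks_ok : ∀ c ∈ co0T48Chunks, checkChunk co0Perms [] 0 co0Gens co0Root48 c = true := by
  intro c hc
  simp only [co0T48Chunks, List.mem_cons, List.not_mem_nil, or_false] at hc
  rcases hc with rfl | rfl | rfl | rfl | rfl | rfl | rfl | rfl | rfl | rfl | rfl | rfl | rfl | rfl | rfl | rfl | rfl | rfl | rfl | rfl | rfl | rfl | rfl | rfl | rfl | rfl | rfl | rfl | rfl | rfl | rfl | rfl | rfl | rfl | rfl | rfl | rfl | rfl | rfl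
  · exact co0T48Chunk0_ok
  · exact co0T48Chunk1_ok
  · exact co0T48Chunk2_ok
  · exact co0T48Chunk3_ok
  · exact co0T48Chunk4_ok
  · exact co0T48Chunk5_ok
  · exact co0T48Chunk6_ok
  · exact co0T48Chunk7_ok
  · exact co0T48Chunk8_ok
  · exact co0T48Chunk9_ok
  · exact co0T48Chunk10_ok
  · exact co0T48Chunk11_ok
  · exact co0T48Chunk12_ok
  · exact co0T48Chunk13_ok
  · exact co0T48Chunk14_ok
  · exact co0T48Chunk15_ok
  · exact co0T48Chunk16_ok
  · exact co0T48Chunk17_ok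
  · exact co0T48Chunk18_ok
  · exact co0T48Chunk19_ok
  · exact co0T48Chunk20_ok
  · exact co0T48Chunk21_ok
  · exact co0T48Chunk22_ok
  · exact co0T48Chunk23_ok
  · exact co0T48Chunk24_ok
  · exact co0T48Chunk25_ok
  · exact co0T48Chunk26_ok
  · exact co0T48Chunk27_ok
  · exact co0T48Chunk28_ok
  · exact co0T48Chunk29_ok
  · exact co0T48Chunk30_ok
  · exact co0T48Chunk31_ok
  · exact co0T48Chunk32_ok
  · exact co0T48Chunk33_ok
  · exact co0T48Chunk34_ok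
  · exact co0T48Chunk35_ok
  · exact co0T48Chunk36_ok
  · exact co0T48Chunk37_ok
  · exact co0T48Chunk38_ok

set_option maxRecDepth 1000000 in
set_option maxHeartbeats 4000000 in
theorem co0T48Global_ok : checkGlobal co0T48Chunks 16773120 = true := by decide +kernel

/-- **The automorphism group is transitive on the vectors of norm 48.** -/
theorem co0_transitive_48 (v w : leechLattice) (hv : sqNorm (v : GolayPt → ℤ) = 48)
    (hw : sqNorm (w : GolayPt → ℤ) = 48) : ∃ g : Co0, g • v = w := by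
  set X : Set (GolayPt → ℤ) := {x | x ∈ leechLattice ∧ sqNorm x = 48} with hX
  have hN : X.ncard = 16773120 := ncard_norm48
  have hroot : vecOf co0Root48 ∈ X := by
    obtain ⟨h1, h2⟩ := co0Root48_ok
    refine ⟨mem_leechLattice.mpr (inLeechL_sound _ h1), ?_⟩
    rw [sqNorm_def, sum_golayPt]
    have : ∀ i ∈ Finset.range 24, vecOf co0Root48 (pt i) ^ 2 = co0Root48.getD i 0 ^ 2 := by
      intro i hi
      rw [vecOf, idx_pt i (Finset.mem_range.mp hi)]
    rw [Finset.sum_congr rfl this, ← list_sum_range]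
    exact h2
  have hinv : ∀ x y, ReachF [] x y → x ∈ X → y ∈ X := by
    rintro x y ⟨g, _, hxy⟩ ⟨hx, hxn⟩
    have hy := hxy hx
    refine ⟨?_, ?_⟩
    · rw [← hy]; exact (g.1 ⟨x, hx⟩).2
    · rw [← hy, co0_norm]; exact hxn
  have hcomp := orbit_complete_chunks co0Perms_rep co0Gens_ok 0 co0Root48 co0T48Chunks X 16773120 hN
    (by norm_num) hroot hinv co0T48Chunks_ok co0T48Global_ok
  obtain ⟨g1, _, h1⟩ := hcomp _ ⟨v.2, hv⟩
  obtain ⟨g2, _, h2⟩ := hcomp _ ⟨w.2, hw⟩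
  have hrootL : vecOf co0Root48 ∈ leechLattice := hroot.1
  have e1 : g1.1 ⟨vecOf co0Root48, hrootL⟩ = v := Subtype.ext (h1 hrootL)
  have e2 : g2.1 ⟨vecOf co0Root48, hrootL⟩ = w := Subtype.ext (h2 hrootL)
  refine ⟨g2 * g1⁻¹, ?_⟩
  show g2.1 (g1⁻¹.1 v) = w
  have : g1⁻¹.1 v = ⟨vecOf co0Root48, hrootL⟩ := by
    show g1.1.symm v = _
    rw [Equiv.symm_apply_eq, e1]
  rw [this, e2]

end Cfsg.Agent.Lib.Helper6.Leech
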