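import Cfsg.Agent.Lib.Helper6.LeechOrbit5

/-!
# Generators and root for the orbit certificate of the vectors of norm 48
-/

set_option autoImplicit false

namespace Cfsg.Agent.Lib.Helper6.Leech

open Cfsg
open Cfsg.Agent.Lib.Helper6.Golay

def co0Root48 : List ℤ := [5, 1, 1, 1, 1, 1, 1, 1, 1, 1, 1, 1, 1, 1, 1, 1, 1, 1, 1, 1, 1, 1, 1, 1]

def co0Perms : List (List ℕ) := [alphaL, gammaL, deltaL]

theorem co0Perms_rep : ∀ l ∈ co0Perms, Rep M24 l := by
  intro l hl
  have h : ∀ k, Rep M24 ((slpPerms []).getD k idl) := rep_slpPerms []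
  simp only [co0Perms, List.mem_cons, List.not_mem_nil, or_false] at hl
  rcases hl with rfl | rfl | rfl
  · exact h 0
  · exact h 1
  · exact h 2

def co0Gens : List (List Prim) := [[.perm alphaL], [.perm gammaL], [.perm deltaL], [.xi]]

theorem co0Gens_ok : checkGens co0Perms [] co0Gens = true := by decide +kernel

set_option maxRecDepth 100000 in
theorem co0Root48_ok : inLeechL co0Root48 = true ∧
    ((List.range 24).map (fun i => co0Root48.getD i 0 ^ 2)).sum = 48 := by decide +kernel

end Cfsg.Agent.Lib.Helper6.Leech
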