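import Cfsg.Agent.Lib.Helper6.LeechCo3Sub

/-!
# The orbits of the stabiliser of a pair on the 11178 vectors, as orbits of a subgroup
-/

set_option autoImplicit false

namespace Cfsg.Agent.Lib.Helper6.Leech

open Cfsg
open Cfsg.Agent.Lib.Helper6.Golay

/-- an orbit of the joint stabiliser of two vectors is a level set of an invariant function, given
transitivity on the level set -/
theorem orbit2_eq_level (u x : leechLattice) (S : Set leechLattice) (f : leechLattice → ℤ)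
    (hS : ∀ g : Co0, g • u = u → g • x = x → ∀ y ∈ S, g • y ∈ S)
    (hf : ∀ g : Co0, g • u = u → g • x = x → ∀ y, f (g • y) = f y)
    (y : leechLattice) (hy : y ∈ S)
    (htr : ∀ y' ∈ S, f y' = f y → ∃ g : Co0, g • u = u ∧ g • x = x ∧ g • y = y') :
    MulAction.orbit ↥(MulAction.stabilizer ↥Co0 u ⊓ MulAction.stabilizer ↥Co0 x) y =
      {y' | y' ∈ S ∧ f y' = f y} := by
  ext y'
  constructor
  · rintro ⟨⟨g, hg⟩, rfl⟩
    obtain ⟨h1, h2⟩ := Subgroup.mem_inf.mp hg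
    rw [MulAction.mem_stabilizer_iff] at h1 h2
    exact ⟨hS g h1 h2 y hy, hf g h1 h2 y⟩
  · rintro ⟨hy', hfy'⟩
    obtain ⟨g, h1, h2, h3⟩ := htr y' hy' hfy'
    exact ⟨⟨g, Subgroup.mem_inf.mpr ⟨MulAction.mem_stabilizer_iff.mpr h1,
      MulAction.mem_stabilizer_iff.mpr h2⟩⟩, h3⟩

/-- the same for the joint stabiliser of three vectors -/
theorem orbit3_eq_level (u v x : leechLattice) (S : Set leechLattice) (f : leechLattice → ℤ)
    (hS : ∀ g : Co0, g • u = u → g • v = v → g • x = x → ∀ y ∈ S, g • y ∈ S)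
    (hf : ∀ g : Co0, g • u = u → g • v = v → g • x = x → ∀ y, f (g • y) = f y)
    (y : leechLattice) (hy : y ∈ S)
    (htr : ∀ y' ∈ S, f y' = f y → ∃ g : Co0, g • u = u ∧ g • v = v ∧ g • x = x ∧ g • y = y') :
    MulAction.orbit ↥(MulAction.stabilizer ↥Co0 u ⊓ MulAction.stabilizer ↥Co0 v ⊓
      MulAction.stabilizer ↥Co0 x) y = {y' | y' ∈ S ∧ f y' = f y} := by
  ext y'
  constructor
  · rintro ⟨⟨g, hg⟩, rfl⟩
    obtain ⟨h12, h3⟩ := Subgroup.mem_inf.mp hg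
    obtain ⟨h1, h2⟩ := Subgroup.mem_inf.mp h12
    rw [MulAction.mem_stabilizer_iff] at h1 h2 h3
    exact ⟨hS g h1 h2 h3 y hy, hf g h1 h2 h3 y⟩
  · rintro ⟨hy', hfy'⟩
    obtain ⟨g, h1, h2, h3, h4⟩ := htr y' hy' hfy'
    exact ⟨⟨g, Subgroup.mem_inf.mpr ⟨Subgroup.mem_inf.mpr ⟨MulAction.mem_stabilizer_iff.mpr h1,
      MulAction.mem_stabilizer_iff.mpr h2⟩, MulAction.mem_stabilizer_iff.mpr h3⟩⟩, h4⟩

theorem smul_dot (g : Co0) (a b : leechLattice) :
    dotInt ((g • a : leechLattice) : GolayPt → ℤ) ((g • b : leechLattice) : GolayPt → ℤ) =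
      dotInt (a : GolayPt → ℤ) (b : GolayPt → ℤ) := co0_dot g a b

theorem smul_norm (g : Co0) (a : leechLattice) :
    sqNorm ((g • a : leechLattice) : GolayPt → ℤ) = sqNorm (a : GolayPt → ℤ) := co0_norm g a

/-- **The stabiliser of a vector of norm 48 has rank 5 on the 11178 minimal vectors, with suborbits
of lengths 1, 352, 1100, 4125 and 5600.** -/
theorem co3_suborbits (u x : leechLattice) (hu : sqNorm (u : GolayPt → ℤ) = 48)
    (hx : x ∈ {x : leechLattice | sqNorm (x : GolayPt → ℤ) = 32 ∧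
      dotInt (u : GolayPt → ℤ) (x : GolayPt → ℤ) = -16}) :
    ∃ y₁ ∈ {x : leechLattice | sqNorm (x : GolayPt → ℤ) = 32 ∧ dotInt (u : GolayPt → ℤ) (x : GolayPt → ℤ) = -16},
    ∃ y₂ ∈ {x : leechLattice | sqNorm (x : GolayPt → ℤ) = 32 ∧ dotInt (u : GolayPt → ℤ) (x : GolayPt → ℤ) = -16},
    ∃ y₃ ∈ {x : leechLattice | sqNorm (x : GolayPt → ℤ) = 32 ∧ dotInt (u : GolayPt → ℤ) (x : GolayPt → ℤ) = -16},
    ∃ y₄ ∈ {x : leechLattice | sqNorm (x : GolayPt → ℤ) = 32 ∧ dotInt (u : GolayPt → ℤ) (x : GolayPt → ℤ) = -16},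
      (MulAction.orbit ↥(MulAction.stabilizer ↥Co0 u ⊓ MulAction.stabilizer ↥Co0 x) y₁).ncard = 352 ∧
      (MulAction.orbit ↥(MulAction.stabilizer ↥Co0 u ⊓ MulAction.stabilizer ↥Co0 x) y₂).ncard = 1100 ∧
      (MulAction.orbit ↥(MulAction.stabilizer ↥Co0 u ⊓ MulAction.stabilizer ↥Co0 x) y₃).ncard = 4125 ∧
      (MulAction.orbit ↥(MulAction.stabilizer ↥Co0 u ⊓ MulAction.stabilizer ↥Co0 x) y₄).ncard = 5600 ∧
      {x : leechLattice | sqNorm (x : GolayPt → ℤ) = 32 ∧ dotInt (u : GolayPt → ℤ) (x : GolayPt → ℤ) = -16} =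
        {x} ∪ MulAction.orbit ↥(MulAction.stabilizer ↥Co0 u ⊓ MulAction.stabilizer ↥Co0 x) y₁ ∪
          MulAction.orbit ↥(MulAction.stabilizer ↥Co0 u ⊓ MulAction.stabilizer ↥Co0 x) y₂ ∪
          MulAction.orbit ↥(MulAction.stabilizer ↥Co0 u ⊓ MulAction.stabilizer ↥Co0 x) y₃ ∪
          MulAction.orbit ↥(MulAction.stabilizer ↥Co0 u ⊓ MulAction.stabilizer ↥Co0 x) y₄ := by
  obtain ⟨hx1, hx2⟩ := hx
  obtain ⟨hcnt, hcases, htr⟩ := co3sub_main u x hu hx1 hx2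
  set S : Set leechLattice := {x : leechLattice | sqNorm (x : GolayPt → ℤ) = 32 ∧
      dotInt (u : GolayPt → ℤ) (x : GolayPt → ℤ) = -16} with hSdef
  have hSinv : ∀ g : Co0, g • u = u → g • x = x → ∀ y ∈ S, g • y ∈ S := by
    rintro g hgu _ y ⟨h1, h2⟩
    refine ⟨(smul_norm g y).trans h1, ?_⟩
    have := smul_dot g u y
    rw [hgu] at this
    exact this.trans h2
  have hfinv : ∀ g : Co0, g • u = u → g • x = x → ∀ y : leechLattice,
      dotInt (x : GolayPt → ℤ) ((g • y : leechLattice) : GolayPt → ℤ) =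
        dotInt (x : GolayPt → ℤ) (y : GolayPt → ℤ) := by
    intro g _ hgx y
    have := smul_dot g x y
    rw [hgx] at this
    exact this
  -- one orbit for each value
  have horb : ∀ (k : ℤ) (n : ℕ), k ≠ 32 → 0 < n →
      {y : leechLattice | (sqNorm (y : GolayPt → ℤ) = 32 ∧
        dotInt (u : GolayPt → ℤ) (y : GolayPt → ℤ) = -16) ∧
        dotInt (x : GolayPt → ℤ) (y : GolayPt → ℤ) = k}.ncard = n →
      ∃ y ∈ S, dotInt (x : GolayPt → ℤ) (y : GolayPt → ℤ) = k ∧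
        MulAction.orbit ↥(MulAction.stabilizer ↥Co0 u ⊓ MulAction.stabilizer ↥Co0 x) y =
          {y' | y' ∈ S ∧ dotInt (x : GolayPt → ℤ) (y' : GolayPt → ℤ) = k} ∧
        (MulAction.orbit ↥(MulAction.stabilizer ↥Co0 u ⊓ MulAction.stabilizer ↥Co0 x) y).ncard = n := by
    intro k n hk32 hn hc
    have hne : {y : leechLattice | (sqNorm (y : GolayPt → ℤ) = 32 ∧
        dotInt (u : GolayPt → ℤ) (y : GolayPt → ℤ) = -16) ∧
        dotInt (x : GolayPt → ℤ) (y : GolayPt → ℤ) = k}.Nonempty := by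
      apply Set.nonempty_of_ncard_ne_zero
      rw [hc]; exact Nat.pos_iff_ne_zero.mp hn
    obtain ⟨y, hyS, hyk⟩ := hne
    have hyx : y ≠ x := by
      rintro rfl
      rw [dot_self, hx1] at hyk
      exact hk32 hyk.symm
    have heq := orbit2_eq_level u x S (fun y => dotInt (x : GolayPt → ℤ) (y : GolayPt → ℤ)) hSinv hfinv y hyS
      (fun y' hy' hff => htr y y' hyS hy' hyx hff.symm)
    simp only [hyk] at heq
    refine ⟨y, hyS, hyk, heq, ?_⟩
    rw [heq, ← hc]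
    rfl
  obtain ⟨y1, hy1S, hy1k, ho1, hn1⟩ := horb (-8) 352 (by norm_num) (by norm_num)
    (hcnt _ _ (Or.inl ⟨rfl, rfl⟩))
  obtain ⟨y2, hy2S, hy2k, ho2, hn2⟩ := horb 16 1100 (by norm_num) (by norm_num)
    (hcnt _ _ (Or.inr (Or.inl ⟨rfl, rfl⟩)))
  obtain ⟨y3, hy3S, hy3k, ho3, hn3⟩ := horb 0 4125 (by norm_num) (by norm_num)
    (hcnt _ _ (Or.inr (Or.inr (Or.inl ⟨rfl, rfl⟩))))
  obtain ⟨y4, hy4S, hy4k, ho4, hn4⟩ := horb 8 5600 (by norm_num) (by norm_num)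
    (hcnt _ _ (Or.inr (Or.inr (Or.inr ⟨rfl, rfl⟩))))
  refine ⟨y1, hy1S, y2, hy2S, y3, hy3S, y4, hy4S, hn1, hn2, hn3, hn4, ?_⟩
  rw [ho1, ho2, ho3, ho4]
  ext y
  simp only [Set.mem_union, Set.mem_singleton_iff]
  constructor
  · intro hy
    rcases hcases y hy with h | h | h | h | h
    · exact Or.inl (Or.inl (Or.inl (Or.inl h)))
    · exact Or.inl (Or.inl (Or.inl (Or.inr ⟨hy, h⟩)))
    · exact Or.inl (Or.inl (Or.inr ⟨hy, h⟩))
    · exact Or.inl (Or.inr ⟨hy, h⟩)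
    · exact Or.inr ⟨hy, h⟩
  · rintro ((((h | h) | h) | h) | h)
    · rw [h]; exact ⟨hx1, hx2⟩
    · exact h.1
    · exact h.1
    · exact h.1
    · exact h.1

end Cfsg.Agent.Lib.Helper6.Leech
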