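import Cfsg.Agent.Lib.Helper6.LeechMcL3
import Cfsg.Agent.Lib.Helper6.LeechCo3Sub2

/-!
# The 2025 minimal vectors attached to a pair of minimal vectors with inner product `-8`
-/

set_option autoImplicit false

namespace Cfsg.Agent.Lib.Helper6.Leech

open Cfsg
open Cfsg.Agent.Lib.Helper6.Golay
open Cfsg.Agent.Lib.Helper6.LeechCount

theorem mem_mclS_of (g : Co0) (u v y : leechLattice) (hgu : g.1 u = u0) (hgv : g.1 v = v0')
    (hy : sqNorm (y : GolayPt → ℤ) = 32) (h1 : dotInt (u : GolayPt → ℤ) (y : GolayPt → ℤ) = 16)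
    (h2 : dotInt (v : GolayPt → ℤ) (y : GolayPt → ℤ) = 0) :
    ((g.1 y : leechLattice) : GolayPt → ℤ) ∈ mclS := by
  refine ⟨(g.1 y).2, ?_, ?_, ?_⟩
  · rw [co0_norm]; exact hy
  · have := co0_dot g u y
    rw [hgu] at this
    exact this.trans h1
  · have := co0_dot g v y
    rw [hgv] at this
    exact this.trans h2

theorem of_mem_mclS (g : Co0) (u v y : leechLattice) (hgu : g.1 u = u0) (hgv : g.1 v = v0')
    (h : ((g.1 y : leechLattice) : GolayPt → ℤ) ∈ mclS) :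
    sqNorm (y : GolayPt → ℤ) = 32 ∧ dotInt (u : GolayPt → ℤ) (y : GolayPt → ℤ) = 16 ∧
      dotInt (v : GolayPt → ℤ) (y : GolayPt → ℤ) = 0 := by
  obtain ⟨_, h1, h2, h3⟩ := h
  refine ⟨?_, ?_, ?_⟩
  · rw [← co0_norm g]; exact h1
  · rw [← co0_dot g, hgu]; exact h2
  · rw [← co0_dot g, hgv]; exact h3

/-- the 2025 vectors attached to a pair of type (3, 2), and the transitivity on them -/
theorem mcl3_main_a (u v : leechLattice) (hu : sqNorm (u : GolayPt → ℤ) = 48)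
    (hv : sqNorm (v : GolayPt → ℤ) = 32) (hd : dotInt (u : GolayPt → ℤ) (v : GolayPt → ℤ) = 24) :
    {y : leechLattice | sqNorm (y : GolayPt → ℤ) = 32 ∧ dotInt (u : GolayPt → ℤ) (y : GolayPt → ℤ) = 16 ∧
      dotInt (v : GolayPt → ℤ) (y : GolayPt → ℤ) = 0}.ncard = 2025 ∧
    ∀ y y' : leechLattice, (sqNorm (y : GolayPt → ℤ) = 32 ∧ dotInt (u : GolayPt → ℤ) (y : GolayPt → ℤ) = 16 ∧
      dotInt (v : GolayPt → ℤ) (y : GolayPt → ℤ) = 0) →
      (sqNorm (y' : GolayPt → ℤ) = 32 ∧ dotInt (u : GolayPt → ℤ) (y' : GolayPt → ℤ) = 16 ∧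
      dotInt (v : GolayPt → ℤ) (y' : GolayPt → ℤ) = 0) →
      ∃ g : Co0, g • u = u ∧ g • v = v ∧ g • y = y' := by
  obtain ⟨g0, hgu, hgv⟩ := exists_to_u0v0 u v hu hv hd
  refine ⟨?_, ?_⟩
  · rw [ncard_transport g0 _ (fun y => (y : GolayPt → ℤ) ∈ mclS)]
    · rw [ncard_subtype_eq (fun y => y ∈ mclS), ← mclS_ncard]
      congr 1
      ext y
      exact ⟨fun h => h.2, fun h => ⟨h.1, h⟩⟩
    · intro y
      constructor
      · rintro ⟨h1, h2, h3⟩
        exact mem_mclS_of g0 u v y hgu hgv h1 h2 h3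
      · intro h
        exact of_mem_mclS g0 u v y hgu hgv h
  · rintro y y' ⟨h1, h2, h3⟩ ⟨h1', h2', h3'⟩
    obtain ⟨h, hfu, hfv, hm⟩ := mclS_transitive_ref (g0.1 y) (g0.1 y')
      (mem_mclS_of g0 u v y hgu hgv h1 h2 h3) (mem_mclS_of g0 u v y' hgu hgv h1' h2' h3')
    refine ⟨g0⁻¹ * h * g0, conj_back g0 h u u ?_, conj_back g0 h v v ?_, conj_back g0 h y y' hm⟩
    · rw [hgu]; exact hfu
    · rw [hgv]; exact hfv

/-- every triple of the given type is conjugate to the reference triple -/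
theorem exists_to_ref3_mclS (u v x : leechLattice) (hu : sqNorm (u : GolayPt → ℤ) = 48)
    (hv : sqNorm (v : GolayPt → ℤ) = 32) (hd : dotInt (u : GolayPt → ℤ) (v : GolayPt → ℤ) = 24)
    (hx : sqNorm (x : GolayPt → ℤ) = 32) (hux : dotInt (u : GolayPt → ℤ) (x : GolayPt → ℤ) = 16)
    (hvx : dotInt (v : GolayPt → ℤ) (x : GolayPt → ℤ) = 0) :
    ∃ g : Co0, g.1 u = u0 ∧ g.1 v = v0' ∧ g.1 x = xm' := by
  obtain ⟨g0, hgu, hgv⟩ := exists_to_u0v0 u v hu hv hd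
  obtain ⟨h, hfu, hfv, hm⟩ := mclS_transitive_ref (g0.1 x) xm'
    (mem_mclS_of g0 u v x hgu hgv hx hux hvx) xm'_mem_mclS
  refine ⟨h * g0, ?_, ?_, ?_⟩
  · show h.1 (g0.1 u) = u0
    rw [hgu]; exact hfu
  · show h.1 (g0.1 v) = v0'
    rw [hgv]; exact hfv
  · exact hm

theorem mem_mclOrb_of (g : Co0) (u v x y : leechLattice) (hgu : g.1 u = u0) (hgv : g.1 v = v0')
    (hgx : g.1 x = xm') (k : ℤ)
    (hy : sqNorm (y : GolayPt → ℤ) = 32) (h1 : dotInt (u : GolayPt → ℤ) (y : GolayPt → ℤ) = 16)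
    (h2 : dotInt (v : GolayPt → ℤ) (y : GolayPt → ℤ) = 0)
    (h3 : dotInt (x : GolayPt → ℤ) (y : GolayPt → ℤ) = k) :
    ((g.1 y : leechLattice) : GolayPt → ℤ) ∈ mclOrb k := by
  refine ⟨mem_mclS_of g u v y hgu hgv hy h1 h2, ?_⟩
  have := co0_dot g x y
  rw [hgx] at this
  exact this.trans h3

theorem of_mem_mclOrb (g : Co0) (u v x y : leechLattice) (hgu : g.1 u = u0) (hgv : g.1 v = v0')
    (hgx : g.1 x = xm') (k : ℤ) (h : ((g.1 y : leechLattice) : GolayPt → ℤ) ∈ mclOrb k) :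
    (sqNorm (y : GolayPt → ℤ) = 32 ∧ dotInt (u : GolayPt → ℤ) (y : GolayPt → ℤ) = 16 ∧
      dotInt (v : GolayPt → ℤ) (y : GolayPt → ℤ) = 0) ∧
      dotInt (x : GolayPt → ℤ) (y : GolayPt → ℤ) = k := by
  obtain ⟨h1, h4⟩ := h
  refine ⟨of_mem_mclS g u v y hgu hgv h1, ?_⟩
  rw [← co0_dot g, hgx]; exact h4

/-- the suborbits of the stabiliser of a triple on the 2025 vectors -/
theorem mcl3_main_b (u v x : leechLattice) (hu : sqNorm (u : GolayPt → ℤ) = 48)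
    (hv : sqNorm (v : GolayPt → ℤ) = 32) (hd : dotInt (u : GolayPt → ℤ) (v : GolayPt → ℤ) = 24)
    (hx : sqNorm (x : GolayPt → ℤ) = 32) (hux : dotInt (u : GolayPt → ℤ) (x : GolayPt → ℤ) = 16)
    (hvx : dotInt (v : GolayPt → ℤ) (x : GolayPt → ℤ) = 0) :
    (∀ (k : ℤ) (n : ℕ), (k = 0 ∧ n = 330) ∨ (k = 16 ∧ n = 462) ∨ (k = 8 ∧ n = 1232) →
      {y : leechLattice | (sqNorm (y : GolayPt → ℤ) = 32 ∧
        dotInt (u : GolayPt → ℤ) (y : GolayPt → ℤ) = 16 ∧ dotInt (v : GolayPt → ℤ) (y : GolayPt → ℤ) = 0) ∧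
        dotInt (x : GolayPt → ℤ) (y : GolayPt → ℤ) = k}.ncard = n) ∧
    ∀ y y' : leechLattice, (sqNorm (y : GolayPt → ℤ) = 32 ∧ dotInt (u : GolayPt → ℤ) (y : GolayPt → ℤ) = 16 ∧
      dotInt (v : GolayPt → ℤ) (y : GolayPt → ℤ) = 0) →
      (sqNorm (y' : GolayPt → ℤ) = 32 ∧ dotInt (u : GolayPt → ℤ) (y' : GolayPt → ℤ) = 16 ∧
      dotInt (v : GolayPt → ℤ) (y' : GolayPt → ℤ) = 0) → y ≠ x →
      dotInt (x : GolayPt → ℤ) (y : GolayPt → ℤ) = dotInt (x : GolayPt → ℤ) (y' : GolayPt → ℤ) →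
      ∃ g : Co0, g • u = u ∧ g • v = v ∧ g • x = x ∧ g • y = y' := by
  obtain ⟨g0, hgu, hgv, hgx⟩ := exists_to_ref3_mclS u v x hu hv hd hx hux hvx
  refine ⟨?_, ?_⟩
  · intro k n hkn
    have hcount : (mclOrb k).ncard = n := by
      rcases hkn with ⟨rfl, rfl⟩ | ⟨rfl, rfl⟩ | ⟨rfl, rfl⟩
      · exact mclOrb_ncard _ _ co3B_counts.2.2.2.2.2.2.1
      · exact mclOrb_ncard _ _ co3B_counts.2.2.2.2.2.2.2.1
      · exact mclOrb_ncard _ _ co3B_counts.2.2.2.2.2.2.2.2.1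
    rw [ncard_transport g0 _ (fun y => (y : GolayPt → ℤ) ∈ mclOrb k)]
    · rw [ncard_subtype_eq (fun y => y ∈ mclOrb k), ← hcount]
      congr 1
      ext y
      exact ⟨fun h => h.2, fun h => ⟨h.1.1, h⟩⟩
    · intro y
      constructor
      · rintro ⟨⟨h1, h2, h3⟩, h4⟩
        exact mem_mclOrb_of g0 u v x y hgu hgv hgx k h1 h2 h3 h4
      · intro h
        exact of_mem_mclOrb g0 u v x y hgu hgv hgx k h
  · rintro y y' ⟨h1, h2, h3⟩ ⟨h1', h2', h3'⟩ hyx hdd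
    have hm := mem_mclOrb_of g0 u v x y hgu hgv hgx _ h1 h2 h3 rfl
    have hm' := mem_mclOrb_of g0 u v x y' hgu hgv hgx _ h1' h2' h3' hdd.symm
    have hk : dotInt (x : GolayPt → ℤ) (y : GolayPt → ℤ) = 0 ∨ dotInt (x : GolayPt → ℤ) (y : GolayPt → ℤ) = 16 ∨
        dotInt (x : GolayPt → ℤ) (y : GolayPt → ℤ) = 8 := by
      have hc := mclS_dot_cases _ hm.1
      have e : dotInt (vecOf xmL) ((g0.1 y : leechLattice) : GolayPt → ℤ) =
          dotInt (x : GolayPt → ℤ) (y : GolayPt → ℤ) := hm.2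
      rw [e] at hc
      rcases hc with hc | hc | hc | hc
      · exact Or.inl hc
      · exact Or.inr (Or.inl hc)
      · exact Or.inr (Or.inr hc)
      · exfalso
        apply hyx
        have := eq_of_dot_32 hx h1 hc
        exact (Subtype.ext this).symm
    obtain ⟨h, hfu, hfv, hfx, hmm⟩ := mclOrb_transitive_ref _ hk (g0.1 y) (g0.1 y') hm hm'
    refine ⟨g0⁻¹ * h * g0, conj_back g0 h u u ?_, conj_back g0 h v v ?_, conj_back g0 h x x ?_,
      conj_back g0 h y y' hmm⟩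
    · rw [hgu]; exact hfu
    · rw [hgv]; exact hfv
    · rw [hgx]; exact hfx

theorem dotInt_add_left (x y z : GolayPt → ℤ) : dotInt (x + y) z = dotInt x z + dotInt y z := by
  simp only [dotInt, Pi.add_apply, add_mul, Finset.sum_add_distrib]

/-- **The 2025 minimal vectors attached to a pair of minimal vectors with inner product `-8`: the
stabiliser of the pair is transitive on them, with suborbits of lengths 330, 462 and 1232.** -/
theorem mcl_2025 (v w : leechLattice) (hv : sqNorm (v : GolayPt → ℤ) = 32)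
    (hw : sqNorm (w : GolayPt → ℤ) = 32) (hvw : dotInt (v : GolayPt → ℤ) (w : GolayPt → ℤ) = -8) :
    {x : leechLattice | sqNorm (x : GolayPt → ℤ) = 32 ∧ dotInt (v : GolayPt → ℤ) (x : GolayPt → ℤ) = 0 ∧
      dotInt (w : GolayPt → ℤ) (x : GolayPt → ℤ) = 16}.ncard = 2025 ∧
    (∀ x ∈ {x : leechLattice | sqNorm (x : GolayPt → ℤ) = 32 ∧ dotInt (v : GolayPt → ℤ) (x : GolayPt → ℤ) = 0 ∧
      dotInt (w : GolayPt → ℤ) (x : GolayPt → ℤ) = 16},
      ∀ x' ∈ {x : leechLattice | sqNorm (x : GolayPt → ℤ) = 32 ∧ dotInt (v : GolayPt → ℤ) (x : GolayPt → ℤ) = 0 ∧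
      dotInt (w : GolayPt → ℤ) (x : GolayPt → ℤ) = 16}, ∃ g : Co0, g • v = v ∧ g • w = w ∧ g • x = x') ∧
    ∀ x ∈ {x : leechLattice | sqNorm (x : GolayPt → ℤ) = 32 ∧ dotInt (v : GolayPt → ℤ) (x : GolayPt → ℤ) = 0 ∧
      dotInt (w : GolayPt → ℤ) (x : GolayPt → ℤ) = 16},
      ∃ y₁ ∈ {x : leechLattice | sqNorm (x : GolayPt → ℤ) = 32 ∧ dotInt (v : GolayPt → ℤ) (x : GolayPt → ℤ) = 0 ∧
        dotInt (w : GolayPt → ℤ) (x : GolayPt → ℤ) = 16},
      ∃ y₂ ∈ {x : leechLattice | sqNorm (x : GolayPt → ℤ) = 32 ∧ dotInt (v : GolayPt → ℤ) (x : GolayPt → ℤ) = 0 ∧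
        dotInt (w : GolayPt → ℤ) (x : GolayPt → ℤ) = 16},
      ∃ y₃ ∈ {x : leechLattice | sqNorm (x : GolayPt → ℤ) = 32 ∧ dotInt (v : GolayPt → ℤ) (x : GolayPt → ℤ) = 0 ∧
        dotInt (w : GolayPt → ℤ) (x : GolayPt → ℤ) = 16},
        (MulAction.orbit ↥(MulAction.stabilizer ↥Co0 v ⊓ MulAction.stabilizer ↥Co0 w ⊓
          MulAction.stabilizer ↥Co0 x) y₁).ncard = 330 ∧
        (MulAction.orbit ↥(MulAction.stabilizer ↥Co0 v ⊓ MulAction.stabilizer ↥Co0 w ⊓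
          MulAction.stabilizer ↥Co0 x) y₂).ncard = 462 ∧
        (MulAction.orbit ↥(MulAction.stabilizer ↥Co0 v ⊓ MulAction.stabilizer ↥Co0 w ⊓
          MulAction.stabilizer ↥Co0 x) y₃).ncard = 1232 := by
  -- the vector of norm 48
  set u : leechLattice := v + w with hudef
  have hucoe : (u : GolayPt → ℤ) = (v : GolayPt → ℤ) + (w : GolayPt → ℤ) := rfl
  have hu : sqNorm (u : GolayPt → ℤ) = 48 := by rw [hucoe, sqNorm_add, hv, hw, hvw]; norm_num
  have hd : dotInt (u : GolayPt → ℤ) (v : GolayPt → ℤ) = 24 := by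
    rw [hucoe, dotInt_add_left, dot_self, hv, dotInt_comm, hvw]; norm_num
  have hdu : ∀ y : GolayPt → ℤ, dotInt (u : GolayPt → ℤ) y = dotInt (v : GolayPt → ℤ) y +
      dotInt (w : GolayPt → ℤ) y := fun y => by rw [hucoe, dotInt_add_left]
  -- conversion of the conditions
  have hA : ∀ y : leechLattice, (sqNorm (y : GolayPt → ℤ) = 32 ∧ dotInt (v : GolayPt → ℤ) (y : GolayPt → ℤ) = 0 ∧
      dotInt (w : GolayPt → ℤ) (y : GolayPt → ℤ) = 16) ↔
      (sqNorm (y : GolayPt → ℤ) = 32 ∧ dotInt (u : GolayPt → ℤ) (y : GolayPt → ℤ) = 16 ∧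
      dotInt (v : GolayPt → ℤ) (y : GolayPt → ℤ) = 0) := by
    intro y
    rw [hdu]
    constructor
    · rintro ⟨h1, h2, h3⟩
      exact ⟨h1, by omega, h2⟩
    · rintro ⟨h1, h2, h3⟩
      exact ⟨h1, h3, by omega⟩
  -- conversion of the stabilisers
  have hfix : ∀ g : Co0, (g • v = v ∧ g • w = w) ↔ (g • u = u ∧ g • v = v) := by
    intro g
    constructor
    · rintro ⟨h1, h2⟩
      refine ⟨?_, h1⟩
      show g.1 (v + w) = v + w
      rw [co0_add]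
      have e1 : g.1 v = v := h1
      have e2 : g.1 w = w := h2
      rw [e1, e2]
    · rintro ⟨h1, h2⟩
      refine ⟨h2, ?_⟩
      have e1 : g.1 (v + w) = v + w := h1
      have e2 : g.1 v = v := h2
      rw [co0_add, e2] at e1
      exact add_left_cancel e1
  obtain ⟨hcard, htr⟩ := mcl3_main_a u v hu hv hd
  set S : Set leechLattice := {x : leechLattice | sqNorm (x : GolayPt → ℤ) = 32 ∧
    dotInt (v : GolayPt → ℤ) (x : GolayPt → ℤ) = 0 ∧ dotInt (w : GolayPt → ℤ) (x : GolayPt → ℤ) = 16} with hSdef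
  refine ⟨?_, ?_, ?_⟩
  · rw [← hcard]
    congr 1
    ext y
    exact hA y
  · intro x hx x' hx'
    obtain ⟨g, h1, h2, h3⟩ := htr x x' ((hA x).mp hx) ((hA x').mp hx')
    exact ⟨g, ((hfix g).mpr ⟨h1, h2⟩).1, ((hfix g).mpr ⟨h1, h2⟩).2, h3⟩
  · intro x hx
    obtain ⟨hx1, hx2, hx3⟩ := (hA x).mp hx
    obtain ⟨hcnt, htr3⟩ := mcl3_main_b u v x hu hv hd hx1 hx2 hx3
    have hSinv : ∀ g : Co0, g • v = v → g • w = w → g • x = x → ∀ y ∈ S, g • y ∈ S := by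
      rintro g hgv hgw _ y ⟨h1, h2, h3⟩
      refine ⟨(smul_norm g y).trans h1, ?_, ?_⟩
      · have := smul_dot g v y
        rw [hgv] at this
        exact this.trans h2
      · have := smul_dot g w y
        rw [hgw] at this
        exact this.trans h3
    have hfinv : ∀ g : Co0, g • v = v → g • w = w → g • x = x → ∀ y : leechLattice,
        dotInt (x : GolayPt → ℤ) ((g • y : leechLattice) : GolayPt → ℤ) =
          dotInt (x : GolayPt → ℤ) (y : GolayPt → ℤ) := by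
      intro g _ _ hgx y
      have := smul_dot g x y
      rw [hgx] at this
      exact this
    have horb : ∀ (k : ℤ) (n : ℕ), k ≠ 32 → 0 < n →
        {y : leechLattice | (sqNorm (y : GolayPt → ℤ) = 32 ∧
          dotInt (u : GolayPt → ℤ) (y : GolayPt → ℤ) = 16 ∧ dotInt (v : GolayPt → ℤ) (y : GolayPt → ℤ) = 0) ∧
          dotInt (x : GolayPt → ℤ) (y : GolayPt → ℤ) = k}.ncard = n →
        ∃ y ∈ S, (MulAction.orbit ↥(MulAction.stabilizer ↥Co0 v ⊓ MulAction.stabilizer ↥Co0 w ⊓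
          MulAction.stabilizer ↥Co0 x) y).ncard = n := by
      intro k n hk32 hn hc
      have hne : {y : leechLattice | (sqNorm (y : GolayPt → ℤ) = 32 ∧
          dotInt (u : GolayPt → ℤ) (y : GolayPt → ℤ) = 16 ∧ dotInt (v : GolayPt → ℤ) (y : GolayPt → ℤ) = 0) ∧
          dotInt (x : GolayPt → ℤ) (y : GolayPt → ℤ) = k}.Nonempty := by
        apply Set.nonempty_of_ncard_ne_zero
        rw [hc]; exact Nat.pos_iff_ne_zero.mp hn
      obtain ⟨y, hyA, hyk⟩ := hne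
      have hyS : y ∈ S := (hA y).mpr hyA
      have hyx : y ≠ x := by
        rintro rfl
        rw [dot_self, hx1] at hyk
        exact hk32 hyk.symm
      have heq := orbit3_eq_level v w x S (fun y => dotInt (x : GolayPt → ℤ) (y : GolayPt → ℤ)) hSinv hfinv y hyS
        (fun y' hy' hff => by
          obtain ⟨g, h1, h2, h3, h4⟩ := htr3 y y' hyA ((hA y').mp hy') hyx hff.symm
          exact ⟨g, ((hfix g).mpr ⟨h1, h2⟩).1, ((hfix g).mpr ⟨h1, h2⟩).2, h3, h4⟩)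
      simp only [hyk] at heq
      refine ⟨y, hyS, ?_⟩
      rw [heq, ← hc]
      congr 1
      ext y'
      exact and_congr_left' (hA y')
    obtain ⟨y1, hy1, hn1⟩ := horb 0 330 (by norm_num) (by norm_num) (hcnt _ _ (Or.inl ⟨rfl, rfl⟩))
    obtain ⟨y2, hy2, hn2⟩ := horb 16 462 (by norm_num) (by norm_num) (hcnt _ _ (Or.inr (Or.inl ⟨rfl, rfl⟩)))
    obtain ⟨y3, hy3, hn3⟩ := horb 8 1232 (by norm_num) (by norm_num) (hcnt _ _ (Or.inr (Or.inr ⟨rfl, rfl⟩)))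
    exact ⟨y1, hy1, y2, hy2, y3, hy3, hn1, hn2, hn3⟩

end Cfsg.Agent.Lib.Helper6.Leech
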