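import Cfsg.Agent.Lib.Helper6.LeechSimpleHS
import Cfsg.Agent.Lib.Helper6.LeechMcL4

/-!
# The stabiliser of two minimal vectors with inner product -8 is simple of order 898128000
-/

set_option autoImplicit false

namespace Cfsg.Agent.Lib.Helper6.Leech

open Cfsg MulAction
open Cfsg.Agent.Lib.Helper6.Golay Cfsg.Agent.Lib.Helper6.SimpleAct

/-- the stabiliser of the reference pair -/
def mclRef : Subgroup Co0 := stabilizer Co0 u0 ⊓ stabilizer Co0 v0'

/-- the 2025 points of the reference pair -/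
def mclPts : Set leechLattice :=
  {y | sqNorm (y : GolayPt → ℤ) = 32 ∧ dotInt (u0 : GolayPt → ℤ) (y : GolayPt → ℤ) = 16 ∧
    dotInt (v0' : GolayPt → ℤ) (y : GolayPt → ℤ) = 0}

theorem mclPts_ncard : mclPts.ncard = 2025 := (mcl3_main_a u0 v0' u0L_norm v0L_norm u0_v0_dot).1

theorem xm_mem_mclPts : xm' ∈ mclPts := ⟨xmL_norm, u0_xm_dot, v0_xm_dot⟩

theorem x0'_eq : x0' = v0' := Subtype.ext rfl

theorem xm_apply (k : GolayPt) : (xm' : GolayPt → ℤ) k = if k = some 0 then -4 else if k = none then 4 else 0 := by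
  show vecOf xmL k = _
  revert k; decide

theorem w1_eq_xm : w1' = xm' + -u0 := by
  apply Subtype.ext
  funext k
  show (w1' : GolayPt → ℤ) k = (xm' : GolayPt → ℤ) k + -(u0 : GolayPt → ℤ) k
  rw [w1_apply, u0_apply, xm_apply]
  revert k; decide

theorem xm_eq_w1 : xm' = w1' + u0 := by
  rw [w1_eq_xm]; abel

theorem mclRef_inf : mclRef ⊓ stabilizer Co0 xm' = hs3Sub := by
  ext g
  rw [mem_hs3Sub, Subgroup.mem_inf]
  constructor
  · rintro ⟨⟨h1, h2⟩, h3⟩
    have e1 : g.1 u0 = u0 := h1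
    have e2 : g.1 v0' = v0' := h2
    have e3 : g.1 xm' = xm' := h3
    refine ⟨e1, ?_, ?_⟩
    · rw [w1_eq_xm, co0_add, co0_neg, e1, e3]
    · rw [x0'_eq]; exact e2
  · rintro ⟨e1, e2, e3⟩
    refine ⟨⟨e1, ?_⟩, ?_⟩
    · show g.1 v0' = v0'
      rw [← x0'_eq]; exact e3
    · show g.1 xm' = xm'
      rw [xm_eq_w1, co0_add, e1, e2]

theorem mclPts_inv {g : Co0} (hg : g ∈ mclRef) {x : leechLattice} (hx : x ∈ mclPts) : g.1 x ∈ mclPts := by
  obtain ⟨h1, h2, h3⟩ := hx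
  have e1 : g.1 u0 = u0 := hg.1
  have e2 : g.1 v0' = v0' := hg.2
  refine ⟨(co0_norm g x).trans h1, ?_, ?_⟩
  · have := co0_dot g u0 x
    rw [e1] at this
    exact this.trans h2
  · have := co0_dot g v0' x
    rw [e2] at this
    exact this.trans h3

theorem mclRef_transitive {x y : leechLattice} (hx : x ∈ mclPts) (hy : y ∈ mclPts) :
    ∃ g ∈ mclRef, g.1 x = y := by
  obtain ⟨g, h1, h2, h3⟩ := (mcl3_main_a u0 v0' u0L_norm v0L_norm u0_v0_dot).2 x y hx hy
  exact ⟨g, ⟨h1, h2⟩, h3⟩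

/-- **The stabiliser of the reference pair has order 898128000.** -/
theorem card_mclRef : Nat.card mclRef = 898128000 := by
  rw [card_eq_orbit_mul_stab mclRef mclPts xm' (fun k hk => mclPts_inv hk xm_mem_mclPts)
    (fun y hy => mclRef_transitive xm_mem_mclPts hy), mclPts_ncard, mclRef_inf, card_hs3Sub]

/-- **The stabiliser of the reference pair is simple.** -/
theorem isSimpleGroup_mclRef : IsSimpleGroup mclRef := by
  have : Finite mclRef := Nat.finite_of_card_ne_zero (by rw [card_mclRef]; norm_num)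
  obtain ⟨hcnt, htr⟩ := mcl3_main_b u0 v0' xm' u0L_norm v0L_norm u0_v0_dot xm_mem_mclPts.1
    xm_mem_mclPts.2.1 xm_mem_mclPts.2.2
  have hfin : mclPts.Finite := Set.finite_of_ncard_ne_zero (by rw [mclPts_ncard]; norm_num)
  have hsimple : IsSimpleGroup ↥(mclRef ⊓ stabilizer Co0 xm') := by
    rw [mclRef_inf]; exact isSimpleGroup_hs3Sub
  have hstab : ∀ g : ↥(mclRef ⊓ stabilizer Co0 xm'), g.1.1 xm' = xm' := fun g => g.2.2
  have hdot : ∀ (g : ↥(mclRef ⊓ stabilizer Co0 xm')) (y : leechLattice),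
      dotInt (xm' : GolayPt → ℤ) ((g.1.1 y : leechLattice) : GolayPt → ℤ) =
        dotInt (xm' : GolayPt → ℤ) (y : GolayPt → ℤ) := by
    intro g y
    have := co0_dot g.1 xm' y
    rw [hstab g] at this
    exact this
  -- the three levels
  have hlevel : ∀ (k : ℤ) (n : ℕ), k ≠ 32 → n ≠ 0 →
      {y : leechLattice | (sqNorm (y : GolayPt → ℤ) = 32 ∧
        dotInt (u0 : GolayPt → ℤ) (y : GolayPt → ℤ) = 16 ∧ dotInt (v0' : GolayPt → ℤ) (y : GolayPt → ℤ) = 0) ∧
        dotInt (xm' : GolayPt → ℤ) (y : GolayPt → ℤ) = k}.ncard = n →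
      ∃ y ∈ mclPts, (orbit ↥(mclRef ⊓ stabilizer Co0 xm') y).ncard = n ∧
        ∀ z ∈ mclPts, dotInt (xm' : GolayPt → ℤ) (z : GolayPt → ℤ) = k →
          z ∈ orbit ↥(mclRef ⊓ stabilizer Co0 xm') y := by
    intro k n hk hn hc
    obtain ⟨y, hy⟩ := Set.nonempty_of_ncard_ne_zero (by rw [hc]; exact hn)
    have hyx : y ≠ xm' := by
      rintro rfl
      have := hy.2
      rw [dot_self, xm_mem_mclPts.1] at this
      exact hk this.symm
    have horb : orbit ↥(mclRef ⊓ stabilizer Co0 xm') y = {y : leechLattice | (sqNorm (y : GolayPt → ℤ) = 32 ∧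
        dotInt (u0 : GolayPt → ℤ) (y : GolayPt → ℤ) = 16 ∧ dotInt (v0' : GolayPt → ℤ) (y : GolayPt → ℤ) = 0) ∧
        dotInt (xm' : GolayPt → ℤ) (y : GolayPt → ℤ) = k} := by
      ext z
      constructor
      · rintro ⟨g, rfl⟩
        show g.1.1 y ∈ _
        exact ⟨mclPts_inv g.2.1 hy.1, (hdot g y).trans hy.2⟩
      · intro hz
        obtain ⟨g, h1, h2, h3, h4⟩ := htr y z hy.1 hz.1 hyx (hy.2.trans hz.2.symm)
        exact ⟨⟨g, ⟨⟨h1, h2⟩, h3⟩⟩, h4⟩
    refine ⟨y, hy.1, by rw [horb, hc], fun z hz hzk => ?_⟩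
    rw [horb]
    exact ⟨hz, hzk⟩
  obtain ⟨y1, hy1, hn1, hc1⟩ := hlevel 0 330 (by norm_num) (by norm_num) (hcnt _ _ (Or.inl ⟨rfl, rfl⟩))
  obtain ⟨y2, hy2, hn2, hc2⟩ := hlevel 16 462 (by norm_num) (by norm_num) (hcnt _ _ (Or.inr (Or.inl ⟨rfl, rfl⟩)))
  obtain ⟨y3, hy3, hn3, hc3⟩ := hlevel 8 1232 (by norm_num) (by norm_num) (hcnt _ _ (Or.inr (Or.inr ⟨rfl, rfl⟩)))
  refine isSimpleGroup_of_suborbits mclRef mclPts hfin xm' xm_mem_mclPts (fun k hk x hx => mclPts_inv hk hx)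
    (fun x hx => mclRef_transitive xm_mem_mclPts hx) hsimple ![y1, y2, y3] ![330, 462, 1232] ?_ ?_ ?_
    (by decide) (by decide) (by norm_num) 2025 mclPts_ncard (by decide)
    (fun N hN hc => exists_normal_2025 N hN hc)
  · intro i
    fin_cases i
    · exact hn1
    · exact hn2
    · exact hn3
  · intro x hx
    by_cases hxa : x = xm'
    · left; exact hxa
    · right
      have hc := mclS_dot_cases (x : GolayPt → ℤ) ⟨x.2, hx.1, hx.2.1, hx.2.2⟩
      rcases hc with hc | hc | hc | hc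
      · exact ⟨0, hc1 x hx hc⟩
      · exact ⟨1, hc2 x hx hc⟩
      · exact ⟨2, hc3 x hx hc⟩
      · exfalso
        apply hxa
        have := eq_of_dot_32 xm_mem_mclPts.1 hx.1 hc
        exact (Subtype.ext this).symm
  · intro i
    fin_cases i
    · exact hy1
    · exact hy2
    · exact hy3

theorem card_mcl_main (v w : leechLattice) (hv : sqNorm (v : GolayPt → ℤ) = 32)
    (hw : sqNorm (w : GolayPt → ℤ) = 32) (hvw : dotInt (v : GolayPt → ℤ) (w : GolayPt → ℤ) = -8) :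
    IsSimpleGroup ↥(stabilizer Co0 v ⊓ stabilizer Co0 w) ∧
      Nat.card ↥(stabilizer Co0 v ⊓ stabilizer Co0 w) = 898128000 := by
  set u : leechLattice := v + w with hudef
  have hucoe : (u : GolayPt → ℤ) = (v : GolayPt → ℤ) + (w : GolayPt → ℤ) := rfl
  have hu : sqNorm (u : GolayPt → ℤ) = 48 := by rw [hucoe, sqNorm_add, hv, hw, hvw]; norm_num
  have hd : dotInt (u : GolayPt → ℤ) (v : GolayPt → ℤ) = 24 := by
    rw [hucoe, dotInt_add_left, dot_self, hv, dotInt_comm, hvw]; norm_num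
  have hsub : stabilizer Co0 v ⊓ stabilizer Co0 w = stabilizer Co0 u ⊓ stabilizer Co0 v := by
    ext g
    rw [Subgroup.mem_inf, Subgroup.mem_inf, co0_stab_iff, co0_stab_iff, co0_stab_iff]
    constructor
    · rintro ⟨e1, e2⟩
      refine ⟨?_, e1⟩
      rw [hudef, co0_add, e1, e2]
    · rintro ⟨e1, e2⟩
      refine ⟨e2, ?_⟩
      rw [hudef, co0_add, e2] at e1
      exact add_left_cancel e1
  obtain ⟨g0, hgu, hgv⟩ := exists_to_u0v0 u v hu hv hd
  have e := stabInfEquiv g0 u v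
  have h1 : g0 • u = u0 := hgu
  have h2 : g0 • v = v0' := hgv
  rw [h1, h2] at e
  rw [hsub]
  refine ⟨?_, ?_⟩
  · have : IsSimpleGroup ↥(stabilizer Co0 u0 ⊓ stabilizer Co0 v0') := isSimpleGroup_mclRef
    exact e.isSimpleGroup
  · rw [Nat.card_congr e.toEquiv]
    exact card_mclRef

end Cfsg.Agent.Lib.Helper6.Leech
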