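import Cfsg.Agent.Lib.Helper6.RegExcl

/-!
# Normal subgroups of order 47104 contain smaller normal subgroups
-/

set_option autoImplicit false

namespace Cfsg.Agent.Lib.Helper6.SimpleAct

open Subgroup

/-- **Order 47104.** -/
theorem exists_normal_47104 {G : Type*} [Group G] (N : Subgroup G) (hN : N.Normal) (hc : Nat.card N = 47104) :
    ∃ C : Subgroup G, C.Normal ∧ C ≤ N ∧ C ≠ ⊥ ∧ C ≠ N := by
  have : Finite N := Nat.finite_of_card_ne_zero (by rw [hc]; norm_num)
  have : Fact (Nat.Prime 23) := ⟨by norm_num⟩
  obtain ⟨P⟩ : Nonempty (Sylow 23 N) := Sylow.nonempty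
  have hP : Nat.card P = 23 ^ 1 := sylow_card_of P (r := 2048) (by rw [hc]; norm_num) (by norm_num)
  have hidx : (P : Subgroup N).index = 2048 := by
    have := (P : Subgroup N).index_mul_card
    rw [hP, hc] at this
    omega
  by_cases h1 : Nat.card (Sylow 23 N) = 1
  · exact exists_normal_of_sylow_unique N P h1 (by rw [hP]; norm_num) (by rw [hP, hc]; norm_num)
  · have h2048 : Nat.card (Sylow 23 N) = 2048 := by
      have hd := P.card_dvd_index
      rw [hidx] at hd
      have hm := card_sylow_modEq_one 23 N
      have h2 : (2048 : ℕ) = 2 ^ 11 := by norm_num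
      rw [h2] at hd
      obtain ⟨j, hj, hjeq⟩ := (Nat.dvd_prime_pow Nat.prime_two).mp hd
      unfold Nat.ModEq at hm
      rw [hjeq] at hm h1 ⊢
      interval_cases j <;> simp_all
    have hnorm : normalizer (P : Set N) = (P : Subgroup N) := by
      symm
      apply Subgroup.eq_of_le_of_card_ge P.le_normalizer
      have h2 := P.card_eq_index_normalizer
      rw [h2048] at h2
      have h3 := (normalizer (P : Set N)).index_mul_card
      rw [← h2, hc] at h3
      have h4 : Nat.card (normalizer (P : Set N)) = 23 := by omega
      have h5 : Nat.card (normalizer (P : Set N)) ≤ Nat.card P := by rw [h4, hP]; norm_num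
      exact h5
    have hcyc : IsCyclic P := isCyclic_of_prime_card (p := 23) (by rw [hP]; norm_num)
    have hcomm : ∀ a b : P, a * b = b * a := by
      letI := IsCyclic.commGroup (α := P)
      exact fun a b => mul_comm a b
    have hle : normalizer (P : Set N) ≤ centralizer (P : Set N) := by
      rw [hnorm]
      intro x hx y hy
      have := hcomm ⟨y, hy⟩ ⟨x, hx⟩
      exact congrArg Subtype.val this
    have hQ := MonoidHom.ker_transferSylow_isComplement' P hle
    have hcQ : Nat.card (MonoidHom.transferSylow P hle).ker = 2048 := by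
      rw [← hQ.index_eq_card, hidx]
    exact exists_normal_of_complement N P _ hQ (by rw [hcQ]; norm_num) (by rw [hcQ, hc]; norm_num)

end Cfsg.Agent.Lib.Helper6.SimpleAct
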