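import Cfsg.Agent.Lib.Helper6.LeechCo2Sub
import Cfsg.Agent.Lib.Helper6.LeechSimpleMcL
import Cfsg.Agent.Lib.Helper6.LeechCo2B
import Cfsg.Agent.Lib.Helper6.RegExcl2
import Cfsg.Agent.Lib.Helper6.LeechTrans3

/-!
# The stabiliser of a minimal vector is simple of order 42305421312000
-/

set_option autoImplicit false

namespace Cfsg.Agent.Lib.Helper6.Leech

open Cfsg MulAction
open Cfsg.Agent.Lib.Helper6.Golay Cfsg.Agent.Lib.Helper6.SimpleAct

/-- the second reference minimal vector, `u0 - v0'` -/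
def w0L : List ℤ := [-3, 1, 1, 1, 1, 1, 1, 1, 1, 1, 1, 1, 1, 1, 1, 1, 1, 1, 1, 1, 1, 1, 1, 1]

theorem w0L_ok : inLeechL w0L = true ∧ normL w0L = 32 ∧ dotL v0L w0L = -8 ∧ dotL u0L w0L = 24 := by
  decide +kernel

theorem w0L_mem : vecOf w0L ∈ leechLattice := mem_leechLattice.mpr (inLeechL_sound _ w0L_ok.1)

def w0' : leechLattice := ⟨vecOf w0L, w0L_mem⟩

theorem u0_eq_add : u0 = v0' + w0' := by
  apply Subtype.ext
  funext k
  show vecOf u0L k = vecOf v0L k + vecOf w0L k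
  revert k; decide

/-- the 47104 points of the reference minimal vector -/
def co2Pts : Set leechLattice :=
  {w | sqNorm (w : GolayPt → ℤ) = 32 ∧ dotInt (v0' : GolayPt → ℤ) (w : GolayPt → ℤ) = -8}

theorem census_ncard_47104 : (census (vecOf v0L) (-8)).ncard = 47104 := by
  have hN : (census (w2 4 4) (4 * (-2))).ncard = 47104 := by
    rw [show (w2 4 4) = ((v0 : leechLattice) : GolayPt → ℤ) from rfl, census_v0]
    exact total2_vals.2.1
  rw [vecOf_v0L]
  have e : (4 : ℤ) * (-2) = -8 := by norm_num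
  rw [e] at hN
  exact hN

theorem co2Pts_ncard : co2Pts.ncard = 47104 := by
  rw [co2Pts, ncard_subtype_eq (fun y => sqNorm y = 32 ∧ dotInt (v0' : GolayPt → ℤ) y = -8),
    ← census_ncard_47104]
  rfl

theorem w0_mem_co2Pts : w0' ∈ co2Pts := by
  refine ⟨?_, ?_⟩
  · show sqNorm (vecOf w0L) = 32
    rw [sqNorm_vecOf]; exact w0L_ok.2.1
  · show dotInt (vecOf v0L) (vecOf w0L) = -8
    rw [dotInt_vecOf]; exact w0L_ok.2.2.1

theorem co2_inf_eq : stabilizer Co0 v0' ⊓ stabilizer Co0 w0' = mclRef := by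
  ext g
  simp only [mclRef, Subgroup.mem_inf, co0_stab_iff]
  constructor
  · rintro ⟨e1, e2⟩
    refine ⟨?_, e1⟩
    rw [u0_eq_add, co0_add, e1, e2]
  · rintro ⟨e1, e2⟩
    refine ⟨e2, ?_⟩
    rw [u0_eq_add, co0_add, e2] at e1
    exact add_left_cancel e1

theorem co2Pts_inv : ∀ k ∈ stabilizer Co0 v0', ∀ x ∈ co2Pts, k • x ∈ co2Pts := by
  intro k hk x hx
  refine ⟨(co0_norm k x).trans hx.1, ?_⟩
  have := co0_dot k v0' x
  rw [(co0_stab_iff k v0').mp hk] at this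
  exact this.trans hx.2

theorem co2Ref_transitive : ∀ y ∈ co2Pts, ∃ k ∈ stabilizer Co0 v0', k • w0' = y := by
  intro y hy
  obtain ⟨g, h1, h2⟩ := co2_transitiveB v0' w0' y v0L_norm w0_mem_co2Pts.1 hy.1 w0_mem_co2Pts.2 hy.2
  exact ⟨g, h1, h2⟩

/-- **The stabiliser of the reference minimal vector has order 42305421312000.** -/
theorem card_co2Ref : Nat.card ↥(stabilizer Co0 v0') = 42305421312000 := by
  rw [card_eq_orbit_mul_stab (stabilizer Co0 v0') co2Pts w0' (fun k hk => co2Pts_inv k hk w0' w0_mem_co2Pts)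
    co2Ref_transitive, co2Pts_ncard, co2_inf_eq, card_mclRef]

/-- **The stabiliser of the reference minimal vector is simple.** -/
theorem isSimpleGroup_co2Ref : IsSimpleGroup ↥(stabilizer Co0 v0') := by
  classical
  have hfinK : Finite ↥(stabilizer Co0 v0') := Nat.finite_of_card_ne_zero (by rw [card_co2Ref]; norm_num)
  obtain ⟨FA, hA1, hA2, hA3⟩ := level_data co2sARoot (-24) co2sAChunks 275 co2sRoots_ok.1 co2sAChunks_ok
    co2sAGlobal_ok
  obtain ⟨FB, hB1, hB2, hB3⟩ := level_data co2sBRoot (-16) co2sBChunks 7128 co2sRoots_ok.2.1 co2sBChunks_ok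
    co2sBGlobal_ok
  obtain ⟨FC, hC1, hC2, hC3⟩ := level_data co2sCRoot (-8) co2sCChunks 22275 co2sRoots_ok.2.2.1 co2sCChunks_ok
    co2sCGlobal_ok
  obtain ⟨FD, hD1, hD2, hD3⟩ := level_data co2sDRoot 0 co2sDChunks 15400 co2sRoots_ok.2.2.2.1 co2sDChunks_ok
    co2sDGlobal_ok
  obtain ⟨FE, hE1, hE2, hE3⟩ := level_data co2sERoot 8 co2sEChunks 2025 co2sRoots_ok.2.2.2.2 co2sEChunks_ok
    co2sEGlobal_ok
  set X : Set (GolayPt → ℤ) := census (vecOf v0L) (-8) with hXdef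
  have hXfin : X.Finite := Set.finite_of_ncard_ne_zero (by rw [census_ncard_47104]; norm_num)
  let f : (GolayPt → ℤ) → ℤ := fun y => dotInt (vecOf u0L) y
  let F : Fin 6 → Finset (GolayPt → ℤ) := ![{vecOf w0L}, FA, FB, FC, FD, FE]
  let c : Fin 6 → ℤ := ![24, -24, -16, -8, 0, 8]
  have hw0X : vecOf w0L ∈ X ∧ f (vecOf w0L) = 24 := by
    refine ⟨⟨w0L_mem, ?_, ?_⟩, ?_⟩
    · rw [sqNorm_vecOf]; exact w0L_ok.2.1
    · rw [dotInt_vecOf]; exact w0L_ok.2.2.1
    · show dotInt (vecOf u0L) (vecOf w0L) = 24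
      rw [dotInt_vecOf]; exact w0L_ok.2.2.2
  have hF : ∀ i, ∀ y ∈ F i, y ∈ X ∧ f y = c i := by
    intro i
    fin_cases i
    · intro y hy
      have : y = vecOf w0L := Finset.mem_singleton.mp hy
      rw [this]; exact hw0X
    · exact fun y hy => hA2 y hy
    · exact fun y hy => hB2 y hy
    · exact fun y hy => hC2 y hy
    · exact fun y hy => hD2 y hy
    · exact fun y hy => hE2 y hy
  have hcinj : Function.Injective c := by decide
  have hsum : ∑ i, (F i).card = X.ncard := by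
    rw [census_ncard_47104, Fin.sum_univ_six]
    show ({vecOf w0L} : Finset (GolayPt → ℤ)).card + FA.card + FB.card + FC.card + FD.card + FE.card = 47104
    rw [Finset.card_singleton, hA1, hB1, hC1, hD1, hE1]
  obtain ⟨hex, hlev⟩ := squeeze_levels X hXfin f F c hcinj hF hsum
  -- the point stabiliser
  have hsimple : IsSimpleGroup ↥(stabilizer Co0 v0' ⊓ stabilizer Co0 w0') := by
    rw [co2_inf_eq]; exact isSimpleGroup_mclRef
  have hstab : ∀ g : ↥(stabilizer Co0 v0' ⊓ stabilizer Co0 w0'), g.1.1 v0' = v0' ∧ g.1.1 u0 = u0 := by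
    intro g
    have e1 : g.1.1 v0' = v0' := g.2.1
    have e2 : g.1.1 w0' = w0' := g.2.2
    refine ⟨e1, ?_⟩
    rw [u0_eq_add, co0_add, e1, e2]
  have hptsX : ∀ w : leechLattice, w ∈ co2Pts ↔ (w : GolayPt → ℤ) ∈ X := by
    intro w
    constructor
    · rintro ⟨h1, h2⟩
      exact ⟨w.2, h1, h2⟩
    · rintro ⟨_, h1, h2⟩
      exact ⟨h1, h2⟩
  have hpts_inv : ∀ k ∈ stabilizer Co0 v0', ∀ x ∈ co2Pts, k • x ∈ co2Pts := co2Pts_inv
  -- the orbits of the point stabiliser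
  have horbit : ∀ (root : List ℤ) (hr : vecOf root ∈ leechLattice) (k : ℤ) (Fk : Finset (GolayPt → ℤ))
      (i : Fin 6), c i = k → F i = Fk → vecOf root ∈ Fk →
      (∀ y ∈ Fk, ∀ y' ∈ Fk, ∃ g : Co0, g.1 u0 = u0 ∧ g.1 v0' = v0' ∧
        ∀ hy : y ∈ leechLattice, ((g.1 ⟨y, hy⟩ : leechLattice) : GolayPt → ℤ) = y') →
      orbit ↥(stabilizer Co0 v0' ⊓ stabilizer Co0 w0') (⟨vecOf root, hr⟩ : leechLattice) =
        {w : leechLattice | (w : GolayPt → ℤ) ∈ Fk} := by
    intro root hr k Fk i hci hFi hroot htr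
    ext w
    constructor
    · rintro ⟨g, rfl⟩
      show ((g.1.1 ⟨vecOf root, hr⟩ : leechLattice) : GolayPt → ℤ) ∈ Fk
      rw [← hFi]
      have hrX := hF i (vecOf root) (hFi ▸ hroot)
      apply hlev i
      · have h1 := (hptsX ⟨vecOf root, hr⟩).mpr hrX.1
        exact (hptsX _).mp (hpts_inv g.1 g.2.1 _ h1)
      · show dotInt (vecOf u0L) ((g.1.1 ⟨vecOf root, hr⟩ : leechLattice) : GolayPt → ℤ) = c i
        have := co0_dot g.1 u0 ⟨vecOf root, hr⟩
        rw [(hstab g).2] at this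
        exact this.trans hrX.2
    · intro hw
      obtain ⟨g, h1, h2, h3⟩ := htr (vecOf root) hroot (w : GolayPt → ℤ) hw
      have e3 : g.1 ⟨vecOf root, hr⟩ = w := Subtype.ext (h3 hr)
      have e4 : g.1 w0' = w0' := by
        have := h1
        rw [u0_eq_add, co0_add, h2] at this
        exact add_left_cancel this
      exact ⟨⟨g, ⟨h2, e4⟩⟩, e3⟩
  have hncard : ∀ Fk : Finset (GolayPt → ℤ), (∀ y ∈ Fk, y ∈ leechLattice) →
      {w : leechLattice | (w : GolayPt → ℤ) ∈ Fk}.ncard = Fk.card := by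
    intro Fk hL
    rw [← Set.ncard_coe_finset Fk, ← Set.ncard_image_of_injective _ Subtype.val_injective]
    congr 1
    ext y
    simp only [Set.mem_image, Set.mem_ofPred_eq, Finset.mem_coe]
    constructor
    · rintro ⟨w, hw, rfl⟩
      exact hw
    · intro hy
      exact ⟨⟨y, hL y hy⟩, hy, rfl⟩
  -- membership of the roots
  have hrootF : ∀ (root : List ℤ) (k : ℤ) (i : Fin 6), c i = k →
      (inLeechL root = true ∧ normL root = 32 ∧ dotL v0L root = -8 ∧ dotL u0L root = k) →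
      vecOf root ∈ F i := by
    intro root k i hci hr
    apply hlev i
    · exact ⟨mem_leechLattice.mpr (inLeechL_sound root hr.1), (sqNorm_vecOf root).trans hr.2.1,
        (dotInt_vecOf _ _).trans hr.2.2.1⟩
    · rw [hci]
      exact (dotInt_vecOf _ _).trans hr.2.2.2
  have hrA : vecOf co2sARoot ∈ leechLattice := mem_leechLattice.mpr (inLeechL_sound _ co2sRoots_ok.1.1)
  have hrB : vecOf co2sBRoot ∈ leechLattice := mem_leechLattice.mpr (inLeechL_sound _ co2sRoots_ok.2.1.1)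
  have hrC : vecOf co2sCRoot ∈ leechLattice := mem_leechLattice.mpr (inLeechL_sound _ co2sRoots_ok.2.2.1.1)
  have hrD : vecOf co2sDRoot ∈ leechLattice := mem_leechLattice.mpr (inLeechL_sound _ co2sRoots_ok.2.2.2.1.1)
  have hrE : vecOf co2sERoot ∈ leechLattice := mem_leechLattice.mpr (inLeechL_sound _ co2sRoots_ok.2.2.2.2.1)
  have hoA := horbit co2sARoot hrA (-24) FA 1 rfl rfl (hrootF co2sARoot (-24) 1 rfl co2sRoots_ok.1) hA3
  have hoB := horbit co2sBRoot hrB (-16) FB 2 rfl rfl (hrootF co2sBRoot (-16) 2 rfl co2sRoots_ok.2.1) hB3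
  have hoC := horbit co2sCRoot hrC (-8) FC 3 rfl rfl (hrootF co2sCRoot (-8) 3 rfl co2sRoots_ok.2.2.1) hC3
  have hoD := horbit co2sDRoot hrD 0 FD 4 rfl rfl (hrootF co2sDRoot 0 4 rfl co2sRoots_ok.2.2.2.1) hD3
  have hoE := horbit co2sERoot hrE 8 FE 5 rfl rfl (hrootF co2sERoot 8 5 rfl co2sRoots_ok.2.2.2.2) hE3
  have hLA : ∀ y ∈ FA, y ∈ leechLattice := fun y hy => (hA2 y hy).1.1
  have hLB : ∀ y ∈ FB, y ∈ leechLattice := fun y hy => (hB2 y hy).1.1
  have hLC : ∀ y ∈ FC, y ∈ leechLattice := fun y hy => (hC2 y hy).1.1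
  have hLD : ∀ y ∈ FD, y ∈ leechLattice := fun y hy => (hD2 y hy).1.1
  have hLE : ∀ y ∈ FE, y ∈ leechLattice := fun y hy => (hE2 y hy).1.1
  have hfin : co2Pts.Finite := Set.finite_of_ncard_ne_zero (by rw [co2Pts_ncard]; norm_num)
  refine isSimpleGroup_of_suborbits (stabilizer Co0 v0') co2Pts hfin w0' w0_mem_co2Pts hpts_inv ?_ hsimple
    ![⟨vecOf co2sARoot, hrA⟩, ⟨vecOf co2sBRoot, hrB⟩, ⟨vecOf co2sCRoot, hrC⟩, ⟨vecOf co2sDRoot, hrD⟩,
      ⟨vecOf co2sERoot, hrE⟩] ![275, 7128, 22275, 15400, 2025] ?_ ?_ ?_ (by decide) (by decide) (by norm_num)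
    47104 co2Pts_ncard (by decide) (fun N hN hc => exists_normal_47104 N hN hc)
  · exact co2Ref_transitive
  · intro i
    fin_cases i
    · show (orbit _ (⟨vecOf co2sARoot, hrA⟩ : leechLattice)).ncard = 275
      rw [hoA, hncard FA hLA, hA1]
    · show (orbit _ (⟨vecOf co2sBRoot, hrB⟩ : leechLattice)).ncard = 7128
      rw [hoB, hncard FB hLB, hB1]
    · show (orbit _ (⟨vecOf co2sCRoot, hrC⟩ : leechLattice)).ncard = 22275
      rw [hoC, hncard FC hLC, hC1]
    · show (orbit _ (⟨vecOf co2sDRoot, hrD⟩ : leechLattice)).ncard = 15400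
      rw [hoD, hncard FD hLD, hD1]
    · show (orbit _ (⟨vecOf co2sERoot, hrE⟩ : leechLattice)).ncard = 2025
      rw [hoE, hncard FE hLE, hE1]
  · intro x hx
    obtain ⟨i, hi⟩ := hex (x : GolayPt → ℤ) ((hptsX x).mp hx)
    fin_cases i
    · left
      have : (x : GolayPt → ℤ) = vecOf w0L := Finset.mem_singleton.mp hi
      exact Subtype.ext this
    · right
      refine ⟨0, ?_⟩
      show x ∈ orbit _ (⟨vecOf co2sARoot, hrA⟩ : leechLattice)
      rw [hoA]; exact hi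
    · right
      refine ⟨1, ?_⟩
      show x ∈ orbit _ (⟨vecOf co2sBRoot, hrB⟩ : leechLattice)
      rw [hoB]; exact hi
    · right
      refine ⟨2, ?_⟩
      show x ∈ orbit _ (⟨vecOf co2sCRoot, hrC⟩ : leechLattice)
      rw [hoC]; exact hi
    · right
      refine ⟨3, ?_⟩
      show x ∈ orbit _ (⟨vecOf co2sDRoot, hrD⟩ : leechLattice)
      rw [hoD]; exact hi
    · right
      refine ⟨4, ?_⟩
      show x ∈ orbit _ (⟨vecOf co2sERoot, hrE⟩ : leechLattice)
      rw [hoE]; exact hi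
  · intro i
    fin_cases i
    · exact (hptsX _).mpr (hF 1 _ (hrootF co2sARoot (-24) 1 rfl co2sRoots_ok.1)).1
    · exact (hptsX _).mpr (hF 2 _ (hrootF co2sBRoot (-16) 2 rfl co2sRoots_ok.2.1)).1
    · exact (hptsX _).mpr (hF 3 _ (hrootF co2sCRoot (-8) 3 rfl co2sRoots_ok.2.2.1)).1
    · exact (hptsX _).mpr (hF 4 _ (hrootF co2sDRoot 0 4 rfl co2sRoots_ok.2.2.2.1)).1
    · exact (hptsX _).mpr (hF 5 _ (hrootF co2sERoot 8 5 rfl co2sRoots_ok.2.2.2.2)).1

/-- **The stabiliser of a minimal vector is simple of order 42305421312000.** -/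
theorem card_co2_main (v : leechLattice) (hv : sqNorm (v : GolayPt → ℤ) = 32) :
    IsSimpleGroup ↥(stabilizer Co0 v) ∧ Nat.card ↥(stabilizer Co0 v) = 42305421312000 := by
  obtain ⟨g0, hg0⟩ := co0_transitive_min v v0' hv v0L_norm
  have h1 : v0' = g0 • v := hg0.symm
  have e := stabilizerEquivStabilizer h1
  refine ⟨?_, ?_⟩
  · have : IsSimpleGroup ↥(stabilizer Co0 v0') := isSimpleGroup_co2Ref
    exact e.isSimpleGroup
  · rw [Nat.card_congr e.toEquiv]
    exact card_co2Ref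

end Cfsg.Agent.Lib.Helper6.Leech
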