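import Cfsg.Agent.Lib.Helper6.SimpleAct3
import Cfsg.Agent.Lib.Helper6.LeechSimpleCo2
import Cfsg.Agent.Lib.Helper6.LeechCenter
import Cfsg.Agent.Lib.Helper6.LeechCo2A
import Cfsg.Agent.Lib.Helper6.LeechCo2C

/-!
# The automorphism group of the lattice modulo its centre is simple
-/

set_option autoImplicit false

namespace Cfsg.Agent.Lib.Helper6.Leech

open Cfsg MulAction
open Cfsg.Agent.Lib.Helper6.Golay Cfsg.Agent.Lib.Helper6.SimpleAct

/-- counting the image of a two-to-one map -/
theorem ncard_two_to_one {A X : Type*} (S : Set A) (hS : S.Finite) (q : A → X) (ι : A → A)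
    (hιS : ∀ v ∈ S, ι v ∈ S) (hne : ∀ v ∈ S, ι v ≠ v)
    (hq : ∀ v ∈ S, ∀ w ∈ S, q v = q w ↔ (w = v ∨ w = ι v)) :
    S.ncard = 2 * (q '' S).ncard := by
  classical
  have h1 : S.ncard = hS.toFinset.card := Set.ncard_eq_toFinset_card S hS
  have h2 : (q '' S).ncard = (hS.toFinset.image q).card := by
    rw [← Set.ncard_coe_finset]
    congr 1
    ext x
    simp
  rw [h1, h2, Finset.card_eq_sum_card_fiberwise (f := q) (s := hS.toFinset) (t := hS.toFinset.image q)
    (fun x hx => Finset.mem_image_of_mem q hx)]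
  rw [Finset.sum_const_nat (m := 2), mul_comm]
  intro b hb
  obtain ⟨v, hv, rfl⟩ := Finset.mem_image.mp hb
  have hvS : v ∈ S := hS.mem_toFinset.mp hv
  have : hS.toFinset.filter (fun w => q w = q v) = {v, ι v} := by
    ext w
    rw [Finset.mem_filter, Finset.mem_insert, Finset.mem_singleton, Set.Finite.mem_toFinset]
    constructor
    · rintro ⟨hw, hqw⟩
      exact (hq v hvS w hw).mp hqw.symm
    · rintro (rfl | rfl)
      · exact ⟨hvS, rfl⟩
      · exact ⟨hιS v hvS, ((hq v hvS _ (hιS v hvS)).mpr (Or.inr rfl)).symm⟩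
  rw [this, Finset.card_pair (hne v hvS).symm]

/-- the minimal vectors -/
abbrev MinVec : Type := {v : leechLattice // sqNorm (v : GolayPt → ℤ) = 32}

/-- the action on the minimal vectors -/
instance minVecAction : MulAction Co0 MinVec where
  smul g v := ⟨g.1 v.1, (co0_norm g v.1).trans v.2⟩
  one_smul _ := Subtype.ext rfl
  mul_smul _ _ _ := Subtype.ext rfl

theorem minVec_smul_val (g : Co0) (v : MinVec) : (g • v).1 = g.1 v.1 := rfl

/-- negation of minimal vectors -/
def negMin (v : MinVec) : MinVec := ⟨-v.1, by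
  show sqNorm (-(v.1 : GolayPt → ℤ)) = 32
  rw [sqNorm_neg]; exact v.2⟩

theorem negMin_val (v : MinVec) : (negMin v).1 = -v.1 := rfl

theorem negMin_ne (v : MinVec) : negMin v ≠ v := by
  intro h
  have h1 : -v.1 = v.1 := congrArg Subtype.val h
  have h2 : (v.1 : GolayPt → ℤ) = 0 := by
    have h3 : -(v.1 : GolayPt → ℤ) = (v.1 : GolayPt → ℤ) := congrArg Subtype.val h1
    funext k
    have := congrFun h3 k
    simp only [Pi.neg_apply, Pi.zero_apply] at this ⊢
    omega
  have h4 := v.2
  rw [h2] at h4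
  simp [sqNorm] at h4

/-- a minimal vector up to sign -/
def pmSetoid : Setoid MinVec where
  r v w := w = v ∨ w = negMin v
  iseqv := by
    refine ⟨fun v => Or.inl rfl, ?_, ?_⟩
    · rintro v w (rfl | rfl)
      · exact Or.inl rfl
      · right
        apply Subtype.ext
        rw [negMin_val, negMin_val, neg_neg]
    · rintro u v w (rfl | rfl) (rfl | rfl)
      · exact Or.inl rfl
      · exact Or.inr rfl
      · exact Or.inr rfl
      · left
        apply Subtype.ext
        rw [negMin_val, negMin_val, neg_neg]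

/-- the pairs of opposite minimal vectors -/
abbrev MinPair : Type := Quotient pmSetoid

/-- the pair of a minimal vector -/
def mkPair (v : MinVec) : MinPair := Quotient.mk pmSetoid v

theorem mkPair_eq_iff (v w : MinVec) : mkPair v = mkPair w ↔ (w = v ∨ w = negMin v) :=
  Quotient.eq (r := pmSetoid)

theorem mkPair_negMin (v : MinVec) : mkPair (negMin v) = mkPair v :=
  ((mkPair_eq_iff v (negMin v)).mpr (Or.inr rfl)).symm

theorem mkPair_surjective : Function.Surjective mkPair := Quotient.mk_surjective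

theorem smul_negMin (g : Co0) (v : MinVec) : g • negMin v = negMin (g • v) := by
  apply Subtype.ext
  rw [minVec_smul_val, negMin_val, negMin_val, minVec_smul_val, co0_neg]

/-- the action on the pairs of opposite minimal vectors -/
instance minPairAction : MulAction Co0 MinPair where
  smul g := Quotient.map (fun v => g • v) (by
    rintro v w (rfl | rfl)
    · exact Or.inl rfl
    · exact Or.inr (smul_negMin g v))
  one_smul := Quotient.ind (fun v => congrArg (Quotient.mk pmSetoid) (one_smul Co0 v))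
  mul_smul g h := Quotient.ind (fun v => congrArg (Quotient.mk pmSetoid) (mul_smul g h v))

theorem smul_mkPair (g : Co0) (v : MinVec) : g • mkPair v = mkPair (g • v) := rfl

instance finite_minVec : Finite MinVec := by
  have h : {v : leechLattice | sqNorm (v : GolayPt → ℤ) = 32}.Finite := by
    apply Set.finite_of_ncard_ne_zero
    rw [ncard_subtype_eq (fun y => sqNorm y = 32), ncard_norm32]
    norm_num
  exact h.to_subtype

theorem card_minVec : Nat.card MinVec = 196560 := by
  have : Nat.card MinVec = {v : leechLattice | sqNorm (v : GolayPt → ℤ) = 32}.ncard :=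
    Nat.card_coe_set_eq _
  rw [this, ncard_subtype_eq (fun y => sqNorm y = 32), ncard_norm32]

instance finite_minPair : Finite MinPair := Quotient.finite _

theorem card_minPair : Nat.card MinPair = 98280 := by
  have h := ncard_two_to_one (Set.univ : Set MinVec) Set.finite_univ mkPair negMin
    (fun _ _ => Set.mem_univ _) (fun v _ => negMin_ne v) (fun v _ w _ => mkPair_eq_iff v w)
  rw [Set.ncard_univ, card_minVec, Set.image_univ, Set.range_eq_univ.mpr mkPair_surjective,
    Set.ncard_univ] at h
  omega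

/-- the permutation representation on the pairs -/
def pairHom : Co0 →* Equiv.Perm MinPair := MulAction.toPermHom Co0 MinPair

theorem pairHom_apply (g : Co0) (x : MinPair) : pairHom g x = g • x := rfl

theorem negC_smul_minVec (v : MinVec) : negC • v = negMin v := by
  apply Subtype.ext
  rw [minVec_smul_val, negMin_val, negC_apply]

theorem center_le_ker : Subgroup.center Co0 ≤ pairHom.ker := by
  intro z hz
  rw [MonoidHom.mem_ker]
  have hz' : ∀ h : Co0, h * z = z * h := fun h => Subgroup.mem_center_iff.mp hz h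
  rcases central_eq hz' with rfl | rfl
  · exact map_one _
  · ext x
    obtain ⟨v, rfl⟩ := mkPair_surjective x
    rw [pairHom_apply, smul_mkPair, negC_smul_minVec, mkPair_negMin]
    rfl

theorem negC_mem_center : negC ∈ Subgroup.center Co0 :=
  Subgroup.mem_center_iff.mpr (fun h => negC_central h)

/-- the quotient by the centre -/
abbrev Co1 : Type := Co0 ⧸ Subgroup.center Co0

/-- the permutation representation of the quotient -/
def pairHomBar : Co1 →* Equiv.Perm MinPair := QuotientGroup.lift _ pairHom center_le_ker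

/-- the action of the quotient on the pairs -/
instance co1Action : MulAction Co1 MinPair := MulAction.compHom MinPair pairHomBar

theorem co1_mk_smul (g : Co0) (x : MinPair) : (QuotientGroup.mk g : Co1) • x = g • x := rfl

theorem co1_mk_negC_mul (g : Co0) : (QuotientGroup.mk (negC * g) : Co1) = QuotientGroup.mk g := by
  rw [QuotientGroup.mk_mul, (QuotientGroup.eq_one_iff negC).mpr negC_mem_center, one_mul]

/-- the reference minimal vector -/
def a0 : MinVec := ⟨v0', v0L_norm⟩

instance co1_pretransitive : IsPretransitive Co1 MinPair := by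
  refine ⟨fun x y => ?_⟩
  obtain ⟨v, rfl⟩ := mkPair_surjective x
  obtain ⟨w, rfl⟩ := mkPair_surjective y
  obtain ⟨g, hg⟩ := co0_transitive_min v.1 w.1 v.2 w.2
  refine ⟨QuotientGroup.mk g, ?_⟩
  rw [co1_mk_smul, smul_mkPair]
  congr 1
  exact Subtype.ext hg

theorem co1_stab_iff (g : Co0) : (QuotientGroup.mk g : Co1) ∈ stabilizer Co1 (mkPair a0) ↔
    (g.1 v0' = v0' ∨ g.1 v0' = -v0') := by
  rw [mem_stabilizer_iff, co1_mk_smul, smul_mkPair, eq_comm, mkPair_eq_iff]
  constructor
  · rintro (h | h)
    · left; exact congrArg Subtype.val h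
    · right; exact congrArg Subtype.val h
  · rintro (h | h)
    · left; exact Subtype.ext h
    · right; exact Subtype.ext h

/-- the vector stabiliser maps into the stabiliser of the pair -/
def stabHom : ↥(stabilizer Co0 v0') →* ↥(stabilizer Co1 (mkPair a0)) :=
  ((QuotientGroup.mk' (Subgroup.center Co0)).comp (Subgroup.subtype _)).codRestrict _
    (fun s => (co1_stab_iff s.1).mpr (Or.inl s.2))

theorem stabHom_val (s : ↥(stabilizer Co0 v0')) : ((stabHom s : ↥(stabilizer Co1 (mkPair a0))) : Co1) =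
    QuotientGroup.mk s.1 := rfl

theorem neg_v0_ne : -v0' ≠ v0' := by
  intro h
  exact negMin_ne a0 (Subtype.ext h)

theorem stabHom_bijective : Function.Bijective stabHom := by
  constructor
  · rw [injective_iff_map_eq_one]
    intro s hs
    have h1 : (QuotientGroup.mk s.1 : Co1) = 1 := by
      rw [← stabHom_val, hs]; rfl
    rw [QuotientGroup.eq_one_iff] at h1
    have h2 : ∀ h : Co0, h * s.1 = s.1 * h := fun h => Subgroup.mem_center_iff.mp h1 h
    rcases central_eq h2 with h3 | h3
    · exact Subtype.ext h3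
    · exfalso
      have h4 : s.1.1 v0' = v0' := s.2
      rw [h3, negC_apply] at h4
      exact neg_v0_ne h4
  · rintro ⟨q, hq⟩
    obtain ⟨g, rfl⟩ := QuotientGroup.mk_surjective q
    rcases (co1_stab_iff g).mp hq with h | h
    · exact ⟨⟨g, h⟩, Subtype.ext rfl⟩
    · have h' : (negC * g).1 v0' = v0' := by
        show negC.1 (g.1 v0') = v0'
        rw [h, negC_apply, neg_neg]
      refine ⟨⟨negC * g, h'⟩, Subtype.ext ?_⟩
      rw [stabHom_val]
      exact co1_mk_negC_mul g

theorem isSimpleGroup_co1_stab : IsSimpleGroup ↥(stabilizer Co1 (mkPair a0)) := by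
  have : IsSimpleGroup ↥(stabilizer Co0 v0') := isSimpleGroup_co2Ref
  exact (MulEquiv.ofBijective stabHom stabHom_bijective).symm.isSimpleGroup

theorem census_finite (k : ℤ) : (census (vecOf v0L) k).Finite :=
  (finite_leech_norm (n := 32) (by norm_num)).subset (fun y hy => ⟨hy.1, hy.2.1⟩)

/-- the possible inner products of a minimal vector with the reference vector -/
theorem min_dot_cases (w : MinVec) :
    w = a0 ∨ w = negMin a0 ∨ dotInt (vecOf v0L) (w.1 : GolayPt → ℤ) = -16 ∨
      dotInt (vecOf v0L) (w.1 : GolayPt → ℤ) = 16 ∨ dotInt (vecOf v0L) (w.1 : GolayPt → ℤ) = -8 ∨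
      dotInt (vecOf v0L) (w.1 : GolayPt → ℤ) = 8 ∨ dotInt (vecOf v0L) (w.1 : GolayPt → ℤ) = 0 := by
  classical
  obtain ⟨c1, c2, c3⟩ := census_vals (vecOf v0L) v0L_mem v0L_norm
  set X : Set (GolayPt → ℤ) := {x | x ∈ leechLattice ∧ sqNorm x = 32} with hXdef
  have hXfin : X.Finite := finite_leech_norm (n := 32) (by norm_num)
  let f : (GolayPt → ℤ) → ℤ := fun y => dotInt (vecOf v0L) y
  let FA : Finset (GolayPt → ℤ) := (census_finite (-16)).toFinset
  let FB : Finset (GolayPt → ℤ) := (census_finite (-8)).toFinset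
  let FC : Finset (GolayPt → ℤ) := (census_finite 0).toFinset
  have hFA : FA.card = 4600 := by rw [← c1]; exact (Set.ncard_eq_toFinset_card _ _).symm
  have hFB : FB.card = 47104 := by rw [← c2]; exact (Set.ncard_eq_toFinset_card _ _).symm
  have hFC : FC.card = 93150 := by rw [← c3]; exact (Set.ncard_eq_toFinset_card _ _).symm
  let F : Fin 7 → Finset (GolayPt → ℤ) :=
    ![{vecOf v0L}, {-vecOf v0L}, FA, FA.image (fun y => -y), FB, FB.image (fun y => -y), FC]
  let c : Fin 7 → ℤ := ![32, -32, -16, 16, -8, 8, 0]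
  have hself : dotInt (vecOf v0L) (vecOf v0L) = 32 := v0L_norm
  have hmem : ∀ k y, y ∈ (census_finite k).toFinset → y ∈ X ∧ f y = k := by
    intro k y hy
    rw [Set.Finite.mem_toFinset] at hy
    exact ⟨⟨hy.1, hy.2.1⟩, hy.2.2⟩
  have hmemneg : ∀ k y, y ∈ ((census_finite k).toFinset).image (fun y => -y) → y ∈ X ∧ f y = -k := by
    intro k y hy
    obtain ⟨z, hz, rfl⟩ := Finset.mem_image.mp hy
    obtain ⟨⟨h1, h2⟩, h3⟩ := hmem k z hz
    refine ⟨⟨leechLattice.neg_mem h1, (sqNorm_neg z).trans h2⟩, ?_⟩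
    show dotInt (vecOf v0L) (-z) = -k
    rw [dotInt_neg_right]
    exact congrArg Neg.neg h3
  have hF : ∀ i, ∀ y ∈ F i, y ∈ X ∧ f y = c i := by
    intro i
    fin_cases i
    · intro y hy
      have : y = vecOf v0L := Finset.mem_singleton.mp hy
      rw [this]; exact ⟨⟨v0L_mem, v0L_norm⟩, hself⟩
    · intro y hy
      have : y = -vecOf v0L := Finset.mem_singleton.mp hy
      rw [this]
      refine ⟨⟨leechLattice.neg_mem v0L_mem, (sqNorm_neg _).trans v0L_norm⟩, ?_⟩
      show dotInt (vecOf v0L) (-vecOf v0L) = -32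
      rw [dotInt_neg_right, hself]
    · exact fun y hy => hmem (-16) y hy
    · exact fun y hy => hmemneg (-16) y hy
    · exact fun y hy => hmem (-8) y hy
    · exact fun y hy => hmemneg (-8) y hy
    · exact fun y hy => hmem 0 y hy
  have hcinj : Function.Injective c := by decide
  have hsum : ∑ i, (F i).card = X.ncard := by
    rw [ncard_norm32, Fin.sum_univ_seven]
    show ({vecOf v0L} : Finset (GolayPt → ℤ)).card + ({-vecOf v0L} : Finset (GolayPt → ℤ)).card + FA.card +
      (FA.image (fun y => -y)).card + FB.card + (FB.image (fun y => -y)).card + FC.card = 196560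
    rw [Finset.card_singleton, Finset.card_singleton, Finset.card_image_of_injective _ neg_injective,
      Finset.card_image_of_injective _ neg_injective, hFA, hFB, hFC]
  obtain ⟨hex, -⟩ := squeeze_levels X hXfin f F c hcinj hF hsum
  obtain ⟨i, hi⟩ := hex (w.1 : GolayPt → ℤ) ⟨w.1.2, w.2⟩
  have hfi := (hF i _ hi).2
  fin_cases i
  · left
    exact Subtype.ext (Subtype.ext (Finset.mem_singleton.mp hi))
  · right; left
    exact Subtype.ext (Subtype.ext (Finset.mem_singleton.mp hi))
  · right; right; left; exact hfi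
  · right; right; right; left; exact hfi
  · right; right; right; right; left; exact hfi
  · right; right; right; right; right; left; exact hfi
  · right; right; right; right; right; right; exact hfi

/-- the pairs at a given inner product with the reference vector -/
def lvl (d : ℤ) : Set MinPair :=
  mkPair '' {w : MinVec | dotInt (vecOf v0L) (w.1 : GolayPt → ℤ) = d}

theorem ncard_minVec_dot (d : ℤ) :
    {w : MinVec | dotInt (vecOf v0L) (w.1 : GolayPt → ℤ) = d}.ncard = (census (vecOf v0L) d).ncard := by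
  have hinj : Function.Injective (fun w : MinVec => (w.1 : GolayPt → ℤ)) :=
    Subtype.val_injective.comp Subtype.val_injective
  rw [← Set.ncard_image_of_injective _ hinj]
  congr 1
  ext y
  simp only [Set.mem_image, Set.mem_ofPred_eq, census]
  constructor
  · rintro ⟨w, hw, rfl⟩
    exact ⟨w.1.2, w.2, hw⟩
  · rintro ⟨h1, h2, h3⟩
    exact ⟨⟨⟨y, h1⟩, h2⟩, h3, rfl⟩

theorem dot_negMin (w : MinVec) :
    dotInt (vecOf v0L) ((negMin w).1 : GolayPt → ℤ) = -dotInt (vecOf v0L) (w.1 : GolayPt → ℤ) :=
  dotInt_neg_right _ _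

theorem lvl_ncard_of_ne (d : ℤ) (hd : d ≠ 0) : (lvl d).ncard = (census (vecOf v0L) d).ncard := by
  rw [lvl, Set.InjOn.ncard_image, ncard_minVec_dot]
  intro v hv w hw h
  rcases (mkPair_eq_iff v w).mp h with h1 | h1
  · exact h1.symm
  · exfalso
    have h2 : dotInt (vecOf v0L) (w.1 : GolayPt → ℤ) = d := hw
    rw [h1, dot_negMin] at h2
    have h3 : dotInt (vecOf v0L) (v.1 : GolayPt → ℤ) = d := hv
    omega

theorem lvl_ncard_zero : (census (vecOf v0L) 0).ncard = 2 * (lvl 0).ncard := by
  rw [← ncard_minVec_dot]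
  have hfin : {w : MinVec | dotInt (vecOf v0L) (w.1 : GolayPt → ℤ) = 0}.Finite := Set.toFinite _
  refine ncard_two_to_one _ hfin mkPair negMin ?_ (fun v _ => negMin_ne v) (fun v _ w _ => mkPair_eq_iff v w)
  intro v hv
  show dotInt (vecOf v0L) ((negMin v).1 : GolayPt → ℤ) = 0
  rw [dot_negMin]
  have h3 : dotInt (vecOf v0L) (v.1 : GolayPt → ℤ) = 0 := hv
  omega

/-- the orbits of the stabiliser of the reference pair -/
theorem co1_orbit_eq (d : ℤ) (r : MinVec) (hr : dotInt (vecOf v0L) (r.1 : GolayPt → ℤ) = d)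
    (htr : ∀ w w' : leechLattice, sqNorm (w : GolayPt → ℤ) = 32 → sqNorm (w' : GolayPt → ℤ) = 32 →
      dotInt (vecOf v0L) (w : GolayPt → ℤ) = d → dotInt (vecOf v0L) (w' : GolayPt → ℤ) = d →
      ∃ g : Co0, g • v0' = v0' ∧ g • w = w') :
    orbit ↥(stabilizer Co1 (mkPair a0)) (mkPair r) = lvl d := by
  ext x
  constructor
  · rintro ⟨⟨q, hq⟩, rfl⟩
    obtain ⟨g, rfl⟩ := QuotientGroup.mk_surjective q
    show (QuotientGroup.mk g : Co1) • mkPair r ∈ lvl d
    rw [co1_mk_smul, smul_mkPair]
    have hdot := co0_dot g v0' r.1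
    rcases (co1_stab_iff g).mp hq with h | h
    · refine ⟨g • r, ?_, rfl⟩
      show dotInt (vecOf v0L) ((g.1 r.1 : leechLattice) : GolayPt → ℤ) = d
      rw [h] at hdot
      exact hdot.trans hr
    · refine ⟨negMin (g • r), ?_, mkPair_negMin _⟩
      show dotInt (vecOf v0L) ((negMin (g • r)).1 : GolayPt → ℤ) = d
      rw [dot_negMin]
      rw [h] at hdot
      have h2 : dotInt ((-v0' : leechLattice) : GolayPt → ℤ) ((g.1 r.1 : leechLattice) : GolayPt → ℤ) =
          -dotInt (vecOf v0L) ((g.1 r.1 : leechLattice) : GolayPt → ℤ) := by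
        rw [dotInt_comm, dotInt_comm (vecOf v0L)]
        exact dotInt_neg_right _ _
      rw [h2] at hdot
      show -dotInt (vecOf v0L) ((g.1 r.1 : leechLattice) : GolayPt → ℤ) = d
      rw [hdot]; exact hr
  · rintro ⟨w, hw, rfl⟩
    obtain ⟨g, h1, h2⟩ := htr r.1 w.1 r.2 w.2 hr hw
    have hq : (QuotientGroup.mk g : Co1) ∈ stabilizer Co1 (mkPair a0) := (co1_stab_iff g).mpr (Or.inl h1)
    refine ⟨⟨QuotientGroup.mk g, hq⟩, ?_⟩
    show (QuotientGroup.mk g : Co1) • mkPair r = mkPair w
    rw [co1_mk_smul, smul_mkPair]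
    congr 1
    exact Subtype.ext h2

/-- **The automorphism group of the lattice modulo its centre is simple.** -/
theorem isSimpleGroup_co1 : IsSimpleGroup Co1 := by
  classical
  have hfin0 : Finite Co0 := Nat.finite_of_card_ne_zero (by rw [card_Co0]; norm_num)
  have hfin1 : Finite Co1 := inferInstance
  obtain ⟨c1, c2, c3⟩ := census_vals (vecOf v0L) v0L_mem v0L_norm
  have hroot : ∀ d : ℤ, (census (vecOf v0L) d).ncard ≠ 0 →
      ∃ r : MinVec, dotInt (vecOf v0L) (r.1 : GolayPt → ℤ) = d := by
    intro d hd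
    obtain ⟨y, hy⟩ := Set.nonempty_of_ncard_ne_zero hd
    exact ⟨⟨⟨y, hy.1⟩, hy.2.1⟩, hy.2.2⟩
  obtain ⟨r1, hr1⟩ := hroot (-16) (by rw [c1]; norm_num)
  obtain ⟨r2, hr2⟩ := hroot (-8) (by rw [c2]; norm_num)
  obtain ⟨r3, hr3⟩ := hroot 0 (by rw [c3]; norm_num)
  have ho1 := co1_orbit_eq (-16) r1 hr1 (fun w w' hw hw' hd hd' =>
    co2_transitiveA v0' w w' v0L_norm hw hw' hd hd')
  have ho2 := co1_orbit_eq (-8) r2 hr2 (fun w w' hw hw' hd hd' =>
    co2_transitiveB v0' w w' v0L_norm hw hw' hd hd')
  have ho3 := co1_orbit_eq 0 r3 hr3 (fun w w' hw hw' hd hd' =>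
    co2_transitiveC v0' w w' v0L_norm hw hw' hd hd')
  have hn1 : (lvl (-16)).ncard = 4600 := by rw [lvl_ncard_of_ne _ (by norm_num), c1]
  have hn2 : (lvl (-8)).ncard = 47104 := by rw [lvl_ncard_of_ne _ (by norm_num), c2]
  have hn3 : (lvl 0).ncard = 46575 := by
    have := lvl_ncard_zero
    rw [c3] at this
    omega
  refine isSimpleGroup_of_suborbits_primes (G := Co1) (X := MinPair) (mkPair a0) isSimpleGroup_co1_stab
    ![mkPair r1, mkPair r2, mkPair r3] ![4600, 47104, 46575] ?_ ?_ (by decide) (by decide) (by norm_num)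
    98280 card_minPair (by decide) {3, 5, 7, 13} ?_ (by decide)
  · intro i
    fin_cases i
    · show (orbit _ (mkPair r1)).ncard = 4600
      rw [ho1, hn1]
    · show (orbit _ (mkPair r2)).ncard = 47104
      rw [ho2, hn2]
    · show (orbit _ (mkPair r3)).ncard = 46575
      rw [ho3, hn3]
  · intro x
    obtain ⟨w, rfl⟩ := mkPair_surjective x
    rcases min_dot_cases w with h | h | h | h | h | h | h
    · left; rw [h]
    · left; rw [h, mkPair_negMin]
    · right
      refine ⟨0, ?_⟩
      show mkPair w ∈ orbit _ (mkPair r1)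
      rw [ho1]
      exact ⟨w, h, rfl⟩
    · right
      refine ⟨0, ?_⟩
      show mkPair w ∈ orbit _ (mkPair r1)
      rw [ho1]
      refine ⟨negMin w, ?_, mkPair_negMin w⟩
      show dotInt (vecOf v0L) ((negMin w).1 : GolayPt → ℤ) = -16
      rw [dot_negMin, h]
    · right
      refine ⟨1, ?_⟩
      show mkPair w ∈ orbit _ (mkPair r2)
      rw [ho2]
      exact ⟨w, h, rfl⟩
    · right
      refine ⟨1, ?_⟩
      show mkPair w ∈ orbit _ (mkPair r2)
      rw [ho2]
      refine ⟨negMin w, ?_, mkPair_negMin w⟩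
      show dotInt (vecOf v0L) ((negMin w).1 : GolayPt → ℤ) = -8
      rw [dot_negMin, h]
    · right
      refine ⟨2, ?_⟩
      show mkPair w ∈ orbit _ (mkPair r3)
      rw [ho3]
      exact ⟨w, h, rfl⟩
  · intro p hp
    simp only [Finset.mem_insert, Finset.mem_singleton] at hp
    rcases hp with rfl | rfl | rfl | rfl <;> norm_num

/-- the order of the quotient -/
theorem card_co1 : Nat.card Co1 = 4157776806543360000 := by
  have h := Subgroup.card_eq_card_quotient_mul_card_subgroup (Subgroup.center Co0)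
  rw [card_Co0, card_center_Co0] at h
  show Nat.card (Co0 ⧸ Subgroup.center Co0) = 4157776806543360000
  omega

end Cfsg.Agent.Lib.Helper6.Leech
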