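import Cfsg.Agent.Lib.Helper6.LeechOrbit4

/-!
# Generators of a subgroup of the stabiliser of the reference minimal vector
-/

set_option autoImplicit false

namespace Cfsg.Agent.Lib.Helper6.Leech

open Cfsg
open Cfsg.Agent.Lib.Helper6.Golay

def co2Prog : List (ℕ × ℕ) := [(1, 0), (0, 1), (2, 3), (0, 4), (1, 4), (0, 5), (1, 6), (0, 7), (2, 7), (0, 8), (1, 8), (0, 10), (2, 11), (0, 12), (0, 13), (2, 16), (0, 17), (2, 18), (1, 19), (0, 20), (2, 21), (1, 22), (24, 24), (25, 25), (25, 26), (26, 26), (27, 28), (2, 23), (29, 30), (9, 9), (32, 32), (32, 33), (33, 33), (35, 35), (34, 36), (2, 15), (37, 38)]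

def co2pA : List ℕ := [0, 8, 4, 20, 17, 22, 5, 15, 2, 18, 19, 21, 9, 13, 12, 6, 14, 10, 3, 1, 16, 7, 11, 23]

def co2pB : List ℕ := [0, 12, 2, 16, 17, 6, 15, 4, 9, 11, 8, 22, 5, 13, 3, 1, 21, 20, 7, 14, 18, 19, 10, 23]

def co2pS : List ℕ := [23, 22, 11, 15, 17, 9, 19, 13, 20, 5, 16, 2, 21, 7, 18, 3, 10, 4, 14, 6, 8, 12, 1, 0]

def co2pT : List ℕ := [2, 23, 0, 12, 16, 18, 10, 20, 14, 21, 6, 17, 3, 22, 8, 19, 4, 11, 5, 15, 7, 9, 13, 1]

def co2Idx : List ℕ := [31, 39, 1, 14]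

def co2Gens : List (List Prim) := [[.perm co2pA], [.perm co2pB], [.perm co2pS], [.xi, .perm co2pT]]

def co2Perms : List (List ℕ) := [co2pA, co2pB, co2pS, co2pT]

theorem co2Perms_eq : co2Perms = co2Idx.map (fun k => (slpPerms co2Prog).getD k idl) := by
  decide +kernel

theorem co2Perms_rep : ∀ l ∈ co2Perms, Rep M24 l := by
  intro l hl
  rw [co2Perms_eq, List.mem_map] at hl
  obtain ⟨k, _, rfl⟩ := hl
  exact rep_slpPerms co2Prog k

/-- the reference minimal vector as a list -/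
def v0L : List ℤ := [4, 0, 0, 0, 0, 0, 0, 0, 0, 0, 0, 0, 0, 0, 0, 0, 0, 0, 0, 0, 0, 0, 0, 4]

theorem vecOf_v0L : vecOf v0L = w2 4 4 := by
  funext p
  revert p
  decide

theorem v0L_mem : vecOf v0L ∈ leechLattice := by rw [vecOf_v0L]; exact w2_mem

set_option maxRecDepth 100000 in
theorem co2Gens_ok : checkGens co2Perms [v0L] co2Gens = true := by decide +kernel

/-- transitivity of the stabiliser of the reference vector, given a certificate modulo signs -/
theorem co2_transitive_of_signs (root : List ℤ) (chunks : List ℕ) (bases : List (List (ℕ × ℕ)))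
    (k : ℤ) (N : ℕ) (hN : (census (w2 4 4) k).ncard = N) (hN0 : 0 < N)
    (hroot : vecOf root ∈ census (w2 4 4) k)
    (hchk : checkSigns co2Perms [v0L] 8388609 (orun co2Gens root (unpack chunks)).out bases N = true)
    (v w w' : leechLattice) (hv : sqNorm (v : GolayPt → ℤ) = 32)
    (hw : sqNorm (w : GolayPt → ℤ) = 32) (hw' : sqNorm (w' : GolayPt → ℤ) = 32)
    (hd : dotInt (v : GolayPt → ℤ) (w : GolayPt → ℤ) = k)
    (hd' : dotInt (v : GolayPt → ℤ) (w' : GolayPt → ℤ) = k) :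
    ∃ g : Co0, g • v = v ∧ g • w = w' := by
  obtain ⟨g0, hg0⟩ := R_min v.2 hv
  have hg0' : g0.1 v = v0 := hg0
  have e0 : (⟨vecOf v0L, v0L_mem⟩ : leechLattice) = v0 := Subtype.ext vecOf_v0L
  have hc : ∀ u : leechLattice, sqNorm (u : GolayPt → ℤ) = 32 →
      dotInt (v : GolayPt → ℤ) (u : GolayPt → ℤ) = k →
      ((g0.1 u : leechLattice) : GolayPt → ℤ) ∈ census (vecOf v0L) k := by
    intro u hu hdu
    refine ⟨(g0.1 u).2, ?_, ?_⟩
    · rw [co0_norm]; exact hu
    · have := co0_dot g0 v u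
      rw [hg0'] at this
      rw [vecOf_v0L]
      exact this.trans hdu
  rw [← vecOf_v0L] at hN hroot
  obtain ⟨h, hfix, hmap⟩ := stab_transitive_of_signs co2Perms_rep v0L v0L_mem co2Gens co2Gens_ok 8388609
    root chunks bases k N hN hN0 hroot hchk (g0.1 w) (g0.1 w') (hc w hw hd) (hc w' hw' hd')
  rw [e0] at hfix
  refine ⟨g0⁻¹ * h * g0, ?_, ?_⟩
  · show g0⁻¹.1 (h.1 (g0.1 v)) = v
    rw [hg0', hfix, ← hg0']
    show g0.1.symm (g0.1 v) = v
    exact Equiv.symm_apply_apply _ _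
  · show g0⁻¹.1 (h.1 (g0.1 w)) = w'
    rw [hmap]
    show g0.1.symm (g0.1 w') = w'
    exact Equiv.symm_apply_apply _ _

/-- membership of a root in a census set of the reference vector, by computation -/
theorem root_mem_census (root : List ℤ) (t : ℤ)
    (h : inLeechL root = true ∧ ((List.range 24).map (fun i => root.getD i 0 ^ 2)).sum = 32 ∧
      root.getD 23 0 + root.getD 0 0 = t) : vecOf root ∈ census (w2 4 4) (4 * t) := by
  obtain ⟨h1, h2, h3⟩ := h
  refine ⟨mem_leechLattice.mpr (inLeechL_sound root h1), ?_, ?_⟩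
  · rw [sqNorm_def, sum_golayPt]
    have : ∀ i ∈ Finset.range 24, vecOf root (pt i) ^ 2 = root.getD i 0 ^ 2 := by
      intro i hi
      rw [vecOf, idx_pt i (Finset.mem_range.mp hi)]
    rw [Finset.sum_congr rfl this, ← list_sum_range]
    exact h2
  · rw [dot_w2]
    have e1 : vecOf root none = root.getD 23 0 := rfl
    have e2 : vecOf root (some 0) = root.getD 0 0 := rfl
    rw [e1, e2, ← h3]; ring

end Cfsg.Agent.Lib.Helper6.Leech
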