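import Cfsg.Agent.Lib.Helper6.LeechCo3Data

/-!
# The orbit of length 552
-/

set_option autoImplicit false

namespace Cfsg.Agent.Lib.Helper6.Leech

open Cfsg
open Cfsg.Agent.Lib.Helper6.Golay

def co3RootA : List ℤ := [4, 0, 0, 0, 0, 0, 0, 0, 0, 0, 0, 0, 0, 0, 0, 0, 0, 0, 0, 0, 0, 0, 0, 4]

def co3CertA : List ℕ := [25421485657073653764862709190605549841, 260264117739178682280529854033035283, 254807912781549132539841310984503856, 25255331920899974782557436726283862067, 42633950931538969489799480571356782865, 3998071210458883880418028504378114048, 42535299673388533343101480454498358016, 25255335732791918887506820478012686865, 24092298073277728632634472660525384193, 176540629421129716930583240445530880, 22846167025151983861776662732036124707, 25255392851941331908291951035108430594, 66462396168519548884859446406269829664, 1422689350073162641717455632216567808, 25260870523070295708191976843470963475, 67802026499231678259380568389892177952, 1578462057872883226884172863750995968, 43953766463778621236696596069654540306, 66462375965006876241283546816345805568, 176538182342645384116981717067177984, 42628781293955318205367738664829846035, 63813978933857197751218649641695313920, 23932269935125023705578175998550081539,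 89242849844311328801208734628971312, 63969137946515720157906917051186937858, 176560911831950853566583719176700673, 4236918203255550889823545937219289107, 4086337642891063305802104171338600960, 46522979941625499657135012477564813600, 181772460203174604214221476289577233, 61020582729449024009628433973536, 3998071121672963041206302821775975168, 166518583774591967196666428532064560, 65313902342333444993751892186736099379, 53478144]

theorem co3RootA_ok : inLeechL co3RootA = true ∧ normL co3RootA = 32 ∧ dotL u0L co3RootA = 24 := by
  decide +kernel

set_option maxRecDepth 1000000 in
set_option maxHeartbeats 4000000 in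
theorem co3CertA_ok : checkOrbit co3Gens co3RootA co3CertA 552 = true := by decide +kernel

/-- **The stabiliser of a vector of norm 48 is transitive on the 552 minimal vectors with inner
product 24 with it.** -/
theorem co3_transitive_552 (u w w' : leechLattice) (hu : sqNorm (u : GolayPt → ℤ) = 48)
    (hw : sqNorm (w : GolayPt → ℤ) = 32) (hw' : sqNorm (w' : GolayPt → ℤ) = 32)
    (hd : dotInt (u : GolayPt → ℤ) (w : GolayPt → ℤ) = 24)
    (hd' : dotInt (u : GolayPt → ℤ) (w' : GolayPt → ℤ) = 24) :
    ∃ g : Co0, g • u = u ∧ g • w = w' :=
  co3_transitive_of_cert co3RootA co3CertA 24 552 co3Set_24_ncard (root_mem_co3Set _ _ co3RootA_ok)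
    co3CertA_ok u w w' hu hw hw' hd hd'

end Cfsg.Agent.Lib.Helper6.Leech
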