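import Cfsg.Agent.Lib.Helper6.LeechCo3List
import Cfsg.Agent.Lib.Helper6.LeechCo3A

/-!
# The stabiliser of a triangle of type 223: the orbit of length 275 and its suborbits
-/

set_option autoImplicit false

namespace Cfsg.Agent.Lib.Helper6.Leech

open Cfsg
open Cfsg.Agent.Lib.Helper6.Golay
open Cfsg.Agent.Lib.Helper6.LeechCount

theorem norm_sub_iff {u x : GolayPt → ℤ} (hu : sqNorm u = 48) (hx : sqNorm x = 32) :
    sqNorm (u - x) = 32 ↔ dotInt u x = 24 := by
  rw [sqNorm_sub, hu, hx]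
  constructor <;> intro h <;> omega

theorem sqNorm_eq_zero {z : GolayPt → ℤ} (h : sqNorm z = 0) : z = 0 := by
  rw [sqNorm_def] at h
  funext i
  have := (Finset.sum_eq_zero_iff_of_nonneg (fun j _ => sq_nonneg (z j))).mp h i (Finset.mem_univ _)
  exact pow_eq_zero_iff (by norm_num) |>.mp this

theorem eq_of_dot_32 {x y : GolayPt → ℤ} (hx : sqNorm x = 32) (hy : sqNorm y = 32)
    (h : dotInt x y = 32) : x = y := by
  have h0 : sqNorm (x - y) = 0 := by rw [sqNorm_sub, hx, hy, h]; norm_num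
  have := sqNorm_eq_zero h0
  exact sub_eq_zero.mp this

theorem dot_self (x : GolayPt → ℤ) : dotInt x x = sqNorm x := (sqNorm_eq_dot x).symm

/-- the reference minimal vector as a lattice vector -/
def v0' : leechLattice := ⟨vecOf v0L, v0L_mem⟩

/-- the third reference vector as a lattice vector -/
def x1' : leechLattice := ⟨vecOf x1L, x1L_mem⟩

theorem v0L_norm : sqNorm (vecOf v0L) = 32 := by rw [sqNorm_vecOf]; exact hmRefs_ok.2.2.2.2.2.2.2.1

theorem x1L_norm : sqNorm (vecOf x1L) = 32 := by rw [sqNorm_vecOf]; exact hmRefs_ok.2.1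

theorem u0_v0_dot : dotInt (vecOf u0L) (vecOf v0L) = 24 := by
  rw [dotInt_vecOf]; exact hmRefs_ok.2.2.2.2.2.2.2.2.1

theorem u0_x1_dot : dotInt (vecOf u0L) (vecOf x1L) = 24 := by
  rw [dotInt_vecOf]; exact hmRefs_ok.2.2.1

theorem v0_x1_dot : dotInt (vecOf v0L) (vecOf x1L) = 16 := by
  rw [dotInt_vecOf]; exact hmRefs_ok.2.2.2.1

/-- every pair of type (3, 2) with inner product 24 is conjugate to the reference pair -/
theorem exists_to_u0v0 (u v : leechLattice) (hu : sqNorm (u : GolayPt → ℤ) = 48)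
    (hv : sqNorm (v : GolayPt → ℤ) = 32) (hd : dotInt (u : GolayPt → ℤ) (v : GolayPt → ℤ) = 24) :
    ∃ g : Co0, g.1 u = u0 ∧ g.1 v = v0' := by
  obtain ⟨g0, hg0⟩ := exists_to_u0 u hu
  have h1 : sqNorm ((g0.1 v : leechLattice) : GolayPt → ℤ) = 32 := by rw [co0_norm]; exact hv
  have h2 : dotInt (u0 : GolayPt → ℤ) ((g0.1 v : leechLattice) : GolayPt → ℤ) = 24 := by
    rw [← hg0, co0_dot]; exact hd
  obtain ⟨h, hf, hm⟩ := co3_transitive_552 u0 (g0.1 v) v0' u0L_norm h1 v0L_norm h2 u0_v0_dot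
  refine ⟨h * g0, ?_, ?_⟩
  · show h.1 (g0.1 u) = u0
    rw [hg0]; exact hf
  · show h.1 (g0.1 v) = v0'
    exact hm

/-- the 275 minimal vectors attached to the reference pair -/
def mclSet : Set (GolayPt → ℤ) := {y | y ∈ co3Set 24 ∧ dotInt (vecOf v0L) y = 16}

theorem mclSet_ncard : mclSet.ncard = 275 := by
  rw [mclSet, ncard_co3Set_24 (fun y => dotInt (vecOf v0L) y = 16) (fun x => dotL v0L x == 16)
    (fun x => by rw [beq_iff_eq, dotInt_vecOf]), L552_counts.1]

theorem mclSet_inv : ∀ a b, Reach [u0L, v0L] a b → vecOf a ∈ mclSet → vecOf b ∈ mclSet := by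
  rintro a b h ⟨⟨ha, han, had⟩, hav⟩
  obtain ⟨hb, hbn⟩ := reach_mem h ha
  refine ⟨⟨hb, hbn.trans han, (reach_dot h ha u0L List.mem_cons_self u0L_mem).trans had⟩, ?_⟩
  exact (reach_dot h ha v0L (List.mem_cons_of_mem _ List.mem_cons_self) v0L_mem).trans hav

def mcl275Root : List ℤ := [0, 0, 0, 0, 0, 0, 0, 0, 0, 0, 0, 0, 0, 4, 0, 0, 0, 0, 0, 0, 0, 0, 0, 4]

def mcl275Cert : List ℕ := [2664033669087877112181327535729086739, 3993849929007234484717973528052375555, 15599866802055987315657529929904128, 25255332089201928948092731097744420883, 45194728041736385218868908947911217922, 44113754284351970265490879090404622336, 10385955454896075038307760769073152, 25255376288034998119697633131554222082, 1418146095271065942931713567787917315, 42536005764311139120092319143616840480, 65381402295211691721549804296728609041, 22763030853982931948209806642065248768, 3998758188282556188451897154437513264, 249880791655930118748932596022903088, 63969482673454187530787484684524793856,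 42546065839492905856321156404560789507, 259638928311116193883174631717928960, 0]

theorem mcl275Root_ok : inLeechL mcl275Root = true ∧ normL mcl275Root = 32 ∧ dotL u0L mcl275Root = 24 ∧
    dotL v0L mcl275Root = 16 := by decide +kernel

theorem mcl275Root_mem : vecOf mcl275Root ∈ mclSet :=
  ⟨root_mem_co3Set _ _ ⟨mcl275Root_ok.1, mcl275Root_ok.2.1, mcl275Root_ok.2.2.1⟩,
    (dotInt_vecOf _ _).trans mcl275Root_ok.2.2.2⟩

set_option maxRecDepth 1000000 in
set_option maxHeartbeats 4000000 in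
theorem mcl275_ok : checkOrbitF mclGens mcl275Root mcl275Cert 275 = true := by decide +kernel

/-- transitivity of the stabiliser of the reference pair on the 275 vectors -/
theorem mcl_transitive_ref (w w' : leechLattice) (hw : (w : GolayPt → ℤ) ∈ mclSet)
    (hw' : (w' : GolayPt → ℤ) ∈ mclSet) : ∃ g : Co0, g.1 u0 = u0 ∧ g.1 v0' = v0' ∧ g.1 w = w' := by
  obtain ⟨g, hf, hg⟩ := stab_transitive_gen hmPerms_rep [u0L, v0L] mclGens mclGens_ok mcl275Root mcl275Cert 275
    mclSet mclSet_ncard mcl275Root_mem (fun x hx => hx.1.1) mclSet_inv (checkOrbit_of_F mcl275_ok) w w' hw hw'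
  exact ⟨g, hf u0L List.mem_cons_self u0L_mem,
    hf v0L (List.mem_cons_of_mem _ List.mem_cons_self) v0L_mem, hg⟩

/-- membership of the transported vector -/
theorem mem_mclSet_of (g : Co0) (u v x : leechLattice) (hgu : g.1 u = u0) (hgv : g.1 v = v0')
    (hx : sqNorm (x : GolayPt → ℤ) = 32) (h1 : dotInt (u : GolayPt → ℤ) (x : GolayPt → ℤ) = 24)
    (h2 : dotInt (v : GolayPt → ℤ) (x : GolayPt → ℤ) = 16) :
    ((g.1 x : leechLattice) : GolayPt → ℤ) ∈ mclSet := by
  refine ⟨⟨(g.1 x).2, ?_, ?_⟩, ?_⟩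
  · rw [co0_norm]; exact hx
  · have := co0_dot g u x
    rw [hgu] at this
    exact this.trans h1
  · have := co0_dot g v x
    rw [hgv] at this
    exact this.trans h2

/-- **The 275 vectors attached to a pair, and the transitivity of the stabiliser of the pair.** -/
theorem mcl_main (u v : leechLattice) (hu : sqNorm (u : GolayPt → ℤ) = 48)
    (hv : sqNorm (v : GolayPt → ℤ) = 32) (hd : dotInt (u : GolayPt → ℤ) (v : GolayPt → ℤ) = 24) :
    {x : leechLattice | sqNorm (x : GolayPt → ℤ) = 32 ∧ dotInt (u : GolayPt → ℤ) (x : GolayPt → ℤ) = 24 ∧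
      dotInt (v : GolayPt → ℤ) (x : GolayPt → ℤ) = 16}.ncard = 275 ∧
    ∀ x x' : leechLattice, (sqNorm (x : GolayPt → ℤ) = 32 ∧ dotInt (u : GolayPt → ℤ) (x : GolayPt → ℤ) = 24 ∧
      dotInt (v : GolayPt → ℤ) (x : GolayPt → ℤ) = 16) →
      (sqNorm (x' : GolayPt → ℤ) = 32 ∧ dotInt (u : GolayPt → ℤ) (x' : GolayPt → ℤ) = 24 ∧
      dotInt (v : GolayPt → ℤ) (x' : GolayPt → ℤ) = 16) →
      ∃ g : Co0, g • u = u ∧ g • v = v ∧ g • x = x' := by
  obtain ⟨g0, hgu, hgv⟩ := exists_to_u0v0 u v hu hv hd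
  refine ⟨?_, ?_⟩
  · rw [ncard_transport g0 (fun x => sqNorm (x : GolayPt → ℤ) = 32 ∧
        dotInt (u : GolayPt → ℤ) (x : GolayPt → ℤ) = 24 ∧ dotInt (v : GolayPt → ℤ) (x : GolayPt → ℤ) = 16)
      (fun y => (y : GolayPt → ℤ) ∈ mclSet)]
    · rw [ncard_subtype_eq (fun y => y ∈ mclSet), ← mclSet_ncard]
      congr 1
      ext y
      exact ⟨fun h => h.2, fun h => ⟨h.1.1, h⟩⟩
    · intro x
      constructor
      · rintro ⟨h1, h2, h3⟩
        exact mem_mclSet_of g0 u v x hgu hgv h1 h2 h3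
      · rintro ⟨⟨_, h1, h2⟩, h3⟩
        refine ⟨?_, ?_, ?_⟩
        · rw [← co0_norm g0]; exact h1
        · rw [← co0_dot g0, hgu]; exact h2
        · rw [← co0_dot g0, hgv]; exact h3
  · rintro x x' ⟨h1, h2, h3⟩ ⟨h1', h2', h3'⟩
    obtain ⟨h, hfu, hfv, hm⟩ := mcl_transitive_ref (g0.1 x) (g0.1 x')
      (mem_mclSet_of g0 u v x hgu hgv h1 h2 h3) (mem_mclSet_of g0 u v x' hgu hgv h1' h2' h3')
    refine ⟨g0⁻¹ * h * g0, conj_back g0 h u u ?_, conj_back g0 h v v ?_, conj_back g0 h x x' hm⟩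
    · rw [hgu]; exact hfu
    · rw [hgv]; exact hfv

end Cfsg.Agent.Lib.Helper6.Leech
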