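import Cfsg.Agent.Lib.Helper6.LeechOrbit7

/-!
# Chunked orbit certificates: the vectors described, without a prior count of the target set
-/

set_option autoImplicit false

namespace Cfsg.Agent.Lib.Helper6.Leech

open Cfsg
open Cfsg.Agent.Lib.Helper6.Golay

/-- the vectors described by a chunked certificate: their number and their reachability -/
theorem chunks_finset {perms : List (List ℕ)} (hperms : ∀ l ∈ perms, Rep M24 l)
    {refs : List (List ℤ)} {gens : List (List Prim)} (hgens : checkGens perms refs gens = true)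
    (fixmask : ℕ) (root : List ℤ) (chunks : List Chunk) (N : ℕ)
    (hchunks : ∀ c ∈ chunks, checkChunk perms refs fixmask gens root c = true)
    (hglobal : checkGlobal chunks N = true) :
    ∃ F : Finset (GolayPt → ℤ), F.card = N ∧ ∀ y ∈ F, ReachF refs (vecOf root) y := by
  set L := chunks.flatMap (fun c => c.pairs gens root) with hL
  have hg := goodWord_of_checkGens hperms hgens
  -- unpack the chunk checks
  have hc : ∀ c ∈ chunks, GoodWord refs c.word ∧ (c.reps gens root).length = (c.bases.map (decodeBasis 12)).length ∧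
      (∀ rb ∈ c.pairs gens root, checkGens perms refs (rb.2.map (fun bp => [Prim.sign bp.1])) = true ∧
        pivotOK rb.1 rb.2 = true ∧ ∀ bp ∈ rb.2, bp.1 &&& fixmask = 0) ∧
      (c.reps gens root).map (fun r => keyF fixmask (vecOf r) % 1099511627689) = c.keys ∧
      ((c.bases.map (decodeBasis 12)).map (fun BP => 2 ^ BP.length)).sum = c.count := by
    intro c hcm
    have h := hchunks c hcm
    simp only [checkChunk, pivotOK'_eq, keyF'_eq, Bool.and_eq_true, decide_eq_true_eq, List.all_eq_true,
      beq_iff_eq] at h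
    obtain ⟨⟨⟨⟨h1, h2⟩, h3⟩, h4⟩, h5⟩ := h
    refine ⟨?_, by rw [List.length_map]; exact h2, fun rb hrb => ⟨(h3 rb hrb).1.1, (h3 rb hrb).1.2,
      (h3 rb hrb).2⟩, h4, h5⟩
    exact goodWord_of_checkGens hperms h1 c.word List.mem_cons_self
  simp only [checkGlobal, Bool.and_eq_true, decide_eq_true_eq] at hglobal
  obtain ⟨hrad, hsum⟩ := hglobal
  have hLmem : ∀ rb ∈ L, ∃ c ∈ chunks, rb ∈ c.pairs gens root := by
    intro rb hrb
    rw [hL, List.mem_flatMap] at hrb
    exact hrb
  -- keys
  have hkeys : (L.map (fun rb => keyF fixmask (vecOf rb.1))).Nodup := by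
    have h1 := nodup_of_radix _ _ hrad
    have e : chunks.flatMap (fun c => c.keys) =
        (L.map (fun rb => keyF fixmask (vecOf rb.1))).map (fun k => k % 1099511627689) := by
      rw [hL, List.map_flatMap, List.map_flatMap]
      apply List.flatMap_congr
      intro c hcm
      obtain ⟨_, h2, _, h4, _⟩ := hc c hcm
      rw [← h4, Chunk.pairs, List.map_map]
      have := map_fst_zip (c.reps gens root) (c.bases.map (decodeBasis 12)) h2
      conv_lhs => rw [← this]
      rw [List.map_map]
      rfl
    rw [e] at h1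
    exact List.Nodup.of_map _ h1
  have hnd : (allVecsP L).Nodup :=
    nodup_allVecsP fixmask L
      (fun rb hrb => by obtain ⟨c, hcm, h⟩ := hLmem rb hrb; exact ((hc c hcm).2.2.1 rb h).2.1)
      (fun rb hrb => by obtain ⟨c, hcm, h⟩ := hLmem rb hrb; exact ((hc c hcm).2.2.1 rb h).2.2) hkeys
  have hreach : ∀ y ∈ allVecsP L, ReachF refs (vecOf root) y := by
    intro y hy
    rw [allVecsP, List.mem_flatMap] at hy
    obtain ⟨rb, hrb, hy⟩ := hy
    obtain ⟨c, hcm, hrbc⟩ := hLmem rb hrb
    obtain ⟨hw, _, h3, _, _⟩ := hc c hcm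
    have h0 : ReachF refs (vecOf root) (vecOf (actW c.word root)) := reach_of_goodWord hw root
    have h1 : ReachF refs (vecOf (actW c.word root)) (vecOf rb.1) :=
      orun_sound hg (actW c.word root) (unpack c.cert) rb.1 (List.of_mem_zip hrbc).1
    have hB : ∀ b ∈ rb.2.map Prod.fst, GoodWord refs [.sign b] := by
      intro b hb
      rw [List.mem_map] at hb
      obtain ⟨bp, hbp, rfl⟩ := hb
      apply goodWord_of_checkGens hperms (h3 rb hrbc).1
      rw [List.mem_map]
      exact ⟨bp, hbp, rfl⟩
    exact (h0.trans h1).trans (reachF_signOrbit _ hB _ y hy)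
  have hcard : (allVecsP L).toFinset.card = N := by
    rw [List.toFinset_card_of_nodup hnd, length_allVecsP, ← hsum, hL, sum_map_flatMap]
    congr 1
    apply List.map_congr_left
    intro c hcm
    obtain ⟨_, h2, _, _, h5⟩ := hc c hcm
    rw [← h5, Chunk.pairs, sum_pow_zip _ _ h2]
  refine ⟨(allVecsP L).toFinset, hcard, fun y hy => ?_⟩
  rw [List.mem_toFinset] at hy
  exact hreach y hy

end Cfsg.Agent.Lib.Helper6.Leech
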