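import Cfsg.Agent.Lib.Helper6.LeechCo2Sub_co2sA_c0
import Cfsg.Agent.Lib.Helper6.LeechCo2Sub_co2sB_c0
import Cfsg.Agent.Lib.Helper6.LeechCo2Sub_co2sB_c1
import Cfsg.Agent.Lib.Helper6.LeechCo2Sub_co2sC_c0
import Cfsg.Agent.Lib.Helper6.LeechCo2Sub_co2sC_c1
import Cfsg.Agent.Lib.Helper6.LeechCo2Sub_co2sC_c2
import Cfsg.Agent.Lib.Helper6.LeechCo2Sub_co2sC_c3
import Cfsg.Agent.Lib.Helper6.LeechCo2Sub_co2sC_c4
import Cfsg.Agent.Lib.Helper6.LeechCo2Sub_co2sC_c5
import Cfsg.Agent.Lib.Helper6.LeechCo2Sub_co2sD_c0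
import Cfsg.Agent.Lib.Helper6.LeechCo2Sub_co2sD_c1
import Cfsg.Agent.Lib.Helper6.LeechCo2Sub_co2sD_c2
import Cfsg.Agent.Lib.Helper6.LeechCo2Sub_co2sD_c3
import Cfsg.Agent.Lib.Helper6.LeechCo2Sub_co2sE_c0
import Cfsg.Agent.Lib.Helper6.LeechOrbit10
import Cfsg.Agent.Lib.Helper6.LeechMcL

/-!
# The suborbits of the 47104 minimal vectors with inner product -8 with a minimal vector
-/

set_option autoImplicit false

namespace Cfsg.Agent.Lib.Helper6.Leech

open Cfsg
open Cfsg.Agent.Lib.Helper6.Golay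

def co2sAChunks : List Chunk := [co2sAChunk0]

theorem co2sAChunks_ok : ∀ c ∈ co2sAChunks, checkChunk hmPerms [u0L, v0L] 16777215 mclGens co2sARoot c = true := by
  intro c hc
  simp only [co2sAChunks, List.mem_cons, List.not_mem_nil, or_false] at hc
  subst hc
  exact co2sAChunk0_ok

set_option maxRecDepth 1000000 in
set_option maxHeartbeats 4000000 in
theorem co2sAGlobal_ok : checkGlobal co2sAChunks 275 = true := by decide +kernel

def co2sBChunks : List Chunk := [co2sBChunk0, co2sBChunk1, co2sBChunk2, co2sBChunk3, co2sBChunk4, co2sBChunk5, co2sBChunk6, co2sBChunk7, co2sBChunk8, co2sBChunk9, co2sBChunk10, co2sBChunk11]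

theorem co2sBChunks_ok : ∀ c ∈ co2sBChunks, checkChunk hmPerms [u0L, v0L] 16777215 mclGens co2sBRoot c = true := by
  intro c hc
  simp only [co2sBChunks, List.mem_cons, List.not_mem_nil, or_false] at hc
  rcases hc with rfl | rfl | rfl | rfl | rfl | rfl | rfl | rfl | rfl | rfl | rfl | rfl
  · exact co2sBChunk0_ok
  · exact co2sBChunk1_ok
  · exact co2sBChunk2_ok
  · exact co2sBChunk3_ok
  · exact co2sBChunk4_ok
  · exact co2sBChunk5_ok
  · exact co2sBChunk6_ok
  · exact co2sBChunk7_ok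
  · exact co2sBChunk8_ok
  · exact co2sBChunk9_ok
  · exact co2sBChunk10_ok
  · exact co2sBChunk11_ok

set_option maxRecDepth 1000000 in
set_option maxHeartbeats 4000000 in
theorem co2sBGlobal_ok : checkGlobal co2sBChunks 7128 = true := by decide +kernel

def co2sCChunks : List Chunk := [co2sCChunk0, co2sCChunk1, co2sCChunk2, co2sCChunk3, co2sCChunk4, co2sCChunk5, co2sCChunk6, co2sCChunk7, co2sCChunk8, co2sCChunk9, co2sCChunk10, co2sCChunk11, co2sCChunk12, co2sCChunk13, co2sCChunk14, co2sCChunk15, co2sCChunk16, co2sCChunk17, co2sCChunk18, co2sCChunk19, co2sCChunk20, co2sCChunk21, co2sCChunk22, co2sCChunk23, co2sCChunk24, co2sCChunk25, co2sCChunk26, co2sCChunk27, co2sCChunk28, co2sCChunk29, co2sCChunk30, co2sCChunk31, co2sCChunk32, co2sCChunk33, co2sCChunk34, co2sCChunk35]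

theorem co2sCChunks_ok : ∀ c ∈ co2sCChunks, checkChunk hmPerms [u0L, v0L] 16777215 mclGens co2sCRoot c = true := by
  intro c hc
  simp only [co2sCChunks, List.mem_cons, List.not_mem_nil, or_false] at hc
  rcases hc with rfl | rfl | rfl | rfl | rfl | rfl | rfl | rfl | rfl | rfl | rfl | rfl | rfl | rfl | rfl | rfl | rfl | rfl | rfl | rfl | rfl | rfl | rfl | rfl | rfl | rfl | rfl | rfl | rfl | rfl | rfl | rfl | rfl | rfl | rfl | rfl
  · exact co2sCChunk0_ok
  · exact co2sCChunk1_ok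
  · exact co2sCChunk2_ok
  · exact co2sCChunk3_ok
  · exact co2sCChunk4_ok
  · exact co2sCChunk5_ok
  · exact co2sCChunk6_ok
  · exact co2sCChunk7_ok
  · exact co2sCChunk8_ok
  · exact co2sCChunk9_ok
  · exact co2sCChunk10_ok
  · exact co2sCChunk11_ok
  · exact co2sCChunk12_ok
  · exact co2sCChunk13_ok
  · exact co2sCChunk14_ok
  · exact co2sCChunk15_ok
  · exact co2sCChunk16_ok
  · exact co2sCChunk17_ok
  · exact co2sCChunk18_ok
  · exact co2sCChunk19_ok
  · exact co2sCChunk20_ok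
  · exact co2sCChunk21_ok
  · exact co2sCChunk22_ok
  · exact co2sCChunk23_ok
  · exact co2sCChunk24_ok
  · exact co2sCChunk25_ok
  · exact co2sCChunk26_ok
  · exact co2sCChunk27_ok
  · exact co2sCChunk28_ok
  · exact co2sCChunk29_ok
  · exact co2sCChunk30_ok
  · exact co2sCChunk31_ok
  · exact co2sCChunk32_ok
  · exact co2sCChunk33_ok
  · exact co2sCChunk34_ok
  · exact co2sCChunk35_ok

set_option maxRecDepth 1000000 in
set_option maxHeartbeats 4000000 in
theorem co2sCGlobal_ok : checkGlobal co2sCChunks 22275 = true := by decide +kernel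

def co2sDChunks : List Chunk := [co2sDChunk0, co2sDChunk1, co2sDChunk2, co2sDChunk3, co2sDChunk4, co2sDChunk5, co2sDChunk6, co2sDChunk7, co2sDChunk8, co2sDChunk9, co2sDChunk10, co2sDChunk11, co2sDChunk12, co2sDChunk13, co2sDChunk14, co2sDChunk15, co2sDChunk16, co2sDChunk17, co2sDChunk18, co2sDChunk19, co2sDChunk20, co2sDChunk21, co2sDChunk22, co2sDChunk23]

theorem co2sDChunks_ok : ∀ c ∈ co2sDChunks, checkChunk hmPerms [u0L, v0L] 16777215 mclGens co2sDRoot c = true := by
  intro c hc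
  simp only [co2sDChunks, List.mem_cons, List.not_mem_nil, or_false] at hc
  rcases hc with rfl | rfl | rfl | rfl | rfl | rfl | rfl | rfl | rfl | rfl | rfl | rfl | rfl | rfl | rfl | rfl | rfl | rfl | rfl | rfl | rfl | rfl | rfl | rfl
  · exact co2sDChunk0_ok
  · exact co2sDChunk1_ok
  · exact co2sDChunk2_ok
  · exact co2sDChunk3_ok
  · exact co2sDChunk4_ok
  · exact co2sDChunk5_ok
  · exact co2sDChunk6_ok
  · exact co2sDChunk7_ok
  · exact co2sDChunk8_ok
  · exact co2sDChunk9_ok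
  · exact co2sDChunk10_ok
  · exact co2sDChunk11_ok
  · exact co2sDChunk12_ok
  · exact co2sDChunk13_ok
  · exact co2sDChunk14_ok
  · exact co2sDChunk15_ok
  · exact co2sDChunk16_ok
  · exact co2sDChunk17_ok
  · exact co2sDChunk18_ok
  · exact co2sDChunk19_ok
  · exact co2sDChunk20_ok
  · exact co2sDChunk21_ok
  · exact co2sDChunk22_ok
  · exact co2sDChunk23_ok

set_option maxRecDepth 1000000 in
set_option maxHeartbeats 4000000 in
theorem co2sDGlobal_ok : checkGlobal co2sDChunks 15400 = true := by decide +kernel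

def co2sEChunks : List Chunk := [co2sEChunk0, co2sEChunk1, co2sEChunk2, co2sEChunk3]

theorem co2sEChunks_ok : ∀ c ∈ co2sEChunks, checkChunk hmPerms [u0L, v0L] 16777215 mclGens co2sERoot c = true := by
  intro c hc
  simp only [co2sEChunks, List.mem_cons, List.not_mem_nil, or_false] at hc
  rcases hc with rfl | rfl | rfl | rfl
  · exact co2sEChunk0_ok
  · exact co2sEChunk1_ok
  · exact co2sEChunk2_ok
  · exact co2sEChunk3_ok

set_option maxRecDepth 1000000 in
set_option maxHeartbeats 4000000 in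
theorem co2sEGlobal_ok : checkGlobal co2sEChunks 2025 = true := by decide +kernel

set_option maxRecDepth 100000 in
theorem co2sRoots_ok :
    (inLeechL co2sARoot = true ∧ normL co2sARoot = 32 ∧ dotL v0L co2sARoot = -8 ∧ dotL u0L co2sARoot = -24) ∧
    (inLeechL co2sBRoot = true ∧ normL co2sBRoot = 32 ∧ dotL v0L co2sBRoot = -8 ∧ dotL u0L co2sBRoot = -16) ∧
    (inLeechL co2sCRoot = true ∧ normL co2sCRoot = 32 ∧ dotL v0L co2sCRoot = -8 ∧ dotL u0L co2sCRoot = -8) ∧
    (inLeechL co2sDRoot = true ∧ normL co2sDRoot = 32 ∧ dotL v0L co2sDRoot = -8 ∧ dotL u0L co2sDRoot = 0) ∧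
    (inLeechL co2sERoot = true ∧ normL co2sERoot = 32 ∧ dotL v0L co2sERoot = -8 ∧ dotL u0L co2sERoot = 8) := by
  decide +kernel

/-- the level sets -/
def co2Level (k : ℤ) : Set (GolayPt → ℤ) :=
  {y | (y ∈ leechLattice ∧ sqNorm y = 32 ∧ dotInt (vecOf v0L) y = -8) ∧ dotInt (vecOf u0L) y = k}

/-- the vectors described by the certificate of a level -/
theorem level_data (root : List ℤ) (k : ℤ) (chunks : List Chunk) (N : ℕ)
    (hroot : inLeechL root = true ∧ normL root = 32 ∧ dotL v0L root = -8 ∧ dotL u0L root = k)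
    (hchunks : ∀ c ∈ chunks, checkChunk hmPerms [u0L, v0L] 16777215 mclGens root c = true)
    (hglobal : checkGlobal chunks N = true) :
    ∃ F : Finset (GolayPt → ℤ), F.card = N ∧ (∀ y ∈ F, y ∈ co2Level k) ∧
      ∀ y ∈ F, ∀ y' ∈ F, ∃ g : Co0, g.1 u0 = u0 ∧ g.1 v0' = v0' ∧
        ∀ hy : y ∈ leechLattice, ((g.1 ⟨y, hy⟩ : leechLattice) : GolayPt → ℤ) = y' := by
  obtain ⟨F, hF, hreach⟩ := chunks_finset hmPerms_rep mclGens_ok 16777215 root chunks N hchunks hglobal
  have hrL : vecOf root ∈ leechLattice := mem_leechLattice.mpr (inLeechL_sound root hroot.1)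
  refine ⟨F, hF, fun y hy => ?_, fun y hy y' hy' => ?_⟩
  · have h := hreach y hy
    obtain ⟨h1, h2⟩ := reachF_mem h hrL
    refine ⟨⟨h1, ?_, ?_⟩, ?_⟩
    · rw [h2, sqNorm_vecOf]; exact hroot.2.1
    · rw [reachF_dot h hrL v0L (List.mem_cons_of_mem _ List.mem_cons_self) v0L_mem, dotInt_vecOf]
      exact hroot.2.2.1
    · rw [reachF_dot h hrL u0L List.mem_cons_self u0L_mem, dotInt_vecOf]
      exact hroot.2.2.2
  · obtain ⟨g1, hf1, h1⟩ := hreach y hy
    obtain ⟨g2, hf2, h2⟩ := hreach y' hy'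
    have e1 := h1 hrL
    have e2 := h2 hrL
    refine ⟨g2 * g1⁻¹, ?_, ?_, fun hyL => ?_⟩
    · show g2.1 (g1⁻¹.1 u0) = u0
      have : g1⁻¹.1 u0 = u0 := by
        show g1.1.symm u0 = u0
        rw [Equiv.symm_apply_eq]
        exact (hf1 u0L List.mem_cons_self u0L_mem).symm
      rw [this]
      exact hf2 u0L List.mem_cons_self u0L_mem
    · show g2.1 (g1⁻¹.1 v0') = v0'
      have : g1⁻¹.1 v0' = v0' := by
        show g1.1.symm v0' = v0'
        rw [Equiv.symm_apply_eq]
        exact (hf1 v0L (List.mem_cons_of_mem _ List.mem_cons_self) v0L_mem).symm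
      rw [this]
      exact hf2 v0L (List.mem_cons_of_mem _ List.mem_cons_self) v0L_mem
    · show ((g2.1 (g1⁻¹.1 ⟨y, hyL⟩) : leechLattice) : GolayPt → ℤ) = y'
      have : g1⁻¹.1 ⟨y, hyL⟩ = ⟨vecOf root, hrL⟩ := by
        show g1.1.symm ⟨y, hyL⟩ = _
        rw [Equiv.symm_apply_eq]
        exact Subtype.ext e1.symm
      rw [this]
      exact e2

/-- a family of disjoint finite subsets exhausting a finite set, by counting -/
theorem squeeze_levels {α : Type*} {m : ℕ} (X : Set α) (hX : X.Finite) (f : α → ℤ)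
    (F : Fin m → Finset α) (c : Fin m → ℤ) (hc : Function.Injective c)
    (hF : ∀ i, ∀ y ∈ F i, y ∈ X ∧ f y = c i) (hsum : ∑ i, (F i).card = X.ncard) :
    (∀ y ∈ X, ∃ i, y ∈ F i) ∧ ∀ i, ∀ y ∈ X, f y = c i → y ∈ F i := by
  classical
  have hdisj : ∀ i ∈ (Finset.univ : Finset (Fin m)), ∀ j ∈ (Finset.univ : Finset (Fin m)), i ≠ j →
      Disjoint (F i) (F j) := by
    intro i _ j _ hij
    rw [Finset.disjoint_left]
    intro y hyi hyj
    apply hij
    apply hc
    rw [← (hF i y hyi).2, (hF j y hyj).2]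
  have hcard := Finset.card_biUnion hdisj
  have hsub : (↑(Finset.univ.biUnion F) : Set α) ⊆ X := by
    intro y hy
    rw [Finset.mem_coe, Finset.mem_biUnion] at hy
    obtain ⟨i, _, hyi⟩ := hy
    exact (hF i y hyi).1
  have heq : (↑(Finset.univ.biUnion F) : Set α) = X := by
    apply Set.eq_of_subset_of_ncard_le hsub _ hX
    rw [Set.ncard_coe_finset, hcard, hsum]
  have hex : ∀ y ∈ X, ∃ i, y ∈ F i := by
    intro y hy
    rw [← heq, Finset.mem_coe, Finset.mem_biUnion] at hy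
    obtain ⟨j, _, hyj⟩ := hy
    exact ⟨j, hyj⟩
  refine ⟨hex, fun i y hy hfy => ?_⟩
  obtain ⟨j, hyj⟩ := hex y hy
  have : j = i := hc (by rw [← (hF j y hyj).2, hfy])
  rw [← this]
  exact hyj

end Cfsg.Agent.Lib.Helper6.Leech
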