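import Cfsg.Agent.Lib.Helper6.LeechSubBase

/-! # Roots of the suborbits of the 47104 minimal vectors -/

set_option autoImplicit false

namespace Cfsg.Agent.Lib.Helper6.Leech

open Cfsg
open Cfsg.Agent.Lib.Helper6.Golay

def co2sARoot : List ℤ := [0, -2, -2, 0, 0, 0, 0, 0, 0, 0, 0, 0, 0, 0, -2, 0, -2, 0, -2, -2, -2, 0, 0, -2]

def co2sBRoot : List ℤ := [-2, 0, -2, 0, 0, 0, 0, 0, 0, 0, 0, 0, 0, -2, -2, -2, -2, -2, 0, 0, -2, 0, 0, 0]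

def co2sCRoot : List ℤ := [-2, 0, -2, 0, 0, 0, 0, 0, 0, 0, 0, 0, 0, -2, -2, -2, -2, 2, 0, 0, 2, 0, 0, 0]

def co2sDRoot : List ℤ := [-2, 0, -2, 0, 0, 0, 0, 0, 0, 0, 0, 0, 0, -2, -2, 2, 2, 2, 0, 0, 2, 0, 0, 0]

def co2sERoot : List ℤ := [-2, 0, -2, 0, 0, 0, 0, 0, 0, 0, 0, 0, 0, 2, 2, 2, 2, 2, 0, 0, 2, 0, 0, 0]

end Cfsg.Agent.Lib.Helper6.Leech
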