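import Cfsg.Agent.Lib.Helper6.LeechCount4

/-!
# Counting lattice vectors of norm 48 with prescribed sum of two coordinates
-/

set_option autoImplicit false

namespace Cfsg.Agent.Lib.Helper6.Leech

open Cfsg
open Cfsg.Agent.Lib.Helper6.Golay
open Cfsg.Agent.Lib.Helper6.LeechCount

/-- the contribution of a codeword with key `(w, b1, b2)`: even vectors of norm 48 -/
def classE48 (t : ℤ) (w : ℕ) (b1 b2 : Bool) : ℕ :=
  ((if b1 = true then V2 else V0).map (fun a => entry2 V2 V0 w b1 b2 a (t - a) (48 * 8 + 0))).sum

/-- the contribution of a codeword with key `(w, b1, b2)`: odd vectors of norm 48 -/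
def classO48 (t : ℤ) (w : ℕ) (b1 b2 : Bool) : ℕ :=
  ((if b1 = true then V1 else V3).map (fun a => entry2 V1 V3 w b1 b2 a (t - a) (48 * 8 + 4))).sum

theorem ncard_48_sum2 (t : ℤ) :
    {x : GolayPt → ℤ | x ∈ leechLattice ∧ sqNorm x = 48 ∧ x none + x (some 0) = t}.ncard =
      ∑ m ∈ Finset.range 4096,
        (classE48 t (pc 24 (combo m)) ((combo m).testBit 23) ((combo m).testBit 0) +
          classO48 t (pc 24 (combo m)) ((combo m).testBit 23) ((combo m).testBit 0)) := by
  have h := ncard_leech_norm_P (fun x => x none + x (some 0) = t) (n := 48) (by norm_num)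
  simp only [Nat.cast_ofNat] at h
  rw [h]
  refine Finset.sum_congr rfl (fun m _ => ?_)
  have e1 := card_filter_sum2 V2 V0 (by decide) (by decide) (fs (combo m)) t 48 0 (by norm_num)
    (by norm_num)
  have e2 := card_filter_sum2 V1 V3 (by decide) (by decide) (fs (combo m)) t 48 4 (by norm_num)
    (by norm_num)
  rw [decide_none_mem_fs, decide_zero_mem_fs, card_fs] at e1 e2
  rw [classE48, classO48, ← e1, ← e2]
  rfl

/-- the total over the code -/
def total48 (t : ℤ) : ℕ :=
  let f := fun (w : ℕ) (b1 b2 : Bool) => classE48 t w b1 b2 + classO48 t w b1 b2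
  f 0 false false + 330 * f 8 false false + 176 * f 8 false true + 176 * f 8 true false +
    77 * f 8 true true + 616 * f 12 false false + 672 * f 12 false true + 672 * f 12 true false +
    616 * f 12 true true + 77 * f 16 false false + 176 * f 16 false true + 176 * f 16 true false +
    330 * f 16 true true + f 24 true true

theorem ncard_48_sum2' (t : ℤ) :
    {x : GolayPt → ℤ | x ∈ leechLattice ∧ sqNorm x = 48 ∧ x none + x (some 0) = t}.ncard = total48 t := by
  rw [ncard_48_sum2, sum_by_key' (fun w b1 b2 => classE48 t w b1 b2 + classO48 t w b1 b2)]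
  rfl

set_option maxRecDepth 1000000 in
set_option maxHeartbeats 4000000 in
theorem total48_vals : total48 (-4) = 953856 := by
  decide +kernel

end Cfsg.Agent.Lib.Helper6.Leech
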