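import Cfsg.Agent.Lib.Helper6.LeechPairs
import Cfsg.Agent.Lib.Helper6.LeechCount48

/-!
# The number of minimal vectors with inner product `-16` with a vector of norm 48 (double counting)
-/

set_option autoImplicit false

namespace Cfsg.Agent.Lib.Helper6.Leech

open Cfsg
open Cfsg.Agent.Lib.Helper6.Golay

/-- the set of lattice vectors of norm 48 with given inner product with `v` -/
def census48 (v : GolayPt → ℤ) (k : ℤ) : Set (GolayPt → ℤ) :=
  {w | w ∈ leechLattice ∧ sqNorm w = 48 ∧ dotInt v w = k}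

theorem census48_ncard_eq (v w : leechLattice) (g : Co0) (hg : g.1 v = w) (k : ℤ) :
    (census48 (v : GolayPt → ℤ) k).ncard = (census48 (w : GolayPt → ℤ) k).ncard := by
  refine Set.ncard_congr (fun x hx => ((g.1 ⟨x, hx.1⟩ : leechLattice) : GolayPt → ℤ)) ?_ ?_ ?_
  · rintro x ⟨hx, hn, hd⟩
    refine ⟨(g.1 ⟨x, hx⟩).2, ?_, ?_⟩
    · rw [co0_norm]; exact hn
    · rw [← hg, co0_dot]; exact hd
  · rintro x y ⟨hx, _, _⟩ ⟨hy, _, _⟩ h
    have := g.1.injective (Subtype.ext h)
    exact congrArg Subtype.val this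
  · rintro y ⟨hy, hn, hd⟩
    refine ⟨((g.1.symm ⟨y, hy⟩ : leechLattice) : GolayPt → ℤ), ⟨(g.1.symm ⟨y, hy⟩).2, ?_, ?_⟩, ?_⟩
    · have := co0_norm g (g.1.symm ⟨y, hy⟩)
      rw [Equiv.apply_symm_apply] at this
      rw [← this]; exact hn
    · have := co0_dot g v (g.1.symm ⟨y, hy⟩)
      rw [Equiv.apply_symm_apply, hg] at this
      rw [← this]; exact hd
    · simp

theorem census48_v0 (t : ℤ) : (census48 (v0 : GolayPt → ℤ) (4 * t)).ncard = total48 t := by
  rw [← ncard_48_sum2']
  congr 1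
  ext x
  simp only [census48, Set.mem_ofPred_eq]
  have : dotInt ((v0 : leechLattice) : GolayPt → ℤ) x = 4 * (x none + x (some 0)) := by
    show dotInt (w2 4 4) x = _
    rw [dot_w2]; ring
  rw [this]
  constructor
  · rintro ⟨h1, h2, h3⟩; exact ⟨h1, h2, by omega⟩
  · rintro ⟨h1, h2, h3⟩; exact ⟨h1, h2, by omega⟩

theorem census48_val (v : GolayPt → ℤ) (hv : v ∈ leechLattice) (hvn : sqNorm v = 32) :
    (census48 v (-16)).ncard = 953856 := by
  obtain ⟨g, hg⟩ := R_min hv hvn
  have h := fun k => census48_ncard_eq ⟨v, hv⟩ v0 g hg k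
  simp only at h
  rw [h, show (-16 : ℤ) = 4 * (-4) by norm_num, census48_v0, total48_vals]

/-- **The number of minimal vectors having inner product `-16` with a vector of norm 48**, given
transitivity on the vectors of norm 48. -/
theorem census_48_neg16 (htrans : ∀ v w : leechLattice, sqNorm (v : GolayPt → ℤ) = 48 →
    sqNorm (w : GolayPt → ℤ) = 48 → ∃ g : Co0, g • v = w) (u : leechLattice)
    (hu : sqNorm (u : GolayPt → ℤ) = 48) : (census (u : GolayPt → ℤ) (-16)).ncard = 11178 := by
  classical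
  have hdc := Finset.sum_card_bipartiteAbove_eq_sum_card_bipartiteBelow (s := fin48) (t := fin32)
    (fun a b => dotInt a b = -16)
  have h1 : ∀ a ∈ fin48, (Finset.bipartiteAbove (fun a b => dotInt a b = -16) fin32 a).card =
      (census (u : GolayPt → ℤ) (-16)).ncard := by
    intro a ha
    obtain ⟨haL, han⟩ := mem_fin48.mp ha
    obtain ⟨g, hg⟩ := htrans ⟨a, haL⟩ u han hu
    have hg' : g.1 ⟨a, haL⟩ = u := hg
    rw [← census_ncard_eq ⟨a, haL⟩ u g hg' (-16), ← Set.ncard_coe_finset]
    congr 1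
    ext b
    rw [Finset.mem_coe, Finset.bipartiteAbove, Finset.mem_filter, mem_fin32]
    simp only [census, Set.mem_ofPred_eq, and_assoc]
  have h2 : ∀ b ∈ fin32, (Finset.bipartiteBelow (fun a b => dotInt a b = -16) fin48 b).card = 953856 := by
    intro b hb
    obtain ⟨hbL, hbn⟩ := mem_fin32.mp hb
    rw [← census48_val b hbL hbn, ← Set.ncard_coe_finset]
    congr 1
    ext a
    rw [Finset.mem_coe, Finset.bipartiteBelow, Finset.mem_filter, mem_fin48, dotInt_comm]
    simp only [census48, Set.mem_ofPred_eq, and_assoc]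
  rw [Finset.sum_congr rfl h1, Finset.sum_congr rfl h2, Finset.sum_const, Finset.sum_const, card_fin48,
    card_fin32, smul_eq_mul, smul_eq_mul] at hdc
  omega

end Cfsg.Agent.Lib.Helper6.Leech
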