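import Cfsg.Agent.Lib.Helper6.LeechCo3Bc0
import Cfsg.Agent.Lib.Helper6.LeechCo3Bc1
import Cfsg.Agent.Lib.Helper6.LeechCo3Bc2
import Cfsg.Agent.Lib.Helper6.LeechPairs2

/-!
# The orbit of length 11178
-/

set_option autoImplicit false

namespace Cfsg.Agent.Lib.Helper6.Leech

open Cfsg
open Cfsg.Agent.Lib.Helper6.Golay

def co3BChunks : List Chunk := [co3BChunk0, co3BChunk1, co3BChunk2, co3BChunk3, co3BChunk4, co3BChunk5, co3BChunk6, co3BChunk7, co3BChunk8, co3BChunk9]

theorem co3BChunks_ok : ∀ c ∈ co3BChunks, checkChunk co3Perms [u0L] 16777215 co3Gens co3RootB c = true := by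
  intro c hc
  simp only [co3BChunks, List.mem_cons, List.not_mem_nil, or_false] at hc
  rcases hc with rfl | rfl | rfl | rfl | rfl | rfl | rfl | rfl | rfl | rfl
  · exact co3BChunk0_ok
  · exact co3BChunk1_ok
  · exact co3BChunk2_ok
  · exact co3BChunk3_ok
  · exact co3BChunk4_ok
  · exact co3BChunk5_ok
  · exact co3BChunk6_ok
  · exact co3BChunk7_ok
  · exact co3BChunk8_ok
  · exact co3BChunk9_ok

set_option maxRecDepth 1000000 in
set_option maxHeartbeats 4000000 in
theorem co3BGlobal_ok : checkGlobal co3BChunks 11178 = true := by decide +kernel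

theorem co3Set_neg16_ncard : (co3Set (-16)).ncard = 11178 :=
  census_48_neg16 co0_transitive_48 u0 u0L_norm

theorem co3Set_invF (k : ℤ) : ∀ x y, ReachF [u0L] x y → x ∈ co3Set k → y ∈ co3Set k := by
  rintro x y h ⟨hx, hxn, hxd⟩
  obtain ⟨hy, hyn⟩ := reachF_mem h hx
  exact ⟨hy, hyn.trans hxn, (reachF_dot h hx u0L List.mem_cons_self u0L_mem).trans hxd⟩

/-- **The stabiliser of a vector of norm 48 is transitive on the 11178 minimal vectors with inner
product -16 with it.** -/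
theorem co3_transitive_11178 (u w w' : leechLattice) (hu : sqNorm (u : GolayPt → ℤ) = 48)
    (hw : sqNorm (w : GolayPt → ℤ) = 32) (hw' : sqNorm (w' : GolayPt → ℤ) = 32)
    (hd : dotInt (u : GolayPt → ℤ) (w : GolayPt → ℤ) = -16)
    (hd' : dotInt (u : GolayPt → ℤ) (w' : GolayPt → ℤ) = -16) :
    ∃ g : Co0, g • u = u ∧ g • w = w' := by
  obtain ⟨g0, hg0⟩ := exists_to_u0 u hu
  have hc : ∀ x : leechLattice, sqNorm (x : GolayPt → ℤ) = 32 →
      dotInt (u : GolayPt → ℤ) (x : GolayPt → ℤ) = -16 →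
      ((g0.1 x : leechLattice) : GolayPt → ℤ) ∈ co3Set (-16) := by
    intro x hx hdx
    refine ⟨(g0.1 x).2, ?_, ?_⟩
    · rw [co0_norm]; exact hx
    · have := co0_dot g0 u x
      rw [hg0] at this
      exact this.trans hdx
  obtain ⟨h, hfix, hmap⟩ := stab_transitive_chunks co3Perms_rep [u0L] co3Gens co3Gens_ok 16777215 co3RootB
    co3BChunks 11178 (by norm_num) (co3Set (-16)) co3Set_neg16_ncard (root_mem_co3Set _ _ co3RootB_ok)
    (fun x hx => hx.1) (co3Set_invF (-16)) co3BChunks_ok co3BGlobal_ok (g0.1 w) (g0.1 w') (hc w hw hd)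
    (hc w' hw' hd')
  have hfix' : h.1 u0 = u0 := hfix u0L List.mem_cons_self u0L_mem
  refine ⟨g0⁻¹ * h * g0, ?_, ?_⟩
  · show g0⁻¹.1 (h.1 (g0.1 u)) = u
    rw [hg0, hfix', ← hg0]
    show g0.1.symm (g0.1 u) = u
    exact Equiv.symm_apply_apply _ _
  · show g0⁻¹.1 (h.1 (g0.1 w)) = w'
    rw [hmap]
    show g0.1.symm (g0.1 w') = w'
    exact Equiv.symm_apply_apply _ _

end Cfsg.Agent.Lib.Helper6.Leech
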