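import Cfsg.Agent.Lib.Helper6.LeechOrbit3

/-!
# Orbit certificates for general invariant sets, with the explicit list of the orbit
-/

set_option autoImplicit false

namespace Cfsg.Agent.Lib.Helper6.Leech

open Cfsg
open Cfsg.Agent.Lib.Helper6.Golay
open Cfsg.Agent.Lib.Helper6.LeechCount

/-- sum of squares of a coordinate list -/
def normL (a : List ℤ) : ℤ := ((List.range 24).map (fun i => a.getD i 0 * a.getD i 0)).sum

/-- inner product of coordinate lists -/
def dotL (a b : List ℤ) : ℤ := ((List.range 24).map (fun i => a.getD i 0 * b.getD i 0)).sum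

theorem dotInt_vecOf (a b : List ℤ) : dotInt (vecOf a) (vecOf b) = dotL a b := by
  rw [dotInt, sum_golayPt, dotL, list_sum_range]
  refine Finset.sum_congr rfl (fun i hi => ?_)
  rw [vecOf, vecOf, idx_pt i (Finset.mem_range.mp hi)]

theorem sqNorm_vecOf (a : List ℤ) : sqNorm (vecOf a) = normL a := by
  rw [sqNorm_def, sum_golayPt, normL, list_sum_range]
  refine Finset.sum_congr rfl (fun i hi => ?_)
  rw [vecOf, idx_pt i (Finset.mem_range.mp hi), sq]

theorem sqNorm_eq_dot (x : GolayPt → ℤ) : sqNorm x = dotInt x x := by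
  rw [sqNorm_def, dotInt]
  exact Finset.sum_congr rfl (fun i _ => sq (x i))

/-- **The enumerated orbit is the whole invariant set.** -/
theorem orbit_list_eq {refs : List (List ℤ)} {gens : List (List Prim)} (hg : ∀ w ∈ gens, GoodWord refs w)
    (root : List ℤ) (instrs : List ℕ) (X : Set (GolayPt → ℤ)) (N : ℕ) (hN : X.ncard = N) (hNpos : 0 < N)
    (hroot : vecOf root ∈ X) (hinv : ∀ a b, Reach refs a b → vecOf a ∈ X → vecOf b ∈ X)
    (hlen : (orun gens root instrs).out.length = N)
    (hnd : radixNodup 96 ((orun gens root instrs).out.map (fun x => encV (vecOf x))) = true) :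
    ((orun gens root instrs).out.map vecOf).Nodup ∧
      ∀ y, y ∈ X ↔ y ∈ (orun gens root instrs).out.map vecOf := by
  set L := (orun gens root instrs).out with hL
  have hnd' : (L.map vecOf).Nodup := by
    have h1 := nodup_of_radix _ _ hnd
    have e : L.map (fun x => encV (vecOf x)) = (L.map vecOf).map encV := by
      rw [List.map_map]; rfl
    rw [e] at h1
    exact List.Nodup.of_map _ h1
  have hsound := orun_sound hg root instrs
  have hsub : (↑(L.map vecOf).toFinset : Set (GolayPt → ℤ)) ⊆ X := by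
    intro y hy
    rw [Finset.mem_coe, List.mem_toFinset, List.mem_map] at hy
    obtain ⟨x, hx, rfl⟩ := hy
    exact hinv root x (hsound x hx) hroot
  have hcard : (L.map vecOf).toFinset.card = N := by
    rw [List.toFinset_card_of_nodup hnd', List.length_map, hlen]
  have hfin : X.Finite := Set.finite_of_ncard_pos (by rw [hN]; exact hNpos)
  have heq : (↑(L.map vecOf).toFinset : Set (GolayPt → ℤ)) = X := by
    apply Set.eq_of_subset_of_ncard_le hsub _ hfin
    rw [Set.ncard_coe_finset, hcard, hN]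
  refine ⟨hnd', fun y => ?_⟩
  rw [← heq, Finset.mem_coe, List.mem_toFinset]

/-- the number of elements of the invariant set with a Boolean property, from the list -/
theorem ncard_filter_of_list (L : List (List ℤ)) (X : Set (GolayPt → ℤ)) (hnd : (L.map vecOf).Nodup)
    (hX : ∀ y, y ∈ X ↔ y ∈ L.map vecOf) (P : (GolayPt → ℤ) → Prop) (p : List ℤ → Bool)
    (hp : ∀ x ∈ L, (p x = true ↔ P (vecOf x))) :
    {y | y ∈ X ∧ P y}.ncard = L.countP p := by
  classical
  have e : {y | y ∈ X ∧ P y} = (↑((L.filter p).map vecOf).toFinset : Set (GolayPt → ℤ)) := by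
    ext y
    rw [Finset.mem_coe, List.mem_toFinset, List.mem_map]
    constructor
    · rintro ⟨hy, hPy⟩
      rw [hX, List.mem_map] at hy
      obtain ⟨x, hx, rfl⟩ := hy
      exact ⟨x, List.mem_filter.mpr ⟨hx, (hp x hx).mpr hPy⟩, rfl⟩
    · rintro ⟨x, hx, rfl⟩
      rw [List.mem_filter] at hx
      exact ⟨(hX _).mpr (List.mem_map.mpr ⟨x, hx.1, rfl⟩), (hp x hx.1).mp hx.2⟩
  have hnd2 : ((L.filter p).map vecOf).Nodup := by
    have hs : ((L.filter p).map vecOf).Sublist (L.map vecOf) :=
      List.Sublist.map _ List.filter_sublist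
    exact hnd.sublist hs
  rw [e, Set.ncard_coe_finset, List.toFinset_card_of_nodup hnd2, List.length_map, List.countP_eq_length_filter]

/-- **Transitivity of the joint stabiliser of reference vectors on an invariant set, from an orbit
certificate.** -/
theorem stab_transitive_gen {perms : List (List ℕ)} (hperms : ∀ l ∈ perms, Rep M24 l)
    (refs : List (List ℤ)) (gens : List (List Prim)) (hgens : checkGens perms refs gens = true)
    (root : List ℤ) (chunks : List ℕ) (N : ℕ) (X : Set (GolayPt → ℤ)) (hN : X.ncard = N)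
    (hroot : vecOf root ∈ X) (hXL : ∀ x ∈ X, x ∈ leechLattice)
    (hinv : ∀ a b, Reach refs a b → vecOf a ∈ X → vecOf b ∈ X)
    (hchk : checkOrbit gens root chunks N = true)
    (w w' : leechLattice) (hw : (w : GolayPt → ℤ) ∈ X) (hw' : (w' : GolayPt → ℤ) ∈ X) :
    ∃ g : Co0, (∀ r ∈ refs, ∀ hr : vecOf r ∈ leechLattice, g.1 ⟨vecOf r, hr⟩ = ⟨vecOf r, hr⟩) ∧
      g.1 w = w' := by
  have hg := goodWord_of_checkGens hperms hgens
  rw [checkOrbit, Bool.and_eq_true, decide_eq_true_iff] at hchk
  have hcomp := orbit_complete hg root (unpack chunks) X N hN hroot hinv hchk.1 hchk.2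
  obtain ⟨x, hx, g1, hf1, h1⟩ := hcomp _ hw
  obtain ⟨x', hx', g2, hf2, h2⟩ := hcomp _ hw'
  have hrootL : vecOf root ∈ leechLattice := hXL _ hroot
  have e1 : g1.1 ⟨vecOf root, hrootL⟩ = w := Subtype.ext ((h1 hrootL).trans hx)
  have e2 : g2.1 ⟨vecOf root, hrootL⟩ = w' := Subtype.ext ((h2 hrootL).trans hx')
  refine ⟨g2 * g1⁻¹, fun r hr hrr => ?_, ?_⟩
  · have f1 := hf1 r hr hrr
    have f2 := hf2 r hr hrr
    show g2.1 (g1⁻¹.1 ⟨vecOf r, hrr⟩) = _
    have : g1⁻¹.1 ⟨vecOf r, hrr⟩ = ⟨vecOf r, hrr⟩ := by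
      show g1.1.symm ⟨vecOf r, hrr⟩ = _
      rw [Equiv.symm_apply_eq, f1]
    rw [this, f2]
  · show g2.1 (g1⁻¹.1 w) = _
    have : g1⁻¹.1 w = ⟨vecOf root, hrootL⟩ := by
      show g1.1.symm w = _
      rw [Equiv.symm_apply_eq, e1]
    rw [this, e2]

/-- an automorphism fixing the reference vectors preserves inner products with them -/
theorem reach_dot {refs : List (List ℤ)} {a b : List ℤ} (h : Reach refs a b) (ha : vecOf a ∈ leechLattice)
    (r : List ℤ) (hr : r ∈ refs) (hrL : vecOf r ∈ leechLattice) :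
    dotInt (vecOf r) (vecOf b) = dotInt (vecOf r) (vecOf a) := by
  obtain ⟨g, hfix, hab⟩ := h
  have hb := hab ha
  have hf := hfix r hr hrL
  have := co0_dot g ⟨vecOf r, hrL⟩ ⟨vecOf a, ha⟩
  rw [hf, hb] at this
  exact this

theorem reach_mem {refs : List (List ℤ)} {a b : List ℤ} (h : Reach refs a b) (ha : vecOf a ∈ leechLattice) :
    vecOf b ∈ leechLattice ∧ sqNorm (vecOf b) = sqNorm (vecOf a) := by
  obtain ⟨g, _, hab⟩ := h
  have hb := hab ha
  refine ⟨?_, ?_⟩
  · rw [← hb]; exact (g.1 ⟨vecOf a, ha⟩).2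
  · rw [← hb, co0_norm]

end Cfsg.Agent.Lib.Helper6.Leech
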