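import Cfsg.Agent.Lib.Helper6.LeechOrbit5
import Cfsg.Agent.Lib.Helper6.LeechOrbit6

/-!
# Transitivity of joint stabilisers from chunked orbit certificates
-/

set_option autoImplicit false

namespace Cfsg.Agent.Lib.Helper6.Leech

open Cfsg
open Cfsg.Agent.Lib.Helper6.Golay

theorem reachF_dot {refs : List (List ℤ)} {x y : GolayPt → ℤ} (h : ReachF refs x y) (hx : x ∈ leechLattice)
    (r : List ℤ) (hr : r ∈ refs) (hrL : vecOf r ∈ leechLattice) :
    dotInt (vecOf r) y = dotInt (vecOf r) x := by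
  obtain ⟨g, hfix, hab⟩ := h
  have hb := hab hx
  have hf := hfix r hr hrL
  have := co0_dot g ⟨vecOf r, hrL⟩ ⟨x, hx⟩
  rw [hf, hb] at this
  exact this

theorem reachF_mem {refs : List (List ℤ)} {x y : GolayPt → ℤ} (h : ReachF refs x y) (hx : x ∈ leechLattice) :
    y ∈ leechLattice ∧ sqNorm y = sqNorm x := by
  obtain ⟨g, _, hab⟩ := h
  have hb := hab hx
  refine ⟨?_, ?_⟩
  · rw [← hb]; exact (g.1 ⟨x, hx⟩).2
  · rw [← hb, co0_norm]

/-- **Transitivity of the joint stabiliser of reference vectors on an invariant set, from a chunked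
orbit certificate.** -/
theorem stab_transitive_chunks {perms : List (List ℕ)} (hperms : ∀ l ∈ perms, Rep M24 l)
    (refs : List (List ℤ)) (gens : List (List Prim)) (hgens : checkGens perms refs gens = true)
    (fixmask : ℕ) (root : List ℤ) (chunks : List Chunk) (N : ℕ) (hN0 : 0 < N)
    (X : Set (GolayPt → ℤ)) (hN : X.ncard = N)
    (hroot : vecOf root ∈ X) (hXL : ∀ x ∈ X, x ∈ leechLattice)
    (hinv : ∀ x y, ReachF refs x y → x ∈ X → y ∈ X)
    (hchunks : ∀ c ∈ chunks, checkChunk perms refs fixmask gens root c = true)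
    (hglobal : checkGlobal chunks N = true)
    (w w' : leechLattice) (hw : (w : GolayPt → ℤ) ∈ X) (hw' : (w' : GolayPt → ℤ) ∈ X) :
    ∃ g : Co0, (∀ r ∈ refs, ∀ hr : vecOf r ∈ leechLattice, g.1 ⟨vecOf r, hr⟩ = ⟨vecOf r, hr⟩) ∧
      g.1 w = w' := by
  have hcomp := orbit_complete_chunks hperms hgens fixmask root chunks X N hN hN0 hroot hinv hchunks hglobal
  obtain ⟨g1, hf1, h1⟩ := hcomp _ hw
  obtain ⟨g2, hf2, h2⟩ := hcomp _ hw'
  have hrootL : vecOf root ∈ leechLattice := hXL _ hroot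
  have e1 : g1.1 ⟨vecOf root, hrootL⟩ = w := Subtype.ext (h1 hrootL)
  have e2 : g2.1 ⟨vecOf root, hrootL⟩ = w' := Subtype.ext (h2 hrootL)
  refine ⟨g2 * g1⁻¹, fun r hr hrr => ?_, ?_⟩
  · have f1 := hf1 r hr hrr
    have f2 := hf2 r hr hrr
    show g2.1 (g1⁻¹.1 ⟨vecOf r, hrr⟩) = _
    have : g1⁻¹.1 ⟨vecOf r, hrr⟩ = ⟨vecOf r, hrr⟩ := by
      show g1.1.symm ⟨vecOf r, hrr⟩ = _
      rw [Equiv.symm_apply_eq, f1]
    rw [this, f2]
  · show g2.1 (g1⁻¹.1 w) = _
    have : g1⁻¹.1 w = ⟨vecOf root, hrootL⟩ := by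
      show g1.1.symm w = _
      rw [Equiv.symm_apply_eq, e1]
    rw [this, e2]

/-- membership in a list of chunks, unfolded -/
theorem forall_mem_chunks (P : Chunk → Prop) (L : List Chunk) (h : List.Forall P L) : ∀ c ∈ L, P c :=
  List.forall_iff_forall_mem.mp h

end Cfsg.Agent.Lib.Helper6.Leech
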