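import Cfsg.Agent.Lib.Helper6.LeechCo3Data
import Cfsg.Agent.Lib.Helper6.LeechOrbit7

/-! # The root of the orbit of length 11178 -/

set_option autoImplicit false

namespace Cfsg.Agent.Lib.Helper6.Leech

open Cfsg
open Cfsg.Agent.Lib.Helper6.Golay

def co3RootB : List ℤ := [4, 0, 0, 0, 0, 0, 0, 0, 0, 0, 0, 0, 0, 0, 0, 0, 0, 0, 0, 0, 0, 0, 0, -4]

theorem co3RootB_ok : inLeechL co3RootB = true ∧ normL co3RootB = 32 ∧ dotL u0L co3RootB = -16 := by
  decide +kernel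

end Cfsg.Agent.Lib.Helper6.Leech
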