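import Cfsg.Agent.Lib.Helper6.LeechOrbit8

/-!
# The explicit list of an orbit from a chunked certificate with trivial sign bases, and counting
-/

set_option autoImplicit false

namespace Cfsg.Agent.Lib.Helper6.Leech

open Cfsg
open Cfsg.Agent.Lib.Helper6.Golay

theorem chunks_allVecs_spec {perms : List (List ℕ)} (hperms : ∀ l ∈ perms, Rep M24 l)
    {refs : List (List ℤ)} {gens : List (List Prim)} (hgens : checkGens perms refs gens = true)
    (fixmask : ℕ) (root : List ℤ) (chunks : List Chunk) (X : Set (GolayPt → ℤ))
    (N : ℕ) (hN : X.ncard = N) (hN0 : 0 < N)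
    (hroot : vecOf root ∈ X) (hinv : ∀ x y, ReachF refs x y → x ∈ X → y ∈ X)
    (hchunks : ∀ c ∈ chunks, checkChunk perms refs fixmask gens root c = true)
    (hglobal : checkGlobal chunks N = true) :
    (allVecsP (chunks.flatMap (fun c => c.pairs gens root))).Nodup ∧
      ∀ y, y ∈ X ↔ y ∈ allVecsP (chunks.flatMap (fun c => c.pairs gens root)) := by
  set L := chunks.flatMap (fun c => c.pairs gens root) with hL
  have hg := goodWord_of_checkGens hperms hgens
  -- unpack the chunk checks
  have hc : ∀ c ∈ chunks, GoodWord refs c.word ∧ (c.reps gens root).length = (c.bases.map (decodeBasis 12)).length ∧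
      (∀ rb ∈ c.pairs gens root, checkGens perms refs (rb.2.map (fun bp => [Prim.sign bp.1])) = true ∧
        pivotOK rb.1 rb.2 = true ∧ ∀ bp ∈ rb.2, bp.1 &&& fixmask = 0) ∧
      (c.reps gens root).map (fun r => keyF fixmask (vecOf r) % 1099511627689) = c.keys ∧
      ((c.bases.map (decodeBasis 12)).map (fun BP => 2 ^ BP.length)).sum = c.count := by
    intro c hcm
    have h := hchunks c hcm
    simp only [checkChunk, pivotOK'_eq, keyF'_eq, Bool.and_eq_true, decide_eq_true_eq, List.all_eq_true,
      beq_iff_eq] at h
    obtain ⟨⟨⟨⟨h1, h2⟩, h3⟩, h4⟩, h5⟩ := h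
    refine ⟨?_, by rw [List.length_map]; exact h2, fun rb hrb => ⟨(h3 rb hrb).1.1, (h3 rb hrb).1.2,
      (h3 rb hrb).2⟩, h4, h5⟩
    exact goodWord_of_checkGens hperms h1 c.word List.mem_cons_self
  simp only [checkGlobal, Bool.and_eq_true, decide_eq_true_eq] at hglobal
  obtain ⟨hrad, hsum⟩ := hglobal
  have hLmem : ∀ rb ∈ L, ∃ c ∈ chunks, rb ∈ c.pairs gens root := by
    intro rb hrb
    rw [hL, List.mem_flatMap] at hrb
    exact hrb
  -- keys
  have hkeys : (L.map (fun rb => keyF fixmask (vecOf rb.1))).Nodup := by
    have h1 := nodup_of_radix _ _ hrad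
    have e : chunks.flatMap (fun c => c.keys) =
        (L.map (fun rb => keyF fixmask (vecOf rb.1))).map (fun k => k % 1099511627689) := by
      rw [hL, List.map_flatMap, List.map_flatMap]
      apply List.flatMap_congr
      intro c hcm
      obtain ⟨_, h2, _, h4, _⟩ := hc c hcm
      rw [← h4, Chunk.pairs, List.map_map]
      have := map_fst_zip (c.reps gens root) (c.bases.map (decodeBasis 12)) h2
      conv_lhs => rw [← this]
      rw [List.map_map]
      rfl
    rw [e] at h1
    exact List.Nodup.of_map _ h1
  have hnd : (allVecsP L).Nodup :=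
    nodup_allVecsP fixmask L
      (fun rb hrb => by obtain ⟨c, hcm, h⟩ := hLmem rb hrb; exact ((hc c hcm).2.2.1 rb h).2.1)
      (fun rb hrb => by obtain ⟨c, hcm, h⟩ := hLmem rb hrb; exact ((hc c hcm).2.2.1 rb h).2.2) hkeys
  have hreach : ∀ y ∈ allVecsP L, ReachF refs (vecOf root) y := by
    intro y hy
    rw [allVecsP, List.mem_flatMap] at hy
    obtain ⟨rb, hrb, hy⟩ := hy
    obtain ⟨c, hcm, hrbc⟩ := hLmem rb hrb
    obtain ⟨hw, _, h3, _, _⟩ := hc c hcm
    have h0 : ReachF refs (vecOf root) (vecOf (actW c.word root)) := reach_of_goodWord hw root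
    have h1 : ReachF refs (vecOf (actW c.word root)) (vecOf rb.1) :=
      orun_sound hg (actW c.word root) (unpack c.cert) rb.1 (List.of_mem_zip hrbc).1
    have hB : ∀ b ∈ rb.2.map Prod.fst, GoodWord refs [.sign b] := by
      intro b hb
      rw [List.mem_map] at hb
      obtain ⟨bp, hbp, rfl⟩ := hb
      apply goodWord_of_checkGens hperms (h3 rb hrbc).1
      rw [List.mem_map]
      exact ⟨bp, hbp, rfl⟩
    exact (h0.trans h1).trans (reachF_signOrbit _ hB _ y hy)
  have hsub : (↑(allVecsP L).toFinset : Set (GolayPt → ℤ)) ⊆ X := by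
    intro y hy
    rw [Finset.mem_coe, List.mem_toFinset] at hy
    exact hinv _ _ (hreach y hy) hroot
  have hcard : (allVecsP L).toFinset.card = N := by
    rw [List.toFinset_card_of_nodup hnd, length_allVecsP, ← hsum, hL, sum_map_flatMap]
    congr 1
    apply List.map_congr_left
    intro c hcm
    obtain ⟨_, h2, _, _, h5⟩ := hc c hcm
    rw [← h5, Chunk.pairs, sum_pow_zip _ _ h2]
  have hfin : X.Finite := Set.finite_of_ncard_pos (by rw [hN]; exact hN0)
  have heq : (↑(allVecsP L).toFinset : Set (GolayPt → ℤ)) = X := by
    apply Set.eq_of_subset_of_ncard_le hsub _ hfin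
    rw [Set.ncard_coe_finset, hcard, hN]
  refine ⟨hnd, fun y => ?_⟩
  rw [← heq, Finset.mem_coe, List.mem_toFinset]


/-- with trivial sign bases the vectors described are the representatives -/
theorem allVecsP_trivial (reps : List (List ℤ)) (n : ℕ) :
    allVecsP (reps.zip ((List.replicate n 0).map (decodeBasis 12))) =
      (reps.take n).map vecOf := by
  induction reps generalizing n with
  | nil => simp [allVecsP]
  | cons r reps ih =>
    cases n with
    | zero => simp [allVecsP]
    | succ n =>
      rw [List.replicate_succ, List.map_cons, List.zip_cons_cons, allVecsP, List.flatMap_cons,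
        List.take_succ_cons, List.map_cons]
      have : decodeBasis 12 0 = [] := rfl
      rw [this]
      show [vecOf r] ++ allVecsP (reps.zip ((List.replicate n 0).map (decodeBasis 12))) = _
      rw [ih n]
      rfl

/-- the list of representatives of all chunks -/
def allReps (gens : List (List Prim)) (root : List ℤ) (chunks : List Chunk) : List (List ℤ) :=
  chunks.flatMap (fun c => c.reps gens root)

/-- **The explicit list of an invariant set from a chunked certificate with trivial sign bases.** -/
theorem chunks_list_spec {perms : List (List ℕ)} (hperms : ∀ l ∈ perms, Rep M24 l)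
    {refs : List (List ℤ)} {gens : List (List Prim)} (hgens : checkGens perms refs gens = true)
    (fixmask : ℕ) (root : List ℤ) (chunks : List Chunk) (X : Set (GolayPt → ℤ))
    (N : ℕ) (hN : X.ncard = N) (hN0 : 0 < N)
    (hroot : vecOf root ∈ X) (hinv : ∀ x y, ReachF refs x y → x ∈ X → y ∈ X)
    (hchunks : ∀ c ∈ chunks, checkChunk perms refs fixmask gens root c = true)
    (hglobal : checkGlobal chunks N = true)
    (htriv : ∀ c ∈ chunks, c.bases = List.replicate (c.reps gens root).length 0) :
    ((allReps gens root chunks).map vecOf).Nodup ∧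
      ∀ y, y ∈ X ↔ y ∈ (allReps gens root chunks).map vecOf := by
  have h := chunks_allVecs_spec hperms hgens fixmask root chunks X N hN hN0 hroot hinv hchunks hglobal
  have e : allVecsP (chunks.flatMap (fun c => c.pairs gens root)) = (allReps gens root chunks).map vecOf := by
    rw [allVecsP, allReps, List.flatMap_assoc, List.map_flatMap]
    apply List.flatMap_congr
    intro c hc
    have := allVecsP_trivial (c.reps gens root) (c.reps gens root).length
    rw [List.take_length] at this
    rw [← this, Chunk.pairs, htriv c hc]
    rfl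
  rw [e] at h
  exact h

theorem map_key_allReps {κ : Type} (gens : List (List Prim)) (root : List ℤ) (key : List ℤ → κ)
    (chunks : List Chunk) (keys : List (List κ))
    (hkeys : List.Forall₂ (fun c ks => (c.reps gens root).map key = ks) chunks keys) :
    (allReps gens root chunks).map key = keys.flatten := by
  rw [allReps]
  induction hkeys with
  | nil => rfl
  | cons h _ ih => rw [List.flatMap_cons, List.map_append, List.flatten_cons, h, ih]

/-- counting the elements with a property through precomputed keys of the representatives -/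
theorem ncard_by_keys {κ : Type} (gens : List (List Prim)) (root : List ℤ) (chunks : List Chunk)
    (X : Set (GolayPt → ℤ)) (hnd : ((allReps gens root chunks).map vecOf).Nodup)
    (hX : ∀ y, y ∈ X ↔ y ∈ (allReps gens root chunks).map vecOf)
    (key : List ℤ → κ) (keys : List (List κ))
    (hkeys : List.Forall₂ (fun c ks => (c.reps gens root).map key = ks) chunks keys)
    (P : (GolayPt → ℤ) → Prop) (q : κ → Bool)
    (hq : ∀ x, vecOf x ∈ X → (q (key x) = true ↔ P (vecOf x))) :
    {y | y ∈ X ∧ P y}.ncard = (keys.flatten).countP q := by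
  rw [ncard_filter_of_list (allReps gens root chunks) X hnd hX P (fun x => q (key x))
    (fun x hx => hq x ((hX _).mpr (List.mem_map_of_mem hx)))]
  have e : (allReps gens root chunks).map key = keys.flatten :=
    map_key_allReps gens root key chunks keys hkeys
  rw [← e, List.countP_map]
  rfl

/-- a property of all elements through precomputed keys -/
theorem forall_by_keys {κ : Type} (gens : List (List Prim)) (root : List ℤ) (chunks : List Chunk)
    (X : Set (GolayPt → ℤ))
    (hX : ∀ y, y ∈ X ↔ y ∈ (allReps gens root chunks).map vecOf)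
    (key : List ℤ → κ) (keys : List (List κ))
    (hkeys : List.Forall₂ (fun c ks => (c.reps gens root).map key = ks) chunks keys)
    (P : (GolayPt → ℤ) → Prop) (q : κ → Bool)
    (hq : ∀ x, vecOf x ∈ X → (q (key x) = true → P (vecOf x)))
    (hall : (keys.flatten).all q = true) : ∀ y ∈ X, P y := by
  intro y hy
  have hy0 := hy
  rw [hX, List.mem_map] at hy
  obtain ⟨x, hx, rfl⟩ := hy
  apply hq x hy0
  have e : (allReps gens root chunks).map key = keys.flatten :=
    map_key_allReps gens root key chunks keys hkeys
  rw [List.all_eq_true] at hall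
  apply hall
  rw [← e]
  exact List.mem_map_of_mem hx

end Cfsg.Agent.Lib.Helper6.Leech
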