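import Cfsg.Agent.Lib.Helper6.LeechCo3BBase
import Cfsg.Agent.Lib.Helper6.LeechOrbit9
import Cfsg.Agent.Lib.Helper6.LeechCo2Data

/-! # The key of a vector of the 11178-set: its coordinates at the two special points -/

set_option autoImplicit false

namespace Cfsg.Agent.Lib.Helper6.Leech

open Cfsg
open Cfsg.Agent.Lib.Helper6.Golay

/-- unpack bytes, sixteen per number -/
def unpackBytes (chunks : List ℕ) : List ℕ :=
  chunks.flatMap (fun c => (List.range 16).map (fun i => Nat.land (Nat.shiftRight c (Nat.mul 8 i)) 255))

/-- the first `n` packed bytes -/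
def decodeKeys (n : ℕ) (packed : List ℕ) : List ℕ := (unpackBytes packed).take n

/-- the coordinates at the two special points, as a byte; they determine the inner products with
the reference minimal vector and with the root of the 11178-set -/
def key11 (x : List ℤ) : ℕ := Nat.add (Nat.mul (nib (x.getD 23 0)) 16) (nib (x.getD 0 0))

/-- decode a nibble to an integer between `-8` and `7` -/
def decNib (n : ℕ) : ℤ := if n < 8 then (n : ℤ) else (n : ℤ) - 16

theorem decNib_nib (c : ℤ) (h1 : -8 ≤ c) (h2 : c ≤ 7) : decNib (nib c) = c := by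
  unfold decNib nib
  split_ifs with h <;> omega

theorem key11_div (x : List ℤ) : key11 x / 16 = nib (x.getD 23 0) := by
  have := nib_lt (x.getD 0 0)
  show (nib (x.getD 23 0) * 16 + nib (x.getD 0 0)) / 16 = _
  omega

theorem key11_mod (x : List ℤ) : key11 x % 16 = nib (x.getD 0 0) := by
  have := nib_lt (x.getD 0 0)
  show (nib (x.getD 23 0) * 16 + nib (x.getD 0 0)) % 16 = _
  omega

/-- the coordinates at the special points of a minimal vector, from its key -/
theorem key11_coords (x : List ℤ) (hn : sqNorm (vecOf x) = 32) :
    decNib (key11 x / 16) = vecOf x none ∧ decNib (key11 x % 16) = vecOf x (some 0) := by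
  have h1 := bound5 hn none
  have h2 := bound5 hn (some 0)
  have e1 : vecOf x none = x.getD 23 0 := rfl
  have e2 : vecOf x (some 0) = x.getD 0 0 := rfl
  rw [e1] at h1
  rw [e2] at h2
  rw [key11_div, key11_mod, e1, e2]
  exact ⟨decNib_nib _ (by omega) (by omega), decNib_nib _ (by omega) (by omega)⟩

end Cfsg.Agent.Lib.Helper6.Leech
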