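import Cfsg.Agent.Lib.Helper6.LeechHMData
import Cfsg.Agent.Lib.Helper6.LeechCo3BBase
import Cfsg.Agent.Lib.Helper6.LeechOrbit9

/-! # Reference vectors and generator checks for suborbits -/

set_option autoImplicit false

namespace Cfsg.Agent.Lib.Helper6.Leech

open Cfsg
open Cfsg.Agent.Lib.Helper6.Golay

/-- the root of the 11178-set, as a reference vector -/
def xrL : List ℤ := [4, 0, 0, 0, 0, 0, 0, 0, 0, 0, 0, 0, 0, 0, 0, 0, 0, 0, 0, 0, 0, 0, 0, -4]

/-- its negative -/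
def xmL : List ℤ := [-4, 0, 0, 0, 0, 0, 0, 0, 0, 0, 0, 0, 0, 0, 0, 0, 0, 0, 0, 0, 0, 0, 0, 4]

theorem xrL_eq : xrL = co3RootB := rfl

theorem subRefs_ok : inLeechL xrL = true ∧ normL xrL = 32 ∧ dotL u0L xrL = -16 ∧
    inLeechL xmL = true ∧ normL xmL = 32 ∧ dotL u0L xmL = 16 ∧ dotL v0L xmL = 0 := by decide +kernel

theorem xrL_mem : vecOf xrL ∈ leechLattice := mem_leechLattice.mpr (inLeechL_sound _ subRefs_ok.1)

theorem xmL_mem : vecOf xmL ∈ leechLattice := mem_leechLattice.mpr (inLeechL_sound _ subRefs_ok.2.2.2.1)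

set_option maxRecDepth 100000 in
theorem hsGens_ok' : checkGens hmPerms [u0L, xrL] hsGens = true := by decide +kernel

set_option maxRecDepth 100000 in
theorem m22Gens_ok' : checkGens hmPerms [u0L, v0L, xmL] m22Gens = true := by decide +kernel

def hs0Root : List ℤ := [-2, -2, 0, 0, 0, 0, 0, 0, 0, 0, 0, 0, 0, -2, 0, -2, 0, -2, 2, 2, 0, 0, 0, -2]

def hs8Root : List ℤ := [0, -2, -2, 0, 0, 0, 0, 0, 0, 0, 0, 0, 0, 0, -2, 0, -2, 0, -2, 2, 2, 0, 0, -2]

end Cfsg.Agent.Lib.Helper6.Leech
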