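import Cfsg.Agent.Lib.Helper6.LeechCo3BKeys0
import Cfsg.Agent.Lib.Helper6.LeechCo3BKeys1
import Cfsg.Agent.Lib.Helper6.LeechCo3BKeys2
import Cfsg.Agent.Lib.Helper6.LeechCo3B
import Cfsg.Agent.Lib.Helper6.LeechSubBase

/-!
# The explicit list of the 11178 minimal vectors, with counting by the coordinates at the two special
points
-/

set_option autoImplicit false

namespace Cfsg.Agent.Lib.Helper6.Leech

open Cfsg
open Cfsg.Agent.Lib.Helper6.Golay
open Cfsg.Agent.Lib.Helper6.LeechCount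

/-- the keys of all the 11178 vectors, by chunk -/
def co3BKeysAll : List (List ℕ) := [decodeKeys 381 co3BKeys0, decodeKeys 1439 co3BKeys1, decodeKeys 1463 co3BKeys2, decodeKeys 1280 co3BKeys3, decodeKeys 945 co3BKeys4, decodeKeys 1037 co3BKeys5, decodeKeys 1288 co3BKeys6, decodeKeys 1304 co3BKeys7, decodeKeys 1067 co3BKeys8, decodeKeys 974 co3BKeys9]

theorem co3B_hkeys : List.Forall₂ (fun c ks => (c.reps co3Gens co3RootB).map key11 = ks)
    co3BChunks co3BKeysAll :=
  List.Forall₂.cons co3BKeys0_ok.1 (List.Forall₂.cons co3BKeys1_ok.1 (List.Forall₂.cons co3BKeys2_ok.1 (List.Forall₂.cons co3BKeys3_ok.1 (List.Forall₂.cons co3BKeys4_ok.1 (List.Forall₂.cons co3BKeys5_ok.1 (List.Forall₂.cons co3BKeys6_ok.1 (List.Forall₂.cons co3BKeys7_ok.1 (List.Forall₂.cons co3BKeys8_ok.1 (List.Forall₂.cons co3BKeys9_ok.1 (List.Forall₂.nil))))))))))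

theorem co3B_triv : ∀ c ∈ co3BChunks, c.bases = List.replicate (c.reps co3Gens co3RootB).length 0 := by
  intro c hc
  simp only [co3BChunks, List.mem_cons, List.not_mem_nil, or_false] at hc
  rcases hc with rfl | rfl | rfl | rfl | rfl | rfl | rfl | rfl | rfl | rfl
  · exact co3BKeys0_ok.2
  · exact co3BKeys1_ok.2
  · exact co3BKeys2_ok.2
  · exact co3BKeys3_ok.2
  · exact co3BKeys4_ok.2
  · exact co3BKeys5_ok.2
  · exact co3BKeys6_ok.2
  · exact co3BKeys7_ok.2
  · exact co3BKeys8_ok.2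
  · exact co3BKeys9_ok.2

theorem co3B_list : ((allReps co3Gens co3RootB co3BChunks).map vecOf).Nodup ∧
    ∀ y, y ∈ co3Set (-16) ↔ y ∈ (allReps co3Gens co3RootB co3BChunks).map vecOf :=
  chunks_list_spec co3Perms_rep co3Gens_ok 16777215 co3RootB co3BChunks (co3Set (-16)) 11178
    co3Set_neg16_ncard (by norm_num) (root_mem_co3Set _ _ co3RootB_ok) (co3Set_invF (-16)) co3BChunks_ok
    co3BGlobal_ok co3B_triv

/-- the flattened list of keys -/
def co3BKeysFlat : List ℕ := co3BKeysAll.flatten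

/-- counting the vectors of the 11178-set with a property of the coordinates at the special points -/
theorem ncard_co3B (P : (GolayPt → ℤ) → Prop) (qab : ℤ → ℤ → Bool)
    (hq : ∀ y : GolayPt → ℤ, (qab (y none) (y (some 0)) = true ↔ P y)) :
    {y | y ∈ co3Set (-16) ∧ P y}.ncard =
      co3BKeysFlat.countP (fun k => qab (decNib (k / 16)) (decNib (k % 16))) := by
  rw [co3BKeysFlat, ← ncard_by_keys co3Gens co3RootB co3BChunks (co3Set (-16)) co3B_list.1 co3B_list.2 key11
    co3BKeysAll co3B_hkeys P (fun k => qab (decNib (k / 16)) (decNib (k % 16)))]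
  intro x hx
  obtain ⟨e1, e2⟩ := key11_coords x hx.2.1
  rw [e1, e2]
  exact hq _

/-- a property of all vectors of the 11178-set from the coordinates at the special points -/
theorem forall_co3B (P : (GolayPt → ℤ) → Prop) (qab : ℤ → ℤ → Bool)
    (hq : ∀ y : GolayPt → ℤ, (qab (y none) (y (some 0)) = true → P y))
    (hall : co3BKeysFlat.all (fun k => qab (decNib (k / 16)) (decNib (k % 16))) = true) :
    ∀ y ∈ co3Set (-16), P y := by
  refine forall_by_keys co3Gens co3RootB co3BChunks (co3Set (-16)) co3B_list.2 key11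
    co3BKeysAll co3B_hkeys P (fun k => qab (decNib (k / 16)) (decNib (k % 16))) ?_ hall
  intro x hx
  obtain ⟨e1, e2⟩ := key11_coords x hx.2.1
  rw [e1, e2]
  exact hq _

theorem vecOf_xrL : vecOf xrL = w2 (-4) 4 := by
  funext p
  revert p
  decide

theorem dot_v0L (y : GolayPt → ℤ) : dotInt (vecOf v0L) y = 4 * (y none + y (some 0)) := by
  rw [vecOf_v0L, dot_w2]; ring

theorem dot_xrL (y : GolayPt → ℤ) : dotInt (vecOf xrL) y = 4 * (y (some 0) - y none) := by
  rw [vecOf_xrL, dot_w2]; ring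

set_option maxRecDepth 1000000 in
set_option maxHeartbeats 4000000 in
theorem co3B_counts :
    co3BKeysFlat.countP (fun k => (fun a b : ℤ => decide (4 * (b - a) = -8)) (decNib (k / 16)) (decNib (k % 16))) = 352 ∧
    co3BKeysFlat.countP (fun k => (fun a b : ℤ => decide (4 * (b - a) = 16)) (decNib (k / 16)) (decNib (k % 16))) = 1100 ∧
    co3BKeysFlat.countP (fun k => (fun a b : ℤ => decide (4 * (b - a) = 0)) (decNib (k / 16)) (decNib (k % 16))) = 4125 ∧
    co3BKeysFlat.countP (fun k => (fun a b : ℤ => decide (4 * (b - a) = 8)) (decNib (k / 16)) (decNib (k % 16))) = 5600 ∧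
    co3BKeysFlat.all (fun k => (fun a b : ℤ => decide (4 * (b - a) = -8 ∨ 4 * (b - a) = 16 ∨ 4 * (b - a) = 0 ∨
      4 * (b - a) = 8 ∨ 4 * (b - a) = 32)) (decNib (k / 16)) (decNib (k % 16))) = true ∧
    co3BKeysFlat.countP (fun k => (fun a b : ℤ => decide (4 * (a + b) = 0)) (decNib (k / 16)) (decNib (k % 16))) = 2025 ∧
    co3BKeysFlat.countP (fun k => (fun a b : ℤ => decide (4 * (a + b) = 0 ∧ 4 * (b - a) = 0)) (decNib (k / 16)) (decNib (k % 16))) = 330 ∧
    co3BKeysFlat.countP (fun k => (fun a b : ℤ => decide (4 * (a + b) = 0 ∧ 4 * (b - a) = 16)) (decNib (k / 16)) (decNib (k % 16))) = 462 ∧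
    co3BKeysFlat.countP (fun k => (fun a b : ℤ => decide (4 * (a + b) = 0 ∧ 4 * (b - a) = 8)) (decNib (k / 16)) (decNib (k % 16))) = 1232 ∧
    co3BKeysFlat.all (fun k => (fun a b : ℤ => decide (4 * (a + b) = 0 → (4 * (b - a) = 0 ∨ 4 * (b - a) = 16 ∨
      4 * (b - a) = 8 ∨ 4 * (b - a) = 32))) (decNib (k / 16)) (decNib (k % 16))) = true := by
  decide +kernel

end Cfsg.Agent.Lib.Helper6.Leech
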