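import Cfsg.Agent.Lib.Helper6.LeechCensus

/-!
# Counting the decompositions of a vector of norm 48 into two minimal vectors (double counting)
-/

set_option autoImplicit false

namespace Cfsg.Agent.Lib.Helper6.Leech

open Cfsg
open Cfsg.Agent.Lib.Helper6.Golay

/-- the lattice vectors of norm 48, as a finite set -/
noncomputable def fin48 : Finset (GolayPt → ℤ) := (finite_leech_norm (n := 48) (by norm_num)).toFinset

/-- the lattice vectors of norm 32, as a finite set -/
noncomputable def fin32 : Finset (GolayPt → ℤ) := (finite_leech_norm (n := 32) (by norm_num)).toFinset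

theorem mem_fin48 {x : GolayPt → ℤ} : x ∈ fin48 ↔ x ∈ leechLattice ∧ sqNorm x = 48 := by
  rw [fin48, Set.Finite.mem_toFinset]
  simp only [Set.mem_ofPred_eq, Nat.cast_ofNat]

theorem mem_fin32 {x : GolayPt → ℤ} : x ∈ fin32 ↔ x ∈ leechLattice ∧ sqNorm x = 32 := by
  rw [fin32, Set.Finite.mem_toFinset]
  simp only [Set.mem_ofPred_eq, Nat.cast_ofNat]

theorem card_fin48 : fin48.card = 16773120 := by
  rw [← ncard_norm48, ← Set.ncard_coe_finset]
  congr 1
  ext x
  rw [Finset.mem_coe, mem_fin48]
  rfl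

theorem card_fin32 : fin32.card = 196560 := by
  rw [← ncard_norm32, ← Set.ncard_coe_finset]
  congr 1
  ext x
  rw [Finset.mem_coe, mem_fin32]
  rfl

/-- the number of minimal vectors `v` with `u - v` minimal -/
noncomputable def pairCount (u : GolayPt → ℤ) : ℕ :=
  {v : GolayPt → ℤ | v ∈ leechLattice ∧ sqNorm v = 32 ∧ sqNorm (u - v) = 32}.ncard

theorem dotInt_comm (x y : GolayPt → ℤ) : dotInt x y = dotInt y x := by
  simp only [dotInt, mul_comm]

theorem sqNorm_sub (a b : GolayPt → ℤ) : sqNorm (a - b) = sqNorm a - 2 * dotInt a b + sqNorm b := by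
  simp only [sqNorm, dotInt, Pi.sub_apply]
  rw [Finset.mul_sum, ← Finset.sum_sub_distrib, ← Finset.sum_add_distrib]
  exact Finset.sum_congr rfl (fun i _ => by ring)

/-- for a minimal vector `v`, the vectors `u` of norm 48 with `u - v` minimal correspond to the
minimal vectors `w` with inner product `-8` with `v` -/
theorem card_below (v : GolayPt → ℤ) (hv : v ∈ fin32) :
    (fin48.filter (fun u => sqNorm (u - v) = 32)).card = 47104 := by
  obtain ⟨hvL, hvn⟩ := mem_fin32.mp hv
  rw [← (census_vals v hvL hvn).2.1, ← Set.ncard_coe_finset]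
  have : (↑(fin48.filter (fun u => sqNorm (u - v) = 32)) : Set (GolayPt → ℤ)) =
      (fun w => w + v) '' census v (-8) := by
    ext u
    rw [Finset.mem_coe, Finset.mem_filter, mem_fin48, Set.mem_image]
    constructor
    · rintro ⟨⟨huL, hun⟩, hd⟩
      refine ⟨u - v, ⟨leechLattice.sub_mem huL hvL, hd, ?_⟩, by simp⟩
      have h := sqNorm_add v (u - v)
      rw [show v + (u - v) = u by abel, hun, hvn, hd] at h
      linarith
    · rintro ⟨w, ⟨hwL, hwn, hwd⟩, rfl⟩
      refine ⟨⟨leechLattice.add_mem hwL hvL, ?_⟩, ?_⟩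
      · rw [sqNorm_add, hwn, hvn, dotInt_comm, hwd]; norm_num
      · rw [show w + v - v = w by abel]; exact hwn
  rw [this, Set.ncard_image_of_injective _ (add_left_injective v)]

theorem card_above (u : GolayPt → ℤ) :
    (fin32.filter (fun v => sqNorm (u - v) = 32)).card = pairCount u := by
  rw [pairCount, ← Set.ncard_coe_finset]
  congr 1
  ext v
  rw [Finset.mem_coe, Finset.mem_filter, mem_fin32]
  simp only [Set.mem_ofPred_eq, and_assoc]

/-- the count is invariant under lattice automorphisms -/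
theorem pairCount_co0 (g : Co0) (u : leechLattice) :
    pairCount ((g.1 u : leechLattice) : GolayPt → ℤ) = pairCount (u : GolayPt → ℤ) := by
  rw [pairCount, pairCount]
  symm
  refine Set.ncard_congr (fun x hx => ((g.1 ⟨x, hx.1⟩ : leechLattice) : GolayPt → ℤ)) ?_ ?_ ?_
  · rintro x ⟨hx, hn, hd⟩
    refine ⟨(g.1 ⟨x, hx⟩).2, ?_, ?_⟩
    · rw [co0_norm]; exact hn
    · have h1 : ((g.1 u : leechLattice) : GolayPt → ℤ) - ((g.1 ⟨x, hx⟩ : leechLattice) : GolayPt → ℤ) =
          ((g.1 (u - ⟨x, hx⟩) : leechLattice) : GolayPt → ℤ) := by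
        have := co0_add g (u - ⟨x, hx⟩) ⟨x, hx⟩
        rw [sub_add_cancel] at this
        rw [this]
        simp
      rw [h1, co0_norm]
      exact hd
  · rintro x y ⟨hx, _, _⟩ ⟨hy, _, _⟩ h
    have := g.1.injective (Subtype.ext h)
    exact congrArg Subtype.val this
  · rintro y ⟨hy, hn, hd⟩
    refine ⟨((g.1.symm ⟨y, hy⟩ : leechLattice) : GolayPt → ℤ), ⟨(g.1.symm ⟨y, hy⟩).2, ?_, ?_⟩, ?_⟩
    · have := co0_norm g (g.1.symm ⟨y, hy⟩)
      rw [Equiv.apply_symm_apply] at this
      rw [← this]; exact hn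
    · have h1 : ((g.1 u : leechLattice) : GolayPt → ℤ) - y =
          ((g.1 (u - g.1.symm ⟨y, hy⟩) : leechLattice) : GolayPt → ℤ) := by
        have := co0_add g (u - g.1.symm ⟨y, hy⟩) (g.1.symm ⟨y, hy⟩)
        rw [sub_add_cancel, Equiv.apply_symm_apply] at this
        rw [this]
        simp
      rw [h1, co0_norm] at hd
      exact hd
    · simp

/-- **The number of decompositions, given transitivity on the vectors of norm 48.** -/
theorem pairCount_eq (htrans : ∀ v w : leechLattice, sqNorm (v : GolayPt → ℤ) = 48 →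
    sqNorm (w : GolayPt → ℤ) = 48 → ∃ g : Co0, g • v = w) (u : leechLattice)
    (hu : sqNorm (u : GolayPt → ℤ) = 48) : pairCount (u : GolayPt → ℤ) = 552 := by
  classical
  have hdc := Finset.sum_card_bipartiteAbove_eq_sum_card_bipartiteBelow (s := fin48) (t := fin32)
    (fun a b => sqNorm (a - b) = 32)
  have h1 : ∀ a ∈ fin48, (Finset.bipartiteAbove (fun a b => sqNorm (a - b) = 32) fin32 a).card =
      pairCount (u : GolayPt → ℤ) := by
    intro a ha
    obtain ⟨haL, han⟩ := mem_fin48.mp ha
    obtain ⟨g, hg⟩ := htrans u ⟨a, haL⟩ hu han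
    have hg' : g.1 u = ⟨a, haL⟩ := hg
    have := pairCount_co0 g u
    rw [hg'] at this
    rw [← this, ← card_above]
    rfl
  have h2 : ∀ b ∈ fin32, (Finset.bipartiteBelow (fun a b => sqNorm (a - b) = 32) fin48 b).card = 47104 := by
    intro b hb
    rw [← card_below b hb]
    rfl
  rw [Finset.sum_congr rfl h1, Finset.sum_congr rfl h2, Finset.sum_const, Finset.sum_const, card_fin48,
    card_fin32, smul_eq_mul, smul_eq_mul] at hdc
  omega

end Cfsg.Agent.Lib.Helper6.Leech
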