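import Cfsg.Agent.Lib.Helper6.LeechOrbit6
import Cfsg.Agent.Lib.Helper6.LeechPairs
import Cfsg.Agent.Lib.Helper6.LeechCo0T48

/-!
# Generators of the stabiliser of the reference vector of norm 48, and its orbits on minimal vectors
-/

set_option autoImplicit false

namespace Cfsg.Agent.Lib.Helper6.Leech

open Cfsg
open Cfsg.Agent.Lib.Helper6.Golay
open Cfsg.Agent.Lib.Helper6.LeechCount

def co3Prog : List (ℕ × ℕ) := [(1, 0), (0, 1), (0, 3), (0, 5), (0, 6), (1, 7), (2, 8), (2, 9), (0, 10), (1, 11), (0, 12), (1, 13)]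

def co3p0 : List ℕ := [0, 10, 1, 6, 15, 16, 8, 22, 12, 13, 19, 3, 4, 9, 17, 11, 20, 18, 7, 21, 14, 5, 23, 2]

def co3p1 : List ℕ := [23, 0, 12, 16, 18, 10, 20, 14, 21, 6, 17, 3, 22, 8, 19, 4, 11, 5, 15, 7, 9, 13, 2, 1]

def co3Idx : List ℕ := [0, 2, 14, 4]

def co3Perms : List (List ℕ) := [alphaL, deltaL, co3p0, co3p1]

def co3Gens : List (List Prim) := [[.perm alphaL], [.perm deltaL], [.xi, .perm co3p0, .sign 4819776, .xi, .perm co3p1, .sign 2654580]]

theorem co3Perms_eq : co3Perms = co3Idx.map (fun k => (slpPerms co3Prog).getD k idl) := by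
  decide +kernel

theorem co3Perms_rep : ∀ l ∈ co3Perms, Rep M24 l := by
  intro l hl
  rw [co3Perms_eq, List.mem_map] at hl
  obtain ⟨k, _, rfl⟩ := hl
  exact rep_slpPerms co3Prog k

/-- the reference vector of norm 48 as a list -/
def u0L : List ℤ := [1, 1, 1, 1, 1, 1, 1, 1, 1, 1, 1, 1, 1, 1, 1, 1, 1, 1, 1, 1, 1, 1, 1, 5]

theorem u0L_ok : inLeechL u0L = true ∧ normL u0L = 48 := by decide +kernel

theorem u0L_mem : vecOf u0L ∈ leechLattice := mem_leechLattice.mpr (inLeechL_sound _ u0L_ok.1)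

theorem u0L_norm : sqNorm (vecOf u0L) = 48 := by rw [sqNorm_vecOf]; exact u0L_ok.2

/-- the reference vector of norm 48 -/
def u0 : leechLattice := ⟨vecOf u0L, u0L_mem⟩

set_option maxRecDepth 100000 in
theorem co3Gens_ok : checkGens co3Perms [u0L] co3Gens = true := by decide +kernel

/-- the minimal vectors with given inner product with the reference vector -/
def co3Set (k : ℤ) : Set (GolayPt → ℤ) :=
  {x | x ∈ leechLattice ∧ sqNorm x = 32 ∧ dotInt (vecOf u0L) x = k}

theorem co3Set_inv (k : ℤ) : ∀ a b, Reach [u0L] a b → vecOf a ∈ co3Set k → vecOf b ∈ co3Set k := by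
  rintro a b h ⟨ha, han, had⟩
  obtain ⟨hb, hbn⟩ := reach_mem h ha
  exact ⟨hb, hbn.trans han, (reach_dot h ha u0L List.mem_cons_self u0L_mem).trans had⟩

/-- membership of a root, by computation -/
theorem root_mem_co3Set (root : List ℤ) (k : ℤ)
    (h : inLeechL root = true ∧ normL root = 32 ∧ dotL u0L root = k) : vecOf root ∈ co3Set k := by
  obtain ⟨h1, h2, h3⟩ := h
  exact ⟨mem_leechLattice.mpr (inLeechL_sound root h1), (sqNorm_vecOf root).trans h2,
    (dotInt_vecOf u0L root).trans h3⟩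

/-- every vector of norm 48 is conjugate to the reference vector -/
theorem exists_to_u0 (u : leechLattice) (hu : sqNorm (u : GolayPt → ℤ) = 48) : ∃ g : Co0, g.1 u = u0 :=
  co0_transitive_48 u u0 hu u0L_norm

theorem co3Set_24_ncard : (co3Set 24).ncard = 552 := by
  have h := pairCount_eq co0_transitive_48 u0 u0L_norm
  rw [pairCount] at h
  rw [← h]
  congr 1
  ext x
  show (x ∈ leechLattice ∧ sqNorm x = 32 ∧ dotInt (vecOf u0L) x = 24) ↔
    (x ∈ leechLattice ∧ sqNorm x = 32 ∧ sqNorm (vecOf u0L - x) = 32)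
  rw [sqNorm_sub, u0L_norm]
  constructor
  · rintro ⟨h1, h2, h3⟩
    exact ⟨h1, h2, by rw [h2, h3]; norm_num⟩
  · rintro ⟨h1, h2, h3⟩
    exact ⟨h1, h2, by rw [h2] at h3; omega⟩

/-- transitivity of the stabiliser of the reference vector on `co3Set k`, given a certificate -/
theorem co3_transitive_of_cert (root : List ℤ) (chunks : List ℕ) (k : ℤ) (N : ℕ)
    (hN : (co3Set k).ncard = N) (hroot : vecOf root ∈ co3Set k)
    (hchk : checkOrbit co3Gens root chunks N = true)
    (u w w' : leechLattice) (hu : sqNorm (u : GolayPt → ℤ) = 48)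
    (hw : sqNorm (w : GolayPt → ℤ) = 32) (hw' : sqNorm (w' : GolayPt → ℤ) = 32)
    (hd : dotInt (u : GolayPt → ℤ) (w : GolayPt → ℤ) = k)
    (hd' : dotInt (u : GolayPt → ℤ) (w' : GolayPt → ℤ) = k) :
    ∃ g : Co0, g • u = u ∧ g • w = w' := by
  obtain ⟨g0, hg0⟩ := exists_to_u0 u hu
  have hc : ∀ x : leechLattice, sqNorm (x : GolayPt → ℤ) = 32 →
      dotInt (u : GolayPt → ℤ) (x : GolayPt → ℤ) = k →
      ((g0.1 x : leechLattice) : GolayPt → ℤ) ∈ co3Set k := by
    intro x hx hdx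
    refine ⟨(g0.1 x).2, ?_, ?_⟩
    · rw [co0_norm]; exact hx
    · have := co0_dot g0 u x
      rw [hg0] at this
      exact this.trans hdx
  obtain ⟨h, hfix, hmap⟩ := stab_transitive_gen co3Perms_rep [u0L] co3Gens co3Gens_ok root chunks N
    (co3Set k) hN hroot (fun x hx => hx.1) (co3Set_inv k) hchk (g0.1 w) (g0.1 w') (hc w hw hd) (hc w' hw' hd')
  have hfix' : h.1 u0 = u0 := hfix u0L List.mem_cons_self u0L_mem
  refine ⟨g0⁻¹ * h * g0, ?_, ?_⟩
  · show g0⁻¹.1 (h.1 (g0.1 u)) = u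
    rw [hg0, hfix', ← hg0]
    show g0.1.symm (g0.1 u) = u
    exact Equiv.symm_apply_apply _ _
  · show g0⁻¹.1 (h.1 (g0.1 w)) = w'
    rw [hmap]
    show g0.1.symm (g0.1 w') = w'
    exact Equiv.symm_apply_apply _ _

end Cfsg.Agent.Lib.Helper6.Leech
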