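import Cfsg.Agent.Lib.Helper6.LeechHMData

/-!
# The explicit list of the 552 minimal vectors, and counts of subsets
-/

set_option autoImplicit false

namespace Cfsg.Agent.Lib.Helper6.Leech

open Cfsg
open Cfsg.Agent.Lib.Helper6.Golay
open Cfsg.Agent.Lib.Helper6.LeechCount

def co3RootL : List ℤ := [4, 0, 0, 0, 0, 0, 0, 0, 0, 0, 0, 0, 0, 0, 0, 0, 0, 0, 0, 0, 0, 0, 0, 4]

def co3CertL : List ℕ := [93461511834104849585050818486337809, 166175217914924409700853131903107104, 23926106617924777694153842918834642944, 21718768219895735410239448556033, 2752566372462021173603899861427552786, 42535297291572404159072412384146497824, 22763069997917769144986460785727242513, 2664337890394866152812887719337333248, 166156193270619523825495476305788928, 176560916471728478992981522804379936, 40575072258297669930154995089408, 43100451804550110537147692949504, 22763029428147935310714961716727259410, 42535946333902436648307426460630646817, 42535946254403318654101375692608372737, 176540629131067246906789601325613089, 84798973303320188329558876160, 1418146079818571060989471996135866368, 22773414110666726603771885657486524704, 367624246085901401862021177278465, 22685794012066681617317890709621047840,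 22763029438339179970065722649685794817, 42624214033618609879150934615094468881, 43189253384516763637203660177920, 42545680617293271899974770646943076864, 158458894310787044419389427985, 649121635410492958857502532899090, 10749687014092441142976325930258720, 93461512161652635798931207859736864, 5559915535175019788623095639642624, 44030699068891876975222833666297176576, 1505766099497746774598329705477177344, 1418186644306617713028331136143659283, 2659105113206535835132358610865094690, 2170880]

theorem co3RootL_ok : inLeechL co3RootL = true ∧ normL co3RootL = 32 ∧ dotL u0L co3RootL = 24 := by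
  decide +kernel

/-- the list of the 552 minimal vectors having inner product 24 with the reference vector -/
def L552 : List (List ℤ) := (orun co3Gens co3RootL (unpack co3CertL)).out

set_option maxRecDepth 1000000 in
set_option maxHeartbeats 4000000 in
theorem L552_ok : checkOrbitF co3Gens co3RootL co3CertL 552 = true := by decide +kernel

theorem L552_spec : (L552.map vecOf).Nodup ∧ ∀ y, y ∈ co3Set 24 ↔ y ∈ L552.map vecOf :=
  orbit_list_of_check co3Perms_rep [u0L] co3Gens co3Gens_ok co3RootL co3CertL 552 (by norm_num) (co3Set 24)
    co3Set_24_ncard (root_mem_co3Set _ _ co3RootL_ok) (co3Set_inv 24) L552_ok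

set_option maxRecDepth 1000000 in
set_option maxHeartbeats 4000000 in
theorem L552_counts :
    L552.countP (fun x => dotL v0L x == 16) = 275 ∧
    L552.countP (fun x => dotL v0L x == 16 && dotL x1L x == 8) = 112 ∧
    L552.countP (fun x => dotL v0L x == 16 && dotL x1L x == 16) = 162 ∧
    L552.countP (fun x => dotL w1L x == -24) = 100 ∧
    L552.countP (fun x => dotL w1L x == -24 && dotL v0L x == 8) = 22 ∧
    L552.countP (fun x => dotL w1L x == -24 && dotL v0L x == 16) = 77 ∧
    L552.all (fun x => !(dotL w1L x == -24) || (dotL v0L x == 8 || dotL v0L x == 16 || dotL v0L x == 32)) = true ∧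
    L552.all (fun x => !(dotL v0L x == 16) || (dotL x1L x == 8 || dotL x1L x == 16 || dotL x1L x == 32)) = true := by
  decide +kernel

/-- counting the elements of the 552-set with a property -/
theorem ncard_co3Set_24 (P : (GolayPt → ℤ) → Prop) (p : List ℤ → Bool)
    (hp : ∀ x, (p x = true ↔ P (vecOf x))) :
    {y | y ∈ co3Set 24 ∧ P y}.ncard = L552.countP p :=
  ncard_filter_of_list L552 (co3Set 24) L552_spec.1 L552_spec.2 P p (fun x _ => hp x)

/-- a property of all elements of the 552-set, by checking the list -/
theorem forall_co3Set_24 (P : (GolayPt → ℤ) → Prop) (p : List ℤ → Bool)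
    (hp : ∀ x, (p x = true → P (vecOf x))) (h : L552.all p = true) : ∀ y ∈ co3Set 24, P y := by
  intro y hy
  rw [L552_spec.2, List.mem_map] at hy
  obtain ⟨x, hx, rfl⟩ := hy
  rw [List.all_eq_true] at h
  exact hp x (h x hx)

end Cfsg.Agent.Lib.Helper6.Leech
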