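import Cfsg.Agent.Lib.Helper6.LeechCo3BList
import Cfsg.Agent.Lib.Helper6.LeechHs4125c0
import Cfsg.Agent.Lib.Helper6.LeechHs5600c0
import Cfsg.Agent.Lib.Helper6.LeechMcL

/-!
# The suborbits of the stabiliser of a vector of norm 48 on the 11178 minimal vectors
-/

set_option autoImplicit false

namespace Cfsg.Agent.Lib.Helper6.Leech

open Cfsg
open Cfsg.Agent.Lib.Helper6.Golay
open Cfsg.Agent.Lib.Helper6.LeechCount

/-- the root of the 11178-set as a lattice vector -/
def xr' : leechLattice := ⟨vecOf xrL, xrL_mem⟩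

theorem xrL_norm : sqNorm (vecOf xrL) = 32 := by rw [sqNorm_vecOf]; exact subRefs_ok.2.1

theorem u0_xr_dot : dotInt (vecOf u0L) (vecOf xrL) = -16 := by
  rw [dotInt_vecOf]; exact subRefs_ok.2.2.1

theorem xr'_mem : (xr' : GolayPt → ℤ) ∈ co3Set (-16) := ⟨xrL_mem, xrL_norm, u0_xr_dot⟩

/-- the vectors of the 11178-set with given inner product with the root -/
def hsOrb (k : ℤ) : Set (GolayPt → ℤ) := {y | y ∈ co3Set (-16) ∧ dotInt (vecOf xrL) y = k}

theorem hsOrb_ncard (k : ℤ) (n : ℕ)
    (h : co3BKeysFlat.countP (fun j => (fun a b : ℤ => decide (4 * (b - a) = k)) (decNib (j / 16))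
      (decNib (j % 16))) = n) : (hsOrb k).ncard = n := by
  rw [hsOrb, ncard_co3B (fun y => dotInt (vecOf xrL) y = k) (fun a b : ℤ => decide (4 * (b - a) = k))
    (fun y => by rw [decide_eq_true_iff, dot_xrL]), h]

theorem hsOrb_inv (k : ℤ) : ∀ a b, Reach [u0L, xrL] a b → vecOf a ∈ hsOrb k → vecOf b ∈ hsOrb k := by
  rintro a b h ⟨⟨ha, han, had⟩, hav⟩
  obtain ⟨hb, hbn⟩ := reach_mem h ha
  refine ⟨⟨hb, hbn.trans han, (reach_dot h ha u0L List.mem_cons_self u0L_mem).trans had⟩, ?_⟩
  exact (reach_dot h ha xrL (List.mem_cons_of_mem _ List.mem_cons_self) xrL_mem).trans hav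

theorem hsOrb_invF (k : ℤ) : ∀ x y, ReachF [u0L, xrL] x y → x ∈ hsOrb k → y ∈ hsOrb k := by
  rintro x y h ⟨⟨hx, hxn, hxd⟩, hxv⟩
  obtain ⟨hy, hyn⟩ := reachF_mem h hx
  refine ⟨⟨hy, hyn.trans hxn, (reachF_dot h hx u0L List.mem_cons_self u0L_mem).trans hxd⟩, ?_⟩
  exact (reachF_dot h hx xrL (List.mem_cons_of_mem _ List.mem_cons_self) xrL_mem).trans hxv

def hsn8Root : List ℤ := [-2, 0, -2, 0, 0, 0, 0, 0, 0, 0, 0, 0, 0, -2, -2, -2, -2, -2, 0, 0, -2, 0, 0, 0]

def hsn8Cert : List ℕ := [249576555511648410779575051708600593, 98655066439865397827978914268454931, 25256023027175103240339264746986479616, 2824670496748715118067962973329031216, 63803615652555738392657564330136514563, 63818561263304415751243742384509616131, 22763029586644149615535362463514165761, 63818523392841077578073900029262823457, 22695529584439472673222088008731197443, 25255392856275189297157144992511238145, 26584560168241717562491978553936052272, 42536271961959704466426693706420588817, 3998778470978907540632453707177525281,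 25256024057202790860188582011161542704, 1427881641977520049635520504950423584, 45194727952968589909427339686761922594, 63803920126941751626857193226763240192, 46523669464322802897187442607341568017, 22763090290521035861049795402505728000, 710043159967172969171672025268784, 66462050188087314275409547304615551250, 94083683827676880604878798848]

def hs16Root : List ℤ := [0, 4, 0, 0, 0, 0, 0, 0, 0, 0, 0, 0, 0, 0, 0, 0, 0, 0, 0, 0, 0, 0, 0, -4]

def hs16Cert : List ℕ := [85086212988623541369940795892753830161, 2664624379720730174707008083393057041, 691028037303455047275918775231232, 45199593428341116048430599656395911187, 63818885772610996746816302852461441025, 2664624537848156895141968345047367729, 2757109870224150846256296383284772867, 2757109884460532116097772799488303107, 4153879477812103698395525094509256707, 1495727722328382977448944262658916400, 25255356163790519434412318980053270530, 1495766862027134361478387274090553347, 42535340233855546301687385100969313072, 4237279320596230812313259008012058914,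 63901597606369730517550085490458304512, 23931661304398576969047559781878858241, 166194074528297587800347606381494274, 24086291233574694921654535983408, 63803594340120944937192352813715423507, 22846109986114458386505706684315337506, 1501547585464673124451499902642552864, 66461460720986981927355269383212499714, 6166020902325668396087982084330240, 976249477970116582471533120790832, 63803007417891821211093423712555249938, 63803978201245165036723919294251008017, 23927078831987497396592282796461989905, 182704183415942476635321792454460192, 249595337901812003338959321937547776, 63984677996247368156248815280419050240, 25255331920899894849208001682947964931, 389168776592246887131756178321441, 89242602917500892381669323120316691, 63969139288442722432173588709640241155, 3999042152516613057855117040255243008, 3998417185044909363208225583290983168, 42070214742252026199272904065312, 249595421714385571079166609735229714, 166502104045847063632046310064992259, 22685550638024710816884807906636275730, 98655066477272144579628517275205650,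 43258579307363514529441188483584, 46534036301007331174609622461928444179, 2664297563241932521109548221548462128, 63802947694711357036052839124193784112, 46523956102241144841396650429756080417, 42624538635736928015329359423299846144, 42551220091957384712459658650129007360, 65381462979033546136264131606087729187, 25260872820687088922755015430047465472, 46529145790099957549317297028358807552, 249291111641938843062787678519951408, 255396190864501200618028777951396371, 42624538468031031279154999071640588800, 2923263147141412755160186923044122627, 63813977434403542630221073373206675456, 2840186396824419712280249315637592065, 63808785137234304443908465480084488195, 66461423875538076175328894583100801024, 171710880635393235791168277208707840, 43963177501276267478806176796400164867, 63974938641018538140794922082257350657, 2751917573386380244386566168795807747, 1578498894922187675512410796150947843, 46523953497268425440502083740929884163, 63897094743059967031743535173302484994, 42540873542616015797830335775188910083,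 44113794674972433042287376723500609539, 2522068705342521346]

def hs0Chunks : List Chunk := [hs0Chunk0, hs0Chunk1, hs0Chunk2]

theorem hs0Chunks_ok : ∀ c ∈ hs0Chunks, checkChunk hmPerms [u0L, xrL] 16777215 hsGens hs0Root c = true := by
  intro c hc
  simp only [hs0Chunks, List.mem_cons, List.not_mem_nil, or_false] at hc
  rcases hc with rfl | rfl | rfl
  · exact hs0Chunk0_ok
  · exact hs0Chunk1_ok
  · exact hs0Chunk2_ok

set_option maxRecDepth 1000000 in
set_option maxHeartbeats 4000000 in
theorem hs0Global_ok : checkGlobal hs0Chunks 4125 = true := by decide +kernel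

def hs8Chunks : List Chunk := [hs8Chunk0, hs8Chunk1, hs8Chunk2, hs8Chunk3]

theorem hs8Chunks_ok : ∀ c ∈ hs8Chunks, checkChunk hmPerms [u0L, xrL] 16777215 hsGens hs8Root c = true := by
  intro c hc
  simp only [hs8Chunks, List.mem_cons, List.not_mem_nil, or_false] at hc
  rcases hc with rfl | rfl | rfl | rfl
  · exact hs8Chunk0_ok
  · exact hs8Chunk1_ok
  · exact hs8Chunk2_ok
  · exact hs8Chunk3_ok

set_option maxRecDepth 1000000 in
set_option maxHeartbeats 4000000 in
theorem hs8Global_ok : checkGlobal hs8Chunks 5600 = true := by decide +kernel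

theorem hsOrbRoots_ok :
    (inLeechL hsn8Root = true ∧ normL hsn8Root = 32 ∧ dotL u0L hsn8Root = -16 ∧ dotL xrL hsn8Root = -8) ∧
    (inLeechL hs16Root = true ∧ normL hs16Root = 32 ∧ dotL u0L hs16Root = -16 ∧ dotL xrL hs16Root = 16) ∧
    (inLeechL hs0Root = true ∧ normL hs0Root = 32 ∧ dotL u0L hs0Root = -16 ∧ dotL xrL hs0Root = 0) ∧
    (inLeechL hs8Root = true ∧ normL hs8Root = 32 ∧ dotL u0L hs8Root = -16 ∧ dotL xrL hs8Root = 8) := by
  decide +kernel

theorem root_mem_hsOrb (r : List ℤ) (k : ℤ)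
    (h : inLeechL r = true ∧ normL r = 32 ∧ dotL u0L r = -16 ∧ dotL xrL r = k) : vecOf r ∈ hsOrb k :=
  ⟨root_mem_co3Set _ _ ⟨h.1, h.2.1, h.2.2.1⟩, (dotInt_vecOf _ _).trans h.2.2.2⟩

set_option maxRecDepth 1000000 in
set_option maxHeartbeats 4000000 in
theorem hsn8_ok : checkOrbitF hsGens hsn8Root hsn8Cert 352 = true := by decide +kernel

set_option maxRecDepth 1000000 in
set_option maxHeartbeats 4000000 in
theorem hs16_ok : checkOrbitF hsGens hs16Root hs16Cert 1100 = true := by decide +kernel

/-- transitivity of the stabiliser of the reference pair on the four suborbits -/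
theorem hsOrb_transitive_ref (k : ℤ) (hk : k = -8 ∨ k = 16 ∨ k = 0 ∨ k = 8) (y y' : leechLattice)
    (hy : (y : GolayPt → ℤ) ∈ hsOrb k) (hy' : (y' : GolayPt → ℤ) ∈ hsOrb k) :
    ∃ g : Co0, g.1 u0 = u0 ∧ g.1 xr' = xr' ∧ g.1 y = y' := by
  have key : ∃ g : Co0, (∀ r ∈ [u0L, xrL], ∀ hr : vecOf r ∈ leechLattice,
      g.1 ⟨vecOf r, hr⟩ = ⟨vecOf r, hr⟩) ∧ g.1 y = y' := by
    rcases hk with rfl | rfl | rfl | rfl
    · exact stab_transitive_gen hmPerms_rep [u0L, xrL] hsGens hsGens_ok' hsn8Root hsn8Cert 352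
        (hsOrb (-8)) (hsOrb_ncard _ _ co3B_counts.1) (root_mem_hsOrb _ _ hsOrbRoots_ok.1)
        (fun x hx => hx.1.1) (hsOrb_inv _) (checkOrbit_of_F hsn8_ok) y y' hy hy'
    · exact stab_transitive_gen hmPerms_rep [u0L, xrL] hsGens hsGens_ok' hs16Root hs16Cert 1100
        (hsOrb 16) (hsOrb_ncard _ _ co3B_counts.2.1) (root_mem_hsOrb _ _ hsOrbRoots_ok.2.1)
        (fun x hx => hx.1.1) (hsOrb_inv _) (checkOrbit_of_F hs16_ok) y y' hy hy'
    · exact stab_transitive_chunks hmPerms_rep [u0L, xrL] hsGens hsGens_ok' 16777215 hs0Root hs0Chunks 4125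
        (by norm_num) (hsOrb 0) (hsOrb_ncard _ _ co3B_counts.2.2.1) (root_mem_hsOrb _ _ hsOrbRoots_ok.2.2.1)
        (fun x hx => hx.1.1) (hsOrb_invF _) hs0Chunks_ok hs0Global_ok y y' hy hy'
    · exact stab_transitive_chunks hmPerms_rep [u0L, xrL] hsGens hsGens_ok' 16777215 hs8Root hs8Chunks 5600
        (by norm_num) (hsOrb 8) (hsOrb_ncard _ _ co3B_counts.2.2.2.1) (root_mem_hsOrb _ _ hsOrbRoots_ok.2.2.2)
        (fun x hx => hx.1.1) (hsOrb_invF _) hs8Chunks_ok hs8Global_ok y y' hy hy'
  obtain ⟨g, hf, hg⟩ := key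
  exact ⟨g, hf u0L List.mem_cons_self u0L_mem,
    hf xrL (List.mem_cons_of_mem _ List.mem_cons_self) xrL_mem, hg⟩

/-- the possible inner products with the root -/
theorem co3B_dot_cases : ∀ y ∈ co3Set (-16), (dotInt (vecOf xrL) y = -8 ∨ dotInt (vecOf xrL) y = 16 ∨
    dotInt (vecOf xrL) y = 0 ∨ dotInt (vecOf xrL) y = 8 ∨ dotInt (vecOf xrL) y = 32) := by
  refine forall_co3B _ (fun a b : ℤ => decide (4 * (b - a) = -8 ∨ 4 * (b - a) = 16 ∨ 4 * (b - a) = 0 ∨
      4 * (b - a) = 8 ∨ 4 * (b - a) = 32)) ?_ co3B_counts.2.2.2.2.1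
  intro y hy
  rw [decide_eq_true_iff] at hy
  rw [dot_xrL]
  exact hy

/-- every pair of the given type is conjugate to the reference pair -/
theorem exists_to_u0xr (u x : leechLattice) (hu : sqNorm (u : GolayPt → ℤ) = 48)
    (hx : sqNorm (x : GolayPt → ℤ) = 32) (hux : dotInt (u : GolayPt → ℤ) (x : GolayPt → ℤ) = -16) :
    ∃ g : Co0, g.1 u = u0 ∧ g.1 x = xr' := by
  obtain ⟨g0, hg0⟩ := exists_to_u0 u hu
  have h1 : sqNorm ((g0.1 x : leechLattice) : GolayPt → ℤ) = 32 := by rw [co0_norm]; exact hx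
  have h2 : dotInt (u0 : GolayPt → ℤ) ((g0.1 x : leechLattice) : GolayPt → ℤ) = -16 := by
    rw [← hg0, co0_dot]; exact hux
  obtain ⟨h, hf, hm⟩ := co3_transitive_11178 u0 (g0.1 x) xr' u0L_norm h1 xrL_norm h2 u0_xr_dot
  refine ⟨h * g0, ?_, ?_⟩
  · show h.1 (g0.1 u) = u0
    rw [hg0]; exact hf
  · show h.1 (g0.1 x) = xr'
    exact hm

theorem mem_hsOrb_of (g : Co0) (u x y : leechLattice) (hgu : g.1 u = u0) (hgx : g.1 x = xr') (k : ℤ)
    (hy : sqNorm (y : GolayPt → ℤ) = 32) (h1 : dotInt (u : GolayPt → ℤ) (y : GolayPt → ℤ) = -16)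
    (h3 : dotInt (x : GolayPt → ℤ) (y : GolayPt → ℤ) = k) :
    ((g.1 y : leechLattice) : GolayPt → ℤ) ∈ hsOrb k := by
  refine ⟨⟨(g.1 y).2, ?_, ?_⟩, ?_⟩
  · rw [co0_norm]; exact hy
  · have := co0_dot g u y
    rw [hgu] at this
    exact this.trans h1
  · have := co0_dot g x y
    rw [hgx] at this
    exact this.trans h3

theorem of_mem_hsOrb (g : Co0) (u x y : leechLattice) (hgu : g.1 u = u0) (hgx : g.1 x = xr') (k : ℤ)
    (h : ((g.1 y : leechLattice) : GolayPt → ℤ) ∈ hsOrb k) :
    (sqNorm (y : GolayPt → ℤ) = 32 ∧ dotInt (u : GolayPt → ℤ) (y : GolayPt → ℤ) = -16) ∧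
      dotInt (x : GolayPt → ℤ) (y : GolayPt → ℤ) = k := by
  obtain ⟨⟨_, h1, h2⟩, h3⟩ := h
  refine ⟨⟨?_, ?_⟩, ?_⟩
  · rw [← co0_norm g]; exact h1
  · rw [← co0_dot g, hgu]; exact h2
  · rw [← co0_dot g, hgx]; exact h3

/-- **The suborbits of the stabiliser of a pair on the 11178 vectors.** -/
theorem co3sub_main (u x : leechLattice) (hu : sqNorm (u : GolayPt → ℤ) = 48)
    (hx : sqNorm (x : GolayPt → ℤ) = 32) (hux : dotInt (u : GolayPt → ℤ) (x : GolayPt → ℤ) = -16) :
    (∀ (k : ℤ) (n : ℕ), (k = -8 ∧ n = 352) ∨ (k = 16 ∧ n = 1100) ∨ (k = 0 ∧ n = 4125) ∨ (k = 8 ∧ n = 5600) →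
      {y : leechLattice | (sqNorm (y : GolayPt → ℤ) = 32 ∧
        dotInt (u : GolayPt → ℤ) (y : GolayPt → ℤ) = -16) ∧
        dotInt (x : GolayPt → ℤ) (y : GolayPt → ℤ) = k}.ncard = n) ∧
    (∀ y : leechLattice, (sqNorm (y : GolayPt → ℤ) = 32 ∧ dotInt (u : GolayPt → ℤ) (y : GolayPt → ℤ) = -16) →
      y = x ∨ dotInt (x : GolayPt → ℤ) (y : GolayPt → ℤ) = -8 ∨ dotInt (x : GolayPt → ℤ) (y : GolayPt → ℤ) = 16 ∨
        dotInt (x : GolayPt → ℤ) (y : GolayPt → ℤ) = 0 ∨ dotInt (x : GolayPt → ℤ) (y : GolayPt → ℤ) = 8) ∧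
    ∀ y y' : leechLattice, (sqNorm (y : GolayPt → ℤ) = 32 ∧ dotInt (u : GolayPt → ℤ) (y : GolayPt → ℤ) = -16) →
      (sqNorm (y' : GolayPt → ℤ) = 32 ∧ dotInt (u : GolayPt → ℤ) (y' : GolayPt → ℤ) = -16) → y ≠ x →
      dotInt (x : GolayPt → ℤ) (y : GolayPt → ℤ) = dotInt (x : GolayPt → ℤ) (y' : GolayPt → ℤ) →
      ∃ g : Co0, g • u = u ∧ g • x = x ∧ g • y = y' := by
  obtain ⟨g0, hgu, hgx⟩ := exists_to_u0xr u x hu hx hux
  have hcases : ∀ y : leechLattice, (sqNorm (y : GolayPt → ℤ) = 32 ∧
      dotInt (u : GolayPt → ℤ) (y : GolayPt → ℤ) = -16) →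
      y = x ∨ dotInt (x : GolayPt → ℤ) (y : GolayPt → ℤ) = -8 ∨ dotInt (x : GolayPt → ℤ) (y : GolayPt → ℤ) = 16 ∨
        dotInt (x : GolayPt → ℤ) (y : GolayPt → ℤ) = 0 ∨ dotInt (x : GolayPt → ℤ) (y : GolayPt → ℤ) = 8 := by
    rintro y ⟨h1, h2⟩
    have hm := mem_hsOrb_of g0 u x y hgu hgx _ h1 h2 rfl
    have hc := co3B_dot_cases _ hm.1
    have e : dotInt (vecOf xrL) ((g0.1 y : leechLattice) : GolayPt → ℤ) =
        dotInt (x : GolayPt → ℤ) (y : GolayPt → ℤ) := hm.2
    rw [e] at hc
    rcases hc with hc | hc | hc | hc | hc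
    · exact Or.inr (Or.inl hc)
    · exact Or.inr (Or.inr (Or.inl hc))
    · exact Or.inr (Or.inr (Or.inr (Or.inl hc)))
    · exact Or.inr (Or.inr (Or.inr (Or.inr hc)))
    · left
      have := eq_of_dot_32 hx h1 hc
      exact (Subtype.ext this).symm
  refine ⟨?_, hcases, ?_⟩
  · intro k n hkn
    have hcount : (hsOrb k).ncard = n := by
      rcases hkn with ⟨rfl, rfl⟩ | ⟨rfl, rfl⟩ | ⟨rfl, rfl⟩ | ⟨rfl, rfl⟩
      · exact hsOrb_ncard _ _ co3B_counts.1
      · exact hsOrb_ncard _ _ co3B_counts.2.1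
      · exact hsOrb_ncard _ _ co3B_counts.2.2.1
      · exact hsOrb_ncard _ _ co3B_counts.2.2.2.1
    rw [ncard_transport g0 _ (fun y => (y : GolayPt → ℤ) ∈ hsOrb k)]
    · rw [ncard_subtype_eq (fun y => y ∈ hsOrb k), ← hcount]
      congr 1
      ext y
      exact ⟨fun h => h.2, fun h => ⟨h.1.1, h⟩⟩
    · intro y
      constructor
      · rintro ⟨⟨h1, h2⟩, h4⟩
        exact mem_hsOrb_of g0 u x y hgu hgx k h1 h2 h4
      · intro h
        exact of_mem_hsOrb g0 u x y hgu hgx k h
  · rintro y y' ⟨h1, h2⟩ ⟨h1', h2'⟩ hyx hdd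
    have hk : dotInt (x : GolayPt → ℤ) (y : GolayPt → ℤ) = -8 ∨ dotInt (x : GolayPt → ℤ) (y : GolayPt → ℤ) = 16 ∨
        dotInt (x : GolayPt → ℤ) (y : GolayPt → ℤ) = 0 ∨ dotInt (x : GolayPt → ℤ) (y : GolayPt → ℤ) = 8 := by
      rcases hcases y ⟨h1, h2⟩ with h | h
      · exact absurd h hyx
      · exact h
    have hm := mem_hsOrb_of g0 u x y hgu hgx _ h1 h2 rfl
    have hm' := mem_hsOrb_of g0 u x y' hgu hgx _ h1' h2' hdd.symm
    obtain ⟨h, hfu, hfx, hmm⟩ := hsOrb_transitive_ref _ hk (g0.1 y) (g0.1 y') hm hm'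
    refine ⟨g0⁻¹ * h * g0, conj_back g0 h u u ?_, conj_back g0 h x x ?_, conj_back g0 h y y' hmm⟩
    · rw [hgu]; exact hfu
    · rw [hgx]; exact hfx

end Cfsg.Agent.Lib.Helper6.Leech
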