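import Cfsg.Agent.Lib.Helper6.LeechBasic

/-!
# The rank-24 lattice: the norm is divisible by 16 and at least 32 on nonzero vectors
-/

set_option autoImplicit false

namespace Cfsg.Agent.Lib.Helper6.Leech

open Cfsg
open Cfsg.Agent.Lib.Helper6.Golay

theorem sq_even_term (a : ℤ) (h2 : a % 2 = 0) :
    (16 : ℤ) ∣ a ^ 2 - (if a % 4 = 2 % 4 then 4 else 0) := by
  by_cases h : a % 4 = 2
  · rw [if_pos (by omega)]
    obtain ⟨t, ht⟩ : ∃ t, a = 4 * t + 2 := ⟨a / 4, by omega⟩
    exact ⟨t ^ 2 + t, by rw [ht]; ring⟩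
  · rw [if_neg (by omega)]
    obtain ⟨t, ht⟩ : ∃ t, a = 4 * t := ⟨a / 4, by omega⟩
    exact ⟨t ^ 2, by rw [ht]; ring⟩

theorem sq_odd_term (a : ℤ) (h2 : a % 2 = 1) :
    (16 : ℤ) ∣ a ^ 2 - 1 - 2 * (a - (if a % 4 = 1 % 4 then 1 else -1)) := by
  by_cases h : a % 4 = 1
  · rw [if_pos (by omega)]
    obtain ⟨t, ht⟩ : ∃ t, a = 4 * t + 1 := ⟨a / 4, by omega⟩
    exact ⟨t ^ 2, by rw [ht]; ring⟩
  · rw [if_neg (by omega)]
    obtain ⟨t, ht⟩ : ∃ t, a = 4 * t + 3 := ⟨a / 4, by omega⟩
    exact ⟨t ^ 2 + t, by rw [ht]; ring⟩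

theorem sum_ite_cls (x : GolayPt → ℤ) (k : ℤ) (c d : ℤ) :
    ∑ i, (if x i % 4 = k % 4 then c else d) = c * (cls x k).card + d * (24 - (cls x k).card) := by
  have h1 : ∑ i, (if x i % 4 = k % 4 then c else d) =
      ∑ i, ((if i ∈ cls x k then (c - d) else 0) + d) := by
    apply Finset.sum_congr rfl
    intro i _
    by_cases h : x i % 4 = k % 4
    · rw [if_pos h, if_pos (mem_cls.mpr h)]; ring
    · rw [if_neg h, if_neg (fun h' => h (mem_cls.mp h'))]; ring
  rw [h1, Finset.sum_add_distrib, Finset.sum_ite_mem, Finset.univ_inter, Finset.sum_const,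
    Finset.sum_const, Finset.card_univ]
  have : Fintype.card GolayPt = 24 := by simp [GolayPt]
  rw [this]
  simp only [nsmul_eq_mul]
  push_cast
  ring

/-- **The norm of a lattice vector is divisible by 16.** -/
theorem sixteen_dvd_sqNorm {x : GolayPt → ℤ} (hx : x ∈ leechSet) : (16 : ℤ) ∣ sqNorm x := by
  obtain ⟨m, h1, h2, h3⟩ := mem_leechSet.mp hx
  rcases Int.emod_two_eq_zero_or_one m with hm | hm
  · -- even
    have hsum : sqNorm x = ∑ i, (x i ^ 2 - (if x i % 4 = 2 % 4 then 4 else 0)) +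
        ∑ i, (if x i % 4 = 2 % 4 then (4 : ℤ) else 0) := by
      rw [← Finset.sum_add_distrib]
      apply Finset.sum_congr rfl
      intro i _; ring
    rw [hsum]
    apply dvd_add
    · apply Finset.dvd_sum
      intro i _
      exact sq_even_term (x i) (by have := h1 i; omega)
    · rw [sum_ite_cls]
      obtain ⟨w, hw⟩ := (h3 2).four_dvd
      rw [hw]
      push_cast
      exact ⟨w, by ring⟩
  · -- odd
    have hsum : sqNorm x = ∑ i, (x i ^ 2 - 1 - 2 * (x i - (if x i % 4 = 1 % 4 then 1 else -1))) +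
        (24 + 2 * ∑ i, x i - 2 * ∑ i, (if x i % 4 = 1 % 4 then (1 : ℤ) else -1)) := by
      have : (24 : ℤ) = ∑ _i : GolayPt, (1 : ℤ) := by
        rw [Finset.sum_const, Finset.card_univ]; simp [GolayPt]
      rw [this, Finset.mul_sum, Finset.mul_sum, ← Finset.sum_add_distrib, ← Finset.sum_sub_distrib,
        ← Finset.sum_add_distrib]
      apply Finset.sum_congr rfl
      intro i _; ring
    rw [hsum]
    apply dvd_add
    · apply Finset.dvd_sum
      intro i _
      exact sq_odd_term (x i) (by have := h1 i; omega)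
    · rw [sum_ite_cls]
      obtain ⟨w, hw⟩ := (h3 1).four_dvd
      rw [hw]
      push_cast
      obtain ⟨u, hu⟩ : ∃ u, ∑ i, x i = 4 * m + 8 * u := ⟨(∑ i, x i - 4 * m) / 8, by omega⟩
      obtain ⟨v, hv⟩ : ∃ v, m = 2 * v + 1 := ⟨m / 2, by omega⟩
      rw [hu, hv]
      exact ⟨v + u + 5 - w, by ring⟩

theorem sq_four_term (a : ℤ) (h4 : a % 4 = 0) : (32 : ℤ) ∣ a ^ 2 - 4 * a := by
  obtain ⟨t, ht⟩ : ∃ t, a = 4 * t := ⟨a / 4, by omega⟩
  rcases Int.emod_two_eq_zero_or_one t with h | h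
  · obtain ⟨s, hs⟩ : ∃ s, t = 2 * s := ⟨t / 2, by omega⟩
    exact ⟨s * (2 * s - 1), by rw [ht, hs]; ring⟩
  · obtain ⟨s, hs⟩ : ∃ s, t = 2 * s + 1 := ⟨t / 2, by omega⟩
    exact ⟨s * (2 * s + 1), by rw [ht, hs]; ring⟩

theorem sqNorm_pos {x : GolayPt → ℤ} (h0 : x ≠ 0) : 0 < sqNorm x := by
  obtain ⟨j, hj⟩ : ∃ j, x j ≠ 0 := by
    by_contra hcon
    push Not at hcon
    exact h0 (funext hcon)
  have h1 : x j ^ 2 ≤ sqNorm x :=
    Finset.single_le_sum (f := fun i => x i ^ 2) (fun i _ => sq_nonneg _) (Finset.mem_univ j)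
  have h2 : 0 < x j ^ 2 := by positivity
  omega

/-- **Nonzero lattice vectors have norm at least 32.** -/
theorem thirtytwo_le_sqNorm {x : GolayPt → ℤ} (hx : x ∈ leechSet) (h0 : x ≠ 0) :
    32 ≤ sqNorm x := by
  have h16 := sixteen_dvd_sqNorm hx
  obtain ⟨m, h1, h2, h3⟩ := mem_leechSet.mp hx
  rcases Int.emod_two_eq_zero_or_one m with hm | hm
  · -- even
    by_cases hA : cls x 2 = ∅
    · -- all coordinates divisible by 4
      have h4 : ∀ i, x i % 4 = 0 := by
        intro i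
        have hi : i ∉ cls x 2 := by rw [hA]; exact Finset.notMem_empty i
        rw [mem_cls] at hi
        have := h1 i
        omega
      have h32 : (32 : ℤ) ∣ sqNorm x := by
        have hsum : sqNorm x = ∑ i, (x i ^ 2 - 4 * x i) + 4 * ∑ i, x i := by
          rw [Finset.mul_sum, ← Finset.sum_add_distrib]
          apply Finset.sum_congr rfl
          intro i _; ring
        rw [hsum]
        apply dvd_add
        · apply Finset.dvd_sum
          intro i _
          exact sq_four_term (x i) (h4 i)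
        · obtain ⟨u, hu⟩ : ∃ u, ∑ i, x i = 8 * u := ⟨(∑ i, x i) / 8, by omega⟩
          exact ⟨u, by rw [hu]; ring⟩
      have hpos := sqNorm_pos h0
      omega
    · have h8 := (h3 2).eight_le hA
      have hle : ∑ i ∈ cls x 2, (4 : ℤ) ≤ sqNorm x := by
        calc ∑ i ∈ cls x 2, (4 : ℤ) ≤ ∑ i ∈ cls x 2, x i ^ 2 := by
              apply Finset.sum_le_sum
              intro i hi
              rw [mem_cls] at hi
              have : x i ≤ -2 ∨ 2 ≤ x i := by omega
              rcases this with h | h <;> nlinarith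
          _ ≤ sqNorm x := by
              apply Finset.sum_le_sum_of_subset_of_nonneg (Finset.subset_univ _)
              intro i _ _; exact sq_nonneg _
      rw [Finset.sum_const, nsmul_eq_mul] at hle
      have : (8 : ℤ) ≤ ((cls x 2).card : ℤ) := by exact_mod_cast h8
      omega
  · -- odd
    have hle : (24 : ℤ) ≤ sqNorm x := by
      have : (24 : ℤ) = ∑ _i : GolayPt, (1 : ℤ) := by
        rw [Finset.sum_const, Finset.card_univ]; simp [GolayPt]
      rw [this]
      apply Finset.sum_le_sum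
      intro i _
      have := h1 i
      have : x i ≤ -1 ∨ 1 ≤ x i := by omega
      rcases this with h | h <;> nlinarith
    omega

end Cfsg.Agent.Lib.Helper6.Leech
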