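import Cfsg.Agent.Lib.Helper6.LeechCountEngine
import Cfsg.Agent.Lib.Helper6.LeechNorm
import Cfsg.Agent.Lib.Helper6.GolayCount

/-!
# Counting the vectors of given (small) norm in the rank-24 lattice
-/

set_option autoImplicit false

namespace Cfsg.Agent.Lib.Helper6.Leech

open Cfsg
open Cfsg.Agent.Lib.Helper6.Golay
open Cfsg.Agent.Lib.Helper6.LeechCount

theorem isC_iff (c : Finset GolayPt) : IsC c ↔ ∃ m < 4096, c = fs (combo m) := by
  rw [IsC, ← fs_maskOf c, fs_mem_supports_iff (maskOf_lt c), inCode_iff]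
  constructor
  · rintro ⟨m, hm, h⟩; exact ⟨m, hm, by rw [h]⟩
  · rintro ⟨m, hm, h⟩
    exact ⟨m, hm, fs_injOn (maskOf_lt c) (combo_lt m hm) h⟩

/-- the candidate values (absolute value at most 8) in each residue class modulo 4 -/
def V0 : List ℤ := [0, 4, -4, 8, -8]
def V1 : List ℤ := [1, -3, 5, -7]
def V2 : List ℤ := [2, -2, 6, -6]
def V3 : List ℤ := [-1, 3, -5, 7]

theorem mem_V0 {v : ℤ} : v ∈ V0 ↔ v % 4 = 0 ∧ -8 ≤ v ∧ v ≤ 8 := by
  simp only [V0, List.mem_cons, List.not_mem_nil, or_false]; omega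
theorem mem_V1 {v : ℤ} : v ∈ V1 ↔ v % 4 = 1 ∧ -8 ≤ v ∧ v ≤ 8 := by
  simp only [V1, List.mem_cons, List.not_mem_nil, or_false]; omega
theorem mem_V2 {v : ℤ} : v ∈ V2 ↔ v % 4 = 2 ∧ -8 ≤ v ∧ v ≤ 8 := by
  simp only [V2, List.mem_cons, List.not_mem_nil, or_false]; omega
theorem mem_V3 {v : ℤ} : v ∈ V3 ↔ v % 4 = 3 ∧ -8 ≤ v ∧ v ≤ 8 := by
  simp only [V3, List.mem_cons, List.not_mem_nil, or_false]; omega

/-- candidate lists by pattern: `LA` on `c`, `LB` off `c` -/
def patV (LA LB : List ℤ) (c : Finset GolayPt) : GolayPt → List ℤ := fun i => if i ∈ c then LA else LB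

theorem card_golayPt : Fintype.card GolayPt = 24 := by decide

theorem cntZ_pat (LA LB : List ℤ) (hA : LA.Nodup) (hB : LB.Nodup) (c : Finset GolayPt) (n s : ℕ)
    (hn : n ≤ 64) (hs : s < 8) :
    cntZ (patV LA LB c) Finset.univ s n =
      ((stepL (LA.map enc))^[c.card] ((stepL (LB.map enc))^[24 - c.card] tab0)).getD (n * 8 + s) 0 := by
  have h1 := rep_block (rep_empty (patV LA LB c)) LB hB cᶜ (Finset.disjoint_empty_right _)
    (fun i hi => if_neg (Finset.mem_compl.mp hi))
  have h2 := rep_block h1 LA hA c (by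
    rw [Finset.union_empty]; exact disjoint_compl_right) (fun i hi => if_pos hi)
  have e : c ∪ (cᶜ ∪ ∅) = Finset.univ := by
    rw [Finset.union_empty, Finset.union_compl]
  rw [e, Finset.card_compl, card_golayPt] at h2
  exact h2 n s hn hs

/-- the even vectors with pattern `c` and sum of squares `n` -/
def evenF (c : Finset GolayPt) (n : ℕ) : Finset (GolayPt → ℤ) :=
  (box (patV V2 V0 c) Finset.univ).filter
    (fun x => (∑ i, x i - ((0 : ℕ) : ℤ)) % 8 = 0 ∧ ∑ i, x i ^ 2 = (n : ℤ))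

/-- the odd vectors with pattern `c` and sum of squares `n` -/
def oddF (c : Finset GolayPt) (n : ℕ) : Finset (GolayPt → ℤ) :=
  (box (patV V1 V3 c) Finset.univ).filter
    (fun x => (∑ i, x i - ((4 : ℕ) : ℤ)) % 8 = 0 ∧ ∑ i, x i ^ 2 = (n : ℤ))

theorem card_evenF (c : Finset GolayPt) (n : ℕ) (hn : n ≤ 64) :
    (evenF c n).card =
      ((stepL (V2.map enc))^[c.card] ((stepL (V0.map enc))^[24 - c.card] tab0)).getD (n * 8 + 0) 0 :=
  cntZ_pat V2 V0 (by decide) (by decide) c n 0 hn (by norm_num)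

theorem card_oddF (c : Finset GolayPt) (n : ℕ) (hn : n ≤ 64) :
    (oddF c n).card =
      ((stepL (V1.map enc))^[c.card] ((stepL (V3.map enc))^[24 - c.card] tab0)).getD (n * 8 + 4) 0 :=
  cntZ_pat V1 V3 (by decide) (by decide) c n 4 hn (by norm_num)

theorem mem_evenF {c : Finset GolayPt} {n : ℕ} {x : GolayPt → ℤ} :
    x ∈ evenF c n ↔ (∀ i ∈ c, x i ∈ V2) ∧ (∀ i ∉ c, x i ∈ V0) ∧ (∑ i, x i) % 8 = 0 ∧
      ∑ i, x i ^ 2 = (n : ℤ) := by
  rw [evenF, Finset.mem_filter, mem_box]
  simp only [Finset.mem_univ, forall_true_left, not_true_eq_false, IsEmpty.forall_iff, implies_true,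
    and_true, patV, Nat.cast_zero, sub_zero]
  constructor
  · rintro ⟨h1, h2, h3⟩
    refine ⟨fun i hi => ?_, fun i hi => ?_, h2, h3⟩
    · have := h1 i; rwa [if_pos hi] at this
    · have := h1 i; rwa [if_neg hi] at this
  · rintro ⟨h1, h2, h3, h4⟩
    refine ⟨fun i => ?_, h3, h4⟩
    by_cases hi : i ∈ c
    · rw [if_pos hi]; exact h1 i hi
    · rw [if_neg hi]; exact h2 i hi

theorem mem_oddF {c : Finset GolayPt} {n : ℕ} {x : GolayPt → ℤ} :
    x ∈ oddF c n ↔ (∀ i ∈ c, x i ∈ V1) ∧ (∀ i ∉ c, x i ∈ V3) ∧ (∑ i, x i) % 8 = 4 ∧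
      ∑ i, x i ^ 2 = (n : ℤ) := by
  rw [oddF, Finset.mem_filter, mem_box]
  simp only [Finset.mem_univ, forall_true_left, not_true_eq_false, IsEmpty.forall_iff, implies_true,
    and_true, patV, Nat.cast_ofNat]
  constructor
  · rintro ⟨h1, h2, h3⟩
    refine ⟨fun i hi => ?_, fun i hi => ?_, by omega, h3⟩
    · have := h1 i; rwa [if_pos hi] at this
    · have := h1 i; rwa [if_neg hi] at this
  · rintro ⟨h1, h2, h3, h4⟩
    refine ⟨fun i => ?_, by omega, h4⟩
    by_cases hi : i ∈ c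
    · rw [if_pos hi]; exact h1 i hi
    · rw [if_neg hi]; exact h2 i hi

theorem coord_bound {x : GolayPt → ℤ} {n : ℕ} (hn : n ≤ 64) (h : ∑ i, x i ^ 2 = (n : ℤ)) (i : GolayPt) :
    -8 ≤ x i ∧ x i ≤ 8 := by
  have h1 : x i ^ 2 ≤ ∑ j, x j ^ 2 :=
    Finset.single_le_sum (f := fun j => x j ^ 2) (fun j _ => sq_nonneg _) (Finset.mem_univ i)
  have h2 : x i ^ 2 ≤ 64 := by rw [h] at h1; omega
  constructor <;> nlinarith

theorem sqNorm_def (x : GolayPt → ℤ) : sqNorm x = ∑ i, x i ^ 2 := rfl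

theorem isC_cls_of_key {x : GolayPt → ℤ} {c : Finset GolayPt} (hc : IsC c) {a b : ℤ} (hab : a ≠ b)
    (key : ∀ i, x i % 4 = if i ∈ c then a else b) (k : ℤ) : IsC (cls x k) := by
  by_cases h1 : k % 4 = a
  · have : cls x k = c := by
      ext i
      rw [mem_cls, key i]
      by_cases hi : i ∈ c
      · rw [if_pos hi]; exact ⟨fun _ => hi, fun _ => h1.symm⟩
      · rw [if_neg hi]; exact ⟨fun h => absurd (h.trans h1) (Ne.symm hab), fun h => absurd h hi⟩
    rw [this]; exact hc
  · by_cases h2 : k % 4 = b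
    · have : cls x k = cᶜ := by
        ext i
        rw [mem_cls, Finset.mem_compl, key i]
        by_cases hi : i ∈ c
        · rw [if_pos hi]; exact ⟨fun h => absurd h.symm h1, fun h => absurd hi h⟩
        · rw [if_neg hi]; exact ⟨fun _ => hi, fun _ => h2.symm⟩
      rw [this]; exact hc.compl
    · have : cls x k = ∅ := by
        ext i
        rw [mem_cls, key i]
        by_cases hi : i ∈ c
        · rw [if_pos hi]; exact ⟨fun h => absurd h.symm h1, fun h => absurd h (Finset.notMem_empty i)⟩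
        · rw [if_neg hi]; exact ⟨fun h => absurd h.symm h2, fun h => absurd h (Finset.notMem_empty i)⟩
      rw [this]; exact isC_empty

/-- **The vectors of the lattice of norm at most 64, sorted by parity and pattern.** -/
theorem mem_leech_norm_iff {n : ℕ} (hn : n ≤ 64) (x : GolayPt → ℤ) :
    (x ∈ leechLattice ∧ sqNorm x = (n : ℤ)) ↔ ∃ c, IsC c ∧ (x ∈ evenF c n ∨ x ∈ oddF c n) := by
  rw [mem_leechLattice, mem_leechSet, sqNorm_def]
  constructor
  · rintro ⟨⟨m, h1, h2, h3⟩, hsq⟩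
    have hb := coord_bound hn hsq
    rcases Int.emod_two_eq_zero_or_one m with hm | hm
    · refine ⟨cls x 2, h3 2, Or.inl (mem_evenF.mpr ⟨fun i hi => ?_, fun i hi => ?_, by omega, hsq⟩)⟩
      · have := mem_cls.mp hi
        exact mem_V2.mpr ⟨by omega, hb i⟩
      · have h4 : ¬ (x i % 4 = 2 % 4) := fun h => hi (mem_cls.mpr h)
        have := h1 i
        exact mem_V0.mpr ⟨by omega, hb i⟩
    · refine ⟨cls x 1, h3 1, Or.inr (mem_oddF.mpr ⟨fun i hi => ?_, fun i hi => ?_, by omega, hsq⟩)⟩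
      · have := mem_cls.mp hi
        exact mem_V1.mpr ⟨by omega, hb i⟩
      · have h4 : ¬ (x i % 4 = 1 % 4) := fun h => hi (mem_cls.mpr h)
        have := h1 i
        exact mem_V3.mpr ⟨by omega, hb i⟩
  · rintro ⟨c, hc, h | h⟩
    · obtain ⟨h1, h2, h3, h4⟩ := mem_evenF.mp h
      have key : ∀ i, x i % 4 = if i ∈ c then 2 else 0 := by
        intro i
        by_cases hi : i ∈ c
        · rw [if_pos hi]; exact (mem_V2.mp (h1 i hi)).1
        · rw [if_neg hi]; exact (mem_V0.mp (h2 i hi)).1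
      refine ⟨⟨0, fun i => ?_, by omega, isC_cls_of_key hc (by norm_num) key⟩, h4⟩
      have := key i; split_ifs at this <;> omega
    · obtain ⟨h1, h2, h3, h4⟩ := mem_oddF.mp h
      have key : ∀ i, x i % 4 = if i ∈ c then 1 else 3 := by
        intro i
        by_cases hi : i ∈ c
        · rw [if_pos hi]; exact (mem_V1.mp (h1 i hi)).1
        · rw [if_neg hi]; exact (mem_V3.mp (h2 i hi)).1
      refine ⟨⟨1, fun i => ?_, by omega, isC_cls_of_key hc (by norm_num) key⟩, h4⟩
      have := key i; split_ifs at this <;> omega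

theorem evenF_oddF_disjoint (c c' : Finset GolayPt) (n : ℕ) : Disjoint (evenF c n) (oddF c' n) := by
  rw [Finset.disjoint_left]
  intro x hx hx'
  obtain ⟨h1, h2, _, _⟩ := mem_evenF.mp hx
  obtain ⟨g1, g2, _, _⟩ := mem_oddF.mp hx'
  have e : x none % 2 = 0 := by
    by_cases hi : (none : GolayPt) ∈ c
    · have := (mem_V2.mp (h1 _ hi)).1; omega
    · have := (mem_V0.mp (h2 _ hi)).1; omega
  have o : x none % 2 = 1 := by
    by_cases hi : (none : GolayPt) ∈ c'
    · have := (mem_V1.mp (g1 _ hi)).1; omega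
    · have := (mem_V3.mp (g2 _ hi)).1; omega
  omega

theorem evenF_inj {c c' : Finset GolayPt} {n : ℕ} {x : GolayPt → ℤ} (h : x ∈ evenF c n)
    (h' : x ∈ evenF c' n) : c = c' := by
  obtain ⟨h1, h2, _, _⟩ := mem_evenF.mp h
  obtain ⟨g1, g2, _, _⟩ := mem_evenF.mp h'
  ext i
  constructor
  · intro hi
    by_contra hi'
    have := (mem_V2.mp (h1 i hi)).1
    have := (mem_V0.mp (g2 i hi')).1
    omega
  · intro hi
    by_contra hi'
    have := (mem_V2.mp (g1 i hi)).1
    have := (mem_V0.mp (h2 i hi')).1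
    omega

theorem oddF_inj {c c' : Finset GolayPt} {n : ℕ} {x : GolayPt → ℤ} (h : x ∈ oddF c n)
    (h' : x ∈ oddF c' n) : c = c' := by
  obtain ⟨h1, h2, _, _⟩ := mem_oddF.mp h
  obtain ⟨g1, g2, _, _⟩ := mem_oddF.mp h'
  ext i
  constructor
  · intro hi
    by_contra hi'
    have := (mem_V1.mp (h1 i hi)).1
    have := (mem_V3.mp (g2 i hi')).1
    omega
  · intro hi
    by_contra hi'
    have := (mem_V1.mp (g1 i hi)).1
    have := (mem_V3.mp (h2 i hi')).1
    omega

/-- the vectors of norm `n` as a finite union over the codewords -/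
theorem leech_norm_set {n : ℕ} (hn : n ≤ 64) :
    {x : GolayPt → ℤ | x ∈ leechLattice ∧ sqNorm x = (n : ℤ)} =
      ↑((Finset.range 4096).biUnion (fun m => evenF (fs (combo m)) n ∪ oddF (fs (combo m)) n)) := by
  ext x
  rw [Set.mem_ofPred_eq, mem_leech_norm_iff hn, Finset.mem_coe, Finset.mem_biUnion]
  constructor
  · rintro ⟨c, hc, h⟩
    obtain ⟨m, hm, rfl⟩ := (isC_iff c).mp hc
    exact ⟨m, Finset.mem_range.mpr hm, Finset.mem_union.mpr h⟩
  · rintro ⟨m, hm, h⟩
    exact ⟨fs (combo m), (isC_iff _).mpr ⟨m, Finset.mem_range.mp hm, rfl⟩, Finset.mem_union.mp h⟩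

theorem ncard_leech_norm {n : ℕ} (hn : n ≤ 64) :
    {x : GolayPt → ℤ | x ∈ leechLattice ∧ sqNorm x = (n : ℤ)}.ncard =
      ∑ m ∈ Finset.range 4096, ((evenF (fs (combo m)) n).card + (oddF (fs (combo m)) n).card) := by
  rw [leech_norm_set hn, Set.ncard_coe_finset, Finset.card_biUnion]
  · refine Finset.sum_congr rfl (fun m _ => ?_)
    rw [Finset.card_union_of_disjoint (evenF_oddF_disjoint _ _ _)]
  · intro a ha b hb hab
    have hne : fs (combo a) ≠ fs (combo b) := fun h => hab (fs_combo_injOn ha hb h)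
    rw [Function.onFun, Finset.disjoint_left]
    intro x hx hx'
    rcases Finset.mem_union.mp hx with h | h <;> rcases Finset.mem_union.mp hx' with h' | h'
    · exact hne (evenF_inj h h')
    · exact Finset.disjoint_left.mp (evenF_oddF_disjoint _ _ _) h h'
    · exact Finset.disjoint_left.mp (evenF_oddF_disjoint _ _ _) h' h
    · exact hne (oddF_inj h h')

/-! ### Sums over the code by weight -/

set_option maxHeartbeats 4000000 in
theorem count_weight0 : countBelow (fun m => pc 24 (combo m) == 0) 4096 = 1 := by decide +kernel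

set_option maxHeartbeats 4000000 in
theorem count_weight16 : countBelow (fun m => pc 24 (combo m) == 16) 4096 = 759 := by decide +kernel

set_option maxHeartbeats 4000000 in
theorem count_weight24 : countBelow (fun m => pc 24 (combo m) == 24) 4096 = 1 := by decide +kernel

theorem sum_by_weight (f : ℕ → ℕ) :
    ∑ m ∈ Finset.range 4096, f (pc 24 (combo m)) =
      f 0 + 759 * f 8 + 2576 * f 12 + 759 * f 16 + f 24 := by
  have key : ∀ m ∈ Finset.range 4096, f (pc 24 (combo m)) =
      (if pc 24 (combo m) = 0 then f 0 else 0) + (if pc 24 (combo m) = 8 then f 8 else 0) +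
      (if pc 24 (combo m) = 12 then f 12 else 0) + (if pc 24 (combo m) = 16 then f 16 else 0) +
      (if pc 24 (combo m) = 24 then f 24 else 0) := by
    intro m hm
    rcases weight_cases m (Finset.mem_range.mp hm) with h | h | h | h | h <;> simp [h]
  rw [Finset.sum_congr rfl key]
  simp only [Finset.sum_add_distrib]
  have c : ∀ j a, ∑ m ∈ Finset.range 4096, (if pc 24 (combo m) = j then a else 0) =
      countBelow (fun m => pc 24 (combo m) == j) 4096 * a := by
    intro j a
    rw [countBelow_eq_card, ← Finset.sum_filter, Finset.sum_const, smul_eq_mul]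
    simp only [beq_iff_eq]
  rw [c, c, c, c, c, count_weight0, count_weight8, count_weight12, count_weight16, count_weight24]
  ring

/-- the table entries -/
def entryE (w n : ℕ) : ℕ :=
  ((stepL (V2.map enc))^[w] ((stepL (V0.map enc))^[24 - w] tab0)).getD (n * 8 + 0) 0

def entryO (w n : ℕ) : ℕ :=
  ((stepL (V1.map enc))^[w] ((stepL (V3.map enc))^[24 - w] tab0)).getD (n * 8 + 4) 0

/-- **The number of lattice vectors of norm `n ≤ 64`.** -/
theorem ncard_leech_norm' {n : ℕ} (hn : n ≤ 64) :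
    {x : GolayPt → ℤ | x ∈ leechLattice ∧ sqNorm x = (n : ℤ)}.ncard =
      (entryE 0 n + entryO 0 n) + 759 * (entryE 8 n + entryO 8 n) + 2576 * (entryE 12 n + entryO 12 n) +
        759 * (entryE 16 n + entryO 16 n) + (entryE 24 n + entryO 24 n) := by
  rw [ncard_leech_norm hn, ← sum_by_weight (fun w => entryE w n + entryO w n)]
  refine Finset.sum_congr rfl (fun m _ => ?_)
  rw [card_evenF _ _ hn, card_oddF _ _ hn, card_fs, entryE, entryO]

end Cfsg.Agent.Lib.Helper6.Leech
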