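import Cfsg.Agent.Lib.Helper6.LeechCountQ

/-!
# Counting lattice vectors of given norm with two prescribed coordinates
-/

set_option autoImplicit false

namespace Cfsg.Agent.Lib.Helper6.Leech

open Cfsg
open Cfsg.Agent.Lib.Helper6.Golay
open Cfsg.Agent.Lib.Helper6.LeechCount

/-- a general filtered version of the count of lattice vectors of given norm -/
theorem ncard_leech_norm_P (P : (GolayPt → ℤ) → Prop) [DecidablePred P] {n : ℕ} (hn : n ≤ 64) :
    {x : GolayPt → ℤ | x ∈ leechLattice ∧ sqNorm x = (n : ℤ) ∧ P x}.ncard =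
      ∑ m ∈ Finset.range 4096, (((evenF (fs (combo m)) n).filter P).card +
        ((oddF (fs (combo m)) n).filter P).card) := by
  have hset : {x : GolayPt → ℤ | x ∈ leechLattice ∧ sqNorm x = (n : ℤ) ∧ P x} =
      ↑((Finset.range 4096).biUnion
        (fun m => (evenF (fs (combo m)) n).filter P ∪ (oddF (fs (combo m)) n).filter P)) := by
    ext x
    have h := Set.ext_iff.mp (leech_norm_set hn) x
    rw [Set.mem_ofPred_eq, Finset.mem_coe, Finset.mem_biUnion] at h
    rw [Set.mem_ofPred_eq, Finset.mem_coe, Finset.mem_biUnion, ← and_assoc, h]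
    constructor
    · rintro ⟨⟨m, hm, hx⟩, hq⟩
      refine ⟨m, hm, ?_⟩
      rcases Finset.mem_union.mp hx with hx | hx
      · exact Finset.mem_union_left _ (Finset.mem_filter.mpr ⟨hx, hq⟩)
      · exact Finset.mem_union_right _ (Finset.mem_filter.mpr ⟨hx, hq⟩)
    · rintro ⟨m, hm, hx⟩
      rcases Finset.mem_union.mp hx with hx | hx
      · exact ⟨⟨m, hm, Finset.mem_union_left _ (Finset.mem_filter.mp hx).1⟩, (Finset.mem_filter.mp hx).2⟩
      · exact ⟨⟨m, hm, Finset.mem_union_right _ (Finset.mem_filter.mp hx).1⟩, (Finset.mem_filter.mp hx).2⟩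
  rw [hset, Set.ncard_coe_finset, Finset.card_biUnion]
  · refine Finset.sum_congr rfl (fun m _ => ?_)
    rw [Finset.card_union_of_disjoint]
    exact Finset.disjoint_of_subset_left (Finset.filter_subset _ _)
      (Finset.disjoint_of_subset_right (Finset.filter_subset _ _) (evenF_oddF_disjoint _ _ _))
  · intro a ha b hb hab
    have hne : fs (combo a) ≠ fs (combo b) := fun h => hab (fs_combo_injOn ha hb h)
    rw [Function.onFun, Finset.disjoint_left]
    intro x hx hx'
    have e1 : ∀ c, x ∈ (evenF c n).filter P → x ∈ evenF c n := fun c h => (Finset.mem_filter.mp h).1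
    have e2 : ∀ c, x ∈ (oddF c n).filter P → x ∈ oddF c n := fun c h => (Finset.mem_filter.mp h).1
    rcases Finset.mem_union.mp hx with h | h <;> rcases Finset.mem_union.mp hx' with h' | h'
    · exact hne (evenF_inj (e1 _ h) (e1 _ h'))
    · exact Finset.disjoint_left.mp (evenF_oddF_disjoint _ _ _) (e1 _ h) (e2 _ h')
    · exact Finset.disjoint_left.mp (evenF_oddF_disjoint _ _ _) (e1 _ h') (e2 _ h)
    · exact hne (oddF_inj (e2 _ h) (e2 _ h'))

/-- the coordinate filter prescribing the values at the points `∞` and `0` -/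
def q2 (a b : ℤ) : GolayPt → ℤ → Bool := fun i v =>
  if i = none then decide (v = a) else if i = some 0 then decide (v = b) else true

theorem q2_all (a b : ℤ) (x : GolayPt → ℤ) :
    (∀ i, q2 a b i (x i) = true) ↔ x none = a ∧ x (some 0) = b := by
  constructor
  · intro h
    refine ⟨?_, ?_⟩
    · have := h none
      simpa [q2] using this
    · have := h (some 0)
      simpa [q2] using this
  · rintro ⟨h1, h2⟩ i
    by_cases hi : i = none
    · subst hi; simp [q2, h1]
    · by_cases hi' : i = some 0
      · subst hi'; simp [q2, h2]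
      · simp [q2, hi, hi']

theorem box_filter_coord (q : GolayPt → ℤ → Bool) (V : GolayPt → List ℤ) (x : GolayPt → ℤ) :
    x ∈ box (fun i => (V i).filter (q i)) Finset.univ ↔
      x ∈ box V Finset.univ ∧ ∀ i, q i (x i) = true := by
  rw [mem_box, mem_box]
  simp only [Finset.mem_univ, forall_true_left, not_true_eq_false, IsEmpty.forall_iff, implies_true,
    and_true, List.mem_filter]
  exact forall_and

/-- the two special points -/
def sp2 : Finset GolayPt := {none, some 0}

theorem none_ne_some0 : (none : GolayPt) ≠ some 0 := by decide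

/-- the inner table (22 ordinary coordinates, `k` of them in the codeword) -/
def innerT (LA LB : List ℤ) (k : ℕ) : List ℕ :=
  (stepL (LA.map enc))^[k] ((stepL (LB.map enc))^[22 - k] tab0)

/-- the number of ordinary coordinates in the codeword -/
def kIn (w : ℕ) (b1 b2 : Bool) : ℕ := w - b1.toNat - b2.toNat

theorem card_sdiff_sp2 (c : Finset GolayPt) :
    (c \ sp2).card = kIn c.card (decide (none ∈ c)) (decide (some 0 ∈ c)) := by
  have h : (c \ sp2).card = c.card - (c ∩ sp2).card := by
    rw [← Finset.card_sdiff_add_card_inter c sp2]; omega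
  rw [h, kIn]
  have hle : (c ∩ sp2).card ≤ c.card := Finset.card_le_card Finset.inter_subset_left
  by_cases h1 : (none : GolayPt) ∈ c <;> by_cases h2 : (some 0 : GolayPt) ∈ c
  · have : c ∩ sp2 = sp2 := by
      ext i; simp only [sp2, Finset.mem_inter, Finset.mem_insert, Finset.mem_singleton]
      constructor
      · exact fun h => h.2
      · rintro (rfl | rfl)
        · exact ⟨h1, Or.inl rfl⟩
        · exact ⟨h2, Or.inr rfl⟩
    rw [this] at hle ⊢
    have h2c : sp2.card = 2 := by decide
    simp only [h1, h2, decide_true, Bool.toNat_true, h2c] at hle ⊢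
    omega
  · have : c ∩ sp2 = {none} := by
      ext i; simp only [sp2, Finset.mem_inter, Finset.mem_insert, Finset.mem_singleton]
      constructor
      · rintro ⟨hc, rfl | rfl⟩
        · rfl
        · exact absurd hc h2
      · rintro rfl; exact ⟨h1, Or.inl rfl⟩
    rw [this] at hle ⊢
    simp only [h1, h2, decide_true, decide_false, Bool.toNat_true, Bool.toNat_false,
      Finset.card_singleton] at hle ⊢
    omega
  · have : c ∩ sp2 = {some 0} := by
      ext i; simp only [sp2, Finset.mem_inter, Finset.mem_insert, Finset.mem_singleton]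
      constructor
      · rintro ⟨hc, rfl | rfl⟩
        · exact absurd hc h1
        · rfl
      · rintro rfl; exact ⟨h2, Or.inr rfl⟩
    rw [this] at hle ⊢
    simp only [h1, h2, decide_true, decide_false, Bool.toNat_true, Bool.toNat_false,
      Finset.card_singleton] at hle ⊢
    omega
  · have : c ∩ sp2 = ∅ := by
      ext i; simp only [sp2, Finset.mem_inter, Finset.mem_insert, Finset.mem_singleton,
        Finset.notMem_empty, iff_false]
      rintro ⟨hc, rfl | rfl⟩
      · exact h1 hc
      · exact h2 hc
    rw [this]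
    simp only [h1, h2, decide_false, Bool.toNat_false, Finset.card_empty, Nat.sub_zero]

theorem card_compl_sdiff_sp2 (c : Finset GolayPt) :
    (cᶜ \ sp2).card = 22 - kIn c.card (decide (none ∈ c)) (decide (some 0 ∈ c)) := by
  have h1 : (c \ sp2).card + (cᶜ \ sp2).card = 22 := by
    rw [← Finset.card_union_of_disjoint]
    · have : c \ sp2 ∪ cᶜ \ sp2 = sp2ᶜ := by
        ext i
        simp only [Finset.mem_union, Finset.mem_sdiff, Finset.mem_compl]
        tauto
      rw [this, Finset.card_compl, card_golayPt]
      decide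
    · rw [Finset.disjoint_left]
      intro i hi hi'
      exact (Finset.mem_compl.mp (Finset.mem_sdiff.mp hi').1) (Finset.mem_sdiff.mp hi).1
  rw [← card_sdiff_sp2]
  omega

/-- the table entry for prescribed values `a` at `∞` and `b` at `0` -/
def entry2 (LA LB : List ℤ) (w : ℕ) (b1 b2 : Bool) (a b : ℤ) (idx : ℕ) : ℕ :=
  (stepL (((if b1 then LA else LB).filter (fun v => decide (v = a))).map enc)
    (stepL (((if b2 then LA else LB).filter (fun v => decide (v = b))).map enc)
      (innerT LA LB (kIn w b1 b2)))).getD idx 0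

theorem cntZ_two (LA LB : List ℤ) (hA : LA.Nodup) (hB : LB.Nodup) (c : Finset GolayPt) (a b : ℤ)
    (n s : ℕ) (hn : n ≤ 64) (hs : s < 8) :
    cntZ (fun i => (patV LA LB c i).filter (q2 a b i)) Finset.univ s n =
      entry2 LA LB c.card (decide (none ∈ c)) (decide (some 0 ∈ c)) a b (n * 8 + s) := by
  set V : GolayPt → List ℤ := fun i => (patV LA LB c i).filter (q2 a b i) with hV
  have hVA : ∀ i ∈ c \ sp2, V i = LA := by
    intro i hi
    obtain ⟨hic, hisp⟩ := Finset.mem_sdiff.mp hi
    have h1 : i ≠ none := fun h => hisp (by rw [h]; simp [sp2])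
    have h2 : i ≠ some 0 := fun h => hisp (by rw [h]; simp [sp2])
    have hq : q2 a b i = fun _ => true := by
      funext v; simp only [q2, if_neg h1, if_neg h2]
    simp only [hV, patV, if_pos hic, hq, List.filter_true]
  have hVB : ∀ i ∈ cᶜ \ sp2, V i = LB := by
    intro i hi
    obtain ⟨hic, hisp⟩ := Finset.mem_sdiff.mp hi
    have h1 : i ≠ none := fun h => hisp (by rw [h]; simp [sp2])
    have h2 : i ≠ some 0 := fun h => hisp (by rw [h]; simp [sp2])
    have hq : q2 a b i = fun _ => true := by
      funext v; simp only [q2, if_neg h1, if_neg h2]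
    simp only [hV, patV, if_neg (Finset.mem_compl.mp hic), hq, List.filter_true]
  have r1 := rep_block (rep_empty V) LB hB (cᶜ \ sp2) (Finset.disjoint_empty_right _) hVB
  have r2 := rep_block r1 LA hA (c \ sp2) (by
    rw [Finset.union_empty, Finset.disjoint_left]
    intro i hi hi'
    exact (Finset.mem_compl.mp (Finset.mem_sdiff.mp hi').1) (Finset.mem_sdiff.mp hi).1) hVA
  have hS : c \ sp2 ∪ (cᶜ \ sp2 ∪ ∅) = sp2ᶜ := by
    ext i
    simp only [Finset.union_empty, Finset.mem_union, Finset.mem_sdiff, Finset.mem_compl]
    tauto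
  rw [hS] at r2
  have hnd : ∀ i, (V i).Nodup := by
    intro i
    simp only [hV, patV]
    split_ifs
    · exact hA.filter _
    · exact hB.filter _
  have h0 : (some 0 : GolayPt) ∉ sp2ᶜ := by simp [sp2]
  have r3 := rep_insert r2 h0 (hnd _)
  have h1 : (none : GolayPt) ∉ insert (some 0 : GolayPt) sp2ᶜ := by
    simp [sp2]
  have r4 := rep_insert r3 h1 (hnd _)
  have hU : insert (none : GolayPt) (insert (some 0 : GolayPt) sp2ᶜ) = Finset.univ := by
    ext i
    simp only [sp2, Finset.mem_insert, Finset.mem_compl, Finset.mem_singleton, Finset.mem_univ, iff_true]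
    tauto
  rw [hU] at r4
  rw [r4 n s hn hs, entry2, innerT, card_sdiff_sp2, card_compl_sdiff_sp2]
  have e1 : V none = (if decide ((none : GolayPt) ∈ c) = true then LA else LB).filter
      (fun v => decide (v = a)) := by
    have hq : q2 a b none = fun v => decide (v = a) := by
      funext v; simp only [q2, if_true]
    simp only [hV, patV, hq, decide_eq_true_eq]
  have e2 : V (some 0) = (if decide ((some 0 : GolayPt) ∈ c) = true then LA else LB).filter
      (fun v => decide (v = b)) := by
    have hq : q2 a b (some 0) = fun v => decide (v = b) := by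
      funext v; simp only [q2, if_neg none_ne_some0.symm, if_true]
    simp only [hV, patV, hq, decide_eq_true_eq]
  rw [e1, e2]

end Cfsg.Agent.Lib.Helper6.Leech
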