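import Cfsg.Agent.Lib.Helper6.LeechCount2

/-!
# Counting lattice vectors of given norm with prescribed sum of two coordinates
-/

set_option autoImplicit false

namespace Cfsg.Agent.Lib.Helper6.Leech

open Cfsg
open Cfsg.Agent.Lib.Helper6.Golay
open Cfsg.Agent.Lib.Helper6.LeechCount

theorem card_filter_sum2 (LA LB : List ℤ) (hA : LA.Nodup) (hB : LB.Nodup) (c : Finset GolayPt) (t : ℤ)
    (n s : ℕ) (hn : n ≤ 64) (hs : s < 8) :
    (((box (patV LA LB c) Finset.univ).filter
      (fun x => (∑ i, x i - (s : ℤ)) % 8 = 0 ∧ ∑ i, x i ^ 2 = (n : ℤ))).filter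
        (fun x => x none + x (some 0) = t)).card =
      ((if decide ((none : GolayPt) ∈ c) = true then LA else LB).map
        (fun a => entry2 LA LB c.card (decide ((none : GolayPt) ∈ c)) (decide ((some 0 : GolayPt) ∈ c))
          a (t - a) (n * 8 + s))).sum := by
  have hnd : (if decide ((none : GolayPt) ∈ c) = true then LA else LB).Nodup := by
    split_ifs
    · exact hA
    · exact hB
  rw [← List.sum_toFinset _ hnd]
  rw [Finset.card_eq_sum_card_fiberwise (f := fun x => x none)
    (t := (if decide ((none : GolayPt) ∈ c) = true then LA else LB).toFinset)]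
  · refine Finset.sum_congr rfl (fun a _ => ?_)
    rw [← cntZ_two LA LB hA hB c a (t - a) n s hn hs, cntZ]
    congr 1
    ext x
    simp only [Finset.mem_filter, box_filter_coord, q2_all]
    constructor
    · rintro ⟨⟨⟨h1, h2⟩, h3⟩, h4⟩
      exact ⟨⟨h1, h4, by omega⟩, h2⟩
    · rintro ⟨⟨h1, h4, h5⟩, h2⟩
      exact ⟨⟨⟨h1, h2⟩, by omega⟩, h4⟩
  · intro x hx
    rw [Finset.mem_coe, Finset.mem_filter, Finset.mem_filter, mem_box] at hx
    have := hx.1.1.1 none (Finset.mem_univ _)
    rw [Finset.mem_coe, List.mem_toFinset]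
    simpa [patV] using this

/-- the contribution of a codeword with key `(w, b1, b2)`: even vectors -/
def classE (t : ℤ) (w : ℕ) (b1 b2 : Bool) : ℕ :=
  ((if b1 = true then V2 else V0).map (fun a => entry2 V2 V0 w b1 b2 a (t - a) (32 * 8 + 0))).sum

/-- the contribution of a codeword with key `(w, b1, b2)`: odd vectors -/
def classO (t : ℤ) (w : ℕ) (b1 b2 : Bool) : ℕ :=
  ((if b1 = true then V1 else V3).map (fun a => entry2 V1 V3 w b1 b2 a (t - a) (32 * 8 + 4))).sum

theorem decide_none_mem_fs (M : ℕ) : decide ((none : GolayPt) ∈ fs M) = M.testBit 23 := by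
  rw [Bool.eq_iff_iff, decide_eq_true_iff, mem_fs]
  rfl

theorem decide_zero_mem_fs (M : ℕ) : decide ((some 0 : GolayPt) ∈ fs M) = M.testBit 0 := by
  rw [Bool.eq_iff_iff, decide_eq_true_iff, mem_fs]
  rfl

theorem ncard_min_sum2 (t : ℤ) :
    {x : GolayPt → ℤ | x ∈ leechLattice ∧ sqNorm x = 32 ∧ x none + x (some 0) = t}.ncard =
      ∑ m ∈ Finset.range 4096,
        (classE t (pc 24 (combo m)) ((combo m).testBit 23) ((combo m).testBit 0) +
          classO t (pc 24 (combo m)) ((combo m).testBit 23) ((combo m).testBit 0)) := by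
  have h := ncard_leech_norm_P (fun x => x none + x (some 0) = t) (n := 32) (by norm_num)
  simp only [Nat.cast_ofNat] at h
  rw [h]
  refine Finset.sum_congr rfl (fun m _ => ?_)
  have e1 := card_filter_sum2 V2 V0 (by decide) (by decide) (fs (combo m)) t 32 0 (by norm_num)
    (by norm_num)
  have e2 := card_filter_sum2 V1 V3 (by decide) (by decide) (fs (combo m)) t 32 4 (by norm_num)
    (by norm_num)
  rw [decide_none_mem_fs, decide_zero_mem_fs, card_fs] at e1 e2
  rw [classE, classO, ← e1, ← e2]
  rfl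

end Cfsg.Agent.Lib.Helper6.Leech
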