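import Cfsg.Agent.Lib.Helper6.LeechCount3

/-!
# Sums over the code by weight and membership of the two special points; the census
-/

set_option autoImplicit false

namespace Cfsg.Agent.Lib.Helper6.Leech

open Cfsg
open Cfsg.Agent.Lib.Helper6.Golay
open Cfsg.Agent.Lib.Helper6.LeechCount

/-- the number of codewords with given weight and membership of `∞` and `0` -/
def keyCount (w : ℕ) (b1 b2 : Bool) : ℕ :=
  countBelow (fun m => pc 24 (combo m) == w && ((combo m).testBit 23 == b1) &&
    ((combo m).testBit 0 == b2)) 4096

/-- the possible keys -/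
def allKeys : List (ℕ × Bool × Bool) :=
  [(0, false, false), (0, false, true), (0, true, false), (0, true, true),
   (8, false, false), (8, false, true), (8, true, false), (8, true, true),
   (12, false, false), (12, false, true), (12, true, false), (12, true, true),
   (16, false, false), (16, false, true), (16, true, false), (16, true, true),
   (24, false, false), (24, false, true), (24, true, false), (24, true, true)]

theorem allKeys_nodup : allKeys.Nodup := by decide

theorem key_mem (m : ℕ) (hm : m < 4096) :
    (pc 24 (combo m), (combo m).testBit 23, (combo m).testBit 0) ∈ allKeys := by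
  rcases weight_cases m hm with h | h | h | h | h <;> rw [h] <;>
    cases (combo m).testBit 23 <;> cases (combo m).testBit 0 <;> decide

set_option maxHeartbeats 4000000 in
theorem keyCounts : allKeys.map (fun k => keyCount k.1 k.2.1 k.2.2) =
    [1, 0, 0, 0, 330, 176, 176, 77, 616, 672, 672, 616, 77, 176, 176, 330, 0, 0, 0, 1] := by
  decide +kernel

theorem sum_by_key_aux (K : List (ℕ × Bool × Bool)) (hK : K.Nodup) (N : ℕ) (key : ℕ → ℕ × Bool × Bool)
    (hkey : ∀ m < N, key m ∈ K) (F : ℕ × Bool × Bool → ℕ) :
    ∑ m ∈ Finset.range N, F (key m) =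
      (K.map (fun k => countBelow (fun m => decide (key m = k)) N * F k)).sum := by
  rw [← List.sum_toFinset _ hK]
  have h1 : ∀ m ∈ Finset.range N, F (key m) = ∑ k ∈ K.toFinset, if key m = k then F k else 0 := by
    intro m hm
    rw [Finset.sum_ite_eq, if_pos (List.mem_toFinset.mpr (hkey m (Finset.mem_range.mp hm)))]
  rw [Finset.sum_congr rfl h1, Finset.sum_comm]
  refine Finset.sum_congr rfl (fun k _ => ?_)
  rw [countBelow_eq_card, ← Finset.sum_filter, Finset.sum_const, smul_eq_mul]
  simp only [decide_eq_true_eq]

theorem sum_by_key (f : ℕ → Bool → Bool → ℕ) :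
    ∑ m ∈ Finset.range 4096, f (pc 24 (combo m)) ((combo m).testBit 23) ((combo m).testBit 0) =
      (allKeys.map (fun k => keyCount k.1 k.2.1 k.2.2 * f k.1 k.2.1 k.2.2)).sum := by
  have h := sum_by_key_aux allKeys allKeys_nodup 4096
    (fun m => (pc 24 (combo m), (combo m).testBit 23, (combo m).testBit 0)) key_mem
    (fun k => f k.1 k.2.1 k.2.2)
  refine h.trans (congrArg List.sum (List.map_congr_left ?_))
  intro k _
  have e : (fun m => decide ((pc 24 (combo m), (combo m).testBit 23, (combo m).testBit 0) = k)) =
      (fun m => pc 24 (combo m) == k.1 && ((combo m).testBit 23 == k.2.1) &&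
        ((combo m).testBit 0 == k.2.2)) := by
    funext m
    obtain ⟨k1, k2, k3⟩ := k
    rw [Bool.eq_iff_iff]
    simp only [decide_eq_true_eq, Prod.mk.injEq, Bool.and_eq_true, beq_iff_eq, and_assoc]
  show countBelow (fun m => decide ((pc 24 (combo m), (combo m).testBit 23, (combo m).testBit 0) = k)) 4096 *
    f k.1 k.2.1 k.2.2 = keyCount k.1 k.2.1 k.2.2 * f k.1 k.2.1 k.2.2
  rw [e, keyCount]

theorem sum_by_key' (f : ℕ → Bool → Bool → ℕ) :
    ∑ m ∈ Finset.range 4096, f (pc 24 (combo m)) ((combo m).testBit 23) ((combo m).testBit 0) =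
      f 0 false false + 330 * f 8 false false + 176 * f 8 false true + 176 * f 8 true false +
        77 * f 8 true true + 616 * f 12 false false + 672 * f 12 false true + 672 * f 12 true false +
        616 * f 12 true true + 77 * f 16 false false + 176 * f 16 false true + 176 * f 16 true false +
        330 * f 16 true true + f 24 true true := by
  rw [sum_by_key]
  have h := keyCounts
  simp only [allKeys, List.map_cons, List.map_nil, List.cons.injEq, and_true] at h
  obtain ⟨h1, h2, h3, h4, h5, h6, h7, h8, h9, h10, h11, h12, h13, h14, h15, h16, h17, h18, h19, h20⟩ := h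
  simp only [allKeys, List.map_cons, List.map_nil, List.sum_cons, List.sum_nil, h1, h2, h3, h4, h5, h6,
    h7, h8, h9, h10, h11, h12, h13, h14, h15, h16, h17, h18, h19, h20]
  ring

/-- the total over the code -/
def total2 (t : ℤ) : ℕ :=
  let f := fun (w : ℕ) (b1 b2 : Bool) => classE t w b1 b2 + classO t w b1 b2
  f 0 false false + 330 * f 8 false false + 176 * f 8 false true + 176 * f 8 true false +
    77 * f 8 true true + 616 * f 12 false false + 672 * f 12 false true + 672 * f 12 true false +
    616 * f 12 true true + 77 * f 16 false false + 176 * f 16 false true + 176 * f 16 true false +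
    330 * f 16 true true + f 24 true true

theorem ncard_min_sum2' (t : ℤ) :
    {x : GolayPt → ℤ | x ∈ leechLattice ∧ sqNorm x = 32 ∧ x none + x (some 0) = t}.ncard = total2 t := by
  rw [ncard_min_sum2, sum_by_key' (fun w b1 b2 => classE t w b1 b2 + classO t w b1 b2)]
  rfl

set_option maxRecDepth 1000000 in
set_option maxHeartbeats 4000000 in
theorem total2_vals : total2 (-4) = 4600 ∧ total2 (-2) = 47104 ∧ total2 0 = 93150 := by
  decide +kernel

end Cfsg.Agent.Lib.Helper6.Leech
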