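import Mathlib

/-!
# A counting engine for integer vectors with prescribed candidate values per coordinate,
prescribed sum modulo 8 and prescribed sum of squares (dynamic programming over coordinates)
-/

set_option autoImplicit false

namespace Cfsg.Agent.Lib.Helper6.LeechCount

open Finset

variable {ι : Type*} [Fintype ι] [DecidableEq ι]

/-- vectors with coordinates in the candidate lists on `S`, zero off `S` -/
def box (V : ι → List ℤ) (S : Finset ι) : Finset (ι → ℤ) :=
  Fintype.piFinset (fun i => if i ∈ S then (V i).toFinset else {0})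

theorem mem_box {V : ι → List ℤ} {S : Finset ι} {x : ι → ℤ} :
    x ∈ box V S ↔ (∀ i ∈ S, x i ∈ V i) ∧ ∀ i ∉ S, x i = 0 := by
  simp only [box, Fintype.mem_piFinset]
  constructor
  · intro h
    refine ⟨fun i hi => ?_, fun i hi => ?_⟩
    · have := h i; rw [if_pos hi] at this; exact List.mem_toFinset.mp this
    · have := h i; rw [if_neg hi] at this; exact Finset.mem_singleton.mp this
  · rintro ⟨h1, h2⟩ i
    by_cases hi : i ∈ S
    · rw [if_pos hi]; exact List.mem_toFinset.mpr (h1 i hi)
    · rw [if_neg hi]; exact Finset.mem_singleton.mpr (h2 i hi)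

/-- the number of vectors of the box with `∑ x ≡ s (mod 8)` and `∑ x² = n` -/
def cntZ (V : ι → List ℤ) (S : Finset ι) (s n : ℤ) : ℕ :=
  ((box V S).filter (fun x => (∑ i, x i - s) % 8 = 0 ∧ ∑ i, x i ^ 2 = n)).card

theorem cntZ_neg (V : ι → List ℤ) (S : Finset ι) (s : ℤ) {n : ℤ} (hn : n < 0) : cntZ V S s n = 0 := by
  rw [cntZ, Finset.card_eq_zero, Finset.filter_eq_empty_iff]
  rintro x _ ⟨_, h⟩
  have : 0 ≤ ∑ i, x i ^ 2 := Finset.sum_nonneg (fun i _ => sq_nonneg _)
  omega

theorem cntZ_congr (V : ι → List ℤ) (S : Finset ι) {s s' : ℤ} (h : (s - s') % 8 = 0) (n : ℤ) :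
    cntZ V S s n = cntZ V S s' n := by
  rw [cntZ, cntZ]
  congr 1
  apply Finset.filter_congr
  intro x _
  constructor
  · rintro ⟨h1, h2⟩; exact ⟨by omega, h2⟩
  · rintro ⟨h1, h2⟩; exact ⟨by omega, h2⟩

theorem cntZ_insert (V : ι → List ℤ) {S : Finset ι} {a : ι} (ha : a ∉ S) (hnd : (V a).Nodup)
    (s n : ℤ) :
    cntZ V (insert a S) s n = ((V a).map (fun v => cntZ V S (s - v) (n - v ^ 2))).sum := by
  rw [← List.sum_toFinset _ hnd]
  rw [cntZ, Finset.card_eq_sum_card_fiberwise (f := fun x => x a) (t := (V a).toFinset)]
  · refine Finset.sum_congr rfl (fun v hv => ?_)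
    rw [cntZ]
    refine Finset.card_bij (fun x _ => Function.update x a 0) ?_ ?_ ?_
    · intro x hx
      simp only [Finset.mem_filter, mem_box] at hx ⊢
      obtain ⟨⟨⟨h1, h2⟩, h3, h4⟩, h5⟩ := hx
      have e1 : ∑ i, Function.update x a 0 i = ∑ i, x i - v := by
        rw [← Finset.add_sum_erase _ _ (Finset.mem_univ a), ← Finset.add_sum_erase _ x (Finset.mem_univ a),
          Function.update_self, h5]
        have : ∑ i ∈ Finset.univ.erase a, Function.update x a 0 i = ∑ i ∈ Finset.univ.erase a, x i :=
          Finset.sum_congr rfl (fun i hi => by rw [Function.update_of_ne (Finset.ne_of_mem_erase hi)])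
        rw [this]; ring
      have e2 : ∑ i, Function.update x a 0 i ^ 2 = ∑ i, x i ^ 2 - v ^ 2 := by
        rw [← Finset.add_sum_erase _ _ (Finset.mem_univ a),
          ← Finset.add_sum_erase _ (fun i => x i ^ 2) (Finset.mem_univ a),
          Function.update_self, h5]
        have : ∑ i ∈ Finset.univ.erase a, Function.update x a 0 i ^ 2 = ∑ i ∈ Finset.univ.erase a, x i ^ 2 :=
          Finset.sum_congr rfl (fun i hi => by rw [Function.update_of_ne (Finset.ne_of_mem_erase hi)])
        rw [this]; ring
      refine ⟨⟨fun i hi => ?_, fun i hi => ?_⟩, ?_, ?_⟩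
      · have hia : i ≠ a := fun h => ha (h ▸ hi)
        rw [Function.update_of_ne hia]
        exact h1 i (Finset.mem_insert_of_mem hi)
      · by_cases hia : i = a
        · rw [hia, Function.update_self]
        · rw [Function.update_of_ne hia]
          exact h2 i (fun h => by rcases Finset.mem_insert.mp h with h | h; exact hia h; exact hi h)
      · rw [e1]; omega
      · rw [e2, h4]
    · intro x hx y hy hxy
      simp only [Finset.mem_filter] at hx hy
      funext i
      by_cases hia : i = a
      · rw [hia, hx.2, hy.2]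
      · have := congrFun hxy i
        rwa [Function.update_of_ne hia, Function.update_of_ne hia] at this
    · intro y hy
      simp only [Finset.mem_filter, mem_box] at hy
      obtain ⟨⟨h1, h2⟩, h3, h4⟩ := hy
      have hya : y a = 0 := h2 a ha
      refine ⟨Function.update y a v, ?_, ?_⟩
      · have e1 : ∑ i, Function.update y a v i = ∑ i, y i + v := by
          rw [← Finset.add_sum_erase _ _ (Finset.mem_univ a), ← Finset.add_sum_erase _ y (Finset.mem_univ a),
            Function.update_self, hya]
          have : ∑ i ∈ Finset.univ.erase a, Function.update y a v i = ∑ i ∈ Finset.univ.erase a, y i :=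
            Finset.sum_congr rfl (fun i hi => by rw [Function.update_of_ne (Finset.ne_of_mem_erase hi)])
          rw [this]; ring
        have e2 : ∑ i, Function.update y a v i ^ 2 = ∑ i, y i ^ 2 + v ^ 2 := by
          rw [← Finset.add_sum_erase _ _ (Finset.mem_univ a),
            ← Finset.add_sum_erase _ (fun i => y i ^ 2) (Finset.mem_univ a),
            Function.update_self, hya]
          have : ∑ i ∈ Finset.univ.erase a, Function.update y a v i ^ 2 = ∑ i ∈ Finset.univ.erase a, y i ^ 2 :=
            Finset.sum_congr rfl (fun i hi => by rw [Function.update_of_ne (Finset.ne_of_mem_erase hi)])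
          rw [this]; ring
        simp only [Finset.mem_filter, mem_box]
        refine ⟨⟨⟨fun i hi => ?_, fun i hi => ?_⟩, ?_, ?_⟩, ?_⟩
        · by_cases hia : i = a
          · rw [hia, Function.update_self]; exact List.mem_toFinset.mp hv
          · rw [Function.update_of_ne hia]
            rcases Finset.mem_insert.mp hi with h | h
            · exact absurd h hia
            · exact h1 i h
        · have hia : i ≠ a := fun h => hi (h ▸ Finset.mem_insert_self a S)
          rw [Function.update_of_ne hia]
          exact h2 i (fun h => hi (Finset.mem_insert_of_mem h))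
        · rw [e1]; omega
        · rw [e2, h4]; ring
        · rw [Function.update_self]
      · funext i
        by_cases hia : i = a
        · rw [hia, Function.update_self, hya]
        · rw [Function.update_of_ne hia, Function.update_of_ne hia]
  · intro x hx
    rw [Finset.mem_coe, Finset.mem_filter, mem_box] at hx
    exact Finset.mem_coe.mpr (List.mem_toFinset.mpr (hx.1.1 a (Finset.mem_insert_self a S)))

/-! ### Tables -/

/-- a candidate value `v`, encoded as `(v², (-v) mod 8)` -/
def enc (v : ℤ) : ℕ × ℕ := ((v ^ 2).toNat, ((-v) % 8).toNat)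

/-- one step of the dynamic programme: add one coordinate with the given (encoded) candidates -/
def stepL (P : List (ℕ × ℕ)) (t : List ℕ) : List ℕ :=
  (List.range 520).map (fun idx =>
    (P.map (fun p => if p.1 ≤ idx / 8 then
      t.getD ((idx / 8 - p.1) * 8 + (idx % 8 + p.2) % 8) 0 else 0)).sum)

/-- the table of the empty set of coordinates -/
def tab0 : List ℕ := (List.range 520).map (fun idx => if idx = 0 then 1 else 0)

theorem getD_map_range (f : ℕ → ℕ) {k i : ℕ} (hi : i < k) :
    ((List.range k).map f).getD i 0 = f i := by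
  simp [List.getD_eq_getElem?_getD, hi]

/-- the table `t` records the counts for the coordinate set `S` (entry `n * 8 + s`) -/
def Rep (V : ι → List ℤ) (t : List ℕ) (S : Finset ι) : Prop :=
  ∀ n s : ℕ, n ≤ 64 → s < 8 → cntZ V S s n = t.getD (n * 8 + s) 0

theorem rep_empty (V : ι → List ℤ) : Rep V tab0 (∅ : Finset ι) := by
  intro n s hn hs
  rw [tab0, getD_map_range _ (by omega)]
  have hbox : box V (∅ : Finset ι) = {0} := by
    ext x
    rw [mem_box, Finset.mem_singleton]
    constructor
    · rintro ⟨_, h⟩; funext i; exact h i (Finset.notMem_empty i)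
    · rintro rfl; exact ⟨fun i hi => absurd hi (Finset.notMem_empty i), fun i _ => rfl⟩
  rw [cntZ, hbox, Finset.filter_singleton]
  simp only [Pi.zero_apply, Finset.sum_const_zero, ne_eq, OfNat.ofNat_ne_zero, not_false_eq_true,
    zero_pow]
  by_cases h0 : n * 8 + s = 0
  · have hn0 : n = 0 := by omega
    have hs0 : s = 0 := by omega
    subst hn0; subst hs0
    simp
  · rw [if_neg h0, if_neg, Finset.card_empty]
    rintro ⟨h1, h2⟩
    omega

theorem rep_insert {V : ι → List ℤ} {t : List ℕ} {S : Finset ι} (h : Rep V t S) {a : ι}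
    (ha : a ∉ S) (hnd : (V a).Nodup) : Rep V (stepL ((V a).map enc) t) (insert a S) := by
  intro n s hn hs
  rw [cntZ_insert V ha hnd, stepL, getD_map_range _ (by omega), List.map_map]
  have e1 : (n * 8 + s) / 8 = n := by omega
  have e2 : (n * 8 + s) % 8 = s := by omega
  rw [e1, e2]
  congr 1
  apply List.map_congr_left
  intro v _
  simp only [Function.comp_apply]
  have h1 : ((enc v).1 : ℤ) = v ^ 2 := by
    show (((v ^ 2).toNat : ℕ) : ℤ) = v ^ 2
    exact Int.toNat_of_nonneg (sq_nonneg v)
  have h2 : ((enc v).2 : ℤ) = (-v) % 8 := by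
    show ((((-v) % 8).toNat : ℕ) : ℤ) = (-v) % 8
    exact Int.toNat_of_nonneg (by omega)
  by_cases hle : (enc v).1 ≤ n
  · rw [if_pos hle]
    have e3 : (n : ℤ) - v ^ 2 = ((n - (enc v).1 : ℕ) : ℤ) := by rw [← h1]; omega
    rw [e3, cntZ_congr V S (s' := (((s + (enc v).2) % 8 : ℕ) : ℤ)) (by omega)]
    exact h _ _ (by omega) (by omega)
  · rw [if_neg hle]
    exact cntZ_neg V S _ (by rw [← h1]; omega)

theorem rep_block {V : ι → List ℤ} {t : List ℕ} {S : Finset ι} (h : Rep V t S) (L : List ℤ)
    (hnd : L.Nodup) (S' : Finset ι) (hd : Disjoint S' S) (hV : ∀ i ∈ S', V i = L) :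
    Rep V ((stepL (L.map enc))^[S'.card] t) (S' ∪ S) := by
  induction S' using Finset.induction_on with
  | empty => simpa using h
  | insert a S'' ha ih =>
    rw [Finset.card_insert_of_notMem ha, Function.iterate_succ_apply', Finset.insert_union]
    have hd' : Disjoint S'' S := Finset.disjoint_of_subset_left (Finset.subset_insert a S'') hd
    have ih' := ih hd' (fun i hi => hV i (Finset.mem_insert_of_mem hi))
    have haS : a ∉ S'' ∪ S := by
      rw [Finset.mem_union]
      rintro (h1 | h1)
      · exact ha h1
      · exact (Finset.disjoint_left.mp hd (Finset.mem_insert_self a S'')) h1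
    have := rep_insert ih' haS (by rw [hV a (Finset.mem_insert_self a S'')]; exact hnd)
    rwa [hV a (Finset.mem_insert_self a S'')] at this

end Cfsg.Agent.Lib.Helper6.LeechCount
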