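import Cfsg.Agent.Lib.Helper6.LeechCountVals

/-!
# Counting lattice vectors of given norm all of whose coordinates satisfy a condition
-/

set_option autoImplicit false

namespace Cfsg.Agent.Lib.Helper6.Leech

open Cfsg
open Cfsg.Agent.Lib.Helper6.Golay
open Cfsg.Agent.Lib.Helper6.LeechCount

/-- even vectors with pattern `c`, norm `n`, all coordinates satisfying `q` -/
def evenFq (q : ℤ → Bool) (c : Finset GolayPt) (n : ℕ) : Finset (GolayPt → ℤ) :=
  (evenF c n).filter (fun x => ∀ i, q (x i) = true)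

def oddFq (q : ℤ → Bool) (c : Finset GolayPt) (n : ℕ) : Finset (GolayPt → ℤ) :=
  (oddF c n).filter (fun x => ∀ i, q (x i) = true)

theorem box_filter (q : ℤ → Bool) (LA LB : List ℤ) (c : Finset GolayPt) (x : GolayPt → ℤ) :
    x ∈ box (patV (LA.filter q) (LB.filter q) c) Finset.univ ↔
      x ∈ box (patV LA LB c) Finset.univ ∧ ∀ i, q (x i) = true := by
  rw [mem_box, mem_box]
  simp only [Finset.mem_univ, forall_true_left, not_true_eq_false, IsEmpty.forall_iff, implies_true,
    and_true, patV]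
  constructor
  · intro h
    refine ⟨fun i => ?_, fun i => ?_⟩
    · have := h i
      by_cases hi : i ∈ c
      · rw [if_pos hi] at this ⊢; exact (List.mem_filter.mp this).1
      · rw [if_neg hi] at this ⊢; exact (List.mem_filter.mp this).1
    · have := h i
      by_cases hi : i ∈ c
      · rw [if_pos hi] at this; exact (List.mem_filter.mp this).2
      · rw [if_neg hi] at this; exact (List.mem_filter.mp this).2
  · rintro ⟨h1, h2⟩ i
    have := h1 i
    by_cases hi : i ∈ c
    · rw [if_pos hi] at this ⊢; exact List.mem_filter.mpr ⟨this, h2 i⟩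
    · rw [if_neg hi] at this ⊢; exact List.mem_filter.mpr ⟨this, h2 i⟩

theorem card_evenFq (q : ℤ → Bool) (c : Finset GolayPt) (n : ℕ) (hn : n ≤ 64) :
    (evenFq q c n).card =
      ((stepL ((V2.filter q).map enc))^[c.card] ((stepL ((V0.filter q).map enc))^[24 - c.card] tab0)).getD
        (n * 8 + 0) 0 := by
  rw [← cntZ_pat (V2.filter q) (V0.filter q) ((by decide : V2.Nodup).filter _)
    ((by decide : V0.Nodup).filter _) c n 0 hn (by norm_num), cntZ]
  congr 1
  ext x
  rw [evenFq, evenF, Finset.mem_filter, Finset.mem_filter, Finset.mem_filter, box_filter]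
  tauto

theorem card_oddFq (q : ℤ → Bool) (c : Finset GolayPt) (n : ℕ) (hn : n ≤ 64) :
    (oddFq q c n).card =
      ((stepL ((V1.filter q).map enc))^[c.card] ((stepL ((V3.filter q).map enc))^[24 - c.card] tab0)).getD
        (n * 8 + 4) 0 := by
  rw [← cntZ_pat (V1.filter q) (V3.filter q) ((by decide : V1.Nodup).filter _)
    ((by decide : V3.Nodup).filter _) c n 4 hn (by norm_num), cntZ]
  congr 1
  ext x
  rw [oddFq, oddF, Finset.mem_filter, Finset.mem_filter, Finset.mem_filter, box_filter]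
  tauto

theorem leech_norm_set_q (q : ℤ → Bool) {n : ℕ} (hn : n ≤ 64) :
    {x : GolayPt → ℤ | x ∈ leechLattice ∧ sqNorm x = (n : ℤ) ∧ ∀ i, q (x i) = true} =
      ↑((Finset.range 4096).biUnion
        (fun m => evenFq q (fs (combo m)) n ∪ oddFq q (fs (combo m)) n)) := by
  ext x
  have h := Set.ext_iff.mp (leech_norm_set hn) x
  rw [Set.mem_ofPred_eq, Finset.mem_coe, Finset.mem_biUnion] at h
  rw [Set.mem_ofPred_eq, Finset.mem_coe, Finset.mem_biUnion, ← and_assoc, h]
  constructor
  · rintro ⟨⟨m, hm, hx⟩, hq⟩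
    refine ⟨m, hm, ?_⟩
    rcases Finset.mem_union.mp hx with hx | hx
    · exact Finset.mem_union_left _ (Finset.mem_filter.mpr ⟨hx, hq⟩)
    · exact Finset.mem_union_right _ (Finset.mem_filter.mpr ⟨hx, hq⟩)
  · rintro ⟨m, hm, hx⟩
    rcases Finset.mem_union.mp hx with hx | hx
    · exact ⟨⟨m, hm, Finset.mem_union_left _ (Finset.mem_filter.mp hx).1⟩, (Finset.mem_filter.mp hx).2⟩
    · exact ⟨⟨m, hm, Finset.mem_union_right _ (Finset.mem_filter.mp hx).1⟩, (Finset.mem_filter.mp hx).2⟩

def entryEq (q : ℤ → Bool) (w n : ℕ) : ℕ :=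
  ((stepL ((V2.filter q).map enc))^[w] ((stepL ((V0.filter q).map enc))^[24 - w] tab0)).getD (n * 8 + 0) 0

def entryOq (q : ℤ → Bool) (w n : ℕ) : ℕ :=
  ((stepL ((V1.filter q).map enc))^[w] ((stepL ((V3.filter q).map enc))^[24 - w] tab0)).getD (n * 8 + 4) 0

theorem ncard_leech_norm_q (q : ℤ → Bool) {n : ℕ} (hn : n ≤ 64) :
    {x : GolayPt → ℤ | x ∈ leechLattice ∧ sqNorm x = (n : ℤ) ∧ ∀ i, q (x i) = true}.ncard =
      (entryEq q 0 n + entryOq q 0 n) + 759 * (entryEq q 8 n + entryOq q 8 n) +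
        2576 * (entryEq q 12 n + entryOq q 12 n) +
        759 * (entryEq q 16 n + entryOq q 16 n) + (entryEq q 24 n + entryOq q 24 n) := by
  rw [leech_norm_set_q q hn, Set.ncard_coe_finset, Finset.card_biUnion,
    ← sum_by_weight (fun w => entryEq q w n + entryOq q w n)]
  · refine Finset.sum_congr rfl (fun m _ => ?_)
    rw [Finset.card_union_of_disjoint, card_evenFq _ _ _ hn, card_oddFq _ _ _ hn, card_fs, entryEq, entryOq]
    exact Finset.disjoint_of_subset_left (Finset.filter_subset _ _)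
      (Finset.disjoint_of_subset_right (Finset.filter_subset _ _) (evenF_oddF_disjoint _ _ _))
  · intro a ha b hb hab
    have hne : fs (combo a) ≠ fs (combo b) := fun h => hab (fs_combo_injOn ha hb h)
    rw [Function.onFun, Finset.disjoint_left]
    intro x hx hx'
    have e1 : ∀ c, x ∈ evenFq q c n → x ∈ evenF c n := fun c h => (Finset.mem_filter.mp h).1
    have e2 : ∀ c, x ∈ oddFq q c n → x ∈ oddF c n := fun c h => (Finset.mem_filter.mp h).1
    rcases Finset.mem_union.mp hx with h | h <;> rcases Finset.mem_union.mp hx' with h' | h'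
    · exact hne (evenF_inj (e1 _ h) (e1 _ h'))
    · exact Finset.disjoint_left.mp (evenF_oddF_disjoint _ _ _) (e1 _ h) (e2 _ h')
    · exact Finset.disjoint_left.mp (evenF_oddF_disjoint _ _ _) (e1 _ h') (e2 _ h)
    · exact hne (oddF_inj (e2 _ h) (e2 _ h'))

theorem finite_leech_norm {n : ℕ} (hn : n ≤ 64) :
    {x : GolayPt → ℤ | x ∈ leechLattice ∧ sqNorm x = (n : ℤ)}.Finite := by
  rw [leech_norm_set hn]; exact Finset.finite_toSet _

/-- the number of vectors of norm `n` having a coordinate violating `q` -/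
theorem ncard_leech_norm_exists (q : ℤ → Bool) {n : ℕ} (hn : n ≤ 64) :
    {x : GolayPt → ℤ | x ∈ leechLattice ∧ sqNorm x = (n : ℤ) ∧ ∃ i, q (x i) = false}.ncard +
      {x : GolayPt → ℤ | x ∈ leechLattice ∧ sqNorm x = (n : ℤ) ∧ ∀ i, q (x i) = true}.ncard =
      {x : GolayPt → ℤ | x ∈ leechLattice ∧ sqNorm x = (n : ℤ)}.ncard := by
  have hfin := finite_leech_norm hn
  rw [← Set.ncard_union_eq ?_ (hfin.subset (fun x hx => ⟨hx.1, hx.2.1⟩))
    (hfin.subset (fun x hx => ⟨hx.1, hx.2.1⟩))]
  · congr 1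
    ext x
    simp only [Set.mem_union, Set.mem_ofPred_eq]
    constructor
    · rintro (h | h)
      · exact ⟨h.1, h.2.1⟩
      · exact ⟨h.1, h.2.1⟩
    · rintro ⟨h1, h2⟩
      by_cases h : ∀ i, q (x i) = true
      · exact Or.inr ⟨h1, h2, h⟩
      · push Not at h
        obtain ⟨i, hi⟩ := h
        exact Or.inl ⟨h1, h2, i, by simpa using hi⟩
  · rw [Set.disjoint_left]
    rintro x ⟨_, _, i, hi⟩ ⟨_, _, h⟩
    rw [h i] at hi
    exact absurd hi (by simp)

end Cfsg.Agent.Lib.Helper6.Leech
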