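import Cfsg.Agent.Lib.Helper6.LeechCount

/-!
# The table entries needed for the vectors of norm 32, 48 and 64 (kernel computation)
-/

set_option autoImplicit false

namespace Cfsg.Agent.Lib.Helper6.Leech

open Cfsg

set_option maxRecDepth 1000000 in
set_option maxHeartbeats 4000000 in
theorem entries32 : entryE 0 32 = 1104 ∧ entryO 0 32 = 24 ∧ entryE 8 32 = 128 ∧ entryO 8 32 = 24 ∧
    entryE 12 32 = 0 ∧ entryO 12 32 = 24 ∧ entryE 16 32 = 0 ∧ entryO 16 32 = 24 ∧
    entryE 24 32 = 0 ∧ entryO 24 32 = 24 := by decide +kernel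

set_option maxRecDepth 1000000 in
set_option maxHeartbeats 4000000 in
theorem entries48 : entryE 0 48 = 0 ∧ entryO 0 48 = 2048 ∧ entryE 8 48 = 4096 ∧ entryO 8 48 = 2048 ∧
    entryE 12 48 = 2048 ∧ entryO 12 48 = 2048 ∧ entryE 16 48 = 0 ∧ entryO 16 48 = 2048 ∧
    entryE 24 48 = 0 ∧ entryO 24 48 = 2048 := by decide +kernel

set_option maxRecDepth 1000000 in
set_option maxHeartbeats 4000000 in
theorem entries64 : entryE 0 64 = 170064 ∧ entryO 0 64 = 48576 ∧ entryE 8 64 = 62464 ∧ entryO 8 64 = 48576 ∧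
    entryE 12 64 = 49152 ∧ entryO 12 64 = 48576 ∧ entryE 16 64 = 32768 ∧ entryO 16 64 = 48576 ∧
    entryE 24 64 = 0 ∧ entryO 24 64 = 48576 := by decide +kernel

theorem ncard_norm32 : {x : GolayPt → ℤ | x ∈ leechLattice ∧ sqNorm x = 32}.ncard = 196560 := by
  have h := ncard_leech_norm' (n := 32) (by norm_num)
  obtain ⟨h1, h2, h3, h4, h5, h6, h7, h8, h9, h10⟩ := entries32
  rw [h1, h2, h3, h4, h5, h6, h7, h8, h9, h10] at h
  simpa using h

theorem ncard_norm48 : {x : GolayPt → ℤ | x ∈ leechLattice ∧ sqNorm x = 48}.ncard = 16773120 := by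
  have h := ncard_leech_norm' (n := 48) (by norm_num)
  obtain ⟨h1, h2, h3, h4, h5, h6, h7, h8, h9, h10⟩ := entries48
  rw [h1, h2, h3, h4, h5, h6, h7, h8, h9, h10] at h
  simpa using h

theorem ncard_norm64 : {x : GolayPt → ℤ | x ∈ leechLattice ∧ sqNorm x = 64}.ncard = 398034000 := by
  have h := ncard_leech_norm' (n := 64) (by norm_num)
  obtain ⟨h1, h2, h3, h4, h5, h6, h7, h8, h9, h10⟩ := entries64
  rw [h1, h2, h3, h4, h5, h6, h7, h8, h9, h10] at h
  simpa using h

end Cfsg.Agent.Lib.Helper6.Leech
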