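import Cfsg.Agent.Lib.Helper6.LeechAut
import Cfsg.Agent.S0358
import Cfsg.Prelude.Def_SporadicCombinatorics

/-!
# The stabiliser of the standard cross in the automorphism group of the rank-24 lattice
-/

set_option autoImplicit false

namespace Cfsg.Agent.Lib.Helper6.Leech

open Cfsg
open Cfsg.Agent.Lib.Helper6.Golay
open scoped Pointwise

theorem co0_smul (g : Co0) (v : leechLattice) : g • v = g.1 v := rfl

theorem dot_single (x : GolayPt → ℤ) (j : GolayPt) (t : ℤ) : dotInt x (Pi.single j t) = t * x j := by
  simp only [dotInt, Pi.single_apply]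
  rw [Finset.sum_congr rfl (fun k _ => by rw [mul_ite, mul_zero]),
    Finset.sum_ite_eq' Finset.univ j (fun k => x k * t), if_pos (Finset.mem_univ j)]
  ring

/-- a permutation mapping codewords to codewords lies in `M24` -/
theorem mem_M24_of_isC (σ : Equiv.Perm GolayPt) (h : ∀ a, IsC a → IsC (a.image σ)) : σ ∈ M24 := by
  apply mem_M24_of_forall
  intro w hw
  have h1 : IsC ((support₂ w).image σ) := h _ ⟨w, hw, rfl⟩
  have e : (support₂ w).image σ = support₂ (w ∘ σ.symm) := by
    rw [← smul_support₂]; rfl
  rw [e] at h1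
  obtain ⟨v, hv, hvw⟩ := h1
  rw [← support₂_injective hvw]
  exact hv

/-- the stabiliser of the standard cross -/
def CrossStab (g : Co0) : Prop :=
  ∀ v : leechLattice, (v : GolayPt → ℤ) ∈ stdCross → ((g • v : leechLattice) : GolayPt → ℤ) ∈ stdCross

/-- the monomial automorphism with permutation part `σ` and sign set `c` -/
def monoC (σ : Equiv.Perm GolayPt) (hσ : σ ∈ M24) (c : Finset GolayPt) (hc : IsC c) : Co0 :=
  signC c hc * permC σ⁻¹ (M24.inv_mem hσ)

theorem monoC_apply (σ : Equiv.Perm GolayPt) (hσ : σ ∈ M24) (c : Finset GolayPt) (hc : IsC c)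
    (v : leechLattice) :
    (((monoC σ hσ c hc).1 v : leechLattice) : GolayPt → ℤ) = signedPerm σ c (v : GolayPt → ℤ) := rfl

theorem signedPerm_single (σ : Equiv.Perm GolayPt) (c : Finset GolayPt) (i : GolayPt) (t : ℤ) :
    signedPerm σ c (Pi.single i t) = Pi.single (σ i) (if σ i ∈ c then -t else t) := by
  funext j
  simp only [signedPerm, Pi.single_apply]
  by_cases hj : j = σ i
  · subst hj
    simp
  · have : σ.symm j ≠ i := by
      intro h; apply hj; rw [← h]; simp
    rw [if_neg this, if_neg hj]; simp

theorem monoC_crossStab (σ : Equiv.Perm GolayPt) (hσ : σ ∈ M24) (c : Finset GolayPt) (hc : IsC c) :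
    CrossStab (monoC σ hσ c hc) := by
  rintro v ⟨i, s, hs, hv⟩
  rw [co0_smul, monoC_apply, hv, signedPerm_single]
  refine ⟨σ i, _, ?_, rfl⟩
  rcases hs with rfl | rfl <;> split_ifs <;> simp

/-- **An automorphism preserving the standard cross is monomial.** -/
theorem crossStab_monomial {g : Co0} (hg : CrossStab g) :
    ∃ σ, ∃ hσ : σ ∈ M24, ∃ c, ∃ hc : IsC c, g = monoC σ hσ c hc := by
  have h8 : ∀ i, ((v8 i : leechLattice) : GolayPt → ℤ) ∈ stdCross := fun i => ⟨i, 8, Or.inl rfl, rfl⟩
  choose π s hs hπ using fun i => hg (v8 i) (h8 i)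
  simp only [co0_smul] at hπ
  -- the images are pairwise orthogonal
  have hinj : Function.Injective π := by
    intro i i' h
    by_contra hne
    have hd := co0_dot g (v8 i) (v8 i')
    rw [dot_v8, v8_apply, if_neg (Ne.symm hne), hπ i, hπ i', dot_single, Pi.single_apply, if_pos h.symm] at hd
    rcases hs i with h1 | h1 <;> rcases hs i' with h2 | h2 <;> rw [h1, h2] at hd <;> norm_num at hd
  let σ : Equiv.Perm GolayPt := Equiv.ofBijective π (Finite.injective_iff_bijective.mp hinj)
  have hσ : ∀ i, σ i = π i := fun i => rfl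
  -- coordinates of the images
  have hcoord : ∀ (v : leechLattice) (i : GolayPt),
      s i * ((g.1 v : leechLattice) : GolayPt → ℤ) (π i) = 8 * (v : GolayPt → ℤ) i := by
    intro v i
    have hd := co0_dot g v (v8 i)
    rw [dot_v8, hπ i, dot_single] at hd
    exact hd
  let c : Finset GolayPt := Finset.univ.filter (fun j => s (σ.symm j) = -8)
  have hval : ∀ v : leechLattice, ((g.1 v : leechLattice) : GolayPt → ℤ) = signedPerm σ c (v : GolayPt → ℤ) := by
    intro v
    funext j
    have hj : π (σ.symm j) = j := by rw [← hσ]; simp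
    have := hcoord v (σ.symm j)
    rw [hj] at this
    simp only [signedPerm, c, Finset.mem_filter, Finset.mem_univ, true_and]
    rcases hs (σ.symm j) with h1 | h1
    · rw [if_neg (by rw [h1]; norm_num)]
      rw [h1] at this; linarith
    · rw [if_pos h1]
      rw [h1] at this; linarith
  -- the permutation part preserves the code
  have hσM : σ ∈ M24 := by
    apply mem_M24_of_isC
    refine isC_induction (P := fun a => IsC (a.image σ)) ?_ ?_ ?_
    · rw [Finset.image_empty]; exact isC_empty
    · intro o ho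
      let w : leechLattice := ⟨octVec o, (octVec_mem ho).1⟩
      have hw := mem_leechLattice.mp (g.1 w).2
      obtain ⟨m, h1, h2, h3⟩ := mem_leechSet.mp hw
      have : cls ((g.1 w : leechLattice) : GolayPt → ℤ) 2 = o.image σ := by
        ext j
        rw [mem_cls, hval w, Finset.mem_image]
        simp only [signedPerm]
        show (if j ∈ c then -octVec o (σ.symm j) else octVec o (σ.symm j)) % 4 = 2 % 4 ↔ _
        simp only [octVec]
        constructor
        · intro h
          refine ⟨σ.symm j, ?_, by simp⟩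
          by_contra hn
          rw [if_neg hn] at h
          split_ifs at h <;> norm_num at h
        · rintro ⟨k, hk, rfl⟩
          rw [Equiv.symm_apply_apply, if_pos hk]
          split_ifs <;> norm_num
      rw [← this]; exact h3 2
    · intro a b _ _ ha hb
      rw [Finset.image_symmDiff _ _ σ.injective]
      exact ha.symmDiff hb
  -- the sign set is a codeword
  have hcC : IsC c := by
    let w : leechLattice := ⟨oddVec, oddVec_mem.1⟩
    have hw := mem_leechLattice.mp (g.1 w).2
    obtain ⟨m, h1, h2, h3⟩ := mem_leechSet.mp hw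
    have : cls ((g.1 w : leechLattice) : GolayPt → ℤ) 3 = c := by
      ext j
      rw [mem_cls, hval w]
      simp only [signedPerm]
      show (if j ∈ c then -oddVec (σ.symm j) else oddVec (σ.symm j)) % 4 = 3 % 4 ↔ _
      simp only [oddVec]
      constructor
      · intro h
        by_contra hn
        rw [if_neg hn] at h
        split_ifs at h <;> norm_num at h
      · intro hj
        rw [if_pos hj]
        split_ifs <;> norm_num
    rw [← this]; exact h3 3
  refine ⟨σ, hσM, c, hcC, ?_⟩
  apply Subtype.ext
  apply Equiv.ext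
  intro v
  apply Subtype.ext
  rw [hval v, monoC_apply]

theorem card_isC : Nat.card {c : Finset GolayPt // IsC c} = 4096 := by
  rw [← Cfsg.Agent.S0358.natCard_golayCode]
  symm
  apply Nat.card_congr
  refine Equiv.ofBijective (fun w : golayCode => ⟨support₂ w.1, ⟨w.1, w.2, rfl⟩⟩) ⟨?_, ?_⟩
  · intro v w h
    exact Subtype.ext (support₂_injective (congrArg Subtype.val h))
  · rintro ⟨c, w, hw, rfl⟩
    exact ⟨⟨w, hw⟩, rfl⟩

theorem monoC_inj {σ σ' : Equiv.Perm GolayPt} {hσ : σ ∈ M24} {hσ' : σ' ∈ M24} {c c' : Finset GolayPt}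
    {hc : IsC c} {hc' : IsC c'} (h : monoC σ hσ c hc = monoC σ' hσ' c' hc') : σ = σ' ∧ c = c' := by
  have key : ∀ i, (Pi.single (σ i) (if σ i ∈ c then -8 else 8) : GolayPt → ℤ) =
      Pi.single (σ' i) (if σ' i ∈ c' then -8 else 8) := by
    intro i
    have := congrArg (fun k : Co0 => ((k.1 (v8 i) : leechLattice) : GolayPt → ℤ)) h
    simp only [monoC_apply] at this
    have e : ((v8 i : leechLattice) : GolayPt → ℤ) = Pi.single i 8 := rfl
    rw [e, signedPerm_single, signedPerm_single] at this
    exact this
  have hσσ : ∀ i, σ i = σ' i := by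
    intro i
    have := congrFun (key i) (σ i)
    rw [Pi.single_eq_same, Pi.single_apply] at this
    by_contra hne
    rw [if_neg hne] at this
    split_ifs at this <;> norm_num at this
  have e : σ = σ' := Equiv.ext hσσ
  refine ⟨e, ?_⟩
  subst e
  ext j
  have := congrFun (key (σ.symm j)) j
  simp only [Equiv.apply_symm_apply, Pi.single_eq_same] at this
  constructor
  · intro hj
    by_contra hj'
    rw [if_pos hj, if_neg hj'] at this
    norm_num at this
  · intro hj
    by_contra hj'
    rw [if_neg hj', if_pos hj] at this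
    norm_num at this

/-- **The stabiliser of the standard cross has order `2 ^ 12 * |M24|`.** -/
theorem card_crossStab : Nat.card {g : Co0 // CrossStab g} = 4096 * 244823040 := by
  let Φ : M24 × {c : Finset GolayPt // IsC c} → {g : Co0 // CrossStab g} :=
    fun p => ⟨monoC p.1.1 p.1.2 p.2.1 p.2.2, monoC_crossStab _ _ _ _⟩
  have hΦ : Function.Bijective Φ := by
    constructor
    · rintro ⟨⟨σ, hσ⟩, ⟨c, hc⟩⟩ ⟨⟨σ', hσ'⟩, ⟨c', hc'⟩⟩ h
      have h' : monoC σ hσ c hc = monoC σ' hσ' c' hc' := congrArg Subtype.val h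
      obtain ⟨rfl, rfl⟩ := monoC_inj h'
      rfl
    · rintro ⟨g, hg⟩
      obtain ⟨σ, hσ, c, hc, rfl⟩ := crossStab_monomial hg
      exact ⟨⟨⟨σ, hσ⟩, ⟨c, hc⟩⟩, rfl⟩
  rw [← Nat.card_congr (Equiv.ofBijective Φ hΦ), Nat.card_prod, card_isC, card_M24, mul_comm]

end Cfsg.Agent.Lib.Helper6.Leech
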