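import Cfsg.Agent.Lib.Helper6.LeechMod2c
import Cfsg.Agent.Lib.Helper6.LeechCo2C
import Cfsg.Agent.Lib.Helper6.LeechTrans3

/-!
# The automorphism group is transitive on the vectors of norm 64
-/

set_option autoImplicit false

namespace Cfsg.Agent.Lib.Helper6.Leech

open Cfsg
open Cfsg.Agent.Lib.Helper6.Golay

/-- a vector of norm 64 is the sum of two orthogonal minimal vectors -/
theorem decomp_64 (x : GolayPt → ℤ) (hx : x ∈ leechLattice) (hxn : sqNorm x = 64) :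
    ∃ a ∈ leechLattice, ∃ b ∈ leechLattice, sqNorm a = 32 ∧ sqNorm b = 32 ∧ dotInt a b = 0 ∧ x = a + b := by
  have h48 := ncard_cross x hx hxn
  have hlt : ({x, -x} : Set (GolayPt → ℤ)).ncard < (cross x).ncard := by
    rw [h48]
    have := Set.ncard_insert_le x ({-x} : Set (GolayPt → ℤ))
    rw [Set.ncard_singleton] at this
    omega
  obtain ⟨y, hy, hyn⟩ := Set.exists_mem_notMem_of_ncard_lt_ncard hlt (Set.toFinite _)
  obtain ⟨hyL, hyn64, z, hz, hxy⟩ := hy
  rw [hxn] at hyn64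
  have h1 : y ≠ x := fun h => hyn (by rw [h]; exact Set.mem_insert _ _)
  have h2 : y ≠ -x := fun h => hyn (by rw [h]; exact Set.mem_insert_of_mem _ rfl)
  obtain ⟨-, -, hdot⟩ := short_congr hx hyL (by omega) (by omega) (mem_twoL.mpr ⟨z, hz, hxy⟩) h1 h2
  have hz' : z + y ∈ leechLattice := leechLattice.add_mem hz hyL
  have hxy' : x + y = 2 • (z + y) := by
    rw [smul_add, ← hxy, two_smul]; abel
  have e1 : sqNorm (x - y) = 4 * sqNorm z := by
    rw [hxy, two_nsmul]; simp only [sqNorm, Pi.add_apply]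
    rw [Finset.mul_sum]; exact Finset.sum_congr rfl (fun i _ => by ring)
  have e2 : sqNorm (x + y) = 4 * sqNorm (z + y) := by
    rw [hxy', two_nsmul]; simp only [sqNorm, Pi.add_apply]
    rw [Finset.mul_sum]; exact Finset.sum_congr rfl (fun i _ => by ring)
  have e3 := sqNorm_add x y
  have e4 : sqNorm (x - y) = sqNorm x - 2 * dotInt x y + sqNorm y := by
    simp only [sqNorm, dotInt, Pi.sub_apply]
    rw [Finset.mul_sum, ← Finset.sum_sub_distrib, ← Finset.sum_add_distrib]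
    exact Finset.sum_congr rfl (fun i _ => by ring)
  have hxz : x = (z + y) + z := by
    have : x = (x - y) + y := by abel
    rw [this, hxy, two_smul]; abel
  have e5 := sqNorm_add (z + y) z
  rw [← hxz] at e5
  refine ⟨z + y, hz', z, hz, by omega, by omega, by omega, hxz⟩

/-- **The automorphism group is transitive on the vectors of norm 64.** -/
theorem co0_transitive_64 (v w : leechLattice) (hv : sqNorm (v : GolayPt → ℤ) = 64)
    (hw : sqNorm (w : GolayPt → ℤ) = 64) : ∃ g : Co0, g • v = w := by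
  obtain ⟨a, ha, b, hb, han, hbn, hab, hv'⟩ := decomp_64 v v.2 hv
  obtain ⟨a', ha', b', hb', han', hbn', hab', hw'⟩ := decomp_64 w w.2 hw
  obtain ⟨g1, hg1⟩ := co0_transitive_min ⟨a, ha⟩ ⟨a', ha'⟩ han han'
  have hg1' : g1.1 ⟨a, ha⟩ = ⟨a', ha'⟩ := hg1
  have hd : dotInt ((⟨a', ha'⟩ : leechLattice) : GolayPt → ℤ) ((g1.1 ⟨b, hb⟩ : leechLattice) : GolayPt → ℤ) = 0 := by
    rw [← hg1', co0_dot]; exact hab
  obtain ⟨g2, hg2, hg2'⟩ := co2_transitiveC ⟨a', ha'⟩ (g1.1 ⟨b, hb⟩) ⟨b', hb'⟩ han'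
    ((co0_norm g1 ⟨b, hb⟩).trans hbn) hbn' hd hab'
  refine ⟨g2 * g1, ?_⟩
  have hvsum : v = ⟨a, ha⟩ + ⟨b, hb⟩ := Subtype.ext hv'
  have hwsum : w = ⟨a', ha'⟩ + ⟨b', hb'⟩ := Subtype.ext hw'
  show g2.1 (g1.1 v) = w
  rw [hvsum, co0_add, co0_add, hg1', hwsum]
  congr 1

end Cfsg.Agent.Lib.Helper6.Leech
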