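import Cfsg.Agent.Lib.Helper6.LeechGen

/-!
# The rank-24 lattice is generated by its minimal vectors (main argument)
-/

set_option autoImplicit false

namespace Cfsg.Agent.Lib.Helper6.Leech

open Cfsg
open Cfsg.Agent.Lib.Helper6.Golay

/-- the subgroup generated by the minimal vectors -/
def minSub : AddSubgroup (GolayPt → ℤ) := AddSubgroup.closure minVecs

theorem minSub_le : minSub ≤ leechLattice := by
  rw [minSub, AddSubgroup.closure_le]
  intro x hx; exact hx.1

theorem mem_minSub_of_mem {x : GolayPt → ℤ} (hx : x ∈ minVecs) : x ∈ minSub :=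
  AddSubgroup.subset_closure hx

theorem eight_mem : (fun j : GolayPt => if j = none then (8 : ℤ) else 0) ∈ minSub := by
  have h1 := mem_minSub_of_mem (e4_add_mem (i := none) (j := some 0) (by decide))
  have h2 := mem_minSub_of_mem (e4_sub_mem (i := none) (j := some 0) (by decide))
  have := minSub.add_mem h1 h2
  convert this using 1
  funext j
  simp only [Pi.add_apply, Pi.sub_apply, e4]
  split_ifs <;> norm_num

theorem four_mem {b : GolayPt → ℤ} (hb : (∑ i, b i) % 2 = 0) : (fun i => 4 * b i) ∈ minSub := by
  obtain ⟨t, ht⟩ : ∃ t, ∑ i, b i = 2 * t := ⟨(∑ i, b i) / 2, by omega⟩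
  have hid : (fun i => 4 * b i) = ∑ i, b i • (e4 i - e4 none) +
      t • (fun j : GolayPt => if j = none then (8 : ℤ) else 0) := by
    funext j
    simp only [Pi.add_apply, Finset.sum_apply, Pi.smul_apply, Pi.sub_apply, e4, smul_eq_mul]
    have h1 : ∑ i, b i * ((if j = i then (4 : ℤ) else 0) - (if j = none then 4 else 0)) =
        4 * b j - (if j = none then 4 else 0) * ∑ i, b i := by
      have : ∀ i, b i * ((if j = i then (4 : ℤ) else 0) - (if j = none then 4 else 0)) =
          (if j = i then 4 * b i else 0) - (if j = none then 4 else 0) * b i := by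
        intro i; split_ifs <;> ring
      rw [Finset.sum_congr rfl (fun i _ => this i), Finset.sum_sub_distrib, Finset.sum_ite_eq,
        if_pos (Finset.mem_univ j), Finset.mul_sum]
    rw [h1, ht]
    split_ifs <;> ring
  rw [hid]
  apply minSub.add_mem
  · apply AddSubgroup.sum_mem
    intro i _
    apply AddSubgroup.zsmul_mem
    by_cases hi : i = none
    · rw [hi, sub_self]; exact minSub.zero_mem
    · exact mem_minSub_of_mem (e4_sub_mem hi)
  · exact AddSubgroup.zsmul_mem _ eight_mem t

/-- every codeword is the pattern of an even vector generated by minimal vectors -/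
theorem exists_pattern {c : Finset GolayPt} (hc : IsC c) :
    ∃ y ∈ minSub, ∀ i, y i % 4 = if i ∈ c then 2 else 0 := by
  refine isC_induction (P := fun c => ∃ y ∈ minSub, ∀ i, y i % 4 = if i ∈ c then 2 else 0)
    ?_ ?_ ?_ c hc
  · exact ⟨0, minSub.zero_mem, fun i => by simp⟩
  · intro o ho
    refine ⟨octVec o, mem_minSub_of_mem (octVec_mem ho), fun i => ?_⟩
    simp only [octVec]; split_ifs <;> norm_num
  · rintro s t _ _ ⟨y, hy, ky⟩ ⟨y', hy', ky'⟩
    refine ⟨y + y', minSub.add_mem hy hy', fun i => ?_⟩
    have h1 := ky i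
    have h2 := ky' i
    simp only [Pi.add_apply, Finset.mem_symmDiff]
    by_cases hs : i ∈ s <;> by_cases ht : i ∈ t <;> simp only [hs, ht, if_true, if_false] at h1 h2 ⊢ <;>
      simp <;> omega

theorem even_mem_minSub {x : GolayPt → ℤ} (hx : x ∈ leechSet) (h : x none % 2 = 0) : x ∈ minSub := by
  obtain ⟨m, h1, h2, h3⟩ := mem_leechSet.mp hx
  have hm : m % 2 = 0 := by have := h1 none; omega
  obtain ⟨y, hy, ky⟩ := exists_pattern (h3 2)
  have hyL : y ∈ leechSet := mem_leechLattice.mp (minSub_le hy)
  obtain ⟨m', g1, g2, g3⟩ := mem_leechSet.mp hyL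
  have hm' : m' % 2 = 0 := by
    have := g1 none; have := ky none; split_ifs at this <;> omega
  -- the difference is divisible by 4
  have hz4 : ∀ i, (x i - y i) % 4 = 0 := by
    intro i
    have hk := ky i
    have := h1 i
    by_cases hi : i ∈ cls x 2
    · rw [if_pos hi] at hk; have := mem_cls.mp hi; omega
    · rw [if_neg hi] at hk
      have h4 : ¬ (x i % 4 = 2 % 4) := fun h => hi (mem_cls.mpr h)
      omega
  have hz8 : (∑ i, (x i - y i)) % 8 = 0 := by
    rw [Finset.sum_sub_distrib]; omega
  have hz : (fun i => 4 * ((x i - y i) / 4)) ∈ minSub := by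
    apply four_mem
    have : ∑ i, (x i - y i) = 4 * ∑ i, (x i - y i) / 4 := by
      rw [Finset.mul_sum]
      exact Finset.sum_congr rfl (fun i _ => by have := hz4 i; omega)
    omega
  have : x = (fun i => 4 * ((x i - y i) / 4)) + y := by
    funext i
    have := hz4 i
    simp only [Pi.add_apply]; omega
  rw [this]
  exact minSub.add_mem hz hy

/-- **The lattice is generated by its minimal vectors.** -/
theorem minSub_eq : minSub = leechLattice := by
  apply le_antisymm minSub_le
  intro x hx
  have hxS := mem_leechLattice.mp hx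
  by_cases h : x none % 2 = 0
  · exact even_mem_minSub hxS h
  · have ho : oddVec ∈ leechSet := mem_leechLattice.mp oddVec_mem.1
    have hd : x - oddVec ∈ leechSet := by
      rw [sub_eq_add_neg]; exact add_mem hxS (neg_mem ho)
    have : (x - oddVec) none % 2 = 0 := by
      simp only [Pi.sub_apply, oddVec, if_true]; omega
    have := minSub.add_mem (even_mem_minSub hd this) (mem_minSub_of_mem oddVec_mem)
    rwa [sub_add_cancel] at this

end Cfsg.Agent.Lib.Helper6.Leech
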