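import Cfsg.Agent.Lib.Helper6.LeechGen

/-!
# A generating set of the rank-24 lattice; induction over the lattice
-/

set_option autoImplicit false

namespace Cfsg.Agent.Lib.Helper6.Leech

open Cfsg
open Cfsg.Agent.Lib.Helper6.Golay

section

variable (L : AddSubgroup (GolayPt → ℤ))
  (h1 : ∀ i : GolayPt, i ≠ none → e4 i - e4 none ∈ L)
  (h2 : e4 none + e4 (some 0) ∈ L) (h3 : e4 none - e4 (some 0) ∈ L)
  (h4 : ∀ o ∈ octads, octVec o ∈ L) (h5 : oddVec ∈ L)

include h2 h3 in
theorem gen_eight_mem : (fun j : GolayPt => if j = none then (8 : ℤ) else 0) ∈ L := by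
  have := L.add_mem h2 h3
  convert this using 1
  funext j
  simp only [Pi.add_apply, Pi.sub_apply, e4]
  split_ifs <;> norm_num

include h1 h2 h3 in
theorem gen_four_mem {b : GolayPt → ℤ} (hb : (∑ i, b i) % 2 = 0) : (fun i => 4 * b i) ∈ L := by
  obtain ⟨t, ht⟩ : ∃ t, ∑ i, b i = 2 * t := ⟨(∑ i, b i) / 2, by omega⟩
  have hid : (fun i => 4 * b i) = ∑ i, b i • (e4 i - e4 none) +
      t • (fun j : GolayPt => if j = none then (8 : ℤ) else 0) := by
    funext j
    simp only [Pi.add_apply, Finset.sum_apply, Pi.smul_apply, Pi.sub_apply, e4, smul_eq_mul]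
    have h1 : ∑ i, b i * ((if j = i then (4 : ℤ) else 0) - (if j = none then 4 else 0)) =
        4 * b j - (if j = none then 4 else 0) * ∑ i, b i := by
      have : ∀ i, b i * ((if j = i then (4 : ℤ) else 0) - (if j = none then 4 else 0)) =
          (if j = i then 4 * b i else 0) - (if j = none then 4 else 0) * b i := by
        intro i; split_ifs <;> ring
      rw [Finset.sum_congr rfl (fun i _ => this i), Finset.sum_sub_distrib, Finset.sum_ite_eq,
        if_pos (Finset.mem_univ j), Finset.mul_sum]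
    rw [h1, ht]
    split_ifs <;> ring
  rw [hid]
  apply L.add_mem
  · apply AddSubgroup.sum_mem
    intro i _
    apply AddSubgroup.zsmul_mem
    by_cases hi : i = none
    · rw [hi, sub_self]; exact L.zero_mem
    · exact h1 i hi
  · exact AddSubgroup.zsmul_mem _ (gen_eight_mem L h2 h3) t

include h4 in
theorem gen_exists_pattern {c : Finset GolayPt} (hc : IsC c) :
    ∃ y ∈ L, ∀ i, y i % 4 = if i ∈ c then 2 else 0 := by
  refine isC_induction (P := fun c => ∃ y ∈ L, ∀ i, y i % 4 = if i ∈ c then 2 else 0)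
    ?_ ?_ ?_ c hc
  · exact ⟨0, L.zero_mem, fun i => by simp⟩
  · intro o ho
    refine ⟨octVec o, h4 o ho, fun i => ?_⟩
    simp only [octVec]; split_ifs <;> norm_num
  · rintro s t _ _ ⟨y, hy, ky⟩ ⟨y', hy', ky'⟩
    refine ⟨y + y', L.add_mem hy hy', fun i => ?_⟩
    have h1 := ky i
    have h2 := ky' i
    simp only [Pi.add_apply, Finset.mem_symmDiff]
    by_cases hs : i ∈ s <;> by_cases ht : i ∈ t <;> simp only [hs, ht, if_true, if_false] at h1 h2 ⊢ <;>
      simp <;> omega

include h1 h2 h3 h4 in
theorem gen_even_mem (hle : L ≤ leechLattice) {x : GolayPt → ℤ} (hx : x ∈ leechSet)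
    (h : x none % 2 = 0) : x ∈ L := by
  obtain ⟨m, g1', g2', g3'⟩ := mem_leechSet.mp hx
  have hm : m % 2 = 0 := by have := g1' none; omega
  obtain ⟨y, hy, ky⟩ := gen_exists_pattern L h4 (g3' 2)
  have hyL : y ∈ leechSet := mem_leechLattice.mp (hle hy)
  obtain ⟨m', g1, g2, g3⟩ := mem_leechSet.mp hyL
  have hm' : m' % 2 = 0 := by
    have := g1 none; have := ky none; split_ifs at this <;> omega
  have hz4 : ∀ i, (x i - y i) % 4 = 0 := by
    intro i
    have hk := ky i
    have := g1' i
    by_cases hi : i ∈ cls x 2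
    · rw [if_pos hi] at hk; have := mem_cls.mp hi; omega
    · rw [if_neg hi] at hk
      have h4 : ¬ (x i % 4 = 2 % 4) := fun h => hi (mem_cls.mpr h)
      omega
  have hz8 : (∑ i, (x i - y i)) % 8 = 0 := by
    rw [Finset.sum_sub_distrib]; omega
  have hz : (fun i => 4 * ((x i - y i) / 4)) ∈ L := by
    apply gen_four_mem L h1 h2 h3
    have : ∑ i, (x i - y i) = 4 * ∑ i, (x i - y i) / 4 := by
      rw [Finset.mul_sum]
      exact Finset.sum_congr rfl (fun i _ => by have := hz4 i; omega)
    omega
  have : x = (fun i => 4 * ((x i - y i) / 4)) + y := by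
    funext i
    have := hz4 i
    simp only [Pi.add_apply]; omega
  rw [this]
  exact L.add_mem hz hy

include h1 h2 h3 h4 h5 in
/-- a subgroup of the lattice containing the standard generators is the whole lattice -/
theorem eq_of_gens (hle : L ≤ leechLattice) : L = leechLattice := by
  apply le_antisymm hle
  intro x hx
  have hxS := mem_leechLattice.mp hx
  by_cases h : x none % 2 = 0
  · exact gen_even_mem L h1 h2 h3 h4 hle hxS h
  · have ho : oddVec ∈ leechSet := mem_leechLattice.mp oddVec_mem.1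
    have hd : x - oddVec ∈ leechSet := by
      rw [sub_eq_add_neg]; exact add_mem hxS (neg_mem ho)
    have : (x - oddVec) none % 2 = 0 := by
      simp only [Pi.sub_apply, oddVec, if_true]; omega
    have := L.add_mem (gen_even_mem L h1 h2 h3 h4 hle hd this) h5
    rwa [sub_add_cancel] at this

end

/-- **Induction over the lattice** for additive maps: a property of lattice vectors that holds
for the standard generators and is preserved by sums and negatives holds everywhere. -/
theorem leech_induction (P : (GolayPt → ℤ) → Prop) (h0 : P 0)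
    (hadd : ∀ x y, x ∈ leechLattice → y ∈ leechLattice → P x → P y → P (x + y))
    (hneg : ∀ x, x ∈ leechLattice → P x → P (-x))
    (h1 : ∀ i : GolayPt, i ≠ none → P (e4 i - e4 none))
    (h2 : P (e4 none + e4 (some 0))) (h3 : P (e4 none - e4 (some 0)))
    (h4 : ∀ o ∈ octads, P (octVec o)) (h5 : P oddVec) : ∀ x ∈ leechLattice, P x := by
  let L : AddSubgroup (GolayPt → ℤ) :=
    { carrier := {x | x ∈ leechLattice ∧ P x}
      zero_mem' := ⟨leechLattice.zero_mem, h0⟩
      add_mem' := fun {x y} hx hy => ⟨leechLattice.add_mem hx.1 hy.1, hadd x y hx.1 hy.1 hx.2 hy.2⟩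
      neg_mem' := fun {x} hx => ⟨leechLattice.neg_mem hx.1, hneg x hx.1 hx.2⟩ }
  have hL : L = leechLattice := by
    apply eq_of_gens L
    · intro i hi; exact ⟨(e4_sub_mem hi).1, h1 i hi⟩
    · exact ⟨(e4_add_mem (by decide)).1, h2⟩
    · exact ⟨(e4_sub_mem (by decide)).1, h3⟩
    · intro o ho; exact ⟨(octVec_mem ho).1, h4 o ho⟩
    · exact ⟨oddVec_mem.1, h5⟩
    · intro x hx; exact hx.1
  intro x hx
  rw [← hL] at hx
  exact hx.2

end Cfsg.Agent.Lib.Helper6.Leech
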