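import Cfsg.Agent.Lib.Helper6.LeechOrbit8
import Cfsg.Agent.Lib.Helper6.LeechCo3Data
import Cfsg.Agent.Lib.Helper6.LeechCo2Data

/-!
# Generators of joint stabilisers of two or three reference vectors
-/

set_option autoImplicit false

namespace Cfsg.Agent.Lib.Helper6.Leech

open Cfsg
open Cfsg.Agent.Lib.Helper6.Golay
open Cfsg.Agent.Lib.Helper6.LeechCount

def hmProg : List (ℕ × ℕ) := [(0, 0), (1, 0), (0, 1), (2, 2), (1, 3), (0, 4), (2, 4), (0, 5), (1, 5), (2, 5), (0, 7), (0, 8), (0, 9), (1, 10), (2, 11), (2, 12), (0, 13), (0, 14), (0, 15), (1, 15), (2, 17), (0, 18), (1, 19), (1, 20), (0, 21), (0, 22), (1, 24), (2, 25), (2, 26), (2, 27), (0, 28), (0, 29), (0, 30), (2, 31), (2, 32), (1, 33), (2, 35), (0, 36), (0, 37), (2, 38), (1, 40), (1, 41), (2, 42), (0, 43), (1, 46), (2, 23), (3, 3), (3, 49), (49, 49), (51, 51), (50, 52), (6, 6), (5, 5), (47, 47), (56, 56), (47, 57), (57, 57), (58, 59), (5, 0), (61,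 2), (3, 2), (63, 0), (64, 0), (62, 0), (66, 0), (67, 0), (68, 2), (69, 0), (65, 0), (44, 44), (72, 72), (72, 73), (73, 73), (74, 75), (76, 45), (16, 16), (78, 78), (78, 79), (79, 79), (81, 81), (80, 82), (83, 48), (34, 34), (85, 85), (86, 86), (34, 87), (88, 39), (77, 77), (90, 90), (90, 91), (89, 89), (93, 93), (94, 94), (93, 95), (84, 84), (97, 97), (71, 71), (71, 99), (99, 99), (100, 101), (5, 77), (103, 77), (104, 84), (105, 77), (106, 89), (107, 77), (108, 84), (109, 92), (110, 96), (111, 98), (112, 96), (113, 55), (70, 2), (115, 2), (116, 0), (117, 2), (118, 0), (119, 2), (120, 2), (121, 53), (122, 53), (123, 53), (124, 53), (125, 54), (126, 54), (127, 54), (128, 53), (129, 54), (130, 53), (131, 55)]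

def hmA : List ℕ := [0, 8, 4, 20, 17, 22, 5, 15, 2, 18, 19, 21, 9, 13, 12, 6, 14, 10, 3, 1, 16, 7, 11, 23]

def hmB : List ℕ := [0, 12, 2, 16, 17, 6, 15, 4, 9, 11, 8, 22, 5, 13, 3, 1, 21, 20, 7, 14, 18, 19, 10, 23]

def hmC : List ℕ := [0, 8, 20, 2, 22, 19, 7, 9, 14, 21, 16, 15, 18, 10, 5, 1, 4, 13, 3, 6, 17, 11, 12, 23]

def hmS : List ℕ := [23, 22, 11, 15, 17, 9, 19, 13, 20, 5, 16, 2, 21, 7, 18, 3, 10, 4, 14, 6, 8, 12, 1, 0]

def hmP0 : List ℕ := [5, 4, 0, 3, 7, 18, 14, 9, 21, 10, 11, 19, 17, 15, 13, 6, 1, 12, 22, 16, 2, 20, 8, 23]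

def hmP1 : List ℕ := [0, 10, 1, 6, 15, 16, 8, 22, 12, 13, 19, 3, 4, 9, 17, 11, 20, 18, 7, 21, 14, 5, 23, 2]

def hmP2 : List ℕ := [23, 0, 12, 16, 18, 10, 20, 14, 21, 6, 17, 3, 22, 8, 19, 4, 11, 5, 15, 7, 9, 13, 2, 1]

def hmP3 : List ℕ := [4, 1, 3, 19, 5, 0, 18, 15, 7, 16, 12, 13, 17, 22, 20, 8, 9, 11, 21, 6, 14, 2, 10, 23]

def hmP4 : List ℕ := [0, 2, 23, 11, 12, 21, 3, 18, 6, 13, 1, 15, 8, 9, 20, 4, 5, 14, 17, 10, 16, 19, 7, 22]

def hmP5 : List ℕ := [2, 16, 20, 3, 1, 0, 15, 4, 22, 7, 9, 10, 17, 14, 6, 13, 19, 12, 5, 11, 21, 8, 18, 23]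

def hmP6 : List ℕ := [16, 1, 22, 8, 13, 18, 5, 21, 6, 20, 9, 19, 3, 2, 10, 12, 0, 15, 17, 7, 11, 14, 4, 23]

def hmIdx : List ℕ := [77, 84, 89, 1, 71, 47, 5, 114, 60, 102, 132]

def hmPerms : List (List ℕ) := [hmA, hmB, hmC, hmS, hmP0, hmP1, hmP2, hmP3, hmP4, hmP5, hmP6]

def mclGens : List (List Prim) := [[.perm hmA], [.perm hmB], [.perm hmC], [.perm hmP0, .xi, .perm hmP1, .sign 4819776, .xi, .perm hmP2, .sign 2654580]]

def u43Gens : List (List Prim) := [[.perm hmA], [.perm hmB], [.perm hmP0, .xi, .perm hmP1, .sign 4819776, .xi, .perm hmP3, .sign 7371217, .xi', .perm hmP4, .sign 11548936, .xi', .perm hmP5]]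

def hsGens : List (List Prim) := [[.perm hmA], [.perm hmB], [.perm hmC], [.xi, .perm hmP1, .sign 4819776, .xi, .perm hmP6, .sign 8189472, .xi', .perm hmP4, .sign 11548936, .xi']]

def m22Gens : List (List Prim) := [[.perm hmA], [.perm hmB], [.perm hmC]]

set_option maxRecDepth 100000 in
theorem hmPerms_eq : hmPerms = hmIdx.map (fun k => (slpPerms hmProg).getD k idl) := by
  decide +kernel

theorem hmPerms_rep : ∀ l ∈ hmPerms, Rep M24 l := by
  intro l hl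
  rw [hmPerms_eq, List.mem_map] at hl
  obtain ⟨k, _, rfl⟩ := hl
  exact rep_slpPerms hmProg k

/-- a third reference vector, minimal -/
def x1L : List ℤ := [0, 0, 0, 0, 0, 0, 0, 0, 0, 0, 0, 0, 0, 4, 0, 0, 0, 0, 0, 0, 0, 0, 0, 4]

/-- a second reference vector of norm 48 -/
def w1L : List ℤ := [-5, -1, -1, -1, -1, -1, -1, -1, -1, -1, -1, -1, -1, -1, -1, -1, -1, -1, -1, -1, -1, -1, -1, -1]

theorem hmRefs_ok : inLeechL x1L = true ∧ normL x1L = 32 ∧ dotL u0L x1L = 24 ∧ dotL v0L x1L = 16 ∧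
    inLeechL w1L = true ∧ normL w1L = 48 ∧ dotL u0L w1L = -32 ∧ normL v0L = 32 ∧ dotL u0L v0L = 24 ∧
    dotL w1L v0L = -24 := by decide +kernel

theorem x1L_mem : vecOf x1L ∈ leechLattice := mem_leechLattice.mpr (inLeechL_sound _ hmRefs_ok.1)

theorem w1L_mem : vecOf w1L ∈ leechLattice :=
  mem_leechLattice.mpr (inLeechL_sound _ hmRefs_ok.2.2.2.2.1)

set_option maxRecDepth 100000 in
theorem mclGens_ok : checkGens hmPerms [u0L, v0L] mclGens = true := by decide +kernel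

set_option maxRecDepth 100000 in
theorem u43Gens_ok : checkGens hmPerms [u0L, v0L, x1L] u43Gens = true := by decide +kernel

set_option maxRecDepth 100000 in
theorem hsGens_ok : checkGens hmPerms [u0L, w1L] hsGens = true := by decide +kernel

set_option maxRecDepth 100000 in
theorem m22Gens_ok : checkGens hmPerms [u0L, w1L, v0L] m22Gens = true := by decide +kernel

end Cfsg.Agent.Lib.Helper6.Leech
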