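import Cfsg.Agent.Lib.Helper6.LeechMcL
import Cfsg.Agent.Lib.Helper6.LeechCo3B

/-!
# The stabiliser of a triangle of type 233: the orbit of length 100, a swapping element, and an
involution without fixed points
-/

set_option autoImplicit false

namespace Cfsg.Agent.Lib.Helper6.Leech

open Cfsg
open Cfsg.Agent.Lib.Helper6.Golay
open Cfsg.Agent.Lib.Helper6.LeechCount

theorem sqNorm_neg (z : GolayPt → ℤ) : sqNorm (-z) = sqNorm z := by
  simp only [sqNorm, Pi.neg_apply, neg_sq]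

theorem dotInt_neg_right (x z : GolayPt → ℤ) : dotInt x (-z) = -dotInt x z := by
  simp only [dotInt, Pi.neg_apply, mul_neg, Finset.sum_neg_distrib]

theorem dotInt_add_right (x y z : GolayPt → ℤ) : dotInt x (y + z) = dotInt x y + dotInt x z := by
  simp only [dotInt, Pi.add_apply, mul_add, Finset.sum_add_distrib]

/-- the second reference vector of norm 48 as a lattice vector -/
def w1' : leechLattice := ⟨vecOf w1L, w1L_mem⟩

theorem w1L_norm : sqNorm (vecOf w1L) = 48 := by rw [sqNorm_vecOf]; exact hmRefs_ok.2.2.2.2.2.1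

theorem u0_w1_dot : dotInt (vecOf u0L) (vecOf w1L) = -32 := by
  rw [dotInt_vecOf]; exact hmRefs_ok.2.2.2.2.2.2.1

theorem w1_v0_dot : dotInt (vecOf w1L) (vecOf v0L) = -24 := by
  rw [dotInt_vecOf]; exact hmRefs_ok.2.2.2.2.2.2.2.2.2

/-- every pair of vectors of norm 48 with inner product `-32` is conjugate to the reference pair -/
theorem exists_to_u0w1 (v w : leechLattice) (hv : sqNorm (v : GolayPt → ℤ) = 48)
    (hw : sqNorm (w : GolayPt → ℤ) = 48) (hd : dotInt (v : GolayPt → ℤ) (w : GolayPt → ℤ) = -32) :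
    ∃ g : Co0, g.1 v = u0 ∧ g.1 w = w1' := by
  obtain ⟨g0, hg0⟩ := exists_to_u0 v hv
  have hn2 : sqNorm ((g0.1 w : leechLattice) : GolayPt → ℤ) = 48 := by rw [co0_norm]; exact hw
  have hd2 : dotInt (u0 : GolayPt → ℤ) ((g0.1 w : leechLattice) : GolayPt → ℤ) = -32 := by
    rw [← hg0, co0_dot]; exact hd
  have key : ∀ z : leechLattice, sqNorm (z : GolayPt → ℤ) = 48 →
      dotInt (u0 : GolayPt → ℤ) (z : GolayPt → ℤ) = -32 →
      sqNorm ((-(u0 + z) : leechLattice) : GolayPt → ℤ) = 32 ∧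
      dotInt (u0 : GolayPt → ℤ) ((-(u0 + z) : leechLattice) : GolayPt → ℤ) = -16 := by
    intro z hz hdz
    have e : ((-(u0 + z) : leechLattice) : GolayPt → ℤ) = -((u0 : GolayPt → ℤ) + (z : GolayPt → ℤ)) := rfl
    rw [e, sqNorm_neg, sqNorm_add, dotInt_neg_right, dotInt_add_right, dot_self, hdz, hz]
    have : sqNorm (u0 : GolayPt → ℤ) = 48 := u0L_norm
    rw [this]
    constructor <;> norm_num
  obtain ⟨ha1, ha2⟩ := key (g0.1 w) hn2 hd2
  obtain ⟨hb1, hb2⟩ := key w1' w1L_norm u0_w1_dot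
  obtain ⟨h, hf, hm⟩ := co3_transitive_11178 u0 _ _ u0L_norm ha1 hb1 ha2 hb2
  have hf' : h.1 u0 = u0 := hf
  have hm' : h.1 (-(u0 + g0.1 w)) = -(u0 + w1') := hm
  rw [co0_neg, co0_add, hf', neg_inj] at hm'
  refine ⟨h * g0, ?_, ?_⟩
  · show h.1 (g0.1 v) = u0
    rw [hg0]; exact hf'
  · show h.1 (g0.1 w) = w1'
    exact add_left_cancel hm'

/-- the 100 minimal vectors attached to the reference pair -/
def hsSet : Set (GolayPt → ℤ) := {y | y ∈ co3Set 24 ∧ dotInt (vecOf w1L) y = -24}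

theorem hsSet_ncard : hsSet.ncard = 100 := by
  rw [hsSet, ncard_co3Set_24 (fun y => dotInt (vecOf w1L) y = -24) (fun x => dotL w1L x == -24)
    (fun x => by rw [beq_iff_eq, dotInt_vecOf]), L552_counts.2.2.2.1]

theorem hsSet_inv : ∀ a b, Reach [u0L, w1L] a b → vecOf a ∈ hsSet → vecOf b ∈ hsSet := by
  rintro a b h ⟨⟨ha, han, had⟩, hav⟩
  obtain ⟨hb, hbn⟩ := reach_mem h ha
  refine ⟨⟨hb, hbn.trans han, (reach_dot h ha u0L List.mem_cons_self u0L_mem).trans had⟩, ?_⟩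
  exact (reach_dot h ha w1L (List.mem_cons_of_mem _ List.mem_cons_self) w1L_mem).trans hav

def hs100Root : List ℤ := [4, 0, 0, 0, 0, 0, 0, 0, 0, 0, 0, 0, 0, 0, 0, 0, 0, 0, 0, 0, 0, 0, 0, 4]

def hs100Cert : List ℕ := [5881899134665810188412474975392020, 1578519181355171111054180495629758483, 42536271956720214409454593368799838211, 45194725659937412612332324893240590609, 15578331541446454013493497010585650, 45443632648343003370753755063636726064, 0]

theorem hs100Root_ok : inLeechL hs100Root = true ∧ normL hs100Root = 32 ∧ dotL u0L hs100Root = 24 ∧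
    dotL w1L hs100Root = -24 := by decide +kernel

theorem hs100Root_mem : vecOf hs100Root ∈ hsSet :=
  ⟨root_mem_co3Set _ _ ⟨hs100Root_ok.1, hs100Root_ok.2.1, hs100Root_ok.2.2.1⟩,
    (dotInt_vecOf _ _).trans hs100Root_ok.2.2.2⟩

set_option maxRecDepth 1000000 in
set_option maxHeartbeats 4000000 in
theorem hs100_ok : checkOrbitF hsGens hs100Root hs100Cert 100 = true := by decide +kernel

/-- transitivity of the stabiliser of the reference pair on the 100 vectors -/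
theorem hs_transitive_ref (x x' : leechLattice) (hx : (x : GolayPt → ℤ) ∈ hsSet)
    (hx' : (x' : GolayPt → ℤ) ∈ hsSet) : ∃ g : Co0, g.1 u0 = u0 ∧ g.1 w1' = w1' ∧ g.1 x = x' := by
  obtain ⟨g, hf, hg⟩ := stab_transitive_gen hmPerms_rep [u0L, w1L] hsGens hsGens_ok hs100Root hs100Cert 100
    hsSet hsSet_ncard hs100Root_mem (fun x hx => hx.1.1) hsSet_inv (checkOrbit_of_F hs100_ok) x x' hx hx'
  exact ⟨g, hf u0L List.mem_cons_self u0L_mem,
    hf w1L (List.mem_cons_of_mem _ List.mem_cons_self) w1L_mem, hg⟩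

theorem mem_hsSet_of (g : Co0) (v w x : leechLattice) (hgv : g.1 v = u0) (hgw : g.1 w = w1')
    (hx : sqNorm (x : GolayPt → ℤ) = 32) (h1 : dotInt (v : GolayPt → ℤ) (x : GolayPt → ℤ) = 24)
    (h2 : dotInt (w : GolayPt → ℤ) (x : GolayPt → ℤ) = -24) :
    ((g.1 x : leechLattice) : GolayPt → ℤ) ∈ hsSet := by
  refine ⟨⟨(g.1 x).2, ?_, ?_⟩, ?_⟩
  · rw [co0_norm]; exact hx
  · have := co0_dot g v x
    rw [hgv] at this
    exact this.trans h1
  · have := co0_dot g w x
    rw [hgw] at this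
    exact this.trans h2

theorem of_mem_hsSet (g : Co0) (v w x : leechLattice) (hgv : g.1 v = u0) (hgw : g.1 w = w1')
    (h : ((g.1 x : leechLattice) : GolayPt → ℤ) ∈ hsSet) :
    sqNorm (x : GolayPt → ℤ) = 32 ∧ dotInt (v : GolayPt → ℤ) (x : GolayPt → ℤ) = 24 ∧
      dotInt (w : GolayPt → ℤ) (x : GolayPt → ℤ) = -24 := by
  obtain ⟨⟨_, h1, h2⟩, h3⟩ := h
  refine ⟨?_, ?_, ?_⟩
  · rw [← co0_norm g]; exact h1
  · rw [← co0_dot g, hgv]; exact h2
  · rw [← co0_dot g, hgw]; exact h3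

/-- **The 100 vectors attached to a pair, and the transitivity of the stabiliser of the pair.** -/
theorem hs_main (v w : leechLattice) (hv : sqNorm (v : GolayPt → ℤ) = 48)
    (hw : sqNorm (w : GolayPt → ℤ) = 48) (hd : dotInt (v : GolayPt → ℤ) (w : GolayPt → ℤ) = -32) :
    {x : leechLattice | sqNorm (x : GolayPt → ℤ) = 32 ∧ dotInt (v : GolayPt → ℤ) (x : GolayPt → ℤ) = 24 ∧
      dotInt (w : GolayPt → ℤ) (x : GolayPt → ℤ) = -24}.ncard = 100 ∧
    ∀ x x' : leechLattice, (sqNorm (x : GolayPt → ℤ) = 32 ∧ dotInt (v : GolayPt → ℤ) (x : GolayPt → ℤ) = 24 ∧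
      dotInt (w : GolayPt → ℤ) (x : GolayPt → ℤ) = -24) →
      (sqNorm (x' : GolayPt → ℤ) = 32 ∧ dotInt (v : GolayPt → ℤ) (x' : GolayPt → ℤ) = 24 ∧
      dotInt (w : GolayPt → ℤ) (x' : GolayPt → ℤ) = -24) →
      ∃ g : Co0, g • v = v ∧ g • w = w ∧ g • x = x' := by
  obtain ⟨g0, hgv, hgw⟩ := exists_to_u0w1 v w hv hw hd
  refine ⟨?_, ?_⟩
  · rw [ncard_transport g0 _ (fun y => (y : GolayPt → ℤ) ∈ hsSet)]
    · rw [ncard_subtype_eq (fun y => y ∈ hsSet), ← hsSet_ncard]
      congr 1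
      ext y
      exact ⟨fun h => h.2, fun h => ⟨h.1.1, h⟩⟩
    · intro x
      constructor
      · rintro ⟨h1, h2, h3⟩
        exact mem_hsSet_of g0 v w x hgv hgw h1 h2 h3
      · intro h
        exact of_mem_hsSet g0 v w x hgv hgw h
  · rintro x x' ⟨h1, h2, h3⟩ ⟨h1', h2', h3'⟩
    obtain ⟨h, hfu, hfw, hm⟩ := hs_transitive_ref (g0.1 x) (g0.1 x')
      (mem_hsSet_of g0 v w x hgv hgw h1 h2 h3) (mem_hsSet_of g0 v w x' hgv hgw h1' h2' h3')
    refine ⟨g0⁻¹ * h * g0, conj_back g0 h v v ?_, conj_back g0 h w w ?_, conj_back g0 h x x' hm⟩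
    · rw [hgv]; exact hfu
    · rw [hgw]; exact hfw

/-! ### An element swapping the two vectors -/

/-- a monomial element swapping the reference pair -/
def hsSwap : List Prim := [.perm hmS, .sign 16777215]

set_option maxRecDepth 100000 in
theorem hsSwap_ok : hsSwap.all (Prim.check hmPerms) = true ∧ actW hsSwap u0L = w1L ∧
    actW hsSwap w1L = u0L := by decide +kernel

/-- **An automorphism swapping two vectors of norm 48 with inner product `-32`.** -/
theorem hs_swap (v w : leechLattice) (hv : sqNorm (v : GolayPt → ℤ) = 48)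
    (hw : sqNorm (w : GolayPt → ℤ) = 48) (hd : dotInt (v : GolayPt → ℤ) (w : GolayPt → ℤ) = -32) :
    ∃ g : Co0, g • v = w ∧ g • w = v := by
  obtain ⟨g0, hgv, hgw⟩ := exists_to_u0w1 v w hv hw hd
  obtain ⟨hc, e1, e2⟩ := hsSwap_ok
  rw [List.all_eq_true] at hc
  obtain ⟨gS, hS⟩ := actW_sound hsSwap (fun p hp => Prim.valid_of_check hmPerms_rep p (hc p hp))
  have s1 : gS.1 u0 = w1' := by
    apply Subtype.ext
    rw [show (u0 : leechLattice) = ⟨vecOf u0L, u0L_mem⟩ from rfl, hS u0L u0L_mem, e1]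
    rfl
  have s2 : gS.1 w1' = u0 := by
    apply Subtype.ext
    rw [show (w1' : leechLattice) = ⟨vecOf w1L, w1L_mem⟩ from rfl, hS w1L w1L_mem, e2]
    rfl
  refine ⟨g0⁻¹ * gS * g0, conj_back g0 gS v w ?_, conj_back g0 gS w v ?_⟩
  · rw [hgv, hgw]; exact s1
  · rw [hgv, hgw]; exact s2

end Cfsg.Agent.Lib.Helper6.Leech
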