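import Cfsg.Agent.Lib.Helper6.LeechHS

/-!
# The suborbits of lengths 22 and 77 on the 100 vectors
-/

set_option autoImplicit false

namespace Cfsg.Agent.Lib.Helper6.Leech

open Cfsg
open Cfsg.Agent.Lib.Helper6.Golay
open Cfsg.Agent.Lib.Helper6.LeechCount

/-- the vectors of the 100-set with given inner product with the reference minimal vector -/
def hsSub (k : ℤ) : Set (GolayPt → ℤ) :=
  {y | y ∈ co3Set 24 ∧ (dotInt (vecOf w1L) y = -24 ∧ dotInt (vecOf v0L) y = k)}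

theorem hsSub_8_ncard : (hsSub 8).ncard = 22 := by
  rw [hsSub, ncard_co3Set_24 (fun y => dotInt (vecOf w1L) y = -24 ∧ dotInt (vecOf v0L) y = 8)
    (fun x => dotL w1L x == -24 && dotL v0L x == 8)
    (fun x => by rw [Bool.and_eq_true, beq_iff_eq, beq_iff_eq, dotInt_vecOf, dotInt_vecOf]),
    L552_counts.2.2.2.2.1]

theorem hsSub_16_ncard : (hsSub 16).ncard = 77 := by
  rw [hsSub, ncard_co3Set_24 (fun y => dotInt (vecOf w1L) y = -24 ∧ dotInt (vecOf v0L) y = 16)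
    (fun x => dotL w1L x == -24 && dotL v0L x == 16)
    (fun x => by rw [Bool.and_eq_true, beq_iff_eq, beq_iff_eq, dotInt_vecOf, dotInt_vecOf]),
    L552_counts.2.2.2.2.2.1]

theorem hsSub_inv (k : ℤ) : ∀ a b, Reach [u0L, w1L, v0L] a b → vecOf a ∈ hsSub k → vecOf b ∈ hsSub k := by
  rintro a b h ⟨⟨ha, han, had⟩, hav, hax⟩
  obtain ⟨hb, hbn⟩ := reach_mem h ha
  refine ⟨⟨hb, hbn.trans han, (reach_dot h ha u0L List.mem_cons_self u0L_mem).trans had⟩, ?_, ?_⟩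
  · exact (reach_dot h ha w1L (List.mem_cons_of_mem _ List.mem_cons_self) w1L_mem).trans hav
  · exact (reach_dot h ha v0L (List.mem_cons_of_mem _ (List.mem_cons_of_mem _ List.mem_cons_self))
      v0L_mem).trans hax

def m22aRoot : List ℤ := [1, -3, 1, 1, 1, 1, 1, 1, 1, 1, 1, 1, 1, 1, 1, 1, 1, 1, 1, 1, 1, 1, 1, 1]

def m22aCert : List ℕ := [15621258388925504097144034811777297, 807404050]

def m22bRoot : List ℤ := [2, 2, 0, 0, 0, 0, 0, 0, 0, 0, 0, 0, 0, 2, 0, 2, 0, 2, 2, 2, 0, 0, 0, 2]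

def m22bCert : List ℕ := [1579107366629998700779168826470248721, 1427885603075934133496534086898942464, 3988657711379200073579218690734305312, 1501222844102132986836926149067608832, 226990644647585753726979]

theorem m22Roots_ok : inLeechL m22aRoot = true ∧ normL m22aRoot = 32 ∧ dotL u0L m22aRoot = 24 ∧
    dotL w1L m22aRoot = -24 ∧ dotL v0L m22aRoot = 8 ∧ inLeechL m22bRoot = true ∧ normL m22bRoot = 32 ∧
    dotL u0L m22bRoot = 24 ∧ dotL w1L m22bRoot = -24 ∧ dotL v0L m22bRoot = 16 := by decide +kernel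

theorem m22aRoot_mem : vecOf m22aRoot ∈ hsSub 8 :=
  ⟨root_mem_co3Set _ _ ⟨m22Roots_ok.1, m22Roots_ok.2.1, m22Roots_ok.2.2.1⟩,
    (dotInt_vecOf _ _).trans m22Roots_ok.2.2.2.1, (dotInt_vecOf _ _).trans m22Roots_ok.2.2.2.2.1⟩

theorem m22bRoot_mem : vecOf m22bRoot ∈ hsSub 16 :=
  ⟨root_mem_co3Set _ _ ⟨m22Roots_ok.2.2.2.2.2.1, m22Roots_ok.2.2.2.2.2.2.1, m22Roots_ok.2.2.2.2.2.2.2.1⟩,
    (dotInt_vecOf _ _).trans m22Roots_ok.2.2.2.2.2.2.2.2.1, (dotInt_vecOf _ _).trans m22Roots_ok.2.2.2.2.2.2.2.2.2⟩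

set_option maxRecDepth 1000000 in
set_option maxHeartbeats 4000000 in
theorem m22a_ok : checkOrbitF m22Gens m22aRoot m22aCert 22 = true := by decide +kernel

set_option maxRecDepth 1000000 in
set_option maxHeartbeats 4000000 in
theorem m22b_ok : checkOrbitF m22Gens m22bRoot m22bCert 77 = true := by decide +kernel

/-- transitivity of the stabiliser of the reference triple on the two suborbits -/
theorem m22_transitive_ref (k : ℤ) (hk : k = 8 ∨ k = 16) (y y' : leechLattice)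
    (hy : (y : GolayPt → ℤ) ∈ hsSub k) (hy' : (y' : GolayPt → ℤ) ∈ hsSub k) :
    ∃ g : Co0, g.1 u0 = u0 ∧ g.1 w1' = w1' ∧ g.1 v0' = v0' ∧ g.1 y = y' := by
  have key : ∃ g : Co0, (∀ r ∈ [u0L, w1L, v0L], ∀ hr : vecOf r ∈ leechLattice,
      g.1 ⟨vecOf r, hr⟩ = ⟨vecOf r, hr⟩) ∧ g.1 y = y' := by
    rcases hk with rfl | rfl
    · exact stab_transitive_gen hmPerms_rep [u0L, w1L, v0L] m22Gens m22Gens_ok m22aRoot m22aCert 22
        (hsSub 8) hsSub_8_ncard m22aRoot_mem (fun x hx => hx.1.1) (hsSub_inv 8) (checkOrbit_of_F m22a_ok)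
        y y' hy hy'
    · exact stab_transitive_gen hmPerms_rep [u0L, w1L, v0L] m22Gens m22Gens_ok m22bRoot m22bCert 77
        (hsSub 16) hsSub_16_ncard m22bRoot_mem (fun x hx => hx.1.1) (hsSub_inv 16)
        (checkOrbit_of_F m22b_ok) y y' hy hy'
  obtain ⟨g, hf, hg⟩ := key
  exact ⟨g, hf u0L List.mem_cons_self u0L_mem,
    hf w1L (List.mem_cons_of_mem _ List.mem_cons_self) w1L_mem,
    hf v0L (List.mem_cons_of_mem _ (List.mem_cons_of_mem _ List.mem_cons_self)) v0L_mem, hg⟩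

/-- the possible inner products with the reference minimal vector -/
theorem hsSet_dot_cases : ∀ y ∈ co3Set 24, dotInt (vecOf w1L) y = -24 →
    (dotInt (vecOf v0L) y = 8 ∨ dotInt (vecOf v0L) y = 16 ∨ dotInt (vecOf v0L) y = 32) := by
  refine forall_co3Set_24 (fun y => dotInt (vecOf w1L) y = -24 →
    (dotInt (vecOf v0L) y = 8 ∨ dotInt (vecOf v0L) y = 16 ∨ dotInt (vecOf v0L) y = 32))
    (fun x => !(dotL w1L x == -24) || (dotL v0L x == 8 || dotL v0L x == 16 || dotL v0L x == 32))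
    ?_ L552_counts.2.2.2.2.2.2.1
  intro x hx h16
  rw [dotInt_vecOf] at h16
  simp only [dotInt_vecOf]
  simp only [Bool.or_eq_true, Bool.not_eq_true', beq_iff_eq, beq_eq_false_iff_ne] at hx
  rcases hx with hx | hx
  · exact absurd h16 hx
  · rcases hx with (hx | hx) | hx
    · exact Or.inl hx
    · exact Or.inr (Or.inl hx)
    · exact Or.inr (Or.inr hx)

theorem v0'_mem_hsSet : (v0' : GolayPt → ℤ) ∈ hsSet :=
  ⟨⟨v0L_mem, v0L_norm, u0_v0_dot⟩, w1_v0_dot⟩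

/-- every triple of the given type is conjugate to the reference triple -/
theorem exists_to_ref3_hs (v w x : leechLattice) (hv : sqNorm (v : GolayPt → ℤ) = 48)
    (hw : sqNorm (w : GolayPt → ℤ) = 48) (hd : dotInt (v : GolayPt → ℤ) (w : GolayPt → ℤ) = -32)
    (hx : sqNorm (x : GolayPt → ℤ) = 32) (hvx : dotInt (v : GolayPt → ℤ) (x : GolayPt → ℤ) = 24)
    (hwx : dotInt (w : GolayPt → ℤ) (x : GolayPt → ℤ) = -24) :
    ∃ g : Co0, g.1 v = u0 ∧ g.1 w = w1' ∧ g.1 x = v0' := by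
  obtain ⟨g0, hgv, hgw⟩ := exists_to_u0w1 v w hv hw hd
  obtain ⟨h, hfu, hfw, hm⟩ := hs_transitive_ref (g0.1 x) v0'
    (mem_hsSet_of g0 v w x hgv hgw hx hvx hwx) v0'_mem_hsSet
  refine ⟨h * g0, ?_, ?_, ?_⟩
  · show h.1 (g0.1 v) = u0
    rw [hgv]; exact hfu
  · show h.1 (g0.1 w) = w1'
    rw [hgw]; exact hfw
  · exact hm

theorem mem_hsSub_of (g : Co0) (v w x y : leechLattice) (hgv : g.1 v = u0) (hgw : g.1 w = w1')
    (hgx : g.1 x = v0') (k : ℤ)
    (hy : sqNorm (y : GolayPt → ℤ) = 32) (h1 : dotInt (v : GolayPt → ℤ) (y : GolayPt → ℤ) = 24)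
    (h2 : dotInt (w : GolayPt → ℤ) (y : GolayPt → ℤ) = -24)
    (h3 : dotInt (x : GolayPt → ℤ) (y : GolayPt → ℤ) = k) :
    ((g.1 y : leechLattice) : GolayPt → ℤ) ∈ hsSub k := by
  obtain ⟨h, hv0⟩ := mem_hsSet_of g v w y hgv hgw hy h1 h2
  refine ⟨h, hv0, ?_⟩
  have := co0_dot g x y
  rw [hgx] at this
  exact this.trans h3

theorem of_mem_hsSub (g : Co0) (v w x y : leechLattice) (hgv : g.1 v = u0) (hgw : g.1 w = w1')
    (hgx : g.1 x = v0') (k : ℤ) (h : ((g.1 y : leechLattice) : GolayPt → ℤ) ∈ hsSub k) :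
    (sqNorm (y : GolayPt → ℤ) = 32 ∧ dotInt (v : GolayPt → ℤ) (y : GolayPt → ℤ) = 24 ∧
      dotInt (w : GolayPt → ℤ) (y : GolayPt → ℤ) = -24) ∧
      dotInt (x : GolayPt → ℤ) (y : GolayPt → ℤ) = k := by
  obtain ⟨⟨_, h1, h2⟩, h3, h4⟩ := h
  refine ⟨⟨?_, ?_, ?_⟩, ?_⟩
  · rw [← co0_norm g]; exact h1
  · rw [← co0_dot g, hgv]; exact h2
  · rw [← co0_dot g, hgw]; exact h3
  · rw [← co0_dot g, hgx]; exact h4

/-- **The suborbits of the stabiliser of a triple on the 100 vectors.** -/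
theorem hs2_main (v w x : leechLattice) (hv : sqNorm (v : GolayPt → ℤ) = 48)
    (hw : sqNorm (w : GolayPt → ℤ) = 48) (hd : dotInt (v : GolayPt → ℤ) (w : GolayPt → ℤ) = -32)
    (hx : sqNorm (x : GolayPt → ℤ) = 32) (hvx : dotInt (v : GolayPt → ℤ) (x : GolayPt → ℤ) = 24)
    (hwx : dotInt (w : GolayPt → ℤ) (x : GolayPt → ℤ) = -24) :
    {y : leechLattice | (sqNorm (y : GolayPt → ℤ) = 32 ∧ dotInt (v : GolayPt → ℤ) (y : GolayPt → ℤ) = 24 ∧
      dotInt (w : GolayPt → ℤ) (y : GolayPt → ℤ) = -24) ∧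
      dotInt (x : GolayPt → ℤ) (y : GolayPt → ℤ) = 8}.ncard = 22 ∧
    {y : leechLattice | (sqNorm (y : GolayPt → ℤ) = 32 ∧ dotInt (v : GolayPt → ℤ) (y : GolayPt → ℤ) = 24 ∧
      dotInt (w : GolayPt → ℤ) (y : GolayPt → ℤ) = -24) ∧ y ≠ x ∧
      dotInt (x : GolayPt → ℤ) (y : GolayPt → ℤ) ≠ 8}.ncard = 77 ∧
    ∀ y y' : leechLattice, (sqNorm (y : GolayPt → ℤ) = 32 ∧ dotInt (v : GolayPt → ℤ) (y : GolayPt → ℤ) = 24 ∧
      dotInt (w : GolayPt → ℤ) (y : GolayPt → ℤ) = -24) →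
      (sqNorm (y' : GolayPt → ℤ) = 32 ∧ dotInt (v : GolayPt → ℤ) (y' : GolayPt → ℤ) = 24 ∧
      dotInt (w : GolayPt → ℤ) (y' : GolayPt → ℤ) = -24) → y ≠ x → y' ≠ x →
      (dotInt (x : GolayPt → ℤ) (y : GolayPt → ℤ) = 8 ↔ dotInt (x : GolayPt → ℤ) (y' : GolayPt → ℤ) = 8) →
      ∃ g : Co0, g • v = v ∧ g • w = w ∧ g • x = x ∧ g • y = y' := by
  obtain ⟨g0, hgv, hgw, hgx⟩ := exists_to_ref3_hs v w x hv hw hd hx hvx hwx
  -- the possible inner products with `x`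
  have hcases : ∀ y : leechLattice, (sqNorm (y : GolayPt → ℤ) = 32 ∧
      dotInt (v : GolayPt → ℤ) (y : GolayPt → ℤ) = 24 ∧ dotInt (w : GolayPt → ℤ) (y : GolayPt → ℤ) = -24) →
      y ≠ x → dotInt (x : GolayPt → ℤ) (y : GolayPt → ℤ) = 8 ∨
        dotInt (x : GolayPt → ℤ) (y : GolayPt → ℤ) = 16 := by
    rintro y ⟨h1, h2, h3⟩ hyx
    have hm := mem_hsSub_of g0 v w x y hgv hgw hgx _ h1 h2 h3 rfl
    have hc := hsSet_dot_cases _ hm.1 hm.2.1
    have e : dotInt (vecOf v0L) ((g0.1 y : leechLattice) : GolayPt → ℤ) =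
        dotInt (x : GolayPt → ℤ) (y : GolayPt → ℤ) := hm.2.2
    rw [e] at hc
    rcases hc with hc | hc | hc
    · exact Or.inl hc
    · exact Or.inr hc
    · exfalso
      apply hyx
      have := eq_of_dot_32 hx h1 hc
      exact (Subtype.ext this).symm
  refine ⟨?_, ?_, ?_⟩
  · rw [ncard_transport g0 _ (fun y => (y : GolayPt → ℤ) ∈ hsSub 8)]
    · rw [ncard_subtype_eq (fun y => y ∈ hsSub 8), ← hsSub_8_ncard]
      congr 1
      ext y
      exact ⟨fun h => h.2, fun h => ⟨h.1.1, h⟩⟩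
    · intro y
      constructor
      · rintro ⟨⟨h1, h2, h3⟩, h4⟩
        exact mem_hsSub_of g0 v w x y hgv hgw hgx 8 h1 h2 h3 h4
      · intro h
        exact of_mem_hsSub g0 v w x y hgv hgw hgx 8 h
  · rw [ncard_transport g0 _ (fun y => (y : GolayPt → ℤ) ∈ hsSub 16)]
    · rw [ncard_subtype_eq (fun y => y ∈ hsSub 16), ← hsSub_16_ncard]
      congr 1
      ext y
      exact ⟨fun h => h.2, fun h => ⟨h.1.1, h⟩⟩
    · intro y
      constructor
      · rintro ⟨⟨h1, h2, h3⟩, hyx, h4⟩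
        rcases hcases y ⟨h1, h2, h3⟩ hyx with h | h
        · exact absurd h h4
        · exact mem_hsSub_of g0 v w x y hgv hgw hgx 16 h1 h2 h3 h
      · intro h
        obtain ⟨h1, h2⟩ := of_mem_hsSub g0 v w x y hgv hgw hgx 16 h
        refine ⟨h1, ?_, ?_⟩
        · rintro rfl
          rw [dot_self, hx] at h2
          norm_num at h2
        · rw [h2]; norm_num
  · rintro y y' hy hy' hyx hyx' hiff
    obtain ⟨h1, h2, h3⟩ := hy
    obtain ⟨h1', h2', h3'⟩ := hy'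
    have key : ∃ k : ℤ, (k = 8 ∨ k = 16) ∧ dotInt (x : GolayPt → ℤ) (y : GolayPt → ℤ) = k ∧
        dotInt (x : GolayPt → ℤ) (y' : GolayPt → ℤ) = k := by
      rcases hcases y ⟨h1, h2, h3⟩ hyx with h | h
      · exact ⟨8, Or.inl rfl, h, hiff.mp h⟩
      · rcases hcases y' ⟨h1', h2', h3'⟩ hyx' with h' | h'
        · have := hiff.mpr h'
          rw [h] at this
          norm_num at this
        · exact ⟨16, Or.inr rfl, h, h'⟩
    obtain ⟨k, hk, hky, hky'⟩ := key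
    have hm := mem_hsSub_of g0 v w x y hgv hgw hgx k h1 h2 h3 hky
    have hm' := mem_hsSub_of g0 v w x y' hgv hgw hgx k h1' h2' h3' hky'
    obtain ⟨h, hfu, hfw, hfx, hmm⟩ := m22_transitive_ref k hk (g0.1 y) (g0.1 y') hm hm'
    refine ⟨g0⁻¹ * h * g0, conj_back g0 h v v ?_, conj_back g0 h w w ?_, conj_back g0 h x x ?_,
      conj_back g0 h y y' hmm⟩
    · rw [hgv]; exact hfu
    · rw [hgw]; exact hfw
    · rw [hgx]; exact hfx

end Cfsg.Agent.Lib.Helper6.Leech
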