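import Cfsg.Agent.Lib.Helper6.LeechHS

/-!
# An involution in the stabiliser of a triangle of type 233 without fixed points on the 100 vectors
-/

set_option autoImplicit false

namespace Cfsg.Agent.Lib.Helper6.Leech

open Cfsg
open Cfsg.Agent.Lib.Helper6.Golay
open Cfsg.Agent.Lib.Helper6.LeechCount


def hsiProg : List (ℕ × ℕ) := [(0, 0), (1, 0), (0, 1), (2, 2), (1, 3), (0, 4), (2, 4), (2, 5), (0, 7), (0, 8), (0, 9), (2, 10), (0, 11), (0, 12), (0, 13), (1, 13), (0, 14), (1, 15), (1, 16), (0, 17), (0, 18), (1, 19), (2, 20), (2, 21), (2, 22), (0, 23), (0, 24), (0, 25), (2, 26), (2, 27), (1, 28), (2, 30), (0, 31), (0, 32), (2, 33), (1, 35), (1, 36), (2, 37), (0, 38), (1, 41), (3, 3), (3, 43), (43, 43), (45, 45), (44, 46), (6, 6), (5, 5), (42, 42), (50, 50), (42, 51), (51, 51), (52,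 53), (5, 0), (55, 2), (56, 0), (57, 0), (58, 0), (59, 2), (60, 0), (39, 39), (62, 62), (62, 63), (63, 63), (64, 65), (66, 40), (29, 29), (68, 68), (69, 69), (29, 70), (71, 34), (61, 2), (73, 2), (74, 0), (75, 2), (76, 0), (77, 2), (78, 2), (79, 47), (80, 47), (81, 47), (82, 47), (83, 48), (84, 48), (85, 48), (86, 47), (87, 48), (88, 47), (89, 49), (54, 54), (91, 91), (54, 92), (92, 92), (93, 94), (90, 90), (90, 96), (96, 96), (97, 98), (67, 72)]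

def hsiP0 : List ℕ := [0, 2, 16, 4, 11, 1, 15, 18, 12, 7, 14, 6, 3, 19, 22, 8, 17, 13, 20, 5, 10, 21, 9, 23]

def hsiP1 : List ℕ := [0, 10, 1, 6, 15, 16, 8, 22, 12, 13, 19, 3, 4, 9, 17, 11, 20, 18, 7, 21, 14, 5, 23, 2]

def hsiP2 : List ℕ := [16, 1, 13, 12, 22, 6, 8, 19, 3, 10, 14, 20, 15, 4, 21, 17, 0, 18, 5, 11, 9, 7, 2, 23]

def hsiP3 : List ℕ := [0, 2, 23, 11, 12, 21, 3, 18, 6, 13, 1, 15, 8, 9, 20, 4, 5, 14, 17, 10, 16, 19, 7, 22]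

def hsiIdx : List ℕ := [100, 95, 99, 54]

def hsiPerms : List (List ℕ) := [hsiP0, hsiP1, hsiP2, hsiP3]

def hsInv : List Prim := [.perm hsiP0, .xi, .perm hsiP1, .sign 4819776, .xi, .perm hsiP2, .sign 1466012, .xi', .perm hsiP3, .sign 11548936, .xi', .perm hsiP0, .xi, .perm hsiP1, .sign 4819776, .xi, .perm hsiP2, .sign 1466012, .xi', .perm hsiP3, .sign 11548936, .xi', .perm hsiP0, .xi, .perm hsiP1, .sign 4819776, .xi, .perm hsiP2, .sign 1466012, .xi', .perm hsiP3, .sign 11548936, .xi']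

set_option maxRecDepth 100000 in
theorem hsiPerms_eq : hsiPerms = hsiIdx.map (fun k => (slpPerms hsiProg).getD k idl) := by
  decide +kernel

theorem hsiPerms_rep : ∀ l ∈ hsiPerms, Rep M24 l := by
  intro l hl
  rw [hsiPerms_eq, List.mem_map] at hl
  obtain ⟨k, _, rfl⟩ := hl
  exact rep_slpPerms hsiProg k

/-- the list with `-8` at position `i` -/
def neg8L (i : ℕ) : List ℤ := (List.range 24).map (fun j => if j = i then -8 else 0)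

theorem vecOf_neg8L (p : GolayPt) : vecOf (neg8L (idx p)) = ((-(v8 p) : leechLattice) : GolayPt → ℤ) := by
  funext q
  have hq := idx_lt q
  have e : (neg8L (idx p)).getD (idx q) 0 = if idx q = idx p then -8 else 0 := by
    have hl : idx q < (neg8L (idx p)).length := by
      rw [neg8L, List.length_map, List.length_range]; exact hq
    rw [List.getD_eq_getElem _ _ hl]
    simp only [neg8L, List.getElem_map, List.getElem_range]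
  show (neg8L (idx p)).getD (idx q) 0 = -((v8 p : leechLattice) : GolayPt → ℤ) q
  rw [e, v8_apply]
  by_cases h : q = p
  · rw [if_pos (by rw [h]), if_pos h]
  · rw [if_neg (fun hh => h (by rw [← pt_idx q, ← pt_idx p, hh])), if_neg h]; norm_num


set_option maxRecDepth 1000000 in
theorem hsInv_ok1 : checkGens hsiPerms [u0L, w1L] [hsInv] = true := by decide +kernel

set_option maxRecDepth 1000000 in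
set_option maxHeartbeats 4000000 in
theorem hsInv_ok2a : (List.range 24).all (fun i => decide (i / 12 ≠ 0) ||
    (actW hsInv (actW hsInv (neg8L i)) == neg8L i)) = true := by decide +kernel

set_option maxRecDepth 1000000 in
set_option maxHeartbeats 4000000 in
theorem hsInv_ok2b : (List.range 24).all (fun i => decide (i / 12 ≠ 1) ||
    (actW hsInv (actW hsInv (neg8L i)) == neg8L i)) = true := by decide +kernel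

def hsFix0 : List (List ℤ) := [[4, 0, 0, 0, 0, 0, 0, 0, 0, 0, 0, 0, 0, 0, 0, 0, 0, 0, 0, 0, 0, 0, 0, 4],
  [2, 2, 0, 0, 0, 0, 0, 0, 0, 0, 0, 0, 0, 2, 0, 2, 0, 2, 2, 2, 0, 0, 0, 2],
  [2, 0, 0, 2, 0, 0, 0, 0, 0, 0, 0, 0, 0, 2, 2, 0, 2, 0, 0, 2, 0, 2, 0, 2],
  [2, 2, 2, 0, 2, 0, 0, 0, 0, 0, 0, 0, 0, 2, 0, 0, 2, 0, 0, 0, 0, 0, 2, 2],
  [2, 0, 2, 0, 0, 2, 0, 0, 0, 0, 0, 0, 0, 0, 0, 2, 2, 0, 2, 0, 0, 2, 0, 2],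
  [2, 2, 2, 2, 0, 2, 0, 0, 0, 0, 0, 0, 0, 0, 2, 0, 0, 2, 0, 0, 0, 0, 0, 2],
  [2, 0, 0, 0, 2, 2, 0, 0, 0, 0, 0, 0, 0, 0, 0, 0, 0, 2, 0, 2, 0, 2, 2, 2],
  [2, 0, 0, 0, 2, 0, 2, 0, 0, 0, 0, 0, 0, 2, 0, 2, 0, 0, 0, 0, 2, 2, 0, 2],
  [2, 2, 0, 0, 0, 2, 2, 0, 0, 0, 0, 0, 0, 0, 0, 0, 0, 0, 2, 0, 2, 0, 2, 2],
  [2, 0, 0, 0, 0, 0, 0, 2, 0, 0, 0, 0, 0, 0, 0, 2, 2, 0, 0, 2, 2, 0, 2, 2],
  [2, 0, 2, 0, 2, 0, 0, 2, 0, 0, 0, 0, 0, 0, 0, 0, 0, 2, 2, 0, 2, 0, 0, 2],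
  [2, 2, 2, 0, 0, 0, 2, 2, 0, 0, 0, 0, 0, 0, 0, 0, 0, 0, 0, 2, 0, 2, 0, 2],
  [2, 0, 0, 2, 2, 0, 2, 2, 0, 0, 0, 0, 0, 0, 2, 0, 0, 0, 0, 0, 0, 0, 2, 2],
  [2, 0, 0, 0, 0, 2, 2, 2, 0, 0, 0, 0, 0, 2, 0, 0, 2, 2, 0, 0, 0, 0, 0, 2],
  [2, 2, 0, 0, 0, 0, 0, 0, 2, 0, 0, 0, 0, 0, 0, 0, 2, 2, 0, 0, 2, 2, 0, 2],
  [2, 0, 0, 2, 0, 0, 0, 0, 2, 0, 0, 0, 0, 0, 2, 2, 0, 0, 2, 0, 2, 0, 0, 2],
  [2, 0, 2, 0, 0, 2, 0, 0, 2, 0, 0, 0, 0, 2, 0, 0, 0, 0, 0, 2, 2, 0, 0, 2],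
  [2, 0, 2, 0, 0, 0, 2, 0, 2, 0, 0, 0, 0, 0, 0, 2, 0, 2, 0, 0, 0, 0, 2, 2],
  [2, 0, 0, 0, 2, 0, 2, 0, 2, 0, 0, 0, 0, 0, 0, 0, 2, 0, 2, 2, 0, 0, 0, 2],
  [2, 0, 0, 0, 0, 0, 0, 2, 2, 0, 0, 0, 0, 2, 0, 0, 0, 0, 2, 0, 0, 2, 2, 2],
  [2, 2, 0, 0, 2, 2, 0, 2, 2, 0, 0, 0, 0, 0, 0, 2, 0, 0, 0, 0, 0, 0, 0, 2],
  [2, 0, 0, 2, 0, 0, 0, 0, 0, 2, 0, 0, 0, 2, 0, 0, 0, 2, 0, 0, 2, 0, 2, 2],
  [2, 0, 0, 0, 2, 2, 0, 0, 0, 2, 0, 0, 0, 0, 2, 0, 2, 0, 0, 0, 2, 0, 0, 2],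
  [2, 0, 2, 0, 0, 0, 2, 0, 0, 2, 0, 0, 0, 2, 2, 0, 0, 0, 2, 0, 0, 0, 0, 2],
  [2, 0, 0, 2, 0, 2, 2, 0, 0, 2, 0, 0, 0, 0, 0, 2, 0, 0, 0, 2, 0, 0, 0, 2]]

def hsFix1 : List (List ℤ) := [[2, 0, 0, 0, 0, 0, 0, 2, 0, 2, 0, 0, 0, 0, 2, 2, 0, 2, 0, 0, 0, 2, 0, 2],
  [2, 2, 0, 2, 0, 0, 0, 2, 0, 2, 0, 0, 0, 0, 0, 0, 2, 0, 2, 0, 0, 0, 0, 2],
  [2, 2, 0, 0, 0, 0, 0, 0, 2, 2, 0, 0, 0, 0, 2, 0, 0, 0, 0, 2, 0, 0, 2, 2],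
  [2, 0, 2, 2, 2, 0, 0, 0, 2, 2, 0, 0, 0, 0, 0, 0, 0, 0, 0, 0, 0, 2, 0, 2],
  [2, 0, 2, 2, 0, 0, 0, 0, 0, 0, 2, 0, 0, 0, 0, 0, 0, 0, 2, 2, 0, 0, 2, 2],
  [2, 2, 0, 0, 2, 0, 0, 0, 0, 0, 2, 0, 0, 0, 2, 0, 0, 0, 2, 0, 0, 2, 0, 2],
  [2, 0, 0, 2, 2, 0, 0, 0, 0, 0, 2, 0, 0, 0, 0, 2, 2, 2, 0, 0, 0, 0, 0, 2],
  [2, 0, 0, 0, 0, 2, 0, 0, 0, 0, 2, 0, 0, 2, 2, 2, 0, 0, 0, 0, 0, 0, 2, 2],
  [2, 0, 0, 0, 0, 0, 2, 0, 0, 0, 2, 0, 0, 0, 2, 0, 0, 2, 0, 2, 2, 0, 0, 2],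
  [2, 0, 0, 2, 0, 2, 0, 2, 0, 0, 2, 0, 0, 0, 0, 0, 0, 0, 0, 0, 2, 2, 0, 2],
  [2, 2, 0, 2, 0, 0, 2, 0, 2, 0, 2, 0, 0, 2, 0, 0, 0, 0, 0, 0, 0, 0, 0, 2],
  [2, 0, 2, 0, 0, 0, 0, 2, 2, 0, 2, 0, 0, 0, 2, 0, 2, 0, 0, 0, 0, 0, 0, 2],
  [2, 2, 2, 0, 0, 0, 0, 0, 0, 2, 2, 0, 0, 0, 0, 2, 0, 0, 0, 0, 2, 0, 0, 2],
  [2, 0, 0, 0, 0, 0, 2, 0, 0, 2, 2, 0, 0, 0, 0, 0, 2, 0, 0, 0, 0, 2, 2, 2],
  [2, 0, 0, 0, 2, 0, 0, 2, 0, 2, 2, 0, 0, 2, 0, 0, 0, 0, 0, 2, 0, 0, 0, 2],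
  [2, 0, 0, 0, 0, 2, 0, 0, 2, 2, 2, 0, 0, 0, 0, 0, 0, 2, 2, 0, 0, 0, 0, 2],
  [2, 0, 2, 0, 0, 0, 0, 0, 0, 0, 0, 2, 0, 0, 2, 0, 0, 0, 0, 0, 2, 2, 2, 2],
  [2, 2, 0, 2, 2, 0, 0, 0, 0, 0, 0, 2, 0, 0, 0, 0, 0, 0, 0, 2, 2, 0, 0, 2],
  [2, 2, 0, 0, 0, 0, 2, 0, 0, 0, 0, 2, 0, 0, 2, 2, 2, 0, 0, 0, 0, 0, 0, 2],
  [2, 0, 0, 2, 0, 0, 2, 0, 0, 0, 0, 2, 0, 0, 0, 0, 0, 2, 2, 0, 0, 2, 0, 2],
  [2, 0, 2, 2, 0, 0, 0, 2, 0, 0, 0, 2, 0, 2, 0, 2, 0, 0, 0, 0, 0, 0, 0, 2],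
  [2, 0, 0, 0, 0, 2, 0, 2, 0, 0, 0, 2, 0, 0, 2, 0, 0, 0, 2, 2, 0, 0, 0, 2],
  [2, 0, 0, 0, 2, 0, 0, 0, 2, 0, 0, 2, 0, 2, 2, 0, 0, 2, 0, 0, 0, 0, 0, 2],
  [2, 0, 0, 2, 0, 2, 0, 0, 2, 0, 0, 2, 0, 0, 0, 0, 2, 0, 0, 0, 0, 0, 2, 2],
  [2, 0, 2, 0, 0, 0, 0, 0, 0, 2, 0, 2, 0, 0, 0, 0, 2, 2, 0, 2, 0, 0, 0, 2]]

def hsFix2 : List (List ℤ) := [[2, 0, 0, 0, 2, 0, 0, 0, 0, 2, 0, 2, 0, 0, 0, 2, 0, 0, 2, 0, 0, 0, 2, 2],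
  [2, 2, 0, 0, 0, 2, 0, 0, 0, 2, 0, 2, 0, 2, 0, 0, 0, 0, 0, 0, 0, 2, 0, 2],
  [2, 0, 0, 0, 0, 0, 2, 2, 2, 2, 0, 2, 0, 0, 0, 0, 0, 0, 0, 0, 2, 0, 0, 2],
  [2, 0, 0, 0, 0, 0, 0, 0, 0, 0, 2, 2, 0, 2, 0, 0, 2, 0, 2, 0, 2, 0, 0, 2],
  [2, 0, 2, 0, 2, 2, 2, 0, 0, 0, 2, 2, 0, 0, 0, 0, 0, 0, 0, 0, 0, 0, 0, 2],
  [2, 2, 0, 0, 0, 0, 0, 2, 0, 0, 2, 2, 0, 0, 0, 0, 0, 2, 0, 0, 0, 0, 2, 2],
  [2, 0, 0, 0, 0, 0, 0, 0, 2, 0, 2, 2, 0, 0, 0, 2, 0, 0, 0, 2, 0, 2, 0, 2],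
  [2, 0, 0, 0, 0, 0, 0, 0, 0, 0, 0, 0, 2, 0, 2, 0, 2, 2, 2, 0, 0, 0, 2, 2],
  [2, 2, 0, 2, 0, 0, 0, 0, 0, 0, 0, 0, 2, 0, 0, 2, 0, 0, 0, 0, 0, 2, 2, 2],
  [2, 0, 2, 0, 2, 0, 0, 0, 0, 0, 0, 0, 2, 0, 2, 2, 0, 0, 0, 2, 0, 0, 0, 2],
  [2, 0, 0, 2, 2, 2, 0, 0, 0, 0, 0, 0, 2, 2, 0, 0, 0, 0, 2, 0, 0, 0, 0, 2],
  [2, 0, 2, 2, 0, 0, 2, 0, 0, 0, 0, 0, 2, 0, 0, 0, 2, 0, 0, 0, 2, 0, 0, 2],
  [2, 2, 0, 0, 0, 0, 0, 2, 0, 0, 0, 0, 2, 2, 2, 0, 0, 0, 0, 0, 2, 0, 0, 2],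
  [2, 0, 0, 0, 0, 2, 2, 0, 2, 0, 0, 0, 2, 0, 2, 0, 0, 0, 0, 0, 0, 2, 0, 2],
  [2, 0, 0, 2, 0, 0, 0, 2, 2, 0, 0, 0, 2, 0, 0, 0, 0, 2, 0, 2, 0, 0, 0, 2],
  [2, 0, 0, 0, 0, 0, 0, 0, 0, 2, 0, 0, 2, 0, 0, 0, 0, 0, 2, 2, 2, 2, 0, 2],
  [2, 2, 0, 0, 2, 0, 2, 0, 0, 2, 0, 0, 2, 0, 0, 0, 0, 2, 0, 0, 0, 0, 0, 2],
  [2, 0, 2, 0, 0, 2, 0, 2, 0, 2, 0, 0, 2, 0, 0, 0, 0, 0, 0, 0, 0, 0, 2, 2],
  [2, 0, 0, 0, 0, 0, 0, 0, 2, 2, 0, 0, 2, 2, 0, 2, 2, 0, 0, 0, 0, 0, 0, 2],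
  [2, 0, 2, 0, 0, 0, 0, 0, 0, 0, 2, 0, 2, 2, 0, 0, 0, 2, 0, 0, 0, 2, 0, 2],
  [2, 2, 0, 0, 0, 2, 0, 0, 0, 0, 2, 0, 2, 0, 0, 0, 2, 0, 0, 2, 0, 0, 0, 2],
  [2, 0, 0, 0, 0, 0, 2, 2, 0, 0, 2, 0, 2, 0, 0, 2, 0, 0, 2, 0, 0, 0, 0, 2],
  [2, 0, 0, 0, 2, 0, 0, 0, 2, 0, 2, 0, 2, 0, 0, 0, 0, 0, 0, 0, 2, 0, 2, 2],
  [2, 0, 0, 0, 0, 2, 0, 0, 0, 0, 0, 2, 2, 0, 0, 2, 0, 2, 0, 0, 2, 0, 0, 2],
  [2, 0, 0, 0, 0, 0, 2, 0, 0, 0, 0, 2, 2, 2, 0, 0, 0, 0, 0, 2, 0, 0, 2, 2]]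

def hsFix3 : List (List ℤ) := [[2, 0, 0, 0, 2, 0, 0, 2, 0, 0, 0, 2, 2, 0, 0, 0, 2, 0, 0, 0, 0, 2, 0, 2],
  [2, 2, 2, 0, 0, 0, 0, 0, 2, 0, 0, 2, 2, 0, 0, 0, 0, 0, 2, 0, 0, 0, 0, 2],
  [2, 0, 0, 2, 0, 0, 0, 0, 0, 2, 2, 2, 2, 0, 2, 0, 0, 0, 0, 0, 0, 0, 0, 2],
  [1, -3, 1, 1, 1, 1, 1, 1, 1, 1, 1, 1, 1, 1, 1, 1, 1, 1, 1, 1, 1, 1, 1, 1],
  [1, 1, -3, 1, 1, 1, 1, 1, 1, 1, 1, 1, 1, 1, 1, 1, 1, 1, 1, 1, 1, 1, 1, 1],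
  [1, 1, 1, -3, 1, 1, 1, 1, 1, 1, 1, 1, 1, 1, 1, 1, 1, 1, 1, 1, 1, 1, 1, 1],
  [1, 1, 1, 1, -3, 1, 1, 1, 1, 1, 1, 1, 1, 1, 1, 1, 1, 1, 1, 1, 1, 1, 1, 1],
  [1, 1, 1, 1, 1, -3, 1, 1, 1, 1, 1, 1, 1, 1, 1, 1, 1, 1, 1, 1, 1, 1, 1, 1],
  [1, 1, 1, 1, 1, 1, -3, 1, 1, 1, 1, 1, 1, 1, 1, 1, 1, 1, 1, 1, 1, 1, 1, 1],
  [1, 1, 1, 1, 1, 1, 1, -3, 1, 1, 1, 1, 1, 1, 1, 1, 1, 1, 1, 1, 1, 1, 1, 1],
  [1, 1, 1, 1, 1, 1, 1, 1, -3, 1, 1, 1, 1, 1, 1, 1, 1, 1, 1, 1, 1, 1, 1, 1],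
  [1, 1, 1, 1, 1, 1, 1, 1, 1, -3, 1, 1, 1, 1, 1, 1, 1, 1, 1, 1, 1, 1, 1, 1],
  [1, 1, 1, 1, 1, 1, 1, 1, 1, 1, -3, 1, 1, 1, 1, 1, 1, 1, 1, 1, 1, 1, 1, 1],
  [1, 1, 1, 1, 1, 1, 1, 1, 1, 1, 1, -3, 1, 1, 1, 1, 1, 1, 1, 1, 1, 1, 1, 1],
  [1, 1, 1, 1, 1, 1, 1, 1, 1, 1, 1, 1, -3, 1, 1, 1, 1, 1, 1, 1, 1, 1, 1, 1],
  [1, 1, 1, 1, 1, 1, 1, 1, 1, 1, 1, 1, 1, -3, 1, 1, 1, 1, 1, 1, 1, 1, 1, 1],
  [1, 1, 1, 1, 1, 1, 1, 1, 1, 1, 1, 1, 1, 1, -3, 1, 1, 1, 1, 1, 1, 1, 1, 1],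
  [1, 1, 1, 1, 1, 1, 1, 1, 1, 1, 1, 1, 1, 1, 1, -3, 1, 1, 1, 1, 1, 1, 1, 1],
  [1, 1, 1, 1, 1, 1, 1, 1, 1, 1, 1, 1, 1, 1, 1, 1, -3, 1, 1, 1, 1, 1, 1, 1],
  [1, 1, 1, 1, 1, 1, 1, 1, 1, 1, 1, 1, 1, 1, 1, 1, 1, -3, 1, 1, 1, 1, 1, 1],
  [1, 1, 1, 1, 1, 1, 1, 1, 1, 1, 1, 1, 1, 1, 1, 1, 1, 1, -3, 1, 1, 1, 1, 1],
  [1, 1, 1, 1, 1, 1, 1, 1, 1, 1, 1, 1, 1, 1, 1, 1, 1, 1, 1, -3, 1, 1, 1, 1],
  [1, 1, 1, 1, 1, 1, 1, 1, 1, 1, 1, 1, 1, 1, 1, 1, 1, 1, 1, 1, -3, 1, 1, 1],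
  [1, 1, 1, 1, 1, 1, 1, 1, 1, 1, 1, 1, 1, 1, 1, 1, 1, 1, 1, 1, 1, -3, 1, 1],
  [1, 1, 1, 1, 1, 1, 1, 1, 1, 1, 1, 1, 1, 1, 1, 1, 1, 1, 1, 1, 1, 1, -3, 1]]

set_option maxRecDepth 1000000 in
set_option maxHeartbeats 4000000 in
theorem hsFix_complete : L552.all (fun x => !(dotL w1L x == -24) ||
    (hsFix0.contains x || hsFix1.contains x || hsFix2.contains x || hsFix3.contains x)) = true := by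
  decide +kernel

/-- the Boolean test that a listed vector is moved -/
def movedBy (w : List Prim) (x : List ℤ) : Bool := !(listOf (vecOf (actW w x)) == listOf (vecOf x))

set_option maxRecDepth 1000000 in
set_option maxHeartbeats 4000000 in
theorem hsFix0_ok : hsFix0.all (movedBy hsInv) = true := by decide +kernel

set_option maxRecDepth 1000000 in
set_option maxHeartbeats 4000000 in
theorem hsFix1_ok : hsFix1.all (movedBy hsInv) = true := by decide +kernel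

set_option maxRecDepth 1000000 in
set_option maxHeartbeats 4000000 in
theorem hsFix2_ok : hsFix2.all (movedBy hsInv) = true := by decide +kernel

set_option maxRecDepth 1000000 in
set_option maxHeartbeats 4000000 in
theorem hsFix3_ok : hsFix3.all (movedBy hsInv) = true := by decide +kernel

theorem co0_eq_one_of_v8 (g : Co0) (h : ∀ i, g.1 (v8 i) = v8 i) : g = 1 := by
  apply Subtype.ext
  apply Equiv.ext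
  intro v
  apply Subtype.ext
  funext i
  have hd := co0_dot g v (v8 i)
  rw [h i, dot_v8, dot_v8] at hd
  show ((g.1 v : leechLattice) : GolayPt → ℤ) i = (v : GolayPt → ℤ) i
  linarith

/-- an automorphism given by a word whose square fixes the vectors `-8 e_i` is an involution or trivial -/
theorem sq_eq_one_of_word (w : List Prim) (t : Co0)
    (ht : ∀ (x : List ℤ) (hx : vecOf x ∈ leechLattice),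
      ((t.1 ⟨vecOf x, hx⟩ : leechLattice) : GolayPt → ℤ) = vecOf (actW w x))
    (h2 : ∀ i < 24, actW w (actW w (neg8L i)) = neg8L i) : t * t = 1 := by
  apply co0_eq_one_of_v8
  intro p
  have hp := h2 (idx p) (idx_lt p)
  have hm : vecOf (neg8L (idx p)) ∈ leechLattice := by rw [vecOf_neg8L]; exact (-(v8 p)).2
  have e0 : (⟨vecOf (neg8L (idx p)), hm⟩ : leechLattice) = -(v8 p) := Subtype.ext (vecOf_neg8L p)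
  have hm1 : vecOf (actW w (neg8L (idx p))) ∈ leechLattice := by
    rw [← ht _ hm]; exact (t.1 _).2
  have e1 : t.1 ⟨vecOf (neg8L (idx p)), hm⟩ = ⟨vecOf (actW w (neg8L (idx p))), hm1⟩ :=
    Subtype.ext (ht _ hm)
  have e2 : t.1 ⟨vecOf (actW w (neg8L (idx p))), hm1⟩ = ⟨vecOf (neg8L (idx p)), hm⟩ := by
    apply Subtype.ext
    rw [ht _ hm1, hp]
  have e3 : (t * t).1 (-(v8 p)) = -(v8 p) := by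
    show t.1 (t.1 (-(v8 p))) = -(v8 p)
    rw [← e0, e1, e2]
  rw [co0_neg, neg_inj] at e3
  exact e3

/-- a listed vector that is moved by the word is moved by the automorphism -/
theorem moved_of_movedBy (w : List Prim) (t : Co0)
    (ht : ∀ (x : List ℤ) (hx : vecOf x ∈ leechLattice),
      ((t.1 ⟨vecOf x, hx⟩ : leechLattice) : GolayPt → ℤ) = vecOf (actW w x))
    (x : List ℤ) (hm : movedBy w x = true) (y : leechLattice) (hxy : vecOf x = (y : GolayPt → ℤ)) :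
    t.1 y ≠ y := by
  intro hfix
  rw [movedBy, Bool.not_eq_true', beq_eq_false_iff_ne] at hm
  apply hm
  have hxL : vecOf x ∈ leechLattice := by rw [hxy]; exact y.2
  have e : (⟨vecOf x, hxL⟩ : leechLattice) = y := Subtype.ext hxy
  have h4 := ht x hxL
  rw [e, hfix, ← hxy] at h4
  rw [← h4]

theorem hsInv_sq (i : ℕ) (hi : i < 24) : actW hsInv (actW hsInv (neg8L i)) = neg8L i := by
  have ha := hsInv_ok2a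
  have hb := hsInv_ok2b
  rw [List.all_eq_true] at ha hb
  have hia := ha i (List.mem_range.mpr hi)
  have hib := hb i (List.mem_range.mpr hi)
  rw [Bool.or_eq_true, decide_eq_true_iff, beq_iff_eq] at hia hib
  rcases hia with h | h
  · rcases hib with h' | h'
    · omega
    · exact h'
  · exact h

theorem hsFix_moved (x : List ℤ) (hx : x ∈ L552) (hq : dotL w1L x = -24) : movedBy hsInv x = true := by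
  have hc := hsFix_complete
  rw [List.all_eq_true] at hc
  have := hc x hx
  rw [Bool.or_eq_true, Bool.not_eq_true', beq_eq_false_iff_ne] at this
  rcases this with h | h
  · exact absurd hq h
  · simp only [Bool.or_eq_true, List.contains_iff_mem] at h
    rcases h with ((h | h) | h) | h
    · exact (List.all_eq_true.mp hsFix0_ok) x h
    · exact (List.all_eq_true.mp hsFix1_ok) x h
    · exact (List.all_eq_true.mp hsFix2_ok) x h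
    · exact (List.all_eq_true.mp hsFix3_ok) x h

/-- the involution of the stabiliser of the reference pair -/
theorem exists_hs_invol : ∃ t : Co0, t.1 u0 = u0 ∧ t.1 w1' = w1' ∧ t * t = 1 ∧
    ∀ y : leechLattice, (y : GolayPt → ℤ) ∈ hsSet → t.1 y ≠ y := by
  have hgw := goodWord_of_checkGens hsiPerms_rep hsInv_ok1 hsInv List.mem_cons_self
  obtain ⟨t, ht⟩ := actW_sound hsInv hgw.1
  refine ⟨t, ?_, ?_, sq_eq_one_of_word hsInv t ht hsInv_sq, ?_⟩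
  · apply Subtype.ext
    exact (ht u0L u0L_mem).trans (hgw.2 u0L List.mem_cons_self)
  · apply Subtype.ext
    exact (ht w1L w1L_mem).trans (hgw.2 w1L (List.mem_cons_of_mem _ List.mem_cons_self))
  · intro y hy
    obtain ⟨hy1, hy2⟩ := hy
    rw [L552_spec.2, List.mem_map] at hy1
    obtain ⟨x, hx, hxy⟩ := hy1
    refine moved_of_movedBy hsInv t ht x (hsFix_moved x hx ?_) y hxy
    rw [← dotInt_vecOf, hxy]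
    exact hy2

/-- **An involution in the stabiliser of a pair, without fixed points on the 100 vectors.** -/
theorem hs_invol (v w : leechLattice) (hv : sqNorm (v : GolayPt → ℤ) = 48)
    (hw : sqNorm (w : GolayPt → ℤ) = 48) (hd : dotInt (v : GolayPt → ℤ) (w : GolayPt → ℤ) = -32) :
    ∃ g : Co0, g • v = v ∧ g • w = w ∧ orderOf g = 2 ∧
      ∀ x : leechLattice, (sqNorm (x : GolayPt → ℤ) = 32 ∧ dotInt (v : GolayPt → ℤ) (x : GolayPt → ℤ) = 24 ∧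
        dotInt (w : GolayPt → ℤ) (x : GolayPt → ℤ) = -24) → g • x ≠ x := by
  obtain ⟨g0, hgv, hgw⟩ := exists_to_u0w1 v w hv hw hd
  obtain ⟨t, htu, htw, htt, hnf⟩ := exists_hs_invol
  have hsq : (g0⁻¹ * t * g0) * (g0⁻¹ * t * g0) = 1 := by
    have : (g0⁻¹ * t * g0) * (g0⁻¹ * t * g0) = g0⁻¹ * (t * t) * g0 := by group
    rw [this, htt]; group
  have hne : g0⁻¹ * t * g0 ≠ 1 := by
    intro h1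
    have ht1 : t = 1 := by
      have : t = g0 * (g0⁻¹ * t * g0) * g0⁻¹ := by group
      rw [this, h1]; group
    have hv0 : (v0' : GolayPt → ℤ) ∈ hsSet :=
      ⟨⟨v0L_mem, v0L_norm, u0_v0_dot⟩, w1_v0_dot⟩
    exact hnf v0' hv0 (by rw [ht1]; rfl)
  refine ⟨g0⁻¹ * t * g0, conj_back g0 t v v ?_, conj_back g0 t w w ?_, ?_, ?_⟩
  · rw [hgv]; exact htu
  · rw [hgw]; exact htw
  · haveI : Fact (Nat.Prime 2) := ⟨Nat.prime_two⟩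
    exact orderOf_eq_prime (by rw [pow_two]; exact hsq) hne
  · rintro x ⟨h1, h2, h3⟩ hfix
    have hm := mem_hsSet_of g0 v w x hgv hgw h1 h2 h3
    apply hnf (g0.1 x) hm
    have : (g0⁻¹ * t * g0) • x = x := hfix
    have h5 : g0⁻¹.1 (t.1 (g0.1 x)) = x := this
    have h6 : g0.1 (g0⁻¹.1 (t.1 (g0.1 x))) = g0.1 x := by rw [h5]
    have h7 : g0.1 (g0⁻¹.1 (t.1 (g0.1 x))) = t.1 (g0.1 x) := by
      show g0.1 (g0.1.symm (t.1 (g0.1 x))) = _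
      exact Equiv.apply_symm_apply _ _
    rw [h7] at h6
    exact h6

end Cfsg.Agent.Lib.Helper6.Leech
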