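import Cfsg.Agent.Lib.Helper6.LeechCount
import Cfsg.Agent.S0358
import Cfsg.Prelude.Def_Spor_Conway

/-!
# The index of the rank-24 lattice in the lattice of all integer vectors
-/

set_option autoImplicit false

namespace Cfsg.Agent.Lib.Helper6.Leech

open Cfsg
open Cfsg.Agent.Lib.Helper6.Golay

/-- `a ↦ 2a` from the integers modulo 2 to the integers modulo 4 -/
def dbl₁ : ZMod 2 →+ ZMod 4 where
  toFun a := if a = 0 then 0 else 2
  map_zero' := by decide
  map_add' := by decide

theorem dbl₁_injective : Function.Injective dbl₁ := by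
  intro a b; revert a b; decide

/-- coordinatewise doubling -/
def dbl : (GolayPt → ZMod 2) →+ (GolayPt → ZMod 4) := dbl₁.compLeft GolayPt

theorem dbl_injective : Function.Injective dbl := by
  intro v w h
  funext i
  exact dbl₁_injective (congrFun h i)

/-- reduction modulo 4 -/
def red4 : (GolayPt → ℤ) →+ (GolayPt → ZMod 4) := (Int.castAddHom (ZMod 4)).compLeft GolayPt

theorem red4_apply (x : GolayPt → ℤ) (i : GolayPt) : red4 x i = ((x i : ℤ) : ZMod 4) := rfl

theorem red4_surjective : Function.Surjective red4 := by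
  intro y
  refine ⟨fun i => ((y i).val : ℤ), ?_⟩
  funext i
  rw [red4_apply]
  simp

/-- twice the code, modulo 4 -/
def dblCode : AddSubgroup (GolayPt → ZMod 4) := (golayCode.toAddSubgroup).map dbl

/-- the even vectors whose pattern modulo 4 is a codeword -/
def evenPat : AddSubgroup (GolayPt → ℤ) := dblCode.comap red4

theorem card_dblCode : Nat.card dblCode = 4096 := by
  rw [dblCode, ← Nat.card_congr (AddSubgroup.equivMapOfInjective _ dbl dbl_injective).toEquiv]
  exact Cfsg.Agent.S0358.natCard_golayCode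

theorem index_dblCode : dblCode.index = 2 ^ 36 := by
  have h := AddSubgroup.card_mul_index dblCode
  rw [card_dblCode, Nat.card_eq_fintype_card, Fintype.card_fun, ZMod.card, card_golayPt] at h
  have : (4096 : ℕ) * dblCode.index = 4096 * 2 ^ 36 := by rw [h]; norm_num
  exact Nat.eq_of_mul_eq_mul_left (by norm_num) this

theorem index_evenPat : evenPat.index = 2 ^ 36 := by
  rw [evenPat, AddSubgroup.index_comap_of_surjective _ red4_surjective, index_dblCode]

theorem cast4_of_mod {v : ℤ} {k : ℤ} (h : v % 4 = k) : ((v : ℤ) : ZMod 4) = ((k : ℤ) : ZMod 4) := by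
  rw [← h]; exact (ZMod.intCast_mod v 4).symm

theorem zmod2_cases (a : ZMod 2) : a = 0 ∨ a = 1 := by revert a; decide

theorem mem_evenPat_iff {x : GolayPt → ℤ} :
    x ∈ evenPat ↔ ∃ c, IsC c ∧ ∀ i, x i % 4 = if i ∈ c then 2 else 0 := by
  rw [evenPat, AddSubgroup.mem_comap, dblCode, AddSubgroup.mem_map]
  constructor
  · rintro ⟨w, hw, h⟩
    refine ⟨support₂ w, ⟨w, hw, rfl⟩, fun i => ?_⟩
    have hi : dbl₁ (w i) = ((x i : ℤ) : ZMod 4) := congrFun h i
    have h4 : x i % 4 = 0 ∨ x i % 4 = 1 ∨ x i % 4 = 2 ∨ x i % 4 = 3 := by omega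
    have hmem : i ∈ support₂ w ↔ w i ≠ 0 := by simp [support₂]
    rcases zmod2_cases (w i) with h0 | h1
    · rw [if_neg (by rw [hmem, h0]; simp)]
      rw [h0] at hi
      rcases h4 with h | h | h | h
      · exact h
      · rw [cast4_of_mod h] at hi; exact absurd hi (by decide)
      · rw [cast4_of_mod h] at hi; exact absurd hi (by decide)
      · rw [cast4_of_mod h] at hi; exact absurd hi (by decide)
    · rw [if_pos (by rw [hmem, h1]; decide)]
      rw [h1] at hi
      rcases h4 with h | h | h | h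
      · rw [cast4_of_mod h] at hi; exact absurd hi (by decide)
      · rw [cast4_of_mod h] at hi; exact absurd hi (by decide)
      · exact h
      · rw [cast4_of_mod h] at hi; exact absurd hi (by decide)
  · rintro ⟨c, ⟨w, hw, rfl⟩, key⟩
    refine ⟨w, hw, ?_⟩
    funext i
    show dbl₁ (w i) = ((x i : ℤ) : ZMod 4)
    have hmem : i ∈ support₂ w ↔ w i ≠ 0 := by simp [support₂]
    have := key i
    rcases zmod2_cases (w i) with h0 | h1
    · rw [if_neg (by rw [hmem, h0]; simp)] at this
      rw [h0, cast4_of_mod this]; decide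
    · rw [if_pos (by rw [hmem, h1]; decide)] at this
      rw [h1, cast4_of_mod this]; decide

/-- the parity of the coordinate at infinity -/
def par : (GolayPt → ℤ) →+ ZMod 2 where
  toFun x := ((x none : ℤ) : ZMod 2)
  map_zero' := by simp
  map_add' := by intros; simp

/-- the sum of the coordinates modulo 8 -/
def sum8 : (GolayPt → ℤ) →+ ZMod 8 where
  toFun x := ((∑ i, x i : ℤ) : ZMod 8)
  map_zero' := by simp
  map_add' := by intros; simp [Finset.sum_add_distrib]

theorem par_eq_zero {x : GolayPt → ℤ} : par x = 0 ↔ x none % 2 = 0 := by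
  show ((x none : ℤ) : ZMod 2) = 0 ↔ _
  rw [ZMod.intCast_zmod_eq_zero_iff_dvd]
  constructor <;> intro h <;> omega

theorem sum8_eq_zero {x : GolayPt → ℤ} : sum8 x = 0 ↔ (∑ i, x i) % 8 = 0 := by
  show ((∑ i, x i : ℤ) : ZMod 8) = 0 ↔ _
  rw [ZMod.intCast_zmod_eq_zero_iff_dvd]
  constructor <;> intro h <;> omega

theorem leech_inf_par : leechSub ⊓ par.ker = evenPat ⊓ sum8.ker := by
  ext x
  rw [AddSubgroup.mem_inf, AddSubgroup.mem_inf, AddMonoidHom.mem_ker, AddMonoidHom.mem_ker,
    par_eq_zero, sum8_eq_zero, mem_evenPat_iff]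
  constructor
  · rintro ⟨hx, hp⟩
    obtain ⟨m, h1, h2, h3⟩ := mem_leechSet.mp hx
    have hm : m % 2 = 0 := by have := h1 none; omega
    refine ⟨⟨cls x 2, h3 2, fun i => ?_⟩, by omega⟩
    have := h1 i
    by_cases hi : i ∈ cls x 2
    · rw [if_pos hi]; have := mem_cls.mp hi; omega
    · rw [if_neg hi]
      have h4 : ¬ (x i % 4 = 2 % 4) := fun h => hi (mem_cls.mpr h)
      omega
  · rintro ⟨⟨c, hc, key⟩, hs⟩
    refine ⟨mem_leechSet.mpr ⟨0, fun i => ?_, by omega, isC_cls_of_key hc (by norm_num) key⟩, ?_⟩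
    · have := key i; split_ifs at this <;> omega
    · have := key none; split_ifs at this <;> omega

theorem card_map_par : Nat.card (leechSub.map par) = 2 := by
  have : leechSub.map par = ⊤ := by
    rw [AddSubgroup.eq_top_iff']
    intro y
    rcases zmod2_cases y with h | h
    · rw [h]; exact AddSubgroup.zero_mem _
    · rw [h]
      exact ⟨Spor.vecV, Spor.vecV_mem_leechSet, by decide⟩
  rw [this, AddSubgroup.card_top, Nat.card_eq_fintype_card, ZMod.card]

theorem four_dvd_sum_of_evenPat {x : GolayPt → ℤ} (hx : x ∈ evenPat) : (4 : ℤ) ∣ ∑ i, x i := by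
  obtain ⟨c, hc, key⟩ := mem_evenPat_iff.mp hx
  have hsplit : ∑ i, x i = ∑ i, (x i - (if i ∈ c then 2 else 0)) + ∑ i, (if i ∈ c then (2 : ℤ) else 0) := by
    rw [← Finset.sum_add_distrib]
    exact Finset.sum_congr rfl (fun i _ => by ring)
  rw [hsplit]
  apply dvd_add
  · apply Finset.dvd_sum
    intro i _
    have := key i
    split_ifs at this ⊢ <;> omega
  · rw [Finset.sum_ite_mem, Finset.univ_inter, Finset.sum_const, nsmul_eq_mul]
    obtain ⟨k, hk⟩ := hc.four_dvd
    rw [hk]; push_cast
    exact ⟨2 * k, by ring⟩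

theorem card_map_sum8 : Nat.card (evenPat.map sum8) = 2 := by
  have : ((evenPat.map sum8 : AddSubgroup (ZMod 8)) : Set (ZMod 8)) = {0, 4} := by
    ext y
    simp only [SetLike.mem_coe, AddSubgroup.mem_map, Set.mem_insert_iff, Set.mem_singleton_iff]
    constructor
    · rintro ⟨x, hx, rfl⟩
      have h4 := four_dvd_sum_of_evenPat hx
      show ((∑ i, x i : ℤ) : ZMod 8) = 0 ∨ ((∑ i, x i : ℤ) : ZMod 8) = 4
      rw [← ZMod.intCast_mod]
      have : (∑ i, x i) % ((8 : ℕ) : ℤ) = 0 ∨ (∑ i, x i) % ((8 : ℕ) : ℤ) = 4 := by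
        push_cast; omega
      rcases this with h | h
      · left; rw [h]; rfl
      · right; rw [h]; rfl
    · rintro (h | h)
      · exact ⟨0, AddSubgroup.zero_mem _, by rw [h, map_zero]⟩
      · refine ⟨fun i => if i = none then 4 else 0, mem_evenPat_iff.mpr ⟨∅, isC_empty, fun i => ?_⟩, ?_⟩
        · simp only [Finset.notMem_empty, if_false]
          split_ifs <;> norm_num
        · rw [h]
          show ((∑ i, (if i = none then (4 : ℤ) else 0) : ℤ) : ZMod 8) = 4
          rw [Finset.sum_ite_eq' Finset.univ none (fun _ => (4 : ℤ)), if_pos (Finset.mem_univ _)]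
          rfl
  rw [← SetLike.coe_sort_coe, this, Nat.card_coe_set_eq, Set.ncard_pair (by decide)]

/-- **The lattice has index `2 ^ 36`.** -/
theorem index_leechLattice : leechLattice.index = 2 ^ 36 := by
  rw [leechLattice_eq]
  have e1 : (leechSub ⊓ par.ker).relIndex leechSub = 2 := by
    rw [AddSubgroup.inf_relIndex_left, AddSubgroup.relIndex_ker, card_map_par]
  have e2 : (evenPat ⊓ sum8.ker).relIndex evenPat = 2 := by
    rw [AddSubgroup.inf_relIndex_left, AddSubgroup.relIndex_ker, card_map_sum8]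
  have h1 := AddSubgroup.relIndex_mul_index (inf_le_left : leechSub ⊓ par.ker ≤ leechSub)
  have h2 := AddSubgroup.relIndex_mul_index (inf_le_left : evenPat ⊓ sum8.ker ≤ evenPat)
  rw [e1] at h1
  rw [e2, index_evenPat, ← leech_inf_par] at h2
  omega

end Cfsg.Agent.Lib.Helper6.Leech
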