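import Cfsg.Agent.Lib.Helper6.LeechMcL

/-!
# The suborbits of lengths 112 and 162 on the 275 vectors
-/

set_option autoImplicit false

namespace Cfsg.Agent.Lib.Helper6.Leech

open Cfsg
open Cfsg.Agent.Lib.Helper6.Golay
open Cfsg.Agent.Lib.Helper6.LeechCount

/-- the vectors of the 275-set with given inner product with the third reference vector -/
def mclSub (k : ℤ) : Set (GolayPt → ℤ) :=
  {y | y ∈ co3Set 24 ∧ (dotInt (vecOf v0L) y = 16 ∧ dotInt (vecOf x1L) y = k)}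

theorem mclSub_8_ncard : (mclSub 8).ncard = 112 := by
  rw [mclSub, ncard_co3Set_24 (fun y => dotInt (vecOf v0L) y = 16 ∧ dotInt (vecOf x1L) y = 8)
    (fun x => dotL v0L x == 16 && dotL x1L x == 8)
    (fun x => by rw [Bool.and_eq_true, beq_iff_eq, beq_iff_eq, dotInt_vecOf, dotInt_vecOf]), L552_counts.2.1]

theorem mclSub_16_ncard : (mclSub 16).ncard = 162 := by
  rw [mclSub, ncard_co3Set_24 (fun y => dotInt (vecOf v0L) y = 16 ∧ dotInt (vecOf x1L) y = 16)
    (fun x => dotL v0L x == 16 && dotL x1L x == 16)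
    (fun x => by rw [Bool.and_eq_true, beq_iff_eq, beq_iff_eq, dotInt_vecOf, dotInt_vecOf]), L552_counts.2.2.1]

theorem mclSub_inv (k : ℤ) : ∀ a b, Reach [u0L, v0L, x1L] a b → vecOf a ∈ mclSub k → vecOf b ∈ mclSub k := by
  rintro a b h ⟨⟨ha, han, had⟩, hav, hax⟩
  obtain ⟨hb, hbn⟩ := reach_mem h ha
  refine ⟨⟨hb, hbn.trans han, (reach_dot h ha u0L List.mem_cons_self u0L_mem).trans had⟩, ?_, ?_⟩
  · exact (reach_dot h ha v0L (List.mem_cons_of_mem _ List.mem_cons_self) v0L_mem).trans hav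
  · exact (reach_dot h ha x1L (List.mem_cons_of_mem _ (List.mem_cons_of_mem _ List.mem_cons_self))
      x1L_mem).trans hax

def u43aRoot : List ℤ := [2, 0, 2, 0, 0, 2, 0, 0, 0, 0, 0, 0, 0, 0, 0, 2, 2, 0, 2, 0, 0, 2, 0, 2]

def u43aCert : List ℕ := [22763032127144940317300102510518800657, 23931661304359896049189042316573155840, 2824650061144101554885787336531116049, 2659126737196175954522862650577261056, 88634129967962856610486081136173056, 42535642092187576138608214173538066434, 41108532355858172894773250]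

def u43bRoot : List ℤ := [0, 4, 0, 0, 0, 0, 0, 0, 0, 0, 0, 0, 0, 0, 0, 0, 0, 0, 0, 0, 0, 0, 0, 4]

def u43bCert : List ℕ := [2751917335681199291741652034410058001, 42629406256221444872280640659079242272, 43957985368094062362527346502648594432, 45282368239546703729237737280915898401, 42535660949110503743856003434140532736, 649121944904617769173739693408258, 11055339341075979986769965536641314, 23926144578079527293155399285325435168, 2830166871276764955156774474200646145, 163739331451774401345751159296, 0]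

theorem u43Roots_ok : inLeechL u43aRoot = true ∧ normL u43aRoot = 32 ∧ dotL u0L u43aRoot = 24 ∧
    dotL v0L u43aRoot = 16 ∧ dotL x1L u43aRoot = 8 ∧ inLeechL u43bRoot = true ∧ normL u43bRoot = 32 ∧
    dotL u0L u43bRoot = 24 ∧ dotL v0L u43bRoot = 16 ∧ dotL x1L u43bRoot = 16 := by decide +kernel

theorem u43aRoot_mem : vecOf u43aRoot ∈ mclSub 8 :=
  ⟨root_mem_co3Set _ _ ⟨u43Roots_ok.1, u43Roots_ok.2.1, u43Roots_ok.2.2.1⟩,
    (dotInt_vecOf _ _).trans u43Roots_ok.2.2.2.1, (dotInt_vecOf _ _).trans u43Roots_ok.2.2.2.2.1⟩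

theorem u43bRoot_mem : vecOf u43bRoot ∈ mclSub 16 :=
  ⟨root_mem_co3Set _ _ ⟨u43Roots_ok.2.2.2.2.2.1, u43Roots_ok.2.2.2.2.2.2.1, u43Roots_ok.2.2.2.2.2.2.2.1⟩,
    (dotInt_vecOf _ _).trans u43Roots_ok.2.2.2.2.2.2.2.2.1, (dotInt_vecOf _ _).trans u43Roots_ok.2.2.2.2.2.2.2.2.2⟩

set_option maxRecDepth 1000000 in
set_option maxHeartbeats 4000000 in
theorem u43a_ok : checkOrbitF u43Gens u43aRoot u43aCert 112 = true := by decide +kernel

set_option maxRecDepth 1000000 in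
set_option maxHeartbeats 4000000 in
theorem u43b_ok : checkOrbitF u43Gens u43bRoot u43bCert 162 = true := by decide +kernel

/-- transitivity of the stabiliser of the reference triple on the two suborbits -/
theorem u43_transitive_ref (k : ℤ) (hk : k = 8 ∨ k = 16) (w w' : leechLattice)
    (hw : (w : GolayPt → ℤ) ∈ mclSub k) (hw' : (w' : GolayPt → ℤ) ∈ mclSub k) :
    ∃ g : Co0, g.1 u0 = u0 ∧ g.1 v0' = v0' ∧ g.1 x1' = x1' ∧ g.1 w = w' := by
  have key : ∃ g : Co0, (∀ r ∈ [u0L, v0L, x1L], ∀ hr : vecOf r ∈ leechLattice,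
      g.1 ⟨vecOf r, hr⟩ = ⟨vecOf r, hr⟩) ∧ g.1 w = w' := by
    rcases hk with rfl | rfl
    · exact stab_transitive_gen hmPerms_rep [u0L, v0L, x1L] u43Gens u43Gens_ok u43aRoot u43aCert 112
        (mclSub 8) mclSub_8_ncard u43aRoot_mem (fun x hx => hx.1.1) (mclSub_inv 8) (checkOrbit_of_F u43a_ok)
        w w' hw hw'
    · exact stab_transitive_gen hmPerms_rep [u0L, v0L, x1L] u43Gens u43Gens_ok u43bRoot u43bCert 162
        (mclSub 16) mclSub_16_ncard u43bRoot_mem (fun x hx => hx.1.1) (mclSub_inv 16)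
        (checkOrbit_of_F u43b_ok) w w' hw hw'
  obtain ⟨g, hf, hg⟩ := key
  exact ⟨g, hf u0L List.mem_cons_self u0L_mem,
    hf v0L (List.mem_cons_of_mem _ List.mem_cons_self) v0L_mem,
    hf x1L (List.mem_cons_of_mem _ (List.mem_cons_of_mem _ List.mem_cons_self)) x1L_mem, hg⟩

/-- the possible inner products with the third reference vector -/
theorem mclSet_dot_cases : ∀ y ∈ co3Set 24, dotInt (vecOf v0L) y = 16 →
    (dotInt (vecOf x1L) y = 8 ∨ dotInt (vecOf x1L) y = 16 ∨ dotInt (vecOf x1L) y = 32) := by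
  refine forall_co3Set_24 (fun y => dotInt (vecOf v0L) y = 16 →
    (dotInt (vecOf x1L) y = 8 ∨ dotInt (vecOf x1L) y = 16 ∨ dotInt (vecOf x1L) y = 32))
    (fun x => !(dotL v0L x == 16) || (dotL x1L x == 8 || dotL x1L x == 16 || dotL x1L x == 32))
    ?_ L552_counts.2.2.2.2.2.2.2
  intro x hx h16
  rw [dotInt_vecOf] at h16
  simp only [dotInt_vecOf]
  simp only [Bool.or_eq_true, Bool.not_eq_true', beq_iff_eq, beq_eq_false_iff_ne] at hx
  rcases hx with hx | hx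
  · exact absurd h16 hx
  · rcases hx with (hx | hx) | hx
    · exact Or.inl hx
    · exact Or.inr (Or.inl hx)
    · exact Or.inr (Or.inr hx)

theorem x1'_mem_mclSet : (x1' : GolayPt → ℤ) ∈ mclSet :=
  ⟨⟨x1L_mem, x1L_norm, u0_x1_dot⟩, v0_x1_dot⟩

/-- every triple of the given type is conjugate to the reference triple -/
theorem exists_to_ref3 (u v x : leechLattice) (hu : sqNorm (u : GolayPt → ℤ) = 48)
    (hv : sqNorm (v : GolayPt → ℤ) = 32) (hd : dotInt (u : GolayPt → ℤ) (v : GolayPt → ℤ) = 24)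
    (hx : sqNorm (x : GolayPt → ℤ) = 32) (hux : dotInt (u : GolayPt → ℤ) (x : GolayPt → ℤ) = 24)
    (hvx : dotInt (v : GolayPt → ℤ) (x : GolayPt → ℤ) = 16) :
    ∃ g : Co0, g.1 u = u0 ∧ g.1 v = v0' ∧ g.1 x = x1' := by
  obtain ⟨g0, hgu, hgv⟩ := exists_to_u0v0 u v hu hv hd
  obtain ⟨h, hfu, hfv, hm⟩ := mcl_transitive_ref (g0.1 x) x1'
    (mem_mclSet_of g0 u v x hgu hgv hx hux hvx) x1'_mem_mclSet
  refine ⟨h * g0, ?_, ?_, ?_⟩
  · show h.1 (g0.1 u) = u0
    rw [hgu]; exact hfu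
  · show h.1 (g0.1 v) = v0'
    rw [hgv]; exact hfv
  · exact hm

theorem mem_mclSub_of (g : Co0) (u v x y : leechLattice) (hgu : g.1 u = u0) (hgv : g.1 v = v0')
    (hgx : g.1 x = x1') (k : ℤ)
    (hy : sqNorm (y : GolayPt → ℤ) = 32) (h1 : dotInt (u : GolayPt → ℤ) (y : GolayPt → ℤ) = 24)
    (h2 : dotInt (v : GolayPt → ℤ) (y : GolayPt → ℤ) = 16)
    (h3 : dotInt (x : GolayPt → ℤ) (y : GolayPt → ℤ) = k) :
    ((g.1 y : leechLattice) : GolayPt → ℤ) ∈ mclSub k := by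
  obtain ⟨h, hv0⟩ := mem_mclSet_of g u v y hgu hgv hy h1 h2
  refine ⟨h, hv0, ?_⟩
  have := co0_dot g x y
  rw [hgx] at this
  exact this.trans h3

theorem of_mem_mclSub (g : Co0) (u v x y : leechLattice) (hgu : g.1 u = u0) (hgv : g.1 v = v0')
    (hgx : g.1 x = x1') (k : ℤ) (h : ((g.1 y : leechLattice) : GolayPt → ℤ) ∈ mclSub k) :
    (sqNorm (y : GolayPt → ℤ) = 32 ∧ dotInt (u : GolayPt → ℤ) (y : GolayPt → ℤ) = 24 ∧
      dotInt (v : GolayPt → ℤ) (y : GolayPt → ℤ) = 16) ∧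
      dotInt (x : GolayPt → ℤ) (y : GolayPt → ℤ) = k := by
  obtain ⟨⟨_, h1, h2⟩, h3, h4⟩ := h
  refine ⟨⟨?_, ?_, ?_⟩, ?_⟩
  · rw [← co0_norm g]; exact h1
  · rw [← co0_dot g, hgu]; exact h2
  · rw [← co0_dot g, hgv]; exact h3
  · rw [← co0_dot g, hgx]; exact h4

/-- **The suborbits of the stabiliser of a triple on the 275 vectors.** -/
theorem mcl2_main (u v x : leechLattice) (hu : sqNorm (u : GolayPt → ℤ) = 48)
    (hv : sqNorm (v : GolayPt → ℤ) = 32) (hd : dotInt (u : GolayPt → ℤ) (v : GolayPt → ℤ) = 24)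
    (hx : sqNorm (x : GolayPt → ℤ) = 32) (hux : dotInt (u : GolayPt → ℤ) (x : GolayPt → ℤ) = 24)
    (hvx : dotInt (v : GolayPt → ℤ) (x : GolayPt → ℤ) = 16) :
    {y : leechLattice | (sqNorm (y : GolayPt → ℤ) = 32 ∧ dotInt (u : GolayPt → ℤ) (y : GolayPt → ℤ) = 24 ∧
      dotInt (v : GolayPt → ℤ) (y : GolayPt → ℤ) = 16) ∧
      dotInt (x : GolayPt → ℤ) (y : GolayPt → ℤ) = 8}.ncard = 112 ∧
    {y : leechLattice | (sqNorm (y : GolayPt → ℤ) = 32 ∧ dotInt (u : GolayPt → ℤ) (y : GolayPt → ℤ) = 24 ∧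
      dotInt (v : GolayPt → ℤ) (y : GolayPt → ℤ) = 16) ∧ y ≠ x ∧
      dotInt (x : GolayPt → ℤ) (y : GolayPt → ℤ) = 16}.ncard = 162 ∧
    ∀ y y' : leechLattice, (sqNorm (y : GolayPt → ℤ) = 32 ∧ dotInt (u : GolayPt → ℤ) (y : GolayPt → ℤ) = 24 ∧
      dotInt (v : GolayPt → ℤ) (y : GolayPt → ℤ) = 16) →
      (sqNorm (y' : GolayPt → ℤ) = 32 ∧ dotInt (u : GolayPt → ℤ) (y' : GolayPt → ℤ) = 24 ∧
      dotInt (v : GolayPt → ℤ) (y' : GolayPt → ℤ) = 16) → y ≠ x → y' ≠ x →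
      dotInt (x : GolayPt → ℤ) (y : GolayPt → ℤ) = dotInt (x : GolayPt → ℤ) (y' : GolayPt → ℤ) →
      ∃ g : Co0, g • u = u ∧ g • v = v ∧ g • x = x ∧ g • y = y' := by
  obtain ⟨g0, hgu, hgv, hgx⟩ := exists_to_ref3 u v x hu hv hd hx hux hvx
  refine ⟨?_, ?_, ?_⟩
  · rw [ncard_transport g0 _ (fun y => (y : GolayPt → ℤ) ∈ mclSub 8)]
    · rw [ncard_subtype_eq (fun y => y ∈ mclSub 8), ← mclSub_8_ncard]
      congr 1
      ext y
      exact ⟨fun h => h.2, fun h => ⟨h.1.1, h⟩⟩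
    · intro y
      constructor
      · rintro ⟨⟨h1, h2, h3⟩, h4⟩
        exact mem_mclSub_of g0 u v x y hgu hgv hgx 8 h1 h2 h3 h4
      · intro h
        exact of_mem_mclSub g0 u v x y hgu hgv hgx 8 h
  · rw [ncard_transport g0 _ (fun y => (y : GolayPt → ℤ) ∈ mclSub 16)]
    · rw [ncard_subtype_eq (fun y => y ∈ mclSub 16), ← mclSub_16_ncard]
      congr 1
      ext y
      exact ⟨fun h => h.2, fun h => ⟨h.1.1, h⟩⟩
    · intro y
      constructor
      · rintro ⟨⟨h1, h2, h3⟩, _, h4⟩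
        exact mem_mclSub_of g0 u v x y hgu hgv hgx 16 h1 h2 h3 h4
      · intro h
        obtain ⟨h1, h2⟩ := of_mem_mclSub g0 u v x y hgu hgv hgx 16 h
        refine ⟨h1, ?_, h2⟩
        rintro rfl
        rw [dot_self, hx] at h2
        norm_num at h2
  · rintro y y' ⟨h1, h2, h3⟩ ⟨h1', h2', h3'⟩ hyx hyx' hdd
    have hm := mem_mclSub_of g0 u v x y hgu hgv hgx _ h1 h2 h3 rfl
    have hm' := mem_mclSub_of g0 u v x y' hgu hgv hgx _ h1' h2' h3' hdd.symm
    have hk : dotInt (x : GolayPt → ℤ) (y : GolayPt → ℤ) = 8 ∨ dotInt (x : GolayPt → ℤ) (y : GolayPt → ℤ) = 16 := by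
      have hc := mclSet_dot_cases _ hm.1 hm.2.1
      have e : dotInt (vecOf x1L) ((g0.1 y : leechLattice) : GolayPt → ℤ) =
          dotInt (x : GolayPt → ℤ) (y : GolayPt → ℤ) := hm.2.2
      rw [e] at hc
      rcases hc with hc | hc | hc
      · exact Or.inl hc
      · exact Or.inr hc
      · exfalso
        apply hyx
        have := eq_of_dot_32 hx h1 hc
        exact (Subtype.ext this).symm
    obtain ⟨h, hfu, hfv, hfx, hmm⟩ := u43_transitive_ref _ hk (g0.1 y) (g0.1 y') hm hm'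
    refine ⟨g0⁻¹ * h * g0, conj_back g0 h u u ?_, conj_back g0 h v v ?_, conj_back g0 h x x ?_,
      conj_back g0 h y y' hmm⟩
    · rw [hgu]; exact hfu
    · rw [hgv]; exact hfv
    · rw [hgx]; exact hfx

end Cfsg.Agent.Lib.Helper6.Leech
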