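import Cfsg.Agent.Lib.Helper6.LeechCo3BList
import Cfsg.Agent.Lib.Helper6.LeechMcl2025c0
import Cfsg.Agent.Lib.Helper6.LeechMcL
import Cfsg.Agent.Lib.Helper6.LeechHS

/-!
# The action of the stabiliser of a triangle of type 223 on 2025 minimal vectors, and its suborbits
-/

set_option autoImplicit false

namespace Cfsg.Agent.Lib.Helper6.Leech

open Cfsg
open Cfsg.Agent.Lib.Helper6.Golay
open Cfsg.Agent.Lib.Helper6.LeechCount

/-- the negative of the root of the 11178-set, as a lattice vector -/
def xm' : leechLattice := ⟨vecOf xmL, xmL_mem⟩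

theorem xmL_norm : sqNorm (vecOf xmL) = 32 := by rw [sqNorm_vecOf]; exact subRefs_ok.2.2.2.2.1

theorem u0_xm_dot : dotInt (vecOf u0L) (vecOf xmL) = 16 := by
  rw [dotInt_vecOf]; exact subRefs_ok.2.2.2.2.2.1

theorem v0_xm_dot : dotInt (vecOf v0L) (vecOf xmL) = 0 := by
  rw [dotInt_vecOf]; exact subRefs_ok.2.2.2.2.2.2

theorem vecOf_xmL : vecOf xmL = w2 4 (-4) := by
  funext p
  revert p
  decide

theorem dot_xmL (y : GolayPt → ℤ) : dotInt (vecOf xmL) y = 4 * (y none - y (some 0)) := by
  rw [vecOf_xmL, dot_w2]; ring

/-- the 2025 minimal vectors attached to the reference pair -/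
def mclS : Set (GolayPt → ℤ) :=
  {y | y ∈ leechLattice ∧ sqNorm y = 32 ∧ dotInt (vecOf u0L) y = 16 ∧ dotInt (vecOf v0L) y = 0}

/-- those with a given inner product with the third reference vector -/
def mclOrb (k : ℤ) : Set (GolayPt → ℤ) := {y | y ∈ mclS ∧ dotInt (vecOf xmL) y = k}

/-- transfer of a count to the 11178-set by negation -/
theorem ncard_neg_co3 (Q : (GolayPt → ℤ) → Prop) :
    {y | (y ∈ leechLattice ∧ sqNorm y = 32 ∧ dotInt (vecOf u0L) y = 16) ∧ Q y}.ncard =
      {z | z ∈ co3Set (-16) ∧ Q (-z)}.ncard := by
  have e : {y | (y ∈ leechLattice ∧ sqNorm y = 32 ∧ dotInt (vecOf u0L) y = 16) ∧ Q y} =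
      (fun z : GolayPt → ℤ => -z) '' {z | z ∈ co3Set (-16) ∧ Q (-z)} := by
    ext y
    constructor
    · rintro ⟨⟨h1, h2, h3⟩, h4⟩
      refine ⟨-y, ⟨⟨leechLattice.neg_mem h1, ?_, ?_⟩, ?_⟩, neg_neg y⟩
      · rw [sqNorm_neg]; exact h2
      · rw [dotInt_neg_right, h3]
      · show Q (- -y)
        rw [neg_neg]; exact h4
    · rintro ⟨z, ⟨⟨h1, h2, h3⟩, h4⟩, rfl⟩
      refine ⟨⟨leechLattice.neg_mem h1, ?_, ?_⟩, h4⟩
      · rw [sqNorm_neg]; exact h2
      · rw [dotInt_neg_right, h3]; norm_num
  rw [e, Set.ncard_image_of_injective _ (neg_injective (G := GolayPt → ℤ))]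

theorem mclS_ncard : mclS.ncard = 2025 := by
  have h := ncard_neg_co3 (fun y => dotInt (vecOf v0L) y = 0)
  rw [ncard_co3B (fun z => dotInt (vecOf v0L) (-z) = 0) (fun a b : ℤ => decide (4 * (a + b) = 0))
    (fun y => by rw [decide_eq_true_iff, dotInt_neg_right, dot_v0L]; constructor <;> intro h <;> omega),
    co3B_counts.2.2.2.2.2.1] at h
  rw [← h]
  congr 1
  ext y
  exact ⟨fun ⟨h1, h2, h3, h4⟩ => ⟨⟨h1, h2, h3⟩, h4⟩, fun ⟨⟨h1, h2, h3⟩, h4⟩ => ⟨h1, h2, h3, h4⟩⟩

theorem mclOrb_ncard (k : ℤ) (n : ℕ)
    (h : co3BKeysFlat.countP (fun j => (fun a b : ℤ => decide (4 * (a + b) = 0 ∧ 4 * (b - a) = k))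
      (decNib (j / 16)) (decNib (j % 16))) = n) : (mclOrb k).ncard = n := by
  have h' := ncard_neg_co3 (fun y => dotInt (vecOf v0L) y = 0 ∧ dotInt (vecOf xmL) y = k)
  rw [ncard_co3B (fun z => dotInt (vecOf v0L) (-z) = 0 ∧ dotInt (vecOf xmL) (-z) = k)
    (fun a b : ℤ => decide (4 * (a + b) = 0 ∧ 4 * (b - a) = k))
    (fun y => by
      rw [decide_eq_true_iff, dotInt_neg_right, dotInt_neg_right, dot_v0L, dot_xmL]
      constructor <;> rintro ⟨h1, h2⟩ <;> constructor <;> omega), h] at h'
  rw [← h']
  congr 1
  ext y
  exact ⟨fun ⟨⟨h1, h2, h3, h4⟩, h5⟩ => ⟨⟨h1, h2, h3⟩, h4, h5⟩,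
    fun ⟨⟨h1, h2, h3⟩, h4, h5⟩ => ⟨⟨h1, h2, h3, h4⟩, h5⟩⟩

theorem mclS_invF : ∀ x y, ReachF [u0L, v0L] x y → x ∈ mclS → y ∈ mclS := by
  rintro x y h ⟨hx, hxn, hxd, hxv⟩
  obtain ⟨hy, hyn⟩ := reachF_mem h hx
  refine ⟨hy, hyn.trans hxn, (reachF_dot h hx u0L List.mem_cons_self u0L_mem).trans hxd, ?_⟩
  exact (reachF_dot h hx v0L (List.mem_cons_of_mem _ List.mem_cons_self) v0L_mem).trans hxv

theorem mclOrb_inv (k : ℤ) : ∀ a b, Reach [u0L, v0L, xmL] a b → vecOf a ∈ mclOrb k → vecOf b ∈ mclOrb k := by
  rintro a b h ⟨⟨ha, han, had, hav⟩, hax⟩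
  obtain ⟨hb, hbn⟩ := reach_mem h ha
  refine ⟨⟨hb, hbn.trans han, (reach_dot h ha u0L List.mem_cons_self u0L_mem).trans had, ?_⟩, ?_⟩
  · exact (reach_dot h ha v0L (List.mem_cons_of_mem _ List.mem_cons_self) v0L_mem).trans hav
  · exact (reach_dot h ha xmL (List.mem_cons_of_mem _ (List.mem_cons_of_mem _ List.mem_cons_self))
      xmL_mem).trans hax

def m22s0Root : List ℤ := [0, 2, 0, 2, 0, 0, 0, 0, 0, 0, 0, 0, 0, 0, 2, 2, 2, 2, 2, 0, 0, 2, 0, 0]

def m22s0Cert : List ℕ := [63896405393709402534029147456006066449, 42536270926172693352098625920337711872, 5863121710628106448522132358037537, 93462705187910955390269179206570272, 44113814958310416166638971601404559891, 2747698831568500082791096540968518144, 63813351209126814701538240999531225600, 63803331699378753187782878014241505553, 45199917947510334079139982144794800145, 23932269786574486612826803210654057216, 1578519251027895142301538043031466016, 3988681628996178125635336128696418322, 42545702167350997107095345706388496384, 176540633775599357052832292753571857, 2659432167698413623968712373125062659,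 99627433698879144036894131164815904, 42624213949748399150649927319993520896, 63818524580336343824137009457023549457, 63803615652532858213453465453361897985, 63813332199644848038574841474107572226, 564186955579395]

def m22s16Root : List ℤ := [-2, -2, 0, 0, 0, 0, 0, 0, 0, 0, 0, 0, 0, 2, 0, 2, 0, 2, 2, 2, 0, 0, 0, 2]

def m22s16Cert : List ℕ := [5841418764758578429480453661593873, 65225633151812098430299319792898670611, 65381405855546573352314181407155027971, 11358387720273126927191944545370112, 10408680008289394677508280196145171, 11360685011700583883136318290526259, 3998778475969121063340173196656713728, 6168393700940805866364915783118848, 22695529584439694070837292888349544960, 63818520940813246180425502866135916547, 46523669469585105854508032127662031618, 42629730765162872720085095939466854913, 171994839319408046288561860536959744, 166500999764632224439519281045123074, 249615625514858432477845975735664658, 1427922295001087931886533005290836736, 3998071210460092806453514726772047920, 3988657632169167003241455839520887552, 88634130896573410429692648841359360,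 63901600132113162890525860959499588354, 3803613088715841432515431825408, 166502104007303695244368735223550227, 63803329252590119477814850682716434466, 42535296034097559485087923623856968450, 63813351367564014197688855266550874641, 94434904996177425462359745055687441, 2751917429106987221918791655536799744, 42629406256223711610650823761445523744, 227319371669762952336128]

def m22s8Root : List ℤ := [-1, 1, 3, 1, 1, 1, 1, 1, 1, 1, 1, 1, 1, -1, -1, -1, -1, -1, 1, 1, -1, 1, 1, 1]

def m22s8Cert : List ℕ := [22778606486752361468479349261913362705, 1578519107737694713070664839423262768, 3988050576066554626196788146888376322, 15578252313279786934601216410255408, 64650799808943981780137658028307, 2664622082394168902413297300563628306, 67796187700563396420433963653973344259, 181771048953787717779194281876074496, 22695529574226462681960530143281754112, 23931681586792459844334752459875418131, 44030677375269390275645604918961635376, 25255376288304739691028414243144859665, 3993241368514835488511484119557996561, 3998092667363037031826384933529596448, 3998717856504352376517168982759833600,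 2664622012452823771414036700722298928, 1495403203775994867378408405557313539, 177511659102864556797732012969426963, 63818542475998676543282605642024484867, 63802985867888370419143276166014567169, 65313902356821363391291619737606292241, 1495384194299770599755997824373764608, 42550876643753100266851107117100696112, 22846106350867265823548134204540911633, 249919935935088631663851421507395587, 22846106177615123476678348720046157856, 42540873527819977726159773765916950801, 42545702167354760538169411089234657330, 65382052441511924618376130066718589441, 2663994515498568079230707501117747968, 42535297370819919189504961158970421280, 98695710524499426503946250129244433, 67790650603382244347598199290731692320, 42535359247707850638054893510964805633, 42551221359610620331312868783223210257, 23926103924805649454296126898978160944, 1427881888640477739078703568371323153, 1501547348708640057719637360265663008, 99627443563652442260531796059881776, 42633949664236383232880383929118490624, 46534074330895184336910655464641933315, 25255335960607723306416475800708579328, 10407416998835926437484248277451282,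 15600976866829498066365729185214739, 2751917573384944997697152486389854242, 176885429512689281964351142133498144, 166194149400708936601017559351951392, 22763029591865500193629234941027946800, 1422689592145825119195461701667397635, 6166020883067581164272697474228226, 2747698594502987279836838406622544147, 1417845646295084874007675378236133888, 46611897951068444759339352597960077344, 3993586169207080105906574962347487232, 4236975172927415982905176389782077488, 1422689512551513624393500162428834560, 2824610996998294112079849104770871328, 3993567391474895023467762381869887491, 23926106632742657022890492437441216560, 1505766183079321410713395879257047553, 42535298559242361055140923975346946048, 63803917601853414273555761626038141713, 2824651561199885850267410385953882401, 11360773811155521237580372436451328, 66462375885527243873794078828327338258, 25255982383167627972395050167117742082, 42550914826466182548080348162804417282, 23055398928463559041518286155777, 22763029521901487701215312633643733280, 24175334416902875222690633701596856864, 63901638008107261777426478389532820226,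 22846106192409820691205367569889439744, 42540873528125906757138697261956465169, 4086341589078666872596220275769475842, 63969139367325133010366436671458717728, 63897054178913913904360216373056700416, 986497986406637590723690498]

def mclSChunks : List Chunk := [mclSChunk0, mclSChunk1, mclSChunk2]

theorem mclSChunks_ok : ∀ c ∈ mclSChunks, checkChunk hmPerms [u0L, v0L] 16777215 mclGens xmL c = true := by
  intro c hc
  simp only [mclSChunks, List.mem_cons, List.not_mem_nil, or_false] at hc
  rcases hc with rfl | rfl | rfl
  · exact mclSChunk0_ok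
  · exact mclSChunk1_ok
  · exact mclSChunk2_ok

set_option maxRecDepth 1000000 in
set_option maxHeartbeats 4000000 in
theorem mclSGlobal_ok : checkGlobal mclSChunks 2025 = true := by decide +kernel

theorem xm'_mem_mclS : (xm' : GolayPt → ℤ) ∈ mclS := ⟨xmL_mem, xmL_norm, u0_xm_dot, v0_xm_dot⟩

theorem mclOrbRoots_ok :
    (inLeechL m22s0Root = true ∧ normL m22s0Root = 32 ∧ dotL u0L m22s0Root = 16 ∧ dotL v0L m22s0Root = 0 ∧
      dotL xmL m22s0Root = 0) ∧
    (inLeechL m22s16Root = true ∧ normL m22s16Root = 32 ∧ dotL u0L m22s16Root = 16 ∧ dotL v0L m22s16Root = 0 ∧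
      dotL xmL m22s16Root = 16) ∧
    (inLeechL m22s8Root = true ∧ normL m22s8Root = 32 ∧ dotL u0L m22s8Root = 16 ∧ dotL v0L m22s8Root = 0 ∧
      dotL xmL m22s8Root = 8) := by
  decide +kernel

theorem root_mem_mclOrb (r : List ℤ) (k : ℤ)
    (h : inLeechL r = true ∧ normL r = 32 ∧ dotL u0L r = 16 ∧ dotL v0L r = 0 ∧ dotL xmL r = k) :
    vecOf r ∈ mclOrb k :=
  ⟨⟨mem_leechLattice.mpr (inLeechL_sound r h.1), (sqNorm_vecOf r).trans h.2.1,
    (dotInt_vecOf _ _).trans h.2.2.1, (dotInt_vecOf _ _).trans h.2.2.2.1⟩,
    (dotInt_vecOf _ _).trans h.2.2.2.2⟩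

set_option maxRecDepth 1000000 in
set_option maxHeartbeats 4000000 in
theorem m22s0_ok : checkOrbitF m22Gens m22s0Root m22s0Cert 330 = true := by decide +kernel

set_option maxRecDepth 1000000 in
set_option maxHeartbeats 4000000 in
theorem m22s16_ok : checkOrbitF m22Gens m22s16Root m22s16Cert 462 = true := by decide +kernel

set_option maxRecDepth 1000000 in
set_option maxHeartbeats 4000000 in
theorem m22s8_ok : checkOrbitF m22Gens m22s8Root m22s8Cert 1232 = true := by decide +kernel

/-- transitivity of the stabiliser of the reference pair on the 2025 vectors -/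
theorem mclS_transitive_ref (y y' : leechLattice) (hy : (y : GolayPt → ℤ) ∈ mclS)
    (hy' : (y' : GolayPt → ℤ) ∈ mclS) : ∃ g : Co0, g.1 u0 = u0 ∧ g.1 v0' = v0' ∧ g.1 y = y' := by
  obtain ⟨g, hf, hg⟩ := stab_transitive_chunks hmPerms_rep [u0L, v0L] mclGens mclGens_ok 16777215 xmL
    mclSChunks 2025 (by norm_num) mclS mclS_ncard xm'_mem_mclS (fun x hx => hx.1) mclS_invF
    mclSChunks_ok mclSGlobal_ok y y' hy hy'
  exact ⟨g, hf u0L List.mem_cons_self u0L_mem,
    hf v0L (List.mem_cons_of_mem _ List.mem_cons_self) v0L_mem, hg⟩

/-- transitivity of the stabiliser of the reference triple on the three suborbits -/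
theorem mclOrb_transitive_ref (k : ℤ) (hk : k = 0 ∨ k = 16 ∨ k = 8) (y y' : leechLattice)
    (hy : (y : GolayPt → ℤ) ∈ mclOrb k) (hy' : (y' : GolayPt → ℤ) ∈ mclOrb k) :
    ∃ g : Co0, g.1 u0 = u0 ∧ g.1 v0' = v0' ∧ g.1 xm' = xm' ∧ g.1 y = y' := by
  have key : ∃ g : Co0, (∀ r ∈ [u0L, v0L, xmL], ∀ hr : vecOf r ∈ leechLattice,
      g.1 ⟨vecOf r, hr⟩ = ⟨vecOf r, hr⟩) ∧ g.1 y = y' := by
    rcases hk with rfl | rfl | rfl
    · exact stab_transitive_gen hmPerms_rep [u0L, v0L, xmL] m22Gens m22Gens_ok' m22s0Root m22s0Cert 330
        (mclOrb 0) (mclOrb_ncard _ _ co3B_counts.2.2.2.2.2.2.1) (root_mem_mclOrb _ _ mclOrbRoots_ok.1)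
        (fun x hx => hx.1.1) (mclOrb_inv _) (checkOrbit_of_F m22s0_ok) y y' hy hy'
    · exact stab_transitive_gen hmPerms_rep [u0L, v0L, xmL] m22Gens m22Gens_ok' m22s16Root m22s16Cert 462
        (mclOrb 16) (mclOrb_ncard _ _ co3B_counts.2.2.2.2.2.2.2.1) (root_mem_mclOrb _ _ mclOrbRoots_ok.2.1)
        (fun x hx => hx.1.1) (mclOrb_inv _) (checkOrbit_of_F m22s16_ok) y y' hy hy'
    · exact stab_transitive_gen hmPerms_rep [u0L, v0L, xmL] m22Gens m22Gens_ok' m22s8Root m22s8Cert 1232
        (mclOrb 8) (mclOrb_ncard _ _ co3B_counts.2.2.2.2.2.2.2.2.1) (root_mem_mclOrb _ _ mclOrbRoots_ok.2.2)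
        (fun x hx => hx.1.1) (mclOrb_inv _) (checkOrbit_of_F m22s8_ok) y y' hy hy'
  obtain ⟨g, hf, hg⟩ := key
  exact ⟨g, hf u0L List.mem_cons_self u0L_mem,
    hf v0L (List.mem_cons_of_mem _ List.mem_cons_self) v0L_mem,
    hf xmL (List.mem_cons_of_mem _ (List.mem_cons_of_mem _ List.mem_cons_self)) xmL_mem, hg⟩

/-- the possible inner products with the third reference vector -/
theorem mclS_dot_cases : ∀ y ∈ mclS, (dotInt (vecOf xmL) y = 0 ∨ dotInt (vecOf xmL) y = 16 ∨
    dotInt (vecOf xmL) y = 8 ∨ dotInt (vecOf xmL) y = 32) := by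
  rintro y ⟨h1, h2, h3, h4⟩
  have hz : -y ∈ co3Set (-16) := by
    refine ⟨leechLattice.neg_mem h1, ?_, ?_⟩
    · rw [sqNorm_neg]; exact h2
    · rw [dotInt_neg_right, h3]
  have := forall_co3B (fun z => dotInt (vecOf v0L) z = 0 → (dotInt (vecOf xrL) z = 0 ∨
      dotInt (vecOf xrL) z = 16 ∨ dotInt (vecOf xrL) z = 8 ∨ dotInt (vecOf xrL) z = 32))
    (fun a b : ℤ => decide (4 * (a + b) = 0 → (4 * (b - a) = 0 ∨ 4 * (b - a) = 16 ∨
      4 * (b - a) = 8 ∨ 4 * (b - a) = 32)))
    (fun z hz => by
      rw [decide_eq_true_iff] at hz
      rw [dot_v0L, dot_xrL]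
      exact hz) co3B_counts.2.2.2.2.2.2.2.2.2 (-y) hz (by rw [dotInt_neg_right, h4]; norm_num)
  rw [dot_xrL] at this
  rw [dot_xmL]
  simp only [Pi.neg_apply] at this
  rcases this with h | h | h | h
  · left; omega
  · right; left; omega
  · right; right; left; omega
  · right; right; right; omega

end Cfsg.Agent.Lib.Helper6.Leech
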