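import Cfsg.Agent.Lib.Helper6.LeechIndex
import Cfsg.Agent.Lib.Helper6.LeechCountVals
import Cfsg.Agent.Lib.Helper6.LeechAut

/-!
# The rank-24 lattice modulo twice itself
-/

set_option autoImplicit false

namespace Cfsg.Agent.Lib.Helper6.Leech

open Cfsg
open Cfsg.Agent.Lib.Helper6.Golay

/-- doubling -/
def mul2 : (GolayPt → ℤ) →+ (GolayPt → ℤ) where
  toFun x := x + x
  map_zero' := add_zero _
  map_add' := fun x y => by abel

theorem mul2_apply (x : GolayPt → ℤ) : mul2 x = 2 • x := (two_nsmul x).symm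

theorem mul2_injective : Function.Injective mul2 := by
  intro x y h
  funext i
  have := congrFun h i
  simp only [mul2, AddMonoidHom.coe_mk, ZeroHom.coe_mk, Pi.add_apply] at this
  omega

/-- twice the lattice -/
def twoL : AddSubgroup (GolayPt → ℤ) := leechLattice.map mul2

theorem mem_twoL {x : GolayPt → ℤ} : x ∈ twoL ↔ ∃ z ∈ leechLattice, x = 2 • z := by
  rw [twoL, AddSubgroup.mem_map]
  constructor
  · rintro ⟨z, hz, h⟩; exact ⟨z, hz, by rw [← mul2_apply]; exact h.symm⟩
  · rintro ⟨z, hz, h⟩; exact ⟨z, hz, by rw [mul2_apply]; exact h.symm⟩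

theorem twoL_le : twoL ≤ leechLattice := by
  intro x hx
  obtain ⟨z, hz, rfl⟩ := mem_twoL.mp hx
  rw [two_smul]; exact leechLattice.add_mem hz hz

/-- reduction modulo 2 -/
def red2 : (GolayPt → ℤ) →+ (GolayPt → ZMod 2) := (Int.castAddHom (ZMod 2)).compLeft GolayPt

theorem red2_surjective : Function.Surjective red2 := by
  intro y
  refine ⟨fun i => ((y i).val : ℤ), ?_⟩
  funext i
  show (((y i).val : ℤ) : ZMod 2) = y i
  simp

theorem range_mul2 : (⊤ : AddSubgroup (GolayPt → ℤ)).map mul2 = red2.ker := by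
  ext x
  rw [AddSubgroup.mem_map, AddMonoidHom.mem_ker]
  constructor
  · rintro ⟨z, _, rfl⟩
    funext i
    show (((z + z) i : ℤ) : ZMod 2) = 0
    rw [ZMod.intCast_zmod_eq_zero_iff_dvd]
    exact ⟨z i, by simp only [Pi.add_apply]; push_cast; ring⟩
  · intro h
    refine ⟨fun i => x i / 2, AddSubgroup.mem_top _, ?_⟩
    funext i
    have : ((x i : ℤ) : ZMod 2) = 0 := congrFun h i
    rw [ZMod.intCast_zmod_eq_zero_iff_dvd] at this
    simp only [mul2, AddMonoidHom.coe_mk, ZeroHom.coe_mk, Pi.add_apply]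
    push_cast at this
    omega

theorem index_range_mul2 : ((⊤ : AddSubgroup (GolayPt → ℤ)).map mul2).index = 2 ^ 24 := by
  rw [range_mul2, AddSubgroup.index_ker, AddMonoidHom.range_eq_top.mpr red2_surjective,
    AddSubgroup.card_top, Nat.card_eq_fintype_card, Fintype.card_fun, ZMod.card, card_golayPt]

/-- **The lattice has `2 ^ 24` classes modulo twice the lattice.** -/
theorem relIndex_twoL : twoL.relIndex leechLattice = 2 ^ 24 := by
  have h1 := AddSubgroup.relIndex_mul_index twoL_le
  have h2 := AddSubgroup.relIndex_mul_index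
    (AddSubgroup.map_mono (f := mul2) (le_top : leechLattice ≤ ⊤))
  rw [AddSubgroup.relIndex_map_map_of_injective _ _ mul2_injective, AddSubgroup.relIndex_top_right,
    index_range_mul2] at h2
  rw [index_leechLattice] at h1 h2
  have h3 : twoL.index = (leechLattice.map mul2).index := rfl
  rw [h3, ← h2] at h1
  have : twoL.relIndex leechLattice * 2 ^ 36 = 2 ^ 24 * 2 ^ 36 := by rw [h1]; ring
  exact Nat.eq_of_mul_eq_mul_right (by norm_num) this

/-- **Short vectors congruent modulo twice the lattice**: they are equal, opposite, or orthogonal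
of norm 64. -/
theorem short_congr {x y : GolayPt → ℤ} (_hx : x ∈ leechLattice) (hy : y ∈ leechLattice)
    (hnx : sqNorm x ≤ 64) (hny : sqNorm y ≤ 64) (h : x - y ∈ twoL) (h1 : y ≠ x) (h2 : y ≠ -x) :
    sqNorm x = 64 ∧ sqNorm y = 64 ∧ dotInt x y = 0 := by
  obtain ⟨z, hz, hxy⟩ := mem_twoL.mp h
  have hz0 : z ≠ 0 := by
    rintro rfl
    apply h1
    rw [smul_zero, sub_eq_zero] at hxy
    exact hxy.symm
  have hz' : z + y ∈ leechLattice := leechLattice.add_mem hz hy
  have hxy' : x + y = 2 • (z + y) := by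
    rw [smul_add, ← hxy, two_smul]; abel
  have hz'0 : z + y ≠ 0 := by
    intro h0
    apply h2
    rw [h0, smul_zero] at hxy'
    exact (eq_neg_of_add_eq_zero_right hxy')
  have n1 := thirtytwo_le_sqNorm (mem_leechLattice.mp hz) hz0
  have n2 := thirtytwo_le_sqNorm (mem_leechLattice.mp hz') hz'0
  have e1 : sqNorm (x - y) = 4 * sqNorm z := by
    rw [hxy, two_nsmul]; simp only [sqNorm, Pi.add_apply]
    rw [Finset.mul_sum]; exact Finset.sum_congr rfl (fun i _ => by ring)
  have e2 : sqNorm (x + y) = 4 * sqNorm (z + y) := by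
    rw [hxy', two_nsmul]; simp only [sqNorm, Pi.add_apply]
    rw [Finset.mul_sum]; exact Finset.sum_congr rfl (fun i _ => by ring)
  have e3 := sqNorm_add x y
  have e4 : sqNorm (x - y) = sqNorm x - 2 * dotInt x y + sqNorm y := by
    have := sqNorm_add x (-y)
    rw [← sub_eq_add_neg] at this
    rw [this]
    have a : dotInt x (-y) = -dotInt x y := by simp [dotInt]
    have b : sqNorm (-y) = sqNorm y := by simp [sqNorm]
    rw [a, b]; ring
  refine ⟨by omega, by omega, by omega⟩

end Cfsg.Agent.Lib.Helper6.Leech
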