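import Cfsg.Agent.Lib.Helper6.LeechMod2c
import Cfsg.Agent.Lib.Helper6.LeechCenter
import Cfsg.Agent.Lib.Helper6.LeechGen2
import Cfsg.Agent.Lib.Helper6.LeechTrans3
import Cfsg.Agent.Lib.Helper6.LeechCo0T48
import Cfsg.Agent.Lib.Helper6.LeechCross64

/-!
# The lattice modulo twice itself is a faithful irreducible module
-/

set_option autoImplicit false

namespace Cfsg.Agent.Lib.Helper6.Leech

open Cfsg
open Cfsg.Agent.Lib.Helper6.Golay

theorem dotInt_smul_smul (s t : ℤ) (x y : GolayPt → ℤ) :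
    dotInt (s • x) (t • y) = s * t * dotInt x y := by
  simp only [dotInt, Pi.smul_apply, smul_eq_mul, Finset.mul_sum]
  apply Finset.sum_congr rfl
  intros
  ring

theorem dot_e4 (x : GolayPt → ℤ) (i : GolayPt) : dotInt x (e4 i) = 4 * x i := by
  simp only [dotInt, e4, mul_ite, mul_zero]
  rw [Finset.sum_ite_eq' Finset.univ i, if_pos (Finset.mem_univ i)]
  ring

theorem dotInt_add_right (x y z : GolayPt → ℤ) : dotInt x (y + z) = dotInt x y + dotInt x z := by
  simp only [dotInt, Pi.add_apply, mul_add, Finset.sum_add_distrib]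

theorem dotInt_sub_right (x y z : GolayPt → ℤ) : dotInt x (y - z) = dotInt x y - dotInt x z := by
  simp only [dotInt, Pi.sub_apply, mul_sub, Finset.sum_sub_distrib]

theorem dotInt_add_left (x y z : GolayPt → ℤ) : dotInt (x + y) z = dotInt x z + dotInt y z := by
  simp only [dotInt, Pi.add_apply, add_mul, Finset.sum_add_distrib]

theorem e4_apply (i j : GolayPt) : e4 i j = if j = i then 4 else 0 := rfl

/-- the vectors `4 e_a + 4 e_b` and `4 e_a - 4 e_b` as lattice vectors -/
def pairP (a b : GolayPt) (hab : a ≠ b) : leechLattice := ⟨e4 a + e4 b, (e4_add_mem hab).1⟩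

def pairN (a b : GolayPt) (hab : a ≠ b) : leechLattice := ⟨e4 a - e4 b, (e4_sub_mem hab).1⟩

section
variable (g : ↥Co0)
  (hg : ∀ v : ↥leechLattice, ∃ w : ↥leechLattice,
    ((g • v : ↥leechLattice) : GolayPt → ℤ) - (v : GolayPt → ℤ) = 2 • (w : GolayPt → ℤ))
include hg

/-- minimal vectors are mapped to themselves or their negatives -/
theorem mod2_min_sign (v : leechLattice) (hv : sqNorm (v : GolayPt → ℤ) = 32) :
    ∃ s : ℤ, (s = 1 ∨ s = -1) ∧ ((g.1 v : leechLattice) : GolayPt → ℤ) = s • (v : GolayPt → ℤ) := by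
  obtain ⟨w, hw⟩ := hg v
  have h2L : ((g.1 v : leechLattice) : GolayPt → ℤ) - (v : GolayPt → ℤ) ∈ twoL :=
    mem_twoL.mpr ⟨w, w.2, hw⟩
  have hn : sqNorm ((g.1 v : leechLattice) : GolayPt → ℤ) = 32 := by rw [co0_norm, hv]
  by_cases h1 : (v : GolayPt → ℤ) = ((g.1 v : leechLattice) : GolayPt → ℤ)
  · exact ⟨1, Or.inl rfl, by rw [one_smul]; exact h1.symm⟩
  by_cases h2 : (v : GolayPt → ℤ) = -((g.1 v : leechLattice) : GolayPt → ℤ)
  · refine ⟨-1, Or.inr rfl, ?_⟩
    rw [h2]; simp
  exfalso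
  have := short_congr (g.1 v).2 v.2 (by rw [hn]; norm_num) (by rw [hv]; norm_num) h2L h1 h2
  rw [hn] at this
  norm_num at this

omit hg in
/-- non-orthogonal minimal vectors have the same sign -/
theorem mod2_same_sign {v w : leechLattice} {s t : ℤ} (hs : s = 1 ∨ s = -1) (ht : t = 1 ∨ t = -1)
    (hv : ((g.1 v : leechLattice) : GolayPt → ℤ) = s • (v : GolayPt → ℤ))
    (hw : ((g.1 w : leechLattice) : GolayPt → ℤ) = t • (w : GolayPt → ℤ))
    (hd : dotInt (v : GolayPt → ℤ) (w : GolayPt → ℤ) ≠ 0) : s = t := by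
  have h := co0_dot g v w
  rw [hv, hw, dotInt_smul_smul] at h
  have h1 : (s * t - 1) * dotInt (v : GolayPt → ℤ) (w : GolayPt → ℤ) = 0 := by linarith
  rcases mul_eq_zero.mp h1 with h2 | h2
  · rcases hs with rfl | rfl <;> rcases ht with rfl | rfl <;> omega
  · exact absurd h2 hd

omit hg in
theorem dotInt_smul_right (t : ℤ) (x y : GolayPt → ℤ) : dotInt x (t • y) = t * dotInt x y := by
  have := dotInt_smul_smul 1 t x y
  rwa [one_smul, one_mul] at this

omit hg in
theorem pairP_coe (a b : GolayPt) (hab : a ≠ b) :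
    ((pairP a b hab : leechLattice) : GolayPt → ℤ) = e4 a + e4 b := rfl

omit hg in
theorem pairN_coe (a b : GolayPt) (hab : a ≠ b) :
    ((pairN a b hab : leechLattice) : GolayPt → ℤ) = e4 a - e4 b := rfl

omit hg in
theorem sqNorm_pairP (a b : GolayPt) (hab : a ≠ b) :
    sqNorm ((pairP a b hab : leechLattice) : GolayPt → ℤ) = 32 := (e4_add_mem hab).2

omit hg in
theorem sqNorm_pairN (a b : GolayPt) (hab : a ≠ b) :
    sqNorm ((pairN a b hab : leechLattice) : GolayPt → ℤ) = 32 := (e4_sub_mem hab).2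

/-- all vectors `4 e_a ± 4 e_b` get the same sign -/
theorem mod2_pair_sign : ∃ s : ℤ, (s = 1 ∨ s = -1) ∧ ∀ (a b : GolayPt) (hab : a ≠ b),
    ((g.1 (pairP a b hab) : leechLattice) : GolayPt → ℤ) = s • (e4 a + e4 b) ∧
    ((g.1 (pairN a b hab) : leechLattice) : GolayPt → ℤ) = s • (e4 a - e4 b) := by
  have h0n : (none : GolayPt) ≠ some 0 := by decide
  obtain ⟨s0, hs0, h0⟩ := mod2_min_sign g hg (pairP none (some 0) h0n) (sqNorm_pairP _ _ _)
  refine ⟨s0, hs0, fun a b hab => ?_⟩
  obtain ⟨c, hc⟩ : ∃ c : GolayPt, c ∉ ({a, b, none, some 0} : Finset GolayPt) := by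
    by_contra hall
    push Not at hall
    have h1 : (Finset.univ : Finset GolayPt) ⊆ {a, b, none, some 0} := fun x _ => hall x
    have h2 := Finset.card_le_card h1
    have h3 : ({a, b, none, some 0} : Finset GolayPt).card ≤ 4 := Finset.card_le_four
    rw [Finset.card_univ] at h2
    have : Fintype.card GolayPt = 24 := by decide
    omega
  simp only [Finset.mem_insert, Finset.mem_singleton, not_or] at hc
  obtain ⟨hca, hcb, hcn, hc0⟩ := hc
  obtain ⟨s1, hs1, h1⟩ := mod2_min_sign g hg (pairP none c (Ne.symm hcn)) (sqNorm_pairP _ _ _)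
  obtain ⟨s2, hs2, h2⟩ := mod2_min_sign g hg (pairP c a hca) (sqNorm_pairP _ _ _)
  obtain ⟨s3, hs3, h3⟩ := mod2_min_sign g hg (pairP a b hab) (sqNorm_pairP _ _ _)
  obtain ⟨s4, hs4, h4⟩ := mod2_min_sign g hg (pairN a b hab) (sqNorm_pairN _ _ _)
  have e01 : s0 = s1 := by
    apply mod2_same_sign g hs0 hs1 h0 h1
    rw [pairP_coe, pairP_coe, dotInt_add_right, dot_e4, dot_e4]
    simp [e4_apply, hcn, hc0]
  have e12 : s1 = s2 := by
    apply mod2_same_sign g hs1 hs2 h1 h2
    rw [pairP_coe, pairP_coe, dotInt_add_right, dot_e4, dot_e4]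
    have hac : ¬ a = c := fun h => hca h.symm
    by_cases han : a = none
    · have hnc : ¬ (none : GolayPt) = c := fun h => hcn h.symm
      simp [e4_apply, hcn, han, hnc]
    · simp [e4_apply, hcn, han, hac]
  have e23 : s2 = s3 := by
    apply mod2_same_sign g hs2 hs3 h2 h3
    rw [pairP_coe, pairP_coe, dotInt_add_right, dot_e4, dot_e4]
    have hac : ¬ a = c := fun h => hca h.symm
    have hbc : ¬ b = c := fun h => hcb h.symm
    have hba : ¬ b = a := fun h => hab h.symm
    simp [e4_apply, hac, hbc, hba]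
  have e24 : s2 = s4 := by
    apply mod2_same_sign g hs2 hs4 h2 h4
    rw [pairP_coe, pairN_coe, dotInt_sub_right, dot_e4, dot_e4]
    have hac : ¬ a = c := fun h => hca h.symm
    have hbc : ¬ b = c := fun h => hcb h.symm
    have hba : ¬ b = a := fun h => hab h.symm
    simp [e4_apply, hac, hbc, hba]
  constructor
  · rw [h3, pairP_coe, e01, e12, e23]
  · rw [h4, pairN_coe, e01, e12, e24]

/-- an automorphism acting trivially modulo twice the lattice is a scalar `±1` -/
theorem mod2_scalar : ∃ s : ℤ, (s = 1 ∨ s = -1) ∧ ∀ x : leechLattice,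
    ((g.1 x : leechLattice) : GolayPt → ℤ) = s • (x : GolayPt → ℤ) := by
  obtain ⟨s, hs, hpair⟩ := mod2_pair_sign g hg
  refine ⟨s, hs, fun x => ?_⟩
  funext a
  obtain ⟨b, hb⟩ : ∃ b : GolayPt, a ≠ b := by
    by_cases h : a = none
    · exact ⟨some 0, by rw [h]; decide⟩
    · exact ⟨none, h⟩
  obtain ⟨hP, hN⟩ := hpair a b hb
  have h1 := co0_dot g x (pairP a b hb)
  have h2 := co0_dot g x (pairN a b hb)
  rw [hP, dotInt_smul_right, pairP_coe, dotInt_add_right, dotInt_add_right, dot_e4, dot_e4, dot_e4,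
    dot_e4] at h1
  rw [hN, dotInt_smul_right, pairN_coe, dotInt_sub_right, dotInt_sub_right, dot_e4, dot_e4, dot_e4,
    dot_e4] at h2
  simp only [Pi.smul_apply, smul_eq_mul]
  rcases hs with rfl | rfl <;> linarith

theorem mod2_center : g ∈ Subgroup.center ↥Co0 := by
  obtain ⟨s, hs, hx⟩ := mod2_scalar g hg
  rw [Subgroup.mem_center_iff]
  rcases hs with rfl | rfl
  · have : g = 1 := by
      apply Subtype.ext
      apply Equiv.ext
      intro x
      apply Subtype.ext
      rw [hx x, one_smul]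
      rfl
    rw [this]
    intro h
    simp
  · have : g = negC := by
      apply Subtype.ext
      apply Equiv.ext
      intro x
      apply Subtype.ext
      rw [hx x, negC_apply]
      simp
    rw [this]
    exact negC_central

end

theorem two_zsmul_eq (v : GolayPt → ℤ) : (2 : ℤ) • v = 2 • v := by
  rw [two_smul, two_nsmul]

theorem sqNorm_u48 (b : ZMod 23) : sqNorm (oddVec + (e4 none + e4 (some b))) = 48 := by
  revert b
  unfold sqNorm oddVec e4
  decide +kernel

theorem sqNorm_u64a : sqNorm ((e4 none + e4 (some 0)) + (e4 (some 1) + e4 (some 2))) = 64 := by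
  unfold sqNorm e4
  decide +kernel

theorem sqNorm_u64b : sqNorm ((e4 none + e4 (some 0)) + (e4 (some 1) + e4 (some 3))) = 64 := by
  unfold sqNorm e4
  decide +kernel

/-- an invariant subgroup between twice the lattice and the lattice -/
theorem mod2_irreducible (M : AddSubgroup (GolayPt → ℤ))
    (h2 : ∀ v ∈ leechLattice, (2 : ℤ) • v ∈ M) (hML : M ≤ leechLattice)
    (hinv : ∀ g : ↥Co0, ∀ v : ↥leechLattice, (v : GolayPt → ℤ) ∈ M →
      ((g • v : ↥leechLattice) : GolayPt → ℤ) ∈ M) :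
    (∀ x ∈ M, ∃ w ∈ leechLattice, x = (2 : ℤ) • w) ∨ M = leechLattice := by
  by_cases h : ∀ x ∈ M, ∃ w ∈ leechLattice, x = (2 : ℤ) • w
  · exact Or.inl h
  right
  push Not at h
  obtain ⟨x, hxM, hx⟩ := h
  obtain ⟨y, hyL, hyn, z, hzL, hxyz⟩ := exists_short x (hML hxM)
  have hyM : y ∈ M := by
    have e : y = x - (2 : ℤ) • z := by rw [two_zsmul_eq, ← hxyz]; abel
    rw [e]
    exact M.sub_mem hxM (h2 z hzL)
  have hy0 : y ≠ 0 := by
    rintro rfl
    rw [sub_zero] at hxyz
    exact hx z hzL (by rw [two_zsmul_eq]; exact hxyz)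
  -- transport along automorphisms
  have htrans : ∀ (v w : leechLattice), (v : GolayPt → ℤ) ∈ M → (∃ g : Co0, g • v = w) →
      (w : GolayPt → ℤ) ∈ M := by
    rintro v w hv ⟨g, rfl⟩
    exact hinv g v hv
  -- a minimal vector in `M`
  have hmin : ∃ m, m ∈ M ∧ m ∈ minVecs := by
    rcases norm_cases hyL hyn with ⟨h0, _⟩ | h32 | h48 | h64
    · exact absurd h0 hy0
    · exact ⟨y, hyM, hyL, h32⟩
    · have hP0 : e4 none + e4 (some 0) ∈ leechLattice := (e4_add_mem (by decide)).1
      have hP1 : e4 none + e4 (some 1) ∈ leechLattice := (e4_add_mem (by decide)).1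
      have hu1 : oddVec + (e4 none + e4 (some 0)) ∈ leechLattice :=
        leechLattice.add_mem oddVec_mem.1 hP0
      have hu2 : oddVec + (e4 none + e4 (some 1)) ∈ leechLattice :=
        leechLattice.add_mem oddVec_mem.1 hP1
      have m1 := htrans ⟨y, hyL⟩ ⟨_, hu1⟩ hyM (co0_transitive_48 _ _ h48 (sqNorm_u48 0))
      have m2 := htrans ⟨y, hyL⟩ ⟨_, hu2⟩ hyM (co0_transitive_48 _ _ h48 (sqNorm_u48 1))
      refine ⟨e4 (some 0) - e4 (some 1), ?_, e4_sub_mem (by decide)⟩
      have e : e4 (some 0) - e4 (some 1) =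
          (oddVec + (e4 none + e4 (some 0))) - (oddVec + (e4 none + e4 (some 1))) := by abel
      rw [e]
      exact M.sub_mem m1 m2
    · have hP0 : e4 none + e4 (some 0) ∈ leechLattice := (e4_add_mem (by decide)).1
      have hP12 : e4 (some 1) + e4 (some 2) ∈ leechLattice := (e4_add_mem (by decide)).1
      have hP13 : e4 (some 1) + e4 (some 3) ∈ leechLattice := (e4_add_mem (by decide)).1
      have hu1 : (e4 none + e4 (some 0)) + (e4 (some 1) + e4 (some 2)) ∈ leechLattice :=
        leechLattice.add_mem hP0 hP12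
      have hu2 : (e4 none + e4 (some 0)) + (e4 (some 1) + e4 (some 3)) ∈ leechLattice :=
        leechLattice.add_mem hP0 hP13
      have m1 := htrans ⟨y, hyL⟩ ⟨_, hu1⟩ hyM (co0_transitive_64 _ _ h64 sqNorm_u64a)
      have m2 := htrans ⟨y, hyL⟩ ⟨_, hu2⟩ hyM (co0_transitive_64 _ _ h64 sqNorm_u64b)
      refine ⟨e4 (some 2) - e4 (some 3), ?_, e4_sub_mem (by decide)⟩
      have e : e4 (some 2) - e4 (some 3) =
          ((e4 none + e4 (some 0)) + (e4 (some 1) + e4 (some 2))) -
            ((e4 none + e4 (some 0)) + (e4 (some 1) + e4 (some 3))) := by abel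
      rw [e]
      exact M.sub_mem m1 m2
  obtain ⟨m, hmM, hmL, hmn⟩ := hmin
  apply le_antisymm hML
  rw [← minSub_eq, minSub, AddSubgroup.closure_le]
  rintro v ⟨hvL, hvn⟩
  exact htrans ⟨m, hmL⟩ ⟨v, hvL⟩ hmM (co0_transitive_min _ _ hmn hvn)

end Cfsg.Agent.Lib.Helper6.Leech
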