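import Cfsg.Agent.Lib.Helper6.LeechMod2
import Cfsg.Agent.Lib.Helper6.LeechCountQ

/-!
# Short representatives modulo twice the rank-24 lattice; crosses
-/

set_option autoImplicit false

namespace Cfsg.Agent.Lib.Helper6.Leech

open Cfsg
open Cfsg.Agent.Lib.Helper6.Golay

/-- integer vectors as real Euclidean vectors -/
noncomputable def toE (y : GolayPt → ℤ) : EuclideanSpace ℝ GolayPt := WithLp.toLp 2 (fun i => (y i : ℝ))

theorem inner_toE (x y : GolayPt → ℤ) : inner ℝ (toE x) (toE y) = ((dotInt x y : ℤ) : ℝ) := by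
  rw [toE, toE, EuclideanSpace.inner_toLp_toLp]
  simp only [dotProduct, dotInt, star_trivial]
  push_cast
  exact Finset.sum_congr rfl (fun i _ => by ring)

theorem dot_self (x : GolayPt → ℤ) : dotInt x x = sqNorm x := by
  simp only [dotInt, sqNorm]; exact Finset.sum_congr rfl (fun i _ => by ring)

/-- a family of pairwise orthogonal nonzero integer vectors has at most 24 members -/
theorem card_le_of_orthogonal {ι : Type*} [Fintype ι] (v : ι → GolayPt → ℤ) (h0 : ∀ i, sqNorm (v i) ≠ 0)
    (ho : ∀ i j, i ≠ j → dotInt (v i) (v j) = 0) : Fintype.card ι ≤ 24 := by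
  have hli : LinearIndependent ℝ (fun i => toE (v i)) := by
    apply linearIndependent_of_ne_zero_of_inner_eq_zero
    · intro i h
      have := inner_toE (v i) (v i)
      rw [h, inner_zero_left, dot_self] at this
      exact h0 i (by exact_mod_cast this.symm)
    · intro i j hij
      show inner ℝ (toE (v i)) (toE (v j)) = 0
      rw [inner_toE, ho i j hij]; simp
  have := hli.fintype_card_le_finrank
  rwa [finrank_euclideanSpace, card_golayPt] at this

/-- vectors of norm 64 any two of which are equal, opposite or orthogonal: at most 48 -/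
theorem card_le_of_orth (A : Finset (GolayPt → ℤ)) (hn : ∀ y ∈ A, sqNorm y = 64)
    (h : ∀ y ∈ A, ∀ y' ∈ A, y' = y ∨ y' = -y ∨ dotInt y y' = 0) : A.card ≤ 48 := by
  classical
  let pr : (GolayPt → ℤ) → Finset (GolayPt → ℤ) := fun y => {y, -y}
  let P := A.image pr
  have hrep : ∀ p : ↥P, ∃ y ∈ A, pr y = p.1 := fun p => Finset.mem_image.mp p.2
  choose rep hrepA hrepP using hrep
  have hP : Fintype.card ↥P ≤ 24 := by
    apply card_le_of_orthogonal (fun p => rep p)
    · intro p; rw [hn _ (hrepA p)]; norm_num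
    · intro p p' hpp
      rcases h _ (hrepA p) _ (hrepA p') with e | e | e
      · exfalso; apply hpp; apply Subtype.ext; rw [← hrepP p, ← hrepP p', e]
      · exfalso; apply hpp; apply Subtype.ext; rw [← hrepP p, ← hrepP p', e]
        show ({rep p, -rep p} : Finset _) = {-rep p, - -rep p}
        rw [neg_neg, Finset.pair_comm]
      · exact e
  have hA : A.card ≤ 2 * P.card := by
    apply Finset.card_le_mul_card_image
    intro p hp
    have hsub : A.filter (fun y => pr y = p) ⊆ {rep ⟨p, hp⟩, -rep ⟨p, hp⟩} := by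
      intro y hy
      rw [Finset.mem_filter] at hy
      have h1 : y ∈ pr y := Finset.mem_insert_self _ _
      rw [hy.2] at h1
      have h2 := hrepP ⟨p, hp⟩
      simp only at h2
      rw [← h2] at h1
      exact h1
    exact (Finset.card_le_card hsub).trans Finset.card_le_two
  rw [Fintype.card_coe] at hP
  omega


/-! ### The classes modulo twice the lattice -/

/-- the class of a vector modulo twice the lattice -/
def cl : (GolayPt → ℤ) →+ (GolayPt → ℤ) ⧸ twoL := QuotientAddGroup.mk' twoL

theorem cl_eq_iff {x y : GolayPt → ℤ} : cl x = cl y ↔ x - y ∈ twoL := by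
  rw [cl, QuotientAddGroup.mk'_apply, QuotientAddGroup.mk'_apply, QuotientAddGroup.eq]
  have : -x + y = -(x - y) := by abel
  rw [this, AddSubgroup.neg_mem_iff]

/-- the classes of lattice vectors -/
def clL : AddSubgroup ((GolayPt → ℤ) ⧸ twoL) := leechLattice.map cl

theorem card_clL : Nat.card clL = 2 ^ 24 := by
  rw [clL, ← AddSubgroup.relIndex_ker, cl, QuotientAddGroup.ker_mk', relIndex_twoL]

theorem finite_clL : (clL : Set ((GolayPt → ℤ) ⧸ twoL)).Finite := by
  have : Finite clL := Nat.finite_of_card_ne_zero (by rw [card_clL]; norm_num)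
  exact Set.toFinite _

/-- the classes of lattice vectors, as a finite set -/
noncomputable def clF : Finset ((GolayPt → ℤ) ⧸ twoL) := finite_clL.toFinset

theorem mem_clF {q : (GolayPt → ℤ) ⧸ twoL} : q ∈ clF ↔ q ∈ clL := by
  rw [clF, Set.Finite.mem_toFinset]; rfl

theorem card_clF : clF.card = 2 ^ 24 := by
  rw [← card_clL, clF, ← Set.ncard_eq_toFinset_card _ finite_clL]
  rfl

/-! ### The short vectors -/

theorem norm_cases {x : GolayPt → ℤ} (hx : x ∈ leechLattice) (h : sqNorm x ≤ 64) :
    (x = 0 ∧ sqNorm x = 0) ∨ sqNorm x = 32 ∨ sqNorm x = 48 ∨ sqNorm x = 64 := by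
  by_cases h0 : x = 0
  · left; exact ⟨h0, by rw [h0]; simp [sqNorm]⟩
  · right
    have h1 := thirtytwo_le_sqNorm (mem_leechLattice.mp hx) h0
    obtain ⟨k, hk⟩ := sixteen_dvd_sqNorm (mem_leechLattice.mp hx)
    omega

theorem finite_short : {x : GolayPt → ℤ | x ∈ leechLattice ∧ sqNorm x ≤ 64}.Finite := by
  have h0 : {x : GolayPt → ℤ | x ∈ leechLattice ∧ sqNorm x = ((0 : ℕ) : ℤ)}.Finite := finite_leech_norm (by norm_num)
  have h32 : {x : GolayPt → ℤ | x ∈ leechLattice ∧ sqNorm x = ((32 : ℕ) : ℤ)}.Finite := finite_leech_norm (by norm_num)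
  have h48 : {x : GolayPt → ℤ | x ∈ leechLattice ∧ sqNorm x = ((48 : ℕ) : ℤ)}.Finite := finite_leech_norm (by norm_num)
  have h64 : {x : GolayPt → ℤ | x ∈ leechLattice ∧ sqNorm x = ((64 : ℕ) : ℤ)}.Finite := finite_leech_norm (by norm_num)
  apply ((h0.union h32).union (h48.union h64)).subset
  rintro x ⟨hx, hn⟩
  simp only [Set.mem_union, Set.mem_ofPred_eq, Nat.cast_ofNat, Nat.cast_zero]
  rcases norm_cases hx hn with h | h | h | h
  · exact Or.inl (Or.inl ⟨hx, h.2⟩)
  · exact Or.inl (Or.inr ⟨hx, h⟩)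
  · exact Or.inr (Or.inl ⟨hx, h⟩)
  · exact Or.inr (Or.inr ⟨hx, h⟩)

/-- the short vectors (norm at most 64) -/
noncomputable def shortF : Finset (GolayPt → ℤ) := finite_short.toFinset

theorem mem_shortF {x : GolayPt → ℤ} : x ∈ shortF ↔ x ∈ leechLattice ∧ sqNorm x ≤ 64 := by
  rw [shortF, Set.Finite.mem_toFinset]; rfl

/-- the weights -/
def wt (x : GolayPt → ℤ) : ℕ := if sqNorm x = 0 then 48 else if sqNorm x = 64 then 1 else 24

theorem card_filter_norm (n : ℤ) (hn : n ≤ 64) :
    (shortF.filter (fun x => sqNorm x = n)).card = {x : GolayPt → ℤ | x ∈ leechLattice ∧ sqNorm x = n}.ncard := by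
  rw [← Set.ncard_coe_finset]
  congr 1
  ext x
  simp only [Finset.coe_filter, mem_shortF, Set.mem_ofPred_eq]
  constructor
  · rintro ⟨⟨h1, _⟩, h3⟩; exact ⟨h1, h3⟩
  · rintro ⟨h1, h3⟩; exact ⟨⟨h1, by omega⟩, h3⟩

theorem ncard_norm0 : {x : GolayPt → ℤ | x ∈ leechLattice ∧ sqNorm x = 0}.ncard = 1 := by
  have : {x : GolayPt → ℤ | x ∈ leechLattice ∧ sqNorm x = 0} = {0} := by
    ext x
    simp only [Set.mem_ofPred_eq, Set.mem_singleton_iff]
    constructor
    · rintro ⟨_, h⟩
      by_contra h0
      have := sqNorm_pos h0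
      omega
    · rintro rfl
      exact ⟨leechLattice.zero_mem, by simp [sqNorm]⟩
  rw [this, Set.ncard_singleton]

theorem sum_wt : ∑ x ∈ shortF, wt x = 48 * 2 ^ 24 := by
  have hW : ∀ x ∈ shortF, wt x = (if sqNorm x = 0 then 48 else 0) + (if sqNorm x = 32 then 24 else 0) +
      (if sqNorm x = 48 then 24 else 0) + (if sqNorm x = 64 then 1 else 0) := by
    intro x hx
    obtain ⟨h1, h2⟩ := mem_shortF.mp hx
    rcases norm_cases h1 h2 with h | h | h | h
    · simp [wt, h.2]
    · simp [wt, h]
    · simp [wt, h]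
    · simp [wt, h]
  rw [Finset.sum_congr rfl hW]
  simp only [Finset.sum_add_distrib, ← Finset.sum_filter, Finset.sum_const, smul_eq_mul]
  rw [card_filter_norm 0 (by norm_num), card_filter_norm 32 (by norm_num), card_filter_norm 48 (by norm_num),
    card_filter_norm 64 (by norm_num), ncard_norm0, ncard_norm32, ncard_norm48, ncard_norm64]
  norm_num

end Cfsg.Agent.Lib.Helper6.Leech
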