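import Cfsg.Agent.Lib.Helper6.LeechMod2b
import Cfsg.Prelude.Def_SporadicCombinatorics

/-!
# Short representatives modulo twice the rank-24 lattice; crosses (counting argument)
-/

set_option autoImplicit false

namespace Cfsg.Agent.Lib.Helper6.Leech

open Cfsg
open Cfsg.Agent.Lib.Helper6.Golay

open Classical in
noncomputable instance : DecidableEq ((GolayPt → ℤ) ⧸ twoL) := fun _ _ => Classical.propDecidable _

/-- the short vectors in a class -/
noncomputable def fib (q : (GolayPt → ℤ) ⧸ twoL) : Finset (GolayPt → ℤ) :=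
  shortF.filter (fun x => cl x = q)

theorem mem_fib {q : (GolayPt → ℤ) ⧸ twoL} {x : GolayPt → ℤ} :
    x ∈ fib q ↔ (x ∈ leechLattice ∧ sqNorm x ≤ 64) ∧ cl x = q := by
  rw [fib, Finset.mem_filter, mem_shortF]

theorem fib_tri {q : (GolayPt → ℤ) ⧸ twoL} {x y : GolayPt → ℤ} (hx : x ∈ fib q) (hy : y ∈ fib q) :
    y = x ∨ y = -x ∨ (sqNorm x = 64 ∧ sqNorm y = 64 ∧ dotInt x y = 0) := by
  obtain ⟨⟨hxL, hxn⟩, hxq⟩ := mem_fib.mp hx
  obtain ⟨⟨hyL, hyn⟩, hyq⟩ := mem_fib.mp hy
  by_cases h1 : y = x
  · exact Or.inl h1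
  · by_cases h2 : y = -x
    · exact Or.inr (Or.inl h2)
    · exact Or.inr (Or.inr (short_congr hxL hyL hxn hyn (cl_eq_iff.mp (hxq.trans hyq.symm)) h1 h2))

theorem sqNorm_neg (x : GolayPt → ℤ) : sqNorm (-x) = sqNorm x := by simp [sqNorm]

/-- the weight of the short vectors of a class is at most 48 -/
theorem sum_fib_le (q : (GolayPt → ℤ) ⧸ twoL) : ∑ x ∈ fib q, wt x ≤ 48 := by
  by_cases hne : (fib q).Nonempty
  · obtain ⟨x0, hx0⟩ := hne
    by_cases h64 : sqNorm x0 = 64
    · -- all of norm 64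
      have hall : ∀ y ∈ fib q, sqNorm y = 64 := by
        intro y hy
        rcases fib_tri hx0 hy with h | h | h
        · rw [h]; exact h64
        · rw [h, sqNorm_neg]; exact h64
        · exact h.2.1
      have hw : ∀ y ∈ fib q, wt y = 1 := by
        intro y hy
        simp [wt, hall y hy]
      rw [Finset.sum_congr rfl hw, Finset.sum_const, smul_eq_mul, mul_one]
      apply card_le_of_orth _ hall
      intro y hy y' hy'
      rcases fib_tri hy hy' with h | h | h
      · exact Or.inl h
      · exact Or.inr (Or.inl h)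
      · exact Or.inr (Or.inr h.2.2)
    · -- only `± x0`
      have hsub : fib q ⊆ {x0, -x0} := by
        intro y hy
        rcases fib_tri hx0 hy with h | h | h
        · rw [h]; exact Finset.mem_insert_self _ _
        · rw [h]; exact Finset.mem_insert_of_mem (Finset.mem_singleton_self _)
        · exact absurd h.1 h64
      by_cases h0 : x0 = 0
      · have hsub' : fib q ⊆ {0} := by
          intro y hy
          have := hsub hy
          rw [h0, neg_zero] at this
          simpa using this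
        calc ∑ x ∈ fib q, wt x ≤ ∑ x ∈ ({0} : Finset (GolayPt → ℤ)), wt x :=
              Finset.sum_le_sum_of_subset hsub'
          _ = 48 := by simp [wt, sqNorm]
      · have hpos := sqNorm_pos h0
        have hw : ∀ y ∈ ({x0, -x0} : Finset (GolayPt → ℤ)), wt y = 24 := by
          intro y hy
          have hn : sqNorm y = sqNorm x0 := by
            rcases Finset.mem_insert.mp hy with h | h
            · rw [h]
            · rw [Finset.mem_singleton.mp h, sqNorm_neg]
          simp only [wt, hn]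
          rw [if_neg (by omega), if_neg h64]
        calc ∑ x ∈ fib q, wt x ≤ ∑ x ∈ ({x0, -x0} : Finset (GolayPt → ℤ)), wt x :=
              Finset.sum_le_sum_of_subset hsub
          _ = ∑ x ∈ ({x0, -x0} : Finset (GolayPt → ℤ)), 24 := Finset.sum_congr rfl hw
          _ ≤ 48 := by
              rw [Finset.sum_const, smul_eq_mul]
              have := Finset.card_le_two (a := x0) (b := -x0)
              omega
  · rw [Finset.not_nonempty_iff_eq_empty.mp hne, Finset.sum_empty]; norm_num

/-- **Every class has short vectors of total weight exactly 48.** -/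
theorem sum_fib_eq {q : (GolayPt → ℤ) ⧸ twoL} (hq : q ∈ clL) : ∑ x ∈ fib q, wt x = 48 := by
  have hmaps : ∀ x ∈ shortF, cl x ∈ clF := by
    intro x hx
    rw [mem_clF]
    exact ⟨x, (mem_shortF.mp hx).1, rfl⟩
  have htot := Finset.sum_fiberwise_of_maps_to hmaps wt
  rw [sum_wt] at htot
  have hconst : ∑ _q ∈ clF, 48 = 48 * 2 ^ 24 := by
    rw [Finset.sum_const, card_clF, smul_eq_mul, mul_comm]
  have := (Finset.sum_eq_sum_iff_of_le (s := clF) (f := fun q => ∑ x ∈ shortF.filter (fun x => cl x = q), wt x)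
    (g := fun _ => 48) (fun q _ => sum_fib_le q)).mp (by rw [htot, hconst])
  exact this q (mem_clF.mpr hq)

/-- **Every lattice vector is congruent modulo twice the lattice to a vector of norm at most 64.** -/
theorem exists_short (x : GolayPt → ℤ) (hx : x ∈ leechLattice) :
    ∃ y ∈ leechLattice, sqNorm y ≤ 64 ∧ ∃ z ∈ leechLattice, x - y = 2 • z := by
  have hq : cl x ∈ clL := ⟨x, hx, rfl⟩
  have h := sum_fib_eq hq
  have hne : (fib (cl x)).Nonempty := by
    rw [Finset.nonempty_iff_ne_empty]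
    intro h0
    rw [h0, Finset.sum_empty] at h
    norm_num at h
  obtain ⟨y, hy⟩ := hne
  obtain ⟨⟨hyL, hyn⟩, hyq⟩ := mem_fib.mp hy
  exact ⟨y, hyL, hyn, mem_twoL.mp (cl_eq_iff.mp hyq.symm)⟩

/-- **The cross through a vector of norm 64 has 48 members.** -/
theorem ncard_cross (x : GolayPt → ℤ) (hx : x ∈ leechLattice) (hxn : sqNorm x = 64) :
    (cross x).ncard = 48 := by
  have hq : cl x ∈ clL := ⟨x, hx, rfl⟩
  have h := sum_fib_eq hq
  have hx0 : x ∈ fib (cl x) := mem_fib.mpr ⟨⟨hx, by omega⟩, rfl⟩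
  have hall : ∀ y ∈ fib (cl x), sqNorm y = 64 := by
    intro y hy
    rcases fib_tri hx0 hy with h | h | h
    · rw [h]; exact hxn
    · rw [h, sqNorm_neg]; exact hxn
    · exact h.2.1
  have hw : ∀ y ∈ fib (cl x), wt y = 1 := by
    intro y hy
    simp [wt, hall y hy]
  rw [Finset.sum_congr rfl hw, Finset.sum_const, smul_eq_mul, mul_one] at h
  rw [← h, ← Set.ncard_coe_finset]
  congr 1
  ext y
  simp only [cross, Set.mem_ofPred_eq, Finset.mem_coe, mem_fib]
  constructor
  · rintro ⟨hyL, hyn, hz⟩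
    exact ⟨⟨hyL, by omega⟩, (cl_eq_iff.mpr (mem_twoL.mpr hz)).symm⟩
  · rintro ⟨⟨hyL, hyn⟩, hyq⟩
    have hy : y ∈ fib (cl x) := mem_fib.mpr ⟨⟨hyL, hyn⟩, hyq⟩
    exact ⟨hyL, by rw [hall y hy, hxn], mem_twoL.mp (cl_eq_iff.mp hyq.symm)⟩

end Cfsg.Agent.Lib.Helper6.Leech
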