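import Mathlib

/-!
# Packing a list of small integers into one number (fast random access for kernel computations)
-/

set_option autoImplicit false

namespace Cfsg.Agent.Lib.Helper6.Leech

/-- the residue modulo 16 -/
def nib (c : ℤ) : ℕ := (c % 16).toNat

/-- pack a list of integers, four bits each -/
def packL (x : List ℤ) : ℕ := x.foldr (fun c acc => Nat.add (Nat.mul acc 16) (nib c)) 0

/-- the `i`-th entry of a packed list -/
def dig (n i : ℕ) : ℤ :=
  if Nat.land (Nat.shiftRight n (Nat.mul 4 i)) 15 < 8 then
    Int.ofNat (Nat.land (Nat.shiftRight n (Nat.mul 4 i)) 15)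
  else Int.ofNat (Nat.land (Nat.shiftRight n (Nat.mul 4 i)) 15) - 16

/-- the raw four bits at position `i` -/
def rawnib (n i : ℕ) : ℕ := Nat.land (Nat.shiftRight n (Nat.mul 4 i)) 15

/-- all entries between `-8` and `7` -/
def fits (x : List ℤ) : Bool := x.all (fun c => decide (-8 ≤ c) && decide (c ≤ 7))

theorem nib_lt (c : ℤ) : nib c < 16 := by
  unfold nib; omega

theorem dig_zero_left (i : ℕ) : dig 0 i = 0 := by
  simp [dig, Nat.shiftRight_eq_div_pow]

theorem dig_packL (x : List ℤ) (h : fits x = true) (i : ℕ) : dig (packL x) i = x.getD i 0 := by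
  induction x generalizing i with
  | nil =>
    show dig 0 i = _
    rw [dig_zero_left]; rfl
  | cons c t ih =>
    simp only [fits, List.all_cons, Bool.and_eq_true, decide_eq_true_eq] at h
    obtain ⟨⟨h1, h2⟩, ht⟩ := h
    have hp : packL (c :: t) = packL t * 16 + nib c := rfl
    cases i with
    | zero =>
      have e : Nat.land (Nat.shiftRight (packL (c :: t)) (Nat.mul 4 0)) 15 = nib c := by
        show (packL (c :: t) >>> (4 * 0)) &&& 15 = nib c
        rw [Nat.mul_zero, Nat.shiftRight_zero, hp, show (15 : ℕ) = 2 ^ 4 - 1 by norm_num,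
          Nat.and_two_pow_sub_one_eq_mod]
        have := nib_lt c
        omega
      rw [dig, e, List.getD_cons_zero]
      unfold nib
      split_ifs with hlt
      · show ((c % 16).toNat : ℤ) = c
        omega
      · show ((c % 16).toNat : ℤ) - 16 = c
        omega
    | succ i =>
      have e : Nat.shiftRight (packL (c :: t)) (Nat.mul 4 (i + 1)) = Nat.shiftRight (packL t) (Nat.mul 4 i) := by
        show packL (c :: t) >>> (4 * (i + 1)) = packL t >>> (4 * i)
        rw [Nat.shiftRight_eq_div_pow, Nat.shiftRight_eq_div_pow, hp, Nat.mul_add, Nat.pow_add, Nat.mul_one,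
          show (2 : ℕ) ^ 4 = 16 by norm_num, Nat.mul_comm (2 ^ (4 * i)) 16, ← Nat.div_div_eq_div_mul]
        have := nib_lt c
        congr 1
        omega
      have ih' := ih (by simpa [fits] using ht) i
      rw [dig] at ih' ⊢
      rw [e, List.getD_cons_succ]
      exact ih'

theorem getD_bounds_of_fits (x : List ℤ) (h : fits x = true) (i : ℕ) : -8 ≤ x.getD i 0 ∧ x.getD i 0 ≤ 7 := by
  by_cases hi : i < x.length
  · rw [List.getD_eq_getElem _ _ hi]
    rw [fits, List.all_eq_true] at h
    have := h _ (List.getElem_mem hi)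
    simp only [Bool.and_eq_true, decide_eq_true_eq] at this
    exact this
  · rw [List.getD_eq_default _ _ (not_lt.mp hi)]
    omega

theorem rawnib_packL (x : List ℤ) (i : ℕ) : rawnib (packL x) i = nib (x.getD i 0) := by
  induction x generalizing i with
  | nil =>
    show (0 >>> (4 * i)) &&& 15 = nib 0
    simp [nib]
  | cons c t ih =>
    have hp : packL (c :: t) = packL t * 16 + nib c := rfl
    cases i with
    | zero =>
      show (packL (c :: t) >>> (4 * 0)) &&& 15 = nib ((c :: t).getD 0 0)
      rw [Nat.mul_zero, Nat.shiftRight_zero, hp, show (15 : ℕ) = 2 ^ 4 - 1 by norm_num,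
        Nat.and_two_pow_sub_one_eq_mod, List.getD_cons_zero]
      have := nib_lt c
      omega
    | succ i =>
      have e : Nat.shiftRight (packL (c :: t)) (Nat.mul 4 (i + 1)) = Nat.shiftRight (packL t) (Nat.mul 4 i) := by
        show packL (c :: t) >>> (4 * (i + 1)) = packL t >>> (4 * i)
        rw [Nat.shiftRight_eq_div_pow, Nat.shiftRight_eq_div_pow, hp, Nat.mul_add, Nat.pow_add, Nat.mul_one,
          show (2 : ℕ) ^ 4 = 16 by norm_num, Nat.mul_comm (2 ^ (4 * i)) 16, ← Nat.div_div_eq_div_mul]
        have := nib_lt c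
        congr 1
        omega
      rw [rawnib, e, List.getD_cons_succ]
      exact ih i

end Cfsg.Agent.Lib.Helper6.Leech
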