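import Cfsg.Agent.Lib.Helper6.LeechXi
import Cfsg.Agent.Lib.Helper6.LeechCheck

/-!
# The sextet automorphism on index-based functions (for fast kernel computation)
-/

set_option autoImplicit false

namespace Cfsg.Agent.Lib.Helper6.Leech

open Cfsg
open Cfsg.Agent.Lib.Helper6.Golay

/-- sign change on the first tetrad, on index-based functions -/
def epsG (g : ℕ → ℤ) (k : ℕ) : ℤ := if tetIdxL.getD k 0 = 0 then -g k else g k

/-- the `a`-th member of the tetrad of the index `j` -/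
def m4 (j a : ℕ) : ℕ := tetMemL.getD (4 * tetIdxL.getD j 0 + a) 0

/-- subtract half the tetrad sum, on index-based functions -/
def etaG (e : ℕ → ℤ) (j : ℕ) : ℤ := e j - (e (m4 j 0) + e (m4 j 1) + e (m4 j 2) + e (m4 j 3)) / 2

theorem tau_facts : ∀ k : Fin 24, ((tauF (pt k.val) = 0) ↔ (tetIdxL.getD k.val 0 = 0)) ∧
    (tauF (pt k.val)).val = tetIdxL.getD k.val 0 ∧
    m4 k.val 0 < 24 ∧ m4 k.val 1 < 24 ∧ m4 k.val 2 < 24 ∧ m4 k.val 3 < 24 := by decide

theorem epsF_pt (f : GolayPt → ℤ) {k : ℕ} (hk : k < 24) : epsF f (pt k) = epsG (fun i => f (pt i)) k := by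
  have h := (tau_facts ⟨k, hk⟩).1
  simp only at h
  rw [epsF, epsG]
  by_cases h0 : tauF (pt k) = 0
  · rw [if_pos h0, if_pos (h.mp h0)]
  · rw [if_neg h0, if_neg (fun h1 => h0 (h.mpr h1))]

theorem memF_tauF_pt {j : ℕ} (hj : j < 24) (a : Fin 4) : memF (tauF (pt j)) a = pt (m4 j a.val) := by
  have h := (tau_facts ⟨j, hj⟩).2.1
  simp only at h
  rw [memF, m4, h]

theorem etaF_pt (y : GolayPt → ℤ) {j : ℕ} (hj : j < 24) : etaF y (pt j) = etaG (fun i => y (pt i)) j := by
  rw [etaF, etaG, ts, memF_tauF_pt hj, memF_tauF_pt hj, memF_tauF_pt hj, memF_tauF_pt hj]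
  rfl

/-- `etaG` only looks at indices below 24 -/
theorem etaG_congr {e e' : ℕ → ℤ} (h : ∀ k < 24, e k = e' k) {j : ℕ} (hj : j < 24) : etaG e j = etaG e' j := by
  obtain ⟨_, _, h0, h1, h2, h3⟩ := tau_facts ⟨j, hj⟩
  simp only at h0 h1 h2 h3
  rw [etaG, etaG, h j hj, h _ h0, h _ h1, h _ h2, h _ h3]

theorem xiF_pt (f : GolayPt → ℤ) {j : ℕ} (hj : j < 24) :
    xiF f (pt j) = etaG (epsG (fun i => f (pt i))) j := by
  rw [xiF, etaF_pt _ hj]
  exact etaG_congr (fun k hk => epsF_pt f hk) hj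

theorem xiF'_pt (f : GolayPt → ℤ) {j : ℕ} (hj : j < 24) :
    xiF' f (pt j) = epsG (etaG (fun i => f (pt i))) j := by
  rw [xiF', epsF_pt _ hj, epsG, epsG]
  have : etaF f (pt j) = etaG (fun i => f (pt i)) j := etaF_pt f hj
  rw [this]

/-- the fast list version of the automorphism -/
def xiList (g : ℕ → ℤ) : List ℤ := (List.range 24).map (fun j => etaG (epsG g) j)

def xiList' (g : ℕ → ℤ) : List ℤ := (List.range 24).map (fun j => epsG (etaG g) j)

theorem epsG_congr {g g' : ℕ → ℤ} (h : ∀ k < 24, g k = g' k) {k : ℕ} (hk : k < 24) :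
    epsG g k = epsG g' k := by
  rw [epsG, epsG, h k hk]

theorem listOf_xiF (x : List ℤ) : listOf (xiF (vecOf x)) = xiList (fun k => x.getD k 0) := by
  rw [listOf, xiList]
  apply List.map_congr_left
  intro j hj
  rw [List.mem_range] at hj
  rw [xiF_pt _ hj]
  apply etaG_congr _ hj
  intro k hk
  apply epsG_congr _ hk
  intro i hi
  rw [vecOf, idx_pt i hi]

theorem listOf_xiF' (x : List ℤ) : listOf (xiF' (vecOf x)) = xiList' (fun k => x.getD k 0) := by
  rw [listOf, xiList']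
  apply List.map_congr_left
  intro j hj
  rw [List.mem_range] at hj
  rw [xiF'_pt _ hj]
  apply epsG_congr _ hj
  intro k hk
  apply etaG_congr _ hk
  intro i hi
  rw [vecOf, idx_pt i hi]

end Cfsg.Agent.Lib.Helper6.Leech
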