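import Cfsg.Agent.Lib.Helper6.LeechXi2
import Cfsg.Agent.Lib.Helper6.LeechCheck
import Cfsg.Agent.Lib.Helper6.GolayBSGS
import Cfsg.Agent.Lib.Helper6.LeechPack
import Cfsg.Agent.Lib.Helper6.LeechXiFast

/-!
# Computable lattice automorphisms acting on coordinate lists, and orbit enumeration
-/

set_option autoImplicit false

namespace Cfsg.Agent.Lib.Helper6.Leech

open Cfsg
open Cfsg.Agent.Lib.Helper6.Golay

/-- primitive automorphisms -/
inductive Prim
  | perm (l : List ℕ)
  | sign (m : ℕ)
  | xi
  | xi'

/-- the action on coordinate lists (with a fast path through a packed number when all entries are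
small) -/
def Prim.act : Prim → List ℤ → List ℤ
  | .perm l, x =>
    if fits x = true then l.map (fun i => dig (packL x) i) else l.map (fun i => x.getD i 0)
  | .sign m, x =>
    if fits x = true then
      (List.range 24).map (fun j => if m.testBit j then - dig (packL x) j else dig (packL x) j)
    else (List.range 24).map (fun j => if m.testBit j then - x.getD j 0 else x.getD j 0)
  | .xi, x => if fits x = true then xiList (fun k => dig (packL x) k) else listOf (xiF (vecOf x))
  | .xi', x => if fits x = true then xiList' (fun k => dig (packL x) k) else listOf (xiF' (vecOf x))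

theorem Prim.act_xi (x : List ℤ) : Prim.act .xi x = listOf (xiF (vecOf x)) := by
  rw [Prim.act]
  split_ifs with h
  · rw [listOf_xiF]
    congr 1
    funext k
    exact dig_packL x h k
  · rfl

theorem Prim.act_xi' (x : List ℤ) : Prim.act .xi' x = listOf (xiF' (vecOf x)) := by
  rw [Prim.act]
  split_ifs with h
  · rw [listOf_xiF']
    congr 1
    funext k
    exact dig_packL x h k
  · rfl

theorem Prim.act_perm (l : List ℕ) (x : List ℤ) : Prim.act (.perm l) x = l.map (fun i => x.getD i 0) := by
  rw [Prim.act]
  split_ifs with h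
  · exact List.map_congr_left (fun i _ => dig_packL x h i)
  · rfl

theorem Prim.act_sign (m : ℕ) (x : List ℤ) : Prim.act (.sign m) x =
    (List.range 24).map (fun j => if m.testBit j then - x.getD j 0 else x.getD j 0) := by
  rw [Prim.act]
  split_ifs with h
  · exact List.map_congr_left (fun j _ => by rw [dig_packL x h j])
  · rfl

/-- validity -/
def Prim.Valid : Prim → Prop
  | .perm l => Rep M24 l
  | .sign m => m < 2 ^ 24 ∧ inCode m = true
  | .xi => True
  | .xi' => True

theorem vecOf_map_perm {l : List ℕ} (hl : wf l = true) (x : List ℤ) (p : GolayPt) :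
    vecOf (l.map (fun i => x.getD i 0)) p = vecOf x (lfun l p) := by
  have hl' := (wf_iff l).mp hl
  have hp := idx_lt p
  have h1 : idx p < l.length := by omega
  simp only [vecOf, lfun]
  rw [List.getD_eq_getElem _ _ (by simpa using h1), List.getElem_map,
    List.getD_eq_getElem l 0 h1, idx_pt _ (hl'.2 _ (List.getElem_mem _))]

theorem vecOf_sign (m : ℕ) (x : List ℤ) (p : GolayPt) :
    vecOf ((List.range 24).map (fun j => if m.testBit j then - x.getD j 0 else x.getD j 0)) p =
      signF (fs m) (vecOf x) p := by
  have hp := idx_lt p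
  simp only [vecOf, signF, mem_fs]
  rw [List.getD_eq_getElem _ _ (by simpa using hp), List.getElem_map, List.getElem_range]

theorem isC_fs {m : ℕ} (hm : m < 2 ^ 24) (h : inCode m = true) : IsC (fs m) := by
  rw [IsC, fs_mem_supports_iff hm]; exact h

theorem xiC_inv_apply (v : leechLattice) : ((xiC⁻¹.1 v : leechLattice) : GolayPt → ℤ) = xiF' v.1 := rfl

/-- each valid primitive is realised by a lattice automorphism -/
theorem Prim.sound (p : Prim) (hp : p.Valid) : ∃ g : Co0, ∀ (x : List ℤ) (hx : vecOf x ∈ leechLattice),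
    ((g.1 ⟨vecOf x, hx⟩ : leechLattice) : GolayPt → ℤ) = vecOf (p.act x) := by
  cases p with
  | perm l =>
    obtain ⟨hl, σ, hσ, hσl⟩ := hp
    refine ⟨permC σ hσ, fun x hx => ?_⟩
    funext p
    show permF σ (vecOf x) p = _
    rw [Prim.act_perm, vecOf_map_perm hl, permF, hσl]
  | sign m =>
    obtain ⟨hm, hc⟩ := hp
    refine ⟨signC (fs m) (isC_fs hm hc), fun x hx => ?_⟩
    funext p
    show signF (fs m) (vecOf x) p = _
    rw [Prim.act_sign, vecOf_sign]
  | xi =>
    refine ⟨xiC, fun x hx => ?_⟩
    rw [xiC_apply, Prim.act_xi, vecOf_listOf]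
  | xi' =>
    refine ⟨xiC⁻¹, fun x hx => ?_⟩
    rw [xiC_inv_apply, Prim.act_xi', vecOf_listOf]

/-- action of a word (first letter acts first) -/
def actW (w : List Prim) (x : List ℤ) : List ℤ := w.foldl (fun y p => p.act y) x

theorem actW_sound (w : List Prim) (hw : ∀ p ∈ w, p.Valid) :
    ∃ g : Co0, ∀ (x : List ℤ) (hx : vecOf x ∈ leechLattice),
      ((g.1 ⟨vecOf x, hx⟩ : leechLattice) : GolayPt → ℤ) = vecOf (actW w x) := by
  induction w with
  | nil => exact ⟨1, fun x hx => rfl⟩
  | cons p w ih =>
    obtain ⟨g1, h1⟩ := p.sound (hw p List.mem_cons_self)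
    obtain ⟨g2, h2⟩ := ih (fun q hq => hw q (List.mem_cons_of_mem _ hq))
    refine ⟨g2 * g1, fun x hx => ?_⟩
    have hx' : vecOf (p.act x) ∈ leechLattice := by rw [← h1 x hx]; exact (g1.1 ⟨vecOf x, hx⟩).2
    have e : g1.1 ⟨vecOf x, hx⟩ = ⟨vecOf (p.act x), hx'⟩ := Subtype.ext (h1 x hx)
    show ((g2.1 (g1.1 ⟨vecOf x, hx⟩) : leechLattice) : GolayPt → ℤ) = _
    rw [e, h2 _ hx']
    rfl

/-- reachability under automorphisms fixing the reference vectors -/
def Reach (refs : List (List ℤ)) (a b : List ℤ) : Prop :=
  ∃ g : Co0, (∀ r ∈ refs, ∀ hr : vecOf r ∈ leechLattice, g.1 ⟨vecOf r, hr⟩ = ⟨vecOf r, hr⟩) ∧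
    ∀ ha : vecOf a ∈ leechLattice, ((g.1 ⟨vecOf a, ha⟩ : leechLattice) : GolayPt → ℤ) = vecOf b

theorem Reach.refl (refs : List (List ℤ)) (a : List ℤ) : Reach refs a a :=
  ⟨1, fun _ _ _ => rfl, fun _ => rfl⟩

theorem Reach.trans {refs : List (List ℤ)} {a b c : List ℤ} (h1 : Reach refs a b) (h2 : Reach refs b c) :
    Reach refs a c := by
  obtain ⟨g1, f1, e1⟩ := h1
  obtain ⟨g2, f2, e2⟩ := h2
  refine ⟨g2 * g1, fun r hr hrr => ?_, fun ha => ?_⟩
  · show g2.1 (g1.1 ⟨vecOf r, hrr⟩) = _
    rw [f1 r hr hrr, f2 r hr hrr]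
  · have hb : vecOf b ∈ leechLattice := by rw [← e1 ha]; exact (g1.1 ⟨vecOf a, ha⟩).2
    have e : g1.1 ⟨vecOf a, ha⟩ = ⟨vecOf b, hb⟩ := Subtype.ext (e1 ha)
    show ((g2.1 (g1.1 ⟨vecOf a, ha⟩) : leechLattice) : GolayPt → ℤ) = _
    rw [e, e2 hb]

/-- a generator word: valid, and fixing all reference lists -/
def GoodWord (refs : List (List ℤ)) (w : List Prim) : Prop :=
  (∀ p ∈ w, p.Valid) ∧ ∀ r ∈ refs, vecOf (actW w r) = vecOf r

theorem reach_of_goodWord {refs : List (List ℤ)} {w : List Prim} (hw : GoodWord refs w) (a : List ℤ) :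
    Reach refs a (actW w a) := by
  obtain ⟨g, hg⟩ := actW_sound w hw.1
  refine ⟨g, fun r hr hrr => ?_, fun ha => hg a ha⟩
  apply Subtype.ext
  rw [hg r hrr]
  exact hw.2 r hr

/-! ### The stack machine enumerating an orbit -/

/-- state: stack of vectors and output list -/
structure OState where
  stack : List (List ℤ)
  out : List (List ℤ)

/-- one instruction: `0` pops, `k + 1` applies the generator `k` to the top of the stack and pushes -/
def ostep (gens : List (List Prim)) (s : OState) (i : ℕ) : OState :=
  match i with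
  | 0 => ⟨s.stack.tail, s.out⟩
  | k + 1 =>
    match s.stack with
    | [] => s
    | v :: rest =>
      let v' := actW (gens.getD k []) v
      ⟨v' :: v :: rest, v' :: s.out⟩

def orun (gens : List (List Prim)) (root : List ℤ) (instrs : List ℕ) : OState :=
  instrs.foldl (ostep gens) ⟨[root], [root]⟩

theorem goodWord_nil (refs : List (List ℤ)) : GoodWord refs [] :=
  ⟨fun _ h => absurd h List.not_mem_nil, fun _ _ => rfl⟩

theorem goodWord_getD {refs : List (List ℤ)} {gens : List (List Prim)} (hg : ∀ w ∈ gens, GoodWord refs w)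
    (k : ℕ) : GoodWord refs (gens.getD k []) := by
  by_cases hk : k < gens.length
  · rw [List.getD_eq_getElem _ _ hk]; exact hg _ (List.getElem_mem _)
  · rw [List.getD_eq_default _ _ (not_lt.mp hk)]; exact goodWord_nil refs

theorem orun_sound {refs : List (List ℤ)} {gens : List (List Prim)} (hg : ∀ w ∈ gens, GoodWord refs w)
    (root : List ℤ) (instrs : List ℕ) :
    ∀ x ∈ (orun gens root instrs).out, Reach refs root x := by
  suffices h : ∀ (instrs : List ℕ) (s : OState),
      (∀ x ∈ s.stack, Reach refs root x) → (∀ x ∈ s.out, Reach refs root x) →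
      ∀ x ∈ (instrs.foldl (ostep gens) s).out, Reach refs root x by
    apply h instrs ⟨[root], [root]⟩
    · intro x hx
      rw [List.mem_singleton] at hx; subst hx; exact Reach.refl refs x
    · intro x hx
      rw [List.mem_singleton] at hx; subst hx; exact Reach.refl refs x
  intro instrs
  induction instrs with
  | nil => intro s _ h2; exact h2
  | cons i instrs ih =>
    intro s h1 h2
    rw [List.foldl_cons]
    apply ih
    · cases i with
      | zero =>
        intro x hx
        exact h1 x (List.mem_of_mem_tail hx)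
      | succ k =>
        rcases hs : s.stack with _ | ⟨v, rest⟩
        · simp only [ostep, hs]; intro x hx; exact absurd hx List.not_mem_nil
        · simp only [ostep, hs]
          intro x hx
          rw [List.mem_cons] at hx
          rcases hx with rfl | hx
          · exact (h1 v (by rw [hs]; exact List.mem_cons_self)).trans
              (reach_of_goodWord (goodWord_getD hg k) v)
          · exact h1 x (by rw [hs]; exact hx)
    · cases i with
      | zero => exact h2
      | succ k =>
        rcases hs : s.stack with _ | ⟨v, rest⟩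
        · simp only [ostep, hs]; exact h2
        · simp only [ostep, hs]
          intro x hx
          rw [List.mem_cons] at hx
          rcases hx with rfl | hx
          · exact (h1 v (by rw [hs]; exact List.mem_cons_self)).trans
              (reach_of_goodWord (goodWord_getD hg k) v)
          · exact h2 x hx

end Cfsg.Agent.Lib.Helper6.Leech
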