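import Cfsg.Agent.Lib.Helper6.LeechAut
import Cfsg.Agent.Lib.Helper6.LeechOrbit
import Mathlib.GroupTheory.Complement

/-!
# The automorphism group of the rank-24 lattice does not split over negation
-/

set_option autoImplicit false

namespace Cfsg.Agent.Lib.Helper6.Leech

open Cfsg
open Cfsg.Agent.Lib.Helper6.Golay
open Cfsg.Agent.Lib.Helper6.PermChain

/-- a fixed-point-free involution of the 24 points, exchanging a dodecad with its complement -/
def nsL : List ℕ := [16, 22, 15, 10, 5, 4, 18, 21, 11, 23, 3, 8, 19, 17, 20, 2, 0, 13, 6, 12, 14, 7, 1, 9]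

def nsF : GolayPt → GolayPt := lfun nsL

theorem nsF_invol : ∀ p, nsF (nsF p) = p := by decide

def nsP : Equiv.Perm GolayPt := ⟨nsF, nsF, nsF_invol, nsF_invol⟩

set_option maxHeartbeats 4000000 in
theorem nsP_mem : nsP ∈ M24 := mem_M24_of_checkFun _ (by decide +kernel)

def nsMask : ℕ := 12454951

theorem nsMask_isC : IsC (fs nsMask) := isC_fs (by decide) (by decide +kernel)

theorem nsMask_swap : ∀ p : GolayPt, (p ∈ fs nsMask ↔ ¬ nsF p ∈ fs nsMask) := by
  intro p
  rw [mem_fs, mem_fs]
  revert p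
  decide

/-- an element of order four whose square is negation -/
def nsG : Co0 := signC (fs nsMask) nsMask_isC * permC nsP nsP_mem

theorem nsG_sq : nsG * nsG = negC := by
  apply Subtype.ext
  apply Equiv.ext
  intro v
  apply Subtype.ext
  show signF (fs nsMask) (permF nsP (signF (fs nsMask) (permF nsP v.1))) = -v.1
  funext i
  simp only [signF, permF, Pi.neg_apply]
  have h1 : nsP i = nsF i := rfl
  have h2 : nsP (nsP i) = i := nsF_invol i
  have h3 := nsMask_swap i
  rw [h2, h1]
  by_cases hi : i ∈ fs nsMask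
  · rw [if_pos hi, if_neg (h3.mp hi)]
  · rw [if_neg hi, if_pos (by by_contra h; exact hi (h3.mpr h))]

theorem negC_apply (v : leechLattice) : ((negC.1 v : leechLattice) : GolayPt → ℤ) = -(v : GolayPt → ℤ) := rfl

theorem negC_sq : negC * negC = 1 := by
  apply Subtype.ext
  apply Equiv.ext
  intro v
  apply Subtype.ext
  show - -v.1 = v.1
  exact neg_neg _

theorem negC_ne_one : negC ≠ 1 := by
  intro h
  have h1 := negC_apply (v8 none)
  rw [h] at h1
  have h2 := congrFun h1 none
  rw [Pi.neg_apply] at h2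
  have h3 : ((((1 : Co0).1 (v8 none) : leechLattice) : GolayPt → ℤ)) none = (v8 none : GolayPt → ℤ) none := rfl
  rw [h3, v8_apply, if_pos rfl] at h2
  norm_num at h2

theorem negC_comm (f : Co0) : negC * f = f * negC := by
  apply Subtype.ext
  apply Equiv.ext
  intro v
  show negC.1 (f.1 v) = f.1 (negC.1 v)
  have e1 : negC.1 (f.1 v) = -(f.1 v) := Subtype.ext (negC_apply _)
  have e2 : negC.1 v = -v := Subtype.ext (negC_apply _)
  rw [e1, e2, co0_neg]

/-- **S5594** -/
theorem co0_nonsplit :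
    ∃ n : ↥Co0, (∀ v : ↥leechLattice, ((n • v : ↥leechLattice) : GolayPt → ℤ) = -(v : GolayPt → ℤ)) ∧
    ∀ K : Subgroup ↥Co0, ¬ (Subgroup.zpowers n).IsComplement' K := by
  refine ⟨negC, fun v => negC_apply v, ?_⟩
  intro K hK
  obtain ⟨⟨⟨h, hh⟩, ⟨k, hk⟩⟩, hx, -⟩ := hK.existsUnique nsG
  simp only at hx
  obtain ⟨j, rfl⟩ := Subgroup.mem_zpowers_iff.mp hh
  have hc : ∀ f : Co0, Commute (negC ^ j) f := fun f => Commute.zpow_left (negC_comm f) j
  have hsq : negC ^ j * negC ^ j = 1 := by
    rw [← zpow_add, ← two_mul, zpow_mul, zpow_two, negC_sq, one_zpow]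
  have hk2 : k * k = negC := by
    have hk' : k = (negC ^ j)⁻¹ * nsG := by rw [← hx, inv_mul_cancel_left]
    have hc' : Commute (negC ^ j)⁻¹ nsG := (hc nsG).inv_left
    rw [hk', mul_assoc, ← mul_assoc nsG, ← hc'.eq, mul_assoc, ← mul_assoc, ← mul_inv_rev, hsq,
      inv_one, one_mul, nsG_sq]
  have hmem : negC ∈ K := by rw [← hk2]; exact K.mul_mem hk hk
  have hd := hK.disjoint
  rw [Subgroup.disjoint_def] at hd
  exact negC_ne_one (hd (Subgroup.mem_zpowers negC) hmem)

end Cfsg.Agent.Lib.Helper6.Leech
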