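import Cfsg.Agent.Lib.Helper6.LeechOrbit

/-!
# Distinctness check by radix partition, and completeness of an enumerated orbit
-/

set_option autoImplicit false

namespace Cfsg.Agent.Lib.Helper6.Leech

open Cfsg
open Cfsg.Agent.Lib.Helper6.Golay

theorem pairwise_of_filter {α : Type*} (R : α → α → Prop) (hR : ∀ x y, R x y → R y x) (p : α → Bool)
    (L : List α) (h0 : (L.filter (fun x => !p x)).Pairwise R) (h1 : (L.filter p).Pairwise R)
    (h01 : ∀ x ∈ L, ∀ y ∈ L, p x = false → p y = true → R x y) : L.Pairwise R := by
  induction L with
  | nil => exact List.Pairwise.nil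
  | cons a t ih =>
    rw [List.pairwise_cons]
    by_cases ha : p a = true
    · have e1 : (a :: t).filter p = a :: t.filter p := by rw [List.filter_cons_of_pos ha]
      have e0 : (a :: t).filter (fun x => !p x) = t.filter (fun x => !p x) := by
        rw [List.filter_cons_of_neg (by simp [ha])]
      rw [e1, List.pairwise_cons] at h1
      rw [e0] at h0
      refine ⟨fun y hy => ?_, ih h0 h1.2 (fun x hx y hy => h01 x (List.mem_cons_of_mem _ hx) y
        (List.mem_cons_of_mem _ hy))⟩
      by_cases hy' : p y = true
      · exact h1.1 y (List.mem_filter.mpr ⟨hy, hy'⟩)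
      · exact hR _ _ (h01 y (List.mem_cons_of_mem _ hy) a List.mem_cons_self (by simpa using hy') ha)
    · have ha' : p a = false := by simpa using ha
      have e1 : (a :: t).filter p = t.filter p := by rw [List.filter_cons_of_neg ha]
      have e0 : (a :: t).filter (fun x => !p x) = a :: t.filter (fun x => !p x) := by
        rw [List.filter_cons_of_pos (by simp [ha'])]
      rw [e0, List.pairwise_cons] at h0
      rw [e1] at h1
      refine ⟨fun y hy => ?_, ih h0.2 h1 (fun x hx y hy => h01 x (List.mem_cons_of_mem _ hx) y
        (List.mem_cons_of_mem _ hy))⟩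
      by_cases hy' : p y = true
      · exact h01 a List.mem_cons_self y (List.mem_cons_of_mem _ hy) ha' hy'
      · exact h0.1 y (List.mem_filter.mpr ⟨hy, by simpa using hy'⟩)

/-- distinctness check: partition by bits -/
def radixNodup : ℕ → List ℕ → Bool
  | 0, L => decide (L.length ≤ 1)
  | b + 1, L =>
    match L with
    | [] => true
    | [_] => true
    | x :: y :: t =>
      radixNodup b ((x :: y :: t).filter (fun z => !z.testBit b)) &&
        radixNodup b ((x :: y :: t).filter (fun z => z.testBit b))

theorem pairwise_short {α : Type*} (R : α → α → Prop) (L : List α) (h : L.length ≤ 1) : L.Pairwise R := by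
  match L, h with
  | [], _ => exact List.Pairwise.nil
  | [a], _ => exact List.pairwise_singleton R a

theorem radixNodup_sound (b : ℕ) (L : List ℕ) (h : radixNodup b L = true) :
    L.Pairwise (fun x y => ∃ i < b, x.testBit i ≠ y.testBit i) := by
  induction b generalizing L with
  | zero =>
    rw [radixNodup, decide_eq_true_iff] at h
    exact pairwise_short _ L h
  | succ b ih =>
    match L, h with
    | [], _ => exact List.Pairwise.nil
    | [a], _ => exact List.pairwise_singleton _ a
    | x :: y :: t, h =>
      rw [radixNodup, Bool.and_eq_true] at h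
      have h0 := ih _ h.1
      have h1 := ih _ h.2
      apply pairwise_of_filter _ _ (fun z => z.testBit b)
      · exact h0.imp (fun ⟨i, hi, hne⟩ => ⟨i, by omega, hne⟩)
      · exact h1.imp (fun ⟨i, hi, hne⟩ => ⟨i, by omega, hne⟩)
      · intro u _ v _ hu hv
        exact ⟨b, by omega, by rw [hu, hv]; simp⟩
      · rintro u v ⟨i, hi, hne⟩
        exact ⟨i, hi, hne.symm⟩

theorem nodup_of_radix (b : ℕ) (L : List ℕ) (h : radixNodup b L = true) : L.Nodup := by
  have := radixNodup_sound b L h
  exact this.imp (fun ⟨i, _, hne⟩ he => hne (by rw [he]))

/-- an encoding of coordinate lists by numbers -/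
def encL (l : List ℤ) : ℕ := l.foldl (fun acc c => acc * 16 + (c + 8).toNat) 0

/-- the encoding of a vector -/
def encV (f : GolayPt → ℤ) : ℕ := encL (listOf f)

/-- **Completeness of an enumerated orbit.** -/
theorem orbit_complete {refs : List (List ℤ)} {gens : List (List Prim)} (hg : ∀ w ∈ gens, GoodWord refs w)
    (root : List ℤ) (instrs : List ℕ) (X : Set (GolayPt → ℤ)) (N : ℕ) (hN : X.ncard = N)
    (hroot : vecOf root ∈ X) (hinv : ∀ a b, Reach refs a b → vecOf a ∈ X → vecOf b ∈ X)
    (hlen : (orun gens root instrs).out.length = N)
    (hnd : radixNodup 96 ((orun gens root instrs).out.map (fun x => encV (vecOf x))) = true) :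
    ∀ y ∈ X, ∃ x, vecOf x = y ∧ Reach refs root x := by
  set L := (orun gens root instrs).out with hL
  have hnd' : (L.map vecOf).Nodup := by
    have h1 := nodup_of_radix _ _ hnd
    have e : L.map (fun x => encV (vecOf x)) = (L.map vecOf).map encV := by
      rw [List.map_map]; rfl
    rw [e] at h1
    exact List.Nodup.of_map _ h1
  have hsound := orun_sound hg root instrs
  have hsub : (↑(L.map vecOf).toFinset : Set (GolayPt → ℤ)) ⊆ X := by
    intro y hy
    rw [Finset.mem_coe, List.mem_toFinset, List.mem_map] at hy
    obtain ⟨x, hx, rfl⟩ := hy
    exact hinv root x (hsound x hx) hroot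
  have hcard : (L.map vecOf).toFinset.card = N := by
    rw [List.toFinset_card_of_nodup hnd', List.length_map, hlen]
  have hNpos : 0 < N := by
    rw [← hN]
    have hfin : X.Finite := by
      by_contra hinf
      have h0 : X.ncard = 0 := Set.Infinite.ncard hinf
      have : (↑(L.map vecOf).toFinset : Set (GolayPt → ℤ)).Infinite := by
        exfalso
        rw [h0] at hN
        rw [← hN] at hlen
        have : L = [] := List.length_eq_zero_iff.mp hlen
        have hr := hsound
        -- the root is always in the output; contradiction below
        exact absurd hlen (by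
          intro hl
          have h1 : (orun gens root instrs).out ≠ [] := by
            suffices h : ∀ (instrs : List ℕ) (s : OState), s.out ≠ [] →
                (instrs.foldl (ostep gens) s).out ≠ [] from h instrs ⟨[root], [root]⟩ (by simp)
            intro instrs
            induction instrs with
            | nil => intro s hs; exact hs
            | cons i instrs ih =>
              intro s hs
              rw [List.foldl_cons]
              apply ih
              cases i with
              | zero => exact hs
              | succ k =>
                rcases hst : s.stack with _ | ⟨v, rest⟩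
                · simp only [ostep, hst]; exact hs
                · simp only [ostep, hst]; exact List.cons_ne_nil _ _
          exact h1 this)
      exact absurd (Finset.finite_toSet _) this
    exact (Set.ncard_pos hfin).mpr ⟨_, hroot⟩
  have hfin : X.Finite := Set.finite_of_ncard_pos (by rw [hN]; exact hNpos)
  have heq : (↑(L.map vecOf).toFinset : Set (GolayPt → ℤ)) = X := by
    apply Set.eq_of_subset_of_ncard_le hsub _ hfin
    rw [Set.ncard_coe_finset, hcard, hN]
  intro y hy
  rw [← heq, Finset.mem_coe, List.mem_toFinset, List.mem_map] at hy
  obtain ⟨x, hx, rfl⟩ := hy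
  exact ⟨x, rfl, hsound x hx⟩

end Cfsg.Agent.Lib.Helper6.Leech
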