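import Cfsg.Agent.Lib.Helper6.LeechOrbit2
import Cfsg.Agent.Lib.Helper6.LeechCensus

/-!
# Orbit certificates: packed instruction streams, generator checks, and transitivity of a
vector stabiliser on a census set
-/

set_option autoImplicit false

namespace Cfsg.Agent.Lib.Helper6.Leech

open Cfsg
open Cfsg.Agent.Lib.Helper6.Golay

/-- unpack 32 four-bit instructions from each number -/
def unpack (chunks : List ℕ) : List ℕ :=
  chunks.flatMap (fun c => (List.range 32).map (fun i => (c >>> (4 * i)) &&& 15))

/-- the permutations produced by a straight-line program from the three generators -/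
def slpPerms (prog : List (ℕ × ℕ)) : List (List ℕ) := slpRun [alphaL, gammaL, deltaL] prog

theorem rep_slpPerms (prog : List (ℕ × ℕ)) (k : ℕ) : Rep M24 ((slpPerms prog).getD k idl) := by
  apply rep_getD
  apply rep_slpRun
  intro l hl
  have h := rep_EL hasGens_M24
  have h3 : ∀ l ∈ [alphaL, gammaL, deltaL], l ∈ EL := by
    intro l hl
    rw [EL, slpRun]
    have : ∀ (prog : List (ℕ × ℕ)) (acc : List (List ℕ)), l ∈ acc → l ∈ prog.foldl slpStep acc := by
      intro prog
      induction prog with
      | nil => intro acc h; exact h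
      | cons ij prog ih =>
        intro acc h
        rw [List.foldl_cons]
        exact ih _ (by rw [slpStep]; exact List.mem_append_left _ h)
    exact this _ _ hl
  exact h l (h3 l hl)

/-- a Boolean validity check of a primitive against a list of certified permutations -/
def Prim.check (perms : List (List ℕ)) : Prim → Bool
  | .perm l => perms.contains l
  | .sign m => decide (m < 2 ^ 24) && inCode m
  | .xi => true
  | .xi' => true

theorem Prim.valid_of_check {perms : List (List ℕ)} (hperms : ∀ l ∈ perms, Rep M24 l) (p : Prim)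
    (h : p.check perms = true) : p.Valid := by
  cases p with
  | perm l =>
    simp only [Prim.check, List.contains_iff_mem] at h
    exact hperms l h
  | sign m =>
    simp only [Prim.check, Bool.and_eq_true, decide_eq_true_eq] at h
    exact h
  | xi => trivial
  | xi' => trivial

/-- Boolean check of a list of generator words -/
def checkGens (perms : List (List ℕ)) (refs : List (List ℤ)) (gens : List (List Prim)) : Bool :=
  gens.all (fun w => w.all (fun p => p.check perms) && refs.all (fun r => actW w r == r))

theorem goodWord_of_checkGens {perms : List (List ℕ)} (hperms : ∀ l ∈ perms, Rep M24 l)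
    {refs : List (List ℤ)} {gens : List (List Prim)} (h : checkGens perms refs gens = true) :
    ∀ w ∈ gens, GoodWord refs w := by
  intro w hw
  rw [checkGens, List.all_eq_true] at h
  have hw' := h w hw
  rw [Bool.and_eq_true, List.all_eq_true, List.all_eq_true] at hw'
  refine ⟨fun p hp => Prim.valid_of_check hperms p (hw'.1 p hp), fun r hr => ?_⟩
  have := hw'.2 r hr
  rw [beq_iff_eq] at this
  rw [this]

/-- the full Boolean orbit check -/
def checkOrbit (gens : List (List Prim)) (root : List ℤ) (chunks : List ℕ) (N : ℕ) : Bool :=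
  let out := (orun gens root (unpack chunks)).out
  decide (out.length = N) && radixNodup 96 (out.map (fun x => encV (vecOf x)))

/-- **Transitivity of the stabiliser of a vector on a census set, from an orbit certificate.** -/
theorem stab_transitive_of_cert {perms : List (List ℕ)} (hperms : ∀ l ∈ perms, Rep M24 l)
    (r : List ℤ) (hr : vecOf r ∈ leechLattice) (gens : List (List Prim))
    (hgens : checkGens perms [r] gens = true) (root : List ℤ) (chunks : List ℕ) (k : ℤ) (N : ℕ)
    (hN : (census (vecOf r) k).ncard = N) (hroot : vecOf root ∈ census (vecOf r) k)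
    (hchk : checkOrbit gens root chunks N = true)
    (w w' : leechLattice) (hw : (w : GolayPt → ℤ) ∈ census (vecOf r) k)
    (hw' : (w' : GolayPt → ℤ) ∈ census (vecOf r) k) :
    ∃ g : Co0, g.1 ⟨vecOf r, hr⟩ = ⟨vecOf r, hr⟩ ∧ g.1 w = w' := by
  have hg := goodWord_of_checkGens hperms hgens
  rw [checkOrbit, Bool.and_eq_true, decide_eq_true_iff] at hchk
  have hinv : ∀ a b, Reach [r] a b → vecOf a ∈ census (vecOf r) k → vecOf b ∈ census (vecOf r) k := by
    rintro a b ⟨g, hfix, hab⟩ ⟨ha, han, had⟩
    have hb := hab ha
    have hfix' := hfix r List.mem_cons_self hr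
    refine ⟨?_, ?_, ?_⟩
    · rw [← hb]; exact (g.1 ⟨vecOf a, ha⟩).2
    · rw [← hb, co0_norm]; exact han
    · have := co0_dot g ⟨vecOf r, hr⟩ ⟨vecOf a, ha⟩
      rw [hfix', hb] at this
      rw [this]; exact had
  have hcomp := orbit_complete hg root (unpack chunks) (census (vecOf r) k) N hN hroot hinv hchk.1 hchk.2
  obtain ⟨x, hx, g1, hf1, h1⟩ := hcomp _ hw
  obtain ⟨x', hx', g2, hf2, h2⟩ := hcomp _ hw'
  have hrootL : vecOf root ∈ leechLattice := hroot.1
  have e1 : g1.1 ⟨vecOf root, hrootL⟩ = w := Subtype.ext ((h1 hrootL).trans hx)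
  have e2 : g2.1 ⟨vecOf root, hrootL⟩ = w' := Subtype.ext ((h2 hrootL).trans hx')
  have f1 := hf1 r List.mem_cons_self hr
  have f2 := hf2 r List.mem_cons_self hr
  refine ⟨g2 * g1⁻¹, ?_, ?_⟩
  · show g2.1 (g1⁻¹.1 ⟨vecOf r, hr⟩) = _
    have : g1⁻¹.1 ⟨vecOf r, hr⟩ = ⟨vecOf r, hr⟩ := by
      show g1.1.symm ⟨vecOf r, hr⟩ = _
      rw [Equiv.symm_apply_eq, f1]
    rw [this, f2]
  · show g2.1 (g1⁻¹.1 w) = _
    have : g1⁻¹.1 w = ⟨vecOf root, hrootL⟩ := by
      show g1.1.symm w = _
      rw [Equiv.symm_apply_eq, e1]
    rw [this, e2]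

end Cfsg.Agent.Lib.Helper6.Leech
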