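import Cfsg.Agent.Lib.Helper6.LeechOrbit3

/-!
# Orbit certificates modulo sign changes: representatives and triangular bases of sign changes
-/

set_option autoImplicit false

namespace Cfsg.Agent.Lib.Helper6.Leech

open Cfsg
open Cfsg.Agent.Lib.Helper6.Golay

/-- reachability on vectors under automorphisms fixing the reference vectors -/
def ReachF (refs : List (List ℤ)) (x y : GolayPt → ℤ) : Prop :=
  ∃ g : Co0, (∀ r ∈ refs, ∀ hr : vecOf r ∈ leechLattice, g.1 ⟨vecOf r, hr⟩ = ⟨vecOf r, hr⟩) ∧
    ∀ hx : x ∈ leechLattice, ((g.1 ⟨x, hx⟩ : leechLattice) : GolayPt → ℤ) = y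

theorem reach_iff (refs : List (List ℤ)) (a b : List ℤ) :
    Reach refs a b ↔ ReachF refs (vecOf a) (vecOf b) := Iff.rfl

theorem ReachF.refl (refs : List (List ℤ)) (x : GolayPt → ℤ) : ReachF refs x x :=
  ⟨1, fun _ _ _ => rfl, fun _ => rfl⟩

theorem ReachF.trans {refs : List (List ℤ)} {x y z : GolayPt → ℤ} (h1 : ReachF refs x y)
    (h2 : ReachF refs y z) : ReachF refs x z := by
  obtain ⟨g1, f1, e1⟩ := h1
  obtain ⟨g2, f2, e2⟩ := h2
  refine ⟨g2 * g1, fun r hr hrr => ?_, fun hx => ?_⟩
  · show g2.1 (g1.1 ⟨vecOf r, hrr⟩) = _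
    rw [f1 r hr hrr, f2 r hr hrr]
  · have hy : y ∈ leechLattice := by rw [← e1 hx]; exact (g1.1 ⟨x, hx⟩).2
    have e : g1.1 ⟨x, hx⟩ = ⟨y, hy⟩ := Subtype.ext (e1 hx)
    show ((g2.1 (g1.1 ⟨x, hx⟩) : leechLattice) : GolayPt → ℤ) = _
    rw [e, e2 hy]

theorem vecOf_act_sign (b : ℕ) (r : List ℤ) :
    vecOf (Prim.act (.sign b) r) = signF (fs b) (vecOf r) := by
  funext p
  rw [Prim.act_sign]
  exact vecOf_sign b r p

theorem reachF_sign {refs : List (List ℤ)} {b : ℕ} (hb : GoodWord refs [.sign b]) (x : GolayPt → ℤ) :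
    ReachF refs x (signF (fs b) x) := by
  obtain ⟨hv, hfix⟩ := hb
  obtain ⟨hlt, hc⟩ := hv (.sign b) List.mem_cons_self
  refine ⟨signC (fs b) (isC_fs hlt hc), fun r hr hrr => ?_, fun hx => rfl⟩
  apply Subtype.ext
  show signF (fs b) (vecOf r) = vecOf r
  have h1 : vecOf (Prim.act (.sign b) r) = vecOf r := hfix r hr
  rw [← vecOf_act_sign, h1]

/-- the orbit of a vector under the sign changes generated by a list of masks -/
def signOrbit : List ℕ → (GolayPt → ℤ) → List (GolayPt → ℤ)
  | [], x => [x]
  | b :: t, x => signOrbit t x ++ (signOrbit t x).map (signF (fs b))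

theorem length_signOrbit (B : List ℕ) (x : GolayPt → ℤ) : (signOrbit B x).length = 2 ^ B.length := by
  induction B with
  | nil => rfl
  | cons b t ih =>
    rw [signOrbit, List.length_append, List.length_map, ih, List.length_cons, pow_succ]
    ring

theorem reachF_signOrbit {refs : List (List ℤ)} (B : List ℕ) (hB : ∀ b ∈ B, GoodWord refs [.sign b])
    (x : GolayPt → ℤ) : ∀ y ∈ signOrbit B x, ReachF refs x y := by
  induction B with
  | nil =>
    intro y hy
    rw [signOrbit, List.mem_singleton] at hy
    subst hy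
    exact ReachF.refl refs y
  | cons b t ih =>
    intro y hy
    rw [signOrbit, List.mem_append, List.mem_map] at hy
    have iht := ih (fun b' hb' => hB b' (List.mem_cons_of_mem _ hb'))
    rcases hy with hy | ⟨z, hz, rfl⟩
    · exact iht y hy
    · exact (iht z hz).trans (reachF_sign (hB b List.mem_cons_self) z)

theorem abs_signF (c : Finset GolayPt) (x : GolayPt → ℤ) (p : GolayPt) : |signF c x p| = |x p| := by
  rw [signF]; split_ifs
  · exact abs_neg _
  · rfl

theorem abs_signOrbit (B : List ℕ) (x : GolayPt → ℤ) : ∀ y ∈ signOrbit B x, ∀ p, |y p| = |x p| := by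
  induction B with
  | nil =>
    intro y hy p
    rw [signOrbit, List.mem_singleton] at hy
    rw [hy]
  | cons b t ih =>
    intro y hy p
    rw [signOrbit, List.mem_append, List.mem_map] at hy
    rcases hy with hy | ⟨z, hz, rfl⟩
    · exact ih y hy p
    · rw [abs_signF]; exact ih z hz p

theorem apply_signOrbit_of_not_mem (B : List ℕ) (x : GolayPt → ℤ) (p : GolayPt)
    (hp : ∀ b ∈ B, p ∉ fs b) : ∀ y ∈ signOrbit B x, y p = x p := by
  induction B with
  | nil =>
    intro y hy
    rw [signOrbit, List.mem_singleton] at hy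
    rw [hy]
  | cons b t ih =>
    intro y hy
    have iht := ih (fun b' hb' => hp b' (List.mem_cons_of_mem _ hb'))
    rw [signOrbit, List.mem_append, List.mem_map] at hy
    rcases hy with hy | ⟨z, hz, rfl⟩
    · exact iht y hy
    · rw [signF, if_neg (hp b List.mem_cons_self)]; exact iht z hz

/-- triangular pivots: each mask contains its pivot, the vector is nonzero there, and no later mask
contains it -/
def pivotOK (r : List ℤ) : List (ℕ × ℕ) → Bool
  | [] => true
  | bp :: t => bp.1.testBit bp.2 && decide (bp.2 < 24) && decide (r.getD bp.2 0 ≠ 0) &&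
      t.all (fun bp' => !bp'.1.testBit bp.2) && pivotOK r t

theorem signF_injective (c : Finset GolayPt) : Function.Injective (signF c) := by
  intro x y h
  have := congrArg (signF c) h
  rwa [signF_signF, signF_signF] at this

theorem nodup_signOrbit (r : List ℤ) (BP : List (ℕ × ℕ)) (h : pivotOK r BP = true) :
    (signOrbit (BP.map Prod.fst) (vecOf r)).Nodup := by
  induction BP with
  | nil => simp [signOrbit]
  | cons bp t ih =>
    simp only [pivotOK, Bool.and_eq_true, decide_eq_true_eq, List.all_eq_true, Bool.not_eq_true'] at h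
    obtain ⟨⟨⟨⟨h1, h2⟩, h3⟩, h4⟩, h5⟩ := h
    rw [List.map_cons, signOrbit]
    have iht := ih h5
    rw [List.nodup_append]
    refine ⟨iht, iht.map (signF_injective _), ?_⟩
    intro y hy z hz hyz
    rw [List.mem_map] at hz
    obtain ⟨z', hz', rfl⟩ := hz
    have hp : ∀ b ∈ t.map Prod.fst, pt bp.2 ∉ fs b := by
      intro b hb
      rw [List.mem_map] at hb
      obtain ⟨bp', hbp', rfl⟩ := hb
      rw [mem_fs, idx_pt _ h2, h4 bp' hbp']
      simp
    have e1 := apply_signOrbit_of_not_mem _ (vecOf r) (pt bp.2) hp y hy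
    have e2 := apply_signOrbit_of_not_mem _ (vecOf r) (pt bp.2) hp z' hz'
    have e3 : signF (fs bp.1) z' (pt bp.2) = -z' (pt bp.2) := by
      rw [signF, if_pos]
      rw [mem_fs, idx_pt _ h2]; exact h1
    have e4 := congrFun hyz (pt bp.2)
    rw [e3, e1, e2] at e4
    have e5 : vecOf r (pt bp.2) ≠ 0 := by
      rw [vecOf, idx_pt _ h2]; exact h3
    omega

/-- pack a list of numbers, four bits each (first entry most significant) -/
def packN (l : List ℕ) : ℕ := l.foldl (fun acc d => Nat.add (Nat.mul acc 16) d) 0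

/-- a digit of the key -/
def keyDigit (fixmask : ℕ) (j : ℕ) (c : ℤ) : ℕ := if fixmask.testBit j = true then nib c else c.natAbs

/-- the key of a vector: its values at the positions of `fixmask`, its absolute values elsewhere -/
def keyF (fixmask : ℕ) (f : GolayPt → ℤ) : ℕ :=
  packN ((List.range 24).map (fun j => keyDigit fixmask j (f (pt j))))

theorem keyF_congr {fixmask : ℕ} {f g : GolayPt → ℤ} (h1 : ∀ p, |f p| = |g p|)
    (h2 : ∀ p, fixmask.testBit (idx p) = true → f p = g p) : keyF fixmask f = keyF fixmask g := by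
  rw [keyF, keyF]
  congr 1
  apply List.map_congr_left
  intro j hj
  rw [List.mem_range] at hj
  rw [keyDigit, keyDigit]
  split_ifs with h
  · rw [h2 (pt j) (by rw [idx_pt j hj]; exact h)]
  · have := h1 (pt j)
    rw [Int.abs_eq_natAbs, Int.abs_eq_natAbs] at this
    exact_mod_cast this

/-- fast version of `pivotOK` on a packed list -/
def pivotOKN (n : ℕ) : List (ℕ × ℕ) → Bool
  | [] => true
  | bp :: t => bp.1.testBit bp.2 && decide (bp.2 < 24) && decide (dig n bp.2 ≠ 0) &&
      t.all (fun bp' => !bp'.1.testBit bp.2) && pivotOKN n t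

theorem pivotOKN_eq (r : List ℤ) (h : fits r = true) (BP : List (ℕ × ℕ)) :
    pivotOKN (packL r) BP = pivotOK r BP := by
  induction BP with
  | nil => rfl
  | cons bp t ih => rw [pivotOKN, pivotOK, ih, dig_packL r h]

/-- `pivotOK` with a fast path -/
def pivotOK' (r : List ℤ) (BP : List (ℕ × ℕ)) : Bool :=
  if fits r = true then pivotOKN (packL r) BP else pivotOK r BP

theorem pivotOK'_eq (r : List ℤ) (BP : List (ℕ × ℕ)) : pivotOK' r BP = pivotOK r BP := by
  rw [pivotOK']
  split_ifs with h
  · exact pivotOKN_eq r h BP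
  · rfl

/-- fast version of the key on a packed list -/
def keyL (fixmask : ℕ) (n : ℕ) : ℕ :=
  packN ((List.range 24).map (fun j => if fixmask.testBit j = true then rawnib n j else
    if rawnib n j < 8 then rawnib n j else Nat.sub 16 (rawnib n j)))

theorem keyL_eq (fixmask : ℕ) (r : List ℤ) (h : fits r = true) :
    keyL fixmask (packL r) = keyF fixmask (vecOf r) := by
  rw [keyL, keyF]
  congr 1
  apply List.map_congr_left
  intro j hj
  rw [List.mem_range] at hj
  rw [rawnib_packL, keyDigit, vecOf, idx_pt j hj]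
  have hb := getD_bounds_of_fits r h j
  split_ifs with h1 h2
  · rfl
  · unfold nib at h2 ⊢; omega
  · unfold nib at h2 ⊢
    show 16 - (r.getD j 0 % 16).toNat = _
    omega

/-- the key with a fast path -/
def keyF' (fixmask : ℕ) (r : List ℤ) : ℕ :=
  if fits r = true then keyL fixmask (packL r) else keyF fixmask (vecOf r)

theorem keyF'_eq (fixmask : ℕ) (r : List ℤ) : keyF' fixmask r = keyF fixmask (vecOf r) := by
  rw [keyF']
  split_ifs with h
  · exact keyL_eq fixmask r h
  · rfl

/-- the Boolean check of the sign data of the representatives -/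
def checkSigns (perms : List (List ℕ)) (refs : List (List ℤ)) (fixmask : ℕ) (reps : List (List ℤ))
    (bases : List (List (ℕ × ℕ))) (N : ℕ) : Bool :=
  decide (reps.length = bases.length) &&
  (reps.zip bases).all (fun rb => checkGens perms refs (rb.2.map (fun bp => [Prim.sign bp.1])) &&
    pivotOK' rb.1 rb.2 && rb.2.all (fun bp => bp.1 &&& fixmask == 0)) &&
  radixNodup 40 (reps.map (fun r => keyF' fixmask r % 1099511627689)) &&
  decide ((bases.map (fun BP => 2 ^ BP.length)).sum = N)

/-- the list of all vectors described by representatives and sign bases -/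
def allVecs (reps : List (List ℤ)) (bases : List (List (ℕ × ℕ))) : List (GolayPt → ℤ) :=
  (reps.zip bases).flatMap (fun rb => signOrbit (rb.2.map Prod.fst) (vecOf rb.1))

theorem length_allVecs (reps : List (List ℤ)) (bases : List (List (ℕ × ℕ))) (h : reps.length = bases.length) :
    (allVecs reps bases).length = (bases.map (fun BP => 2 ^ BP.length)).sum := by
  induction reps generalizing bases with
  | nil =>
    cases bases with
    | nil => rfl
    | cons _ _ => simp at h
  | cons r reps ih =>
    cases bases with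
    | nil => simp at h
    | cons BP bases =>
      simp only [List.length_cons, add_left_inj] at h
      rw [allVecs, List.zip_cons_cons, List.flatMap_cons, List.length_append, List.map_cons,
        List.sum_cons, length_signOrbit, List.length_map]
      congr 1
      exact ih bases h

theorem not_mem_fs_of_and_eq_zero {b fixmask : ℕ} (h : b &&& fixmask = 0) {p : GolayPt}
    (hp : fixmask.testBit (idx p) = true) : p ∉ fs b := by
  rw [mem_fs]
  intro hb
  have := Nat.testBit_and b fixmask (idx p)
  rw [h, hb, hp] at this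
  simp at this

theorem nodup_allVecs (fixmask : ℕ) (reps : List (List ℤ)) (bases : List (List (ℕ × ℕ)))
    (hp : ∀ rb ∈ reps.zip bases, pivotOK rb.1 rb.2 = true)
    (hf : ∀ rb ∈ reps.zip bases, ∀ bp ∈ rb.2, bp.1 &&& fixmask = 0)
    (hk : (reps.map (fun r => keyF fixmask (vecOf r))).Nodup) : (allVecs reps bases).Nodup := by
  induction reps generalizing bases with
  | nil => simp [allVecs]
  | cons r reps ih =>
    cases bases with
    | nil => simp [allVecs]
    | cons BP bases =>
      rw [allVecs, List.zip_cons_cons, List.flatMap_cons, List.nodup_append]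
      rw [List.map_cons, List.nodup_cons] at hk
      have hsub : ∀ rb ∈ reps.zip bases, rb ∈ (r :: reps).zip (BP :: bases) := by
        intro rb hrb
        rw [List.zip_cons_cons]; exact List.mem_cons_of_mem _ hrb
      refine ⟨nodup_signOrbit r BP (hp (r, BP) (by simp)),
        ih bases (fun rb hrb => hp rb (hsub rb hrb)) (fun rb hrb => hf rb (hsub rb hrb)) hk.2, ?_⟩
      intro y hy z hz hyz
      rw [List.mem_flatMap] at hz
      obtain ⟨rb, hrb, hz⟩ := hz
      apply hk.1
      rw [List.mem_map]
      refine ⟨rb.1, (List.of_mem_zip hrb).1, ?_⟩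
      have key : ∀ (r' : List ℤ) (BP' : List (ℕ × ℕ)), (∀ bp ∈ BP', bp.1 &&& fixmask = 0) →
          ∀ y' ∈ signOrbit (BP'.map Prod.fst) (vecOf r'), ∀ p, fixmask.testBit (idx p) = true →
          y' p = vecOf r' p := by
        intro r' BP' hBP' y' hy' p hpp
        apply apply_signOrbit_of_not_mem _ _ p _ y' hy'
        intro b hb
        rw [List.mem_map] at hb
        obtain ⟨bp, hbp, rfl⟩ := hb
        exact not_mem_fs_of_and_eq_zero (hBP' bp hbp) hpp
      apply keyF_congr
      · intro p
        have e1 := abs_signOrbit _ _ y hy p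
        have e2 := abs_signOrbit _ _ z hz p
        rw [← e2, ← hyz, e1]
      · intro p hpp
        have e1 := key r BP (hf (r, BP) (by simp)) y hy p hpp
        have e2 := key rb.1 rb.2 (hf rb (hsub rb hrb)) z hz p hpp
        rw [← e2, ← hyz, e1]

/-- **Completeness of an orbit enumerated modulo sign changes.** -/
theorem orbit_complete_signs {perms : List (List ℕ)} (hperms : ∀ l ∈ perms, Rep M24 l)
    {refs : List (List ℤ)} {gens : List (List Prim)} (hgens : checkGens perms refs gens = true)
    (fixmask : ℕ) (root : List ℤ) (chunks : List ℕ) (bases : List (List (ℕ × ℕ))) (X : Set (GolayPt → ℤ))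
    (N : ℕ) (hN : X.ncard = N) (hN0 : 0 < N)
    (hroot : vecOf root ∈ X) (hinv : ∀ x y, ReachF refs x y → x ∈ X → y ∈ X)
    (hchk : checkSigns perms refs fixmask (orun gens root (unpack chunks)).out bases N = true) :
    ∀ y ∈ X, ReachF refs (vecOf root) y := by
  set reps := (orun gens root (unpack chunks)).out with hreps
  simp only [checkSigns, pivotOK'_eq, keyF'_eq, Bool.and_eq_true, decide_eq_true_eq, List.all_eq_true,
    beq_iff_eq] at hchk
  obtain ⟨⟨⟨hlen, hall⟩, hrad⟩, hsum⟩ := hchk
  have hg := goodWord_of_checkGens hperms hgens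
  have hsound := orun_sound hg root (unpack chunks)
  have hnd : (allVecs reps bases).Nodup :=
    nodup_allVecs fixmask reps bases (fun rb hrb => (hall rb hrb).1.2) (fun rb hrb => (hall rb hrb).2)
      (by
        have h1 := nodup_of_radix _ _ hrad
        have e : reps.map (fun r => keyF fixmask (vecOf r) % 1099511627689) =
            (reps.map (fun r => keyF fixmask (vecOf r))).map (fun k => k % 1099511627689) := by
          rw [List.map_map]; rfl
        rw [e] at h1
        exact List.Nodup.of_map _ h1)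
  have hreach : ∀ y ∈ allVecs reps bases, ReachF refs (vecOf root) y := by
    intro y hy
    rw [allVecs, List.mem_flatMap] at hy
    obtain ⟨rb, hrb, hy⟩ := hy
    have h1 : ReachF refs (vecOf root) (vecOf rb.1) := hsound rb.1 (List.of_mem_zip hrb).1
    have hB : ∀ b ∈ rb.2.map Prod.fst, GoodWord refs [.sign b] := by
      intro b hb
      rw [List.mem_map] at hb
      obtain ⟨bp, hbp, rfl⟩ := hb
      apply goodWord_of_checkGens hperms (hall rb hrb).1.1
      rw [List.mem_map]
      exact ⟨bp, hbp, rfl⟩
    exact h1.trans (reachF_signOrbit _ hB _ y hy)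
  have hsub : (↑(allVecs reps bases).toFinset : Set (GolayPt → ℤ)) ⊆ X := by
    intro y hy
    rw [Finset.mem_coe, List.mem_toFinset] at hy
    exact hinv _ _ (hreach y hy) hroot
  have hcard : (allVecs reps bases).toFinset.card = N := by
    rw [List.toFinset_card_of_nodup hnd, length_allVecs reps bases hlen, hsum]
  have hfin : X.Finite := Set.finite_of_ncard_pos (by rw [hN]; exact hN0)
  have heq : (↑(allVecs reps bases).toFinset : Set (GolayPt → ℤ)) = X := by
    apply Set.eq_of_subset_of_ncard_le hsub _ hfin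
    rw [Set.ncard_coe_finset, hcard, hN]
  intro y hy
  rw [← heq, Finset.mem_coe, List.mem_toFinset] at hy
  exact hreach y hy

end Cfsg.Agent.Lib.Helper6.Leech

namespace Cfsg.Agent.Lib.Helper6.Leech

open Cfsg
open Cfsg.Agent.Lib.Helper6.Golay

/-- **Transitivity of the stabiliser of a vector on a census set, from a certificate modulo signs.** -/
theorem stab_transitive_of_signs {perms : List (List ℕ)} (hperms : ∀ l ∈ perms, Rep M24 l)
    (r : List ℤ) (hr : vecOf r ∈ leechLattice) (gens : List (List Prim))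
    (hgens : checkGens perms [r] gens = true) (fixmask : ℕ) (root : List ℤ) (chunks : List ℕ)
    (bases : List (List (ℕ × ℕ))) (k : ℤ) (N : ℕ)
    (hN : (census (vecOf r) k).ncard = N) (hN0 : 0 < N) (hroot : vecOf root ∈ census (vecOf r) k)
    (hchk : checkSigns perms [r] fixmask (orun gens root (unpack chunks)).out bases N = true)
    (w w' : leechLattice) (hw : (w : GolayPt → ℤ) ∈ census (vecOf r) k)
    (hw' : (w' : GolayPt → ℤ) ∈ census (vecOf r) k) :
    ∃ g : Co0, g.1 ⟨vecOf r, hr⟩ = ⟨vecOf r, hr⟩ ∧ g.1 w = w' := by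
  have hinv : ∀ x y, ReachF [r] x y → x ∈ census (vecOf r) k → y ∈ census (vecOf r) k := by
    rintro x y ⟨g, hfix, hxy⟩ ⟨hx, hxn, hxd⟩
    have hy := hxy hx
    have hfix' := hfix r List.mem_cons_self hr
    refine ⟨?_, ?_, ?_⟩
    · rw [← hy]; exact (g.1 ⟨x, hx⟩).2
    · rw [← hy, co0_norm]; exact hxn
    · have := co0_dot g ⟨vecOf r, hr⟩ ⟨x, hx⟩
      rw [hfix', hy] at this
      rw [this]; exact hxd
  have hcomp := orbit_complete_signs hperms hgens fixmask root chunks bases (census (vecOf r) k) N hN hN0
    hroot hinv hchk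
  obtain ⟨g1, hf1, h1⟩ := hcomp _ hw
  obtain ⟨g2, hf2, h2⟩ := hcomp _ hw'
  have hrootL : vecOf root ∈ leechLattice := hroot.1
  have e1 : g1.1 ⟨vecOf root, hrootL⟩ = w := Subtype.ext (h1 hrootL)
  have e2 : g2.1 ⟨vecOf root, hrootL⟩ = w' := Subtype.ext (h2 hrootL)
  have f1 := hf1 r List.mem_cons_self hr
  have f2 := hf2 r List.mem_cons_self hr
  refine ⟨g2 * g1⁻¹, ?_, ?_⟩
  · show g2.1 (g1⁻¹.1 ⟨vecOf r, hr⟩) = _
    have : g1⁻¹.1 ⟨vecOf r, hr⟩ = ⟨vecOf r, hr⟩ := by
      show g1.1.symm ⟨vecOf r, hr⟩ = _
      rw [Equiv.symm_apply_eq, f1]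
    rw [this, f2]
  · show g2.1 (g1⁻¹.1 w) = _
    have : g1⁻¹.1 w = ⟨vecOf root, hrootL⟩ := by
      show g1.1.symm w = _
      rw [Equiv.symm_apply_eq, e1]
    rw [this, e2]

end Cfsg.Agent.Lib.Helper6.Leech

namespace Cfsg.Agent.Lib.Helper6.Leech

/-- decode a packed sign basis: 29 bits per entry (24-bit mask, 5-bit pivot) -/
def decodeBasis : ℕ → ℕ → List (ℕ × ℕ)
  | 0, _ => []
  | f + 1, n => if n = 0 then [] else
      ((n &&& 536870911) >>> 5, n &&& 31) :: decodeBasis f (n >>> 29)

end Cfsg.Agent.Lib.Helper6.Leech
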