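import Cfsg.Agent.Lib.Helper6.LeechOrbit4

/-!
# Orbit certificates modulo sign changes, split into chunks (each chunk is checked by a separate
kernel computation)
-/

set_option autoImplicit false

namespace Cfsg.Agent.Lib.Helper6.Leech

open Cfsg
open Cfsg.Agent.Lib.Helper6.Golay

/-- all vectors described by a list of representatives with sign bases -/
def allVecsP (L : List (List ℤ × List (ℕ × ℕ))) : List (GolayPt → ℤ) :=
  L.flatMap (fun rb => signOrbit (rb.2.map Prod.fst) (vecOf rb.1))

theorem length_allVecsP (L : List (List ℤ × List (ℕ × ℕ))) :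
    (allVecsP L).length = (L.map (fun rb => 2 ^ rb.2.length)).sum := by
  induction L with
  | nil => rfl
  | cons rb L ih =>
    rw [allVecsP, List.flatMap_cons, List.length_append, List.map_cons, List.sum_cons, length_signOrbit,
      List.length_map]
    congr 1

theorem nodup_allVecsP (fixmask : ℕ) (L : List (List ℤ × List (ℕ × ℕ)))
    (hp : ∀ rb ∈ L, pivotOK rb.1 rb.2 = true)
    (hf : ∀ rb ∈ L, ∀ bp ∈ rb.2, bp.1 &&& fixmask = 0)
    (hk : (L.map (fun rb => keyF fixmask (vecOf rb.1))).Nodup) : (allVecsP L).Nodup := by
  induction L with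
  | nil => simp [allVecsP]
  | cons rb0 L ih =>
    rw [allVecsP, List.flatMap_cons, List.nodup_append]
    rw [List.map_cons, List.nodup_cons] at hk
    refine ⟨nodup_signOrbit rb0.1 rb0.2 (hp rb0 List.mem_cons_self),
      ih (fun rb hrb => hp rb (List.mem_cons_of_mem _ hrb)) (fun rb hrb => hf rb (List.mem_cons_of_mem _ hrb))
        hk.2, ?_⟩
    intro y hy z hz hyz
    rw [List.mem_flatMap] at hz
    obtain ⟨rb, hrb, hz⟩ := hz
    apply hk.1
    rw [List.mem_map]
    refine ⟨rb, hrb, ?_⟩
    have key : ∀ (r' : List ℤ) (BP' : List (ℕ × ℕ)), (∀ bp ∈ BP', bp.1 &&& fixmask = 0) →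
        ∀ y' ∈ signOrbit (BP'.map Prod.fst) (vecOf r'), ∀ p, fixmask.testBit (idx p) = true →
        y' p = vecOf r' p := by
      intro r' BP' hBP' y' hy' p hpp
      apply apply_signOrbit_of_not_mem _ _ p _ y' hy'
      intro b hb
      rw [List.mem_map] at hb
      obtain ⟨bp, hbp, rfl⟩ := hb
      exact not_mem_fs_of_and_eq_zero (hBP' bp hbp) hpp
    apply keyF_congr
    · intro p
      have e1 := abs_signOrbit _ _ y hy p
      have e2 := abs_signOrbit _ _ z hz p
      rw [← e2, ← hyz, e1]
    · intro p hpp
      have e1 := key rb0.1 rb0.2 (hf rb0 List.mem_cons_self) y hy p hpp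
      have e2 := key rb.1 rb.2 (hf rb (List.mem_cons_of_mem _ hrb)) z hz p hpp
      rw [← e2, ← hyz, e1]

/-- a chunk of an orbit certificate -/
structure Chunk where
  /-- the path from the global root to the root of the chunk -/
  word : List Prim
  /-- packed instructions -/
  cert : List ℕ
  /-- packed sign bases -/
  bases : List ℕ
  /-- hashed keys of the representatives -/
  keys : List ℕ
  /-- the number of vectors described -/
  count : ℕ

/-- the representatives of a chunk -/
def Chunk.reps (gens : List (List Prim)) (root : List ℤ) (c : Chunk) : List (List ℤ) :=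
  (orun gens (actW c.word root) (unpack c.cert)).out

/-- the representatives with their sign bases -/
def Chunk.pairs (gens : List (List Prim)) (root : List ℤ) (c : Chunk) : List (List ℤ × List (ℕ × ℕ)) :=
  (c.reps gens root).zip (c.bases.map (decodeBasis 12))

/-- the Boolean check of a chunk -/
def checkChunk (perms : List (List ℕ)) (refs : List (List ℤ)) (fixmask : ℕ) (gens : List (List Prim))
    (root : List ℤ) (c : Chunk) : Bool :=
  checkGens perms refs [c.word] &&
  decide ((c.reps gens root).length = c.bases.length) &&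
  (c.pairs gens root).all (fun rb => checkGens perms refs (rb.2.map (fun bp => [Prim.sign bp.1])) &&
    pivotOK' rb.1 rb.2 && rb.2.all (fun bp => bp.1 &&& fixmask == 0)) &&
  ((c.reps gens root).map (fun r => keyF' fixmask r % 1099511627689) == c.keys) &&
  decide (((c.bases.map (decodeBasis 12)).map (fun BP => 2 ^ BP.length)).sum = c.count)

/-- the global Boolean check -/
def checkGlobal (chunks : List Chunk) (N : ℕ) : Bool :=
  radixNodup 40 (chunks.flatMap (fun c => c.keys)) && decide ((chunks.map (fun c => c.count)).sum = N)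

theorem sum_pow_zip (reps : List (List ℤ)) (bases : List (List (ℕ × ℕ))) (h : reps.length = bases.length) :
    ((reps.zip bases).map (fun rb => 2 ^ rb.2.length)).sum = (bases.map (fun BP => 2 ^ BP.length)).sum := by
  induction reps generalizing bases with
  | nil =>
    cases bases with
    | nil => rfl
    | cons _ _ => simp at h
  | cons r reps ih =>
    cases bases with
    | nil => simp at h
    | cons BP bases =>
      simp only [List.length_cons, add_left_inj] at h
      rw [List.zip_cons_cons, List.map_cons, List.map_cons, List.sum_cons, List.sum_cons, ih bases h]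

theorem map_fst_zip (reps : List (List ℤ)) (bases : List (List (ℕ × ℕ))) (h : reps.length = bases.length) :
    (reps.zip bases).map Prod.fst = reps := by
  induction reps generalizing bases with
  | nil => rfl
  | cons r reps ih =>
    cases bases with
    | nil => simp at h
    | cons BP bases =>
      simp only [List.length_cons, add_left_inj] at h
      rw [List.zip_cons_cons, List.map_cons, ih bases h]

theorem sum_map_flatMap {α β : Type*} (L : List α) (f : α → List β) (g : β → ℕ) :
    ((L.flatMap f).map g).sum = (L.map (fun c => ((f c).map g).sum)).sum := by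
  induction L with
  | nil => rfl
  | cons a L ih =>
    rw [List.flatMap_cons, List.map_append, List.sum_append, List.map_cons, List.sum_cons, ih]

/-- **Completeness of an orbit enumerated modulo sign changes, in chunks.** -/
theorem orbit_complete_chunks {perms : List (List ℕ)} (hperms : ∀ l ∈ perms, Rep M24 l)
    {refs : List (List ℤ)} {gens : List (List Prim)} (hgens : checkGens perms refs gens = true)
    (fixmask : ℕ) (root : List ℤ) (chunks : List Chunk) (X : Set (GolayPt → ℤ))
    (N : ℕ) (hN : X.ncard = N) (hN0 : 0 < N)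
    (hroot : vecOf root ∈ X) (hinv : ∀ x y, ReachF refs x y → x ∈ X → y ∈ X)
    (hchunks : ∀ c ∈ chunks, checkChunk perms refs fixmask gens root c = true)
    (hglobal : checkGlobal chunks N = true) :
    ∀ y ∈ X, ReachF refs (vecOf root) y := by
  set L := chunks.flatMap (fun c => c.pairs gens root) with hL
  have hg := goodWord_of_checkGens hperms hgens
  -- unpack the chunk checks
  have hc : ∀ c ∈ chunks, GoodWord refs c.word ∧ (c.reps gens root).length = (c.bases.map (decodeBasis 12)).length ∧
      (∀ rb ∈ c.pairs gens root, checkGens perms refs (rb.2.map (fun bp => [Prim.sign bp.1])) = true ∧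
        pivotOK rb.1 rb.2 = true ∧ ∀ bp ∈ rb.2, bp.1 &&& fixmask = 0) ∧
      (c.reps gens root).map (fun r => keyF fixmask (vecOf r) % 1099511627689) = c.keys ∧
      ((c.bases.map (decodeBasis 12)).map (fun BP => 2 ^ BP.length)).sum = c.count := by
    intro c hcm
    have h := hchunks c hcm
    simp only [checkChunk, pivotOK'_eq, keyF'_eq, Bool.and_eq_true, decide_eq_true_eq, List.all_eq_true,
      beq_iff_eq] at h
    obtain ⟨⟨⟨⟨h1, h2⟩, h3⟩, h4⟩, h5⟩ := h
    refine ⟨?_, by rw [List.length_map]; exact h2, fun rb hrb => ⟨(h3 rb hrb).1.1, (h3 rb hrb).1.2,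
      (h3 rb hrb).2⟩, h4, h5⟩
    exact goodWord_of_checkGens hperms h1 c.word List.mem_cons_self
  simp only [checkGlobal, Bool.and_eq_true, decide_eq_true_eq] at hglobal
  obtain ⟨hrad, hsum⟩ := hglobal
  have hLmem : ∀ rb ∈ L, ∃ c ∈ chunks, rb ∈ c.pairs gens root := by
    intro rb hrb
    rw [hL, List.mem_flatMap] at hrb
    exact hrb
  -- keys
  have hkeys : (L.map (fun rb => keyF fixmask (vecOf rb.1))).Nodup := by
    have h1 := nodup_of_radix _ _ hrad
    have e : chunks.flatMap (fun c => c.keys) =
        (L.map (fun rb => keyF fixmask (vecOf rb.1))).map (fun k => k % 1099511627689) := by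
      rw [hL, List.map_flatMap, List.map_flatMap]
      apply List.flatMap_congr
      intro c hcm
      obtain ⟨_, h2, _, h4, _⟩ := hc c hcm
      rw [← h4, Chunk.pairs, List.map_map]
      have := map_fst_zip (c.reps gens root) (c.bases.map (decodeBasis 12)) h2
      conv_lhs => rw [← this]
      rw [List.map_map]
      rfl
    rw [e] at h1
    exact List.Nodup.of_map _ h1
  have hnd : (allVecsP L).Nodup :=
    nodup_allVecsP fixmask L
      (fun rb hrb => by obtain ⟨c, hcm, h⟩ := hLmem rb hrb; exact ((hc c hcm).2.2.1 rb h).2.1)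
      (fun rb hrb => by obtain ⟨c, hcm, h⟩ := hLmem rb hrb; exact ((hc c hcm).2.2.1 rb h).2.2) hkeys
  have hreach : ∀ y ∈ allVecsP L, ReachF refs (vecOf root) y := by
    intro y hy
    rw [allVecsP, List.mem_flatMap] at hy
    obtain ⟨rb, hrb, hy⟩ := hy
    obtain ⟨c, hcm, hrbc⟩ := hLmem rb hrb
    obtain ⟨hw, _, h3, _, _⟩ := hc c hcm
    have h0 : ReachF refs (vecOf root) (vecOf (actW c.word root)) := reach_of_goodWord hw root
    have h1 : ReachF refs (vecOf (actW c.word root)) (vecOf rb.1) :=
      orun_sound hg (actW c.word root) (unpack c.cert) rb.1 (List.of_mem_zip hrbc).1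
    have hB : ∀ b ∈ rb.2.map Prod.fst, GoodWord refs [.sign b] := by
      intro b hb
      rw [List.mem_map] at hb
      obtain ⟨bp, hbp, rfl⟩ := hb
      apply goodWord_of_checkGens hperms (h3 rb hrbc).1
      rw [List.mem_map]
      exact ⟨bp, hbp, rfl⟩
    exact (h0.trans h1).trans (reachF_signOrbit _ hB _ y hy)
  have hsub : (↑(allVecsP L).toFinset : Set (GolayPt → ℤ)) ⊆ X := by
    intro y hy
    rw [Finset.mem_coe, List.mem_toFinset] at hy
    exact hinv _ _ (hreach y hy) hroot
  have hcard : (allVecsP L).toFinset.card = N := by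
    rw [List.toFinset_card_of_nodup hnd, length_allVecsP, ← hsum, hL, sum_map_flatMap]
    congr 1
    apply List.map_congr_left
    intro c hcm
    obtain ⟨_, h2, _, _, h5⟩ := hc c hcm
    rw [← h5, Chunk.pairs, sum_pow_zip _ _ h2]
  have hfin : X.Finite := Set.finite_of_ncard_pos (by rw [hN]; exact hN0)
  have heq : (↑(allVecsP L).toFinset : Set (GolayPt → ℤ)) = X := by
    apply Set.eq_of_subset_of_ncard_le hsub _ hfin
    rw [Set.ncard_coe_finset, hcard, hN]
  intro y hy
  rw [← heq, Finset.mem_coe, List.mem_toFinset] at hy
  exact hreach y hy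

end Cfsg.Agent.Lib.Helper6.Leech
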