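import Cfsg.Agent.Lib.Helper6.LeechOrbit7

/-!
# A faster Boolean orbit check, and transfer lemmas
-/

set_option autoImplicit false

namespace Cfsg.Agent.Lib.Helper6.Leech

open Cfsg
open Cfsg.Agent.Lib.Helper6.Golay

theorem listOf_vecOf (x : List ℤ) (h : x.length = 24) : listOf (vecOf x) = x := by
  have hl : (listOf (vecOf x)).length = 24 := by
    unfold listOf
    rw [List.length_map, List.length_range]
  apply List.ext_getElem
  · rw [hl, h]
  · intro i h1 h2
    rw [hl] at h1
    have e : (listOf (vecOf x))[i]'(by rw [hl]; exact h1) = (listOf (vecOf x)).getD i 0 :=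
      (List.getD_eq_getElem _ _ _).symm
    rw [e, getD_listOf _ h1, vecOf, idx_pt i h1, List.getD_eq_getElem _ _ h2]

/-- the Boolean orbit check with direct encoding of the lists -/
def checkOrbitF (gens : List (List Prim)) (root : List ℤ) (chunks : List ℕ) (N : ℕ) : Bool :=
  let out := (orun gens root (unpack chunks)).out
  decide (out.length = N) && out.all (fun x => x.length == 24) && radixNodup 96 (out.map encL)

theorem checkOrbit_of_F {gens : List (List Prim)} {root : List ℤ} {chunks : List ℕ} {N : ℕ}
    (h : checkOrbitF gens root chunks N = true) : checkOrbit gens root chunks N = true := by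
  rw [checkOrbitF, Bool.and_eq_true, Bool.and_eq_true, List.all_eq_true] at h
  obtain ⟨⟨h1, h2⟩, h3⟩ := h
  rw [checkOrbit, Bool.and_eq_true]
  refine ⟨h1, ?_⟩
  have e : (orun gens root (unpack chunks)).out.map (fun x => encV (vecOf x)) =
      (orun gens root (unpack chunks)).out.map encL := by
    apply List.map_congr_left
    intro x hx
    have := h2 x hx
    rw [beq_iff_eq] at this
    rw [encV, listOf_vecOf x this]
  rw [e]
  exact h3

/-- the explicit list of an invariant set, from a (fast) orbit check -/
theorem orbit_list_of_check {perms : List (List ℕ)} (hperms : ∀ l ∈ perms, Rep M24 l)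
    (refs : List (List ℤ)) (gens : List (List Prim)) (hgens : checkGens perms refs gens = true)
    (root : List ℤ) (chunks : List ℕ) (N : ℕ) (hNpos : 0 < N) (X : Set (GolayPt → ℤ)) (hN : X.ncard = N)
    (hroot : vecOf root ∈ X) (hinv : ∀ a b, Reach refs a b → vecOf a ∈ X → vecOf b ∈ X)
    (hchk : checkOrbitF gens root chunks N = true) :
    ((orun gens root (unpack chunks)).out.map vecOf).Nodup ∧
      ∀ y, y ∈ X ↔ y ∈ (orun gens root (unpack chunks)).out.map vecOf := by
  have hg := goodWord_of_checkGens hperms hgens
  have hchk' := checkOrbit_of_F hchk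
  rw [checkOrbit, Bool.and_eq_true, decide_eq_true_iff] at hchk'
  exact orbit_list_eq hg root (unpack chunks) X N hN hNpos hroot hinv hchk'.1 hchk'.2

/-- conjugating a stabilising element back -/
theorem conj_back (g0 h : Co0) (a b : leechLattice) (hab : h.1 (g0.1 a) = g0.1 b) :
    (g0⁻¹ * h * g0) • a = b := by
  show g0⁻¹.1 (h.1 (g0.1 a)) = b
  rw [hab]
  show g0.1.symm (g0.1 b) = b
  exact Equiv.symm_apply_apply _ _

/-- the cardinality of a set of lattice vectors, through the coordinate functions -/
theorem ncard_subtype_eq (P : (GolayPt → ℤ) → Prop) :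
    {x : leechLattice | P (x : GolayPt → ℤ)}.ncard = {y : GolayPt → ℤ | y ∈ leechLattice ∧ P y}.ncard := by
  rw [← Set.ncard_image_of_injective _ Subtype.val_injective]
  congr 1
  ext y
  simp only [Set.mem_image, Set.mem_ofPred_eq]
  constructor
  · rintro ⟨v, hv, rfl⟩
    exact ⟨v.2, hv⟩
  · rintro ⟨h0, h1⟩
    exact ⟨⟨y, h0⟩, h1, rfl⟩

/-- transport of the cardinality of a set of lattice vectors by an automorphism -/
theorem ncard_transport (g : Co0) (P Q : leechLattice → Prop) (h : ∀ x, P x ↔ Q (g.1 x)) :
    {x : leechLattice | P x}.ncard = {x : leechLattice | Q x}.ncard := by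
  rw [← Set.ncard_image_of_injective _ g.1.injective]
  congr 1
  ext y
  simp only [Set.mem_image, Set.mem_ofPred_eq]
  constructor
  · rintro ⟨x, hx, rfl⟩
    exact (h x).mp hx
  · intro hy
    refine ⟨g.1.symm y, (h _).mpr ?_, Equiv.apply_symm_apply _ _⟩
    rw [Equiv.apply_symm_apply]
    exact hy

end Cfsg.Agent.Lib.Helper6.Leech
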