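import Cfsg.Agent.Lib.Helper6.LeechStab8
import Cfsg.Agent.Lib.Helper6.LeechHS
import Cfsg.Agent.Lib.Helper6.GolaySimple22
import Cfsg.Agent.Lib.Helper6.GolayBSGS

/-!
# The joint stabiliser of three reference vectors is the two-point stabiliser of the code group
-/

set_option autoImplicit false

namespace Cfsg.Agent.Lib.Helper6.Leech

open Cfsg
open Cfsg.Agent.Lib.Helper6.Golay Cfsg.Agent.Lib.Helper6.PermChain

/-- orbit-stabiliser for a subgroup, with the orbit given as a set -/
theorem card_eq_orbit_mul_stab {G X : Type*} [Group G] [MulAction G X] (K : Subgroup G) (Ω : Set X) (x : X)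
    (hsub : ∀ k ∈ K, k • x ∈ Ω) (htrans : ∀ y ∈ Ω, ∃ k ∈ K, k • x = y) :
    Nat.card K = Ω.ncard * Nat.card (K ⊓ MulAction.stabilizer G x : Subgroup G) := by
  rw [Subgroup.card_eq_card_quotient_mul_card_subgroup (MulAction.stabilizer K x)]
  congr 1
  · rw [← Nat.card_congr (MulAction.orbitEquivQuotientStabilizer K x), Nat.card_coe_set_eq]
    congr 1
    ext y
    constructor
    · rintro ⟨k, rfl⟩
      exact hsub k.1 k.2
    · intro hy
      obtain ⟨k, hk, rfl⟩ := htrans y hy
      exact ⟨⟨k, hk⟩, rfl⟩
  · apply Nat.card_congr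
    refine ⟨fun k => ⟨k.1.1, ⟨k.1.2, k.2⟩⟩, fun k => ⟨⟨k.1, k.2.1⟩, k.2.2⟩, fun k => rfl, fun k => rfl⟩

/-- the automorphism of the lattice permuting the coordinates -/
def permHom : ↥M24 →* Co0 where
  toFun σ := monoC σ.1 σ.2 ∅ isC_empty
  map_one' := by
    apply Subtype.ext
    apply Equiv.ext
    intro v
    apply Subtype.ext
    rw [monoC_apply]
    funext j
    simp only [signedPerm, Finset.notMem_empty, if_false]
    rfl
  map_mul' σ τ := by
    apply Subtype.ext
    apply Equiv.ext
    intro v
    apply Subtype.ext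
    show (((monoC (σ * τ).1 (σ * τ).2 ∅ isC_empty).1 v : leechLattice) : GolayPt → ℤ) =
      (((monoC σ.1 σ.2 ∅ isC_empty).1 ((monoC τ.1 τ.2 ∅ isC_empty).1 v) : leechLattice) : GolayPt → ℤ)
    rw [monoC_apply, monoC_apply, monoC_apply]
    funext j
    simp only [signedPerm, Finset.notMem_empty, if_false]
    rfl

theorem permHom_apply (σ : ↥M24) (v : leechLattice) (j : GolayPt) :
    (((permHom σ).1 v : leechLattice) : GolayPt → ℤ) j = (v : GolayPt → ℤ) (σ.1.symm j) := by
  show (((monoC σ.1 σ.2 ∅ isC_empty).1 v : leechLattice) : GolayPt → ℤ) j = _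
  rw [monoC_apply]
  simp [signedPerm]

theorem permHom_injective : Function.Injective permHom := by
  intro σ τ h
  exact Subtype.ext (monoC_inj (hσ := σ.2) (hσ' := τ.2) (hc := isC_empty) (hc' := isC_empty) h).1

theorem u0_apply (k : GolayPt) : (u0 : GolayPt → ℤ) k = if k = none then 5 else 1 := by
  show vecOf u0L k = _
  revert k; decide

theorem w1_apply (k : GolayPt) : (w1' : GolayPt → ℤ) k = if k = some 0 then -5 else -1 := by
  show vecOf w1L k = _
  revert k; decide

/-- the third reference vector -/
def x0' : leechLattice := ⟨vecOf hs100Root, hs100Root_mem.1.1⟩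

theorem x0_apply (k : GolayPt) : (x0' : GolayPt → ℤ) k = if k = none ∨ k = some 0 then 4 else 0 := by
  show vecOf hs100Root k = _
  revert k; decide

theorem v8_none_eq : v8 none = x0' + u0 + w1' := by
  apply Subtype.ext
  funext k
  show (v8 none : GolayPt → ℤ) k = (x0' : GolayPt → ℤ) k + (u0 : GolayPt → ℤ) k + (w1' : GolayPt → ℤ) k
  rw [v8_apply, x0_apply, u0_apply, w1_apply]
  revert k; decide

/-- the two-point stabiliser in the code group -/
def m22Sub : Subgroup ↥M24 :=
  MulAction.stabilizer M24 (some 0 : GolayPt) ⊓ MulAction.stabilizer M24 (none : GolayPt)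

theorem card_m22Sub : Nat.card m22Sub = 443520 := by
  rw [m22Sub, card_stabilizer_inf_eq]
  exact card_fixL_pair (by decide)

theorem isSimpleGroup_m22Sub : IsSimpleGroup m22Sub :=
  isSimpleGroup_stabilizer_two_points (by decide)

theorem mem_m22Sub {σ : ↥M24} : σ ∈ m22Sub ↔ σ.1 (some 0) = some 0 ∧ σ.1 none = none := Iff.rfl

/-- the joint stabiliser of the three reference vectors -/
def hs3Sub : Subgroup Co0 :=
  MulAction.stabilizer Co0 u0 ⊓ MulAction.stabilizer Co0 w1' ⊓ MulAction.stabilizer Co0 x0'

theorem mem_hs3Sub {g : Co0} : g ∈ hs3Sub ↔ g.1 u0 = u0 ∧ g.1 w1' = w1' ∧ g.1 x0' = x0' := by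
  rw [hs3Sub, Subgroup.mem_inf, Subgroup.mem_inf]
  exact and_assoc

/-- **The joint stabiliser of the three reference vectors consists of coordinate permutations.** -/
theorem hs3Sub_eq : hs3Sub = m22Sub.map permHom := by
  ext g
  rw [mem_hs3Sub, Subgroup.mem_map]
  constructor
  · rintro ⟨h1, h2, h3⟩
    have h8 : g.1 (v8 none) = v8 none := by
      rw [v8_none_eq, co0_add, co0_add, h1, h2, h3]
    obtain ⟨σ, hσ, c, hc, rfl⟩ := crossStab_monomial (crossStab_of_fix_v8 h8)
    -- the signs are trivial
    have hu : ∀ j, (if j ∈ c then -(u0 : GolayPt → ℤ) (σ.symm j) else (u0 : GolayPt → ℤ) (σ.symm j)) =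
        (u0 : GolayPt → ℤ) j := by
      intro j
      have := congrFun (congrArg Subtype.val h1) j
      rw [monoC_apply] at this
      exact this
    have hc0 : c = ∅ := by
      ext j
      simp only [Finset.notMem_empty, iff_false]
      intro hj
      have := hu j
      rw [if_pos hj, u0_apply, u0_apply] at this
      split_ifs at this <;> norm_num at this
    subst hc0
    have hσn : σ.symm none = none := by
      have := hu none
      rw [if_neg (Finset.notMem_empty _), u0_apply, u0_apply, if_pos rfl] at this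
      by_contra hne
      rw [if_neg hne] at this
      norm_num at this
    have hσ0 : σ.symm (some 0) = some 0 := by
      have := congrFun (congrArg Subtype.val h2) (some 0)
      rw [monoC_apply] at this
      simp only [signedPerm, Finset.notMem_empty, if_false] at this
      rw [w1_apply, w1_apply, if_pos rfl] at this
      by_contra hne
      rw [if_neg hne] at this
      norm_num at this
    refine ⟨⟨σ, hσ⟩, ?_, rfl⟩
    rw [mem_m22Sub]
    constructor
    · show σ (some 0) = some 0
      exact (Equiv.symm_apply_eq σ).mp hσ0 |>.symm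
    · show σ none = none
      exact (Equiv.symm_apply_eq σ).mp hσn |>.symm
  · rintro ⟨σ, hσ, rfl⟩
    rw [mem_m22Sub] at hσ
    have h0 : ∀ j, σ.1.symm j = some 0 ↔ j = some 0 := by
      intro j
      rw [Equiv.symm_apply_eq, hσ.1]
    have hn : ∀ j, σ.1.symm j = none ↔ j = none := by
      intro j
      rw [Equiv.symm_apply_eq, hσ.2]
    refine ⟨?_, ?_, ?_⟩
    · apply Subtype.ext
      funext j
      rw [permHom_apply, u0_apply, u0_apply]
      simp only [hn]
    · apply Subtype.ext
      funext j
      rw [permHom_apply, w1_apply, w1_apply]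
      simp only [h0]
    · apply Subtype.ext
      funext j
      rw [permHom_apply, x0_apply, x0_apply]
      simp only [h0, hn]

/-- the isomorphism of the two-point stabiliser with the joint stabiliser -/
noncomputable def hs3Equiv : m22Sub ≃* hs3Sub :=
  (m22Sub.equivMapOfInjective permHom permHom_injective).trans (MulEquiv.subgroupCongr hs3Sub_eq.symm)

theorem card_hs3Sub : Nat.card hs3Sub = 443520 := by
  rw [← Nat.card_congr hs3Equiv.toEquiv, card_m22Sub]

theorem isSimpleGroup_hs3Sub : IsSimpleGroup hs3Sub :=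
  haveI := isSimpleGroup_m22Sub
  hs3Equiv.symm.isSimpleGroup

end Cfsg.Agent.Lib.Helper6.Leech
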