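import Cfsg.Agent.Lib.Helper6.LeechOrder1
import Cfsg.Agent.Lib.Helper6.LeechCo3B
import Cfsg.Agent.Lib.Helper6.LeechSubBase

/-!
# The orders of the reference stabilisers and of the automorphism group
-/

set_option autoImplicit false

namespace Cfsg.Agent.Lib.Helper6.Leech

open Cfsg
open Cfsg.Agent.Lib.Helper6.Golay

theorem co0_stab_iff (g : Co0) (v : leechLattice) : g ∈ MulAction.stabilizer Co0 v ↔ g.1 v = v := Iff.rfl

/-- the stabiliser of the reference pair of vectors of norm 48 -/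
def hsRef : Subgroup Co0 := MulAction.stabilizer Co0 u0 ⊓ MulAction.stabilizer Co0 w1'

theorem mem_hsRef {g : Co0} : g ∈ hsRef ↔ g.1 u0 = u0 ∧ g.1 w1' = w1' := Iff.rfl

/-- the 100 points of the reference pair -/
def hsPts : Set leechLattice :=
  {x | sqNorm (x : GolayPt → ℤ) = 32 ∧ dotInt (u0 : GolayPt → ℤ) (x : GolayPt → ℤ) = 24 ∧
    dotInt (w1' : GolayPt → ℤ) (x : GolayPt → ℤ) = -24}

theorem hsPts_ncard : hsPts.ncard = 100 := (hs_main u0 w1' u0L_norm w1L_norm u0_w1_dot).1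

theorem x0_mem_hsPts : x0' ∈ hsPts := by
  refine ⟨?_, ?_, ?_⟩
  · exact hs100Root_mem.1.2.1
  · exact hs100Root_mem.1.2.2
  · exact hs100Root_mem.2

theorem hsPts_inv {g : Co0} (hg : g ∈ hsRef) {x : leechLattice} (hx : x ∈ hsPts) : g.1 x ∈ hsPts := by
  obtain ⟨h1, h2, h3⟩ := hx
  obtain ⟨hg1, hg2⟩ := mem_hsRef.mp hg
  refine ⟨(co0_norm g x).trans h1, ?_, ?_⟩
  · have := co0_dot g u0 x
    rw [hg1] at this
    rw [this]; exact h2
  · have := co0_dot g w1' x
    rw [hg2] at this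
    rw [this]; exact h3

theorem hsRef_transitive {x y : leechLattice} (hx : x ∈ hsPts) (hy : y ∈ hsPts) :
    ∃ g ∈ hsRef, g.1 x = y := by
  obtain ⟨g, h1, h2, h3⟩ := (hs_main u0 w1' u0L_norm w1L_norm u0_w1_dot).2 x y hx hy
  exact ⟨g, ⟨h1, h2⟩, h3⟩

theorem hsRef_inf : hsRef ⊓ MulAction.stabilizer Co0 x0' = hs3Sub := rfl

/-- **The stabiliser of the reference pair has order 44352000.** -/
theorem card_hsRef : Nat.card hsRef = 44352000 := by
  rw [card_eq_orbit_mul_stab hsRef hsPts x0' (fun k hk => hsPts_inv hk x0_mem_hsPts)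
    (fun y hy => hsRef_transitive x0_mem_hsPts hy), hsPts_ncard, hsRef_inf, card_hs3Sub]

/-- the stabiliser of the reference vector of norm 48 -/
def co3Ref : Subgroup Co0 := MulAction.stabilizer Co0 u0

/-- the reference minimal vector with inner product `-16` -/
def xrV : leechLattice := ⟨vecOf xrL, xrL_mem⟩

theorem xr_apply (k : GolayPt) : (xrV : GolayPt → ℤ) k = if k = some 0 then 4 else if k = none then -4 else 0 := by
  show vecOf xrL k = _
  revert k; decide

theorem w1_eq : w1' = -(u0 + xrV) := by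
  apply Subtype.ext
  funext k
  show (w1' : GolayPt → ℤ) k = -((u0 : GolayPt → ℤ) k + (xrV : GolayPt → ℤ) k)
  rw [w1_apply, u0_apply, xr_apply]
  revert k; decide

theorem xr_eq : xrV = -w1' - u0 := by
  rw [w1_eq]; abel

/-- the 11178 points of the reference vector -/
def co3Pts : Set leechLattice :=
  {x | sqNorm (x : GolayPt → ℤ) = 32 ∧ dotInt (u0 : GolayPt → ℤ) (x : GolayPt → ℤ) = -16}

theorem co3Pts_ncard : co3Pts.ncard = 11178 := by
  rw [co3Pts, ncard_subtype_eq (fun y => sqNorm y = 32 ∧ dotInt (u0 : GolayPt → ℤ) y = -16),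
    ← co3Set_neg16_ncard]
  rfl

theorem xr_mem_co3Pts : xrV ∈ co3Pts := by
  refine ⟨?_, ?_⟩
  · show sqNorm (vecOf xrL) = 32
    rw [sqNorm_vecOf]; exact subRefs_ok.2.1
  · show dotInt (vecOf u0L) (vecOf xrL) = -16
    rw [dotInt_vecOf]; exact subRefs_ok.2.2.1

theorem co3Ref_inf : co3Ref ⊓ MulAction.stabilizer Co0 xrV = hsRef := by
  ext g
  rw [Subgroup.mem_inf, mem_hsRef, co3Ref, co0_stab_iff, co0_stab_iff]
  constructor
  · rintro ⟨h1, h2⟩
    refine ⟨h1, ?_⟩
    rw [w1_eq, co0_neg, co0_add, h1, h2]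
  · rintro ⟨h1, h2⟩
    refine ⟨h1, ?_⟩
    have : xrV = -w1' + -u0 := by rw [xr_eq]; abel
    rw [this, co0_add, co0_neg, co0_neg, h1, h2]

/-- **The stabiliser of the reference vector of norm 48 has order 495766656000.** -/
theorem card_co3Ref : Nat.card co3Ref = 495766656000 := by
  rw [card_eq_orbit_mul_stab co3Ref co3Pts xrV ?_ ?_, co3Pts_ncard, co3Ref_inf, card_hsRef]
  · intro k hk
    obtain ⟨h1, h2⟩ := xr_mem_co3Pts
    refine ⟨(co0_norm k xrV).trans h1, ?_⟩
    have := co0_dot k u0 xrV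
    rw [(co0_stab_iff k u0).mp hk] at this
    exact this.trans h2
  · intro y hy
    obtain ⟨g, h1, h2⟩ := co3_transitive_11178 u0 xrV y u0L_norm xr_mem_co3Pts.1 hy.1 xr_mem_co3Pts.2 hy.2
    exact ⟨g, h1, h2⟩

/-- **The automorphism group of the lattice has order 8315553613086720000.** -/
theorem card_Co0 : Nat.card Co0 = 8315553613086720000 := by
  have h := card_eq_orbit_mul_stab (⊤ : Subgroup Co0) {x : leechLattice | sqNorm (x : GolayPt → ℤ) = 48} u0
    (fun k _ => (co0_norm k u0).trans u0L_norm)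
    (fun y hy => by
      obtain ⟨g, hg⟩ := co0_transitive_48 u0 y u0L_norm hy
      exact ⟨g, Subgroup.mem_top g, hg⟩)
  rw [Subgroup.card_top, top_inf_eq, ncard_subtype_eq (fun y => sqNorm y = 48), ncard_norm48] at h
  rw [h]
  show 16773120 * Nat.card co3Ref = _
  rw [card_co3Ref]

end Cfsg.Agent.Lib.Helper6.Leech
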