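import Cfsg.Agent.Lib.Helper6.LeechIndex

/-!
# A totally singular subspace of half the dimension in the rank-24 lattice modulo two
-/

set_option autoImplicit false

namespace Cfsg.Agent.Lib.Helper6.Leech

open Cfsg
open Cfsg.Agent.Lib.Helper6.Golay

/-- the constant word `2` modulo 4 -/
def two1 : GolayPt → ZMod 4 := fun _ => 2

theorem two1_add : two1 + two1 = 0 := by
  funext i; show (2 : ZMod 4) + 2 = 0; decide

theorem two1_ne : (0 : GolayPt → ZMod 4) ≠ two1 := by
  intro h
  have := congrFun h none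
  revert this
  show (0 : ZMod 4) = 2 → False
  decide

/-- the subgroup `{0, 2}` of constant words modulo 4 -/
def constZ : AddSubgroup (GolayPt → ZMod 4) where
  carrier := {0, two1}
  zero_mem' := Or.inl rfl
  add_mem' := by
    rintro a b (rfl | rfl) (rfl | rfl)
    · left; simp
    · right; simp
    · right; simp
    · left; exact two1_add
  neg_mem' := by
    rintro a (rfl | rfl)
    · left; simp
    · right; exact neg_eq_of_add_eq_zero_left two1_add

theorem card_constZ : Nat.card constZ = 2 := by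
  have : ((constZ : AddSubgroup (GolayPt → ZMod 4)) : Set (GolayPt → ZMod 4)) = {0, two1} := rfl
  rw [← SetLike.coe_sort_coe, this, Nat.card_coe_set_eq, Set.ncard_pair two1_ne]

theorem index_constZ : constZ.index = 2 ^ 47 := by
  have h := AddSubgroup.card_mul_index constZ
  rw [card_constZ, Nat.card_eq_fintype_card, Fintype.card_fun, ZMod.card, card_golayPt] at h
  have : (2 : ℕ) * constZ.index = 2 * 2 ^ 47 := by rw [h]; norm_num
  exact Nat.eq_of_mul_eq_mul_left (by norm_num) this

/-- the integer vectors all of whose coordinates are congruent to `0`, or all to `2`, modulo 4 -/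
def constPat : AddSubgroup (GolayPt → ℤ) := constZ.comap red4

theorem index_constPat : constPat.index = 2 ^ 47 := by
  rw [constPat, AddSubgroup.index_comap_of_surjective _ red4_surjective, index_constZ]

theorem cast4_eq_zero_iff (v : ℤ) : ((v : ℤ) : ZMod 4) = 0 ↔ v % 4 = 0 := by
  rw [ZMod.intCast_zmod_eq_zero_iff_dvd]
  constructor <;> intro h <;> omega

theorem cast4_eq_two_iff (v : ℤ) : ((v : ℤ) : ZMod 4) = 2 ↔ v % 4 = 2 := by
  have : (2 : ZMod 4) = ((2 : ℤ) : ZMod 4) := by norm_num
  rw [this, ZMod.intCast_eq_intCast_iff, Int.ModEq]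
  norm_num

theorem mem_constPat_iff {x : GolayPt → ℤ} :
    x ∈ constPat ↔ (∀ i, x i % 4 = 0) ∨ (∀ i, x i % 4 = 2) := by
  rw [constPat, AddSubgroup.mem_comap]
  show (red4 x = 0 ∨ red4 x = two1) ↔ _
  rw [funext_iff, funext_iff]
  constructor
  · rintro (h | h)
    · left; intro i; exact (cast4_eq_zero_iff _).mp (h i)
    · right; intro i; exact (cast4_eq_two_iff _).mp (h i)
  · rintro (h | h)
    · left; intro i; exact (cast4_eq_zero_iff _).mpr (h i)
    · right; intro i; exact (cast4_eq_two_iff _).mpr (h i)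

theorem constPat_le_evenPat : constPat ≤ evenPat := by
  intro x hx
  rw [mem_evenPat_iff]
  rcases mem_constPat_iff.mp hx with h | h
  · exact ⟨∅, isC_empty, fun i => by rw [if_neg (Finset.notMem_empty i)]; exact h i⟩
  · exact ⟨Finset.univ, isC_univ, fun i => by rw [if_pos (Finset.mem_univ i)]; exact h i⟩

theorem card_map_sum8_constPat : Nat.card (constPat.map sum8) = 2 := by
  have : ((constPat.map sum8 : AddSubgroup (ZMod 8)) : Set (ZMod 8)) = {0, 4} := by
    ext y
    simp only [SetLike.mem_coe, AddSubgroup.mem_map, Set.mem_insert_iff, Set.mem_singleton_iff]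
    constructor
    · rintro ⟨x, hx, rfl⟩
      have h4 := four_dvd_sum_of_evenPat (constPat_le_evenPat hx)
      show ((∑ i, x i : ℤ) : ZMod 8) = 0 ∨ ((∑ i, x i : ℤ) : ZMod 8) = 4
      rw [← ZMod.intCast_mod]
      have : (∑ i, x i) % ((8 : ℕ) : ℤ) = 0 ∨ (∑ i, x i) % ((8 : ℕ) : ℤ) = 4 := by
        push_cast; omega
      rcases this with h | h
      · left; rw [h]; rfl
      · right; rw [h]; rfl
    · rintro (h | h)
      · exact ⟨0, AddSubgroup.zero_mem _, by rw [h, map_zero]⟩
      · refine ⟨fun i => if i = none then 4 else 0, mem_constPat_iff.mpr (Or.inl fun i => ?_), ?_⟩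
        · split_ifs <;> norm_num
        · rw [h]
          show ((∑ i, (if i = none then (4 : ℤ) else 0) : ℤ) : ZMod 8) = 4
          rw [Finset.sum_ite_eq' Finset.univ none (fun _ => (4 : ℤ)), if_pos (Finset.mem_univ _)]
          rfl
  rw [← SetLike.coe_sort_coe, this, Nat.card_coe_set_eq, Set.ncard_pair (by decide)]

/-- the totally singular subgroup -/
def singA : AddSubgroup (GolayPt → ℤ) := constPat ⊓ sum8.ker

theorem index_singA : singA.index = 2 ^ 48 := by
  have e2 : (constPat ⊓ sum8.ker).relIndex constPat = 2 := by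
    rw [AddSubgroup.inf_relIndex_left, AddSubgroup.relIndex_ker, card_map_sum8_constPat]
  have h2 := AddSubgroup.relIndex_mul_index (inf_le_left : constPat ⊓ sum8.ker ≤ constPat)
  rw [e2, index_constPat] at h2
  rw [singA, ← h2]
  norm_num

theorem singA_le : singA ≤ leechLattice := by
  rw [leechLattice_eq]
  have h1 : singA ≤ evenPat ⊓ sum8.ker := inf_le_inf_right _ constPat_le_evenPat
  rw [← leech_inf_par] at h1
  exact h1.trans inf_le_left

theorem mem_singA_iff {x : GolayPt → ℤ} :
    x ∈ singA ↔ ((∀ i, x i % 4 = 0) ∨ (∀ i, x i % 4 = 2)) ∧ (∑ i, x i) % 8 = 0 := by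
  rw [singA, AddSubgroup.mem_inf, AddMonoidHom.mem_ker, sum8_eq_zero, mem_constPat_iff]

theorem two_smul_mem_singA {v : GolayPt → ℤ} (hv : v ∈ leechLattice) : (2 : ℤ) • v ∈ singA := by
  obtain ⟨m, h1, h2, -⟩ := mem_leechSet.mp (mem_leechLattice.mp hv)
  rw [mem_singA_iff]
  constructor
  · rcases Int.emod_two_eq_zero_or_one m with hm | hm
    · left; intro i
      have := h1 i
      simp only [Pi.smul_apply, smul_eq_mul]
      omega
    · right; intro i
      have := h1 i
      simp only [Pi.smul_apply, smul_eq_mul]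
      omega
  · have : ∑ i, ((2 : ℤ) • v) i = 2 * ∑ i, v i := by
      rw [Finset.mul_sum]
      exact Finset.sum_congr rfl (fun i _ => by simp)
    rw [this]
    omega

theorem even_mul_pred (z : ℤ) : (2 : ℤ) ∣ z * (z - 1) := by
  rcases Int.emod_two_eq_zero_or_one z with h | h
  · exact Dvd.dvd.mul_right (Int.dvd_of_emod_eq_zero h) _
  · exact Dvd.dvd.mul_left (Int.dvd_of_emod_eq_zero (by omega)) _

theorem coord_zero {a : ℤ} (h : a % 4 = 0) : (32 : ℤ) ∣ a ^ 2 - 4 * a := by
  obtain ⟨z, rfl⟩ := Int.dvd_of_emod_eq_zero h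
  obtain ⟨k, hk⟩ := even_mul_pred z
  exact ⟨k, by linear_combination 16 * hk⟩

theorem coord_two {a : ℤ} (h : a % 4 = 2) : (32 : ℤ) ∣ a ^ 2 - (8 * a - 12) := by
  obtain ⟨z, hz⟩ : (4 : ℤ) ∣ a - 2 := Int.dvd_of_emod_eq_zero (by omega)
  have ha : a = 4 * z + 2 := by linarith
  subst ha
  obtain ⟨k, hk⟩ := even_mul_pred z
  exact ⟨k, by linear_combination 16 * hk⟩

theorem sqNorm_singA {x : GolayPt → ℤ} (hx : x ∈ singA) : (32 : ℤ) ∣ sqNorm x := by
  obtain ⟨h4, h8⟩ := mem_singA_iff.mp hx
  obtain ⟨s, hs⟩ : (8 : ℤ) ∣ ∑ i, x i := Int.dvd_of_emod_eq_zero h8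
  rcases h4 with h | h
  · have hsplit : sqNorm x = ∑ i, (x i ^ 2 - 4 * x i) + 4 * ∑ i, x i := by
      rw [Finset.mul_sum, ← Finset.sum_add_distrib, sqNorm]
      exact Finset.sum_congr rfl (fun i _ => by ring)
    rw [hsplit]
    apply dvd_add
    · exact Finset.dvd_sum (fun i _ => coord_zero (h i))
    · rw [hs]; exact ⟨s, by ring⟩
  · have hsplit : sqNorm x = ∑ i, (x i ^ 2 - (8 * x i - 12)) + (8 * ∑ i, x i - 288) := by
      have h24 : (∑ _i : GolayPt, (12 : ℤ)) = 288 := by
        rw [Finset.sum_const, Finset.card_univ, card_golayPt]; norm_num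
      rw [Finset.mul_sum, ← h24, ← Finset.sum_sub_distrib, ← Finset.sum_add_distrib, sqNorm]
      exact Finset.sum_congr rfl (fun i _ => by ring)
    rw [hsplit]
    apply dvd_add
    · exact Finset.dvd_sum (fun i _ => coord_two (h i))
    · rw [hs]; exact ⟨2 * s - 9, by ring⟩

/-- **S5553** -/
theorem leech_plus_type : ∃ A : AddSubgroup (GolayPt → ℤ), A ≤ leechLattice ∧
    (∀ v ∈ leechLattice, (2 : ℤ) • v ∈ A) ∧ (A.addSubgroupOf leechLattice).index = 2 ^ 12 ∧
    ∀ v ∈ A, (32 : ℤ) ∣ sqNorm v := by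
  refine ⟨singA, singA_le, fun v hv => two_smul_mem_singA hv, ?_, fun v hv => sqNorm_singA hv⟩
  have h := AddSubgroup.relIndex_mul_index singA_le
  rw [index_singA, index_leechLattice] at h
  have : singA.relIndex leechLattice * 2 ^ 36 = 2 ^ 12 * 2 ^ 36 := by rw [h]; norm_num
  exact Nat.eq_of_mul_eq_mul_right (by norm_num) this

end Cfsg.Agent.Lib.Helper6.Leech
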