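import Cfsg.Agent.Lib.Helper6.LeechMod2Irr

/-!
# The invariant quadratic form on the rank-24 lattice modulo two is unique
-/

set_option autoImplicit false

namespace Cfsg.Agent.Lib.Helper6.Leech

open Cfsg
open Cfsg.Agent.Lib.Helper6.Golay

/-- inner products of lattice vectors are divisible by 8 -/
theorem eight_dvd_dotInt {x y : GolayPt → ℤ} (hx : x ∈ leechLattice) (hy : y ∈ leechLattice) :
    (8 : ℤ) ∣ dotInt x y := by
  obtain ⟨a, ha⟩ := sixteen_dvd_sqNorm (mem_leechLattice.mp hx)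
  obtain ⟨b, hb⟩ := sixteen_dvd_sqNorm (mem_leechLattice.mp hy)
  obtain ⟨c, hc⟩ := sixteen_dvd_sqNorm (mem_leechLattice.mp (leechLattice.add_mem hx hy))
  rw [sqNorm_add, ha, hb] at hc
  exact ⟨c - a - b, by linarith⟩

/-- the norm modulo 32 is constant on cosets of twice the lattice -/
theorem sqNorm_coset {y z : GolayPt → ℤ} (hy : y ∈ leechLattice) (hz : z ∈ leechLattice) :
    ∃ k : ℤ, sqNorm (y + (z + z)) = sqNorm y + 32 * k := by
  obtain ⟨a, ha⟩ := eight_dvd_dotInt hy hz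
  obtain ⟨b, hb⟩ := sixteen_dvd_sqNorm (mem_leechLattice.mp hz)
  refine ⟨a + 2 * b, ?_⟩
  rw [sqNorm_add, sqNorm_add z z, dotInt_add_right, ha, dot_self, hb]
  ring

/-! ### the reference vectors -/

def qA : GolayPt → ℤ := e4 none + e4 (some 0)
def qB : GolayPt → ℤ := e4 (some 0) - e4 none
def qC : GolayPt → ℤ := e4 (some 1) - e4 (some 0)

theorem qA_mem : qA ∈ minVecs := e4_add_mem (by decide)
theorem qB_mem : qB ∈ minVecs := e4_sub_mem (by decide)
theorem qC_mem : qC ∈ minVecs := e4_sub_mem (by decide)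

theorem sqNorm_qAB : sqNorm (qA + qB) = 64 := by
  unfold sqNorm qA qB e4; decide +kernel

theorem sqNorm_qAC : sqNorm (qA + qC) = 32 := by
  unfold sqNorm qA qC e4; decide +kernel

theorem sqNorm_qBC : sqNorm (qB + qC) = 32 := by
  unfold sqNorm qB qC e4; decide +kernel

theorem sqNorm_qABC : sqNorm (qA + qB + qC) = 32 := by
  unfold sqNorm qA qB qC e4; decide +kernel

def rU : GolayPt → ℤ := e4 none + e4 (some 0)
def rV : GolayPt → ℤ := e4 (some 1) + e4 (some 2)
def rW : GolayPt → ℤ := e4 (some 3) + e4 (some 4)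
def rX : GolayPt → ℤ := (e4 (some 4) - e4 (some 5)) - (e4 (some 14) + e4 (some 17))

theorem rU_mem : rU ∈ minVecs := e4_add_mem (by decide)
theorem rV_mem : rV ∈ minVecs := e4_add_mem (by decide)
theorem rW_mem : rW ∈ minVecs := e4_add_mem (by decide)
theorem rX_mem : rX ∈ leechLattice :=
  leechLattice.sub_mem (e4_sub_mem (by decide)).1 (e4_add_mem (by decide)).1

theorem sqNorm_rUV : sqNorm (rU + rV) = 64 := by
  unfold sqNorm rU rV e4; decide +kernel
theorem sqNorm_rUW : sqNorm (rU + rW) = 64 := by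
  unfold sqNorm rU rW e4; decide +kernel
theorem sqNorm_rVW : sqNorm (rV + rW) = 64 := by
  unfold sqNorm rV rW e4; decide +kernel
theorem sqNorm_rX : sqNorm rX = 64 := by
  unfold sqNorm rX e4; decide +kernel

theorem rUVW_eq : rU + rV + rW = rX + (octVec (fs octad0) + octVec (fs octad0)) := by
  funext i
  have h : ∀ i : GolayPt, (rU + rV + rW) i = (rX + (octVec (fs octad0) + octVec (fs octad0))) i := by
    unfold rU rV rW rX octVec e4 fs
    decide +kernel
  exact h i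

/-! ### the reference vectors as lattice elements -/

def qAL : ↥leechLattice := ⟨qA, qA_mem.1⟩
def qBL : ↥leechLattice := ⟨qB, qB_mem.1⟩
def qCL : ↥leechLattice := ⟨qC, qC_mem.1⟩

theorem nqA : sqNorm (qAL : GolayPt → ℤ) = 32 := qA_mem.2
theorem nqB : sqNorm (qBL : GolayPt → ℤ) = 32 := qB_mem.2
theorem nqC : sqNorm (qCL : GolayPt → ℤ) = 32 := qC_mem.2
theorem nqAB : sqNorm ((qAL + qBL : ↥leechLattice) : GolayPt → ℤ) = 64 := by
  rw [AddSubgroup.coe_add]; exact sqNorm_qAB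
theorem nqAC : sqNorm ((qAL + qCL : ↥leechLattice) : GolayPt → ℤ) = 32 := by
  rw [AddSubgroup.coe_add]; exact sqNorm_qAC
theorem nqBC : sqNorm ((qBL + qCL : ↥leechLattice) : GolayPt → ℤ) = 32 := by
  rw [AddSubgroup.coe_add]; exact sqNorm_qBC
theorem nqABC : sqNorm ((qAL + qBL + qCL : ↥leechLattice) : GolayPt → ℤ) = 32 := by
  rw [AddSubgroup.coe_add, AddSubgroup.coe_add]; exact sqNorm_qABC

def rUL : ↥leechLattice := ⟨rU, rU_mem.1⟩
def rVL : ↥leechLattice := ⟨rV, rV_mem.1⟩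
def rWL : ↥leechLattice := ⟨rW, rW_mem.1⟩
def rXL : ↥leechLattice := ⟨rX, rX_mem⟩
def rZL : ↥leechLattice := ⟨octVec (fs octad0), (octVec_mem octad0_mem).1⟩

theorem nrU : sqNorm (rUL : GolayPt → ℤ) = 32 := rU_mem.2
theorem nrV : sqNorm (rVL : GolayPt → ℤ) = 32 := rV_mem.2
theorem nrW : sqNorm (rWL : GolayPt → ℤ) = 32 := rW_mem.2
theorem nrX : sqNorm (rXL : GolayPt → ℤ) = 64 := sqNorm_rX
theorem nrUV : sqNorm ((rUL + rVL : ↥leechLattice) : GolayPt → ℤ) = 64 := by
  rw [AddSubgroup.coe_add]; exact sqNorm_rUV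
theorem nrUW : sqNorm ((rUL + rWL : ↥leechLattice) : GolayPt → ℤ) = 64 := by
  rw [AddSubgroup.coe_add]; exact sqNorm_rUW
theorem nrVW : sqNorm ((rVL + rWL : ↥leechLattice) : GolayPt → ℤ) = 64 := by
  rw [AddSubgroup.coe_add]; exact sqNorm_rVW
theorem rUVWL_eq : rUL + rVL + rWL = rXL + (rZL + rZL) := by
  apply Subtype.ext
  rw [AddSubgroup.coe_add, AddSubgroup.coe_add, AddSubgroup.coe_add, AddSubgroup.coe_add]
  exact rUVW_eq

/-! ### the main argument -/

theorem quad_const (Q : ↥leechLattice → ZMod 2)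
    (hinv : ∀ (g : ↥Co0) (v : ↥leechLattice), Q (g • v) = Q v) {n : ℤ}
    (hn : n = 32 ∨ n = 48 ∨ n = 64) (v w : ↥leechLattice)
    (hv : sqNorm (v : GolayPt → ℤ) = n) (hw : sqNorm (w : GolayPt → ℤ) = n) : Q v = Q w := by
  have : ∃ g : Co0, g • v = w := by
    rcases hn with rfl | rfl | rfl
    · exact co0_transitive_min v w hv hw
    · exact co0_transitive_48 v w hv hw
    · exact co0_transitive_64 v w hv hw
  obtain ⟨g, rfl⟩ := this
  exact (hinv g v).symm

theorem zmod2_rel1 : ∀ a b c d e f t : ZMod 2, a = b → a = c → a = d → a = e → a = f →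
    d + a + b + c = t + e + f → t = 0 := by decide

theorem zmod2_rel2 : ∀ a b c t : ZMod 2, a = b → a = c → t + a + b + c = 0 + 0 + 0 → t = 0 → a = 0 := by
  decide

theorem zmod2_zero : ∀ a : ZMod 2, a + a + a + a = a + a + a → a = 0 := by decide

theorem zmod2_one : ∀ a : ZMod 2, a ≠ 0 → a = 1 := by decide

theorem zmod2_two : (2 : ZMod 2) = 0 := by decide

/-- **S5552** -/
theorem quad_unique (Q : ↥leechLattice → ZMod 2)
    (hcoset : ∀ v w : ↥leechLattice, Q (v + (w + w)) = Q v)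
    (hquad : ∀ u v w : ↥leechLattice,
      Q (u + v + w) + Q u + Q v + Q w = Q (u + v) + Q (u + w) + Q (v + w))
    (hinv : ∀ (g : ↥Co0) (v : ↥leechLattice), Q (g • v) = Q v)
    (hne : ∃ v : ↥leechLattice, Q v ≠ 0) (v : ↥leechLattice) :
    Q v = ((sqNorm (v : GolayPt → ℤ) / 16 : ℤ) : ZMod 2) := by
  -- the value at zero
  have hQ0 : Q 0 = 0 := by
    have h := hquad 0 0 0
    simp only [add_zero] at h
    exact zmod2_zero _ h
  -- the value on vectors of norm 64
  have h64 : ∀ w : ↥leechLattice, sqNorm (w : GolayPt → ℤ) = 64 → Q w = 0 := by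
    have h := hquad qAL qBL qCL
    have c := quad_const Q hinv (Or.inl rfl)
    have e1 := c qAL qBL nqA nqB
    have e2 := c qAL qCL nqA nqC
    have e3 := c qAL (qAL + qBL + qCL) nqA nqABC
    have e4' := c qAL (qAL + qCL) nqA nqAC
    have e5 := c qAL (qBL + qCL) nqA nqBC
    have h0 : Q (qAL + qBL) = 0 := zmod2_rel1 _ _ _ _ _ _ _ e1 e2 e3 e4' e5 h
    intro w hw
    rw [← h0]
    exact quad_const Q hinv (Or.inr (Or.inr rfl)) _ _ hw nqAB
  -- the value on vectors of norm 32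
  have h32 : ∀ w : ↥leechLattice, sqNorm (w : GolayPt → ℤ) = 32 → Q w = 0 := by
    have h := hquad rUL rVL rWL
    have c := quad_const Q hinv (Or.inl rfl)
    have e1 := c rUL rVL nrU nrV
    have e2 := c rUL rWL nrU nrW
    have ht : Q (rUL + rVL + rWL) = 0 := by
      rw [rUVWL_eq, hcoset]
      exact h64 _ nrX
    rw [h64 _ nrUV, h64 _ nrUW, h64 _ nrVW] at h
    have h0 : Q rUL = 0 := zmod2_rel2 _ _ _ _ e1 e2 h ht
    intro w hw
    rw [← h0]
    exact quad_const Q hinv (Or.inl rfl) _ _ hw nrU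
  -- reduction to short vectors
  have hred : ∀ x : ↥leechLattice, ∃ y : ↥leechLattice, sqNorm (y : GolayPt → ℤ) ≤ 64 ∧ Q x = Q y ∧
      ∃ k : ℤ, sqNorm (x : GolayPt → ℤ) = sqNorm (y : GolayPt → ℤ) + 32 * k := by
    intro x
    obtain ⟨y, hyL, hyn, z, hzL, hxyz⟩ := exists_short x.1 x.2
    have hx1 : (x : GolayPt → ℤ) = y + (z + z) := by
      rw [← two_nsmul, ← hxyz]; abel
    have hx : x = ⟨y, hyL⟩ + (⟨z, hzL⟩ + ⟨z, hzL⟩) := Subtype.ext hx1
    refine ⟨⟨y, hyL⟩, hyn, by rw [hx, hcoset], ?_⟩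
    obtain ⟨k, hk⟩ := sqNorm_coset hyL hzL
    refine ⟨k, ?_⟩
    rw [hx1]
    exact hk
  -- the value on vectors of norm 48
  have h48 : ∀ w : ↥leechLattice, sqNorm (w : GolayPt → ℤ) = 48 → Q w = 1 := by
    obtain ⟨x, hx⟩ := hne
    obtain ⟨y, hyn, hxy, -⟩ := hred x
    rw [hxy] at hx
    have hy48 : sqNorm (y : GolayPt → ℤ) = 48 := by
      rcases norm_cases y.2 hyn with ⟨h0, _⟩ | h | h | h
      · exfalso; apply hx
        have : y = 0 := Subtype.ext h0
        rw [this, hQ0]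
      · exact absurd (h32 y h) hx
      · exact h
      · exact absurd (h64 y h) hx
    have hy1 : Q y = 1 := zmod2_one _ hx
    intro w hw
    rw [← hy1]
    exact quad_const Q hinv (Or.inr (Or.inl rfl)) _ _ hw hy48
  -- the general case
  obtain ⟨y, hyn, hvy, k, hk⟩ := hred v
  rw [hvy, hk]
  rcases norm_cases y.2 hyn with ⟨h0, hn0⟩ | h | h | h
  · have : y = 0 := Subtype.ext h0
    rw [hn0, this, hQ0]
    have : (0 + 32 * k) / 16 = 2 * k := by omega
    rw [this]
    push_cast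
    rw [zmod2_two, zero_mul]
  · rw [h32 y h, h]
    have : (32 + 32 * k) / 16 = 2 * (1 + k) := by omega
    rw [this]
    push_cast
    rw [zmod2_two, zero_mul]
  · rw [h48 y h, h]
    have : (48 + 32 * k) / 16 = 2 * (1 + k) + 1 := by omega
    rw [this]
    push_cast
    rw [zmod2_two, zero_mul, zero_add]
  · rw [h64 y h, h]
    have : (64 + 32 * k) / 16 = 2 * (2 + k) := by omega
    rw [this]
    push_cast
    rw [zmod2_two, zero_mul]

end Cfsg.Agent.Lib.Helper6.Leech
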