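import Cfsg.Agent.Lib.Helper6.LeechAut
import Cfsg.Agent.Lib.Helper6.LeechGen2
import Cfsg.Prelude.Def_Spor_Conway
import Mathlib.LinearAlgebra.Matrix.GeneralLinearGroup.Defs
import Mathlib.LinearAlgebra.Matrix.ToLin
import Mathlib.LinearAlgebra.FiniteDimensional.Lemmas

/-!
# A faithful representation of degree 23 of the second Conway group over the field with 13 elements
-/

set_option autoImplicit false

namespace Cfsg.Agent.Lib.Helper6.Leech

open Cfsg
open Cfsg.Agent.Lib.Helper6.Golay

theorem dotInt_comm' (x y : GolayPt → ℤ) : dotInt x y = dotInt y x := by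
  simp only [dotInt]
  exact Finset.sum_congr rfl (fun i _ => mul_comm _ _)

/-- the integer matrix of a lattice automorphism with respect to the vectors `8 e_i` -/
def matZ (f : Co0) : Matrix GolayPt GolayPt ℤ := fun j i => ((f.1 (v8 i) : leechLattice) : GolayPt → ℤ) j

theorem inv_apply_apply (f : Co0) (x : leechLattice) : (f⁻¹).1 (f.1 x) = x := by
  show (f.1)⁻¹ (f.1 x) = x
  simp

theorem apply_inv_apply (f : Co0) (x : leechLattice) : f.1 ((f⁻¹).1 x) = x := by
  show f.1 ((f.1)⁻¹ x) = x
  simp

theorem matZ_symm (f : Co0) (i j : GolayPt) :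
    (((f⁻¹).1 (v8 j) : leechLattice) : GolayPt → ℤ) i = ((f.1 (v8 i) : leechLattice) : GolayPt → ℤ) j := by
  have h1 := dot_v8 (((f⁻¹).1 (v8 j) : leechLattice) : GolayPt → ℤ) i
  have h2 := co0_dot f ((f⁻¹).1 (v8 j)) (v8 i)
  rw [apply_inv_apply] at h2
  have h3 := dot_v8 ((f.1 (v8 i) : leechLattice) : GolayPt → ℤ) j
  rw [dotInt_comm'] at h3
  linarith

/-- linearity in terms of the matrix -/
theorem matZ_mulVec (f : Co0) (x : leechLattice) (j : GolayPt) :
    ∑ i, matZ f j i * (x : GolayPt → ℤ) i = 8 * ((f.1 x : leechLattice) : GolayPt → ℤ) j := by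
  have h1 := dot_v8 ((f.1 x : leechLattice) : GolayPt → ℤ) j
  have h2 := co0_dot f⁻¹ (f.1 x) (v8 j)
  rw [inv_apply_apply] at h2
  rw [← h1, ← h2, dotInt_comm']
  simp only [dotInt, matZ]
  exact Finset.sum_congr rfl (fun i _ => by rw [matZ_symm])

theorem matZ_one : matZ 1 = (8 : ℤ) • (1 : Matrix GolayPt GolayPt ℤ) := by
  ext j i
  show ((v8 i : leechLattice) : GolayPt → ℤ) j = _
  rw [v8_apply, Matrix.smul_apply, Matrix.one_apply]
  split_ifs <;> simp

theorem matZ_mul (f g : Co0) : matZ f * matZ g = (8 : ℤ) • matZ (f * g) := by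
  ext j i
  rw [Matrix.mul_apply, Matrix.smul_apply, smul_eq_mul]
  have := matZ_mulVec f (g.1 (v8 i)) j
  exact this

theorem matZ_orth (f : Co0) : (matZ f).transpose * matZ f = (64 : ℤ) • (1 : Matrix GolayPt GolayPt ℤ) := by
  ext i k
  rw [Matrix.mul_apply, Matrix.smul_apply, Matrix.one_apply, smul_eq_mul]
  have h := co0_dot f (v8 i) (v8 k)
  rw [dot_v8, v8_apply] at h
  simp only [Matrix.transpose_apply]
  show dotInt ((f.1 (v8 i) : leechLattice) : GolayPt → ℤ) ((f.1 (v8 k) : leechLattice) : GolayPt → ℤ) = _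
  rw [h]
  by_cases hik : i = k
  · rw [if_pos hik.symm, if_pos hik]; norm_num
  · rw [if_neg (fun h => hik h.symm), if_neg hik]; norm_num

/-! ### reduction modulo 13 -/

/-- the matrix of a lattice automorphism modulo 13 (with respect to the standard basis) -/
def mat13 (f : Co0) : Matrix GolayPt GolayPt (ZMod 13) :=
  (5 : ZMod 13) • (matZ f).map (Int.castRingHom (ZMod 13))

theorem mat13_one : mat13 1 = 1 := by
  rw [mat13, matZ_one]
  ext j i
  simp only [Matrix.smul_apply, Matrix.map_apply, Matrix.one_apply, smul_eq_mul, Int.coe_castRingHom]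
  split_ifs
  · norm_num; decide
  · simp

theorem mat13_mul (f g : Co0) : mat13 (f * g) = mat13 f * mat13 g := by
  have h := congrArg (fun M : Matrix GolayPt GolayPt ℤ => M.map (Int.castRingHom (ZMod 13))) (matZ_mul f g)
  simp only [Matrix.map_mul] at h
  rw [mat13, mat13, mat13, Matrix.smul_mul, Matrix.mul_smul, h, smul_smul]
  ext j i
  simp only [Matrix.smul_apply, Matrix.map_apply, smul_eq_mul, Int.coe_castRingHom]
  push_cast
  have h200 : (5 : ZMod 13) * 5 * 8 = 5 := by decide
  rw [← mul_assoc, h200]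

/-- the representation of degree 24 modulo 13 -/
def rep24 : Co0 →* Matrix GolayPt GolayPt (ZMod 13) where
  toFun := mat13
  map_one' := mat13_one
  map_mul' := mat13_mul

theorem mat13_orth (f : Co0) : (mat13 f).transpose * mat13 f = 1 := by
  have h := congrArg (fun M : Matrix GolayPt GolayPt ℤ => M.map (Int.castRingHom (ZMod 13))) (matZ_orth f)
  simp only [Matrix.map_mul] at h
  rw [mat13, Matrix.transpose_smul, Matrix.smul_mul, Matrix.mul_smul, ← Matrix.transpose_map, h, smul_smul]
  ext j i
  simp only [Matrix.smul_apply, Matrix.map_apply, Matrix.one_apply, smul_eq_mul, Int.coe_castRingHom]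
  split_ifs
  · norm_num; decide
  · simp

/-! ### the representation of degree 23 -/

/-- the points other than infinity, indexed by `Fin 23` -/
def iota (s : Fin 23) : GolayPt := some ((s : ℕ) : ZMod 23)

/-- the fixed direction `e_∞ + e_0` -/
def bVec : GolayPt → ZMod 13 := fun j => if j = none ∨ j = some 0 then 1 else 0

def matR : Matrix (Fin 23) GolayPt (ZMod 13) := fun s j =>
  if s = 0 then (if j = none then 7 else if j = some 0 then 6 else 0) else (if j = iota s then 1 else 0)

def matP : Matrix GolayPt (Fin 23) (ZMod 13) := fun j t =>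
  if t = 0 then (if j = none then 1 else if j = some 0 then 12 else 0) else (if j = iota t then 1 else 0)

def matE : Matrix GolayPt GolayPt (ZMod 13) := (7 : ZMod 13) • Matrix.vecMulVec bVec bVec

set_option maxHeartbeats 4000000 in
theorem matR_mul_matP : matR * matP = 1 := by decide +kernel

set_option maxHeartbeats 4000000 in
theorem matP_mul_matR : matP * matR = 1 - matE := by decide +kernel

set_option maxHeartbeats 4000000 in
theorem matR_mul_matE : matR * matE = 0 := by decide +kernel

set_option maxHeartbeats 4000000 in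
theorem matE_mul_matE : matE * matE = matE := by decide +kernel


/-- the inclusion of the second Conway group -/
def co2Incl : ↥Spor.Co2 →* ↥Co0 := Subgroup.inclusion (inf_le_left : Spor.Co2 ≤ Co0)

theorem co2_fix (f : ↥Spor.Co2) : (co2Incl f).1 Spor.leechU = Spor.leechU := by
  have := f.2.2
  exact MulAction.mem_stabilizer_iff.mp this

theorem vecU_cast (i : GolayPt) : ((Spor.vecU i : ℤ) : ZMod 13) = 4 * bVec i := by
  unfold Spor.vecU bVec
  split_ifs <;> simp

theorem mat13_mulVec_b (f : ↥Spor.Co2) : (mat13 (co2Incl f)).mulVec bVec = bVec := by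
  funext j
  have h := matZ_mulVec (co2Incl f) Spor.leechU j
  rw [co2_fix] at h
  have h' := congrArg (Int.cast : ℤ → ZMod 13) h
  push_cast at h'
  have hU : ∀ i, (((Spor.leechU : leechLattice) : GolayPt → ℤ) i : ZMod 13) = 4 * bVec i := vecU_cast
  simp only [hU] at h'
  simp only [Matrix.mulVec, dotProduct, mat13, Matrix.smul_apply, Matrix.map_apply, smul_eq_mul,
    Int.coe_castRingHom]
  have e : ∑ i, 5 * ((matZ (co2Incl f) j i : ℤ) : ZMod 13) * bVec i =
      (5 * 10) * ∑ i, ((matZ (co2Incl f) j i : ℤ) : ZMod 13) * (4 * bVec i) := by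
    rw [Finset.mul_sum]
    apply Finset.sum_congr rfl
    intro i _
    have h40 : (10 : ZMod 13) * 4 = 1 := by decide
    calc 5 * ((matZ (co2Incl f) j i : ℤ) : ZMod 13) * bVec i
        = 5 * (10 * 4) * (((matZ (co2Incl f) j i : ℤ) : ZMod 13) * bVec i) := by rw [h40]; ring
      _ = _ := by ring
  rw [e, h']
  have : (5 : ZMod 13) * 10 * (8 * (4 * bVec j)) = (5 * 10 * 8 * 4) * bVec j := by ring
  rw [this]
  have h1 : (5 : ZMod 13) * 10 * 8 * 4 = 1 := by decide
  rw [h1, one_mul]

theorem mat13T_mulVec_b (f : ↥Spor.Co2) : (mat13 (co2Incl f)).transpose.mulVec bVec = bVec := by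
  have h := mat13_mulVec_b f
  calc (mat13 (co2Incl f)).transpose.mulVec bVec
      = (mat13 (co2Incl f)).transpose.mulVec ((mat13 (co2Incl f)).mulVec bVec) := by rw [h]
    _ = ((mat13 (co2Incl f)).transpose * mat13 (co2Incl f)).mulVec bVec := by rw [Matrix.mulVec_mulVec]
    _ = bVec := by rw [mat13_orth, Matrix.one_mulVec]

theorem mat13_mul_matE (f : ↥Spor.Co2) : mat13 (co2Incl f) * matE = matE := by
  rw [matE, Matrix.mul_smul, Matrix.mul_vecMulVec, mat13_mulVec_b]

theorem matE_mul_mat13 (f : ↥Spor.Co2) : matE * mat13 (co2Incl f) = matE := by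
  rw [matE, Matrix.smul_mul, Matrix.vecMulVec_mul, ← Matrix.mulVec_transpose, mat13T_mulVec_b]

/-- the representation of degree 23 -/
def rep23 : ↥Spor.Co2 →* Matrix (Fin 23) (Fin 23) (ZMod 13) where
  toFun f := matR * mat13 (co2Incl f) * matP
  map_one' := by rw [map_one, mat13_one, Matrix.mul_one, matR_mul_matP]
  map_mul' f g := by
    have e : matR * mat13 (co2Incl f) * matP * (matR * mat13 (co2Incl g) * matP) =
        matR * (mat13 (co2Incl f) * (matP * matR) * mat13 (co2Incl g)) * matP := by
      simp only [Matrix.mul_assoc]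
    rw [e, matP_mul_matR, Matrix.mul_sub, Matrix.mul_one, mat13_mul_matE, Matrix.sub_mul,
      Matrix.mul_sub, Matrix.sub_mul, ← Matrix.mul_assoc matR matE, matR_mul_matE, Matrix.zero_mul,
      Matrix.zero_mul, sub_zero, map_mul, mat13_mul]

theorem sqNorm_v8 (i : GolayPt) : sqNorm ((v8 i : leechLattice) : GolayPt → ℤ) = 64 := by
  rw [sqNorm_def]
  simp only [v8_apply]
  rw [Finset.sum_congr rfl (fun j _ => by rw [ite_pow, zero_pow (by norm_num : 2 ≠ 0)]),
    Finset.sum_ite_eq' Finset.univ i (fun _ => (8 : ℤ) ^ 2), if_pos (Finset.mem_univ i)]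
  norm_num

/-- an automorphism congruent to the identity modulo 13 is the identity -/
theorem eq_one_of_mat13 (f : Co0) (h : mat13 f = 1) : f = 1 := by
  -- the entries of the integer matrix modulo 13
  have hent : ∀ j i, ((matZ f j i : ℤ) : ZMod 13) = if j = i then 8 else 0 := by
    intro j i
    have h1 := congrFun (congrFun h j) i
    simp only [mat13, Matrix.smul_apply, Matrix.map_apply, smul_eq_mul, Int.coe_castRingHom,
      Matrix.one_apply] at h1
    have h2 : ((matZ f j i : ℤ) : ZMod 13) = 8 * (5 * ((matZ f j i : ℤ) : ZMod 13)) := by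
      have h40 : (8 : ZMod 13) * 5 = 1 := by decide
      rw [← mul_assoc, h40, one_mul]
    rw [h2, h1]
    split_ifs <;> simp
  -- the images of the vectors `8 e_i`
  have hv8 : ∀ i, f.1 (v8 i) = v8 i := by
    intro i
    apply Subtype.ext
    have hn := co0_norm f (v8 i)
    rw [sqNorm_v8, sqNorm_def] at hn
    have hb : ∀ j, (((f.1 (v8 i) : leechLattice) : GolayPt → ℤ) j) ^ 2 ≤ 64 := by
      intro j
      rw [← hn]
      exact Finset.single_le_sum (f := fun j => (((f.1 (v8 i) : leechLattice) : GolayPt → ℤ) j) ^ 2)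
        (fun k _ => sq_nonneg _) (Finset.mem_univ j)
    have hoff : ∀ j, j ≠ i → ((f.1 (v8 i) : leechLattice) : GolayPt → ℤ) j = 0 := by
      intro j hj
      have h1 := hent j i
      rw [if_neg hj, ZMod.intCast_zmod_eq_zero_iff_dvd] at h1
      have h2 := hb j
      have h3 : matZ f j i = ((f.1 (v8 i) : leechLattice) : GolayPt → ℤ) j := rfl
      rw [h3] at h1
      have h4 : -8 ≤ ((f.1 (v8 i) : leechLattice) : GolayPt → ℤ) j := by nlinarith
      have h5 : ((f.1 (v8 i) : leechLattice) : GolayPt → ℤ) j ≤ 8 := by nlinarith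
      obtain ⟨c, hc⟩ := h1
      push_cast at hc
      omega
    have hdiag : ((f.1 (v8 i) : leechLattice) : GolayPt → ℤ) i = 8 := by
      have hs : ∑ j, (((f.1 (v8 i) : leechLattice) : GolayPt → ℤ) j) ^ 2 =
          (((f.1 (v8 i) : leechLattice) : GolayPt → ℤ) i) ^ 2 := by
        apply Finset.sum_eq_single i
        · intro j _ hj
          rw [hoff j hj]; norm_num
        · intro hi; exact absurd (Finset.mem_univ i) hi
      rw [hs] at hn
      have h1 := hent i i
      rw [if_pos rfl] at h1
      have h3 : matZ f i i = ((f.1 (v8 i) : leechLattice) : GolayPt → ℤ) i := rfl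
      rw [h3] at h1
      have h8 : (8 : ZMod 13) = ((8 : ℤ) : ZMod 13) := by norm_num
      rw [h8, ZMod.intCast_eq_intCast_iff_dvd_sub] at h1
      obtain ⟨c, hc⟩ := h1
      push_cast at hc
      have h4 : ((f.1 (v8 i) : leechLattice) : GolayPt → ℤ) i = 8 ∨
          ((f.1 (v8 i) : leechLattice) : GolayPt → ℤ) i = -8 := by
        have : (((f.1 (v8 i) : leechLattice) : GolayPt → ℤ) i - 8) *
            (((f.1 (v8 i) : leechLattice) : GolayPt → ℤ) i + 8) = 0 := by nlinarith
        rcases mul_eq_zero.mp this with h | h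
        · left; linarith
        · right; linarith
      rcases h4 with h | h
      · exact h
      · omega
    funext j
    rw [v8_apply]
    by_cases hj : j = i
    · rw [if_pos hj, hj]; exact hdiag
    · rw [if_neg hj]; exact hoff j hj
  -- hence the automorphism is the identity
  apply Subtype.ext
  apply Equiv.ext
  intro x
  apply Subtype.ext
  funext j
  have h1 := matZ_mulVec f x j
  have h2 : ∀ i, matZ f j i = if j = i then 8 else 0 := by
    intro i
    show ((f.1 (v8 i) : leechLattice) : GolayPt → ℤ) j = _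
    rw [hv8, v8_apply]
  simp only [h2, ite_mul, zero_mul] at h1
  rw [Finset.sum_ite_eq Finset.univ j (fun i => 8 * (x : GolayPt → ℤ) i), if_pos (Finset.mem_univ j)] at h1
  show ((f.1 x : leechLattice) : GolayPt → ℤ) j = (x : GolayPt → ℤ) j
  linarith

theorem rep23_injective : Function.Injective rep23 := by
  rw [injective_iff_map_eq_one]
  intro f hf
  have h1 : matR * mat13 (co2Incl f) * matP = 1 := hf
  have h2 : matP * (matR * mat13 (co2Incl f) * matP) * matR = matP * matR := by rw [h1, Matrix.mul_one]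
  have e : matP * (matR * mat13 (co2Incl f) * matP) * matR =
      (matP * matR) * mat13 (co2Incl f) * (matP * matR) := by simp only [Matrix.mul_assoc]
  rw [e, matP_mul_matR, Matrix.sub_mul, Matrix.one_mul, matE_mul_mat13, Matrix.mul_sub,
    Matrix.mul_one, Matrix.sub_mul, mat13_mul_matE, matE_mul_matE, sub_self, sub_zero] at h2
  have h3 : mat13 (co2Incl f) = 1 := by
    have := congrArg (fun M => M + matE) h2
    simpa using this
  have h4 := eq_one_of_mat13 _ h3
  apply Subtype.ext
  have := congrArg Subtype.val h4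
  exact this

/-- **S5546** -/
theorem co2_embeds : ∃ f : ↥Spor.Co2 →* GL (Fin 23) (ZMod 13), Function.Injective f := by
  refine ⟨rep23.toHomUnits, ?_⟩
  intro a b hab
  apply rep23_injective
  have := congrArg (fun u : (Matrix (Fin 23) (Fin 23) (ZMod 13))ˣ => (u : Matrix (Fin 23) (Fin 23) (ZMod 13))) hab
  exact this

end Cfsg.Agent.Lib.Helper6.Leech
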