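import Cfsg.Agent.Lib.Helper6.LeechCountQ

/-!
# The shapes of the lattice vectors of norm 48
-/

set_option autoImplicit false

namespace Cfsg.Agent.Lib.Helper6.Leech

open Cfsg
open Cfsg.Agent.Lib.Helper6.Golay
open Cfsg.Agent.Lib.Helper6.LeechCount

/-- all coordinates in `{0, 2, -2}` -/
def q022 (v : ℤ) : Bool := decide (v = 0 ∨ v = 2 ∨ v = -2)

/-- absolute value different from `k` -/
def qne (k : ℤ) (v : ℤ) : Bool := !decide (v = k ∨ v = -k)

theorem qne_false {k v : ℤ} (hk : 0 ≤ k) : qne k v = false ↔ |v| = k := by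
  rw [qne, Bool.not_eq_false', decide_eq_true_iff, abs_eq hk]

set_option maxRecDepth 1000000 in
set_option maxHeartbeats 4000000 in
theorem entries48_q022 : entryEq q022 0 48 = 0 ∧ entryOq q022 0 48 = 0 ∧ entryEq q022 8 48 = 0 ∧
    entryOq q022 8 48 = 0 ∧ entryEq q022 12 48 = 2048 ∧ entryOq q022 12 48 = 0 ∧
    entryEq q022 16 48 = 0 ∧ entryOq q022 16 48 = 0 ∧ entryEq q022 24 48 = 0 ∧ entryOq q022 24 48 = 0 := by
  decide +kernel

set_option maxRecDepth 1000000 in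
set_option maxHeartbeats 4000000 in
theorem entries48_ne3 : entryEq (qne 3) 0 48 = 0 ∧ entryOq (qne 3) 0 48 = 24 ∧ entryEq (qne 3) 8 48 = 4096 ∧
    entryOq (qne 3) 8 48 = 24 ∧ entryEq (qne 3) 12 48 = 2048 ∧ entryOq (qne 3) 12 48 = 24 ∧
    entryEq (qne 3) 16 48 = 0 ∧ entryOq (qne 3) 16 48 = 24 ∧ entryEq (qne 3) 24 48 = 0 ∧
    entryOq (qne 3) 24 48 = 24 := by
  decide +kernel

set_option maxRecDepth 1000000 in
set_option maxHeartbeats 4000000 in
theorem entries48_ne4 : entryEq (qne 4) 0 48 = 0 ∧ entryOq (qne 4) 0 48 = 2048 ∧ entryEq (qne 4) 8 48 = 0 ∧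
    entryOq (qne 4) 8 48 = 2048 ∧ entryEq (qne 4) 12 48 = 2048 ∧ entryOq (qne 4) 12 48 = 2048 ∧
    entryEq (qne 4) 16 48 = 0 ∧ entryOq (qne 4) 16 48 = 2048 ∧ entryEq (qne 4) 24 48 = 0 ∧
    entryOq (qne 4) 24 48 = 2048 := by
  decide +kernel

set_option maxRecDepth 1000000 in
set_option maxHeartbeats 4000000 in
theorem entries48_ne5 : entryEq (qne 5) 0 48 = 0 ∧ entryOq (qne 5) 0 48 = 2024 ∧ entryEq (qne 5) 8 48 = 4096 ∧
    entryOq (qne 5) 8 48 = 2024 ∧ entryEq (qne 5) 12 48 = 2048 ∧ entryOq (qne 5) 12 48 = 2024 ∧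
    entryEq (qne 5) 16 48 = 0 ∧ entryOq (qne 5) 16 48 = 2024 ∧ entryEq (qne 5) 24 48 = 0 ∧
    entryOq (qne 5) 24 48 = 2024 := by
  decide +kernel

theorem ncard_48_022 :
    {x : GolayPt → ℤ | x ∈ leechLattice ∧ sqNorm x = 48 ∧ ∀ i, x i = 0 ∨ x i = 2 ∨ x i = -2}.ncard =
      5275648 := by
  have h := ncard_leech_norm_q q022 (n := 48) (by norm_num)
  obtain ⟨h1, h2, h3, h4, h5, h6, h7, h8, h9, h10⟩ := entries48_q022
  rw [h1, h2, h3, h4, h5, h6, h7, h8, h9, h10] at h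
  simpa [q022] using h

theorem ncard_48_abs (k : ℤ) (hk : 0 ≤ k) :
    {x : GolayPt → ℤ | x ∈ leechLattice ∧ sqNorm x = 48 ∧ ∃ i, |x i| = k}.ncard +
      {x : GolayPt → ℤ | x ∈ leechLattice ∧ sqNorm x = 48 ∧ ∀ i, qne k (x i) = true}.ncard =
      16773120 := by
  have h := ncard_leech_norm_exists (qne k) (n := 48) (by norm_num)
  have h48 := ncard_norm48
  simp only [qne_false hk, Nat.cast_ofNat] at h
  rw [← h48, ← h]

theorem ncard_48_abs3 :
    {x : GolayPt → ℤ | x ∈ leechLattice ∧ sqNorm x = 48 ∧ ∃ i, |x i| = 3}.ncard = 8290304 := by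
  have h := ncard_48_abs 3 (by norm_num)
  have h' := ncard_leech_norm_q (qne 3) (n := 48) (by norm_num)
  simp only [Nat.cast_ofNat] at h'
  obtain ⟨h1, h2, h3, h4, h5, h6, h7, h8, h9, h10⟩ := entries48_ne3
  rw [h1, h2, h3, h4, h5, h6, h7, h8, h9, h10] at h'
  omega

theorem ncard_48_abs4 :
    {x : GolayPt → ℤ | x ∈ leechLattice ∧ sqNorm x = 48 ∧ ∃ i, |x i| = 4}.ncard = 3108864 := by
  have h := ncard_48_abs 4 (by norm_num)
  have h' := ncard_leech_norm_q (qne 4) (n := 48) (by norm_num)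
  simp only [Nat.cast_ofNat] at h'
  obtain ⟨h1, h2, h3, h4, h5, h6, h7, h8, h9, h10⟩ := entries48_ne4
  rw [h1, h2, h3, h4, h5, h6, h7, h8, h9, h10] at h'
  omega

theorem ncard_48_abs5 :
    {x : GolayPt → ℤ | x ∈ leechLattice ∧ sqNorm x = 48 ∧ ∃ i, |x i| = 5}.ncard = 98304 := by
  have h := ncard_48_abs 5 (by norm_num)
  have h' := ncard_leech_norm_q (qne 5) (n := 48) (by norm_num)
  simp only [Nat.cast_ofNat] at h'
  obtain ⟨h1, h2, h3, h4, h5, h6, h7, h8, h9, h10⟩ := entries48_ne5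
  rw [h1, h2, h3, h4, h5, h6, h7, h8, h9, h10] at h'
  omega

theorem abs_eq_three_iff (v : ℤ) : |v| = 3 ↔ v ^ 2 = 9 := by
  rw [abs_eq (by norm_num)]
  constructor
  · rintro (h | h) <;> rw [h] <;> norm_num
  · intro h
    have : (v - 3) * (v + 3) = 0 := by ring_nf; linarith
    rcases mul_eq_zero.mp this with h | h
    · left; linarith
    · right; linarith

/-- in a lattice vector of norm 48, a coordinate `±3` comes with two more -/
theorem three_of_one {x : GolayPt → ℤ} (hx : x ∈ leechLattice) (hsq : sqNorm x = 48) {i0 : GolayPt}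
    (h0 : |x i0| = 3) :
    ∃ i j k, i ≠ j ∧ j ≠ k ∧ i ≠ k ∧ |x i| = 3 ∧ |x j| = 3 ∧ |x k| = 3 := by
  obtain ⟨m, h1, h2, h3⟩ := mem_leechSet.mp (mem_leechLattice.mp hx)
  have hodd : ∀ i, x i % 2 = 1 := by
    intro i
    have := h1 i
    have := h1 i0
    rcases (abs_eq (by norm_num)).mp h0 with h | h <;> omega
  have hcases : ∀ i, x i ^ 2 = 1 ∨ x i ^ 2 = 9 ∨ 25 ≤ x i ^ 2 := by
    intro i
    have := hodd i
    have h6 : x i ≤ -5 ∨ x i = -3 ∨ x i = -1 ∨ x i = 1 ∨ x i = 3 ∨ 5 ≤ x i := by omega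
    rcases h6 with h | h | h | h | h | h
    · right; right; nlinarith
    · right; left; rw [h]; norm_num
    · left; rw [h]; norm_num
    · left; rw [h]; norm_num
    · right; left; rw [h]; norm_num
    · right; right; nlinarith
  have hsum : ∑ i, (x i ^ 2 - 1) = 24 := by
    rw [Finset.sum_sub_distrib, Finset.sum_const, Finset.card_univ, card_golayPt, ← sqNorm_def, hsq]
    norm_num
  have h09 : x i0 ^ 2 = 9 := (abs_eq_three_iff _).mp h0
  by_cases hbig : ∃ i1, 25 ≤ x i1 ^ 2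
  · exfalso
    obtain ⟨i1, hi1⟩ := hbig
    have hne : i0 ≠ i1 := by
      rintro rfl
      omega
    have hle : ∑ i ∈ ({i0, i1} : Finset GolayPt), (x i ^ 2 - 1) ≤ ∑ i, (x i ^ 2 - 1) := by
      apply Finset.sum_le_sum_of_subset_of_nonneg (Finset.subset_univ _)
      intro i _ _
      rcases hcases i with h | h | h <;> omega
    rw [Finset.sum_pair hne, hsum] at hle
    omega
  · push Not at hbig
    have hval : ∀ i, x i ^ 2 - 1 = if x i ^ 2 = 9 then 8 else 0 := by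
      intro i
      have := hbig i
      rcases hcases i with h | h | h
      · rw [h, if_neg (by norm_num)]; norm_num
      · rw [h, if_pos rfl]; norm_num
      · omega
    rw [Finset.sum_congr rfl (fun i _ => hval i), ← Finset.sum_filter, Finset.sum_const, nsmul_eq_mul] at hsum
    have hcard : 2 < (Finset.univ.filter (fun i => x i ^ 2 = 9)).card := by
      omega
    obtain ⟨a, b, c, ha, hb, hc, hab, hac, hbc⟩ := Finset.two_lt_card_iff.mp hcard
    simp only [Finset.mem_filter, Finset.mem_univ, true_and] at ha hb hc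
    exact ⟨a, b, c, hab, hbc, hac, (abs_eq_three_iff _).mpr ha, (abs_eq_three_iff _).mpr hb,
      (abs_eq_three_iff _).mpr hc⟩

theorem ncard_48_three :
    {x : GolayPt → ℤ | x ∈ leechLattice ∧ sqNorm x = 48 ∧
      ∃ i j k, i ≠ j ∧ j ≠ k ∧ i ≠ k ∧ |x i| = 3 ∧ |x j| = 3 ∧ |x k| = 3}.ncard = 8290304 := by
  rw [← ncard_48_abs3]
  congr 1
  ext x
  simp only [Set.mem_ofPred_eq]
  constructor
  · rintro ⟨h1, h2, i, _, _, _, _, _, hi, _⟩
    exact ⟨h1, h2, i, hi⟩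
  · rintro ⟨h1, h2, i, hi⟩
    exact ⟨h1, h2, three_of_one h1 h2 hi⟩

end Cfsg.Agent.Lib.Helper6.Leech
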