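import Cfsg.Agent.Lib.Helper6.LeechBasic
import Cfsg.Agent.Lib.Helper6.GolayFlag3

/-!
# Every even subset of an octad is cut out by a codeword
-/

set_option autoImplicit false

namespace Cfsg.Agent.Lib.Helper6.Leech

open Cfsg
open Cfsg.Agent.Lib.Helper6.Golay
open scoped Pointwise

theorem IsC.smul {s : Finset GolayPt} (hs : IsC s) {t : Equiv.Perm GolayPt} (ht : t ∈ M24) :
    IsC (t • s) := by
  have h : t • supports (golayCode : Set (GolayPt → ZMod 2)) = supports (golayCode : Set (GolayPt → ZMod 2)) :=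
    MulAction.mem_stabilizer_iff.mp ht
  have := Set.smul_mem_smul_set (a := t) hs
  rwa [h] at this

theorem ref_inter : fs 11575377 ∩ fs octad0 = {pt 23, pt 0} := by
  rw [← fs_and]; decide

theorem ref_isC : IsC (fs 11575377) :=
  (fs_mem_supports_iff (by norm_num)).mpr (by decide +kernel)

theorem exists_isC_inter_pair {o : Finset GolayPt} (ho : o ∈ octads) {p q : GolayPt} (hpq : p ≠ q)
    (hp : p ∈ o) (hq : q ∈ o) : ∃ c, IsC c ∧ c ∩ o = {p, q} := by
  obtain ⟨t, ht, h1, h2, h3⟩ := exists_M24_octad_two_points_in ho hpq hp hq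
  refine ⟨t • fs 11575377, ref_isC.smul ht, ?_⟩
  rw [← h3, ← Finset.smul_finset_inter, ref_inter, Finset.smul_finset_insert, Finset.smul_finset_singleton]
  show ({t (pt 23), t (pt 0)} : Finset GolayPt) = _
  rw [h1, h2]

theorem exists_isC_inter {o : Finset GolayPt} (ho : o ∈ octads) :
    ∀ (n : ℕ) (e : Finset GolayPt), e ⊆ o → e.card = 2 * n → ∃ c, IsC c ∧ c ∩ o = e := by
  intro n
  induction n with
  | zero =>
    intro e _ he
    have he0 : e = ∅ := Finset.card_eq_zero.mp (by omega)
    rw [he0]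
    exact ⟨∅, isC_empty, Finset.empty_inter _⟩
  | succ n ih =>
    intro e heo he
    obtain ⟨p, hp⟩ : e.Nonempty := Finset.card_pos.mp (by omega)
    obtain ⟨q, hq⟩ : (e.erase p).Nonempty := Finset.card_pos.mp (by
      rw [Finset.card_erase_of_mem hp]; omega)
    have hqe : q ∈ e := Finset.mem_of_mem_erase hq
    have hqp : q ≠ p := Finset.ne_of_mem_erase hq
    obtain ⟨c', hc', hi'⟩ := ih ((e.erase p).erase q)
      (fun i hi => heo (Finset.mem_of_mem_erase (Finset.mem_of_mem_erase hi)))
      (by rw [Finset.card_erase_of_mem hq, Finset.card_erase_of_mem hp]; omega)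
    obtain ⟨c'', hc'', hi''⟩ := exists_isC_inter_pair ho (Ne.symm hqp) (heo hp) (heo hqe)
    refine ⟨symmDiff c' c'', hc'.symmDiff hc'', ?_⟩
    ext i
    have e1 : i ∈ c' ∩ o ↔ i ∈ (e.erase p).erase q := by rw [hi']
    have e2 : i ∈ c'' ∩ o ↔ i ∈ ({p, q} : Finset GolayPt) := by rw [hi'']
    simp only [Finset.mem_inter, Finset.mem_erase, Finset.mem_insert, Finset.mem_singleton] at e1 e2
    simp only [Finset.mem_inter, Finset.mem_symmDiff]
    by_cases hio : i ∈ o
    · by_cases hip : i = p
      · subst hip; simp_all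
      · by_cases hiq : i = q
        · subst hiq; simp_all
        · simp_all
    · constructor
      · intro h; exact absurd h.2 hio
      · intro h; exact absurd (heo h) hio

end Cfsg.Agent.Lib.Helper6.Leech
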