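import Cfsg.Agent.Lib.Helper6.LeechSimpleHS
import Cfsg.Agent.Lib.Helper6.LeechCo3Sub2

/-!
# The stabiliser of a vector of norm 48 is simple of order 495766656000
-/

set_option autoImplicit false

namespace Cfsg.Agent.Lib.Helper6.Leech

open Cfsg MulAction
open Cfsg.Agent.Lib.Helper6.Golay Cfsg.Agent.Lib.Helper6.SimpleAct

/-- **The stabiliser of the reference vector of norm 48 is simple.** -/
theorem isSimpleGroup_co3Ref : IsSimpleGroup ↥(stabilizer Co0 u0) := by
  have hfinG : Finite ↥(stabilizer Co0 u0) :=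
    Nat.finite_of_card_ne_zero (by rw [show Nat.card ↥(stabilizer Co0 u0) = _ from card_co3Ref]; norm_num)
  obtain ⟨y1, hy1, y2, hy2, y3, hy3, y4, hy4, h1, h2, h3, h4, hU⟩ :=
    co3_suborbits u0 xrV u0L_norm xr_mem_co3Pts
  have hfin : co3Pts.Finite := Set.finite_of_ncard_ne_zero (by rw [co3Pts_ncard]; norm_num)
  have hsimple : IsSimpleGroup ↥(stabilizer Co0 u0 ⊓ stabilizer Co0 xrV) := by
    have := co3Ref_inf
    rw [co3Ref] at this
    rw [this]
    exact isSimpleGroup_hsRef
  refine isSimpleGroup_of_suborbits (stabilizer Co0 u0) co3Pts hfin xrV xr_mem_co3Pts ?_ ?_ hsimple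
    ![y1, y2, y3, y4] ![352, 1100, 4125, 5600] ?_ ?_ ?_ (by decide) (by decide) (by norm_num) 11178
    co3Pts_ncard (by decide) (fun N hN hc => exists_normal_11178 N hN hc)
  · intro k hk x hx
    refine ⟨(co0_norm k x).trans hx.1, ?_⟩
    have := co0_dot k u0 x
    rw [(co0_stab_iff k u0).mp hk] at this
    exact this.trans hx.2
  · intro y hy
    obtain ⟨g, h1, h2⟩ := co3_transitive_11178 u0 xrV y u0L_norm xr_mem_co3Pts.1 hy.1 xr_mem_co3Pts.2 hy.2
    exact ⟨g, h1, h2⟩
  · intro i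
    fin_cases i
    · exact h1
    · exact h2
    · exact h3
    · exact h4
  · intro x hx
    have hx' : x ∈ {x : leechLattice | sqNorm (x : GolayPt → ℤ) = 32 ∧
        dotInt (u0 : GolayPt → ℤ) (x : GolayPt → ℤ) = -16} := hx
    rw [hU] at hx'
    rcases hx' with (((hx' | hx') | hx') | hx') | hx'
    · left; exact hx'
    · right; exact ⟨0, hx'⟩
    · right; exact ⟨1, hx'⟩
    · right; exact ⟨2, hx'⟩
    · right; exact ⟨3, hx'⟩
  · intro i
    fin_cases i
    · exact hy1
    · exact hy2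
    · exact hy3
    · exact hy4

theorem card_co3_main (v : leechLattice) (hv : sqNorm (v : GolayPt → ℤ) = 48) :
    IsSimpleGroup ↥(stabilizer Co0 v) ∧ Nat.card ↥(stabilizer Co0 v) = 495766656000 := by
  obtain ⟨g0, hg0⟩ := exists_to_u0 v hv
  have h1 : u0 = g0 • v := hg0.symm
  have e := stabilizerEquivStabilizer h1
  refine ⟨?_, ?_⟩
  · have : IsSimpleGroup ↥(stabilizer Co0 u0) := isSimpleGroup_co3Ref
    exact e.isSimpleGroup
  · rw [Nat.card_congr e.toEquiv]
    exact card_co3Ref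

end Cfsg.Agent.Lib.Helper6.Leech
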