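import Mathlib

/-!
# Normal subgroups of orders 100, 2025 and 11178 contain smaller normal subgroups
-/

set_option autoImplicit false

namespace Cfsg.Agent.Lib.Helper6.SimpleAct

open Subgroup

/-- the elements of a normal complement of a Sylow subgroup are those of order prime to `p` -/
theorem mem_complement_iff {K : Type*} [Group K] [Finite K] {p : ℕ} [hp : Fact p.Prime] (P : Sylow p K)
    (Q : Subgroup K) [Q.Normal] (hQ : Q.IsComplement' P) (x : K) : x ∈ Q ↔ ¬ p ∣ orderOf x := by
  constructor
  · intro hx hpx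
    have h1 : orderOf x ∣ Nat.card Q := Q.orderOf_dvd_natCard hx
    have h2 : (P : Subgroup K).index = Nat.card Q := hQ.index_eq_card
    exact P.not_dvd_index (h2 ▸ hpx.trans h1)
  · intro hpx
    have h1 : Q.index = Nat.card P := hQ.symm.index_eq_card
    obtain ⟨k, hk⟩ := IsPGroup.iff_card.mp P.isPGroup'
    have h2 : orderOf (QuotientGroup.mk' Q x) ∣ p ^ k := by
      have := orderOf_dvd_natCard (QuotientGroup.mk' Q x)
      rwa [← Subgroup.index_eq_card, h1, hk] at this
    have h3 : orderOf (QuotientGroup.mk' Q x) ∣ orderOf x := orderOf_map_dvd _ x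
    obtain ⟨j, -, hj⟩ := (Nat.dvd_prime_pow hp.out).mp h2
    have hj0 : j = 0 := by
      by_contra hne
      apply hpx
      refine dvd_trans ?_ h3
      rw [hj]
      exact dvd_pow_self p hne
    rw [hj0, pow_zero, orderOf_eq_one_iff] at hj
    exact (QuotientGroup.eq_one_iff x).mp hj

/-- a normal complement of a Sylow subgroup of a normal subgroup is normal in the whole group -/
theorem normal_map_complement {G : Type*} [Group G] (N : Subgroup G) [hN : N.Normal] [Finite N] {p : ℕ}
    [Fact p.Prime] (P : Sylow p N) (Q : Subgroup N) [Q.Normal] (hQ : Q.IsComplement' P) :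
    (Q.map N.subtype).Normal := by
  constructor
  rintro _ ⟨x, hx, rfl⟩ g
  have hmem : g * (x : G) * g⁻¹ ∈ N := hN.conj_mem _ x.2 g
  refine ⟨⟨g * (x : G) * g⁻¹, hmem⟩, ?_, rfl⟩
  rw [SetLike.mem_coe, mem_complement_iff P Q hQ] at hx ⊢
  rw [Subgroup.orderOf_mk]
  have : orderOf (g * (x : G) * g⁻¹) = orderOf (x : G) := (MulAut.conj g).orderOf_eq (x : G)
  rw [this, Subgroup.orderOf_coe]
  exact hx

/-- the order of a Sylow subgroup -/
theorem sylow_card_of {K : Type*} [Group K] [Finite K] {p : ℕ} [hp : Fact p.Prime] (P : Sylow p K) {a r : ℕ}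
    (hcard : Nat.card K = p ^ a * r) (hr : ¬ p ∣ r) : Nat.card P = p ^ a := by
  obtain ⟨k, hk⟩ := IsPGroup.iff_card.mp P.isPGroup'
  apply Nat.dvd_antisymm
  · have h1 : Nat.card P ∣ p ^ a * r := hcard ▸ (P : Subgroup K).card_subgroup_dvd_card
    rw [hk] at h1 ⊢
    exact (Nat.Coprime.pow_left k ((Nat.Prime.coprime_iff_not_dvd hp.out).mpr hr)).dvd_of_dvd_mul_right h1
  · exact P.pow_dvd_card_of_pow_dvd_card (hcard ▸ Dvd.intro r rfl)

/-- a unique Sylow subgroup gives a normal subgroup of the whole group -/
theorem exists_normal_of_sylow_unique {G : Type*} [Group G] (N : Subgroup G) [hN : N.Normal] [Finite N] {p : ℕ}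
    [Fact p.Prime] (P : Sylow p N) (h1 : Nat.card (Sylow p N) = 1) (hlo : 1 < Nat.card P)
    (hhi : Nat.card P < Nat.card N) : ∃ C : Subgroup G, C.Normal ∧ C ≤ N ∧ C ≠ ⊥ ∧ C ≠ N := by
  have : Subsingleton (Sylow p N) := (Nat.card_eq_one_iff_unique.mp h1).1
  have : (P : Subgroup N).Characteristic := Sylow.characteristic_of_subsingleton P
  have hc : Nat.card ((P : Subgroup N).map N.subtype) = Nat.card P :=
    Subgroup.card_map_of_injective N.subtype_injective
  refine ⟨(P : Subgroup N).map N.subtype, ConjAct.normal_of_characteristic_of_normal, map_subtype_le _, ?_, ?_⟩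
  · intro h
    rw [h, Subgroup.card_bot] at hc
    omega
  · intro h
    rw [h] at hc
    omega

/-- a normal complement of a Sylow subgroup gives a normal subgroup of the whole group -/
theorem exists_normal_of_complement {G : Type*} [Group G] (N : Subgroup G) [hN : N.Normal] [Finite N] {p : ℕ}
    [Fact p.Prime] (P : Sylow p N) (Q : Subgroup N) [Q.Normal] (hQ : Q.IsComplement' P)
    (hlo : 1 < Nat.card Q) (hhi : Nat.card Q < Nat.card N) :
    ∃ C : Subgroup G, C.Normal ∧ C ≤ N ∧ C ≠ ⊥ ∧ C ≠ N := by
  have hc : Nat.card (Q.map N.subtype) = Nat.card Q := Subgroup.card_map_of_injective N.subtype_injective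
  refine ⟨Q.map N.subtype, normal_map_complement N P Q hQ, map_subtype_le _, ?_, ?_⟩
  · intro h
    rw [h, Subgroup.card_bot] at hc
    omega
  · intro h
    rw [h] at hc
    omega

/-- **Order 100.** -/
theorem exists_normal_100 {G : Type*} [Group G] (N : Subgroup G) (hN : N.Normal) (hc : Nat.card N = 100) :
    ∃ C : Subgroup G, C.Normal ∧ C ≤ N ∧ C ≠ ⊥ ∧ C ≠ N := by
  have : Finite N := Nat.finite_of_card_ne_zero (by rw [hc]; norm_num)
  have : Fact (Nat.Prime 5) := ⟨by norm_num⟩
  obtain ⟨P⟩ : Nonempty (Sylow 5 N) := Sylow.nonempty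
  have hP : Nat.card P = 5 ^ 2 := sylow_card_of P (r := 4) (by rw [hc]; norm_num) (by norm_num)
  have hidx : (P : Subgroup N).index = 4 := by
    have := (P : Subgroup N).index_mul_card
    rw [hP, hc] at this
    omega
  have h1 : Nat.card (Sylow 5 N) = 1 := by
    have hd := P.card_dvd_index
    rw [hidx] at hd
    have hm := card_sylow_modEq_one 5 N
    have hle := Nat.le_of_dvd (by norm_num) hd
    unfold Nat.ModEq at hm
    interval_cases h : Nat.card (Sylow 5 N) <;> simp_all
  exact exists_normal_of_sylow_unique N P h1 (by rw [hP]; norm_num) (by rw [hP, hc]; norm_num)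

/-- **Order 11178.** -/
theorem exists_normal_11178 {G : Type*} [Group G] (N : Subgroup G) (hN : N.Normal) (hc : Nat.card N = 11178) :
    ∃ C : Subgroup G, C.Normal ∧ C ≤ N ∧ C ≠ ⊥ ∧ C ≠ N := by
  have : Finite N := Nat.finite_of_card_ne_zero (by rw [hc]; norm_num)
  have : Fact (Nat.Prime 2) := ⟨by norm_num⟩
  obtain ⟨P⟩ : Nonempty (Sylow 2 N) := Sylow.nonempty
  have hP : Nat.card P = 2 ^ 1 := sylow_card_of P (r := 5589) (by rw [hc]; norm_num) (by norm_num)
  have hidx : (P : Subgroup N).index = 5589 := by
    have := (P : Subgroup N).index_mul_card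
    rw [hP, hc] at this
    omega
  have hcyc : IsCyclic P := isCyclic_of_prime_card (p := 2) (by rw [hP]; norm_num)
  have hmin : (Nat.card N).minFac = 2 := by rw [hc]; norm_num
  have hQ := IsCyclic.isComplement' hmin hcyc
  have hcQ : Nat.card (MonoidHom.transferSylow P (hcyc.normalizer_le_centralizer hmin)).ker = 5589 := by
    rw [← hQ.index_eq_card, hidx]
  exact exists_normal_of_complement N P _ hQ (by rw [hcQ]; norm_num) (by rw [hcQ, hc]; norm_num)

/-- **Order 2025.** -/
theorem exists_normal_2025 {G : Type*} [Group G] (N : Subgroup G) (hN : N.Normal) (hc : Nat.card N = 2025) :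
    ∃ C : Subgroup G, C.Normal ∧ C ≤ N ∧ C ≠ ⊥ ∧ C ≠ N := by
  have : Finite N := Nat.finite_of_card_ne_zero (by rw [hc]; norm_num)
  have : Fact (Nat.Prime 5) := ⟨by norm_num⟩
  obtain ⟨P⟩ : Nonempty (Sylow 5 N) := Sylow.nonempty
  have hP : Nat.card P = 5 ^ 2 := sylow_card_of P (r := 81) (by rw [hc]; norm_num) (by norm_num)
  have hidx : (P : Subgroup N).index = 81 := by
    have := (P : Subgroup N).index_mul_card
    rw [hP, hc] at this
    omega
  by_cases h1 : Nat.card (Sylow 5 N) = 1
  · exact exists_normal_of_sylow_unique N P h1 (by rw [hP]; norm_num) (by rw [hP, hc]; norm_num)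
  · -- the Sylow subgroup is self-normalising
    have h81 : Nat.card (Sylow 5 N) = 81 := by
      have hd := P.card_dvd_index
      rw [hidx] at hd
      have hm := card_sylow_modEq_one 5 N
      have hdiv : Nat.card (Sylow 5 N) ∈ Nat.divisors 81 := Nat.mem_divisors.mpr ⟨hd, by norm_num⟩
      have hdivs : Nat.divisors 81 = {1, 3, 9, 27, 81} := by decide
      rw [hdivs] at hdiv
      unfold Nat.ModEq at hm
      simp only [Finset.mem_insert, Finset.mem_singleton] at hdiv
      rcases hdiv with h | h | h | h | h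
      · exact absurd h h1
      · rw [h] at hm; norm_num at hm
      · rw [h] at hm; norm_num at hm
      · rw [h] at hm; norm_num at hm
      · exact h
    have hnorm : normalizer (P : Set N) = (P : Subgroup N) := by
      symm
      apply Subgroup.eq_of_le_of_card_ge P.le_normalizer
      have h2 := P.card_eq_index_normalizer
      rw [h81] at h2
      have h3 := (normalizer (P : Set N)).index_mul_card
      rw [← h2, hc] at h3
      have h4 : Nat.card (normalizer (P : Set N)) = 25 := by omega
      have h5 : Nat.card (normalizer (P : Set N)) ≤ Nat.card P := by rw [h4, hP]; norm_num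
      exact h5
    have hcomm : ∀ a b : P, a * b = b * a := IsPGroup.commutative_of_card_eq_prime_sq hP
    have hle : normalizer (P : Set N) ≤ centralizer (P : Set N) := by
      rw [hnorm]
      intro x hx y hy
      have := hcomm ⟨y, hy⟩ ⟨x, hx⟩
      exact congrArg Subtype.val this
    have hQ := MonoidHom.ker_transferSylow_isComplement' P hle
    have hcQ : Nat.card (MonoidHom.transferSylow P hle).ker = 81 := by
      rw [← hQ.index_eq_card, hidx]
    exact exists_normal_of_complement N P _ hQ (by rw [hcQ]; norm_num) (by rw [hcQ, hc]; norm_num)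

end Cfsg.Agent.Lib.Helper6.SimpleAct
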