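import Cfsg.Agent.Lib.Helper6.SimpleAct

/-!
# Simplicity of a subgroup from its action on an invariant set
-/

set_option autoImplicit false

namespace Cfsg.Agent.Lib.Helper6.SimpleAct

open MulAction

/-- **Simplicity from the sub-orbit lengths, a simple point stabiliser and the exclusion of regular
normal subgroups.** -/
theorem isSimpleGroup_of_suborbits {G X : Type*} [Group G] [MulAction G X] (K : Subgroup G) [Finite K]
    (Ω : Set X) (hΩ : Ω.Finite) (a : X) (ha : a ∈ Ω)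
    (hinv : ∀ k ∈ K, ∀ x ∈ Ω, k • x ∈ Ω)
    (htrans : ∀ x ∈ Ω, ∃ k ∈ K, k • a = x)
    (hH : IsSimpleGroup ↥(K ⊓ stabilizer G a))
    {m : ℕ} (y : Fin m → X) (s : Fin m → ℕ)
    (hs : ∀ i, (orbit ↥(K ⊓ stabilizer G a) (y i)).ncard = s i)
    (hcover : ∀ x ∈ Ω, x = a ∨ ∃ i, x ∈ orbit ↥(K ⊓ stabilizer G a) (y i))
    (hy : ∀ i, y i ∈ Ω)
    (hsne : ∀ i j, i ≠ j → s i ≠ s j) (hs1 : ∀ i, s i ≠ 1) (hm : 0 < m)
    (n : ℕ) (hn : Ω.ncard = n)
    (hcheck : ∀ I : Finset (Fin m), (1 + ∑ i ∈ I, s i) ∣ n → I = ∅ ∨ I = Finset.univ)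
    (hreg : ∀ N : Subgroup K, N.Normal → Nat.card N = n →
      ∃ C : Subgroup K, C.Normal ∧ C ≤ N ∧ C ≠ ⊥ ∧ C ≠ N) :
    IsSimpleGroup K := by
  classical
  letI act : MulAction K {x // x ∈ Ω} :=
    { smul := fun k x => ⟨k.1 • x.1, hinv k.1 k.2 x.1 x.2⟩
      one_smul := fun x => Subtype.ext (one_smul G x.1)
      mul_smul := fun k l x => Subtype.ext (mul_smul k.1 l.1 x.1) }
  have hsmul : ∀ (k : K) (x : {x // x ∈ Ω}), ((k • x : {x // x ∈ Ω}) : X) = k.1 • x.1 := fun k x => rfl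
  haveI : Finite {x // x ∈ Ω} := hΩ.to_subtype
  let a' : {x // x ∈ Ω} := ⟨a, ha⟩
  let y' : Fin m → {x // x ∈ Ω} := fun i => ⟨y i, hy i⟩
  haveI : IsPretransitive K {x // x ∈ Ω} := by
    refine ⟨fun x z => ?_⟩
    obtain ⟨k1, hk1, h1⟩ := htrans x.1 x.2
    obtain ⟨k2, hk2, h2⟩ := htrans z.1 z.2
    refine ⟨⟨k2, hk2⟩ * ⟨k1, hk1⟩⁻¹, ?_⟩
    apply Subtype.ext
    rw [hsmul]
    show (k2 * k1⁻¹) • x.1 = z.1
    rw [← h1, mul_smul, inv_smul_smul, h2]
  -- the point stabiliser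
  let e : stabilizer K a' ≃* ↥(K ⊓ stabilizer G a) :=
    { toFun := fun k => ⟨k.1.1, ⟨k.1.2, congrArg Subtype.val k.2⟩⟩
      invFun := fun k => ⟨⟨k.1, k.2.1⟩, Subtype.ext k.2.2⟩
      left_inv := fun k => rfl
      right_inv := fun k => rfl
      map_mul' := fun k l => rfl }
  have hH' : IsSimpleGroup (stabilizer K a') := e.isSimpleGroup
  have horb : ∀ i, Subtype.val '' (orbit (stabilizer K a') (y' i)) = orbit ↥(K ⊓ stabilizer G a) (y i) := by
    intro i
    ext z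
    constructor
    · rintro ⟨_, ⟨k, rfl⟩, rfl⟩
      exact ⟨e k, rfl⟩
    · rintro ⟨k, rfl⟩
      exact ⟨e.symm k • y' i, ⟨e.symm k, rfl⟩, rfl⟩
  have hs' : ∀ i, (orbit (stabilizer K a') (y' i)).ncard = s i := by
    intro i
    rw [← Set.ncard_image_of_injective _ Subtype.val_injective, horb, hs]
  have hcover' : ∀ x : {x // x ∈ Ω}, x = a' ∨ ∃ i, x ∈ orbit (stabilizer K a') (y' i) := by
    intro x
    rcases hcover x.1 x.2 with h | ⟨i, hi⟩
    · left; exact Subtype.ext h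
    · right
      refine ⟨i, ?_⟩
      rw [← horb] at hi
      obtain ⟨z, hz, hzx⟩ := hi
      rwa [Subtype.ext hzx] at hz
  have hcard : Nat.card {x // x ∈ Ω} = n := by
    rw [← hn]
    exact Nat.card_coe_set_eq Ω
  haveI : IsPreprimitive K {x // x ∈ Ω} :=
    isPreprimitive_of_suborbits a' y' s hs' hcover' hsne hs1 n hcard hcheck
  refine isSimpleGroup_of_preprimitive a' hH' ?_ ?_
  · -- the point stabiliser acts non-trivially
    by_contra hno
    push_neg at hno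
    have : orbit (stabilizer K a') (y' ⟨0, hm⟩) = {y' ⟨0, hm⟩} := by
      ext z
      constructor
      · rintro ⟨k, rfl⟩
        exact hno k.1 k.2 _
      · rintro rfl
        exact mem_orbit_self _
    have h1 := hs' ⟨0, hm⟩
    rw [this, Set.ncard_singleton] at h1
    exact hs1 _ h1.symm
  · intro N hN hcN
    exact hreg N hN (hcN.trans hcard)

end Cfsg.Agent.Lib.Helper6.SimpleAct
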