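import Cfsg.Agent.Lib.Helper6.LeechOrder2
import Cfsg.Agent.Lib.Helper6.LeechHS2
import Cfsg.Agent.Lib.Helper6.SimpleAct2
import Cfsg.Agent.Lib.Helper6.RegExcl

/-!
# The stabiliser of two vectors of norm 48 with inner product -32 is simple of order 44352000
-/

set_option autoImplicit false

namespace Cfsg.Agent.Lib.Helper6.Leech

open Cfsg MulAction
open Cfsg.Agent.Lib.Helper6.Golay Cfsg.Agent.Lib.Helper6.SimpleAct

theorem sub_smul_eq {S : Subgroup Co0} (g : S) (y : leechLattice) : g • y = g.1.1 y := rfl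

/-- **The stabiliser of the reference pair is simple.** -/
theorem isSimpleGroup_hsRef : IsSimpleGroup hsRef := by
  have : Finite hsRef := Nat.finite_of_card_ne_zero (by rw [card_hsRef]; norm_num)
  obtain ⟨h22, h77, htr⟩ := hs2_main u0 w1' x0' u0L_norm w1L_norm u0_w1_dot x0_mem_hsPts.1
    x0_mem_hsPts.2.1 x0_mem_hsPts.2.2
  have hfin : hsPts.Finite := Set.finite_of_ncard_ne_zero (by rw [hsPts_ncard]; norm_num)
  obtain ⟨y1, hy1⟩ := Set.nonempty_of_ncard_ne_zero (by rw [h22]; norm_num)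
  obtain ⟨y2, hy2⟩ := Set.nonempty_of_ncard_ne_zero (by rw [h77]; norm_num)
  have hne8 : ∀ y : leechLattice, dotInt (x0' : GolayPt → ℤ) (y : GolayPt → ℤ) = 8 → y ≠ x0' := by
    rintro y hy rfl
    rw [← sqNorm_eq_dot, x0_mem_hsPts.1] at hy
    norm_num at hy
  have hstab : ∀ g : ↥(hsRef ⊓ stabilizer Co0 x0'), g.1.1 u0 = u0 ∧ g.1.1 w1' = w1' ∧ g.1.1 x0' = x0' :=
    fun g => ⟨g.2.1.1, g.2.1.2, g.2.2⟩
  have hdot : ∀ (g : ↥(hsRef ⊓ stabilizer Co0 x0')) (y : leechLattice),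
      dotInt (x0' : GolayPt → ℤ) ((g.1.1 y : leechLattice) : GolayPt → ℤ) =
        dotInt (x0' : GolayPt → ℤ) (y : GolayPt → ℤ) := by
    intro g y
    have := co0_dot g.1 x0' y
    rw [(hstab g).2.2] at this
    exact this
  have hA : orbit ↥(hsRef ⊓ stabilizer Co0 x0') y1 = {y : leechLattice | (sqNorm (y : GolayPt → ℤ) = 32 ∧
      dotInt (u0 : GolayPt → ℤ) (y : GolayPt → ℤ) = 24 ∧ dotInt (w1' : GolayPt → ℤ) (y : GolayPt → ℤ) = -24) ∧
      dotInt (x0' : GolayPt → ℤ) (y : GolayPt → ℤ) = 8} := by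
    ext y
    constructor
    · rintro ⟨g, rfl⟩
      show g.1.1 y1 ∈ _
      exact ⟨hsPts_inv g.2.1 hy1.1, (hdot g y1).trans hy1.2⟩
    · intro hy
      obtain ⟨g, h1, h2, h3, h4⟩ := htr y1 y hy1.1 hy.1 (hne8 _ hy1.2) (hne8 _ hy.2) (iff_of_true hy1.2 hy.2)
      exact ⟨⟨g, ⟨⟨h1, h2⟩, h3⟩⟩, h4⟩
  have hB : orbit ↥(hsRef ⊓ stabilizer Co0 x0') y2 = {y : leechLattice | (sqNorm (y : GolayPt → ℤ) = 32 ∧
      dotInt (u0 : GolayPt → ℤ) (y : GolayPt → ℤ) = 24 ∧ dotInt (w1' : GolayPt → ℤ) (y : GolayPt → ℤ) = -24) ∧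
      y ≠ x0' ∧ dotInt (x0' : GolayPt → ℤ) (y : GolayPt → ℤ) ≠ 8} := by
    ext y
    constructor
    · rintro ⟨g, rfl⟩
      show g.1.1 y2 ∈ _
      refine ⟨hsPts_inv g.2.1 hy2.1, ?_, ?_⟩
      · intro h
        apply hy2.2.1
        exact g.1.1.injective (h.trans (hstab g).2.2.symm)
      · rw [hdot g y2]; exact hy2.2.2
    · intro hy
      obtain ⟨g, h1, h2, h3, h4⟩ := htr y2 y hy2.1 hy.1 hy2.2.1 hy.2.1 (iff_of_false hy2.2.2 hy.2.2)
      exact ⟨⟨g, ⟨⟨h1, h2⟩, h3⟩⟩, h4⟩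
  refine isSimpleGroup_of_suborbits hsRef hsPts hfin x0' x0_mem_hsPts (fun k hk x hx => hsPts_inv hk hx)
    (fun x hx => hsRef_transitive x0_mem_hsPts hx) isSimpleGroup_hs3Sub ![y1, y2] ![22, 77] ?_ ?_ ?_ ?_ ?_
    (by norm_num) 100 hsPts_ncard ?_ ?_
  · intro i
    fin_cases i
    · show (orbit _ y1).ncard = 22
      rw [hA, h22]
    · show (orbit _ y2).ncard = 77
      rw [hB, h77]
  · intro x hx
    by_cases hxa : x = x0'
    · left; exact hxa
    · right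
      by_cases h8 : dotInt (x0' : GolayPt → ℤ) (x : GolayPt → ℤ) = 8
      · refine ⟨0, ?_⟩
        show x ∈ orbit _ y1
        rw [hA]
        exact ⟨hx, h8⟩
      · refine ⟨1, ?_⟩
        show x ∈ orbit _ y2
        rw [hB]
        exact ⟨hx, hxa, h8⟩
  · intro i
    fin_cases i
    · exact hy1.1
    · exact hy2.1
  · decide
  · decide
  · decide
  · intro N hN hc
    exact exists_normal_100 N hN hc

/-- conjugation isomorphism between joint stabilisers -/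
noncomputable def stabInfEquiv {G X : Type*} [Group G] [MulAction G X] (g0 : G) (a b : X) :
    ↥(stabilizer G a ⊓ stabilizer G b) ≃* ↥(stabilizer G (g0 • a) ⊓ stabilizer G (g0 • b)) :=
  ((MulAut.conj g0).subgroupMap (stabilizer G a ⊓ stabilizer G b)).trans
    (MulEquiv.subgroupCongr (by
      rw [stabilizer_smul_eq_stabilizer_map_conj, stabilizer_smul_eq_stabilizer_map_conj,
        ← Subgroup.map_inf _ _ _ (MulAut.conj g0).injective, ← MulEquiv.toMonoidHom_eq_coe]))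

theorem card_hs_main (v w : leechLattice) (hv : sqNorm (v : GolayPt → ℤ) = 48)
    (hw : sqNorm (w : GolayPt → ℤ) = 48) (hd : dotInt (v : GolayPt → ℤ) (w : GolayPt → ℤ) = -32) :
    IsSimpleGroup ↥(stabilizer Co0 v ⊓ stabilizer Co0 w) ∧
      Nat.card ↥(stabilizer Co0 v ⊓ stabilizer Co0 w) = 44352000 := by
  obtain ⟨g0, hgv, hgw⟩ := exists_to_u0w1 v w hv hw hd
  have e := stabInfEquiv g0 v w
  have h1 : g0 • v = u0 := hgv
  have h2 : g0 • w = w1' := hgw
  rw [h1, h2] at e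
  refine ⟨?_, ?_⟩
  · haveI : IsSimpleGroup ↥(stabilizer Co0 u0 ⊓ stabilizer Co0 w1') := isSimpleGroup_hsRef
    exact e.isSimpleGroup
  · rw [Nat.card_congr e.toEquiv]
    exact card_hsRef

end Cfsg.Agent.Lib.Helper6.Leech
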