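import Cfsg.Agent.Lib.Helper6.LeechCross
import Cfsg.Agent.Lib.Helper6.LeechGen

/-!
# The stabiliser of a vector `8 e_i` is monomial
-/

set_option autoImplicit false

namespace Cfsg.Agent.Lib.Helper6.Leech

open Cfsg
open Cfsg.Agent.Lib.Helper6.Golay

/-- a lattice vector of norm 32 with a coordinate `-4` has exactly one other nonzero coordinate, `±4` -/
theorem shape_of_coord_neg4 {z : GolayPt → ℤ} (hz : z ∈ leechLattice) (hn : sqNorm z = 32) {i : GolayPt}
    (hi : z i = -4) :
    ∃ k, k ≠ i ∧ ∃ s : ℤ, (s = 4 ∨ s = -4) ∧ z = Pi.single i (-4) + Pi.single k s := by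
  obtain ⟨m, hpar, -, hC⟩ := mem_leechSet.mp (mem_leechLattice.mp hz)
  have hm : m % 2 = 0 := by rw [← hpar i, hi]; norm_num
  have heven : ∀ j, z j % 2 = 0 := fun j => (hpar j).trans hm
  -- the coordinates congruent to 2 modulo 4
  have hS : cls z 2 = ∅ := by
    by_contra hne
    have h8 := (hC 2).eight_le hne
    have hiS : i ∉ cls z 2 := by rw [mem_cls, hi]; norm_num
    have h1 : ∑ j ∈ insert i (cls z 2), z j ^ 2 ≤ sqNorm z := by
      rw [sqNorm_def]
      exact Finset.sum_le_sum_of_subset_of_nonneg (Finset.subset_univ _) (fun j _ _ => sq_nonneg _)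
    rw [Finset.sum_insert hiS, hi, hn] at h1
    have h2 : ∑ j ∈ cls z 2, (4 : ℤ) ≤ ∑ j ∈ cls z 2, z j ^ 2 := by
      apply Finset.sum_le_sum
      intro j hj
      rw [mem_cls] at hj
      have : z j ≠ 0 := by intro h0; rw [h0] at hj; norm_num at hj
      have h3 : 1 ≤ |z j| := Int.one_le_abs this
      have h4 : |z j| ≠ 1 := by
        intro h
        rcases abs_eq (by norm_num : (0:ℤ) ≤ 1) |>.mp h with h | h <;> rw [h] at hj <;> norm_num at hj
      have h5 : 2 ≤ |z j| := by omega
      nlinarith [sq_abs (z j)]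
    rw [Finset.sum_const, nsmul_eq_mul] at h2
    have : (8 : ℤ) ≤ (cls z 2).card := by exact_mod_cast h8
    linarith
  have h4 : ∀ j, z j % 4 = 0 := by
    intro j
    have h1 : j ∉ cls z 2 := by rw [hS]; exact Finset.notMem_empty j
    rw [mem_cls] at h1
    have := heven j
    omega
  -- the other coordinates
  have hsum : ∑ j ∈ Finset.univ.erase i, z j ^ 2 = 16 := by
    have := Finset.add_sum_erase Finset.univ (fun j => z j ^ 2) (Finset.mem_univ i)
    rw [← sqNorm_def, hn, hi] at this
    linarith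
  have hex : ∃ k ∈ Finset.univ.erase i, z k ≠ 0 := by
    by_contra hne
    push_neg at hne
    rw [Finset.sum_eq_zero (fun j hj => by rw [hne j hj]; norm_num)] at hsum
    norm_num at hsum
  obtain ⟨k, hk, hzk⟩ := hex
  have hki : k ≠ i := Finset.ne_of_mem_erase hk
  have hk16 : 16 ≤ z k ^ 2 := by
    have h1 := h4 k
    have h3 : 4 ≤ |z k| := by
      have : 1 ≤ |z k| := Int.one_le_abs hzk
      rcases abs_cases (z k) with ⟨h, _⟩ | ⟨h, _⟩ <;> omega
    nlinarith [sq_abs (z k)]
  have hsum2 := Finset.add_sum_erase (Finset.univ.erase i) (fun j => z j ^ 2) hk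
  rw [hsum] at hsum2
  have hnn : 0 ≤ ∑ j ∈ (Finset.univ.erase i).erase k, z j ^ 2 := Finset.sum_nonneg (fun j _ => sq_nonneg _)
  have hk16' : z k ^ 2 = 16 := by linarith
  have hrest : ∑ j ∈ (Finset.univ.erase i).erase k, z j ^ 2 = 0 := by linarith
  have hzero : ∀ j, j ≠ i → j ≠ k → z j = 0 := by
    intro j hji hjk
    have hj : j ∈ (Finset.univ.erase i).erase k :=
      Finset.mem_erase.mpr ⟨hjk, Finset.mem_erase.mpr ⟨hji, Finset.mem_univ j⟩⟩
    have := (Finset.sum_eq_zero_iff_of_nonneg (fun j _ => sq_nonneg (z j))).mp hrest j hj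
    exact pow_eq_zero_iff (by norm_num) |>.mp this
  have hzk4 : z k = 4 ∨ z k = -4 := by
    have : (z k - 4) * (z k + 4) = 0 := by ring_nf; linarith
    rcases mul_eq_zero.mp this with h | h
    · left; linarith
    · right; linarith
  refine ⟨k, hki, z k, hzk4, ?_⟩
  funext j
  rw [Pi.add_apply, Pi.single_apply, Pi.single_apply]
  by_cases hji : j = i
  · subst hji
    rw [if_pos rfl, if_neg (Ne.symm hki), hi]; norm_num
  · by_cases hjk : j = k
    · subst hjk
      rw [if_neg hji, if_pos rfl]; norm_num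
    · rw [if_neg hji, if_neg hjk, hzero j hji hjk]; norm_num

/-- the vector `-4 e_i + s e_j` -/
def z44 (i j : GolayPt) (s : ℤ) : GolayPt → ℤ := Pi.single i (-4) + Pi.single j s

theorem z44_mem {i j : GolayPt} (hij : j ≠ i) {s : ℤ} (hs : s = 4 ∨ s = -4) : z44 i j s ∈ leechLattice := by
  apply mem_leechLattice.mpr
  apply mem_leechSet_of_four_dvd
  · intro k
    simp only [z44, Pi.add_apply, Pi.single_apply]
    rcases hs with rfl | rfl <;> split_ifs <;> norm_num
  · simp only [z44, Pi.add_apply, Finset.sum_add_distrib, Finset.sum_pi_single', Finset.mem_univ, if_true]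
    rcases hs with rfl | rfl <;> norm_num

theorem z44_norm {i j : GolayPt} (hij : j ≠ i) {s : ℤ} (hs : s = 4 ∨ s = -4) : sqNorm (z44 i j s) = 32 := by
  rw [sqNorm_def]
  have : ∀ k, (z44 i j s) k ^ 2 = (if k = i then 16 else 0) + (if k = j then 16 else 0) := by
    intro k
    simp only [z44, Pi.add_apply, Pi.single_apply]
    by_cases h1 : k = i
    · have h2 : k ≠ j := fun h => hij (h.symm.trans h1)
      rw [if_pos h1, if_neg h2, if_pos h1, if_neg h2]; norm_num
    · by_cases h2 : k = j
      · rw [if_neg h1, if_pos h2, if_neg h1, if_pos h2]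
        rcases hs with rfl | rfl <;> norm_num
      · rw [if_neg h1, if_neg h2, if_neg h1, if_neg h2]; norm_num
  rw [Finset.sum_congr rfl (fun k _ => this k), Finset.sum_add_distrib]
  simp

/-- **An automorphism fixing a vector `8 e_i` preserves the standard cross.** -/
theorem crossStab_of_fix_v8 {g : Co0} {i : GolayPt} (hg : g.1 (v8 i) = v8 i) : CrossStab g := by
  rintro v ⟨j, s, hs, hv⟩
  rw [co0_smul]
  by_cases hji : j = i
  · subst hji
    rcases hs with rfl | rfl
    · have : v = v8 j := Subtype.ext hv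
      rw [this, hg]; exact ⟨j, 8, Or.inl rfl, rfl⟩
    · have : v = -v8 j := by
        apply Subtype.ext
        rw [hv]
        show _ = -(Pi.single j (8 : ℤ) : GolayPt → ℤ)
        rw [← Pi.single_neg]
      rw [this, co0_neg, hg]
      refine ⟨j, -8, Or.inr rfl, ?_⟩
      show -(Pi.single j (8 : ℤ) : GolayPt → ℤ) = _
      rw [← Pi.single_neg]
  · -- the half difference
    have hs2 : s / 2 = 4 ∨ s / 2 = -4 := by rcases hs with rfl | rfl <;> norm_num
    let a : leechLattice := ⟨z44 i j (s / 2), z44_mem hji hs2⟩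
    have hva : v = v8 i + (a + a) := by
      apply Subtype.ext
      rw [hv]
      show _ = (Pi.single i (8 : ℤ) : GolayPt → ℤ) + (z44 i j (s / 2) + z44 i j (s / 2))
      funext k
      simp only [z44, Pi.add_apply, Pi.single_apply]
      rcases hs with rfl | rfl <;> split_ifs <;> norm_num
    have hga : sqNorm ((g.1 a : leechLattice) : GolayPt → ℤ) = 32 := by
      rw [co0_norm]; exact z44_norm hji hs2
    have hdi : ((g.1 a : leechLattice) : GolayPt → ℤ) i = -4 := by
      have hd := co0_dot g a (v8 i)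
      rw [hg, dot_v8, dot_v8] at hd
      have : (a : GolayPt → ℤ) i = -4 := by
        show z44 i j (s / 2) i = -4
        simp only [z44, Pi.add_apply, Pi.single_apply, if_pos rfl, if_neg (Ne.symm hji)]
        norm_num
      rw [this] at hd
      linarith
    obtain ⟨k, hki, t, ht, hz⟩ := shape_of_coord_neg4 (g.1 a).2 hga hdi
    rw [hva, co0_add, co0_add, hg]
    refine ⟨k, 2 * t, by rcases ht with rfl | rfl <;> norm_num, ?_⟩
    show (Pi.single i (8 : ℤ) : GolayPt → ℤ) + (((g.1 a : leechLattice) : GolayPt → ℤ) +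
      ((g.1 a : leechLattice) : GolayPt → ℤ)) = _
    rw [hz]
    funext l
    simp only [Pi.add_apply, Pi.single_apply]
    split_ifs <;> ring

end Cfsg.Agent.Lib.Helper6.Leech
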