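import Cfsg.Agent.Lib.Helper6.LeechOrbit

/-!
# A strict evaluation of the action of a word

The intermediate vectors are forced through their packed numbers, so that the kernel evaluates a long word
letter by letter on short terms.
-/

set_option autoImplicit false

namespace Cfsg.Agent.Lib.Helper6.Leech

open Cfsg
open Cfsg.Agent.Lib.Helper6.Golay

/-- unpack 24 entries of four bits -/
def unpackL (n : ℕ) : List ℤ := (List.range 24).map (fun i => dig n i)

theorem unpackL_packL (y : List ℤ) (hf : fits y = true) (hl : y.length = 24) : unpackL (packL y) = y := by
  apply List.ext_getElem
  · rw [unpackL, List.length_map, List.length_range, hl]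
  · intro i h1 h2
    simp only [unpackL, List.getElem_map, List.getElem_range]
    rw [dig_packL y hf i, List.getD_eq_getElem _ _ h2]

/-- the action of a word, evaluated strictly -/
def actS : List Prim → List ℤ → List ℤ
  | [], x => x
  | p :: w, x =>
    match packL (p.act x) with
    | 0 => actS w (p.act x)
    | n + 1 =>
      if (fits (p.act x) && (p.act x).length == 24) = true then actS w (unpackL (n + 1))
      else actS w (p.act x)

theorem actS_eq (w : List Prim) (x : List ℤ) : actS w x = actW w x := by
  induction w generalizing x with
  | nil => rfl
  | cons p w ih =>
    have e : actW (p :: w) x = actW w (p.act x) := rfl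
    rw [e, actS]
    split
    · exact ih _
    · rename_i n hn
      split_ifs with h
      · rw [Bool.and_eq_true, beq_iff_eq] at h
        rw [show n + 1 = n.succ from rfl, ← hn, unpackL_packL _ h.1 h.2]
        exact ih _
      · exact ih _

end Cfsg.Agent.Lib.Helper6.Leech
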