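import Cfsg.Agent.Lib.Helper6.LeechBasic
import Cfsg.Agent.Lib.Helper6.GolayM24

/-!
# The rank-24 lattice: coordinate permutations from `M24` and sign changes on codewords
-/

set_option autoImplicit false

namespace Cfsg.Agent.Lib.Helper6.Leech

open Cfsg
open Cfsg.Agent.Lib.Helper6.Golay

theorem IsC.comp {s : Finset GolayPt} (hs : IsC s) {σ : Equiv.Perm GolayPt} (hσ : σ ∈ M24) :
    IsC (Finset.univ.filter (fun i => σ i ∈ s)) := by
  obtain ⟨w, hw, rfl⟩ := hs
  have h := forall_of_mem_M24 σ⁻¹ (M24.inv_mem hσ) w hw
  refine ⟨w ∘ (σ⁻¹).symm, h, ?_⟩
  ext i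
  simp [support₂, Equiv.Perm.inv_def]

/-- **Coordinate permutations from `M24` preserve the lattice.** -/
theorem comp_mem {σ : Equiv.Perm GolayPt} (hσ : σ ∈ M24) {x : GolayPt → ℤ} (hx : x ∈ leechSet) :
    (fun i => x (σ i)) ∈ leechSet := by
  obtain ⟨m, h1, h2, h3⟩ := mem_leechSet.mp hx
  rw [mem_leechSet]
  refine ⟨m, fun i => h1 (σ i), ?_, fun k => ?_⟩
  · rw [Equiv.sum_comp σ x]; exact h2
  · have : cls (fun i => x (σ i)) k = Finset.univ.filter (fun i => σ i ∈ cls x k) := by
      ext i
      simp only [mem_cls, Finset.mem_filter, Finset.mem_univ, true_and]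
    rw [this]
    exact (h3 k).comp hσ

/-- **Sign changes on the support of a codeword preserve the lattice.** -/
theorem sign_mem {c : Finset GolayPt} (hc : IsC c) {x : GolayPt → ℤ} (hx : x ∈ leechSet) :
    (fun i => if i ∈ c then -x i else x i) ∈ leechSet := by
  obtain ⟨m, h1, h2, h3⟩ := mem_leechSet.mp hx
  rw [mem_leechSet]
  refine ⟨m, fun i => ?_, ?_, fun k => ?_⟩
  · have := h1 i
    by_cases hi : i ∈ c
    · simp only [hi, if_true]; omega
    · simp only [hi, if_false]; exact this
  · -- the sum
    have hs : ∑ i, (if i ∈ c then -x i else x i) = ∑ i, x i - 2 * ∑ i ∈ c, x i := by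
      have : ∑ i, (if i ∈ c then -x i else x i) = ∑ i, (x i - (if i ∈ c then 2 * x i else 0)) := by
        apply Finset.sum_congr rfl
        intro i _
        by_cases hi : i ∈ c
        · simp only [hi, if_true]; ring
        · simp only [hi, if_false]; ring
      rw [this, Finset.sum_sub_distrib, Finset.sum_ite_mem, Finset.univ_inter, Finset.mul_sum]
    -- the sum over `c` is divisible by 4
    have h4 : (4 : ℤ) ∣ ∑ i ∈ c, x i := by
      have hsplit : ∑ i ∈ c, x i = ∑ i ∈ c, (x i - (if i ∈ cls x m then m else m + 2)) +
          ∑ i ∈ c, (if i ∈ cls x m then m else m + 2) := by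
        rw [← Finset.sum_add_distrib]
        apply Finset.sum_congr rfl
        intro i _; ring
      rw [hsplit]
      apply dvd_add
      · apply Finset.dvd_sum
        intro i _
        have := h1 i
        by_cases hi : i ∈ cls x m
        · rw [if_pos hi]
          rw [mem_cls] at hi
          omega
        · rw [if_neg hi]
          rw [mem_cls] at hi
          omega
      · have e : ∑ i ∈ c, (if i ∈ cls x m then m else m + 2) =
            ∑ i ∈ c, ((m + 2) - (if i ∈ cls x m then 2 else 0)) := by
          apply Finset.sum_congr rfl
          intro i _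
          by_cases hi : i ∈ cls x m
          · simp only [hi, if_true]; ring
          · simp only [hi, if_false]; ring
        rw [e, Finset.sum_sub_distrib, Finset.sum_const, ← Finset.sum_filter, Finset.sum_const,
          Finset.filter_mem_eq_inter]
        obtain ⟨a, ha⟩ := hc.four_dvd
        obtain ⟨b, hb⟩ := hc.inter_even (h3 m)
        rw [ha, hb]
        simp only [nsmul_eq_mul]
        push_cast
        exact ⟨a * (m + 2) - b, by ring⟩
    rw [hs]
    obtain ⟨u, hu⟩ := h4
    omega
  · rcases Int.emod_two_eq_zero_or_one m with hm | hm
    · -- even: the classes do not change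
      have : cls (fun i => if i ∈ c then -x i else x i) k = cls x k := by
        ext i
        have := h1 i
        simp only [mem_cls]
        by_cases hi : i ∈ c
        · simp only [hi, if_true]; omega
        · simp only [hi, if_false]
      rw [this]; exact h3 k
    · by_cases hk : k % 2 = 1
      · have : cls (fun i => if i ∈ c then -x i else x i) k = symmDiff (cls x k) c := by
          ext i
          have := h1 i
          simp only [mem_cls, Finset.mem_symmDiff]
          by_cases hi : i ∈ c
          · simp only [hi, if_true, not_true_eq_false, and_false, true_and, false_or]; omega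
          · simp only [hi, if_false, not_false_eq_true, and_true, false_and, or_false]
        rw [this]; exact (h3 k).symmDiff hc
      · have hk0 : k % 2 = 0 := by omega
        have : cls (fun i => if i ∈ c then -x i else x i) k = ∅ := by
          ext i
          have := h1 i
          simp only [mem_cls, Finset.notMem_empty, iff_false]
          by_cases hi : i ∈ c
          · simp only [hi, if_true]; omega
          · simp only [hi, if_false]; omega
        rw [this]; exact isC_empty

end Cfsg.Agent.Lib.Helper6.Leech
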