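import Cfsg.Agent.Lib.Helper6.LeechXi2
import Cfsg.Agent.Lib.Helper6.LeechSigns

/-!
# The automorphism group of the rank-24 lattice is transitive on the minimal vectors
-/

set_option autoImplicit false

namespace Cfsg.Agent.Lib.Helper6.Leech

open Cfsg
open Cfsg.Agent.Lib.Helper6.Golay
open scoped Pointwise

/-- in the same orbit of the automorphism group -/
def R (v w : leechLattice) : Prop := ∃ g : Co0, g.1 v = w

theorem R.refl (v : leechLattice) : R v v := ⟨1, rfl⟩

theorem R.symm {v w : leechLattice} (h : R v w) : R w v := by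
  obtain ⟨g, rfl⟩ := h
  refine ⟨g⁻¹, ?_⟩
  rw [Subgroup.coe_inv]
  exact (g.1).symm_apply_apply v

theorem R.trans {u v w : leechLattice} (h1 : R u v) (h2 : R v w) : R u w := by
  obtain ⟨g, rfl⟩ := h1
  obtain ⟨h, rfl⟩ := h2
  exact ⟨h * g, rfl⟩

theorem R_perm {x : GolayPt → ℤ} (hx : x ∈ leechLattice) {σ : Equiv.Perm GolayPt} (hσ : σ ∈ M24) :
    R ⟨x, hx⟩ ⟨permF σ x, permF_mem hσ hx⟩ := ⟨permC σ hσ, rfl⟩

theorem R_sign {x : GolayPt → ℤ} (hx : x ∈ leechLattice) {c : Finset GolayPt} (hc : IsC c) :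
    R ⟨x, hx⟩ ⟨signF c x, signF_mem hc hx⟩ := ⟨signC c hc, rfl⟩

theorem R_neg {x : GolayPt → ℤ} (hx : x ∈ leechLattice) :
    R ⟨x, hx⟩ ⟨-x, leechLattice.neg_mem hx⟩ := ⟨negC, rfl⟩

theorem R_xi {x : GolayPt → ℤ} (hx : x ∈ leechLattice) : R ⟨x, hx⟩ ⟨xiF x, xiF_mem hx⟩ := ⟨xiC, rfl⟩

theorem R_of_eq {x y : GolayPt → ℤ} (hx : x ∈ leechLattice) (hy : y ∈ leechLattice) (h : x = y) :
    R ⟨x, hx⟩ ⟨y, hy⟩ := by
  subst h; exact R.refl _

theorem sq_le_of_norm {x : GolayPt → ℤ} {n : ℤ} (hn : sqNorm x = n) (i : GolayPt) : x i ^ 2 ≤ n := by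
  rw [← hn, sqNorm_def]
  exact Finset.single_le_sum (f := fun j => x j ^ 2) (fun j _ => sq_nonneg _) (Finset.mem_univ i)

theorem bound5 {x : GolayPt → ℤ} (hn : sqNorm x = 32) (i : GolayPt) : -5 ≤ x i ∧ x i ≤ 5 := by
  have := sq_le_of_norm hn i
  constructor <;> nlinarith

/-! ### Shape `(4, 4, 0, ...)` -/

/-- the vector with coordinates `a`, `b` at `∞`, `0` -/
def w2 (a b : ℤ) : GolayPt → ℤ := fun k => if k = none then a else if k = some 0 then b else 0

theorem w2_mem : w2 4 4 ∈ leechLattice := by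
  have : w2 4 4 = e4 none + e4 (some 0) := by
    funext k; simp only [w2, Pi.add_apply, e4]; split_ifs <;> simp_all
  rw [this]; exact (e4_add_mem (by decide)).1

/-- the reference minimal vector -/
def v0 : leechLattice := ⟨w2 4 4, w2_mem⟩

theorem signF_w2 (c : Finset GolayPt) (a b : ℤ) :
    signF c (w2 a b) = w2 (if none ∈ c then -a else a) (if some 0 ∈ c then -b else b) := by
  funext k
  simp only [signF, w2]
  by_cases h1 : k = none
  · subst h1; simp
  · by_cases h2 : k = some 0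
    · subst h2; simp
    · simp [h1, h2]

theorem exists_sep_inf : ∃ c, IsC c ∧ (none : GolayPt) ∈ c ∧ (some 0 : GolayPt) ∉ c := by
  obtain ⟨c, hc, h | h⟩ := exists_isC_sep none (some 0) (by decide)
  · exact ⟨c, hc, h.1, h.2⟩
  · exact ⟨cᶜ, hc.compl, by simp [h.1], by simp [h.2]⟩

theorem R_w2 {a b : ℤ} (ha : a = 4 ∨ a = -4) (hb : b = 4 ∨ b = -4) (h : w2 a b ∈ leechLattice) :
    R ⟨w2 a b, h⟩ v0 := by
  obtain ⟨c, hc, h1, h2⟩ := exists_sep_inf
  rcases ha with rfl | rfl <;> rcases hb with rfl | rfl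
  · exact R.refl _
  · refine (R_sign h hc.compl).trans (R_of_eq _ w2_mem ?_)
    rw [signF_w2]; simp [h1, h2]
  · refine (R_sign h hc).trans (R_of_eq _ w2_mem ?_)
    rw [signF_w2]; simp [h1, h2]
  · refine (R_neg h).trans (R_of_eq _ w2_mem ?_)
    funext k; simp only [w2, Pi.neg_apply]; split_ifs <;> norm_num

theorem R_shapeA {x : GolayPt → ℤ} (hx : x ∈ leechLattice) (hn : sqNorm x = 32)
    (h4 : ∀ i, x i % 4 = 0) : R ⟨x, hx⟩ v0 := by
  have hval : ∀ i, x i = 0 ∨ x i = 4 ∨ x i = -4 := by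
    intro i
    have := h4 i
    have := bound5 hn i
    omega
  have hterm : ∀ i, x i ^ 2 = if x i ≠ 0 then 16 else 0 := by
    intro i
    rcases hval i with h | h | h <;> rw [h] <;> norm_num
  have hsum : (16 : ℤ) * ((Finset.univ.filter (fun i => x i ≠ 0)).card : ℤ) = 32 := by
    rw [← hn, sqNorm_def, Finset.sum_congr rfl (fun i _ => hterm i), ← Finset.sum_filter,
      Finset.sum_const, nsmul_eq_mul, mul_comm]
  have hcard : (Finset.univ.filter (fun i => x i ≠ 0)).card = 2 := by omega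
  obtain ⟨i, j, hij, hS⟩ := Finset.card_eq_two.mp hcard
  have hi : x i ≠ 0 := by
    have : i ∈ Finset.univ.filter (fun i => x i ≠ 0) := by rw [hS]; simp
    simpa using this
  have hj : x j ≠ 0 := by
    have : j ∈ Finset.univ.filter (fun i => x i ≠ 0) := by rw [hS]; simp
    simpa using this
  have hk : ∀ k, k ≠ i → k ≠ j → x k = 0 := by
    intro k hki hkj
    by_contra h
    have : k ∈ Finset.univ.filter (fun i => x i ≠ 0) := by simpa using h
    rw [hS] at this
    simp only [Finset.mem_insert, Finset.mem_singleton] at this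
    rcases this with h | h
    · exact hki h
    · exact hkj h
  obtain ⟨σ, hσ, h1, h2⟩ := exists_M24_pair (p := none) (q := some 0) (p' := i) (q' := j) (by decide) hij
  refine (R_perm hx hσ).trans ?_
  have hy : permF σ x = w2 (x i) (x j) := by
    funext k
    simp only [permF, w2]
    by_cases k1 : k = none
    · rw [if_pos k1, k1, h1]
    · by_cases k2 : k = some 0
      · rw [if_neg k1, if_pos k2, k2, h2]
      · rw [if_neg k1, if_neg k2]
        apply hk
        · intro h; apply k1; apply σ.injective; rw [h, h1]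
        · intro h; apply k2; apply σ.injective; rw [h, h2]
  have hmem : w2 (x i) (x j) ∈ leechLattice := by rw [← hy]; exact permF_mem hσ hx
  refine (R_of_eq _ hmem hy).trans (R_w2 ?_ ?_ hmem)
  · rcases hval i with h | h | h
    · exact absurd h hi
    · exact Or.inl h
    · exact Or.inr h
  · rcases hval j with h | h | h
    · exact absurd h hj
    · exact Or.inl h
    · exact Or.inr h

end Cfsg.Agent.Lib.Helper6.Leech
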