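import Cfsg.Agent.Lib.Helper6.LeechTrans

/-!
# Transitivity on minimal vectors: the odd vectors and the octad vectors
-/

set_option autoImplicit false

namespace Cfsg.Agent.Lib.Helper6.Leech

open Cfsg
open Cfsg.Agent.Lib.Helper6.Golay
open scoped Pointwise

/-- the odd reference vector -/
def vodd : leechLattice := ⟨oddVec, oddVec_mem.1⟩

theorem sqNorm_signF (c : Finset GolayPt) (x : GolayPt → ℤ) : sqNorm (signF c x) = sqNorm x := by
  simp only [sqNorm, signF]
  apply Finset.sum_congr rfl
  intro i _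
  split_ifs <;> ring

theorem R_shapeC {x : GolayPt → ℤ} (hx : x ∈ leechLattice) (hn : sqNorm x = 32)
    (hodd : x none % 2 = 1) : R ⟨x, hx⟩ vodd := by
  obtain ⟨m, h1, h2, h3⟩ := mem_leechSet.mp (mem_leechLattice.mp hx)
  have hm : m % 2 = 1 := by have := h1 none; omega
  -- change signs on the positions congruent to 1 modulo 4
  have hc : IsC (cls x 1) := h3 1
  obtain ⟨y, hy⟩ : ∃ y, y = signF (cls x 1) x := ⟨_, rfl⟩
  have hyL : y ∈ leechLattice := by rw [hy]; exact signF_mem hc hx
  have hyn : sqNorm y = 32 := by rw [hy, sqNorm_signF, hn]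
  refine ((R_sign hx hc).trans (R_of_eq _ hyL hy.symm)).trans ?_
  have hy3 : ∀ i, y i % 4 = 3 := by
    intro i
    have := h1 i
    rw [hy]
    simp only [signF]
    by_cases hi : i ∈ cls x 1
    · rw [if_pos hi]; have := mem_cls.mp hi; omega
    · rw [if_neg hi]
      have h4 : ¬ (x i % 4 = 1 % 4) := fun h => hi (mem_cls.mpr h)
      omega
  have hval : ∀ i, y i = -5 ∨ y i = -1 ∨ y i = 3 := by
    intro i
    have := hy3 i
    have := bound5 hyn i
    omega
  have hsum : ∑ i, (y i ^ 2 - 1) = 8 := by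
    rw [Finset.sum_sub_distrib, Finset.sum_const, Finset.card_univ, card_golayPt, ← sqNorm_def, hyn]
    norm_num
  have hnonneg : ∀ i, 0 ≤ y i ^ 2 - 1 := by
    intro i; rcases hval i with h | h | h <;> rw [h] <;> norm_num
  have hno5 : ∀ i, y i ≠ -5 := by
    intro i h
    have := Finset.single_le_sum (f := fun j => y j ^ 2 - 1) (fun j _ => hnonneg j) (Finset.mem_univ i)
    rw [hsum] at this
    simp only [h] at this
    norm_num at this
  have hval2 : ∀ i, y i = -1 ∨ y i = 3 := by
    intro i; rcases hval i with h | h | h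
    · exact absurd h (hno5 i)
    · exact Or.inl h
    · exact Or.inr h
  have hterm : ∀ i, y i ^ 2 - 1 = if y i = 3 then 8 else 0 := by
    intro i; rcases hval2 i with h | h <;> rw [h] <;> norm_num
  rw [Finset.sum_congr rfl (fun i _ => hterm i), ← Finset.sum_filter, Finset.sum_const, nsmul_eq_mul] at hsum
  have hcard : (Finset.univ.filter (fun i => y i = 3)).card = 1 := by omega
  obtain ⟨j, hj⟩ := Finset.card_eq_one.mp hcard
  have hyj : y j = 3 := by
    have : j ∈ Finset.univ.filter (fun i => y i = 3) := by rw [hj]; simp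
    simpa using this
  have hyk : ∀ k, k ≠ j → y k = -1 := by
    intro k hk
    rcases hval2 k with h | h
    · exact h
    · exfalso
      have : k ∈ Finset.univ.filter (fun i => y i = 3) := by simpa using h
      rw [hj] at this
      exact hk (Finset.mem_singleton.mp this)
  -- move the position of the `3` to infinity
  obtain ⟨q', hq'⟩ : ∃ q' : GolayPt, j ≠ q' := by
    by_cases h : j = none
    · exact ⟨some 0, by rw [h]; decide⟩
    · exact ⟨none, h⟩
  obtain ⟨σ, hσ, s1, _⟩ := exists_M24_pair (p := none) (q := some 0) (p' := j) (q' := q') (by decide) hq'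
  refine (R_perm hyL hσ).trans ?_
  refine (R_neg (permF_mem hσ hyL)).trans (R_of_eq _ oddVec_mem.1 ?_)
  funext k
  simp only [Pi.neg_apply, permF, oddVec]
  by_cases hk : k = none
  · rw [if_pos hk, hk, s1, hyj]
  · rw [if_neg hk, hyk]
    · norm_num
    · intro h; apply hk; apply σ.injective; rw [h, s1]

/-- the octad reference vector -/
def voct : leechLattice := ⟨octVec (fs octad0), (octVec_mem octad0_mem).1⟩

theorem R_shapeB {x : GolayPt → ℤ} (hx : x ∈ leechLattice) (hn : sqNorm x = 32)
    (heven : x none % 2 = 0) (hne : ∃ i, x i % 4 ≠ 0) : R ⟨x, hx⟩ voct := by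
  obtain ⟨m, h1, h2, h3⟩ := mem_leechSet.mp (mem_leechLattice.mp hx)
  have hm : m % 2 = 0 := by have := h1 none; omega
  obtain ⟨o, ho⟩ : ∃ o, o = cls x 2 := ⟨_, rfl⟩
  have hoC : IsC o := by rw [ho]; exact h3 2
  have hmem : ∀ i, i ∈ o ↔ x i % 4 = 2 := by
    intro i; rw [ho, mem_cls]; norm_num
  obtain ⟨i0, hi0⟩ := hne
  have hi0o : i0 ∈ o := by rw [hmem]; have := h1 i0; omega
  have h8 : 8 ≤ o.card := hoC.eight_le (Finset.ne_empty_of_mem hi0o)
  -- every coordinate on `o` has square at least 4
  have hnonneg : ∀ i, 0 ≤ x i ^ 2 - (if i ∈ o then 4 else 0) := by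
    intro i
    by_cases hi : i ∈ o
    · rw [if_pos hi]
      have := (hmem i).mp hi
      have : x i ≤ -2 ∨ 2 ≤ x i := by omega
      rcases this with h | h <;> nlinarith
    · rw [if_neg hi]; have := sq_nonneg (x i); linarith
  have hsum : ∑ i, (x i ^ 2 - (if i ∈ o then 4 else 0)) = 32 - 4 * (o.card : ℤ) := by
    rw [Finset.sum_sub_distrib, ← sqNorm_def, hn, Finset.sum_ite_mem, Finset.univ_inter, Finset.sum_const,
      nsmul_eq_mul, mul_comm]
  have hsum0 : 0 ≤ ∑ i, (x i ^ 2 - (if i ∈ o then 4 else 0)) := Finset.sum_nonneg (fun i _ => hnonneg i)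
  have hcard : o.card = 8 := by omega
  have hzero : ∀ i, x i ^ 2 - (if i ∈ o then 4 else 0) = 0 := by
    have h0 : ∑ i, (x i ^ 2 - (if i ∈ o then 4 else 0)) = 0 := by rw [hsum, hcard]; norm_num
    intro i
    exact (Finset.sum_eq_zero_iff_of_nonneg (fun i _ => hnonneg i)).mp h0 i (Finset.mem_univ i)
  have hoct : o ∈ octads := ⟨hoC, hcard⟩
  have hon : ∀ i, i ∈ o → x i = 2 ∨ x i = -2 := by
    intro i hi
    have := hzero i
    rw [if_pos hi] at this
    have h2 : (x i - 2) * (x i + 2) = 0 := by ring_nf; linarith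
    rcases mul_eq_zero.mp h2 with h | h
    · left; linarith
    · right; linarith
  have hoff : ∀ i, i ∉ o → x i = 0 := by
    intro i hi
    have := hzero i
    rw [if_neg hi, sub_zero] at this
    exact pow_eq_zero_iff (by norm_num) |>.mp this
  -- the set of minus signs is even
  obtain ⟨e, he⟩ : ∃ e, e = o.filter (fun i => x i = -2) := ⟨_, rfl⟩
  have heo : e ⊆ o := by rw [he]; exact Finset.filter_subset _ _
  have hmem_e : ∀ i, i ∈ e ↔ i ∈ o ∧ x i = -2 := by
    intro i; rw [he, Finset.mem_filter]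
  have hxi : ∀ i, x i = (if i ∈ o then 2 else 0) - (if i ∈ e then 4 else 0) := by
    intro i
    by_cases hi : i ∈ o
    · rcases hon i hi with h | h
      · have : i ∉ e := by rw [hmem_e]; intro h'; rw [h] at h'; norm_num at h'
        rw [if_pos hi, if_neg this, h]; norm_num
      · have : i ∈ e := (hmem_e i).mpr ⟨hi, h⟩
        rw [if_pos hi, if_pos this, h]; norm_num
    · have : i ∉ e := fun h => hi (heo h)
      rw [if_neg hi, if_neg this, hoff i hi]; norm_num
  have hsx : ∑ i, x i = 16 - 4 * (e.card : ℤ) := by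
    rw [Finset.sum_congr rfl (fun i _ => hxi i), Finset.sum_sub_distrib, Finset.sum_ite_mem,
      Finset.sum_ite_mem, Finset.univ_inter, Finset.univ_inter, Finset.sum_const, Finset.sum_const,
      nsmul_eq_mul, nsmul_eq_mul, hcard]
    push_cast; ring
  have hecard : e.card = 2 * (e.card / 2) := by omega
  obtain ⟨c, hc, hce⟩ := exists_isC_inter hoct (e.card / 2) e heo hecard
  refine (R_sign hx hc).trans ?_
  have hy : signF c x = octVec o := by
    funext i
    simp only [signF, octVec]
    have hci : i ∈ c ∩ o ↔ i ∈ e := by rw [hce]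
    rw [Finset.mem_inter, hmem_e] at hci
    by_cases hi : i ∈ o
    · rw [if_pos hi]
      rcases hon i hi with h | h
      · have : i ∉ c := fun hc' => by
          have := (hci.mp ⟨hc', hi⟩).2
          rw [h] at this; norm_num at this
        rw [if_neg this, h]
      · have : i ∈ c := (hci.mpr ⟨hi, h⟩).1
        rw [if_pos this, h]; norm_num
    · rw [if_neg hi, hoff i hi]; simp
  have hoL : octVec o ∈ leechLattice := (octVec_mem hoct).1
  refine (R_of_eq _ hoL hy).trans ?_
  obtain ⟨σ, hσ, hσo⟩ := exists_M24_octad octad0_mem hoct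
  refine (R_perm hoL hσ).trans (R_of_eq _ (octVec_mem octad0_mem).1 ?_)
  funext k
  simp only [permF, octVec]
  have : σ k ∈ o ↔ k ∈ fs octad0 := by
    rw [← hσo]; exact Finset.smul_mem_smul_finset_iff σ
  by_cases hk : k ∈ fs octad0
  · rw [if_pos hk, if_pos (this.mpr hk)]
  · rw [if_neg hk, if_neg (fun h => hk (this.mp h))]

end Cfsg.Agent.Lib.Helper6.Leech
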