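import Cfsg.Agent.Lib.Helper6.LeechCheck
import Cfsg.Agent.Lib.Helper6.LeechGen3
import Cfsg.Agent.Lib.Helper6.LeechAut

/-!
# A non-monomial automorphism of the rank-24 lattice (attached to a sextet)
-/

set_option autoImplicit false

namespace Cfsg.Agent.Lib.Helper6.Leech

open Cfsg
open Cfsg.Agent.Lib.Helper6.Golay

/-- the tetrad of the reference sextet containing the point of index `i` -/
def tetIdxL : List ℕ := [0, 0, 0, 1, 5, 1, 4, 4, 2, 3, 3, 2, 2, 5, 1, 3, 5, 1, 2, 4, 3, 4, 5, 0]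

/-- the position of the point of index `i` in its tetrad -/
def tetPosL : List ℕ := [0, 1, 2, 0, 0, 1, 0, 1, 0, 0, 1, 1, 2, 1, 2, 2, 2, 3, 3, 2, 3, 3, 3, 3]

/-- the members of the six tetrads -/
def tetMemL : List ℕ := [0, 1, 2, 23, 3, 5, 14, 17, 8, 11, 12, 18, 9, 10, 15, 20, 6, 7, 19, 21, 4, 13, 16, 22]

def tauF (p : GolayPt) : Fin 6 := Fin.ofNat 6 (tetIdxL.getD (idx p) 0)

def posF (p : GolayPt) : Fin 4 := Fin.ofNat 4 (tetPosL.getD (idx p) 0)

def memF (j : Fin 6) (a : Fin 4) : GolayPt := pt (tetMemL.getD (4 * j.val + a.val) 0)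

theorem tauF_memF : ∀ (j : Fin 6) (a : Fin 4), tauF (memF j a) = j := by decide

/-- sextet coordinates -/
def sextetEquiv : Fin 6 × Fin 4 ≃ GolayPt where
  toFun ja := memF ja.1 ja.2
  invFun p := (tauF p, posF p)
  left_inv := by decide
  right_inv := by decide

theorem sum_sextet (f : GolayPt → ℤ) :
    ∑ p, f p = ∑ j : Fin 6, (f (memF j 0) + f (memF j 1) + f (memF j 2) + f (memF j 3)) := by
  rw [← Equiv.sum_comp sextetEquiv f, Fintype.sum_prod_type]
  apply Finset.sum_congr rfl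
  intro j _
  rw [Fin.sum_univ_four]
  rfl

/-- the sum over a tetrad -/
def ts (x : GolayPt → ℤ) (j : Fin 6) : ℤ := x (memF j 0) + x (memF j 1) + x (memF j 2) + x (memF j 3)

/-- the vectors with even tetrad sums -/
def EvenTs (x : GolayPt → ℤ) : Prop := ∀ j, ts x j % 2 = 0

/-- subtract half the tetrad sum -/
def etaF (x : GolayPt → ℤ) : GolayPt → ℤ := fun p => x p - ts x (tauF p) / 2

/-- change sign on the first tetrad -/
def epsF (x : GolayPt → ℤ) : GolayPt → ℤ := fun p => if tauF p = 0 then -x p else x p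

theorem etaF_memF (x : GolayPt → ℤ) (j : Fin 6) (a : Fin 4) : etaF x (memF j a) = x (memF j a) - ts x j / 2 := by
  rw [etaF, tauF_memF]

theorem epsF_memF (x : GolayPt → ℤ) (j : Fin 6) (a : Fin 4) :
    epsF x (memF j a) = if j = 0 then -x (memF j a) else x (memF j a) := by
  rw [epsF, tauF_memF]

theorem ts_etaF (x : GolayPt → ℤ) (j : Fin 6) : ts (etaF x) j = ts x j - 4 * (ts x j / 2) := by
  rw [ts, etaF_memF, etaF_memF, etaF_memF, etaF_memF, ts]; ring

theorem ts_epsF (x : GolayPt → ℤ) (j : Fin 6) : ts (epsF x) j = if j = 0 then -ts x j else ts x j := by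
  rw [ts, epsF_memF, epsF_memF, epsF_memF, epsF_memF, ts]
  split_ifs <;> ring

theorem ts_add (x y : GolayPt → ℤ) (j : Fin 6) : ts (x + y) j = ts x j + ts y j := by
  simp only [ts, Pi.add_apply]; ring

theorem EvenTs.etaF {x : GolayPt → ℤ} (h : EvenTs x) : EvenTs (etaF x) := by
  intro j; have := h j; rw [ts_etaF]; omega

theorem EvenTs.epsF {x : GolayPt → ℤ} (h : EvenTs x) : EvenTs (epsF x) := by
  intro j; have := h j; rw [ts_epsF]; split_ifs <;> omega

theorem etaF_etaF {x : GolayPt → ℤ} (h : EvenTs x) : etaF (etaF x) = x := by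
  funext p
  have := h (tauF p)
  show etaF x p - ts (etaF x) (tauF p) / 2 = x p
  rw [ts_etaF, etaF]
  omega

theorem epsF_epsF (x : GolayPt → ℤ) : epsF (epsF x) = x := by
  funext p; simp only [epsF]; split_ifs <;> simp

theorem etaF_add {x y : GolayPt → ℤ} (hx : EvenTs x) (hy : EvenTs y) : etaF (x + y) = etaF x + etaF y := by
  funext p
  have := hx (tauF p)
  have := hy (tauF p)
  simp only [etaF, Pi.add_apply, ts_add]
  omega

theorem epsF_add (x y : GolayPt → ℤ) : epsF (x + y) = epsF x + epsF y := by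
  funext p; simp only [epsF, Pi.add_apply]; split_ifs <;> ring

theorem sqNorm_etaF {x : GolayPt → ℤ} (h : EvenTs x) : sqNorm (etaF x) = sqNorm x := by
  rw [sqNorm_def, sqNorm_def, sum_sextet, sum_sextet]
  apply Finset.sum_congr rfl
  intro j _
  rw [etaF_memF, etaF_memF, etaF_memF, etaF_memF]
  obtain ⟨k, hk⟩ : ∃ k, ts x j = 2 * k := ⟨ts x j / 2, by have := h j; omega⟩
  have hk2 : ts x j / 2 = k := by omega
  rw [hk2]
  rw [ts] at hk
  linear_combination (-2 * k) * hk

theorem sqNorm_epsF (x : GolayPt → ℤ) : sqNorm (epsF x) = sqNorm x := by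
  simp only [sqNorm, epsF]
  apply Finset.sum_congr rfl
  intro p _
  split_ifs <;> ring

/-- lattice vectors have even tetrad sums -/
theorem evenTs_of_mem {x : GolayPt → ℤ} (hx : x ∈ leechLattice) : EvenTs x := by
  obtain ⟨m, h1, _, _⟩ := mem_leechSet.mp (mem_leechLattice.mp hx)
  intro j
  have a := h1 (memF j 0)
  have b := h1 (memF j 1)
  have c := h1 (memF j 2)
  have d := h1 (memF j 3)
  rw [ts]; omega

/-- the automorphism, on vectors -/
def xiF (x : GolayPt → ℤ) : GolayPt → ℤ := etaF (epsF x)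

/-- its inverse, on vectors -/
def xiF' (x : GolayPt → ℤ) : GolayPt → ℤ := epsF (etaF x)

theorem xiF'_xiF {x : GolayPt → ℤ} (h : EvenTs x) : xiF' (xiF x) = x := by
  rw [xiF', xiF, etaF_etaF h.epsF, epsF_epsF]

theorem xiF_xiF' {x : GolayPt → ℤ} (h : EvenTs x) : xiF (xiF' x) = x := by
  rw [xiF', xiF, epsF_epsF, etaF_etaF h]

theorem xiF_add {x y : GolayPt → ℤ} (hx : EvenTs x) (hy : EvenTs y) : xiF (x + y) = xiF x + xiF y := by
  rw [xiF, epsF_add, etaF_add hx.epsF hy.epsF]; rfl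

theorem xiF'_add {x y : GolayPt → ℤ} (hx : EvenTs x) (hy : EvenTs y) : xiF' (x + y) = xiF' x + xiF' y := by
  rw [xiF', etaF_add hx hy, epsF_add]; rfl

theorem sqNorm_xiF {x : GolayPt → ℤ} (h : EvenTs x) : sqNorm (xiF x) = sqNorm x := by
  rw [xiF, sqNorm_etaF h.epsF, sqNorm_epsF]

theorem sqNorm_xiF' {x : GolayPt → ℤ} (h : EvenTs x) : sqNorm (xiF' x) = sqNorm x := by
  rw [xiF', sqNorm_epsF, sqNorm_etaF h]

theorem xiF_zero : xiF 0 = 0 := by
  funext p; simp [xiF, etaF, epsF, ts]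

theorem xiF'_zero : xiF' 0 = 0 := by
  funext p; simp [xiF', etaF, epsF, ts]

theorem xiF_neg {x : GolayPt → ℤ} (h : EvenTs x) : xiF (-x) = -xiF x := by
  have hn : EvenTs (-x) := by
    intro j; have := h j; simp only [ts, Pi.neg_apply] at this ⊢; omega
  have := xiF_add h hn
  rw [add_neg_cancel, xiF_zero] at this
  exact (neg_eq_of_add_eq_zero_right this.symm).symm

theorem xiF'_neg {x : GolayPt → ℤ} (h : EvenTs x) : xiF' (-x) = -xiF' x := by
  have hn : EvenTs (-x) := by
    intro j; have := h j; simp only [ts, Pi.neg_apply] at this ⊢; omega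
  have := xiF'_add h hn
  rw [add_neg_cancel, xiF'_zero] at this
  exact (neg_eq_of_add_eq_zero_right this.symm).symm

end Cfsg.Agent.Lib.Helper6.Leech
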