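import Cfsg.Agent.Lib.Helper6.LeechXiCheck

/-!
# The sextet automorphism as an element of the automorphism group
-/

set_option autoImplicit false

namespace Cfsg.Agent.Lib.Helper6.Leech

open Cfsg
open Cfsg.Agent.Lib.Helper6.Golay

theorem octad_check {o : Finset GolayPt} (ho : o ∈ octads) :
    inLeechV (xiF (octVec o)) = true ∧ inLeechV (xiF' (octVec o)) = true := by
  obtain ⟨n, hn, h8, rfl⟩ := (mem_octads_iff o).mp ho
  obtain ⟨m, hm, rfl⟩ := (inCode_iff n).mp hn
  rw [octVec_fs]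
  have := allBelow_spec _ _ xi_check4 m hm
  simp only [h8, bne_self_eq_false, Bool.false_or, Bool.and_eq_true] at this
  exact this

theorem xiF_mem {x : GolayPt → ℤ} (hx : x ∈ leechLattice) : xiF x ∈ leechLattice := by
  refine leech_induction (fun x => xiF x ∈ leechLattice) ?_ ?_ ?_ ?_ ?_ ?_ ?_ ?_ x hx
  · rw [xiF_zero]; exact leechLattice.zero_mem
  · intro x y hx hy px py
    rw [xiF_add (evenTs_of_mem hx) (evenTs_of_mem hy)]; exact leechLattice.add_mem px py
  · intro x hx px
    rw [xiF_neg (evenTs_of_mem hx)]; exact leechLattice.neg_mem px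
  · intro i hi; exact inLeechV_sound _ (xi_check1 i hi).1
  · exact inLeechV_sound _ xi_check2.1
  · exact inLeechV_sound _ xi_check2.2.2.1
  · intro o ho; exact inLeechV_sound _ (octad_check ho).1
  · exact inLeechV_sound _ xi_check2.2.2.2.2.1

theorem xiF'_mem {x : GolayPt → ℤ} (hx : x ∈ leechLattice) : xiF' x ∈ leechLattice := by
  refine leech_induction (fun x => xiF' x ∈ leechLattice) ?_ ?_ ?_ ?_ ?_ ?_ ?_ ?_ x hx
  · rw [xiF'_zero]; exact leechLattice.zero_mem
  · intro x y hx hy px py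
    rw [xiF'_add (evenTs_of_mem hx) (evenTs_of_mem hy)]; exact leechLattice.add_mem px py
  · intro x hx px
    rw [xiF'_neg (evenTs_of_mem hx)]; exact leechLattice.neg_mem px
  · intro i hi; exact inLeechV_sound _ (xi_check1 i hi).2
  · exact inLeechV_sound _ xi_check2.2.1
  · exact inLeechV_sound _ xi_check2.2.2.2.1
  · intro o ho; exact inLeechV_sound _ (octad_check ho).2
  · exact inLeechV_sound _ xi_check2.2.2.2.2.2

/-- an element of `Co0` from a pair of maps of the ambient space which, on the lattice, are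
mutually inverse, additive and norm-preserving -/
def mkCo0' (f f' : (GolayPt → ℤ) → (GolayPt → ℤ))
    (hf : ∀ x ∈ leechLattice, f x ∈ leechLattice) (hf' : ∀ x ∈ leechLattice, f' x ∈ leechLattice)
    (h1 : ∀ x ∈ leechLattice, f' (f x) = x) (h2 : ∀ x ∈ leechLattice, f (f' x) = x)
    (hadd : ∀ x ∈ leechLattice, ∀ y ∈ leechLattice, f (x + y) = f x + f y)
    (hn : ∀ x ∈ leechLattice, sqNorm (f x) = sqNorm x) : Co0 :=
  ⟨{ toFun := fun v => ⟨f v.1, hf v.1 v.2⟩
     invFun := fun v => ⟨f' v.1, hf' v.1 v.2⟩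
     left_inv := fun v => Subtype.ext (h1 v.1 v.2)
     right_inv := fun v => Subtype.ext (h2 v.1 v.2) },
   ⟨fun v w => Subtype.ext (hadd v.1 v.2 w.1 w.2), fun v => hn v.1 v.2⟩⟩

/-- the sextet automorphism -/
def xiC : Co0 :=
  mkCo0' xiF xiF' (fun _ hx => xiF_mem hx) (fun _ hx => xiF'_mem hx)
    (fun _ hx => xiF'_xiF (evenTs_of_mem hx)) (fun _ hx => xiF_xiF' (evenTs_of_mem hx))
    (fun _ hx _ hy => xiF_add (evenTs_of_mem hx) (evenTs_of_mem hy))
    (fun _ hx => sqNorm_xiF (evenTs_of_mem hx))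

theorem xiC_apply (v : leechLattice) : ((xiC.1 v : leechLattice) : GolayPt → ℤ) = xiF v.1 := rfl

end Cfsg.Agent.Lib.Helper6.Leech
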