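import Cfsg.Agent.Lib.Helper6.LeechXi

/-!
# The sextet automorphism preserves the rank-24 lattice: the checks on the generators
-/

set_option autoImplicit false

namespace Cfsg.Agent.Lib.Helper6.Leech

open Cfsg
open Cfsg.Agent.Lib.Helper6.Golay

/-- the vector `2` on the positions of a mask, `0` elsewhere -/
def octVecM (n : ℕ) : GolayPt → ℤ := fun p => if n.testBit (idx p) then 2 else 0

theorem octVec_fs (n : ℕ) : octVec (fs n) = octVecM n := by
  funext p
  simp only [octVec, octVecM, mem_fs]

set_option maxRecDepth 1000000 in
set_option maxHeartbeats 4000000 in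
theorem xi_check1 : ∀ i : GolayPt, i ≠ none →
    inLeechV (xiF (e4 i - e4 none)) = true ∧ inLeechV (xiF' (e4 i - e4 none)) = true := by
  decide +kernel

set_option maxRecDepth 1000000 in
set_option maxHeartbeats 4000000 in
theorem xi_check2 : inLeechV (xiF (e4 none + e4 (some 0))) = true ∧
    inLeechV (xiF' (e4 none + e4 (some 0))) = true ∧
    inLeechV (xiF (e4 none - e4 (some 0))) = true ∧
    inLeechV (xiF' (e4 none - e4 (some 0))) = true ∧
    inLeechV (xiF oddVec) = true ∧ inLeechV (xiF' oddVec) = true := by
  decide +kernel

set_option maxRecDepth 1000000 in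
set_option maxHeartbeats 40000000 in
theorem xi_check4 : allBelow (fun m => pc 24 (combo m) != 8 ||
    (inLeechV (xiF (octVecM (combo m))) && inLeechV (xiF' (octVecM (combo m))))) 4096 = true := by
  decide +kernel

end Cfsg.Agent.Lib.Helper6.Leech
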