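import Cfsg.Agent.Lib.Helper6.M11OutData
import Cfsg.Agent.Lib.Helper6.GolayM11

/-!
# Rigidity in the stabilizer of the reference dodecad and one of its points
-/

set_option autoImplicit false
set_option maxRecDepth 1000000

namespace Cfsg.Agent.Lib.Helper6.Golay.M11Out

open Cfsg Cfsg.Agent.Lib.Helper6.Golay Cfsg.Agent.Lib.Helper6.Golay.M12Out
open Cfsg.Agent.Lib.Helper6.PermChain
open scoped Pointwise

noncomputable def y2 : Equiv.Perm GolayPt := Classical.choose (exists_of_chk y2L_chk)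
noncomputable def z2 : Equiv.Perm GolayPt := Classical.choose (exists_of_chk z2L_chk)
noncomputable def u2 : Equiv.Perm GolayPt := Classical.choose (exists_of_chk u2L_chk)
noncomputable def s2 : Equiv.Perm GolayPt := Classical.choose (exists_of_chk s2L_chk)

theorem y2_mem24 : y2 ∈ M24 := (Classical.choose_spec (exists_of_chk y2L_chk)).1
theorem z2_mem24 : z2 ∈ M24 := (Classical.choose_spec (exists_of_chk z2L_chk)).1
theorem u2_mem24 : u2 ∈ M24 := (Classical.choose_spec (exists_of_chk u2L_chk)).1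
theorem s2_mem24 : s2 ∈ M24 := (Classical.choose_spec (exists_of_chk s2L_chk)).1
theorem y2_isL : IsL y2 y2L := (Classical.choose_spec (exists_of_chk y2L_chk)).2
theorem z2_isL : IsL z2 z2L := (Classical.choose_spec (exists_of_chk z2L_chk)).2
theorem u2_isL : IsL u2 u2L := (Classical.choose_spec (exists_of_chk u2L_chk)).2
theorem s2_isL : IsL s2 s2L := (Classical.choose_spec (exists_of_chk s2L_chk)).2

theorem y2_memG : y2 ∈ G := mem_M12in.2 ⟨y2_mem24, by rw [y2_isL.smul_fs, stab2_chk.1]⟩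
theorem z2_memG : z2 ∈ G := mem_M12in.2 ⟨z2_mem24, by rw [z2_isL.smul_fs, stab2_chk.2.1]⟩
theorem u2_memG : u2 ∈ G := mem_M12in.2 ⟨u2_mem24, by rw [u2_isL.smul_fs, stab2_chk.2.2.1]⟩
theorem s2_memG : s2 ∈ G := mem_M12in.2 ⟨s2_mem24, by rw [s2_isL.smul_fs, stab2_chk.2.2.2]⟩

/-- the stabilizer of the reference dodecad and its point 0 -/
abbrev G0 : Subgroup (Equiv.Perm GolayPt) := M11in M24

theorem mem_G0 {g : Equiv.Perm GolayPt} : g ∈ G0 ↔ g ∈ G ∧ g (pt 0) = pt 0 := by
  show g ∈ fixL (M12in M24) [pt 0] ↔ _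
  rw [mem_fixL]
  simp

theorem G0_le : G0 ≤ G := fun _ hg => (mem_G0.1 hg).1

theorem y2_mem : y2 ∈ G0 := mem_G0.2 ⟨y2_memG, by rw [y2_isL.apply (by norm_num), fix0_chk.1]⟩
theorem z2_mem : z2 ∈ G0 := mem_G0.2 ⟨z2_memG, by rw [z2_isL.apply (by norm_num), fix0_chk.2.1]⟩
theorem s2_mem : s2 ∈ G0 := mem_G0.2 ⟨s2_memG, by rw [s2_isL.apply (by norm_num), fix0_chk.2.2]⟩

theorem G0_card : Nat.card G0 = 7920 := card_fixL_M12_vals.1

instance : Finite G0 := Nat.finite_of_card_ne_zero (by rw [G0_card]; norm_num)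

/-! ### relations -/

theorem y2_pow : y2 ^ 11 = 1 := (y2_isL.pow 11).ext' IsL.one (by decide +kernel)
theorem zy2 : z2 * y2 = y2 ^ 9 * z2 :=
  (z2_isL.mul y2_isL).ext' ((y2_isL.pow 9).mul z2_isL) (by decide +kernel)
theorem uz2 : u2 * z2 = z2 * u2 := (u2_isL.mul z2_isL).ext' (z2_isL.mul u2_isL) (by decide +kernel)
theorem sz2 : s2 * z2 = z2 ^ 2 * s2 :=
  (s2_isL.mul z2_isL).ext' ((z2_isL.pow 2).mul s2_isL) (by decide +kernel)
theorem rel1 : (y2 * (s2 * s2)) ^ 3 = 1 :=
  ((y2_isL.mul (s2_isL.mul s2_isL)).pow 3).ext' IsL.one (by decide +kernel)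
theorem rel2 : (y2 * s2) ^ 11 = 1 := ((y2_isL.mul s2_isL).pow 11).ext' IsL.one (by decide +kernel)

theorem y2_ne_one : y2 ≠ 1 := by
  intro h1
  have := y2_isL.apply (i := 2) (by norm_num)
  rw [h1] at this
  have h2 : pt 2 = pt (y2L.getD 2 0) := this
  exact absurd (pt_inj' (by norm_num) (by decide) h2) (by decide)

theorem y2_order : orderOf y2 = 11 := by
  have : Fact (Nat.Prime 11) := ⟨by norm_num⟩
  exact orderOf_eq_prime y2_pow y2_ne_one

theorem y2_apply {i : ℕ} (hi : i < 24) : y2 (pt i) = pt (y2L.getD i 0) := y2_isL.apply hi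
theorem z2_apply {i : ℕ} (hi : i < 24) : z2 (pt i) = pt (z2L.getD i 0) := z2_isL.apply hi

/-- an element commuting with `y2` and fixing the point 2 is trivial -/
theorem rigid_y2 {g : Equiv.Perm GolayPt} (hg : g ∈ G) (hc : g * y2 = y2 * g)
    (h0 : g (pt 2) = pt 2) : g = 1 := by
  have e0 : y2 (pt 2) = pt 6 := y2_apply (by norm_num)
  have e1 : y2 (pt 6) = pt 7 := y2_apply (by norm_num)
  have e2 : y2 (pt 7) = pt 11 := y2_apply (by norm_num)
  have e3 : y2 (pt 11) = pt 9 := y2_apply (by norm_num)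
  have h6 : g (pt 6) = pt 6 := by rw [← e0]; exact comm_fix hc h0
  have h7 : g (pt 7) = pt 7 := by rw [← e1]; exact comm_fix hc h6
  have h11 : g (pt 11) = pt 11 := by rw [← e2]; exact comm_fix hc h7
  have h9 : g (pt 9) = pt 9 := by rw [← e3]; exact comm_fix hc h11
  apply eq_one_of_fix5 hg [2, 6, 7, 11, 9] rfl (by decide) (by decide) (by decide)
  intro i hi
  simp only [List.mem_cons, List.not_mem_nil, or_false] at hi
  rcases hi with rfl | rfl | rfl | rfl | rfl <;> assumption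

/-- an element commuting with `z2` and fixing the point 2 is trivial -/
theorem rigid_z2 {g : Equiv.Perm GolayPt} (hg : g ∈ G) (hc : g * z2 = z2 * g)
    (h0 : g (pt 2) = pt 2) : g = 1 := by
  have e0 : z2 (pt 2) = pt 11 := z2_apply (by norm_num)
  have e1 : z2 (pt 11) = pt 3 := z2_apply (by norm_num)
  have e2 : z2 (pt 3) = pt 14 := z2_apply (by norm_num)
  have e3 : z2 (pt 14) = pt 4 := z2_apply (by norm_num)
  have h11 : g (pt 11) = pt 11 := by rw [← e0]; exact comm_fix hc h0
  have h3 : g (pt 3) = pt 3 := by rw [← e1]; exact comm_fix hc h11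
  have h14 : g (pt 14) = pt 14 := by rw [← e2]; exact comm_fix hc h3
  have h4 : g (pt 4) = pt 4 := by rw [← e3]; exact comm_fix hc h14
  apply eq_one_of_fix5 hg [2, 11, 3, 14, 4] rfl (by decide) (by decide) (by decide)
  intro i hi
  simp only [List.mem_cons, List.not_mem_nil, or_false] at hi
  rcases hi with rfl | rfl | rfl | rfl | rfl <;> assumption

theorem y2L_table : ∀ j ∈ [0, 2, 3, 4, 6, 7, 8, 9, 10, 11, 13, 14], j = 0 ∨
    ∃ i < 11, (lpow y2L i).getD 2 0 = j := by decide +kernel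

/-- the centralizer of `y2` consists of the powers of `y2` -/
theorem cent_y2 {c : Equiv.Perm GolayPt} (hc : c ∈ G) (hcy : c * y2 = y2 * c) :
    ∃ i < 11, c = y2 ^ i := by
  have hq : c (pt 2) ∈ fs dodecad0 := (mem_D_iff hc _).2 (by decide)
  have hj := idx_mem_D hq
  rcases y2L_table _ hj with h8 | ⟨i, hi, hij⟩
  · exfalso
    have e8 : c (pt 2) = pt 0 := by
      have h6 := pt_idx (c (pt 2))
      rw [h8] at h6
      exact h6.symm
    have y8 : y2 (pt 0) = pt 0 := y2_apply (by norm_num)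
    have h1 := congrArg (fun σ : Equiv.Perm GolayPt => σ (pt 2)) hcy
    simp only [Equiv.Perm.mul_apply] at h1
    rw [e8, y8, ← e8] at h1
    have h2 := c.injective h1
    rw [y2_apply (by norm_num)] at h2
    exact absurd (pt_inj' (by decide) (by norm_num) h2) (by decide)
  · refine ⟨i, hi, ?_⟩
    have hyi : (y2 ^ i) (pt 2) = c (pt 2) := by
      rw [(y2_isL.pow i).apply (by norm_num), hij, pt_idx]
    have hg : (y2 ^ i)⁻¹ * c ∈ G := G.mul_mem (G.inv_mem (G.pow_mem y2_memG i)) hc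
    have hcomm : ((y2 ^ i)⁻¹ * c) * y2 = y2 * ((y2 ^ i)⁻¹ * c) := by
      have e1 : (y2 ^ i)⁻¹ * y2 = y2 * (y2 ^ i)⁻¹ :=
        ((Commute.refl y2).pow_left i).inv_left.eq
      rw [mul_assoc, hcy, ← mul_assoc, e1, mul_assoc]
    have h0 : ((y2 ^ i)⁻¹ * c) (pt 2) = pt 2 := by
      rw [Equiv.Perm.mul_apply, ← hyi]
      exact (y2 ^ i).symm_apply_apply _
    have := rigid_y2 hg hcomm h0
    rw [inv_mul_eq_one] at this
    exact this.symm

theorem zu2L_table : ∀ j ∈ [0, 2, 3, 4, 6, 7, 8, 9, 10, 11, 13, 14], j = 0 ∨ j = 6 ∨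
    ∃ i < 5, ∃ e < 2, (lmul (lpow z2L i) (lpow u2L e)).getD 2 0 = j := by decide +kernel

theorem zu2L_zero : ∀ i < 5, (lmul (lpow z2L i) u2L).getD 0 0 ≠ 0 := by decide +kernel

/-- the centralizer of `z2` in the point stabilizer consists of the powers of `z2` -/
theorem cent_z2 {c : Equiv.Perm GolayPt} (hc : c ∈ G0) (hcz : c * z2 = z2 * c) :
    ∃ i < 5, c = z2 ^ i := by
  have hcG := G0_le hc
  have hc0 : c (pt 0) = pt 0 := (mem_G0.1 hc).2
  have hq : c (pt 2) ∈ fs dodecad0 := (mem_D_iff hcG _).2 (by decide)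
  have hj := idx_mem_D hq
  have hfixcase : ∀ j, (j = 0 ∨ j = 6) → idx (c (pt 2)) = j → False := by
    intro j hj06 hidx
    have ej : c (pt 2) = pt j := by rw [← hidx, pt_idx]
    have zj : z2 (pt j) = pt j := by
      rcases hj06 with rfl | rfl
      · exact z2_apply (by norm_num)
      · exact z2_apply (by norm_num)
    have h1 := congrArg (fun σ : Equiv.Perm GolayPt => σ (pt 2)) hcz
    simp only [Equiv.Perm.mul_apply] at h1
    rw [ej, zj, ← ej] at h1
    have h2 := c.injective h1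
    rw [z2_apply (by norm_num)] at h2
    exact absurd (pt_inj' (by decide) (by norm_num) h2) (by decide)
  rcases zu2L_table _ hj with h0 | h6 | ⟨i, hi, e, he, hij⟩
  · exact (hfixcase 0 (Or.inl rfl) h0).elim
  · exact (hfixcase 6 (Or.inr rfl) h6).elim
  · set w := z2 ^ i * u2 ^ e with hw
    have hwL : IsL w (lmul (lpow z2L i) (lpow u2L e)) := (z2_isL.pow i).mul (u2_isL.pow e)
    have hw0 : w (pt 2) = c (pt 2) := by
      rw [hwL.apply (by norm_num), hij, pt_idx]
    have hwz : w * z2 = z2 * w := by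
      have e1 : u2 ^ e * z2 = z2 * u2 ^ e := ((show Commute u2 z2 from uz2).pow_left e).eq
      have e2 : z2 ^ i * z2 = z2 * z2 ^ i := by rw [← pow_succ, pow_succ']
      rw [hw, mul_assoc, e1, ← mul_assoc, e2, mul_assoc]
    have hwG : w ∈ G := G.mul_mem (G.pow_mem z2_memG i) (G.pow_mem u2_memG e)
    have hg : w⁻¹ * c ∈ G := G.mul_mem (G.inv_mem hwG) hcG
    have hcomm : (w⁻¹ * c) * z2 = z2 * (w⁻¹ * c) := by
      have e1 : w⁻¹ * z2 = z2 * w⁻¹ := (show Commute w z2 from hwz).inv_left.eq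
      rw [mul_assoc, hcz, ← mul_assoc, e1, mul_assoc]
    have h0 : (w⁻¹ * c) (pt 2) = pt 2 := by
      rw [Equiv.Perm.mul_apply, ← hw0]
      exact w.symm_apply_apply _
    have hcw : c = w := by
      have := rigid_z2 hg hcomm h0
      rw [inv_mul_eq_one] at this
      exact this.symm
    interval_cases e
    · exact ⟨i, hi, by rw [hcw, hw, pow_zero, mul_one]⟩
    · exfalso
      have h1 := zu2L_zero i hi
      have h2 : w (pt 0) = pt ((lmul (lpow z2L i) u2L).getD 0 0) := by
        have := hwL.apply (i := 0) (by norm_num)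
        rw [this]
        rfl
      rw [← hcw, hc0] at h2
      have hlt : (lmul (lpow z2L i) u2L).getD 0 0 < 24 :=
        getD_lt ((z2_isL.pow i).mul u2_isL).1 (by norm_num)
      exact h1 (pt_inj' (by norm_num) hlt h2).symm

/-! ### generation -/

/-- the subgroup generated by `y2`, `z2`, `s2` -/
def K2 : Subgroup (Equiv.Perm GolayPt) := Subgroup.closure {y2, z2, s2}

theorem K2_le : K2 ≤ G0 := by
  rw [K2, Subgroup.closure_le]
  intro g hg
  simp only [Set.mem_insert_iff, Set.mem_singleton_iff] at hg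
  rcases hg with rfl | rfl | rfl
  · exact y2_mem
  · exact z2_mem
  · exact s2_mem

theorem rep_EK2 : ∀ l ∈ EK2, Rep K2 l := by
  apply rep_slpRun
  intro l hl
  simp only [List.mem_cons, List.not_mem_nil, or_false] at hl
  rcases hl with rfl | rfl | rfl
  · exact ⟨y2_isL.1, y2, Subgroup.subset_closure (by simp), y2_isL.2⟩
  · exact ⟨z2_isL.1, z2, Subgroup.subset_closure (by simp), z2_isL.2⟩
  · exact ⟨s2_isL.1, s2, Subgroup.subset_closure (by simp), s2_isL.2⟩

theorem chainK2 : ∀ k (hk : k < bs12.length), 1 ≤ k → ∀ q ∈ D12, q ∉ bs12.take k →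
    ∃ g ∈ fixL K2 (bs12.take k), g (bs12[k]) = q := by
  intro k hk hk1 q hqD hq
  have hk5 : k < 5 := hk
  have e1 : bs12.take k = (base12.take k).map pt := by rw [bs12, List.map_take]
  have e2 : ∀ h : k < bs12.length, bs12[k]'h = pt (base12.getD k 0) := by
    intro h
    simp only [bs12, List.getElem_map]
    rw [List.getD_eq_getElem]
  rw [e1] at hq ⊢
  rw [e2 hk]
  have hmem : idx q ∈ orbsK2.getD k [] := by
    rw [orbsK2_eq k hk1 hk5]
    have : ∀ q : GolayPt, q ∈ fs dodecad0 → q ∉ (base12.take k).map pt →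
        idx q ∈ orbs12.getD k [] := by
      interval_cases k <;> decide
    exact this q hqD hq
  obtain ⟨_, g, hg, hgq⟩ := reach_of_chainCheck rep_EK2 chainK2_ok k hk5 (idx q) hmem
  exact ⟨g, hg, by rw [hgq, pt_idx]⟩

theorem card_fixL_K2 (k : ℕ) (hk : k < 5) (hk1 : 1 ≤ k) :
    Nat.card (fixL K2 (bs12.take k)) =
      (orb12 k).card * Nat.card (fixL K2 (bs12.take (k + 1))) := by
  have hk' : k < bs12.length := hk
  have e : bs12.take (k + 1) = bs12.take k ++ [bs12[k]] := by
    rw [List.take_succ_eq_append_getElem hk']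
  rw [e]
  apply card_fixL_step
  · intro q hq
    rw [orb12, Finset.mem_filter] at hq
    exact chainK2 k hk' hk1 q hq.1 hq.2
  · intro g hg
    have hg' : g ∈ fixL G (bs12.take k) := fixL_mono (K2_le.trans G0_le) _ hg
    rw [orb12, Finset.mem_filter]
    have hb : ∀ h : k < bs12.length, bs12[k]'h ∈ fs dodecad0 ∧ bs12[k]'h ∉ bs12.take k := by
      interval_cases k <;> decide
    refine ⟨(M12in_mem_D g (fixL_le _ _ hg') _).mpr (hb hk').1, apply_not_mem_of_fixL hg' (hb hk').2⟩

/-- the elements `y2`, `z2`, `s2` generate the point stabilizer -/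
theorem K2_eq : K2 = G0 := by
  have h1 := card_fixL_K2 1 (by norm_num) (by norm_num)
  have h2 := card_fixL_K2 2 (by norm_num) (by norm_num)
  have h3 := card_fixL_K2 3 (by norm_num) (by norm_num)
  have h4 := card_fixL_K2 4 (by norm_num) (by norm_num)
  have c1 : (orb12 1).card = 11 := by decide
  have c2 : (orb12 2).card = 10 := by decide
  have c3 : (orb12 3).card = 9 := by decide
  have c4 : (orb12 4).card = 8 := by decide
  have e1 : fixL K2 (bs12.take 1) = K2 := by
    apply le_antisymm (fixL_le _ _)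
    intro g hg
    rw [mem_fixL]
    refine ⟨hg, ?_⟩
    intro x hx
    have : x = pt 0 := by
      have h : bs12.take 1 = [pt 0] := rfl
      rw [h, List.mem_singleton] at hx
      exact hx
    rw [this]
    exact (mem_G0.1 (K2_le hg)).2
  rw [e1, c1] at h1
  rw [c2] at h2; rw [c3] at h3; rw [c4] at h4
  simp only [Nat.reduceAdd] at h1 h2 h3 h4
  have hfin : Finite (fixL K2 (bs12.take 5)) :=
    Finite.of_injective (fun g : fixL K2 (bs12.take 5) => (⟨g.1, K2_le (fixL_le _ _ g.2)⟩ : G0))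
      (fun a b hab => Subtype.ext (congrArg (fun t : G0 => t.1) hab))
  have hpos : 0 < Nat.card (fixL K2 (bs12.take 5)) := Nat.card_pos
  apply Subgroup.eq_of_le_of_card_ge K2_le
  rw [G0_card, h1, h2, h3, h4]
  nlinarith

end Cfsg.Agent.Lib.Helper6.Golay.M11Out
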