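import Mathlib

/-! Fixed points of elements of prime order `p` in a group whose order is divisible by `p` only
once, and a congruence for invariant subsets. -/

set_option autoImplicit false

namespace Cfsg.Agent.Lib.Helper6.SylowFix

open MulAction
open scoped Pointwise

section conj

variable {G : Type*} [Group G] [Finite G] {p : ℕ} [hp : Fact p.Prime]

/-- a subgroup of order `p` is a Sylow subgroup when `p ^ 2` does not divide the order -/
theorem exists_sylow_eq (hp2 : ¬ p ^ 2 ∣ Nat.card G) (P : Subgroup G) (hP : Nat.card P = p) :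
    ∃ Q : Sylow p G, (Q : Subgroup G) = P := by
  have hPp : IsPGroup p P := IsPGroup.of_card (n := 1) (by rw [hP, pow_one])
  obtain ⟨Q, hQ⟩ := hPp.exists_le_sylow
  obtain ⟨k, hk⟩ := IsPGroup.iff_card.1 Q.isPGroup'
  have hdvd : p ^ k ∣ Nat.card G := by
    rw [← hk]; exact Subgroup.card_subgroup_dvd_card _
  have hk1 : k ≤ 1 := by
    by_contra hcon
    push Not at hcon
    exact hp2 ((Nat.pow_dvd_pow p hcon).trans hdvd)
  have hle : Nat.card P ≤ Nat.card (Q : Subgroup G) := Subgroup.card_le_of_le hQ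
  have hk0 : k ≠ 0 := by
    rintro rfl
    rw [hk, hP, pow_zero] at hle
    exact absurd hle (by have := hp.out.two_le; omega)
  have hk' : k = 1 := by omega
  refine ⟨Q, (Subgroup.eq_of_le_of_card_ge hQ ?_).symm⟩
  rw [hk, hk', pow_one, hP]

/-- two elements of order `p` are conjugate up to a power -/
theorem exists_conj_pow (hp2 : ¬ p ^ 2 ∣ Nat.card G) {y y0 : G} (hy : orderOf y = p)
    (hy0 : orderOf y0 = p) : ∃ (g : G) (k : ℕ), y0 = g * y ^ k * g⁻¹ := by
  obtain ⟨Q, hQ⟩ := exists_sylow_eq hp2 (Subgroup.zpowers y) (by rw [Nat.card_zpowers, hy])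
  obtain ⟨Q0, hQ0⟩ := exists_sylow_eq hp2 (Subgroup.zpowers y0) (by rw [Nat.card_zpowers, hy0])
  obtain ⟨g, hg⟩ := MulAction.exists_smul_eq G Q Q0
  have h1 : y0 ∈ (Q0 : Subgroup G) := by rw [hQ0]; exact Subgroup.mem_zpowers y0
  rw [← hg, Sylow.coe_subgroup_smul, Subgroup.mem_pointwise_smul_iff_inv_smul_mem, hQ] at h1
  have h2 : (MulAut.conj g)⁻¹ • y0 = g⁻¹ * y0 * g := by
    rw [← map_inv, MulAut.smul_def, MulAut.conj_apply, inv_inv]
  rw [h2, ← mem_powers_iff_mem_zpowers] at h1
  obtain ⟨k, hk⟩ := h1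
  refine ⟨g, k, ?_⟩
  have hk' : y ^ k = g⁻¹ * y0 * g := hk
  rw [hk']
  group

end conj

section fixed

variable {G X : Type*} [Group G] [MulAction G X]

theorem fixedBy_pow_subset (h : G) (n : ℕ) : fixedBy X h ⊆ fixedBy X (h ^ n) := by
  intro x hx
  rw [mem_fixedBy] at hx ⊢
  induction n with
  | zero => rw [pow_zero, one_smul]
  | succ n ih => rw [pow_succ, mul_smul, hx, ih]

variable [Finite G] {p : ℕ} [hp : Fact p.Prime]

/-- the fixed points of two elements of order `p` correspond under a conjugation -/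
theorem exists_fixedBy_eq (hp2 : ¬ p ^ 2 ∣ Nat.card G) {y y0 : G} (hy : orderOf y = p)
    (hy0 : orderOf y0 = p) : ∃ g : G, fixedBy X y0 = g • fixedBy X y := by
  obtain ⟨g, k, hk⟩ := exists_conj_pow hp2 hy hy0
  refine ⟨g, ?_⟩
  rw [hk, ← smul_fixedBy]
  congr 1
  apply Set.Subset.antisymm _ (fixedBy_pow_subset y k)
  have hne : y ^ k ≠ 1 := by
    intro h1
    rw [h1, mul_one, mul_inv_cancel] at hk
    rw [hk, orderOf_one] at hy0
    exact hp.out.one_lt.ne hy0
  have hcop : Nat.Coprime k (orderOf y) := by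
    rw [hy, Nat.coprime_comm, hp.out.coprime_iff_not_dvd]
    intro hdvd
    apply hne
    rw [← hy] at hdvd
    exact orderOf_dvd_iff_pow_eq_one.1 hdvd
  obtain ⟨m, hm⟩ := exists_pow_eq_self_of_coprime hcop
  have := fixedBy_pow_subset (X := X) (y ^ k) m
  rwa [hm] at this

end fixed

section congruence

variable {X : Type*} [DecidableEq X]

/-- the number of fixed points in an invariant subset, modulo `p` -/
theorem card_modEq_fixed (σ : Equiv.Perm X) (p : ℕ) [hp : Fact p.Prime] (hσ : σ ^ p = 1)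
    (Ω : Finset X) (hΩ : ∀ x ∈ Ω, σ x ∈ Ω) :
    Ω.card ≡ (Ω.filter (fun x => σ x = x)).card [MOD p] := by
  let f : Function.End Ω := fun x => ⟨σ x.1, hΩ x.1 x.2⟩
  have hpow : ∀ (n : ℕ) (x : Ω), ((f ^ n) x).1 = (σ ^ n) x.1 := by
    intro n
    induction n with
    | zero => intro x; rfl
    | succ n ih =>
      intro x
      rw [pow_succ, pow_succ]
      show ((f ^ n) (f x)).1 = (σ ^ n) (σ x.1)
      rw [ih]
  have hf : f ^ p ^ 1 = 1 := by
    rw [pow_one]
    funext x
    apply Subtype.ext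
    rw [hpow, hσ]
    rfl
  have h := Equiv.Perm.card_fixedPoints_modEq hf
  rw [Fintype.card_coe] at h
  have h2 : Fintype.card (Function.fixedPoints f) = (Ω.filter (fun x => σ x = x)).card := by
    rw [← Fintype.card_coe]
    apply Fintype.card_congr
    exact
      { toFun := fun x => ⟨x.1.1, Finset.mem_filter.2 ⟨x.1.2, congrArg Subtype.val x.2⟩⟩
        invFun := fun x => ⟨⟨x.1, (Finset.mem_filter.1 x.2).1⟩,
          Subtype.ext (Finset.mem_filter.1 x.2).2⟩
        left_inv := fun x => rfl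
        right_inv := fun x => rfl }
  rw [h2] at h
  exact h

end congruence

end Cfsg.Agent.Lib.Helper6.SylowFix
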