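import Cfsg.Agent.Lib.Helper6.M11Out1
import Cfsg.Agent.Lib.Helper6.SylowFix
import Cfsg.Agent.Lib.Helper6.OutGeneric
import Cfsg.Agent.Lib.Helper6.GolayM11Two
import Cfsg.Prelude.Def_KGroupFacts

/-!
# Every automorphism of the stabilizer of a dodecad and one of its points is inner
-/

set_option autoImplicit false
set_option maxRecDepth 1000000

namespace Cfsg.Agent.Lib.Helper6.Golay.M11Out

open Cfsg Cfsg.Agent.Lib.Helper6.Golay Cfsg.Agent.Lib.Helper6.Golay.M12Out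
open Cfsg.Agent.Lib.Helper6.PermChain
open scoped Pointwise

theorem lfun_injective' {a b : List ℕ} (ha : wf a = true) (hb : wf b = true)
    (h : lfun a = lfun b) : a = b := by
  have ha' := (wf_iff a).mp ha
  have hb' := (wf_iff b).mp hb
  apply List.ext_getElem (by rw [ha'.1, hb'.1])
  intro i h1 h2
  have hi : i < 24 := by rw [← ha'.1]; exact h1
  have h3 := congrFun h (pt i)
  rw [lfun_pt' a hi, lfun_pt' b hi] at h3
  have h4 := pt_inj' (getD_lt ha hi) (getD_lt hb hi) h3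
  rw [List.getD_eq_getElem _ _ h1, List.getD_eq_getElem _ _ h2] at h4
  exact h4

noncomputable def yG : G0 := ⟨y2, y2_mem⟩
noncomputable def zG : G0 := ⟨z2, z2_mem⟩
noncomputable def sG : G0 := ⟨s2, s2_mem⟩

theorem yG_order : orderOf yG = 11 := by
  rw [← Subgroup.orderOf_coe]; exact y2_order

theorem norm_table2 : ∀ k ∈ [1, 2, 3, 4, 5, 6, 7, 8, 9, 10], ∃ a < 5, ∃ ε ∈ [1, 10],
    lmul (lpow z2L a) (lpow y2L ε) = lmul (lpow y2L k) (lpow z2L a) := by
  decide +kernel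

theorem eps_table : ∀ ε ∈ [1, 10], lmul z2L (lpow y2L ε) = lmul (lpow (lpow y2L ε) 9) z2L ∧
    lpow (lpow y2L ε) ε = y2L := by decide +kernel

theorem conj_table2 : ∀ i < 11, ∃ j < 11, lmul (lpow y2L j) z2L = lmul z2L (lpow y2L (i + j)) := by
  decide +kernel

theorem rel1_table : ∀ ε ∈ [1, 10], ∀ i < 5,
    lpow (lmul (lpow y2L ε) (lmul (lmul s2L (lpow z2L i)) (lmul s2L (lpow z2L i)))) 3 = idl →
      i = 0 := by decide +kernel

theorem rel2_table : lpow (lmul (lpow y2L 10) s2L) 11 ≠ idl := by decide +kernel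

/-- an automorphism fixing `y2`, `z2` and `s2` is trivial -/
theorem eq_one_of_fix2 (γ : G0 ≃* G0) (hy : γ yG = yG) (hz : γ zG = zG) (hs : γ sG = sG) (g : G0) :
    γ g = g := by
  have hg : g.1 ∈ K2 := by rw [K2_eq]; exact g.2
  have key : ∀ x (hx : x ∈ K2), ∀ hxG : x ∈ G0, γ ⟨x, hxG⟩ = ⟨x, hxG⟩ := by
    intro x hx
    induction hx using Subgroup.closure_induction with
    | mem x hx =>
      intro hxG
      simp only [Set.mem_insert_iff, Set.mem_singleton_iff] at hx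
      rcases hx with rfl | rfl | rfl
      · exact hy
      · exact hz
      · exact hs
    | one => intro _; exact map_one γ
    | mul a b ha hb iha ihb =>
      intro hxG
      have haG := K2_le ha
      have hbG := K2_le hb
      have : (⟨a * b, hxG⟩ : G0) = ⟨a, haG⟩ * ⟨b, hbG⟩ := rfl
      rw [this, map_mul, iha haG, ihb hbG]
    | inv a ha iha =>
      intro hxG
      have haG := K2_le ha
      have : (⟨a⁻¹, hxG⟩ : G0) = (⟨a, haG⟩ : G0)⁻¹ := rfl
      rw [this, map_inv, iha haG]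
  exact key g.1 hg g.2

/-- every automorphism is inner -/
theorem G0_inner (α : G0 ≃* G0) : ∃ n : G0, α = MulAut.conj n := by
  have : Fact (Nat.Prime 11) := ⟨by norm_num⟩
  have hp2 : ¬ 11 ^ 2 ∣ Nat.card G0 := by rw [G0_card]; norm_num
  have hαy : orderOf (α yG) = 11 := by rw [MulEquiv.orderOf_eq]; exact yG_order
  obtain ⟨g, k, hk⟩ := SylowFix.exists_conj_pow hp2 yG_order hαy
  have hk' : α yG = g * yG ^ (k % 11) * g⁻¹ := by
    rw [hk]
    congr 2
    rw [← yG_order, pow_mod_orderOf]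
  have hk0 : k % 11 ≠ 0 := by
    intro h0
    rw [h0, pow_zero, mul_one, mul_inv_cancel] at hk'
    have : yG = 1 := α.injective (by rw [hk', map_one])
    have ho := yG_order
    rw [this, orderOf_one] at ho
    exact absurd ho (by norm_num)
  have hkmem : k % 11 ∈ [1, 2, 3, 4, 5, 6, 7, 8, 9, 10] := by
    have : k % 11 < 11 := Nat.mod_lt _ (by norm_num)
    generalize k % 11 = r at *
    interval_cases r <;> simp at hk0 ⊢
  obtain ⟨a, _, ε, hε, hab⟩ := norm_table2 _ hkmem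
  obtain ⟨hε1, hε2⟩ := eps_table ε hε
  set Y : Equiv.Perm GolayPt := y2 ^ ε with hY
  have hYL : IsL Y (lpow y2L ε) := y2_isL.pow ε
  have hYε : Y ^ ε = y2 := (hYL.pow ε).ext' y2_isL hε2
  have hzY : z2 * Y = Y ^ 9 * z2 := (z2_isL.mul hYL).ext' ((hYL.pow 9).mul z2_isL) hε1
  have hYG : Y ∈ G0 := G0.pow_mem y2_mem ε
  have hny : z2 ^ a * Y = y2 ^ (k % 11) * z2 ^ a :=
    ((z2_isL.pow a).mul hYL).ext' ((y2_isL.pow _).mul (z2_isL.pow a)) hab
  -- the first correction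
  set m : Equiv.Perm GolayPt := g.1 * z2 ^ a with hm
  have hmG : m ∈ G0 := G0.mul_mem g.2 (G0.pow_mem z2_mem a)
  have hαy' : (α yG).1 = m * Y * m⁻¹ := by
    have h1 : (α yG).1 = g.1 * y2 ^ (k % 11) * g.1⁻¹ := by
      rw [hk']; rfl
    have h2 : y2 ^ (k % 11) = z2 ^ a * Y * (z2 ^ a)⁻¹ := by rw [hny]; group
    rw [h1, h2, hm]; group
  -- the image of `z2`
  set z' : Equiv.Perm GolayPt := m⁻¹ * (α zG).1 * m with hz'
  have hz'G : z' ∈ G0 := G0.mul_mem (G0.mul_mem (G0.inv_mem hmG) (α zG).2) hmG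
  have hαzy : (α zG).1 * (α yG).1 = (α yG).1 ^ 9 * (α zG).1 := by
    have h1 : zG * yG = yG ^ 9 * zG := Subtype.ext zy2
    have h2 := congrArg (fun t : G0 => (α t).1) h1
    simp only [map_mul, map_pow] at h2
    exact h2
  -- conjugating by `m` turns `α yG` into a power of `Y`... first a relation for `Y`
  have hαzY : (α zG).1 * (m * Y * m⁻¹) = (m * Y * m⁻¹) ^ 9 * (α zG).1 := by
    rw [← hαy']; exact hαzy
  have hz'Y : z' * Y = Y ^ 9 * z' := by
    have e2 : Y ^ 9 = m⁻¹ * (m * Y * m⁻¹) ^ 9 * m := by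
      rw [conj_pow]; group
    rw [e2, hz']
    calc m⁻¹ * (α zG).1 * m * Y = m⁻¹ * ((α zG).1 * (m * Y * m⁻¹)) * m := by group
      _ = m⁻¹ * ((m * Y * m⁻¹) ^ 9 * (α zG).1) * m := by rw [hαzY]
      _ = m⁻¹ * (m * Y * m⁻¹) ^ 9 * m * (m⁻¹ * (α zG).1 * m) := by group
  have hcY : (z2⁻¹ * z') * Y = Y * (z2⁻¹ * z') := by
    have e1 : z2⁻¹ * Y ^ 9 = Y * z2⁻¹ := by
      rw [inv_mul_eq_iff_eq_mul, ← mul_assoc, hzY, mul_assoc, mul_inv_cancel, mul_one]
    rw [mul_assoc, hz'Y, ← mul_assoc, e1, mul_assoc]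
  have hcy : (z2⁻¹ * z') * y2 = y2 * (z2⁻¹ * z') := by
    rw [← hYε]
    exact ((show Commute (z2⁻¹ * z') Y from hcY).pow_right ε).eq
  obtain ⟨i, hi, hci⟩ := cent_y2 (G.mul_mem (G.inv_mem z2_memG) (G0_le hz'G)) hcy
  have hz'i : z' = z2 * y2 ^ i := by rw [← hci]; group
  obtain ⟨j, _, hj⟩ := conj_table2 i hi
  have hyz : y2 ^ j * z2 = z2 * y2 ^ (i + j) :=
    ((y2_isL.pow j).mul z2_isL).ext' (z2_isL.mul (y2_isL.pow (i + j))) hj
  -- the conjugating element
  set N : Equiv.Perm GolayPt := m * y2 ^ j with hN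
  have hNG : N ∈ G0 := G0.mul_mem hmG (G0.pow_mem y2_mem j)
  have hNy : (α yG).1 = N * Y * N⁻¹ := by
    rw [hαy', hN]
    have hcomm : y2 ^ j * Y = Y * y2 ^ j := by
      rw [hY, ← pow_add, ← pow_add, add_comm]
    have : y2 ^ j * Y * (y2 ^ j)⁻¹ = Y := by
      rw [hcomm, mul_assoc, mul_inv_cancel, mul_one]
    calc m * Y * m⁻¹ = m * (y2 ^ j * Y * (y2 ^ j)⁻¹) * m⁻¹ := by rw [this]
      _ = m * y2 ^ j * Y * (m * y2 ^ j)⁻¹ := by group
  have hNz : (α zG).1 = N * z2 * N⁻¹ := by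
    have e1 : (α zG).1 = m * z' * m⁻¹ := by rw [hz']; group
    have e2 : z' = y2 ^ j * z2 * (y2 ^ j)⁻¹ := by
      rw [hyz, hz'i, pow_add]; group
    rw [e1, e2, hN]; group
  refine ⟨⟨N, hNG⟩, ?_⟩
  -- the corrected automorphism
  set γ : G0 ≃* G0 := α.trans (MulAut.conj (⟨N, hNG⟩ : G0)).symm with hγ
  have hγval : ∀ t : G0, (γ t).1 = N⁻¹ * (α t).1 * N := by
    intro t
    rw [hγ, MulEquiv.trans_apply]
    show ((MulAut.conj (⟨N, hNG⟩ : G0))⁻¹ (α t)).1 = _
    rw [← map_inv, MulAut.conj_apply]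
    simp
  have hγy : (γ yG).1 = Y := by rw [hγval, hNy]; group
  have hγz : γ zG = zG := by
    apply Subtype.ext
    rw [hγval, hNz]
    show N⁻¹ * (N * z2 * N⁻¹) * N = z2
    group
  -- the image of `s2`
  set s' : Equiv.Perm GolayPt := (γ sG).1 with hs'
  have hs'G : s' ∈ G0 := (γ sG).2
  have hs'z : s' * z2 = z2 ^ 2 * s' := by
    have h1 : sG * zG = zG ^ 2 * sG := Subtype.ext sz2
    have h2 := congrArg (fun t : G0 => (γ t).1) h1
    simp only [map_mul, map_pow, hγz] at h2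
    exact h2
  have hc2 : (s2⁻¹ * s') * z2 = z2 * (s2⁻¹ * s') := by
    have e1 : s2⁻¹ * z2 ^ 2 = z2 * s2⁻¹ := by
      rw [inv_mul_eq_iff_eq_mul, ← mul_assoc, sz2, mul_assoc, mul_inv_cancel, mul_one]
    rw [mul_assoc, hs'z, ← mul_assoc, e1, mul_assoc]
  obtain ⟨i2, hi2, hci2⟩ := cent_z2 (G0.mul_mem (G0.inv_mem s2_mem) hs'G) hc2
  have hs'i : s' = s2 * z2 ^ i2 := by rw [← hci2]; group
  -- the first relation
  have hr1 : (Y * (s' * s')) ^ 3 = 1 := by
    have h1 : (yG * (sG * sG)) ^ 3 = 1 := Subtype.ext rel1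
    have h2 := congrArg (fun t : G0 => (γ t).1) h1
    simp only [map_mul, map_pow, map_one] at h2
    have h3 : ((γ yG).1 * ((γ sG).1 * (γ sG).1)) ^ 3 = 1 := h2
    rw [hγy] at h3
    exact h3
  have hi20 : i2 = 0 := by
    apply rel1_table ε hε i2 hi2
    have hsL : IsL s' (lmul s2L (lpow z2L i2)) := by
      rw [hs'i]; exact s2_isL.mul (z2_isL.pow i2)
    have hL := ((hYL.mul (hsL.mul hsL)).pow 3)
    rw [hr1] at hL
    exact lfun_injective' hL.1 wf_idl (hL.2.symm.trans IsL.one.2)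
  have hs's : s' = s2 := by rw [hs'i, hi20, pow_zero, mul_one]
  have hγs : γ sG = sG := Subtype.ext hs's
  -- the second relation
  have hr2 : (Y * s2) ^ 11 = 1 := by
    have h1 : (yG * sG) ^ 11 = 1 := Subtype.ext rel2
    have h2 := congrArg (fun t : G0 => (γ t).1) h1
    simp only [map_mul, map_pow, map_one, hγs] at h2
    have h3 : ((γ yG).1 * s2) ^ 11 = 1 := h2
    rw [hγy] at h3
    exact h3
  have hε1' : ε = 1 := by
    simp only [List.mem_cons, List.not_mem_nil, or_false] at hε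
    rcases hε with rfl | rfl
    · rfl
    · exfalso
      apply rel2_table
      have hL := ((hYL.mul s2_isL).pow 11)
      rw [hr2] at hL
      exact lfun_injective' hL.1 wf_idl (hL.2.symm.trans IsL.one.2)
  have hγy' : γ yG = yG := by
    apply Subtype.ext
    rw [hγy, hY, hε1', pow_one]
    rfl
  ext t : 1
  have := eq_one_of_fix2 γ hγy' hγz hγs t
  apply Subtype.ext
  have h2 := congrArg Subtype.val this
  rw [hγval] at h2
  rw [MulAut.conj_apply]
  show (α t).1 = N * t.1 * N⁻¹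
  rw [← h2]
  group

end Cfsg.Agent.Lib.Helper6.Golay.M11Out
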