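import Cfsg.Agent.Lib.Helper6.M12Out2

/-!
# Data for the automorphisms of the stabilizer of the reference dodecad and one of its points

An element `y2` of order 11 fixing the point 0, an element `z2` of order 5 normalizing it, the
involution `u2` commuting with `z2`, an element `s2` of order 4 fixing the point 0 and normalizing
`z2`, and a strong generating set for the group generated by `y2`, `z2`, `s2`.
-/

set_option autoImplicit false
set_option maxRecDepth 1000000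

namespace Cfsg.Agent.Lib.Helper6.Golay.M11Out

open Cfsg Cfsg.Agent.Lib.Helper6.Golay Cfsg.Agent.Lib.Helper6.Golay.M12Out

def y2L : List ℕ := [0, 5, 6, 14, 3, 12, 7, 11, 2, 10, 13, 9, 20, 4, 8, 19, 16, 23, 17, 22, 18, 15, 1, 21]

def z2L : List ℕ := [0, 5, 11, 14, 2, 22, 6, 8, 10, 13, 9, 3, 15, 7, 4, 21, 16, 12, 18, 17, 23, 19, 20, 1]

def u2L : List ℕ := [6, 17, 10, 13, 8, 12, 0, 14, 4, 11, 2, 9, 5, 3, 7, 22, 18, 1, 16, 23, 21, 20, 15, 19]

def s2L : List ℕ := [0, 15, 3, 11, 2, 19, 6, 7, 10, 8, 13, 4, 23, 9, 14, 5, 18, 22, 16, 1, 21, 20, 12, 17]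

def progK2 : List (ℕ × ℕ) := [(0, 0), (0, 2), (1, 0), (3, 0), (4, 1), (1, 1), (8, 2), (9, 0), (10, 0), (11, 2), (12, 0), (13, 1), (14, 2), (15, 0), (16, 2), (0, 17), (3, 1), (19, 1), (20, 0), (21, 0), (22, 0), (23, 2), (24, 1), (5, 25), (0, 26), (26, 18), (28, 18), (29, 18), (6, 2), (31, 2), (32, 2), (33, 0), (34, 2), (35, 2), (36, 1), (37, 0), (38, 0), (39, 0), (40, 2), (41, 0), (42, 1), (43, 1), (44, 0), (6, 45), (30, 46), (2, 2), (48, 1), (49, 2), (50, 2), (51, 0), (52, 0), (53, 2), (54, 2), (55, 2), (6, 56), (28, 57), (18, 58), (47, 58), (8, 1), (61, 1), (62, 0), (63, 0), (64, 2), (65, 0), (66, 0), (67, 2), (68, 1), (69, 2), (70, 1), (71, 1), (72, 2), (73, 1), (74, 1), (75, 2), (27, 76), (59, 77), (60, 78), (47, 79), (80, 47), (7, 0), (82, 1), (83, 0), (84, 1), (85, 1), (86, 0), (87, 2), (5, 88), (26, 89), (81, 90)]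

def treesK2 : List (List (ℕ × ℕ)) := [[],
  [(2, 0), (2, 1), (2, 2), (6, 0), (6, 18), (6, 26), (6, 47), (6, 58), (6, 79), (11, 26)],
  [(3, 18), (3, 26), (11, 26), (11, 47), (11, 58), (13, 26), (13, 47), (13, 91), (8, 58)],
  [(4, 47), (4, 58), (13, 47), (13, 58), (7, 58), (7, 91), (9, 47), (9, 79)],
  [(6, 79), (6, 91), (14, 79), (14, 91), (10, 79), (13, 79), (13, 91)]]

def orbsK2 : List (List ℕ) := [[0],
  [2, 3, 4, 6, 7, 8, 9, 10, 11, 13, 14],
  [3, 4, 6, 7, 8, 9, 10, 11, 13, 14],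
  [4, 6, 7, 8, 9, 10, 11, 13, 14],
  [6, 7, 8, 9, 10, 11, 13, 14]]

/-- the words in `y2`, `z2`, `s2` -/
def EK2 : List (List ℕ) := slpRun [y2L, z2L, s2L] progK2

theorem y2L_chk : chkL y2L = true := by decide +kernel
theorem z2L_chk : chkL z2L = true := by decide +kernel
theorem u2L_chk : chkL u2L = true := by decide +kernel
theorem s2L_chk : chkL s2L = true := by decide +kernel

theorem stab2_chk : lmask y2L dodecad0 = dodecad0 ∧ lmask z2L dodecad0 = dodecad0 ∧
    lmask u2L dodecad0 = dodecad0 ∧ lmask s2L dodecad0 = dodecad0 := by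
  decide +kernel

theorem fix0_chk : y2L.getD 0 0 = 0 ∧ z2L.getD 0 0 = 0 ∧ s2L.getD 0 0 = 0 := by decide +kernel

set_option maxHeartbeats 4000000 in
theorem chainK2_ok : chainCheck EK2 base12 treesK2 orbsK2 = true := by decide +kernel

theorem orbsK2_eq : ∀ k, 1 ≤ k → k < 5 → orbsK2.getD k [] = orbs12.getD k [] := by decide +kernel

end Cfsg.Agent.Lib.Helper6.Golay.M11Out
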