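import Cfsg.Agent.Lib.Helper6.M12Out1

/-!
# Rigidity in the stabilizer of the reference dodecad

Centralizers of the elements of order 11 and 5, and generation by `y`, `z`, `u`.
-/

set_option autoImplicit false
set_option maxRecDepth 1000000

namespace Cfsg.Agent.Lib.Helper6.Golay.M12Out

open Cfsg Cfsg.Agent.Lib.Helper6.Golay
open Cfsg.Agent.Lib.Helper6.PermChain
open scoped Pointwise

theorem G_card : Nat.card G = 95040 := card_M12

instance : Finite G := Nat.finite_of_card_ne_zero (by rw [G_card]; norm_num)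

theorem mem_D_iff {g : Equiv.Perm GolayPt} (hg : g ∈ G) (p : GolayPt) :
    g p ∈ fs dodecad0 ↔ p ∈ fs dodecad0 := M12in_mem_D g hg p

/-- an element fixing five points of the dodecad, given by indices, is trivial -/
theorem eq_one_of_fix5 {g : Equiv.Perm GolayPt} (hg : g ∈ G) (l : List ℕ) (hl : l.length = 5)
    (hnd : l.Nodup) (h24 : ∀ i ∈ l, i < 24) (hD : ∀ i ∈ l, pt i ∈ fs dodecad0)
    (hfix : ∀ i ∈ l, g (pt i) = pt i) : g = 1 := by
  let x : Fin 5 ↪ GolayPt :=
    ⟨fun k => pt (l.get (k.cast hl.symm)), by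
      intro a b hab
      have h1 := pt_inj' (h24 _ (List.get_mem _ _)) (h24 _ (List.get_mem _ _)) hab
      have h2 := (List.Nodup.get_inj_iff hnd).1 h1
      exact Fin.cast_injective _ h2⟩
  exact eq_one_of_M12_fix hg x (fun i => hD _ (List.get_mem _ _)) (fun i => hfix _ (List.get_mem _ _))

theorem comm_fix {g t : Equiv.Perm GolayPt} (hc : g * t = t * g) {p : GolayPt} (hp : g p = p) :
    g (t p) = t p := by
  have := congrArg (fun σ : Equiv.Perm GolayPt => σ p) hc
  simp only [Equiv.Perm.mul_apply] at this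
  rw [this, hp]

theorem y_apply {i : ℕ} (hi : i < 24) : y (pt i) = pt (yL.getD i 0) := y_isL.apply hi
theorem z_apply {i : ℕ} (hi : i < 24) : z (pt i) = pt (zL.getD i 0) := z_isL.apply hi

/-- an element commuting with `y` and fixing the point 0 is trivial -/
theorem rigid_y {g : Equiv.Perm GolayPt} (hg : g ∈ G) (hc : g * y = y * g) (h0 : g (pt 0) = pt 0) :
    g = 1 := by
  have e0 : y (pt 0) = pt 4 := y_apply (by norm_num)
  have e1 : y (pt 4) = pt 6 := y_apply (by norm_num)
  have e2 : y (pt 6) = pt 2 := y_apply (by norm_num)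
  have e3 : y (pt 2) = pt 9 := y_apply (by norm_num)
  have h4 : g (pt 4) = pt 4 := by rw [← e0]; exact comm_fix hc h0
  have h6 : g (pt 6) = pt 6 := by rw [← e1]; exact comm_fix hc h4
  have h2 : g (pt 2) = pt 2 := by rw [← e2]; exact comm_fix hc h6
  have h9 : g (pt 9) = pt 9 := by rw [← e3]; exact comm_fix hc h2
  apply eq_one_of_fix5 hg [0, 4, 6, 2, 9] rfl (by decide) (by decide) (by decide)
  intro i hi
  simp only [List.mem_cons, List.not_mem_nil, or_false] at hi
  rcases hi with rfl | rfl | rfl | rfl | rfl <;> assumption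

/-- an element commuting with `z` and fixing the point 0 is trivial -/
theorem rigid_z {g : Equiv.Perm GolayPt} (hg : g ∈ G) (hc : g * z = z * g) (h0 : g (pt 0) = pt 0) :
    g = 1 := by
  have e0 : z (pt 0) = pt 4 := z_apply (by norm_num)
  have e1 : z (pt 4) = pt 11 := z_apply (by norm_num)
  have e2 : z (pt 11) = pt 2 := z_apply (by norm_num)
  have e3 : z (pt 2) = pt 7 := z_apply (by norm_num)
  have h4 : g (pt 4) = pt 4 := by rw [← e0]; exact comm_fix hc h0
  have h11 : g (pt 11) = pt 11 := by rw [← e1]; exact comm_fix hc h4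
  have h2 : g (pt 2) = pt 2 := by rw [← e2]; exact comm_fix hc h11
  have h7 : g (pt 7) = pt 7 := by rw [← e3]; exact comm_fix hc h2
  apply eq_one_of_fix5 hg [0, 4, 11, 2, 7] rfl (by decide) (by decide) (by decide)
  intro i hi
  simp only [List.mem_cons, List.not_mem_nil, or_false] at hi
  rcases hi with rfl | rfl | rfl | rfl | rfl <;> assumption

theorem idx_mem_D {p : GolayPt} (hp : p ∈ fs dodecad0) :
    idx p ∈ [0, 2, 3, 4, 6, 7, 8, 9, 10, 11, 13, 14] := by
  revert p; decide

theorem yL_table : ∀ j ∈ [0, 2, 3, 4, 6, 7, 8, 9, 10, 11, 13, 14], j = 8 ∨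
    ∃ i < 11, (lpow yL i).getD 0 0 = j := by decide +kernel

/-- the centralizer of `y` consists of the powers of `y` -/
theorem cent_y {c : Equiv.Perm GolayPt} (hc : c ∈ G) (hcy : c * y = y * c) : ∃ i < 11, c = y ^ i := by
  have hq : c (pt 0) ∈ fs dodecad0 := (mem_D_iff hc _).2 (by decide)
  have hj := idx_mem_D hq
  have hj24 := idx_lt (c (pt 0))
  rcases yL_table _ hj with h8 | ⟨i, hi, hij⟩
  · exfalso
    have e8 : c (pt 0) = pt 8 := by rw [← h8, pt_idx]
    have y8 : y (pt 8) = pt 8 := y_apply (by norm_num)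
    have h1 := congrArg (fun σ : Equiv.Perm GolayPt => σ (pt 0)) hcy
    simp only [Equiv.Perm.mul_apply] at h1
    rw [e8, y8, ← e8] at h1
    have h2 := c.injective h1
    rw [y_apply (by norm_num)] at h2
    exact absurd (pt_inj' (by decide) (by norm_num) h2) (by decide)
  · refine ⟨i, hi, ?_⟩
    have hyi : (y ^ i) (pt 0) = c (pt 0) := by
      rw [(y_isL.pow i).apply (by norm_num), hij, pt_idx]
    have hg : (y ^ i)⁻¹ * c ∈ G := G.mul_mem (G.inv_mem (G.pow_mem y_mem i)) hc
    have hcomm : ((y ^ i)⁻¹ * c) * y = y * ((y ^ i)⁻¹ * c) := by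
      have e1 : (y ^ i)⁻¹ * y = y * (y ^ i)⁻¹ := by
        rw [inv_mul_eq_iff_eq_mul, ← mul_assoc, ← pow_succ, pow_succ', mul_assoc, mul_inv_cancel,
          mul_one]
      rw [mul_assoc, hcy, ← mul_assoc, e1, mul_assoc]
    have h0 : ((y ^ i)⁻¹ * c) (pt 0) = pt 0 := by
      rw [Equiv.Perm.mul_apply, ← hyi]
      exact (y ^ i).symm_apply_apply _
    have := rigid_y hg hcomm h0
    rw [inv_mul_eq_one] at this
    exact this.symm

theorem zuL_table : ∀ j ∈ [0, 2, 3, 4, 6, 7, 8, 9, 10, 11, 13, 14], j = 8 ∨ j = 9 ∨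
    ∃ i < 5, ∃ e < 2, (lmul (lpow zL i) (lpow uL e)).getD 0 0 = j := by decide +kernel

theorem z_pow_table : ∀ i < 5, i ≠ 0 → (lpow zL (2 * i)).getD 0 0 ≠ 0 := by decide +kernel

theorem u_ne_one : u ≠ 1 := by
  intro h1
  have := u_isL.apply (i := 0) (by norm_num)
  rw [h1] at this
  have h2 : pt 0 = pt (uL.getD 0 0) := this
  exact absurd (pt_inj' (by norm_num) (by decide) h2) (by decide)

/-- `u` is the only involution commuting with `z` -/
theorem invol_cent_z {c : Equiv.Perm GolayPt} (hc : c ∈ G) (hcz : c * z = z * c) (hc2 : c * c = 1)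
    (hc1 : c ≠ 1) : c = u := by
  have hq : c (pt 0) ∈ fs dodecad0 := (mem_D_iff hc _).2 (by decide)
  have hj := idx_mem_D hq
  have hfixcase : ∀ j, (j = 8 ∨ j = 9) → idx (c (pt 0)) = j → False := by
    intro j hj89 hidx
    have ej : c (pt 0) = pt j := by rw [← hidx, pt_idx]
    have zj : z (pt j) = pt j := by
      rcases hj89 with rfl | rfl
      · exact z_apply (by norm_num)
      · exact z_apply (by norm_num)
    have h1 := congrArg (fun σ : Equiv.Perm GolayPt => σ (pt 0)) hcz
    simp only [Equiv.Perm.mul_apply] at h1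
    rw [ej, zj, ← ej] at h1
    have h2 := c.injective h1
    rw [z_apply (by norm_num)] at h2
    exact absurd (pt_inj' (by decide) (by norm_num) h2) (by decide)
  rcases zuL_table _ hj with h8 | h9 | ⟨i, hi, e, he, hij⟩
  · exact (hfixcase 8 (Or.inl rfl) h8).elim
  · exact (hfixcase 9 (Or.inr rfl) h9).elim
  · set w := z ^ i * u ^ e with hw
    have hwL : IsL w (lmul (lpow zL i) (lpow uL e)) := (z_isL.pow i).mul (u_isL.pow e)
    have hw0 : w (pt 0) = c (pt 0) := by
      rw [hwL.apply (by norm_num), hij, pt_idx]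
    have hwz : w * z = z * w := by
      have e1 : u ^ e * z = z * u ^ e := by
        have : Commute u z := uz
        exact (this.pow_left e).eq
      have e2 : z ^ i * z = z * z ^ i := by rw [← pow_succ, pow_succ']
      rw [hw, mul_assoc, e1, ← mul_assoc, e2, mul_assoc]
    have hwG : w ∈ G := G.mul_mem (G.pow_mem z_mem i) (G.pow_mem u_mem e)
    have hg : w⁻¹ * c ∈ G := G.mul_mem (G.inv_mem hwG) hc
    have hcomm : (w⁻¹ * c) * z = z * (w⁻¹ * c) := by
      have e1 : w⁻¹ * z = z * w⁻¹ := (show Commute w z from hwz).inv_left.eq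
      rw [mul_assoc, hcz, ← mul_assoc, e1, mul_assoc]
    have h0 : (w⁻¹ * c) (pt 0) = pt 0 := by
      rw [Equiv.Perm.mul_apply, ← hw0]
      exact w.symm_apply_apply _
    have hcw : c = w := by
      have := rigid_z hg hcomm h0
      rw [inv_mul_eq_one] at this
      exact this.symm
    -- the square of `c`
    have hsq : c * c = z ^ (2 * i) := by
      have hcomm2 : Commute (u ^ e) (z ^ i) := ((show Commute u z from uz).pow_left e).pow_right i
      have hu2 : u ^ e * u ^ e = 1 := by
        rw [← pow_add, ← two_mul, pow_mul]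
        have : u ^ 2 = 1 := by rw [pow_two]; exact u_sq
        rw [this, one_pow]
      rw [hcw, hw]
      calc z ^ i * u ^ e * (z ^ i * u ^ e) = z ^ i * (u ^ e * z ^ i) * u ^ e := by group
        _ = z ^ i * (z ^ i * u ^ e) * u ^ e := by rw [hcomm2.eq]
        _ = z ^ i * z ^ i * (u ^ e * u ^ e) := by group
        _ = z ^ (2 * i) := by rw [hu2, mul_one, ← pow_add, two_mul]
    have hi0 : i = 0 := by
      by_contra hne
      have h1 := z_pow_table i hi hne
      have h2 : (z ^ (2 * i)) (pt 0) = pt ((lpow zL (2 * i)).getD 0 0) :=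
        (z_isL.pow (2 * i)).apply (by norm_num)
      rw [← hsq, hc2] at h2
      have h3 : pt 0 = pt ((lpow zL (2 * i)).getD 0 0) := h2
      have hlt : (lpow zL (2 * i)).getD 0 0 < 24 := getD_lt (z_isL.pow (2 * i)).1 (by norm_num)
      exact h1 (pt_inj' (by norm_num) hlt h3).symm
    subst hi0
    rw [hcw, hw, pow_zero, one_mul]
    interval_cases e
    · exfalso
      apply hc1
      rw [hcw, hw, pow_zero, pow_zero, one_mul]
    · rw [pow_one]

/-! ### generation -/

/-- the subgroup generated by `y`, `z`, `u` -/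
def K : Subgroup (Equiv.Perm GolayPt) := Subgroup.closure {y, z, u}

theorem K_le : K ≤ G := by
  rw [K, Subgroup.closure_le]
  intro g hg
  simp only [Set.mem_insert_iff, Set.mem_singleton_iff] at hg
  rcases hg with rfl | rfl | rfl
  · exact y_mem
  · exact z_mem
  · exact u_mem

theorem rep_EK : ∀ l ∈ EK, Rep K l := by
  apply rep_slpRun
  intro l hl
  simp only [List.mem_cons, List.not_mem_nil, or_false] at hl
  rcases hl with rfl | rfl | rfl
  · exact ⟨y_isL.1, y, Subgroup.subset_closure (by simp), y_isL.2⟩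
  · exact ⟨z_isL.1, z, Subgroup.subset_closure (by simp), z_isL.2⟩
  · exact ⟨u_isL.1, u, Subgroup.subset_closure (by simp), u_isL.2⟩

theorem chainK : ∀ k (hk : k < bs12.length), ∀ q ∈ D12, q ∉ bs12.take k →
    ∃ g ∈ fixL K (bs12.take k), g (bs12[k]) = q := by
  intro k hk q hqD hq
  have hk5 : k < 5 := hk
  have e1 : bs12.take k = (base12.take k).map pt := by rw [bs12, List.map_take]
  have e2 : ∀ h : k < bs12.length, bs12[k]'h = pt (base12.getD k 0) := by
    intro h
    simp only [bs12, List.getElem_map]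
    rw [List.getD_eq_getElem]
  rw [e1] at hq ⊢
  rw [e2 hk]
  have hmem : idx q ∈ orbsK.getD k [] := by
    rw [orbsK_eq]
    have : ∀ q : GolayPt, q ∈ fs dodecad0 → q ∉ (base12.take k).map pt →
        idx q ∈ orbs12.getD k [] := by
      interval_cases k <;> decide
    exact this q hqD hq
  obtain ⟨_, g, hg, hgq⟩ := reach_of_chainCheck rep_EK chainK_ok k hk5 (idx q) hmem
  exact ⟨g, hg, by rw [hgq, pt_idx]⟩

theorem card_fixL_K (k : ℕ) (hk : k < 5) :
    Nat.card (fixL K (bs12.take k)) =
      (orb12 k).card * Nat.card (fixL K (bs12.take (k + 1))) := by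
  have hk' : k < bs12.length := hk
  have e : bs12.take (k + 1) = bs12.take k ++ [bs12[k]] := by
    rw [List.take_succ_eq_append_getElem hk']
  rw [e]
  apply card_fixL_step
  · intro q hq
    rw [orb12, Finset.mem_filter] at hq
    exact chainK k hk' q hq.1 hq.2
  · intro g hg
    have hg' : g ∈ fixL G (bs12.take k) := fixL_mono K_le _ hg
    rw [orb12, Finset.mem_filter]
    have hb : ∀ h : k < bs12.length, bs12[k]'h ∈ fs dodecad0 ∧ bs12[k]'h ∉ bs12.take k := by
      interval_cases k <;> decide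
    refine ⟨(M12in_mem_D g (fixL_le _ _ hg') _).mpr (hb hk').1, apply_not_mem_of_fixL hg' (hb hk').2⟩

/-- the elements `y`, `z`, `u` generate the stabilizer of the dodecad -/
theorem K_eq : K = G := by
  have h0 := card_fixL_K 0 (by norm_num)
  have h1 := card_fixL_K 1 (by norm_num)
  have h2 := card_fixL_K 2 (by norm_num)
  have h3 := card_fixL_K 3 (by norm_num)
  have h4 := card_fixL_K 4 (by norm_num)
  have c0 : (orb12 0).card = 12 := by decide
  have c1 : (orb12 1).card = 11 := by decide
  have c2 : (orb12 2).card = 10 := by decide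
  have c3 : (orb12 3).card = 9 := by decide
  have c4 : (orb12 4).card = 8 := by decide
  have e0 : fixL K (bs12.take 0) = K := fixL_nil _
  rw [e0, c0] at h0
  rw [c1] at h1; rw [c2] at h2; rw [c3] at h3; rw [c4] at h4
  simp only [zero_add, Nat.reduceAdd] at h0 h1 h2 h3 h4
  have hfin : Finite (fixL K (bs12.take 5)) :=
    Finite.of_injective (fun g : fixL K (bs12.take 5) => (⟨g.1, K_le (fixL_le _ _ g.2)⟩ : G))
      (fun a b hab => Subtype.ext (congrArg (fun t : G => t.1) hab))
  have hpos : 0 < Nat.card (fixL K (bs12.take 5)) := Nat.card_pos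
  apply Subgroup.eq_of_le_of_card_ge K_le
  rw [G_card, h0, h1, h2, h3, h4]
  nlinarith

end Cfsg.Agent.Lib.Helper6.Golay.M12Out
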