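import Cfsg.Agent.Lib.Helper6.M12Out2
import Cfsg.Agent.Lib.Helper6.SylowFix
import Cfsg.Prelude.Def_KGroupFacts

/-!
# The automorphisms of the stabilizer of the reference dodecad

Every automorphism is induced by conjugation with an element of the group of the code preserving or
exchanging the dodecad and its complement; the outer automorphism group has order two.
-/

set_option autoImplicit false
set_option maxRecDepth 1000000

namespace Cfsg.Agent.Lib.Helper6.Golay.M12Out

open Cfsg Cfsg.Agent.Lib.Helper6.Golay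
open Cfsg.Agent.Lib.Helper6.PermChain
open scoped Pointwise

/-- the elements of the group of the code preserving or exchanging the dodecad and its complement -/
def Ghat : Subgroup (Equiv.Perm GolayPt) where
  carrier := {n | n ∈ M24 ∧ (n • fs dodecad0 = fs dodecad0 ∨ n • fs dodecad0 = (fs dodecad0)ᶜ)}
  one_mem' := ⟨M24.one_mem, Or.inl (one_smul _ _)⟩
  mul_mem' := by
    rintro a b ⟨ha, ha'⟩ ⟨hb, hb'⟩
    refine ⟨M24.mul_mem ha hb, ?_⟩
    rw [mul_smul]
    rcases hb' with hb' | hb' <;> rcases ha' with ha' | ha'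
    · left; rw [hb', ha']
    · right; rw [hb', ha']
    · right; rw [hb', smul_compl', ha']
    · left; rw [hb', smul_compl', ha', compl_compl]
  inv_mem' := by
    rintro a ⟨ha, ha'⟩
    refine ⟨M24.inv_mem ha, ?_⟩
    rcases ha' with ha' | ha'
    · left; rw [inv_smul_eq_iff, ha']
    · right; rw [inv_smul_eq_iff, smul_compl', ha', compl_compl]

theorem mem_Ghat {n : Equiv.Perm GolayPt} : n ∈ Ghat ↔
    n ∈ M24 ∧ (n • fs dodecad0 = fs dodecad0 ∨ n • fs dodecad0 = (fs dodecad0)ᶜ) := Iff.rfl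

theorem G_le_Ghat : G ≤ Ghat := fun g hg => ⟨(mem_M12in.1 hg).1, Or.inl (mem_M12in.1 hg).2⟩

theorem h_mem_Ghat : h ∈ Ghat := ⟨h_mem24, Or.inr h_smul⟩

theorem mem_G_of_smul {n : Equiv.Perm GolayPt} (hn : n ∈ Ghat) (h : n • fs dodecad0 = fs dodecad0) :
    n ∈ G := mem_M12in.2 ⟨hn.1, h⟩

/-- the stabilizer of the dodecad is normalized -/
theorem conj_mem {n : Equiv.Perm GolayPt} (hn : n ∈ Ghat) {g : Equiv.Perm GolayPt} (hg : g ∈ G) :
    n * g * n⁻¹ ∈ G := by
  obtain ⟨hg24, hgD⟩ := mem_M12in.1 hg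
  refine mem_M12in.2 ⟨M24.mul_mem (M24.mul_mem hn.1 hg24) (M24.inv_mem hn.1), ?_⟩
  rw [mul_smul, mul_smul]
  rcases hn.2 with h1 | h1
  · have h2 : n⁻¹ • fs dodecad0 = fs dodecad0 := by rw [inv_smul_eq_iff, h1]
    rw [h2, hgD, h1]
  · have h2 : n⁻¹ • fs dodecad0 = (fs dodecad0)ᶜ := by
      rw [inv_smul_eq_iff, smul_compl', h1, compl_compl]
    rw [h2, smul_compl', hgD, smul_compl', h1, compl_compl]

/-- conjugation by a normalizing element -/
def conjG (n : Ghat) : G ≃* G where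
  toFun g := ⟨n.1 * g.1 * n.1⁻¹, conj_mem n.2 g.2⟩
  invFun g := ⟨n.1⁻¹ * g.1 * n.1, by
    have := conj_mem (Ghat.inv_mem n.2) g.2
    rwa [inv_inv] at this⟩
  left_inv g := Subtype.ext (by
    show n.1⁻¹ * (n.1 * g.1 * n.1⁻¹) * n.1 = g.1
    group)
  right_inv g := Subtype.ext (by
    show n.1 * (n.1⁻¹ * g.1 * n.1) * n.1⁻¹ = g.1
    group)
  map_mul' g g' := Subtype.ext (by
    show n.1 * (g.1 * g'.1) * n.1⁻¹ = (n.1 * g.1 * n.1⁻¹) * (n.1 * g'.1 * n.1⁻¹)
    group)

theorem conjG_apply (n : Ghat) (g : G) : (conjG n g).1 = n.1 * g.1 * n.1⁻¹ := rfl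

theorem conjG_mul (n m : Ghat) : conjG (n * m) = conjG n * conjG m := by
  ext g : 1
  apply Subtype.ext
  show (n.1 * m.1) * g.1 * (n.1 * m.1)⁻¹ = n.1 * (m.1 * g.1 * m.1⁻¹) * n.1⁻¹
  group

theorem conjG_of_mem (n : Ghat) (hn : n.1 ∈ G) : conjG n = MulAut.conj (⟨n.1, hn⟩ : G) := by
  ext g : 1
  apply Subtype.ext
  rfl

noncomputable def yG : G := ⟨y, y_mem⟩
noncomputable def zG : G := ⟨z, z_mem⟩
noncomputable def uG : G := ⟨u, u_mem⟩

theorem yG_order : orderOf yG = 11 := by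
  rw [← Subgroup.orderOf_coe]; exact y_order

theorem norm_table : ∀ k ∈ [1, 2, 3, 4, 5, 6, 7, 8, 9, 10], ∃ a < 5, ∃ b < 2,
    lmul (lmul (lpow hL b) (lpow zL a)) yL = lmul (lpow yL k) (lmul (lpow hL b) (lpow zL a)) := by
  decide +kernel

theorem conj_table : ∀ i < 11, ∃ j < 11, lmul (lpow yL j) zL = lmul zL (lpow yL (i + j)) := by
  decide +kernel

/-- an automorphism fixing `y`, `z` and `u` is trivial -/
theorem eq_one_of_fix (γ : G ≃* G) (hy : γ yG = yG) (hz : γ zG = zG) (hu : γ uG = uG) (g : G) :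
    γ g = g := by
  have hg : g.1 ∈ K := by rw [K_eq]; exact g.2
  have key : ∀ x (hx : x ∈ K), ∀ hxG : x ∈ G, γ ⟨x, hxG⟩ = ⟨x, hxG⟩ := by
    intro x hx
    induction hx using Subgroup.closure_induction with
    | mem x hx =>
      intro hxG
      simp only [Set.mem_insert_iff, Set.mem_singleton_iff] at hx
      rcases hx with rfl | rfl | rfl
      · exact hy
      · exact hz
      · exact hu
    | one => intro _; exact map_one γ
    | mul a b ha hb iha ihb =>
      intro hxG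
      have haG := K_le ha
      have hbG := K_le hb
      have : (⟨a * b, hxG⟩ : G) = ⟨a, haG⟩ * ⟨b, hbG⟩ := rfl
      rw [this, map_mul, iha haG, ihb hbG]
    | inv a ha iha =>
      intro hxG
      have haG := K_le ha
      have : (⟨a⁻¹, hxG⟩ : G) = (⟨a, haG⟩ : G)⁻¹ := rfl
      rw [this, map_inv, iha haG]
  exact key g.1 hg g.2

/-- every automorphism is induced by a normalizing element -/
theorem exists_conjG (α : G ≃* G) : ∃ n : Ghat, α = conjG n := by
  have : Fact (Nat.Prime 11) := ⟨by norm_num⟩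
  have hp2 : ¬ 11 ^ 2 ∣ Nat.card G := by rw [G_card]; norm_num
  have hαy : orderOf (α yG) = 11 := by rw [MulEquiv.orderOf_eq]; exact yG_order
  obtain ⟨g, k, hk⟩ := SylowFix.exists_conj_pow hp2 yG_order hαy
  -- reduce the exponent
  have hk' : α yG = g * yG ^ (k % 11) * g⁻¹ := by
    rw [hk]
    congr 2
    rw [← yG_order, pow_mod_orderOf]
  have hk0 : k % 11 ≠ 0 := by
    intro h0
    rw [h0, pow_zero, mul_one, mul_inv_cancel] at hk'
    have : yG = 1 := α.injective (by rw [hk', map_one])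
    have ho := yG_order
    rw [this, orderOf_one] at ho
    exact absurd ho (by norm_num)
  have hkmem : k % 11 ∈ [1, 2, 3, 4, 5, 6, 7, 8, 9, 10] := by
    have : k % 11 < 11 := Nat.mod_lt _ (by norm_num)
    generalize k % 11 = r at *
    interval_cases r <;> simp at hk0 ⊢
  obtain ⟨a, _, b, _, hab⟩ := norm_table _ hkmem
  set n : Equiv.Perm GolayPt := h ^ b * z ^ a with hn
  have hnL : IsL n (lmul (lpow hL b) (lpow zL a)) := (h_isL.pow b).mul (z_isL.pow a)
  have hny : n * y = y ^ (k % 11) * n :=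
    (hnL.mul y_isL).ext' ((y_isL.pow _).mul hnL) hab
  have hnG : n ∈ Ghat :=
    Ghat.mul_mem (Ghat.pow_mem h_mem_Ghat b) (Ghat.pow_mem (G_le_Ghat z_mem) a)
  -- the first correction
  set m : Equiv.Perm GolayPt := g.1 * n with hm
  have hmG : m ∈ Ghat := Ghat.mul_mem (G_le_Ghat g.2) hnG
  have hαy' : (α yG).1 = m * y * m⁻¹ := by
    have h1 : (α yG).1 = g.1 * y ^ (k % 11) * g.1⁻¹ := by
      rw [hk']; rfl
    have h2 : y ^ (k % 11) = n * y * n⁻¹ := by rw [hny]; group
    rw [h1, h2, hm]; group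
  -- the image of `z`
  set z' : Equiv.Perm GolayPt := m⁻¹ * (α zG).1 * m with hz'
  have hz'G : z' ∈ G := by
    have := conj_mem (Ghat.inv_mem hmG) (α zG).2
    rwa [inv_inv] at this
  have hαzy : (α zG).1 * (α yG).1 = (α yG).1 ^ 9 * (α zG).1 := by
    have h1 : zG * yG = yG ^ 9 * zG := Subtype.ext zy
    have h2 := congrArg (fun t : G => (α t).1) h1
    simp only [map_mul, map_pow] at h2
    exact h2
  have hz'y : z' * y = y ^ 9 * z' := by
    have e1 : y = m⁻¹ * (α yG).1 * m := by rw [hαy']; group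
    have e2 : y ^ 9 = m⁻¹ * (α yG).1 ^ 9 * m := by
      rw [hαy', conj_pow]; group
    rw [e2, hz']
    calc m⁻¹ * (α zG).1 * m * y = m⁻¹ * (α zG).1 * m * (m⁻¹ * (α yG).1 * m) := by rw [← e1]
      _ = m⁻¹ * ((α zG).1 * (α yG).1) * m := by group
      _ = m⁻¹ * ((α yG).1 ^ 9 * (α zG).1) * m := by rw [hαzy]
      _ = m⁻¹ * (α yG).1 ^ 9 * m * (m⁻¹ * (α zG).1 * m) := by group
  have hcy : (z⁻¹ * z') * y = y * (z⁻¹ * z') := by
    have e1 : z⁻¹ * y ^ 9 = y * z⁻¹ := by
      rw [inv_mul_eq_iff_eq_mul, ← mul_assoc, zy, mul_assoc, mul_inv_cancel, mul_one]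
    rw [mul_assoc, hz'y, ← mul_assoc, e1, mul_assoc]
  obtain ⟨i, hi, hci⟩ := cent_y (G.mul_mem (G.inv_mem z_mem) hz'G) hcy
  have hz'i : z' = z * y ^ i := by rw [← hci]; group
  obtain ⟨j, _, hj⟩ := conj_table i hi
  have hyz : y ^ j * z = z * y ^ (i + j) :=
    ((y_isL.pow j).mul z_isL).ext' (z_isL.mul (y_isL.pow (i + j))) hj
  -- the normalizing element
  set N : Equiv.Perm GolayPt := m * y ^ j with hN
  have hNG : N ∈ Ghat := Ghat.mul_mem hmG (Ghat.pow_mem (G_le_Ghat y_mem) j)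
  have hNy : (α yG).1 = N * y * N⁻¹ := by
    rw [hαy', hN]
    have : y ^ j * y * (y ^ j)⁻¹ = y := by
      rw [← pow_succ, pow_succ', mul_assoc, mul_inv_cancel, mul_one]
    calc m * y * m⁻¹ = m * (y ^ j * y * (y ^ j)⁻¹) * m⁻¹ := by rw [this]
      _ = m * y ^ j * y * (m * y ^ j)⁻¹ := by group
  have hNz : (α zG).1 = N * z * N⁻¹ := by
    have e1 : (α zG).1 = m * z' * m⁻¹ := by rw [hz']; group
    have e2 : z' = y ^ j * z * (y ^ j)⁻¹ := by
      rw [hyz, hz'i, pow_add]; group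
    rw [e1, e2, hN]; group
  refine ⟨⟨N, hNG⟩, ?_⟩
  -- the corrected automorphism fixes the generators
  set γ : G ≃* G := α.trans (conjG ⟨N, hNG⟩).symm with hγ
  have hγy : γ yG = yG := by
    rw [hγ, MulEquiv.trans_apply, MulEquiv.symm_apply_eq]
    exact Subtype.ext hNy
  have hγz : γ zG = zG := by
    rw [hγ, MulEquiv.trans_apply, MulEquiv.symm_apply_eq]
    exact Subtype.ext hNz
  have hγu : γ uG = uG := by
    apply Subtype.ext
    apply invol_cent_z (γ uG).2
    · have h1 : uG * zG = zG * uG := Subtype.ext uz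
      have h2 := congrArg (fun t : G => (γ t).1) h1
      simp only [map_mul, hγz] at h2
      exact h2
    · have h1 : uG * uG = 1 := Subtype.ext u_sq
      have h2 := congrArg (fun t : G => (γ t).1) h1
      simp only [map_mul, map_one] at h2
      exact h2
    · intro h1
      have h2 : γ uG = 1 := Subtype.ext h1
      have h3 : uG = 1 := γ.injective (by rw [h2, map_one])
      exact u_ne_one (congrArg Subtype.val h3)
  ext g : 1
  have := eq_one_of_fix γ hγy hγz hγu g
  rw [hγ, MulEquiv.trans_apply, MulEquiv.symm_apply_eq] at this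
  exact this

end Cfsg.Agent.Lib.Helper6.Golay.M12Out
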