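import Cfsg.Agent.Lib.Helper6.GolaySimple12
import Cfsg.Agent.Lib.Helper6.GolayM12c

/-!
# Data for the automorphisms of the stabilizer of the reference dodecad

An element `y` of order 11, an element `z` of order 5 normalizing it, the involution `u` commuting
with `z`, an involution `h` exchanging the dodecad with its complement and inverting `y`, and a
strong generating set for the group generated by `y`, `z`, `u`.
-/

set_option autoImplicit false
set_option maxRecDepth 1000000

namespace Cfsg.Agent.Lib.Helper6.Golay.M12Out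

open Cfsg Cfsg.Agent.Lib.Helper6.Golay

def yL : List ℕ := [4, 17, 9, 14, 6, 16, 2, 13, 8, 10, 7, 0, 20, 3, 11, 1, 21, 12, 19, 5, 18, 23, 22, 15]

def zL : List ℕ := [4, 18, 7, 13, 11, 20, 3, 0, 8, 9, 6, 2, 1, 14, 10, 5, 17, 12, 16, 19, 23, 15, 22, 21]

def uL : List ℕ := [14, 23, 3, 2, 10, 17, 11, 13, 9, 8, 4, 6, 20, 7, 0, 16, 15, 5, 21, 22, 12, 18, 19, 1]

def hL : List ℕ := [1, 0, 21, 20, 15, 10, 23, 19, 22, 16, 5, 17, 14, 18, 12, 4, 9, 11, 13, 7, 3, 2, 8, 6]

def progK : List (ℕ × ℕ) := [(0, 0), (0, 1), (0, 2), (1, 0), (1, 1), (2, 0), (6, 0), (9, 2), (2, 2), (11, 1), (12, 2), (13, 2), (14, 2), (15, 2), (16, 0), (17, 1), (18, 0), (19, 2), (20, 0), (21, 0), (8, 22), (23, 23), (24, 23), (25, 23), (26, 23), (27, 23), (28, 23), (4, 0), (30, 1), (31, 2), (32, 0), (33, 2), (34, 0), (35, 0), (36, 2), (37, 0), (38, 1), (39, 1), (40, 0), (5, 41), (29, 42), (2, 43), (23, 43), (45, 43), (43, 43), (10, 2), (48, 1), (49, 0), (50, 0), (51, 0), (52, 0), (53, 0), (44, 54), (24,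 55), (23, 56), (46, 56), (3, 1), (59, 1), (60, 0), (61, 2), (62, 2), (63, 2), (64, 0), (65, 0), (66, 2), (8, 67), (57, 68), (43, 69), (56, 70), (31, 1), (72, 0), (73, 0), (74, 1), (75, 0), (76, 1), (77, 1), (78, 2), (79, 2), (80, 0), (81, 2), (5, 82), (58, 83), (24, 84), (85, 70), (2, 1), (87, 0), (88, 1), (89, 1), (90, 1), (91, 1), (92, 2), (93, 1), (94, 0), (95, 1), (96, 1), (97, 2), (98, 0), (99, 0), (100, 1), (101, 0), (102, 2), (103, 1), (104, 1), (2, 105), (86, 106), (47, 107), (7, 1), (109, 0), (110, 2), (111, 2), (112, 1), (113, 1), (114, 0), (115, 1), (116, 0), (117, 0), (118, 1), (119, 2), (120, 2), (121, 1), (122, 0), (1, 123), (23, 124), (71, 125), (70, 126), (8, 0), (128, 0), (129, 2), (130, 0), (131, 2)]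

def treesK : List (List (ℕ × ℕ)) := [[(0, 0), (0, 2), (4, 0), (4, 1), (4, 2), (4, 56), (4, 70), (14, 56), (14, 70), (6, 0), (6, 56)],
  [(2, 23), (13, 23), (13, 43), (13, 56), (13, 108), (11, 23), (11, 43), (11, 56), (11, 84), (7, 23)],
  [(3, 43), (3, 56), (8, 43), (8, 56), (8, 70), (8, 108), (9, 108), (9, 127), (14, 84)],
  [(4, 70), (4, 84), (9, 70), (9, 84), (9, 127), (13, 108), (13, 127), (14, 70)],
  [(6, 108), (6, 127), (9, 108), (9, 127), (14, 108), (13, 108), (13, 127)]]

def orbsK : List (List ℕ) := [[0, 2, 3, 4, 6, 7, 8, 9, 10, 11, 13, 14],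
  [2, 3, 4, 6, 7, 8, 9, 10, 11, 13, 14],
  [3, 4, 6, 7, 8, 9, 10, 11, 13, 14],
  [4, 6, 7, 8, 9, 10, 11, 13, 14],
  [6, 7, 8, 9, 10, 11, 13, 14]]

def wIdx : ℕ := 132

/-- the words in `y`, `z`, `u` -/
def EK : List (List ℕ) := slpRun [yL, zL, uL] progK

/-- the element fixing the point 8 and moving the point 22 -/
def wL : List ℕ := EK.getD wIdx idl

/-- the validity test for a list permutation of the group of the code -/
def chkL (l : List ℕ) : Bool := wf l && decide l.Nodup && checkFun (lfun l)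

theorem yL_chk : chkL yL = true := by decide +kernel
theorem zL_chk : chkL zL = true := by decide +kernel
theorem uL_chk : chkL uL = true := by decide +kernel
theorem hL_chk : chkL hL = true := by decide +kernel

theorem stab_chk : lmask yL dodecad0 = dodecad0 ∧ lmask zL dodecad0 = dodecad0 ∧
    lmask uL dodecad0 = dodecad0 ∧ lmask hL dodecad0 = dodecad0 ^^^ (2 ^ 24 - 1) := by
  decide +kernel

set_option maxHeartbeats 4000000 in
theorem chainK_ok : chainCheck EK base12 treesK orbsK = true := by decide +kernel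

theorem orbsK_eq : orbsK = orbs12 := by decide +kernel

end Cfsg.Agent.Lib.Helper6.Golay.M12Out
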