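import Cfsg.Agent.Lib.Helper6.M21Plane

/-!
# The action of the unimodular 3 × 3 matrices over `F4c` on the 24 points
-/

set_option autoImplicit false
set_option maxRecDepth 1000000

namespace Cfsg.Agent.Lib.Helper6.M21

open Cfsg Cfsg.Agent.Lib.Helper6.Golay Cfsg.Agent.Lib.Helper6.Golay.M12Out Matrix

abbrev Mat3 : Type := M3

theorem mv_eq (A : Mat3) (x : V3) : mv A x = A *ᵥ x := by
  funext r
  simp [mv, Matrix.mulVec, dotProduct, Fin.sum_univ_three]

theorem nrm_smul {k : F4c} (hk : k ≠ 0) (x : V3) : nrm (k • x) = nrm x :=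
  nrm3_smul k (x 0) (x 1) (x 2) hk

theorem ne_zero_iff (x : V3) : x ≠ 0 ↔ ¬ (x 0 = 0 ∧ x 1 = 0 ∧ x 2 = 0) := by
  constructor
  · rintro h ⟨h0, h1, h2⟩
    apply h
    funext r
    fin_cases r
    · exact h0
    · exact h1
    · exact h2
  · rintro h rfl
    exact h ⟨rfl, rfl, rfl⟩

theorem nrm_lt {x : V3} (hx : x ≠ 0) : nrm x < 21 :=
  nrm3_lt _ _ _ ((ne_zero_iff x).1 hx)

theorem vec_nrm {x : V3} (hx : x ≠ 0) :
    ∃ k : F4c, k ≠ 0 ∧ vec (nrm x) = k • x := by
  have h := (ne_zero_iff x).1 hx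
  refine ⟨scale3 (x 0) (x 1) (x 2), scale3_ne _ _ _ h, ?_⟩
  obtain ⟨h0, h1, h2⟩ := vec_nrm3 _ _ _ h
  funext r
  fin_cases r
  · exact h0
  · exact h1
  · exact h2

theorem vec_ne_zero {n : ℕ} (hn : n < 21) : vec n ≠ 0 :=
  (ne_zero_iff _).2 (nrm_vec n hn).2

/-- injectivity of the multiplication by an invertible matrix -/
theorem mulVec_ne_zero {B : Mat3} (hB : IsUnit B.det) {x : V3} (hx : x ≠ 0) : B *ᵥ x ≠ 0 := by
  intro h
  apply hx
  have : B⁻¹ *ᵥ (B *ᵥ x) = x := by
    rw [Matrix.mulVec_mulVec, Matrix.nonsing_inv_mul _ hB, Matrix.one_mulVec]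
  rw [← this, h, Matrix.mulVec_zero]

theorem gi_mul (A B : Mat3) (hB : IsUnit B.det) {i : ℕ} (hi : i < 24) :
    gi (A * B) i = gi A (gi B i) := by
  by_cases hj : unlabL.getD i 21 < 21
  · have hx := vec_ne_zero hj
    have hBx : mv B (vec (unlabL.getD i 21)) ≠ 0 := by
      rw [mv_eq]; exact mulVec_ne_zero hB hx
    have hn1 := nrm_lt hBx
    obtain ⟨k, hk, hvk⟩ := vec_nrm hBx
    have h1 : gi B i = labL.getD (nrm (mv B (vec (unlabL.getD i 21)))) 0 := gi_pos B hj
    have h2 := (unlab_lab _ hn1).1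
    have h3 : unlabL.getD (gi B i) 21 < 21 := by rw [h1, h2]; exact hn1
    have e1 : mv A (k • mv B (vec (unlabL.getD i 21))) =
        k • mv (A * B) (vec (unlabL.getD i 21)) := by
      rw [mv_eq, mv_eq, mv_eq, Matrix.mulVec_smul, Matrix.mulVec_mulVec]
    rw [gi_pos A h3, gi_pos (A * B) hj, h1, h2, hvk, e1, nrm_smul hk]
  · have h1 : gi B i = i := gi_neg B hj
    rw [gi_neg (A * B) hj, h1, gi_neg A hj]

theorem gi_one {i : ℕ} (hi : i < 24) : gi (1 : Mat3) i = i := by
  by_cases hj : unlabL.getD i 21 < 21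
  · rw [gi_pos _ hj, mv_eq, Matrix.one_mulVec, (nrm_vec _ hj).1, lab_unlab i hi hj]
  · rw [gi_neg _ hj]

theorem gi_lt (A : Mat3) {i : ℕ} (hi : i < 24) (hA : IsUnit A.det) : gi A i < 24 := by
  by_cases hj : unlabL.getD i 21 < 21
  · rw [gi_pos _ hj]
    have hx := vec_ne_zero hj
    have hAx : mv A (vec (unlabL.getD i 21)) ≠ 0 := by
      rw [mv_eq]; exact mulVec_ne_zero hA hx
    exact (unlab_lab _ (nrm_lt hAx)).2
  · rw [gi_neg _ hj]; exact hi

theorem fA_mul (A B : Mat3) (hB : IsUnit B.det) (p : GolayPt) :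
    fA (A * B) p = fA A (fA B p) := by
  rw [fA_def, fA_def, fA_def, gi_mul A B hB (idx_lt p), idx_pt _ (gi_lt B (idx_lt p) hB)]

theorem fA_one (p : GolayPt) : fA (1 : Mat3) p = p := by
  rw [fA_def, gi_one (idx_lt p), pt_idx]

/-- the permutation of a unimodular matrix -/
def toPerm (A : Matrix.SpecialLinearGroup (Fin 3) F4c) : Equiv.Perm GolayPt where
  toFun := fA A.1
  invFun := fA (A⁻¹).1
  left_inv p := by
    have h : ((A⁻¹).1 * A.1 : Mat3) = 1 := by
      rw [← Matrix.SpecialLinearGroup.coe_mul, inv_mul_cancel, Matrix.SpecialLinearGroup.coe_one]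
    rw [← fA_mul _ _ (by rw [A.2]; exact isUnit_one), h, fA_one]
  right_inv p := by
    have h : (A.1 * (A⁻¹).1 : Mat3) = 1 := by
      rw [← Matrix.SpecialLinearGroup.coe_mul, mul_inv_cancel, Matrix.SpecialLinearGroup.coe_one]
    rw [← fA_mul _ _ (by rw [(A⁻¹).2]; exact isUnit_one), h, fA_one]

/-- the action as a homomorphism -/
def toPermHom : Matrix.SpecialLinearGroup (Fin 3) F4c →* Equiv.Perm GolayPt where
  toFun := toPerm
  map_one' := by
    refine Equiv.ext fun p => ?_
    show fA (1 : Matrix.SpecialLinearGroup (Fin 3) F4c).1 p = p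
    rw [Matrix.SpecialLinearGroup.coe_one, fA_one]
  map_mul' A B := by
    refine Equiv.ext fun p => ?_
    show fA (A * B).1 p = fA A.1 (fA B.1 p)
    rw [Matrix.SpecialLinearGroup.coe_mul, fA_mul _ _ (by rw [B.2]; exact isUnit_one)]

theorem toPermHom_apply (A : Matrix.SpecialLinearGroup (Fin 3) F4c) (p : GolayPt) :
    toPermHom A p = fA A.1 p := rfl

/-! ### membership in the group of the code -/

/-- a raw matrix acts by an element of the group of the code -/
def Good (X : Mat3) : Prop := ∃ σ : Equiv.Perm GolayPt, σ ∈ M24 ∧ ⇑σ = fA X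

theorem good_of_chk {X : Mat3} (h : chkL (permList X) = true) : Good X := by
  obtain ⟨g, hg, hwf, hfun⟩ := exists_of_chk h
  refine ⟨g, hg, ?_⟩
  rw [hfun]
  funext p
  have hp := idx_lt p
  rw [lfun, fA_def, permList, List.getD_eq_getElem _ _ (by simpa using hp), List.getElem_map,
    List.getElem_range]

theorem Good.mul {X Y : Mat3} (hX : Good X) (hY : Good Y) (hYd : IsUnit Y.det) : Good (X * Y) := by
  obtain ⟨σ, hσ, hσf⟩ := hX
  obtain ⟨τ, hτ, hτf⟩ := hY
  refine ⟨σ * τ, M24.mul_mem hσ hτ, ?_⟩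
  funext p
  rw [fA_mul X Y hYd, Equiv.Perm.coe_mul, Function.comp_apply, hσf, hτf]

theorem good_one : Good (1 : Mat3) := ⟨1, M24.one_mem, by funext p; rw [fA_one]; rfl⟩

theorem transvection_eq (i j : Fin 3) (c : F4c) : Matrix.transvection i j c = tv i j c := by
  ext r s
  simp only [Matrix.transvection, Matrix.add_apply, Matrix.one_apply, Matrix.single_apply, tv,
    Matrix.of_apply]
  congr 1
  by_cases h : r = i ∧ s = j
  · rw [if_pos h, if_pos ⟨h.1.symm, h.2.symm⟩]
  · rw [if_neg h, if_neg (fun h' => h ⟨h'.1.symm, h'.2.symm⟩)]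

theorem diagonal_eq (D : Fin 3 → F4c) : Matrix.diagonal D = dg (D 0) (D 1) (D 2) := by
  ext r s
  simp only [Matrix.diagonal_apply, dg, Matrix.of_apply]
  by_cases h : r = s
  · rw [if_pos h, if_pos h]
    fin_cases r <;> rfl
  · rw [if_neg h, if_neg h]

theorem good_transvection (t : TransvectionStruct (Fin 3) F4c) : Good t.toMatrix := by
  rw [TransvectionStruct.toMatrix, transvection_eq]
  exact good_of_chk (tv_chk t.i t.j t.c t.hij)

theorem good_list (L : List (TransvectionStruct (Fin 3) F4c)) :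
    Good (L.map TransvectionStruct.toMatrix).prod := by
  induction L with
  | nil => exact good_one
  | cons t L ih =>
    rw [List.map_cons, List.prod_cons]
    exact (good_transvection t).mul ih
      (by rw [TransvectionStruct.det_toMatrix_prod]; exact isUnit_one)

theorem good_diagonal (D : Fin 3 → F4c) (hD : D 0 * D 1 * D 2 = 1) : Good (Matrix.diagonal D) := by
  have h0 : D 0 ≠ 0 := by
    intro h; rw [h, zero_mul, zero_mul] at hD; exact zero_ne_one hD
  have h1 : D 1 ≠ 0 := by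
    intro h; rw [h, mul_zero, zero_mul] at hD; exact zero_ne_one hD
  have h2 : D 2 = (D 0 * D 1)⁻¹ := eq_inv_of_mul_eq_one_right hD
  rw [diagonal_eq, h2]
  exact good_of_chk (dg_chk _ _ h0 h1)

theorem good_of_det_one (M : Mat3) (hM : M.det = 1) : Good M := by
  obtain ⟨L, L', D, h⟩ := Matrix.Pivot.exists_list_transvec_mul_diagonal_mul_list_transvec M
  have hdet : D 0 * D 1 * D 2 = 1 := by
    have := congrArg Matrix.det h
    rw [Matrix.det_mul, Matrix.det_mul, TransvectionStruct.det_toMatrix_prod,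
      TransvectionStruct.det_toMatrix_prod, Matrix.det_diagonal, hM, one_mul, mul_one,
      Fin.prod_univ_three] at this
    exact this.symm
  rw [h]
  refine ((good_list L).mul (good_diagonal D hdet) ?_).mul (good_list L') ?_
  · rw [Matrix.det_diagonal, Fin.prod_univ_three, hdet]; exact isUnit_one
  · rw [TransvectionStruct.det_toMatrix_prod]; exact isUnit_one

theorem toPermHom_mem (A : Matrix.SpecialLinearGroup (Fin 3) F4c) : toPermHom A ∈ M24 := by
  obtain ⟨σ, hσ, hσf⟩ := good_of_det_one A.1 A.2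
  have : toPermHom A = σ := by
    refine Equiv.ext fun p => ?_
    rw [toPermHom_apply, hσf]
  rw [this]
  exact hσ

/-- the three base points are fixed -/
theorem toPermHom_fix (A : Matrix.SpecialLinearGroup (Fin 3) F4c) {i : ℕ} (hi : i < 24)
    (hj : ¬ unlabL.getD i 21 < 21) : toPermHom A (pt i) = pt i := by
  rw [toPermHom_apply, fA_def, idx_pt i hi, gi_neg _ hj]

/-- the scalar matrices act trivially -/
theorem toPermHom_center (A : Matrix.SpecialLinearGroup (Fin 3) F4c)
    (hA : A ∈ Subgroup.center (Matrix.SpecialLinearGroup (Fin 3) F4c)) : toPermHom A = 1 := by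
  obtain ⟨r, hr, hrA⟩ := Matrix.SpecialLinearGroup.mem_center_iff.1 hA
  have hr0 : r ≠ 0 := by
    rintro rfl
    rw [Fintype.card_fin, zero_pow (by norm_num)] at hr
    exact zero_ne_one hr
  refine Equiv.ext fun p => ?_
  rw [toPermHom_apply, ← hrA, Equiv.Perm.coe_one, id_eq]
  have : (Matrix.scalar (Fin 3)) r = dg r r r := by
    rw [Matrix.scalar_apply, diagonal_eq]
  rw [this, fA_def, gi_scalar r hr0 _ (idx_lt p), pt_idx]

/-- a transvection -/
def tA : Matrix.SpecialLinearGroup (Fin 3) F4c :=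
  ⟨Matrix.transvection 0 1 1, Matrix.det_transvection_of_ne 0 1 (by decide) 1⟩

/-- the action is not trivial -/
theorem toPermHom_ne_one : ∃ A : Matrix.SpecialLinearGroup (Fin 3) F4c, toPermHom A ≠ 1 := by
  refine ⟨tA, ?_⟩
  intro h
  have h1 : idx (toPermHom tA (pt 4)) = idx (pt 4) := by rw [h]; rfl
  have h0 : (tA.1 : Mat3) = Matrix.transvection 0 1 1 := rfl
  rw [toPermHom_apply, fA_def, idx_pt 4 (by norm_num), h0, transvection_eq] at h1
  have h2 : gi (tv 0 1 1) 4 < 24 := by decide +kernel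
  rw [idx_pt _ h2] at h1
  exact gi_tv_ne h1

end Cfsg.Agent.Lib.Helper6.M21
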