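import Cfsg.Agent.Lib.Helper6.M21Hom
import Cfsg.Agent.S0249
import Cfsg.Agent.S0243

/-!
# The three-point stabiliser of the group of the code is `PSL(3, 4)`
-/

set_option autoImplicit false
set_option maxRecDepth 1000000

namespace Cfsg.Agent.Lib.Helper6.M21

open Cfsg Cfsg.Agent.Lib.Helper6.Golay Cfsg.Agent.Lib.Helper6.Golay.M12Out Matrix
open Cfsg.Agent.Lib.Helper6.PermChain

/-- the stabiliser of three points in the group of the code -/
abbrev stab3 (p q r : GolayPt) : Subgroup ↥M24 :=
  MulAction.stabilizer M24 p ⊓ MulAction.stabilizer M24 q ⊓ MulAction.stabilizer M24 r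

theorem mem_stab3 {p q r : GolayPt} {g : ↥M24} :
    g ∈ stab3 p q r ↔ g.1 p = p ∧ g.1 q = q ∧ g.1 r = r := by
  rw [stab3, Subgroup.mem_inf, Subgroup.mem_inf, MulAction.mem_stabilizer_iff,
    MulAction.mem_stabilizer_iff, MulAction.mem_stabilizer_iff, and_assoc]
  rfl

/-- the base triple -/
abbrev S0 : Subgroup ↥M24 := stab3 (pt 23) (pt 0) (pt 1)

/-- the homomorphism into the stabiliser of the base triple -/
def hom0 : Matrix.SpecialLinearGroup (Fin 3) F4c →* ↥S0 :=
  (toPermHom.codRestrict M24 toPermHom_mem).codRestrict S0 (by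
    intro A
    rw [mem_stab3]
    exact ⟨toPermHom_fix A (by norm_num) (by decide), toPermHom_fix A (by norm_num) (by decide),
      toPermHom_fix A (by norm_num) (by decide)⟩)

theorem hom0_apply (A : Matrix.SpecialLinearGroup (Fin 3) F4c) :
    ((hom0 A : ↥S0) : ↥M24).1 = toPermHom A := rfl

theorem hom0_eq_one_iff (A : Matrix.SpecialLinearGroup (Fin 3) F4c) :
    hom0 A = 1 ↔ toPermHom A = 1 := by
  constructor
  · intro h
    rw [← hom0_apply, h]
    rfl
  · intro h
    apply Subtype.ext
    apply Subtype.ext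
    rw [hom0_apply, h]
    rfl

/-- the order of the stabiliser of the base triple -/
theorem card_S0 : Nat.card ↥S0 = 20160 := by
  rw [← (card_fixL_chain hasGens_M24 le_rfl).2.2.1]
  apply Nat.card_congr
  have hL : Lk 3 = [pt 23, pt 0, pt 1] := rfl
  refine ⟨fun g => ⟨g.1.1, ?_⟩, fun g => ⟨⟨g.1, (mem_fixL.1 g.2).1⟩, ?_⟩, fun g => rfl, fun g => rfl⟩
  · rw [mem_fixL, hL]
    have := mem_stab3.1 g.2
    refine ⟨g.1.2, ?_⟩
    intro x hx
    simp only [List.mem_cons, List.not_mem_nil, or_false] at hx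
    rcases hx with rfl | rfl | rfl
    · exact this.1
    · exact this.2.1
    · exact this.2.2
  · rw [mem_stab3]
    have this : ∀ x ∈ [pt 23, pt 0, pt 1], g.1 x = x := (mem_fixL.1 g.2).2
    exact ⟨this _ (by simp), this _ (by simp), this _ (by simp)⟩

/-- transport of the stabiliser of a triple -/
theorem exists_equiv_S0 (p q r : GolayPt) (hpq : p ≠ q) (hpr : p ≠ r) (hqr : q ≠ r) :
    Nonempty (↥S0 ≃* ↥(stab3 p q r)) := by
  have hb01 : pt 23 ≠ pt 0 := by decide
  have hb02 : pt 23 ≠ pt 1 := by decide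
  have hb12 : pt 0 ≠ pt 1 := by decide
  let x : Fin 3 ↪ GolayPt := ⟨![pt 23, pt 0, pt 1], by
    intro i j h; fin_cases i <;> fin_cases j <;> simp_all⟩
  let y : Fin 3 ↪ GolayPt := ⟨![p, q, r], by
    intro i j h; fin_cases i <;> fin_cases j <;> simp_all⟩
  obtain ⟨g, hg, hgxy⟩ := exists_M24_map (by norm_num) x y
  have h0 : g (pt 23) = p := hgxy 0
  have h1 : g (pt 0) = q := hgxy 1
  have h2 : g (pt 1) = r := hgxy 2
  let g' : ↥M24 := ⟨g, hg⟩
  have hmap : S0.map (MulAut.conj g').toMonoidHom = stab3 p q r := by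
    have hinj : Function.Injective (MulAut.conj g').toMonoidHom := (MulAut.conj g').injective
    rw [S0, stab3, Subgroup.map_inf _ _ _ hinj, Subgroup.map_inf _ _ _ hinj,
      ← MulAction.stabilizer_smul_eq_stabilizer_map_conj,
      ← MulAction.stabilizer_smul_eq_stabilizer_map_conj,
      ← MulAction.stabilizer_smul_eq_stabilizer_map_conj]
    have e0 : g' • pt 23 = p := h0
    have e1 : g' • pt 0 = q := h1
    have e2 : g' • pt 1 = r := h2
    rw [e0, e1, e2]
  exact ⟨((MulAut.conj g').subgroupMap S0).trans (MulEquiv.subgroupCongr hmap)⟩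

section abstract

variable (F : Type) [Field F] [Fintype F] (hF : Fintype.card F = 4)

include hF

/-- the order of `PSL(3, 4)` -/
theorem card_psl : Nat.card (Matrix.ProjectiveSpecialLinearGroup (Fin 3) F) = 20160 := by
  have h := Cfsg.Agent.S0243.result hF 3 (by norm_num)
  rw [Fin.prod_univ_three] at h
  norm_num at h
  omega

theorem exists_ringEquiv : Nonempty (F ≃+* F4c) :=
  ⟨FiniteField.ringEquivOfCardEq (hF.trans F4c.card.symm)⟩

end abstract

/-- the scalar matrices act trivially (general form) -/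
theorem toPermHom_scalar (A : Matrix.SpecialLinearGroup (Fin 3) F4c) (r : F4c) (hr : r ≠ 0)
    (h : Matrix.scalar (Fin 3) r = A.1) : toPermHom A = 1 := by
  refine Equiv.ext fun p => ?_
  rw [toPermHom_apply, ← h, Equiv.Perm.coe_one, id_eq]
  have : (Matrix.scalar (Fin 3)) r = dg r r r := by
    rw [Matrix.scalar_apply, diagonal_eq]
  rw [this, fA_def, gi_scalar r hr _ (idx_lt p), pt_idx]

/-- **the stabiliser of the base triple is `PSL(3, F)`** -/
theorem exists_equiv_psl (F : Type) [Field F] [Fintype F] (hF : Fintype.card F = 4) :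
    Nonempty (Matrix.ProjectiveSpecialLinearGroup (Fin 3) F ≃* ↥S0) := by
  obtain ⟨σ⟩ := exists_ringEquiv F hF
  let Ψ : Matrix.SpecialLinearGroup (Fin 3) F →* ↥S0 :=
    hom0.comp (Matrix.SpecialLinearGroup.map (σ : F →+* F4c))
  have hcen : Subgroup.center (Matrix.SpecialLinearGroup (Fin 3) F) ≤ Ψ.ker := by
    intro A hA
    rw [MonoidHom.mem_ker]
    show hom0 (Matrix.SpecialLinearGroup.map (σ : F →+* F4c) A) = 1
    rw [hom0_eq_one_iff]
    obtain ⟨r, hr, hrA⟩ := Matrix.SpecialLinearGroup.mem_center_iff.1 hA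
    have hr0 : r ≠ 0 := by
      rintro rfl
      rw [Fintype.card_fin, zero_pow (by norm_num)] at hr
      exact zero_ne_one hr
    apply toPermHom_scalar _ (σ r) (by simpa using hr0)
    rw [Matrix.SpecialLinearGroup.map_apply_coe, ← hrA]
    ext i j
    simp only [Matrix.scalar_apply, Matrix.diagonal_apply, RingHom.mapMatrix_apply,
      Matrix.map_apply]
    split_ifs <;> simp
  let Φ : Matrix.ProjectiveSpecialLinearGroup (Fin 3) F →* ↥S0 :=
    QuotientGroup.lift _ Ψ hcen
  have hsimple : IsSimpleGroup (Matrix.ProjectiveSpecialLinearGroup (Fin 3) F) :=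
    Cfsg.Agent.S0249.result 3 le_rfl
  have hker : Φ.ker = ⊥ := by
    rcases hsimple.eq_bot_or_eq_top_of_normal Φ.ker inferInstance with h | h
    · exact h
    · exfalso
      let T : Matrix.SpecialLinearGroup (Fin 3) F :=
        ⟨Matrix.transvection 0 1 1, Matrix.det_transvection_of_ne 0 1 (by decide) 1⟩
      have h1 : Φ (QuotientGroup.mk T) = 1 := by
        rw [← MonoidHom.mem_ker, h]; trivial
      have h2 : Φ (QuotientGroup.mk T) = Ψ T := rfl
      rw [h2] at h1
      have h3 : Matrix.SpecialLinearGroup.map (σ : F →+* F4c) T = tA := by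
        apply Subtype.ext
        rw [Matrix.SpecialLinearGroup.map_apply_coe]
        show (σ : F →+* F4c).mapMatrix (Matrix.transvection 0 1 1) = Matrix.transvection 0 1 1
        ext i j
        simp only [RingHom.mapMatrix_apply, Matrix.map_apply, Matrix.transvection,
          Matrix.add_apply, Matrix.one_apply, Matrix.single_apply, map_add]
        congr 1 <;> split_ifs <;> simp
      have h4 : hom0 tA = 1 := by rw [← h3]; exact h1
      rw [hom0_eq_one_iff] at h4
      -- the transvection acts nontrivially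
      have h5 : idx (toPermHom tA (pt 4)) = idx (pt 4) := by rw [h4]; rfl
      have h0 : (tA.1 : Mat3) = Matrix.transvection 0 1 1 := rfl
      rw [toPermHom_apply, fA_def, idx_pt 4 (by norm_num), h0, transvection_eq] at h5
      have h6 : gi (tv 0 1 1) 4 < 24 := by decide +kernel
      rw [idx_pt _ h6] at h5
      exact gi_tv_ne h5
  have hinj : Function.Injective Φ := (MonoidHom.ker_eq_bot_iff Φ).1 hker
  have hfin : Finite ↥S0 := Nat.finite_of_card_ne_zero (by rw [card_S0]; norm_num)
  have hbij : Function.Bijective Φ := by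
    rw [Nat.bijective_iff_injective_and_card]
    exact ⟨hinj, by rw [card_psl F hF, card_S0]⟩
  exact ⟨MulEquiv.ofBijective Φ hbij⟩

/-- **S0380** -/
theorem m21_iso_psl (p q r : GolayPt) (hpq : p ≠ q) (hpr : p ≠ r) (hqr : q ≠ r) (F : Type)
    [Field F] [Fintype F] (hF : Fintype.card F = 4) :
    Nonempty (↥(stab3 p q r) ≃* Matrix.ProjectiveSpecialLinearGroup (Fin 3) F) := by
  obtain ⟨e1⟩ := exists_equiv_psl F hF
  obtain ⟨e2⟩ := exists_equiv_S0 p q r hpq hpr hqr
  exact ⟨(e1.trans e2).symm⟩

end Cfsg.Agent.Lib.Helper6.M21
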