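import Cfsg.Agent.Lib.Helper6.M21F4
import Cfsg.Agent.Lib.Helper6.M12Out1
import Cfsg.Agent.Lib.Helper6.GolayBSGS

/-!
# The projective plane over the field with four elements inside the 24 points

The 21 points other than `∞, 0, 1` are labelled by the points of the projective plane over `F4c` so
that the unimodular matrices act by elements of the group of the code.
-/

set_option autoImplicit false
set_option maxRecDepth 1000000

namespace Cfsg.Agent.Lib.Helper6.M21

open Cfsg Cfsg.Agent.Lib.Helper6.Golay Cfsg.Agent.Lib.Helper6.Golay.M12Out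

open F4c

def code : F4c → ℕ
  | o => 0
  | e => 1
  | w => 2
  | v => 3

def decode : ℕ → F4c
  | 0 => o
  | 1 => e
  | 2 => w
  | _ => v

/-- raw matrices and vectors -/
abbrev M3 : Type := Matrix (Fin 3) (Fin 3) F4c
abbrev V3 : Type := Fin 3 → F4c

/-- index of the projective point of a vector (21 for the zero vector) -/
def nrm3 (a b c : F4c) : ℕ :=
  if a ≠ 0 then 4 * code (a⁻¹ * b) + code (a⁻¹ * c)
  else if b ≠ 0 then 16 + code (b⁻¹ * c)
  else if c ≠ 0 then 20 else 21

def nrm (x : V3) : ℕ := nrm3 (x 0) (x 1) (x 2)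

/-- the scalar normalising a vector -/
def scale3 (a b c : F4c) : F4c := if a ≠ 0 then a⁻¹ else if b ≠ 0 then b⁻¹ else c⁻¹

/-- the normalised vector of a projective point -/
def vec (i : ℕ) : V3 :=
  if i < 16 then ![1, decode (i / 4), decode (i % 4)]
  else if i < 20 then ![0, 1, decode (i - 16)] else ![0, 0, 1]

/-- raw matrix times vector -/
def mv (X : M3) (x : V3) : V3 := fun r => X r 0 * x 0 + X r 1 * x 1 + X r 2 * x 2

/-- projective index to point index -/
def labL : List ℕ := [2, 3, 5, 14, 4, 6, 9, 12, 16, 8, 21, 20, 22, 10, 11, 7, 13, 19, 15, 18, 17]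

/-- point index to projective index (21 for the three fixed points) -/
def unlabL : List ℕ :=
  [21, 21, 0, 1, 4, 2, 5, 15, 9, 6, 13, 14, 7, 16, 3, 18, 8, 20, 19, 17, 11, 10, 12, 21]

/-- the action of a raw matrix on point indices -/
def gi (X : M3) (i : ℕ) : ℕ :=
  if unlabL.getD i 21 < 21 then labL.getD (nrm (mv X (vec (unlabL.getD i 21)))) 0 else i

/-- the action of a raw matrix on the points -/
def fA (X : M3) (p : GolayPt) : GolayPt := pt (gi X (idx p))

theorem gi_pos (X : M3) {i : ℕ} (h : unlabL.getD i 21 < 21) :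
    gi X i = labL.getD (nrm (mv X (vec (unlabL.getD i 21)))) 0 := if_pos h

theorem gi_neg (X : M3) {i : ℕ} (h : ¬ unlabL.getD i 21 < 21) : gi X i = i := if_neg h

theorem fA_def (X : M3) (p : GolayPt) : fA X p = pt (gi X (idx p)) := rfl

/-- the list of the action of a raw matrix -/
def permList (X : M3) : List ℕ := (List.range 24).map (gi X)

/-- transvections and diagonal matrices, raw -/
def tv (i j : Fin 3) (c : F4c) : M3 := Matrix.of fun r s =>
  (if r = s then 1 else 0) + (if r = i ∧ s = j then c else 0)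

def dg (a b c : F4c) : M3 := Matrix.of fun r s => if r = s then ![a, b, c] r else 0

/-! ### the finite checks -/

theorem lab_unlab : ∀ i < 24, unlabL.getD i 21 < 21 → labL.getD (unlabL.getD i 21) 0 = i := by
  decide

theorem unlab_lab : ∀ n < 21, unlabL.getD (labL.getD n 0) 21 = n ∧ labL.getD n 0 < 24 := by decide

theorem nrm3_lt : ∀ a b c : F4c, ¬ (a = 0 ∧ b = 0 ∧ c = 0) → nrm3 a b c < 21 := by decide

theorem scale3_ne : ∀ a b c : F4c, ¬ (a = 0 ∧ b = 0 ∧ c = 0) → scale3 a b c ≠ 0 := by decide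

theorem vec_nrm3 : ∀ a b c : F4c, ¬ (a = 0 ∧ b = 0 ∧ c = 0) →
    vec (nrm3 a b c) 0 = scale3 a b c * a ∧ vec (nrm3 a b c) 1 = scale3 a b c * b ∧
      vec (nrm3 a b c) 2 = scale3 a b c * c := by decide

theorem nrm3_smul : ∀ k a b c : F4c, k ≠ 0 → nrm3 (k * a) (k * b) (k * c) = nrm3 a b c := by decide

theorem nrm_vec : ∀ n < 21, nrm (vec n) = n ∧
    ¬ (vec n 0 = 0 ∧ vec n 1 = 0 ∧ vec n 2 = 0) := by decide

theorem tv_chk : ∀ (i j : Fin 3) (c : F4c), i ≠ j → chkL (permList (tv i j c)) = true := by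
  decide +kernel

theorem dg_chk : ∀ a b : F4c, a ≠ 0 → b ≠ 0 → chkL (permList (dg a b (a * b)⁻¹)) = true := by
  decide +kernel

theorem gi_scalar : ∀ r : F4c, r ≠ 0 → ∀ i < 24, gi (dg r r r) i = i := by decide +kernel

theorem gi_tv_ne : gi (tv 0 1 1) 4 ≠ 4 := by decide +kernel

end Cfsg.Agent.Lib.Helper6.M21
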