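import Mathlib
import Cfsg.Prelude.Def_Sporadic_a
import Cfsg.Agent.Lib.Helper6.M22Aut2
import Cfsg.Agent.Lib.Helper6.SylowFix
import Cfsg.Agent.Lib.Helper6.OutGeneric
import Cfsg.Agent.S0413

/-! Every automorphism of the automorphism group of the reference system `S(4, 7, 23)` is inner. -/

set_option autoImplicit false
set_option maxRecDepth 1000000

namespace Cfsg.Agent.Lib.Helper6.M23Out

open Cfsg Cfsg.Agent.Lib.Helper6.SteinerSearch Cfsg.Agent.Lib.Helper6.SteinerG
open Cfsg.Agent.Lib.Helper6.M23Aut Cfsg.Agent.Lib.Helper6.M22Aut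
open MulAction
open scoped Pointwise

/-- the automorphism group of the reference system -/
abbrev A23 : Subgroup (Equiv.Perm (Fin 23)) := setSystemAut X23

theorem A23_spec : IsM23 A23 ∧ IsMultiplyPretransitive A23 (Fin 23) 4 :=
  Cfsg.Agent.S0413.result (by simp) steiner_X23

theorem A23_card : Nat.card A23 = 10200960 := A23_spec.1.2

instance A23_finite : Finite A23 := Nat.finite_of_card_ne_zero (by rw [A23_card]; norm_num)

theorem A23_trans4 : IsMultiplyPretransitive A23 (Fin 23) 4 := A23_spec.2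

theorem A23_trans2 : IsMultiplyPretransitive A23 (Fin 23) 2 := by
  have := A23_trans4
  exact isMultiplyPretransitive_of_le (n := 4) (by norm_num)
    (by rw [Nat.card_eq_fintype_card, Fintype.card_fin]; norm_num)

instance A23_pretrans : IsPretransitive A23 (Fin 23) := by
  have := A23_trans4
  have h1 : IsMultiplyPretransitive A23 (Fin 23) 1 :=
    isMultiplyPretransitive_of_le (n := 4) (by norm_num)
      (by rw [Nat.card_eq_fintype_card, Fintype.card_fin]; norm_num)
  exact is_one_pretransitive_iff.1 h1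

theorem smul_val (g : A23) (i : Fin 23) : g • i = g.1 i := rfl

/-! ### Permutations given by lists -/

theorem lperm_pow_val (v : ℕ) (l : List ℕ) (h : validPerm v l = true) (n : ℕ) (i : Fin v) :
    ((lperm v l h ^ n) i).val = (fun j => l.getD j 0)^[n] i.val := by
  induction n generalizing i with
  | zero => rfl
  | succ n ih =>
    rw [pow_succ, Equiv.Perm.mul_apply, ih, Function.iterate_succ_apply]
    rfl

/-- an automorphism given by a list -/
noncomputable def autL (l : List ℕ) (hv : validPerm 23 l = true)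
    (h : S23.B0.all (fun b => lmem (pmask l b 23) S23.B0) = true) : A23 :=
  ⟨lperm 23 l hv, aut_of_check S23.B0 c23lt (nodup_of_sincr _ c23s) l hv h⟩

theorem autL_val (l : List ℕ) (hv : validPerm 23 l = true)
    (h : S23.B0.all (fun b => lmem (pmask l b 23) S23.B0) = true) (i : Fin 23) :
    ((autL l hv h).1 i).val = l.getD i.val 0 := rfl

theorem autL_pow_eq_one (l : List ℕ) (hv : validPerm 23 l = true)
    (h : S23.B0.all (fun b => lmem (pmask l b 23) S23.B0) = true) (n : ℕ)
    (hn : ∀ i : Fin 23, (fun j => l.getD j 0)^[n] i.val = i.val) : autL l hv h ^ n = 1 := by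
  apply Subtype.ext
  apply Equiv.ext
  intro i
  apply Fin.ext
  show ((lperm 23 l hv ^ n) i).val = i.val
  rw [lperm_pow_val, hn]

/-- an element of order eleven -/
def y0l : List ℕ := [9, 20, 1, 19, 4, 2, 14, 0, 15, 17, 16, 7, 21, 22, 13, 5, 12, 8, 6, 10, 11, 18, 3]
/-- an element of order seven -/
def w0l : List ℕ := [12, 17, 14, 9, 15, 21, 3, 7, 8, 18, 6, 5, 22, 11, 19, 20, 0, 10, 1, 16, 13, 4, 2]
/-- three involutions fixing a block pointwise -/
def t1l : List ℕ := [0, 1, 2, 3, 5, 4, 7, 6, 10, 11, 8, 9, 15, 14, 13, 12, 17, 16, 19, 18, 20, 21, 22]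
def t2l : List ℕ := [0, 1, 2, 3, 6, 7, 4, 5, 11, 10, 9, 8, 13, 12, 15, 14, 18, 19, 16, 17, 20, 21, 22]
def t3l : List ℕ := [0, 1, 2, 3, 7, 6, 5, 4, 9, 8, 11, 10, 14, 15, 12, 13, 19, 18, 17, 16, 20, 21, 22]

theorem y0_valid : validPerm 23 y0l = true := by decide +kernel
theorem w0_valid : validPerm 23 w0l = true := by decide +kernel
theorem t1_valid : validPerm 23 t1l = true := by decide +kernel
theorem t2_valid : validPerm 23 t2l = true := by decide +kernel
theorem t3_valid : validPerm 23 t3l = true := by decide +kernel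
theorem y0_chk : S23.B0.all (fun b => lmem (pmask y0l b 23) S23.B0) = true := by decide +kernel
theorem w0_chk : S23.B0.all (fun b => lmem (pmask w0l b 23) S23.B0) = true := by decide +kernel
theorem t1_chk : S23.B0.all (fun b => lmem (pmask t1l b 23) S23.B0) = true := by decide +kernel
theorem t2_chk : S23.B0.all (fun b => lmem (pmask t2l b 23) S23.B0) = true := by decide +kernel
theorem t3_chk : S23.B0.all (fun b => lmem (pmask t3l b 23) S23.B0) = true := by decide +kernel

noncomputable def y0 : A23 := autL y0l y0_valid y0_chk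
noncomputable def w0 : A23 := autL w0l w0_valid w0_chk
noncomputable def t1 : A23 := autL t1l t1_valid t1_chk
noncomputable def t2 : A23 := autL t2l t2_valid t2_chk
noncomputable def t3 : A23 := autL t3l t3_valid t3_chk

theorem y0_order : orderOf y0 = 11 := by
  have : Fact (Nat.Prime 11) := ⟨by norm_num⟩
  apply orderOf_eq_prime
  · exact autL_pow_eq_one _ _ _ 11 (by decide +kernel)
  · intro h
    have := congrArg (fun g : A23 => (g.1 0).val) h
    revert this
    show y0l.getD 0 0 = 0 → False
    decide +kernel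

theorem w0_order : orderOf w0 = 7 := by
  have : Fact (Nat.Prime 7) := ⟨by norm_num⟩
  apply orderOf_eq_prime
  · exact autL_pow_eq_one _ _ _ 7 (by decide +kernel)
  · intro h
    have := congrArg (fun g : A23 => (g.1 0).val) h
    revert this
    show w0l.getD 0 0 = 0 → False
    decide +kernel

theorem y0_fixed : fixedBy (Fin 23) y0 = {4} := by
  ext i
  rw [mem_fixedBy, Set.mem_singleton_iff, smul_val]
  have : ∀ i : Fin 23, y0l.getD i.val 0 = i.val ↔ i = 4 := by decide +kernel
  rw [← this i]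
  constructor
  · intro h; exact congrArg Fin.val h
  · intro h; exact Fin.ext h

theorem w0_fixed : fixedBy (Fin 23) w0 = {7, 8} := by
  ext i
  rw [mem_fixedBy, Set.mem_insert_iff, Set.mem_singleton_iff, smul_val]
  have : ∀ i : Fin 23, w0l.getD i.val 0 = i.val ↔ (i = 7 ∨ i = 8) := by decide +kernel
  rw [← this i]
  constructor
  · intro h; exact congrArg Fin.val h
  · intro h; exact Fin.ext h

theorem not_sq_11 : ¬ 11 ^ 2 ∣ Nat.card A23 := by rw [A23_card]; norm_num
theorem not_sq_7 : ¬ 7 ^ 2 ∣ Nat.card A23 := by rw [A23_card]; norm_num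

/-- an element of order eleven has exactly one fixed point -/
theorem fixed_of_order_11 (y : A23) (hy : orderOf y = 11) :
    ∃ f : Fin 23, ∀ x : Fin 23, y • x = x ↔ x = f := by
  have : Fact (Nat.Prime 11) := ⟨by norm_num⟩
  obtain ⟨g, hg⟩ := SylowFix.exists_fixedBy_eq (X := Fin 23) not_sq_11 hy y0_order
  refine ⟨g⁻¹ • 4, fun x => ?_⟩
  rw [← mem_fixedBy, ← Set.smul_mem_smul_set_iff (a := g), ← hg, y0_fixed, Set.mem_singleton_iff,
    eq_inv_smul_iff]

/-- an element of order seven has at most two fixed points -/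
theorem fixed_of_order_7 (w : A23) (hw : orderOf w = 7) :
    (Finset.univ.filter (fun x : Fin 23 => w • x = x)).card ≤ 2 := by
  have : Fact (Nat.Prime 7) := ⟨by norm_num⟩
  obtain ⟨g, hg⟩ := SylowFix.exists_fixedBy_eq (X := Fin 23) not_sq_7 hw w0_order
  have hsub : Finset.univ.filter (fun x : Fin 23 => w • x = x) ⊆ {g⁻¹ • 7, g⁻¹ • 8} := by
    intro x hx
    rw [Finset.mem_filter] at hx
    have h1 : x ∈ fixedBy (Fin 23) w := hx.2
    rw [← Set.smul_mem_smul_set_iff (a := g), ← hg, w0_fixed, Set.mem_insert_iff,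
      Set.mem_singleton_iff, ← eq_inv_smul_iff, ← eq_inv_smul_iff] at h1
    rw [Finset.mem_insert, Finset.mem_singleton]
    exact h1
  exact (Finset.card_le_card hsub).trans Finset.card_le_two

/-! ### Subgroups of index 23 -/

theorem stab_of_index (H : Subgroup A23) (hH : H.index = 23) :
    ∃ x : Fin 23, H = stabilizer A23 x := by
  classical
  have hHc : Nat.card H = 443520 := by
    have := Subgroup.index_mul_card H
    rw [hH, A23_card] at this
    omega
  have : Fact (Nat.Prime 11) := ⟨by norm_num⟩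
  have : Fact (Nat.Prime 7) := ⟨by norm_num⟩
  obtain ⟨y, hy⟩ := exists_prime_orderOf_dvd_card' (G := H) 11 (by rw [hHc]; norm_num)
  obtain ⟨w, hw⟩ := exists_prime_orderOf_dvd_card' (G := H) 7 (by rw [hHc]; norm_num)
  have hy' : orderOf y.1 = 11 := by rw [Subgroup.orderOf_coe]; exact hy
  have hw' : orderOf w.1 = 7 := by rw [Subgroup.orderOf_coe]; exact hw
  obtain ⟨f, hf⟩ := fixed_of_order_11 y.1 hy'
  have hw2 := fixed_of_order_7 w.1 hw'
  refine ⟨f, ?_⟩
  -- the orbit of the fixed point
  set Ω : Finset (Fin 23) := Finset.univ.filter (fun x => x ∈ orbit H f) with hΩ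
  have hmemΩ : ∀ x, x ∈ Ω ↔ x ∈ orbit H f := fun x => by rw [hΩ, Finset.mem_filter]; simp
  have hinvΩ : ∀ k : H, ∀ x ∈ Ω, k.1.1 x ∈ Ω := by
    intro k x hx
    rw [hmemΩ] at hx ⊢
    obtain ⟨h, rfl⟩ := hx
    exact ⟨k * h, rfl⟩
  have hy11 : y.1.1 ^ 11 = 1 := by
    have := pow_orderOf_eq_one y.1
    rw [hy'] at this
    exact congrArg Subtype.val this
  have hw7 : w.1.1 ^ 7 = 1 := by
    have := pow_orderOf_eq_one w.1
    rw [hw'] at this
    exact congrArg Subtype.val this
  have h11 := SylowFix.card_modEq_fixed y.1.1 11 hy11 Ω (hinvΩ y)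
  have h7 := SylowFix.card_modEq_fixed w.1.1 7 hw7 Ω (hinvΩ w)
  have hfix11 : Ω.filter (fun x => y.1.1 x = x) = {f} := by
    ext x
    rw [Finset.mem_filter, Finset.mem_singleton, hmemΩ]
    constructor
    · rintro ⟨_, hx⟩
      exact (hf x).1 hx
    · rintro rfl
      exact ⟨mem_orbit_self x, (hf x).2 rfl⟩
  rw [hfix11, Finset.card_singleton] at h11
  have hc7 : (Ω.filter (fun x => w.1.1 x = x)).card ≤ 2 := by
    refine (Finset.card_le_card ?_).trans hw2
    intro x hx
    rw [Finset.mem_filter] at hx ⊢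
    exact ⟨Finset.mem_univ _, hx.2⟩
  have hΩcard : Ω.card = (orbit H f).ncard := by
    rw [← Set.ncard_coe_finset]
    congr 1
    ext x
    rw [Finset.mem_coe, hmemΩ]
  have hdvd : Ω.card ∣ 443520 := by
    rw [hΩcard, ← index_stabilizer, ← hHc]
    exact Subgroup.index_dvd_card _
  have hle : Ω.card ≤ 23 := by
    have := Finset.card_le_univ Ω
    rwa [Fintype.card_fin] at this
  have hpos : 0 < Ω.card := Finset.card_pos.2 ⟨f, (hmemΩ f).2 (mem_orbit_self f)⟩
  have hone : Ω.card = 1 := by
    generalize (Ω.filter (fun x => w.1.1 x = x)).card = c at h7 hc7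
    generalize Ω.card = n at *
    unfold Nat.ModEq at h11 h7
    interval_cases n <;> first | rfl | omega
  have hfixH : ∀ k : H, k.1 • f = f := by
    intro k
    have h1 : k.1.1 f ∈ Ω := hinvΩ k f ((hmemΩ f).2 (mem_orbit_self f))
    obtain ⟨a, ha⟩ := Finset.card_eq_one.1 hone
    rw [ha, Finset.mem_singleton] at h1
    have h2 : f ∈ Ω := (hmemΩ f).2 (mem_orbit_self f)
    rw [ha, Finset.mem_singleton] at h2
    show k.1.1 f = f
    rw [h1, h2]
  have hle' : H ≤ stabilizer A23 f := fun k hk => hfixH ⟨k, hk⟩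
  apply Subgroup.eq_of_le_of_card_ge hle'
  have h1 := Subgroup.index_mul_card (stabilizer A23 f)
  rw [index_stabilizer_of_transitive, Nat.card_eq_fintype_card, Fintype.card_fin, A23_card] at h1
  rw [hHc]
  omega

theorem stab_inj (x y : Fin 23) (h : stabilizer A23 x = stabilizer A23 y) : x = y := by
  by_contra hxy
  have h2 : ∀ {a b c d : Fin 23}, a ≠ b → c ≠ d → ∃ g : A23, g • a = c ∧ g • b = d :=
    is_two_pretransitive_iff.1 A23_trans2
  obtain ⟨z, hzx, hzy⟩ : ∃ z : Fin 23, z ≠ x ∧ z ≠ y := by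
    have key : ∀ x y : Fin 23, ∃ z : Fin 23, z ≠ x ∧ z ≠ y := by decide +kernel
    exact key x y
  obtain ⟨g, hgx, hgy⟩ := h2 (a := x) (b := y) (c := x) (d := z) hxy (Ne.symm hzx)
  have hg : g ∈ stabilizer A23 x := hgx
  rw [h] at hg
  have : g • y = y := hg
  rw [hgy] at this
  exact hzy this

end Cfsg.Agent.Lib.Helper6.M23Out
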