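import Mathlib
import Cfsg.Prelude.Def_Sporadic_a
import Cfsg.Agent.Lib.Helper6.M23Out

/-! Data for the group `K22` of the reference system `S(3, 6, 22)`: explicit elements given by
lists, and the stabiliser of three points. -/

set_option autoImplicit false
set_option maxRecDepth 1000000

namespace Cfsg.Agent.Lib.Helper6.M22Out

open Cfsg Cfsg.Agent.Lib.Helper6.SteinerSearch Cfsg.Agent.Lib.Helper6.SteinerG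
open Cfsg.Agent.Lib.Helper6.M23Aut Cfsg.Agent.Lib.Helper6.M22Aut
open MulAction
open scoped Pointwise

/-- the stabiliser of the first three points, as lists -/
def T48 : List (List ℕ) := [
  [0, 1, 2, 3, 4, 5, 6, 7, 8, 9, 10, 11, 12, 13, 14, 15, 16, 17, 18, 19, 20, 21, 22],
  [0, 1, 2, 3, 5, 4, 7, 6, 10, 11, 8, 9, 15, 14, 13, 12, 17, 16, 19, 18, 20, 21, 22],
  [0, 1, 2, 3, 6, 7, 4, 5, 11, 10, 9, 8, 13, 12, 15, 14, 18, 19, 16, 17, 20, 21, 22],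
  [0, 1, 2, 3, 7, 6, 5, 4, 9, 8, 11, 10, 14, 15, 12, 13, 19, 18, 17, 16, 20, 21, 22],
  [0, 1, 2, 3, 8, 10, 11, 9, 4, 7, 5, 6, 19, 17, 16, 18, 14, 13, 15, 12, 20, 21, 22],
  [0, 1, 2, 3, 9, 11, 10, 8, 7, 4, 6, 5, 16, 18, 19, 17, 12, 15, 13, 14, 20, 21, 22],
  [0, 1, 2, 3, 10, 8, 9, 11, 5, 6, 4, 7, 18, 16, 17, 19, 13, 14, 12, 15, 20, 21, 22],
  [0, 1, 2, 3, 11, 9, 8, 10, 6, 5, 7, 4, 17, 19, 18, 16, 15, 12, 14, 13, 20, 21, 22],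
  [0, 1, 2, 3, 12, 15, 13, 14, 19, 16, 18, 17, 4, 6, 7, 5, 9, 11, 10, 8, 20, 21, 22],
  [0, 1, 2, 3, 13, 14, 12, 15, 17, 18, 16, 19, 6, 4, 5, 7, 10, 8, 9, 11, 20, 21, 22],
  [0, 1, 2, 3, 14, 13, 15, 12, 16, 19, 17, 18, 7, 5, 4, 6, 8, 10, 11, 9, 20, 21, 22],
  [0, 1, 2, 3, 15, 12, 14, 13, 18, 17, 19, 16, 5, 7, 6, 4, 11, 9, 8, 10, 20, 21, 22],
  [0, 1, 2, 3, 16, 17, 18, 19, 14, 12, 13, 15, 9, 10, 8, 11, 4, 5, 6, 7, 20, 21, 22],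
  [0, 1, 2, 3, 17, 16, 19, 18, 13, 15, 14, 12, 11, 8, 10, 9, 5, 4, 7, 6, 20, 21, 22],
  [0, 1, 2, 3, 18, 19, 16, 17, 15, 13, 12, 14, 10, 9, 11, 8, 6, 7, 4, 5, 20, 21, 22],
  [0, 1, 2, 3, 19, 18, 17, 16, 12, 14, 15, 13, 8, 11, 9, 10, 7, 6, 5, 4, 20, 21, 22],
  [0, 1, 2, 20, 4, 19, 14, 9, 7, 8, 16, 12, 17, 10, 15, 6, 13, 11, 5, 18, 21, 3, 22],
  [0, 1, 2, 20, 5, 18, 13, 11, 6, 10, 17, 15, 16, 8, 12, 7, 14, 9, 4, 19, 21, 3, 22],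
  [0, 1, 2, 20, 6, 17, 15, 10, 5, 11, 18, 13, 19, 9, 14, 4, 12, 8, 7, 16, 21, 3, 22],
  [0, 1, 2, 20, 7, 16, 12, 8, 4, 9, 19, 14, 18, 11, 13, 5, 15, 10, 6, 17, 21, 3, 22],
  [0, 1, 2, 20, 8, 12, 16, 7, 9, 4, 14, 19, 13, 5, 18, 11, 17, 6, 10, 15, 21, 3, 22],
  [0, 1, 2, 20, 9, 14, 19, 4, 8, 7, 12, 16, 15, 6, 17, 10, 18, 5, 11, 13, 21, 3, 22],
  [0, 1, 2, 20, 10, 15, 17, 6, 11, 5, 13, 18, 14, 4, 19, 9, 16, 7, 8, 12, 21, 3, 22],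
  [0, 1, 2, 20, 11, 13, 18, 5, 10, 6, 15, 17, 12, 7, 16, 8, 19, 4, 9, 14, 21, 3, 22],
  [0, 1, 2, 20, 12, 8, 7, 16, 14, 19, 9, 4, 11, 18, 5, 13, 6, 17, 15, 10, 21, 3, 22],
  [0, 1, 2, 20, 13, 11, 5, 18, 15, 17, 10, 6, 8, 16, 7, 12, 4, 19, 14, 9, 21, 3, 22],
  [0, 1, 2, 20, 14, 9, 4, 19, 12, 16, 8, 7, 10, 17, 6, 15, 5, 18, 13, 11, 21, 3, 22],
  [0, 1, 2, 20, 15, 10, 6, 17, 13, 18, 11, 5, 9, 19, 4, 14, 7, 16, 12, 8, 21, 3, 22],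
  [0, 1, 2, 20, 16, 7, 8, 12, 19, 14, 4, 9, 5, 13, 11, 18, 10, 15, 17, 6, 21, 3, 22],
  [0, 1, 2, 20, 17, 6, 10, 15, 18, 13, 5, 11, 4, 14, 9, 19, 8, 12, 16, 7, 21, 3, 22],
  [0, 1, 2, 20, 18, 5, 11, 13, 17, 15, 6, 10, 7, 12, 8, 16, 9, 14, 19, 4, 21, 3, 22],
  [0, 1, 2, 20, 19, 4, 9, 14, 16, 12, 7, 8, 6, 15, 10, 17, 11, 13, 18, 5, 21, 3, 22],
  [0, 1, 2, 21, 4, 18, 15, 8, 9, 7, 13, 17, 11, 16, 6, 14, 10, 12, 19, 5, 3, 20, 22],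
  [0, 1, 2, 21, 5, 19, 12, 10, 11, 6, 14, 16, 9, 17, 7, 13, 8, 15, 18, 4, 3, 20, 22],
  [0, 1, 2, 21, 6, 16, 14, 11, 10, 5, 12, 19, 8, 18, 4, 15, 9, 13, 17, 7, 3, 20, 22],
  [0, 1, 2, 21, 7, 17, 13, 9, 8, 4, 15, 18, 10, 19, 5, 12, 11, 14, 16, 6, 3, 20, 22],
  [0, 1, 2, 21, 8, 15, 18, 4, 7, 9, 17, 13, 6, 14, 11, 16, 5, 19, 12, 10, 3, 20, 22],
  [0, 1, 2, 21, 9, 13, 17, 7, 4, 8, 18, 15, 5, 12, 10, 19, 6, 16, 14, 11, 3, 20, 22],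
  [0, 1, 2, 21, 10, 12, 19, 5, 6, 11, 16, 14, 7, 13, 9, 17, 4, 18, 15, 8, 3, 20, 22],
  [0, 1, 2, 21, 11, 14, 16, 6, 5, 10, 19, 12, 4, 15, 8, 18, 7, 17, 13, 9, 3, 20, 22],
  [0, 1, 2, 21, 12, 10, 5, 19, 16, 14, 6, 11, 17, 9, 13, 7, 18, 4, 8, 15, 3, 20, 22],
  [0, 1, 2, 21, 13, 9, 7, 17, 18, 15, 4, 8, 19, 10, 12, 5, 16, 6, 11, 14, 3, 20, 22],
  [0, 1, 2, 21, 14, 11, 6, 16, 19, 12, 5, 10, 18, 8, 15, 4, 17, 7, 9, 13, 3, 20, 22],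
  [0, 1, 2, 21, 15, 8, 4, 18, 17, 13, 7, 9, 16, 11, 14, 6, 19, 5, 10, 12, 3, 20, 22],
  [0, 1, 2, 21, 16, 6, 11, 14, 12, 19, 10, 5, 15, 4, 18, 8, 13, 9, 7, 17, 3, 20, 22],
  [0, 1, 2, 21, 17, 7, 9, 13, 15, 18, 8, 4, 12, 5, 19, 10, 14, 11, 6, 16, 3, 20, 22],
  [0, 1, 2, 21, 18, 4, 8, 15, 13, 17, 9, 7, 14, 6, 16, 11, 12, 10, 5, 19, 3, 20, 22],
  [0, 1, 2, 21, 19, 5, 10, 12, 14, 16, 11, 6, 13, 7, 17, 9, 15, 8, 4, 18, 3, 20, 22]]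

/-- an element of order seven -/
def w0l : List ℕ := [14, 11, 2, 7, 8, 4, 1, 13, 3, 10, 6, 15, 20, 19, 18, 16, 9, 0, 12, 5, 21, 17, 22]

/-- an element of order five -/
def v0l : List ℕ := [20, 12, 2, 8, 4, 9, 18, 11, 19, 13, 5, 14, 3, 15, 21, 10, 0, 7, 16, 1, 6, 17, 22]

def t1l : List ℕ := [0, 1, 2, 3, 5, 4, 7, 6, 10, 11, 8, 9, 15, 14, 13, 12, 17, 16, 19, 18, 20, 21, 22]
def t2l : List ℕ := [0, 1, 2, 3, 6, 7, 4, 5, 11, 10, 9, 8, 13, 12, 15, 14, 18, 19, 16, 17, 20, 21, 22]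
def t3l : List ℕ := [0, 1, 2, 3, 7, 6, 5, 4, 9, 8, 11, 10, 14, 15, 12, 13, 19, 18, 17, 16, 20, 21, 22]

/-- the check that a list gives an automorphism fixing the last point -/
def chkK (l : List ℕ) : Bool :=
  validPerm 23 l && (l.getD 22 0 == 22) &&
    S23.B0.all (fun b => lmem (pmask l b 23) S23.B0)

theorem T48_chk : T48.all chkK = true := by decide +kernel

theorem w0_chk : chkK w0l = true := by decide +kernel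
theorem v0_chk : chkK v0l = true := by decide +kernel
theorem t1_chk : chkK t1l = true := by decide +kernel
theorem t2_chk : chkK t2l = true := by decide +kernel
theorem t3_chk : chkK t3l = true := by decide +kernel

/-- the identity list -/
def idl : List ℕ := [0, 1, 2, 3, 4, 5, 6, 7, 8, 9, 10, 11, 12, 13, 14, 15, 16, 17, 18, 19, 20, 21, 22]

theorem T48_length : T48.length = 48 := by decide +kernel

theorem T48_nodup : T48.Nodup := by decide +kernel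

theorem T48_fix : T48.all (fun l => l == idl ||
    decide ((Finset.univ.filter (fun x : Fin 22 => l.getD x.val 0 = x.val)).card ≤ 6)) = true := by
  decide +kernel

theorem T48_pts : T48.all (fun l => l.getD 0 0 == 0 && l.getD 1 0 == 1 && l.getD 2 0 == 2) = true := by
  decide +kernel

end Cfsg.Agent.Lib.Helper6.M22Out
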