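import Mathlib
import Cfsg.Prelude.Def_Sporadic_a
import Cfsg.Agent.Lib.Helper6.M22OutData

/-! The group `K22` of the reference system `S(3, 6, 22)`: explicit elements, transitivity, and the
stabiliser of three points. -/

set_option autoImplicit false
set_option maxRecDepth 1000000

namespace Cfsg.Agent.Lib.Helper6.M22Out

open Cfsg Cfsg.Agent.Lib.Helper6.SteinerSearch Cfsg.Agent.Lib.Helper6.SteinerG
open Cfsg.Agent.Lib.Helper6.M23Aut Cfsg.Agent.Lib.Helper6.M22Aut
open MulAction
open scoped Pointwise

/-! ### Elements given by lists -/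

theorem chk_valid {l : List ℕ} (h : chkK l = true) : validPerm 23 l = true := by
  unfold chkK at h
  rw [Bool.and_eq_true, Bool.and_eq_true] at h
  exact h.1.1

theorem chk_last {l : List ℕ} (h : chkK l = true) :
    lperm 23 l (chk_valid h) (Fin.last 22) = Fin.last 22 := by
  unfold chkK at h
  rw [Bool.and_eq_true, Bool.and_eq_true, beq_iff_eq] at h
  apply Fin.ext
  rw [lperm_apply]
  exact h.1.2

theorem chk_aut {l : List ℕ} (h : chkK l = true) :
    S23.B0.all (fun b => lmem (pmask l b 23) S23.B0) = true := by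
  unfold chkK at h
  rw [Bool.and_eq_true] at h
  exact h.2

/-- the permutation of the first 22 points given by a list -/
noncomputable def kperm (l : List ℕ) : Equiv.Perm (Fin 22) :=
  if h : chkK l = true then restrLast (lperm 23 l (chk_valid h)) (chk_last h) else 1

theorem kperm_mem {l : List ℕ} (h : chkK l = true) : kperm l ∈ K22 := by
  rw [mem_K22, kperm, dif_pos h, extLast_restrLast]
  exact aut_of_check S23.B0 c23lt (nodup_of_sincr _ c23s) l (chk_valid h) (chk_aut h)

theorem kperm_val {l : List ℕ} (h : chkK l = true) (x : Fin 22) :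
    (kperm l x).val = l.getD x.val 0 := by
  rw [kperm, dif_pos h]
  have := castSucc_restrLast (lperm 23 l (chk_valid h)) (chk_last h) x
  have h2 := congrArg Fin.val this
  rw [Fin.val_castSucc, lperm_apply, Fin.val_castSucc] at h2
  exact h2

theorem kperm_pow_val {l : List ℕ} (h : chkK l = true) (n : ℕ) (x : Fin 22) :
    ((kperm l ^ n) x).val = (fun j => l.getD j 0)^[n] x.val := by
  induction n generalizing x with
  | zero => rfl
  | succ n ih =>
    rw [pow_succ, Equiv.Perm.mul_apply, ih, Function.iterate_succ_apply, kperm_val h]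

/-- the element of `K22` given by a list -/
noncomputable def kL (l : List ℕ) (h : chkK l = true) : K22 := ⟨kperm l, kperm_mem h⟩

theorem kL_pow_eq_one (l : List ℕ) (h : chkK l = true) (n : ℕ)
    (hn : ∀ i : Fin 22, (fun j => l.getD j 0)^[n] i.val = i.val) : kL l h ^ n = 1 := by
  apply Subtype.ext
  apply Equiv.ext
  intro i
  apply Fin.ext
  show ((kperm l ^ n) i).val = i.val
  rw [kperm_pow_val h, hn]

/-! ### Transitivity -/

/-- transitivity of the stabiliser of the last point -/
theorem stab_trans' {n : ℕ} {B : Set (Finset (Fin (n + 1)))} (m : ℕ)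
    (h : MulAction.IsMultiplyPretransitive (setSystemAut B) (Fin (n + 1)) (m + 1))
    (x y : Fin m ↪ Fin n) :
    ∃ g : Equiv.Perm (Fin n), extLast g ∈ setSystemAut B ∧ ∀ i, g (x i) = y i := by
  rw [MulAction.isMultiplyPretransitive_iff] at h
  have hx : Fin.last n ∉ Set.range (x.trans Fin.castSuccEmb) := by
    rintro ⟨i, hi⟩
    exact absurd hi (Fin.castSucc_lt_last (x i)).ne
  have hy : Fin.last n ∉ Set.range (y.trans Fin.castSuccEmb) := by
    rintro ⟨i, hi⟩
    exact absurd hi (Fin.castSucc_lt_last (y i)).ne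
  obtain ⟨⟨g, hg⟩, hgxy⟩ := h (Fin.Embedding.snoc (x.trans Fin.castSuccEmb) hx)
    (Fin.Embedding.snoc (y.trans Fin.castSuccEmb) hy)
  have hval : ∀ i, g (Fin.Embedding.snoc (x.trans Fin.castSuccEmb) hx i) =
      Fin.Embedding.snoc (y.trans Fin.castSuccEmb) hy i := by
    intro i
    have := congrArg (fun e => e i) hgxy
    simpa [Function.Embedding.smul_apply] using this
  have hl : g (Fin.last n) = Fin.last n := by
    have := hval (Fin.last m)
    simpa using this
  have hc : ∀ i : Fin m, g (Fin.castSucc (x i)) = Fin.castSucc (y i) := by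
    intro i
    have := hval (Fin.castSucc i)
    simpa using this
  refine ⟨restrLast g hl, ?_, fun i => ?_⟩
  · rw [extLast_restrLast]
    exact hg
  · have := castSucc_restrLast g hl (x i)
    rw [hc i] at this
    exact Fin.castSucc_injective _ this

/-- the group is threefold transitive on the points -/
theorem K22_trans3 (x y : Fin 3 ↪ Fin 22) : ∃ g ∈ K22, ∀ i, g (x i) = y i := by
  obtain ⟨g, hg, hxy⟩ := stab_trans' 3 M23Out.A23_trans4 x y
  exact ⟨g, mem_K22.2 hg, hxy⟩

theorem K22_mtrans3 : IsMultiplyPretransitive K22 (Fin 22) 3 := by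
  rw [isMultiplyPretransitive_iff]
  intro x y
  obtain ⟨g, hg, hxy⟩ := K22_trans3 x y
  refine ⟨⟨g, hg⟩, ?_⟩
  ext i
  exact congrArg Fin.val (hxy i)

theorem K22_mtrans2 : IsMultiplyPretransitive K22 (Fin 22) 2 :=
  have := K22_mtrans3
  isMultiplyPretransitive_of_le (n := 3) (by norm_num)
    (by rw [Nat.card_eq_fintype_card, Fintype.card_fin]; norm_num)

theorem K22_pretrans' : IsPretransitive K22 (Fin 22) := by
  have := K22_mtrans3
  have h1 : IsMultiplyPretransitive K22 (Fin 22) 1 :=
    isMultiplyPretransitive_of_le (n := 3) (by norm_num)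
      (by rw [Nat.card_eq_fintype_card, Fintype.card_fin]; norm_num)
  exact is_one_pretransitive_iff.1 h1

theorem smul_val (g : K22) (i : Fin 22) : g • i = g.1 i := rfl

/-! ### The stabiliser of three points -/

/-- the first three points -/
def x0 : Fin 3 ↪ Fin 22 := Fin.castLEEmb (by norm_num)

theorem card_stab3 : Nat.card (stabilizer K22 x0) = 48 := by
  have hpt : IsPretransitive K22 (Fin 3 ↪ Fin 22) := K22_mtrans3
  have h1 := Subgroup.index_mul_card (stabilizer K22 x0)
  rw [@index_stabilizer_of_transitive _ _ _ _ x0 hpt, K22_card, Nat.card_eq_fintype_card,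
    Fintype.card_embedding_eq, Fintype.card_fin, Fintype.card_fin] at h1
  have : Nat.descFactorial 22 3 = 9240 := by decide
  rw [this] at h1
  omega

theorem mem_T48_chk {l : List ℕ} (hl : l ∈ T48) : chkK l = true :=
  List.all_eq_true.1 T48_chk l hl

theorem kperm_injOn {l l' : List ℕ} (hl : l ∈ T48) (hl' : l' ∈ T48) (h : kperm l = kperm l') :
    l = l' := by
  have h1 := mem_T48_chk hl
  have h2 := mem_T48_chk hl'
  obtain ⟨hlen, _, _⟩ := validPerm_spec (chk_valid h1)
  obtain ⟨hlen', _, _⟩ := validPerm_spec (chk_valid h2)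
  have hlast : l.getD 22 0 = 22 ∧ l'.getD 22 0 = 22 := by
    unfold chkK at h1 h2
    rw [Bool.and_eq_true, Bool.and_eq_true, beq_iff_eq] at h1 h2
    exact ⟨h1.1.2, h2.1.2⟩
  apply List.ext_getElem (by rw [hlen, hlen'])
  intro i hi hi'
  rw [hlen] at hi
  have e1 : l[i] = l.getD i 0 := (List.getD_eq_getElem _ _ _).symm
  have e2 : l'[i] = l'.getD i 0 := (List.getD_eq_getElem _ _ _).symm
  rw [e1, e2]
  rcases Nat.lt_succ_iff_lt_or_eq.1 hi with hlt | rfl
  · have : (kperm l ⟨i, hlt⟩).val = (kperm l' ⟨i, hlt⟩).val := by rw [h]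
    rw [kperm_val h1, kperm_val h2] at this
    exact this
  · rw [hlast.1, hlast.2]

theorem kperm_stab {l : List ℕ} (hl : l ∈ T48) :
    (⟨kperm l, kperm_mem (mem_T48_chk hl)⟩ : K22) ∈ stabilizer K22 x0 := by
  rw [mem_stabilizer_iff]
  have hp := List.all_eq_true.1 T48_pts l hl
  rw [Bool.and_eq_true, Bool.and_eq_true, beq_iff_eq, beq_iff_eq, beq_iff_eq] at hp
  ext i
  show (kperm l (x0 i)).val = (x0 i).val
  rw [kperm_val (mem_T48_chk hl)]
  fin_cases i
  · exact hp.1.1
  · exact hp.1.2
  · exact hp.2

/-- every element of the stabiliser of the first three points is given by a list -/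
theorem exists_list_of_stab (g : K22) (hg : g ∈ stabilizer K22 x0) :
    ∃ l ∈ T48, g.1 = kperm l := by
  classical
  have hfin : Finite (stabilizer K22 x0) :=
    Nat.finite_of_card_ne_zero (by rw [card_stab3]; norm_num)
  have : Fintype (stabilizer K22 x0) := Fintype.ofFinite _
  let f : Fin 48 → stabilizer K22 x0 := fun i =>
    ⟨⟨kperm (T48[i.val]'(by rw [T48_length]; exact i.2)),
      kperm_mem (mem_T48_chk (List.getElem_mem _))⟩, kperm_stab (List.getElem_mem _)⟩
  have hinj : Function.Injective f := by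
    intro i j hij
    have h1 : kperm (T48[i.val]'(by rw [T48_length]; exact i.2)) =
        kperm (T48[j.val]'(by rw [T48_length]; exact j.2)) :=
      congrArg (fun t : stabilizer K22 x0 => t.1.1) hij
    have h2 := kperm_injOn (List.getElem_mem _) (List.getElem_mem _) h1
    exact Fin.ext ((List.Nodup.getElem_inj_iff T48_nodup).1 h2)
  have hbij : Function.Bijective f := by
    rw [Fintype.bijective_iff_injective_and_card]
    refine ⟨hinj, ?_⟩
    rw [Fintype.card_fin, ← Nat.card_eq_fintype_card, card_stab3]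
  obtain ⟨i, hi⟩ := hbij.2 ⟨g, hg⟩
  refine ⟨T48[i.val]'(by rw [T48_length]; exact i.2), List.getElem_mem _, ?_⟩
  exact (congrArg (fun t : stabilizer K22 x0 => t.1.1) hi).symm

theorem kperm_idl : kperm idl = 1 := by
  have h : chkK idl = true := mem_T48_chk (by decide +kernel)
  ext x
  rw [kperm_val h]
  have : ∀ x : Fin 22, idl.getD x.val 0 = x.val := by decide +kernel
  exact this x

/-- an element fixing seven points is the identity -/
theorem eq_one_of_fix (g : Equiv.Perm (Fin 22)) (hg : g ∈ K22) (C : Finset (Fin 22))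
    (hC : 7 ≤ C.card) (hfix : ∀ c ∈ C, g c = c) : g = 1 := by
  classical
  obtain ⟨s, hs, hs3⟩ := Finset.exists_subset_card_eq (s := C) (n := 3) (by omega)
  set y : Fin 3 ↪ Fin 22 := (s.orderEmbOfFin hs3).toEmbedding with hy
  have hyC : ∀ i, y i ∈ C := fun i => hs (Finset.orderEmbOfFin_mem s hs3 i)
  obtain ⟨h, hh, hxy⟩ := K22_trans3 y x0
  set g' : Equiv.Perm (Fin 22) := h * g * h⁻¹ with hg'
  have hg'mem : g' ∈ K22 := K22.mul_mem (K22.mul_mem hh hg) (K22.inv_mem hh)
  have hstab : (⟨g', hg'mem⟩ : K22) ∈ stabilizer K22 x0 := by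
    rw [mem_stabilizer_iff]
    ext i
    show (g' (x0 i)).val = (x0 i).val
    congr 1
    show h (g (h⁻¹ (x0 i))) = x0 i
    rw [← hxy i]
    have : h⁻¹ (h (y i)) = y i := h.symm_apply_apply _
    rw [this, hfix _ (hyC i)]
  obtain ⟨l, hl, hgl⟩ := exists_list_of_stab ⟨g', hg'mem⟩ hstab
  have hchk := mem_T48_chk hl
  have hfl := List.all_eq_true.1 T48_fix l hl
  rw [Bool.or_eq_true, beq_iff_eq, decide_eq_true_eq] at hfl
  have hg'1 : g' = 1 := by
    rcases hfl with rfl | hle
    · exact hgl.trans kperm_idl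
    · exfalso
      have hsub : C.image h ⊆ Finset.univ.filter (fun x : Fin 22 => l.getD x.val 0 = x.val) := by
        intro z hz
        rw [Finset.mem_image] at hz
        obtain ⟨c, hc, rfl⟩ := hz
        rw [Finset.mem_filter]
        refine ⟨Finset.mem_univ _, ?_⟩
        rw [← kperm_val hchk]
        congr 1
        have : kperm l = g' := hgl.symm
        rw [this]
        show h (g (h⁻¹ (h c))) = h c
        have h1 : h⁻¹ (h c) = c := h.symm_apply_apply _
        rw [h1, hfix c hc]
      have := Finset.card_le_card hsub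
      rw [Finset.card_image_of_injective _ h.injective] at this
      omega
  have : g = h⁻¹ * g' * h := by rw [hg']; group
  rw [this, hg'1]
  group

end Cfsg.Agent.Lib.Helper6.M22Out
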