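import Mathlib
import Cfsg.Prelude.Def_Sporadic_a
import Cfsg.Agent.Lib.Helper6.SteinerAutT

/-! Permutations normalising the automorphism group of a Steiner system `S(t, t + 3, v)` which is
`t`-fold transitive and in which the stabiliser of `t` points of a block moves every point off the
block to at least four points. -/

set_option autoImplicit false

namespace Cfsg.Agent.Lib.Helper6.NormGeneric

open Cfsg Cfsg.Agent.Lib.Helper6.SteinerSearch
open MulAction
open scoped Pointwise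

variable {v t : ℕ} {B : Set (Finset (Fin v))}

/-- an automorphism fixing `t` points of a block preserves the block -/
theorem image_eq_of_fix (hS : IsSteinerSystem t (t + 3) B) {u : Equiv.Perm (Fin v)}
    (hu : u ∈ setSystemAut B) {b s : Finset (Fin v)}
    (hb : b ∈ B) (hs : s ⊆ b) (hst : s.card = t) (hfix : ∀ a ∈ s, u a = a) : b.image u = b := by
  obtain ⟨c, _, hc⟩ := hS.2 s hst
  have h1 : b.image u ∈ B := ((mem_aut_iff' B u).1 hu b).1 hb
  have h2 : s ⊆ b.image u := by
    intro a ha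
    rw [Finset.mem_image]
    exact ⟨a, hs ha, hfix a ha⟩
  rw [hc _ ⟨h1, h2⟩, hc _ ⟨hb, hs⟩]

/-- a normalising permutation maps blocks to blocks -/
theorem image_mem_of_normalizes (hS : IsSteinerSystem t (t + 3) B)
    (htr : IsMultiplyPretransitive (setSystemAut B) (Fin v) t)
    {blk0 : Finset (Fin v)} (hblk0 : blk0 ∈ B) (s0 : Fin t ↪ Fin v) (hs0 : ∀ j, s0 j ∈ blk0)
    (t1 t2 t3 : setSystemAut B)
    (hfix : ∀ j, t1.1 (s0 j) = s0 j ∧ t2.1 (s0 j) = s0 j ∧ t3.1 (s0 j) = s0 j)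
    (hnd : ∀ q, q ∉ blk0 → [q, t1.1 q, t2.1 q, t3.1 q].Nodup)
    (π : Equiv.Perm (Fin v))
    (hn : ∀ g ∈ setSystemAut B, π⁻¹ * g * π ∈ setSystemAut B) {b : Finset (Fin v)} (hb : b ∈ B) :
    b.image π ∈ B := by
  classical
  have hbk : b.card = t + 3 := hS.1 b hb
  obtain ⟨s, hs, hst⟩ := Finset.exists_subset_card_eq (s := b) (n := t) (by rw [hbk]; omega)
  set x : Fin t ↪ Fin v := (s.orderEmbOfFin hst).toEmbedding with hx
  have hxsurj : ∀ a ∈ s, ∃ j, x j = a := by
    intro a ha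
    have : a ∈ Set.range (s.orderEmbOfFin hst) := by
      rw [Finset.range_orderEmbOfFin]; exact ha
    obtain ⟨j, hj⟩ := this
    exact ⟨j, hj⟩
  have hs't : (s.image π).card = t := by
    rw [Finset.card_image_of_injective _ π.injective, hst]
  obtain ⟨b', ⟨hb', hsb'⟩, hb'u⟩ := hS.2 (s.image π) hs't
  obtain ⟨g, hg⟩ := (isMultiplyPretransitive_iff.1 htr) s0 (x.trans π.toEmbedding)
  have hgj : ∀ j, g.1 (s0 j) = π (x j) := fun j => congrArg (fun e => e j) hg
  have hgb0 : blk0.image g.1 = b' := by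
    apply hb'u
    refine ⟨((mem_aut_iff' B g.1).1 g.2 blk0).1 hblk0, ?_⟩
    intro a ha
    rw [Finset.mem_image] at ha
    obtain ⟨a0, ha0, rfl⟩ := ha
    obtain ⟨j, rfl⟩ := hxsurj a0 ha0
    rw [← hgj j]
    exact Finset.mem_image_of_mem _ (hs0 j)
  suffices hsub : b.image π ⊆ b' by
    have : b.image π = b' := by
      apply Finset.eq_of_subset_of_card_le hsub
      rw [Finset.card_image_of_injective _ π.injective, hbk, hS.1 b' hb']
    rw [this]; exact hb'
  intro y hy
  rw [Finset.mem_image] at hy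
  obtain ⟨z, hz, rfl⟩ := hy
  by_contra hzb'
  have hzs : z ∉ s := fun h => hzb' (hsb' (Finset.mem_image_of_mem _ h))
  set q : Fin v := g.1⁻¹ (π z) with hq
  have hgq : g.1 q = π z := by rw [hq]; exact g.1.apply_symm_apply _
  have hqb0 : q ∉ blk0 := by
    intro h
    apply hzb'
    rw [← hgb0, ← hgq]
    exact Finset.mem_image_of_mem _ h
  have hnd0 := hnd q hqb0
  have hu : ∀ τ : setSystemAut B, (∀ j, τ.1 (s0 j) = s0 j) →
      (π⁻¹ * (g.1 * τ.1 * g.1⁻¹) * π) z ∈ b \ s ∧
        (π⁻¹ * (g.1 * τ.1 * g.1⁻¹) * π) z = π⁻¹ (g.1 (τ.1 q)) := by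
    intro τ hτ
    set u := π⁻¹ * (g.1 * τ.1 * g.1⁻¹) * π with hu
    have humem : u ∈ setSystemAut B :=
      hn _ ((setSystemAut B).mul_mem ((setSystemAut B).mul_mem g.2 τ.2)
        ((setSystemAut B).inv_mem g.2))
    have hufix : ∀ a ∈ s, u a = a := by
      intro a ha
      obtain ⟨j, rfl⟩ := hxsurj a ha
      show π⁻¹ (g.1 (τ.1 (g.1⁻¹ (π (x j))))) = x j
      rw [← hgj j]
      have : g.1⁻¹ (g.1 (s0 j)) = s0 j := g.1.symm_apply_apply _
      rw [this, hτ j, hgj j]
      exact π.symm_apply_apply _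
    have hub := image_eq_of_fix hS humem hb hs hst hufix
    have huz : u z = π⁻¹ (g.1 (τ.1 q)) := rfl
    refine ⟨?_, huz⟩
    rw [Finset.mem_sdiff]
    constructor
    · rw [← hub]; exact Finset.mem_image_of_mem _ hz
    · intro h
      have := hufix _ h
      exact hzs (by rw [← u.injective this]; exact h)
  obtain ⟨h1m, h1e⟩ := hu t1 (fun j => (hfix j).1)
  obtain ⟨h2m, h2e⟩ := hu t2 (fun j => (hfix j).2.1)
  obtain ⟨h3m, h3e⟩ := hu t3 (fun j => (hfix j).2.2)
  have hz0 : z = π⁻¹ (g.1 q) := by rw [hgq]; exact (π.symm_apply_apply z).symm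
  have hz0m : π⁻¹ (g.1 q) ∈ b \ s := by
    rw [← hz0, Finset.mem_sdiff]; exact ⟨hz, hzs⟩
  rw [h1e] at h1m
  rw [h2e] at h2m
  rw [h3e] at h3m
  have hnd' : ([q, t1.1 q, t2.1 q, t3.1 q].map (fun a => π⁻¹ (g.1 a))).Nodup :=
    List.Nodup.map (fun a a' h => g.1.injective (π⁻¹.injective h)) hnd0
  have hsub4 : ([q, t1.1 q, t2.1 q, t3.1 q].map (fun a => π⁻¹ (g.1 a))).toFinset ⊆ b \ s := by
    intro a ha
    rw [List.mem_toFinset] at ha
    simp only [List.map_cons, List.map_nil, List.mem_cons, List.not_mem_nil, or_false] at ha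
    rcases ha with rfl | rfl | rfl | rfl
    · exact hz0m
    · exact h1m
    · exact h2m
    · exact h3m
  have hcard := Finset.card_le_card hsub4
  rw [List.toFinset_card_of_nodup hnd', Finset.card_sdiff_of_subset hs, hbk, hst] at hcard
  simp at hcard

/-- a permutation normalising the automorphism group is an automorphism -/
theorem mem_of_normalizes (hS : IsSteinerSystem t (t + 3) B)
    (htr : IsMultiplyPretransitive (setSystemAut B) (Fin v) t)
    {blk0 : Finset (Fin v)} (hblk0 : blk0 ∈ B) (s0 : Fin t ↪ Fin v) (hs0 : ∀ j, s0 j ∈ blk0)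
    (t1 t2 t3 : setSystemAut B)
    (hfix : ∀ j, t1.1 (s0 j) = s0 j ∧ t2.1 (s0 j) = s0 j ∧ t3.1 (s0 j) = s0 j)
    (hnd : ∀ q, q ∉ blk0 → [q, t1.1 q, t2.1 q, t3.1 q].Nodup)
    (π : Equiv.Perm (Fin v)) (h1 : ∀ g ∈ setSystemAut B, π * g * π⁻¹ ∈ setSystemAut B)
    (h2 : ∀ g ∈ setSystemAut B, π⁻¹ * g * π ∈ setSystemAut B) : π ∈ setSystemAut B := by
  rw [mem_aut_iff']
  intro b
  refine ⟨fun hb => image_mem_of_normalizes hS htr hblk0 s0 hs0 t1 t2 t3 hfix hnd π h2 hb,
    fun hb => ?_⟩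
  have h3 := image_mem_of_normalizes hS htr hblk0 s0 hs0 t1 t2 t3 hfix hnd π⁻¹
    (fun g hg => by rw [inv_inv]; exact h1 g hg) hb
  rw [Finset.image_image] at h3
  have : (⇑π⁻¹ ∘ ⇑π : Fin v → Fin v) = id := by
    funext i; exact π.symm_apply_apply i
  rwa [this, Finset.image_id] at h3

/-- distinct points have distinct stabilisers in a doubly transitive group of degree at least 3 -/
theorem stab_inj {G : Type*} [Group G] [MulAction G (Fin v)] (hv : 3 ≤ v)
    (h2 : IsMultiplyPretransitive G (Fin v) 2) (x y : Fin v)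
    (h : stabilizer G x = stabilizer G y) : x = y := by
  by_contra hxy
  have h2' : ∀ {a b c d : Fin v}, a ≠ b → c ≠ d → ∃ g : G, g • a = c ∧ g • b = d :=
    is_two_pretransitive_iff.1 h2
  obtain ⟨z, hzx, hzy⟩ : ∃ z : Fin v, z ≠ x ∧ z ≠ y := by
    by_contra hcon
    push Not at hcon
    have hsub : (Finset.univ : Finset (Fin v)) ⊆ {x, y} := by
      intro z _
      rw [Finset.mem_insert, Finset.mem_singleton]
      by_cases hz : z = x
      · exact Or.inl hz
      · exact Or.inr (hcon z hz)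
    have := Finset.card_le_card hsub
    rw [Finset.card_univ, Fintype.card_fin] at this
    have h2c : ({x, y} : Finset (Fin v)).card ≤ 2 := Finset.card_le_two
    omega
  obtain ⟨g, hgx, hgy⟩ := h2' (a := x) (b := y) (c := x) (d := z) hxy (Ne.symm hzx)
  have hg : g ∈ stabilizer G x := hgx
  rw [h] at hg
  have : g • y = y := hg
  rw [hgy] at this
  exact hzy this

end Cfsg.Agent.Lib.Helper6.NormGeneric
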