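import Mathlib
import Cfsg.Prelude.Def_Sporadic_a
import Cfsg.Agent.Lib.Helper6.M22Out
import Cfsg.Agent.Lib.Helper6.NormGeneric

/-! Subgroups of index 22 in the group `K22` of the reference system `S(3, 6, 22)` are point
stabilisers. -/

set_option autoImplicit false
set_option maxRecDepth 1000000

namespace Cfsg.Agent.Lib.Helper6.M22Out

open Cfsg Cfsg.Agent.Lib.Helper6.SteinerSearch Cfsg.Agent.Lib.Helper6.SteinerG
open Cfsg.Agent.Lib.Helper6.M23Aut Cfsg.Agent.Lib.Helper6.M22Aut
open MulAction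
open scoped Pointwise

noncomputable def w0 : K22 := kL w0l w0_chk
noncomputable def v0 : K22 := kL v0l v0_chk

theorem w0_order : orderOf w0 = 7 := by
  have : Fact (Nat.Prime 7) := ⟨by norm_num⟩
  apply orderOf_eq_prime
  · exact kL_pow_eq_one _ _ 7 (by decide +kernel)
  · intro h
    have := congrArg (fun g : K22 => (g.1 0).val) h
    revert this
    show (kperm w0l 0).val = 0 → False
    rw [kperm_val w0_chk]
    decide +kernel

theorem v0_order : orderOf v0 = 5 := by
  have : Fact (Nat.Prime 5) := ⟨by norm_num⟩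
  apply orderOf_eq_prime
  · exact kL_pow_eq_one _ _ 5 (by decide +kernel)
  · intro h
    have := congrArg (fun g : K22 => (g.1 0).val) h
    revert this
    show (kperm v0l 0).val = 0 → False
    rw [kperm_val v0_chk]
    decide +kernel

theorem w0_fixed : fixedBy (Fin 22) w0 = {2} := by
  ext i
  rw [mem_fixedBy, Set.mem_singleton_iff, smul_val]
  have : ∀ i : Fin 22, w0l.getD i.val 0 = i.val ↔ i = 2 := by decide +kernel
  rw [← this i, ← kperm_val w0_chk]
  constructor
  · intro h; exact congrArg Fin.val h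
  · intro h; exact Fin.ext h

theorem v0_fixed : fixedBy (Fin 22) v0 = {2, 4} := by
  ext i
  rw [mem_fixedBy, Set.mem_insert_iff, Set.mem_singleton_iff, smul_val]
  have : ∀ i : Fin 22, v0l.getD i.val 0 = i.val ↔ (i = 2 ∨ i = 4) := by decide +kernel
  rw [← this i, ← kperm_val v0_chk]
  constructor
  · intro h; exact congrArg Fin.val h
  · intro h; exact Fin.ext h

theorem not_sq_7 : ¬ 7 ^ 2 ∣ Nat.card K22 := by rw [K22_card]; norm_num
theorem not_sq_5 : ¬ 5 ^ 2 ∣ Nat.card K22 := by rw [K22_card]; norm_num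

instance : Finite K22 := Nat.finite_of_card_ne_zero (by rw [K22_card]; norm_num)

/-- an element of order seven has exactly one fixed point -/
theorem fixed_of_order_7 (y : K22) (hy : orderOf y = 7) :
    ∃ f : Fin 22, ∀ x : Fin 22, y • x = x ↔ x = f := by
  have : Fact (Nat.Prime 7) := ⟨by norm_num⟩
  obtain ⟨g, hg⟩ := SylowFix.exists_fixedBy_eq (X := Fin 22) not_sq_7 hy w0_order
  refine ⟨g⁻¹ • 2, fun x => ?_⟩
  rw [← mem_fixedBy, ← Set.smul_mem_smul_set_iff (a := g), ← hg, w0_fixed, Set.mem_singleton_iff,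
    eq_inv_smul_iff]

/-- an element of order five has at most two fixed points -/
theorem fixed_of_order_5 (w : K22) (hw : orderOf w = 5) :
    (Finset.univ.filter (fun x : Fin 22 => w • x = x)).card ≤ 2 := by
  have : Fact (Nat.Prime 5) := ⟨by norm_num⟩
  obtain ⟨g, hg⟩ := SylowFix.exists_fixedBy_eq (X := Fin 22) not_sq_5 hw v0_order
  have hsub : Finset.univ.filter (fun x : Fin 22 => w • x = x) ⊆ {g⁻¹ • 2, g⁻¹ • 4} := by
    intro x hx
    rw [Finset.mem_filter] at hx
    have h1 : x ∈ fixedBy (Fin 22) w := hx.2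
    rw [← Set.smul_mem_smul_set_iff (a := g), ← hg, v0_fixed, Set.mem_insert_iff,
      Set.mem_singleton_iff, ← eq_inv_smul_iff, ← eq_inv_smul_iff] at h1
    rw [Finset.mem_insert, Finset.mem_singleton]
    exact h1
  exact (Finset.card_le_card hsub).trans Finset.card_le_two

/-! ### Subgroups of index 22 -/

theorem stab_of_index (H : Subgroup K22) (hH : H.index = 22) :
    ∃ x : Fin 22, H = stabilizer K22 x := by
  classical
  have hHc : Nat.card H = 20160 := by
    have := Subgroup.index_mul_card H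
    rw [hH, K22_card] at this
    omega
  have : Fact (Nat.Prime 7) := ⟨by norm_num⟩
  have : Fact (Nat.Prime 5) := ⟨by norm_num⟩
  obtain ⟨y, hy⟩ := exists_prime_orderOf_dvd_card' (G := H) 7 (by rw [hHc]; norm_num)
  obtain ⟨w, hw⟩ := exists_prime_orderOf_dvd_card' (G := H) 5 (by rw [hHc]; norm_num)
  have hy' : orderOf y.1 = 7 := by rw [Subgroup.orderOf_coe]; exact hy
  have hw' : orderOf w.1 = 5 := by rw [Subgroup.orderOf_coe]; exact hw
  obtain ⟨f, hf⟩ := fixed_of_order_7 y.1 hy'
  have hw2 := fixed_of_order_5 w.1 hw'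
  refine ⟨f, ?_⟩
  -- the orbit of the fixed point
  set Ω : Finset (Fin 22) := Finset.univ.filter (fun x => x ∈ orbit H f) with hΩ
  have hmemΩ : ∀ x, x ∈ Ω ↔ x ∈ orbit H f := fun x => by rw [hΩ, Finset.mem_filter]; simp
  have hinvΩ : ∀ k : H, ∀ x ∈ Ω, k.1.1 x ∈ Ω := by
    intro k x hx
    rw [hmemΩ] at hx ⊢
    obtain ⟨h, rfl⟩ := hx
    exact ⟨k * h, rfl⟩
  have hy7 : y.1.1 ^ 7 = 1 := by
    have := pow_orderOf_eq_one y.1
    rw [hy'] at this
    exact congrArg Subtype.val this
  have hw5 : w.1.1 ^ 5 = 1 := by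
    have := pow_orderOf_eq_one w.1
    rw [hw'] at this
    exact congrArg Subtype.val this
  have h7 := SylowFix.card_modEq_fixed y.1.1 7 hy7 Ω (hinvΩ y)
  have h5 := SylowFix.card_modEq_fixed w.1.1 5 hw5 Ω (hinvΩ w)
  have hfix7 : Ω.filter (fun x => y.1.1 x = x) = {f} := by
    ext x
    rw [Finset.mem_filter, Finset.mem_singleton, hmemΩ]
    constructor
    · rintro ⟨_, hx⟩
      exact (hf x).1 hx
    · rintro rfl
      exact ⟨mem_orbit_self x, (hf x).2 rfl⟩
  rw [hfix7, Finset.card_singleton] at h7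
  have hc5 : (Ω.filter (fun x => w.1.1 x = x)).card ≤ 2 := by
    refine (Finset.card_le_card ?_).trans hw2
    intro x hx
    rw [Finset.mem_filter] at hx ⊢
    exact ⟨Finset.mem_univ _, hx.2⟩
  have hΩcard : Ω.card = (orbit H f).ncard := by
    rw [← Set.ncard_coe_finset]
    congr 1
    ext x
    rw [Finset.mem_coe, hmemΩ]
  have hdvd : Ω.card ∣ 20160 := by
    rw [hΩcard, ← index_stabilizer, ← hHc]
    exact Subgroup.index_dvd_card _
  have hle : Ω.card ≤ 22 := by
    have := Finset.card_le_univ Ω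
    rwa [Fintype.card_fin] at this
  have hpos : 0 < Ω.card := Finset.card_pos.2 ⟨f, (hmemΩ f).2 (mem_orbit_self f)⟩
  have hcases : Ω.card = 1 ∨ Ω.card = 15 := by
    generalize (Ω.filter (fun x => w.1.1 x = x)).card = c at h5 hc5
    generalize Ω.card = n at *
    unfold Nat.ModEq at h7 h5
    interval_cases n <;> first | (left; rfl) | (right; rfl) | omega
  rcases hcases with hone | h15
  · have hfixH : ∀ k : H, k.1 • f = f := by
      intro k
      have h1 : k.1.1 f ∈ Ω := hinvΩ k f ((hmemΩ f).2 (mem_orbit_self f))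
      obtain ⟨a, ha⟩ := Finset.card_eq_one.1 hone
      rw [ha, Finset.mem_singleton] at h1
      have h2 : f ∈ Ω := (hmemΩ f).2 (mem_orbit_self f)
      rw [ha, Finset.mem_singleton] at h2
      show k.1.1 f = f
      rw [h1, h2]
    have hle' : H ≤ stabilizer K22 f := fun k hk => hfixH ⟨k, hk⟩
    apply Subgroup.eq_of_le_of_card_ge hle'
    have := K22_pretrans'
    have h1 := Subgroup.index_mul_card (stabilizer K22 f)
    rw [index_stabilizer_of_transitive, Nat.card_eq_fintype_card, Fintype.card_fin, K22_card] at h1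
    rw [hHc]
    omega
  · -- an orbit of length 15 is excluded: some nonidentity element would fix seven points
    exfalso
    have hC : (Ωᶜ).card = 7 := by
      rw [Finset.card_compl, Fintype.card_fin, h15]
    have hinvC : ∀ k : H, ∀ x, k.1.1 x ∈ Ωᶜ ↔ x ∈ Ωᶜ := by
      intro k x
      rw [Finset.mem_compl, Finset.mem_compl, not_iff_not]
      constructor
      · intro hx
        have := hinvΩ k⁻¹ _ hx
        have e : (k⁻¹).1.1 (k.1.1 x) = x := by
          show (k.1.1)⁻¹ (k.1.1 x) = x
          exact k.1.1.symm_apply_apply x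
        rwa [e] at this
      · exact hinvΩ k x
    let ρ : H → Equiv.Perm {x // x ∈ Ωᶜ} := fun k => Equiv.Perm.subtypePerm k.1.1 (hinvC k)
    have hfinH : Finite H := Nat.finite_of_card_ne_zero (by rw [hHc]; norm_num)
    have : Fintype H := Fintype.ofFinite H
    have hlt : Fintype.card (Equiv.Perm {x // x ∈ Ωᶜ}) < Fintype.card H := by
      rw [Fintype.card_perm, Fintype.card_coe, hC, ← Nat.card_eq_fintype_card, hHc]
      decide
    obtain ⟨k1, k2, hne, heq⟩ := Fintype.exists_ne_map_eq_of_card_lt ρ hlt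
    have hg1 : (k1⁻¹ * k2).1.1 = 1 := by
      apply eq_one_of_fix _ (k1⁻¹ * k2).1.2 Ωᶜ (by rw [hC])
      intro c hc
      have h1 := congrArg (fun σ : Equiv.Perm {x // x ∈ Ωᶜ} => (σ ⟨c, hc⟩).1) heq
      have h2 : k1.1.1 c = k2.1.1 c := h1
      show (k1.1.1)⁻¹ (k2.1.1 c) = c
      rw [← h2]
      exact k1.1.1.symm_apply_apply c
    apply hne
    have : k1⁻¹ * k2 = 1 := Subtype.ext (Subtype.ext hg1)
    rw [inv_mul_eq_one] at this
    exact this

theorem stab_inj (x y : Fin 22) (h : stabilizer K22 x = stabilizer K22 y) : x = y :=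
  NormGeneric.stab_inj (by norm_num) K22_mtrans2 x y h

end Cfsg.Agent.Lib.Helper6.M22Out
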