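import Mathlib
import Cfsg.Prelude.Def_Sporadic_a
import Cfsg.Agent.Lib.Helper6.NormGeneric

/-! Permutations normalising a `t`-fold transitive group `K` of automorphisms of a Steiner system
`S(t, t + 3, v)` in which the stabiliser in `K` of `t` points of a block moves every point off the
block to at least four points: they are automorphisms of the system. -/

set_option autoImplicit false

namespace Cfsg.Agent.Lib.Helper6.NormGeneric2

open Cfsg Cfsg.Agent.Lib.Helper6.SteinerSearch Cfsg.Agent.Lib.Helper6.NormGeneric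
open MulAction
open scoped Pointwise

variable {v t : ℕ} {B : Set (Finset (Fin v))}

/-- a normalising permutation maps blocks to blocks -/
theorem image_mem_of_normalizes (hS : IsSteinerSystem t (t + 3) B)
    (K : Subgroup (Equiv.Perm (Fin v))) (hK : K ≤ setSystemAut B)
    (htr : ∀ x y : Fin t ↪ Fin v, ∃ g ∈ K, ∀ i, g (x i) = y i)
    {blk0 : Finset (Fin v)} (hblk0 : blk0 ∈ B) (s0 : Fin t ↪ Fin v) (hs0 : ∀ j, s0 j ∈ blk0)
    (t1 t2 t3 : Equiv.Perm (Fin v)) (ht1 : t1 ∈ K) (ht2 : t2 ∈ K) (ht3 : t3 ∈ K)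
    (hfix : ∀ j, t1 (s0 j) = s0 j ∧ t2 (s0 j) = s0 j ∧ t3 (s0 j) = s0 j)
    (hnd : ∀ q, q ∉ blk0 → [q, t1 q, t2 q, t3 q].Nodup)
    (π : Equiv.Perm (Fin v))
    (hn : ∀ g ∈ K, π⁻¹ * g * π ∈ K) {b : Finset (Fin v)} (hb : b ∈ B) :
    b.image π ∈ B := by
  classical
  have hbk : b.card = t + 3 := hS.1 b hb
  obtain ⟨s, hs, hst⟩ := Finset.exists_subset_card_eq (s := b) (n := t) (by rw [hbk]; omega)
  set x : Fin t ↪ Fin v := (s.orderEmbOfFin hst).toEmbedding with hx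
  have hxsurj : ∀ a ∈ s, ∃ j, x j = a := by
    intro a ha
    have : a ∈ Set.range (s.orderEmbOfFin hst) := by
      rw [Finset.range_orderEmbOfFin]; exact ha
    obtain ⟨j, hj⟩ := this
    exact ⟨j, hj⟩
  have hs't : (s.image π).card = t := by
    rw [Finset.card_image_of_injective _ π.injective, hst]
  obtain ⟨b', ⟨hb', hsb'⟩, hb'u⟩ := hS.2 (s.image π) hs't
  obtain ⟨g, hgK, hgj⟩ := htr s0 (x.trans π.toEmbedding)
  have hgB : g ∈ setSystemAut B := hK hgK
  have hgj : ∀ j, g (s0 j) = π (x j) := hgj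
  have hgb0 : blk0.image g = b' := by
    apply hb'u
    refine ⟨((mem_aut_iff' B g).1 hgB blk0).1 hblk0, ?_⟩
    intro a ha
    rw [Finset.mem_image] at ha
    obtain ⟨a0, ha0, rfl⟩ := ha
    obtain ⟨j, rfl⟩ := hxsurj a0 ha0
    rw [← hgj j]
    exact Finset.mem_image_of_mem _ (hs0 j)
  suffices hsub : b.image π ⊆ b' by
    have : b.image π = b' := by
      apply Finset.eq_of_subset_of_card_le hsub
      rw [Finset.card_image_of_injective _ π.injective, hbk, hS.1 b' hb']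
    rw [this]; exact hb'
  intro y hy
  rw [Finset.mem_image] at hy
  obtain ⟨z, hz, rfl⟩ := hy
  by_contra hzb'
  have hzs : z ∉ s := fun h => hzb' (hsb' (Finset.mem_image_of_mem _ h))
  set q : Fin v := g⁻¹ (π z) with hq
  have hgq : g q = π z := by rw [hq]; exact g.apply_symm_apply _
  have hqb0 : q ∉ blk0 := by
    intro h
    apply hzb'
    rw [← hgb0, ← hgq]
    exact Finset.mem_image_of_mem _ h
  have hnd0 := hnd q hqb0
  have hu : ∀ τ ∈ K, (∀ j, τ (s0 j) = s0 j) →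
      (π⁻¹ * (g * τ * g⁻¹) * π) z ∈ b \ s ∧
        (π⁻¹ * (g * τ * g⁻¹) * π) z = π⁻¹ (g (τ q)) := by
    intro τ hτK hτ
    set u := π⁻¹ * (g * τ * g⁻¹) * π with hu
    have humem : u ∈ setSystemAut B :=
      hK (hn _ (K.mul_mem (K.mul_mem hgK hτK) (K.inv_mem hgK)))
    have hufix : ∀ a ∈ s, u a = a := by
      intro a ha
      obtain ⟨j, rfl⟩ := hxsurj a ha
      show π⁻¹ (g (τ (g⁻¹ (π (x j))))) = x j
      rw [← hgj j]
      have : g⁻¹ (g (s0 j)) = s0 j := g.symm_apply_apply _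
      rw [this, hτ j, hgj j]
      exact π.symm_apply_apply _
    have hub := image_eq_of_fix hS humem hb hs hst hufix
    have huz : u z = π⁻¹ (g (τ q)) := rfl
    refine ⟨?_, huz⟩
    rw [Finset.mem_sdiff]
    constructor
    · rw [← hub]; exact Finset.mem_image_of_mem _ hz
    · intro h
      have := hufix _ h
      exact hzs (by rw [← u.injective this]; exact h)
  obtain ⟨h1m, h1e⟩ := hu t1 ht1 (fun j => (hfix j).1)
  obtain ⟨h2m, h2e⟩ := hu t2 ht2 (fun j => (hfix j).2.1)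
  obtain ⟨h3m, h3e⟩ := hu t3 ht3 (fun j => (hfix j).2.2)
  have hz0 : z = π⁻¹ (g q) := by rw [hgq]; exact (π.symm_apply_apply z).symm
  have hz0m : π⁻¹ (g q) ∈ b \ s := by
    rw [← hz0, Finset.mem_sdiff]; exact ⟨hz, hzs⟩
  rw [h1e] at h1m
  rw [h2e] at h2m
  rw [h3e] at h3m
  have hnd' : ([q, t1 q, t2 q, t3 q].map (fun a => π⁻¹ (g a))).Nodup :=
    List.Nodup.map (fun a a' h => g.injective (π⁻¹.injective h)) hnd0
  have hsub4 : ([q, t1 q, t2 q, t3 q].map (fun a => π⁻¹ (g a))).toFinset ⊆ b \ s := by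
    intro a ha
    rw [List.mem_toFinset] at ha
    simp only [List.map_cons, List.map_nil, List.mem_cons, List.not_mem_nil, or_false] at ha
    rcases ha with rfl | rfl | rfl | rfl
    · exact hz0m
    · exact h1m
    · exact h2m
    · exact h3m
  have hcard := Finset.card_le_card hsub4
  rw [List.toFinset_card_of_nodup hnd', Finset.card_sdiff_of_subset hs, hbk, hst] at hcard
  simp at hcard

/-- a permutation normalising the group is an automorphism of the system -/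
theorem mem_of_normalizes (hS : IsSteinerSystem t (t + 3) B)
    (K : Subgroup (Equiv.Perm (Fin v))) (hK : K ≤ setSystemAut B)
    (htr : ∀ x y : Fin t ↪ Fin v, ∃ g ∈ K, ∀ i, g (x i) = y i)
    {blk0 : Finset (Fin v)} (hblk0 : blk0 ∈ B) (s0 : Fin t ↪ Fin v) (hs0 : ∀ j, s0 j ∈ blk0)
    (t1 t2 t3 : Equiv.Perm (Fin v)) (ht1 : t1 ∈ K) (ht2 : t2 ∈ K) (ht3 : t3 ∈ K)
    (hfix : ∀ j, t1 (s0 j) = s0 j ∧ t2 (s0 j) = s0 j ∧ t3 (s0 j) = s0 j)
    (hnd : ∀ q, q ∉ blk0 → [q, t1 q, t2 q, t3 q].Nodup)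
    (π : Equiv.Perm (Fin v)) (h1 : ∀ g ∈ K, π * g * π⁻¹ ∈ K)
    (h2 : ∀ g ∈ K, π⁻¹ * g * π ∈ K) : π ∈ setSystemAut B := by
  rw [mem_aut_iff']
  intro b
  refine ⟨fun hb => image_mem_of_normalizes hS K hK htr hblk0 s0 hs0 t1 t2 t3 ht1 ht2 ht3 hfix hnd
    π h2 hb, fun hb => ?_⟩
  have h3 := image_mem_of_normalizes hS K hK htr hblk0 s0 hs0 t1 t2 t3 ht1 ht2 ht3 hfix hnd π⁻¹
    (fun g hg => by rw [inv_inv]; exact h1 g hg) hb
  rw [Finset.image_image] at h3
  have : (⇑π⁻¹ ∘ ⇑π : Fin v → Fin v) = id := by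
    funext i; exact π.symm_apply_apply i
  rwa [this, Finset.image_id] at h3

end Cfsg.Agent.Lib.Helper6.NormGeneric2
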