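import Mathlib
import Cfsg.Prelude.Def_Sporadic_a
import Cfsg.Prelude.Def_KGroupFacts
import Cfsg.Agent.Lib.Helper6.M22Out2
import Cfsg.Agent.Lib.Helper6.NormGeneric2
import Cfsg.Agent.Lib.Helper6.OutGeneric

/-! The automorphism group of the group `K22` of the reference system `S(3, 6, 22)`: it is the full
automorphism group of the system, acting by conjugation, and the outer automorphism group has
order two. -/

set_option autoImplicit false
set_option maxRecDepth 1000000

namespace Cfsg.Agent.Lib.Helper6.M22Out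

open Cfsg Cfsg.Agent.Lib.Helper6.SteinerSearch Cfsg.Agent.Lib.Helper6.SteinerG
open Cfsg.Agent.Lib.Helper6.M23Aut Cfsg.Agent.Lib.Helper6.M22Aut
open MulAction
open scoped Pointwise

theorem steiner_X22' : IsSteinerSystem 3 6 X22 := by
  have := steiner_derL (t := 3) (k := 6) steiner_X23
  rwa [derL_X23] at this

/-- the block through the first three points -/
def blk0 : Finset (Fin 22) := dec 22 3145743

theorem blk0_mem : blk0 ∈ X22 := ⟨3145743, by decide +kernel, rfl⟩

theorem x0_mem (j : Fin 3) : x0 j ∈ blk0 := by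
  revert j
  unfold blk0
  simp only [mem_dec]
  decide +kernel

theorem t_fix : ∀ j : Fin 3, t1l.getD (x0 j).val 0 = (x0 j).val ∧ t2l.getD (x0 j).val 0 = (x0 j).val ∧
    t3l.getD (x0 j).val 0 = (x0 j).val := by decide +kernel

theorem t_distinct : ∀ q : Fin 22, Nat.testBit 3145743 q.val = false →
    [q.val, t1l.getD q.val 0, t2l.getD q.val 0, t3l.getD q.val 0].Nodup := by decide +kernel

theorem t_fix' (j : Fin 3) : kperm t1l (x0 j) = x0 j ∧ kperm t2l (x0 j) = x0 j ∧
    kperm t3l (x0 j) = x0 j :=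
  ⟨Fin.ext ((kperm_val t1_chk _).trans (t_fix j).1),
    Fin.ext ((kperm_val t2_chk _).trans (t_fix j).2.1),
    Fin.ext ((kperm_val t3_chk _).trans (t_fix j).2.2)⟩

theorem t_nodup (q : Fin 22) (hq : q ∉ blk0) :
    [q, kperm t1l q, kperm t2l q, kperm t3l q].Nodup := by
  have h1 : Nat.testBit 3145743 q.val = false := by
    rw [blk0, mem_dec] at hq
    simpa using hq
  have h2 := t_distinct q h1
  have h3 : [q, kperm t1l q, kperm t2l q, kperm t3l q].map Fin.val =
      [q.val, t1l.getD q.val 0, t2l.getD q.val 0, t3l.getD q.val 0] := by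
    simp only [List.map_cons, List.map_nil, kperm_val t1_chk, kperm_val t2_chk, kperm_val t3_chk]
  rw [← h3] at h2
  exact List.Nodup.of_map _ h2

/-- a permutation normalising the group is an automorphism of the system -/
theorem mem_of_normalizes (π : Equiv.Perm (Fin 22)) (h1 : ∀ g ∈ K22, π * g * π⁻¹ ∈ K22)
    (h2 : ∀ g ∈ K22, π⁻¹ * g * π ∈ K22) : π ∈ setSystemAut X22 :=
  NormGeneric2.mem_of_normalizes (t := 3) steiner_X22' K22 K22_le K22_trans3 blk0_mem x0 x0_mem
    (kperm t1l) (kperm t2l) (kperm t3l) (kperm_mem t1_chk) (kperm_mem t2_chk) (kperm_mem t3_chk)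
    t_fix' t_nodup π h1 h2

/-- every automorphism of the group is induced by an automorphism of the system -/
theorem exists_conj (φ : K22 ≃* K22) :
    ∃ π ∈ setSystemAut X22, ∀ g : K22, (φ g).1 = π * g.1 * π⁻¹ := by
  have := K22_pretrans'
  obtain ⟨π, hπ⟩ := OutGeneric.exists_perm_of_aut (G := K22) (X := Fin 22)
    (fun H hH => stab_of_index H (by rw [hH, Nat.card_eq_fintype_card, Fintype.card_fin]))
    stab_inj φ
  have hconj : ∀ g : K22, π * g.1 * π⁻¹ = (φ g).1 := by
    intro g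
    ext x
    have := hπ g (π⁻¹ x)
    have h1 : π (π⁻¹ x) = x := π.apply_symm_apply x
    rw [h1] at this
    show (π (g.1 (π⁻¹ x))).val = ((φ g).1 x).val
    exact congrArg Fin.val this
  refine ⟨π, mem_of_normalizes π (fun g hg => by rw [hconj ⟨g, hg⟩]; exact (φ ⟨g, hg⟩).2)
    (fun g hg => ?_), fun g => (hconj g).symm⟩
  have h1 := hconj (φ.symm ⟨g, hg⟩)
  rw [φ.apply_symm_apply] at h1
  have h1' : π * (φ.symm ⟨g, hg⟩).1 * π⁻¹ = g := h1
  have h2 : π⁻¹ * g * π = (φ.symm ⟨g, hg⟩).1 := by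
    generalize (φ.symm ⟨g, hg⟩).1 = k at h1'
    rw [← h1']; group
  rw [h2]
  exact (φ.symm ⟨g, hg⟩).2

/-- the centraliser of the group in the symmetric group is trivial -/
theorem cent_trivial (c : Equiv.Perm (Fin 22)) (hc : ∀ g ∈ K22, c * g = g * c) : c = 1 := by
  by_contra hne
  obtain ⟨x, hx⟩ : ∃ x, c x ≠ x := by
    by_contra hcon
    push Not at hcon
    exact hne (Equiv.ext hcon)
  have h2 : ∀ {a b c d : Fin 22}, a ≠ b → c ≠ d → ∃ g : K22, g • a = c ∧ g • b = d :=
    is_two_pretransitive_iff.1 K22_mtrans2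
  obtain ⟨z, hzx, hzy⟩ : ∃ z : Fin 22, z ≠ x ∧ z ≠ c x := by
    have key : ∀ x y : Fin 22, ∃ z : Fin 22, z ≠ x ∧ z ≠ y := by decide +kernel
    exact key x (c x)
  obtain ⟨g, hgx, hgy⟩ := h2 (a := x) (b := c x) (c := x) (d := z) (Ne.symm hx) (Ne.symm hzx)
  have h3 := congrArg (fun σ : Equiv.Perm (Fin 22) => σ x) (hc g.1 g.2)
  have h4 : c (g.1 x) = g.1 (c x) := h3
  have hgx' : g.1 x = x := hgx
  have hgy' : g.1 (c x) = z := hgy
  rw [hgx', hgy'] at h4
  exact hzy h4.symm

theorem H22_normal : H22.Normal := Subgroup.normal_of_index_eq_two H22_index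

/-- the group is normal in the automorphism group of the system -/
theorem K22_normal (m : Equiv.Perm (Fin 22)) (hm : m ∈ setSystemAut X22) (g : Equiv.Perm (Fin 22))
    (hg : g ∈ K22) : m * g * m⁻¹ ∈ K22 := by
  have hn : (⟨g, K22_le hg⟩ : setSystemAut X22) ∈ H22 := Subgroup.mem_subgroupOf.2 hg
  have := H22_normal.conj_mem _ hn ⟨m, hm⟩
  exact Subgroup.mem_subgroupOf.1 this

/-- conjugation by an automorphism of the system -/
def conjAut (m : setSystemAut X22) : K22 ≃* K22 where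
  toFun g := ⟨m.1 * g.1 * m.1⁻¹, K22_normal m.1 m.2 g.1 g.2⟩
  invFun g := ⟨m.1⁻¹ * g.1 * m.1, by
    have := K22_normal m.1⁻¹ ((setSystemAut X22).inv_mem m.2) g.1 g.2
    rwa [inv_inv] at this⟩
  left_inv g := Subtype.ext (by
    show m.1⁻¹ * (m.1 * g.1 * m.1⁻¹) * m.1 = g.1
    group)
  right_inv g := Subtype.ext (by
    show m.1 * (m.1⁻¹ * g.1 * m.1) * m.1⁻¹ = g.1
    group)
  map_mul' g h := Subtype.ext (by
    show m.1 * (g.1 * h.1) * m.1⁻¹ = (m.1 * g.1 * m.1⁻¹) * (m.1 * h.1 * m.1⁻¹)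
    group)

theorem conjAut_bijective : Function.Bijective conjAut := by
  constructor
  · intro m m' h
    have hc : ∀ g ∈ K22, (m'.1⁻¹ * m.1) * g = g * (m'.1⁻¹ * m.1) := by
      intro g hg
      have h1 := congrArg (fun φ : K22 ≃* K22 => (φ ⟨g, hg⟩).1) h
      have h2 : m.1 * g * m.1⁻¹ = m'.1 * g * m'.1⁻¹ := h1
      have h3 : m.1 * g = m'.1 * g * m'.1⁻¹ * m.1 := by rw [← h2]; group
      calc m'.1⁻¹ * m.1 * g = m'.1⁻¹ * (m.1 * g) := by group
        _ = m'.1⁻¹ * (m'.1 * g * m'.1⁻¹ * m.1) := by rw [h3]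
        _ = g * (m'.1⁻¹ * m.1) := by group
    have := cent_trivial _ hc
    apply Subtype.ext
    rw [inv_mul_eq_one] at this
    exact this.symm
  · intro φ
    obtain ⟨π, hπ, hconj⟩ := exists_conj φ
    refine ⟨⟨π, hπ⟩, ?_⟩
    ext g : 1
    apply Subtype.ext
    exact (hconj g).symm

theorem card_mulAut : Nat.card (MulAut K22) = 887040 := by
  rw [← A22_card]
  exact (Nat.card_congr (Equiv.ofBijective conjAut conjAut_bijective)).symm

theorem conj_injective : Function.Injective (MulAut.conj : K22 →* MulAut K22) := by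
  intro g g' h
  have hc : ∀ k ∈ K22, (g'.1⁻¹ * g.1) * k = k * (g'.1⁻¹ * g.1) := by
    intro k hk
    have h1 := congrArg (fun φ : MulAut K22 => (φ ⟨k, hk⟩).1) h
    have h2 : g.1 * k * g.1⁻¹ = g'.1 * k * g'.1⁻¹ := h1
    have h3 : g.1 * k = g'.1 * k * g'.1⁻¹ * g.1 := by rw [← h2]; group
    calc g'.1⁻¹ * g.1 * k = g'.1⁻¹ * (g.1 * k) := by group
      _ = g'.1⁻¹ * (g'.1 * k * g'.1⁻¹ * g.1) := by rw [h3]
      _ = k * (g'.1⁻¹ * g.1) := by group
  have := cent_trivial _ hc
  apply Subtype.ext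
  rw [inv_mul_eq_one] at this
  exact this.symm

theorem card_inn : Nat.card (Cfsg.Inn K22) = 443520 := by
  rw [← K22_card]
  exact (Nat.card_congr (MonoidHom.ofInjective conj_injective).toEquiv).symm

/-- the outer automorphism group has order two -/
theorem card_out_K22 : Nat.card (Cfsg.Out K22) = 2 := by
  show Nat.card (MulAut K22 ⧸ Cfsg.Inn K22) = 2
  rw [← Subgroup.index_eq_card]
  have := Subgroup.index_mul_card (Cfsg.Inn K22)
  rw [card_inn, card_mulAut] at this
  generalize (Cfsg.Inn K22).index = n at this ⊢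
  omega

end Cfsg.Agent.Lib.Helper6.M22Out
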