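import Mathlib
import Cfsg.Prelude.Def_Sporadic_a
import Cfsg.Agent.Lib.Helper6.M23Out

/-! A permutation of the points normalising the automorphism group of the reference system
`S(4, 7, 23)` is an automorphism of the system. -/

set_option autoImplicit false
set_option maxRecDepth 1000000

namespace Cfsg.Agent.Lib.Helper6.M23Out

open Cfsg Cfsg.Agent.Lib.Helper6.SteinerSearch Cfsg.Agent.Lib.Helper6.SteinerG
open Cfsg.Agent.Lib.Helper6.M23Aut Cfsg.Agent.Lib.Helper6.M22Aut
open MulAction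
open scoped Pointwise

/-- the block through the first four points -/
def blk0 : Finset (Fin 23) := dec 23 7340047

theorem blk0_mem : blk0 ∈ X23 := ⟨7340047, by decide +kernel, rfl⟩

/-- the first four points -/
def s0 : Fin 4 ↪ Fin 23 := Fin.castLEEmb (by norm_num)

theorem s0_mem (j : Fin 4) : s0 j ∈ blk0 := by
  revert j
  unfold blk0
  simp only [mem_dec]
  decide +kernel

theorem t_fix : ∀ j : Fin 4, t1l.getD (s0 j).val 0 = (s0 j).val ∧ t2l.getD (s0 j).val 0 = (s0 j).val ∧
    t3l.getD (s0 j).val 0 = (s0 j).val := by decide +kernel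

theorem t_distinct : ∀ q : Fin 23, Nat.testBit 7340047 q.val = false →
    [q.val, t1l.getD q.val 0, t2l.getD q.val 0, t3l.getD q.val 0].Nodup := by decide +kernel

theorem t1_fix (j : Fin 4) : t1.1 (s0 j) = s0 j := Fin.ext (t_fix j).1
theorem t2_fix (j : Fin 4) : t2.1 (s0 j) = s0 j := Fin.ext (t_fix j).2.1
theorem t3_fix (j : Fin 4) : t3.1 (s0 j) = s0 j := Fin.ext (t_fix j).2.2

theorem t_nodup (q : Fin 23) (hq : q ∉ blk0) : [q, t1.1 q, t2.1 q, t3.1 q].Nodup := by
  have h1 : Nat.testBit 7340047 q.val = false := by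
    rw [blk0, mem_dec] at hq
    simpa using hq
  have h2 := t_distinct q h1
  have h3 : [q, t1.1 q, t2.1 q, t3.1 q].map Fin.val =
      [q.val, t1l.getD q.val 0, t2l.getD q.val 0, t3l.getD q.val 0] := rfl
  rw [← h3] at h2
  exact List.Nodup.of_map _ h2

/-- an automorphism fixing four points of a block preserves the block -/
theorem image_eq_of_fix {u : Equiv.Perm (Fin 23)} (hu : u ∈ A23) {b s : Finset (Fin 23)}
    (hb : b ∈ X23) (hs : s ⊆ b) (hs4 : s.card = 4) (hfix : ∀ a ∈ s, u a = a) : b.image u = b := by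
  obtain ⟨c, _, hc⟩ := steiner_X23.2 s hs4
  have h1 : b.image u ∈ X23 := ((mem_aut_iff' X23 u).1 hu b).1 hb
  have h2 : s ⊆ b.image u := by
    intro a ha
    rw [Finset.mem_image]
    exact ⟨a, hs ha, hfix a ha⟩
  rw [hc _ ⟨h1, h2⟩, hc _ ⟨hb, hs⟩]

/-- a normalising permutation maps blocks to blocks -/
theorem image_mem_of_normalizes (π : Equiv.Perm (Fin 23))
    (hn : ∀ g ∈ A23, π⁻¹ * g * π ∈ A23) {b : Finset (Fin 23)} (hb : b ∈ X23) :
    b.image π ∈ X23 := by
  classical
  have hS := steiner_X23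
  have hb7 : b.card = 7 := hS.1 b hb
  obtain ⟨s, hs, hs4⟩ := Finset.exists_subset_card_eq (s := b) (n := 4) (by rw [hb7]; norm_num)
  set x : Fin 4 ↪ Fin 23 := (s.orderEmbOfFin hs4).toEmbedding with hx
  have hxmem : ∀ j, x j ∈ s := fun j => Finset.orderEmbOfFin_mem s hs4 j
  have hxsurj : ∀ a ∈ s, ∃ j, x j = a := by
    intro a ha
    have : a ∈ Set.range (s.orderEmbOfFin hs4) := by
      rw [Finset.range_orderEmbOfFin]; exact ha
    obtain ⟨j, hj⟩ := this
    exact ⟨j, hj⟩
  -- the block through the image of the four points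
  have hs'4 : (s.image π).card = 4 := by
    rw [Finset.card_image_of_injective _ π.injective, hs4]
  obtain ⟨b', ⟨hb', hsb'⟩, hb'u⟩ := hS.2 (s.image π) hs'4
  -- move the standard four points to the image
  obtain ⟨g, hg⟩ := (isMultiplyPretransitive_iff.1 A23_trans4) s0 (x.trans π.toEmbedding)
  have hgj : ∀ j, g.1 (s0 j) = π (x j) := fun j => congrArg (fun e => e j) hg
  have hgb0 : blk0.image g.1 = b' := by
    apply hb'u
    refine ⟨((mem_aut_iff' X23 g.1).1 g.2 blk0).1 blk0_mem, ?_⟩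
    intro a ha
    rw [Finset.mem_image] at ha
    obtain ⟨a0, ha0, rfl⟩ := ha
    obtain ⟨j, rfl⟩ := hxsurj a0 ha0
    rw [← hgj j]
    exact Finset.mem_image_of_mem _ (s0_mem j)
  suffices hsub : b.image π ⊆ b' by
    have : b.image π = b' := by
      apply Finset.eq_of_subset_of_card_le hsub
      rw [Finset.card_image_of_injective _ π.injective, hb7, hS.1 b' hb']
    rw [this]; exact hb'
  intro y hy
  rw [Finset.mem_image] at hy
  obtain ⟨z, hz, rfl⟩ := hy
  by_contra hzb'
  have hzs : z ∉ s := fun h => hzb' (hsb' (Finset.mem_image_of_mem _ h))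
  set q : Fin 23 := g.1⁻¹ (π z) with hq
  have hgq : g.1 q = π z := by rw [hq]; exact g.1.apply_symm_apply _
  have hqb0 : q ∉ blk0 := by
    intro h
    apply hzb'
    rw [← hgb0, ← hgq]
    exact Finset.mem_image_of_mem _ h
  have hnd := t_nodup q hqb0
  -- the conjugated automorphisms
  have hu : ∀ t : A23, (∀ j, t.1 (s0 j) = s0 j) →
      (π⁻¹ * (g.1 * t.1 * g.1⁻¹) * π) z ∈ b \ s ∧
        (π⁻¹ * (g.1 * t.1 * g.1⁻¹) * π) z = π⁻¹ (g.1 (t.1 q)) := by
    intro t ht
    set u := π⁻¹ * (g.1 * t.1 * g.1⁻¹) * π with hu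
    have humem : u ∈ A23 := hn _ (A23.mul_mem (A23.mul_mem g.2 t.2) (A23.inv_mem g.2))
    have hufix : ∀ a ∈ s, u a = a := by
      intro a ha
      obtain ⟨j, rfl⟩ := hxsurj a ha
      show π⁻¹ (g.1 (t.1 (g.1⁻¹ (π (x j))))) = x j
      rw [← hgj j]
      have : g.1⁻¹ (g.1 (s0 j)) = s0 j := g.1.symm_apply_apply _
      rw [this, ht j, hgj j]
      exact π.symm_apply_apply _
    have hub := image_eq_of_fix humem hb hs hs4 hufix
    have huz : u z = π⁻¹ (g.1 (t.1 q)) := rfl
    refine ⟨?_, huz⟩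
    rw [Finset.mem_sdiff]
    constructor
    · rw [← hub]; exact Finset.mem_image_of_mem _ hz
    · intro h
      have := hufix _ h
      exact hzs (by rw [← u.injective this]; exact h)
  obtain ⟨h1m, h1e⟩ := hu t1 t1_fix
  obtain ⟨h2m, h2e⟩ := hu t2 t2_fix
  obtain ⟨h3m, h3e⟩ := hu t3 t3_fix
  have hz0 : z = π⁻¹ (g.1 q) := by rw [hgq]; exact (π.symm_apply_apply z).symm
  have hz0m : π⁻¹ (g.1 q) ∈ b \ s := by
    rw [← hz0, Finset.mem_sdiff]; exact ⟨hz, hzs⟩
  rw [h1e] at h1m
  rw [h2e] at h2m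
  rw [h3e] at h3m
  have hnd' : ([q, t1.1 q, t2.1 q, t3.1 q].map (fun a => π⁻¹ (g.1 a))).Nodup :=
    List.Nodup.map (fun a a' h => g.1.injective (π⁻¹.injective h)) hnd
  have hsub4 : ([q, t1.1 q, t2.1 q, t3.1 q].map (fun a => π⁻¹ (g.1 a))).toFinset ⊆ b \ s := by
    intro a ha
    rw [List.mem_toFinset] at ha
    simp only [List.map_cons, List.map_nil, List.mem_cons, List.not_mem_nil, or_false] at ha
    rcases ha with rfl | rfl | rfl | rfl
    · exact hz0m
    · exact h1m
    · exact h2m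
    · exact h3m
  have hcard := Finset.card_le_card hsub4
  rw [List.toFinset_card_of_nodup hnd', Finset.card_sdiff_of_subset hs, hb7, hs4] at hcard
  simp at hcard

/-- a permutation normalising the automorphism group is an automorphism -/
theorem mem_of_normalizes (π : Equiv.Perm (Fin 23)) (h1 : ∀ g ∈ A23, π * g * π⁻¹ ∈ A23)
    (h2 : ∀ g ∈ A23, π⁻¹ * g * π ∈ A23) : π ∈ A23 := by
  rw [mem_aut_iff']
  intro b
  refine ⟨fun hb => image_mem_of_normalizes π h2 hb, fun hb => ?_⟩
  have h3 := image_mem_of_normalizes π⁻¹ (fun g hg => by rw [inv_inv]; exact h1 g hg) hb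
  rw [Finset.image_image] at h3
  have : (⇑π⁻¹ ∘ ⇑π : Fin 23 → Fin 23) = id := by
    funext i; exact π.symm_apply_apply i
  rwa [this, Finset.image_id] at h3

/-- every automorphism of the group is inner -/
theorem A23_inner (φ : A23 ≃* A23) : ∃ g : A23, φ = MulAut.conj g :=
  OutGeneric.inner_of_perm A23
    (fun H hH => stab_of_index H (by rw [hH, Nat.card_eq_fintype_card, Fintype.card_fin]))
    stab_inj mem_of_normalizes φ

end Cfsg.Agent.Lib.Helper6.M23Out
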