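import Mathlib
import Cfsg.Prelude.Def_Sporadic_a
import Cfsg.Prelude.Def_Spor_Mathieu
import Cfsg.Agent.Lib.Helper6.M23Out2

/-! The Mathieu group of degree 23 as the automorphism group of the reference system. -/

set_option autoImplicit false

namespace Cfsg.Agent.Lib.Helper6.M23Out

open Cfsg Cfsg.Agent.Lib.Helper6.SteinerSearch Cfsg.Agent.Lib.Helper6.SteinerG
open Cfsg.Agent.Lib.Helper6.M23Aut Cfsg.Agent.Lib.Helper6.M22Aut
open MulAction
open scoped Pointwise

theorem octads_pretrans : IsPretransitive (setSystemAut octads) GolayPt := by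
  have h5 : IsMultiplyPretransitive (setSystemAut octads) GolayPt 5 := by
    rw [hM]; exact Cfsg.Agent.S0366.result
  have h1 : IsMultiplyPretransitive (setSystemAut octads) GolayPt 1 :=
    isMultiplyPretransitive_of_le (n := 5) (by norm_num)
      (by rw [Nat.card_eq_fintype_card]; decide)
  exact is_one_pretransitive_iff.1 h1

/-- the stabiliser of a point in the group of the code, as a subgroup of the symmetric group -/
def stabSubEquiv (p : GolayPt) :
    stabilizer (setSystemAut octads) p ≃*
      ↥(M24 ⊓ stabilizer (Equiv.Perm GolayPt) p) where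
  toFun k := ⟨k.1.1, Subgroup.mem_inf.2 ⟨by rw [← hM]; exact k.1.2, k.2⟩⟩
  invFun t := ⟨⟨t.1, by rw [hM]; exact (Subgroup.mem_inf.1 t.2).1⟩, (Subgroup.mem_inf.1 t.2).2⟩
  left_inv _ := rfl
  right_inv _ := rfl
  map_mul' _ _ := rfl

/-- the automorphism group of the reference system is the Mathieu group of degree 23 -/
noncomputable def m23Equiv : A23 ≃* Cfsg.Spor.M23 := by
  have := octads_pretrans
  have h : orbitRel (setSystemAut octads) GolayPt p24 none := by
    obtain ⟨g, hg⟩ := exists_smul_eq (setSystemAut octads) (none : GolayPt) p24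
    exact ⟨g, hg⟩
  exact (φ23.trans (stabilizerEquivStabilizerOfOrbitRel h)).trans (stabSubEquiv none)

end Cfsg.Agent.Lib.Helper6.M23Out
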