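import Mathlib
import Cfsg.Prelude.Def_Sporadic_a
import Cfsg.Prelude.Def_Spor_Mathieu
import Cfsg.Agent.Lib.Helper6.M22Out3
import Cfsg.Agent.Lib.Helper6.M23Iso

/-! The Mathieu group of degree 22 as the group `K22` of the reference system. -/

set_option autoImplicit false

namespace Cfsg.Agent.Lib.Helper6.M22Out

open Cfsg Cfsg.Agent.Lib.Helper6.SteinerSearch Cfsg.Agent.Lib.Helper6.SteinerG
open Cfsg.Agent.Lib.Helper6.M23Aut Cfsg.Agent.Lib.Helper6.M22Aut
open MulAction
open scoped Pointwise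

/-- two-point stabilisers of conjugate pairs of points are isomorphic -/
def twoStabConj {G X : Type*} [Group G] [MulAction G X] (g : G) (p q : X) :
    ↥(stabilizer G p ⊓ stabilizer G q) ≃* ↥(stabilizer G (g • p) ⊓ stabilizer G (g • q)) :=
  subEquiv (MulAut.conj g) _ _ (by
    intro k
    have key : ∀ x : X, (MulAut.conj g k) • g • x = g • x ↔ k • x = x := by
      intro x
      rw [MulAut.conj_apply, mul_smul, mul_smul, inv_smul_smul, smul_left_cancel_iff]
    rw [Subgroup.mem_inf, Subgroup.mem_inf, mem_stabilizer_iff, mem_stabilizer_iff,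
      mem_stabilizer_iff, mem_stabilizer_iff, key, key])

theorem octads_trans2 : IsMultiplyPretransitive (setSystemAut octads) GolayPt 2 := by
  have h5 : IsMultiplyPretransitive (setSystemAut octads) GolayPt 5 := by
    rw [hM]; exact Cfsg.Agent.S0366.result
  exact isMultiplyPretransitive_of_le (n := 5) (by norm_num)
    (by rw [Nat.card_eq_fintype_card]; decide)

/-- the two-point stabiliser for the octads, as a subgroup of the symmetric group -/
def twoStabSubEquiv :
    ↥(stabilizer (setSystemAut octads) (none : GolayPt) ⊓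
      stabilizer (setSystemAut octads) (some 0 : GolayPt)) ≃* ↥Cfsg.Spor.M22 where
  toFun k := ⟨k.1.1, by
    show k.1.1 ∈ (M24 ⊓ stabilizer (Equiv.Perm GolayPt) (none : GolayPt)) ⊓
      stabilizer (Equiv.Perm GolayPt) (some 0 : GolayPt)
    refine Subgroup.mem_inf.2 ⟨Subgroup.mem_inf.2 ⟨by rw [← hM]; exact k.1.2, ?_⟩, ?_⟩
    · exact (Subgroup.mem_inf.1 k.2).1
    · exact (Subgroup.mem_inf.1 k.2).2⟩
  invFun t := ⟨⟨t.1, by
    have h : t.1 ∈ (M24 ⊓ stabilizer (Equiv.Perm GolayPt) (none : GolayPt)) ⊓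
      stabilizer (Equiv.Perm GolayPt) (some 0 : GolayPt) := t.2
    rw [hM]
    exact (Subgroup.mem_inf.1 (Subgroup.mem_inf.1 h).1).1⟩, by
    have h : t.1 ∈ (M24 ⊓ stabilizer (Equiv.Perm GolayPt) (none : GolayPt)) ⊓
      stabilizer (Equiv.Perm GolayPt) (some 0 : GolayPt) := t.2
    exact Subgroup.mem_inf.2 ⟨(Subgroup.mem_inf.1 (Subgroup.mem_inf.1 h).1).2,
      (Subgroup.mem_inf.1 h).2⟩⟩
  left_inv _ := rfl
  right_inv _ := rfl
  map_mul' _ _ := rfl

/-- the group `K22` is the Mathieu group of degree 22 -/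
noncomputable def m22Equiv : K22 ≃* Cfsg.Spor.M22 := by
  have h2 : ∀ {a b c d : GolayPt}, a ≠ b → c ≠ d →
      ∃ g : setSystemAut octads, g • a = c ∧ g • b = d :=
    is_two_pretransitive_iff.1 octads_trans2
  have hex := h2 (a := p24) (b := q24) (c := (none : GolayPt)) (d := (some 0 : GolayPt))
    p24_ne_q24 (by simp)
  let g := Classical.choose hex
  have hg : g • p24 = none ∧ g • q24 = some 0 := Classical.choose_spec hex
  have e1 := twoStabConj g p24 q24
  rw [hg.1, hg.2] at e1
  exact (k22Equiv.trans e1).trans twoStabSubEquiv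

end Cfsg.Agent.Lib.Helper6.M22Out
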