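import Mathlib
import Cfsg.Prelude.Def_Sporadic_a
import Cfsg.Agent.Lib.Helper6.SteinerWlog

/-! Automorphism groups of the reference Steiner systems: transitivity from strong uniqueness. -/

set_option autoImplicit false

namespace Cfsg.Agent.Lib.Helper6.SteinerSearch

open Cfsg
open scoped Pointwise

variable {v t : ℕ}

theorem smul_finset_eq_image (g : Equiv.Perm (Fin v)) (b : Finset (Fin v)) :
    g • b = b.image g := rfl

theorem mem_aut_iff (X : Set (Finset (Fin v))) (g : Equiv.Perm (Fin v)) :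
    g ∈ setSystemAut X ↔ ∀ b, b ∈ X ↔ b.image g ∈ X := by
  rw [MulAction.mem_stabilizer_iff]
  constructor
  · intro h b
    constructor
    · intro hb
      rw [← h, ← smul_finset_eq_image]
      exact Set.smul_mem_smul_set hb
    · intro hb
      rw [← h] at hb
      obtain ⟨b', hb', e⟩ := hb
      have e' : b'.image g = b.image g := e
      rw [← Finset.image_injective g.injective e']
      exact hb'
  · intro h
    ext c
    constructor
    · rintro ⟨b, hb, rfl⟩
      exact (h b).1 hb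
    · intro hc
      refine ⟨c.image g.symm, ?_, ?_⟩
      · rw [h, image_image_symm]; exact hc
      · show (c.image g.symm).image g = c
        exact image_image_symm g c

/-- the reference system is a Steiner system -/
theorem steiner_B0set (B0 allQ : List ℕ)
    (hallQ : ∀ m < 2 ^ v, popc m v = t → m ∈ allQ)
    (hB0card : ∀ β ∈ B0, popc β v = t + 1)
    (hB0lin : ∀ β ∈ B0, ∀ β' ∈ B0, β = β' ∨ popc (Nat.land β β') v < t)
    (hcov : ∀ S ∈ allQ, covered S B0 = true) : IsSteinerSystem t (t + 1) (B0set v B0) := by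
  constructor
  · rintro b ⟨β, hβ, rfl⟩
    rw [card_dec]; exact hB0card β hβ
  · intro s hs
    obtain ⟨S, hS, rfl⟩ := exists_mask_of_card allQ hallQ s hs
    obtain ⟨β, hβ, hβc⟩ := covered_iff.1 (hcov S hS)
    refine ⟨dec v β, ⟨⟨β, hβ, rfl⟩, dec_subset_of_covB hβc⟩, ?_⟩
    rintro c ⟨⟨β', hβ', rfl⟩, hsub⟩
    rcases hB0lin β hβ β' hβ' with h1 | h1
    · rw [h1]
    · exfalso
      have : t ≤ (dec v β ∩ dec v β').card := by
        rw [← hs]
        exact Finset.card_le_card (Finset.subset_inter (dec_subset_of_covB hβc) hsub)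
      rw [← dec_and, card_dec] at this
      omega

/-- the first `t` points, as an embedding -/
def stdEmb (v t : ℕ) (ht : t ≤ v) : Fin t ↪ Fin v := Fin.castLEEmb ht

theorem stdEmb_val (ht : t ≤ v) (i : Fin t) : (stdEmb v t ht i).val = i.val := rfl

theorem exists_aut_of_embedding (B0 : List ℕ) (ht : t ≤ v)
    (hX : IsSteinerSystem t (t + 1) (B0set v B0))
    (huniq : ∀ B : Set (Finset (Fin v)), IsSteinerSystem t (t + 1) B → GoalP t B B0)
    (y : Fin t ↪ Fin v) :
    ∃ g ∈ setSystemAut (B0set v B0), ∀ i : Fin t, g (stdEmb v t ht i) = y i := by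
  obtain ⟨τ, hτ⟩ := Equiv.Perm.exists_smul_eq_embedding (stdEmb v t ht) y
  obtain ⟨σ, hσfix, hσ⟩ := huniq _ (steiner_imgSys τ.symm hX)
  have hσ' : ∀ b : Finset (Fin v), b.image τ ∈ B0set v B0 ↔ b.image σ ∈ B0set v B0 := by
    intro b
    rw [← hσ]
    unfold imgSys
    rw [Set.mem_ofPred_eq, Equiv.symm_symm]
  refine ⟨τ * σ.symm, ?_, fun i => ?_⟩
  · rw [mem_aut_iff]
    intro c
    have := hσ' (c.image σ.symm)
    rw [image_image_symm] at this
    rw [← this, Finset.image_image]
    rfl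
  · rw [Equiv.Perm.mul_apply]
    have h1 : σ (stdEmb v t ht i) = stdEmb v t ht i := hσfix _ (by rw [stdEmb_val]; exact i.2)
    have h2 : σ.symm (stdEmb v t ht i) = stdEmb v t ht i := by
      rw [Equiv.symm_apply_eq, h1]
    rw [h2]
    have := congrArg (fun f => f i) hτ
    simpa [Function.Embedding.smul_apply] using this

theorem aut_pretransitive (B0 : List ℕ) (ht : t ≤ v)
    (hX : IsSteinerSystem t (t + 1) (B0set v B0))
    (huniq : ∀ B : Set (Finset (Fin v)), IsSteinerSystem t (t + 1) B → GoalP t B B0) :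
    MulAction.IsMultiplyPretransitive (setSystemAut (B0set v B0)) (Fin v) t := by
  rw [MulAction.isMultiplyPretransitive_iff]
  intro x y
  obtain ⟨gx, hgx, hx⟩ := exists_aut_of_embedding B0 ht hX huniq x
  obtain ⟨gy, hgy, hy⟩ := exists_aut_of_embedding B0 ht hX huniq y
  refine ⟨⟨gy, hgy⟩ * ⟨gx, hgx⟩⁻¹, ?_⟩
  ext i
  rw [Function.Embedding.smul_apply]
  show ((gy * gx⁻¹ : Equiv.Perm (Fin v)) (x i)).val = (y i).val
  rw [Equiv.Perm.mul_apply, ← hx i, Equiv.Perm.inv_def, Equiv.symm_apply_apply, hy i]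

theorem aut_sharp (B0 : List ℕ) (ht : t ≤ v)
    (hX : IsSteinerSystem t (t + 1) (B0set v B0))
    (huniq : ∀ B : Set (Finset (Fin v)), IsSteinerSystem t (t + 1) B → GoalP t B B0)
    (hstd : ∀ g ∈ setSystemAut (B0set v B0), (∀ i : Fin v, i.val < t → g i = i) → g = 1)
    (x : Fin t ↪ Fin v) :
    MulAction.stabilizer (setSystemAut (B0set v B0)) x = ⊥ := by
  rw [eq_bot_iff]
  rintro ⟨g, hg⟩ hgx
  rw [MulAction.mem_stabilizer_iff] at hgx
  obtain ⟨h, hh, hx⟩ := exists_aut_of_embedding B0 ht hX huniq x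
  have hfix : ∀ i : Fin t, g (x i) = x i := by
    intro i
    have := congrArg (fun f => f i) hgx
    simpa [Function.Embedding.smul_apply] using this
  have hconj : h⁻¹ * g * h = 1 := by
    apply hstd _ (Subgroup.mul_mem _ (Subgroup.mul_mem _ (Subgroup.inv_mem _ hh) hg) hh)
    intro i hi
    have e : i = stdEmb v t ht ⟨i.val, hi⟩ := Fin.ext rfl
    rw [e, Equiv.Perm.mul_apply, Equiv.Perm.mul_apply, hx, hfix, ← hx, Equiv.Perm.inv_def, Equiv.symm_apply_apply]
  rw [Subgroup.mem_bot]
  apply Subtype.ext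
  show g = 1
  have : g = h * (h⁻¹ * g * h) * h⁻¹ := by group
  rw [this, hconj]; group

end Cfsg.Agent.Lib.Helper6.SteinerSearch
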