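import Mathlib
import Cfsg.Prelude.Def_Sporadic_a
import Cfsg.Agent.Lib.Helper6.SteinerAut

/-! Automorphisms of the reference Steiner systems, in terms of masks. -/

set_option autoImplicit false

namespace Cfsg.Agent.Lib.Helper6.SteinerSearch

open Cfsg

variable {v : ℕ}

theorem pmask_congr {π π' : List ℕ} {b : ℕ} (n : ℕ)
    (h : ∀ i < n, b.testBit i = true → π.getD i 0 = π'.getD i 0) :
    pmask π b n = pmask π' b n := by
  induction n with
  | zero => rfl
  | succ n ih =>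
    unfold pmask
    rw [ih (fun i hi => h i (by omega))]
    cases hb : b.testBit n with
    | false => rfl
    | true => rw [h n (by omega) hb]

theorem dec_pmask_fun (π : List ℕ) (f : Fin v → Fin v) (hπ : ∀ i : Fin v, π.getD i.val 0 = (f i).val)
    (b : ℕ) : dec v (pmask π b v) = (dec v b).image f := by
  ext j
  rw [mem_dec, testBit_pmask, Finset.mem_image]
  constructor
  · rintro ⟨i, hi, h1, h2⟩
    refine ⟨⟨i, hi⟩, mem_dec.2 h1, ?_⟩
    apply Fin.ext
    rw [← hπ]; exact h2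
  · rintro ⟨i, hi, rfl⟩
    exact ⟨i.val, i.2, mem_dec.1 hi, hπ i⟩

theorem pmask_lt (π : List ℕ) (f : Fin v → Fin v) (hπ : ∀ i : Fin v, π.getD i.val 0 = (f i).val)
    (b : ℕ) : pmask π b v < 2 ^ v := by
  apply Nat.lt_pow_two_of_testBit
  intro j hj
  by_contra h
  rw [Bool.not_eq_false, testBit_pmask] at h
  obtain ⟨i, hi, _, h2⟩ := h
  have := hπ ⟨i, hi⟩
  have h3 := (f ⟨i, hi⟩).2
  simp only at this
  omega

theorem eq_of_dec_eq {a b : ℕ} (ha : a < 2 ^ v) (hb : b < 2 ^ v) (h : dec v a = dec v b) :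
    a = b := by
  apply Nat.eq_of_testBit_eq
  intro j
  by_cases hj : j < v
  · have h1 : (⟨j, hj⟩ : Fin v) ∈ dec v a ↔ (⟨j, hj⟩ : Fin v) ∈ dec v b := by rw [h]
    rw [mem_dec, mem_dec] at h1
    cases ha' : a.testBit j <;> cases hb' : b.testBit j <;> simp_all
  · rw [testBit_false_of_lt ha (by omega), testBit_false_of_lt hb (by omega)]

/-- an automorphism maps the masks of the reference system to masks of the reference system -/
theorem lmem_pmask_of_aut (B0 : List ℕ) (hB0lt : ∀ β ∈ B0, β < 2 ^ v)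
    (g : Equiv.Perm (Fin v)) (hg : g ∈ setSystemAut (B0set v B0))
    (π : List ℕ) (hπ : ∀ i : Fin v, π.getD i.val 0 = (g i).val) (β : ℕ) (hβ : β ∈ B0) :
    lmem (pmask π β v) B0 = true := by
  rw [lmem_iff]
  have h1 : dec v β ∈ B0set v B0 := ⟨β, hβ, rfl⟩
  have h2 := ((mem_aut_iff _ g).1 hg (dec v β)).1 h1
  obtain ⟨β', hβ', e⟩ := h2
  rw [← dec_pmask_fun π g hπ β] at e
  rw [← eq_of_dec_eq (hB0lt β' hβ') (pmask_lt π g hπ β) e]
  exact hβ'

end Cfsg.Agent.Lib.Helper6.SteinerSearch
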