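import Mathlib
import Cfsg.Agent.Lib.Helper6.SylowFix

/-! Normalisers of self-centralising subgroups of prime order, and the Sylow count in a subgroup. -/

set_option autoImplicit false

namespace Cfsg.Agent.Lib.Helper6.SylowCount

variable {G : Type*} [Group G] [Finite G] {p : ℕ} [hp : Fact p.Prime]

/-- the normaliser of a self-centralising subgroup of prime order `p` has order dividing
`p (p - 1)` -/
theorem card_normalizer_dvd (y : G) (hy : orderOf y = p)
    (hC : Subgroup.centralizer (Subgroup.zpowers y : Set G) = Subgroup.zpowers y) :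
    Nat.card (Subgroup.normalizer (Subgroup.zpowers y : Set G)) ∣ p * (p - 1) := by
  set H := Subgroup.zpowers y with hH
  have hHcard : Nat.card H = p := by rw [hH, Nat.card_zpowers, hy]
  let f := H.normalizerMonoidHom
  have h1 := Subgroup.index_mul_card f.ker
  rw [Subgroup.index_ker] at h1
  have h2 : Nat.card f.ker = p := by
    rw [Subgroup.normalizerMonoidHom_ker, hC,
      Nat.card_congr (Subgroup.subgroupOfEquivOfLe Subgroup.le_normalizer).toEquiv, hHcard]
  have h3 : Nat.card f.range ∣ p - 1 := by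
    have h4 : Nat.card (MulAut H) = p - 1 := by
      rw [IsCyclic.card_mulAut, hHcard, Nat.totient_prime hp.out]
    rw [← h4]
    exact Subgroup.card_subgroup_dvd_card _
  rw [← h1, h2, mul_comm]
  exact Nat.mul_dvd_mul_left p h3

/-- the order of the normaliser of a Sylow subgroup of order `p` in a subgroup -/
theorem exists_card_normalizer {m : ℕ}
    (hN : ∀ y : G, orderOf y = p →
      Nat.card (Subgroup.normalizer (Subgroup.zpowers y : Set G)) ∣ m)
    (L : Subgroup G) (hpL : p ∣ Nat.card L) (hp2 : ¬ p ^ 2 ∣ Nat.card L) :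
    ∃ d, p ∣ d ∧ d ∣ m ∧ d ∣ Nat.card L ∧ (Nat.card L / d) % p = 1 := by
  obtain ⟨P⟩ : Nonempty (Sylow p L) := Sylow.nonempty
  obtain ⟨k, hk⟩ := IsPGroup.iff_card.1 P.isPGroup'
  have hdvd : p ^ k ∣ Nat.card L := by
    rw [← hk]; exact Subgroup.card_subgroup_dvd_card _
  have hk1 : k ≤ 1 := by
    by_contra hcon
    push Not at hcon
    exact hp2 ((Nat.pow_dvd_pow p hcon).trans hdvd)
  have hpP : p ∣ Nat.card (P : Subgroup L) := P.dvd_card_of_dvd_card hpL
  have hk0 : k ≠ 0 := by
    rintro rfl
    rw [hk, pow_zero, Nat.dvd_one] at hpP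
    exact hp.out.one_lt.ne' hpP
  have hPcard : Nat.card (P : Subgroup L) = p := by
    rw [hk, show k = 1 by omega, pow_one]
  -- a generator
  have hnt : Nontrivial (P : Subgroup L) := by
    rw [← Finite.one_lt_card_iff_nontrivial, hPcard]
    exact hp.out.one_lt
  obtain ⟨y, hy1⟩ := exists_ne (1 : (P : Subgroup L))
  have hyo : orderOf y = p := by
    have h1 : orderOf y ∣ p := by
      have := orderOf_dvd_natCard y
      rwa [hPcard] at this
    rcases (Nat.dvd_prime hp.out).1 h1 with h | h
    · exact absurd (orderOf_eq_one_iff.1 h) hy1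
    · exact h
  have hyL : orderOf (y.1 : L) = p := (Subgroup.orderOf_coe y).trans hyo
  have hyG : orderOf ((y.1 : L) : G) = p := (Subgroup.orderOf_coe y.1).trans hyL
  have hPz : (P : Subgroup L) = Subgroup.zpowers (y.1 : L) := by
    symm
    apply Subgroup.eq_of_le_of_card_ge
    · rw [Subgroup.zpowers_le]; exact y.2
    · rw [hPcard, Nat.card_zpowers, hyL]
  set NL := Subgroup.normalizer ((P : Subgroup L) : Set L) with hNL
  have hidx : NL.index % p = 1 := by
    have h1 := card_sylow_modEq_one p L
    rw [P.card_eq_index_normalizer] at h1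
    unfold Nat.ModEq at h1
    have h1' : NL.index % p = 1 % p := h1
    rw [h1']
    exact Nat.mod_eq_of_lt hp.out.one_lt
  have hmul := Subgroup.index_mul_card NL
  have hNLpos : 0 < Nat.card NL := Nat.card_pos
  refine ⟨Nat.card NL, ?_, ?_, ?_, ?_⟩
  · have := Subgroup.card_dvd_of_le (Subgroup.le_normalizer (H := (P : Subgroup L)))
    rwa [hPcard] at this
  · refine dvd_trans ?_ (hN ((y.1 : L) : G) hyG)
    have hle : NL.map L.subtype ≤
        Subgroup.normalizer (Subgroup.zpowers ((y.1 : L) : G) : Set G) := by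
      rintro _ ⟨n, hn, rfl⟩
      rw [Subgroup.mem_normalizer_iff]
      intro g
      have hmap : Subgroup.zpowers ((y.1 : L) : G) = (Subgroup.zpowers (y.1 : L)).map L.subtype := by
        rw [MonoidHom.map_zpowers]; rfl
      rw [hmap, ← hPz]
      have hn' := Subgroup.mem_normalizer_iff.1 hn
      constructor
      · rintro ⟨g', hg', rfl⟩
        exact ⟨n * g' * n⁻¹, (hn' g').1 hg', rfl⟩
      · rintro ⟨g', hg', hgg⟩
        have hgL : g ∈ L := by
          have h1 : (L.subtype n)⁻¹ * (L.subtype g') * (L.subtype n) = g := by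
            rw [hgg]; group
          rw [← h1]
          exact L.mul_mem (L.mul_mem (L.inv_mem n.2) g'.2) n.2
        refine ⟨⟨g, hgL⟩, ?_, rfl⟩
        apply (hn' ⟨g, hgL⟩).2
        have : n * ⟨g, hgL⟩ * n⁻¹ = g' := Subtype.ext hgg.symm
        rw [this]
        exact hg'
    have hcard : Nat.card (NL.map L.subtype) = Nat.card NL :=
      Nat.card_congr (NL.equivMapOfInjective L.subtype L.subtype_injective).toEquiv.symm
    rw [← hcard]
    exact Subgroup.card_dvd_of_le hle
  · exact Dvd.intro_left _ hmul
  · rw [← hmul, Nat.mul_div_cancel _ hNLpos]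
    exact hidx

open scoped Pointwise in
/-- the normalisers of two subgroups of order `p` have the same order when `p ^ 2` does not divide
the order of the group -/
theorem card_normalizer_eq_of_conj (hp2 : ¬ p ^ 2 ∣ Nat.card G) {y y0 : G} (hy : orderOf y = p)
    (hy0 : orderOf y0 = p) :
    Nat.card (Subgroup.normalizer (Subgroup.zpowers y : Set G)) =
      Nat.card (Subgroup.normalizer (Subgroup.zpowers y0 : Set G)) := by
  obtain ⟨Q, hQ⟩ := SylowFix.exists_sylow_eq hp2 (Subgroup.zpowers y)
    (by rw [Nat.card_zpowers, hy])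
  obtain ⟨Q0, hQ0⟩ := SylowFix.exists_sylow_eq hp2 (Subgroup.zpowers y0)
    (by rw [Nat.card_zpowers, hy0])
  obtain ⟨g, hg⟩ := MulAction.exists_smul_eq G Q Q0
  have h1 : (Subgroup.zpowers y).map (MulAut.conj g).toMonoidHom = Subgroup.zpowers y0 := by
    rw [← hQ, ← hQ0, ← hg, Sylow.coe_subgroup_smul]
    rfl
  rw [← h1]
  have h2 := Subgroup.map_equiv_normalizer_eq (Subgroup.zpowers y) (MulAut.conj g)
  have h3 : Subgroup.normalizer
      (((Subgroup.zpowers y).map (MulAut.conj g).toMonoidHom : Subgroup G) : Set G) =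
      (Subgroup.normalizer (Subgroup.zpowers y : Set G)).map (MulAut.conj g).toMonoidHom :=
    h2.symm
  rw [h3]
  exact Nat.card_congr ((Subgroup.normalizer (Subgroup.zpowers y : Set G)).equivMapOfInjective
    (MulAut.conj g).toMonoidHom (MulAut.conj g).injective).toEquiv

end Cfsg.Agent.Lib.Helper6.SylowCount
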