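import Mathlib
import Cfsg.Prelude.Def_Sporadic_a
import Cfsg.Agent.Lib.Helper6.M23Out
import Cfsg.Agent.Lib.Helper6.SylowCount
import Cfsg.Agent.Lib.Helper6.NormGeneric
import Cfsg.Agent.Lib.Helper6.SteinerAut2
import Cfsg.Agent.S0412

/-! Every automorphism of the automorphism group of the reference system `S(5, 8, 24)` is inner. -/

set_option autoImplicit false
set_option maxRecDepth 1000000

namespace Cfsg.Agent.Lib.Helper6.M24Out

open Cfsg Cfsg.Agent.Lib.Helper6.SteinerSearch Cfsg.Agent.Lib.Helper6.SteinerG
open Cfsg.Agent.Lib.Helper6.M23Aut Cfsg.Agent.Lib.Helper6.M22Aut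
open MulAction
open scoped Pointwise

/-- the automorphism group of the reference system -/
abbrev A24 : Subgroup (Equiv.Perm (Fin 24)) := setSystemAut X24

theorem A24_spec : IsM24 A24 ∧ IsMultiplyPretransitive A24 (Fin 24) 5 :=
  Cfsg.Agent.S0412.result (by simp) steiner_X24

theorem A24_card : Nat.card A24 = 244823040 := A24_spec.1.2

instance A24_finite : Finite A24 := Nat.finite_of_card_ne_zero (by rw [A24_card]; norm_num)

theorem A24_trans5 : IsMultiplyPretransitive A24 (Fin 24) 5 := A24_spec.2

theorem A24_trans2 : IsMultiplyPretransitive A24 (Fin 24) 2 := by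
  have := A24_trans5
  exact isMultiplyPretransitive_of_le (n := 5) (by norm_num)
    (by rw [Nat.card_eq_fintype_card, Fintype.card_fin]; norm_num)

instance A24_pretrans : IsPretransitive A24 (Fin 24) := by
  have := A24_trans5
  have h1 : IsMultiplyPretransitive A24 (Fin 24) 1 :=
    isMultiplyPretransitive_of_le (n := 5) (by norm_num)
      (by rw [Nat.card_eq_fintype_card, Fintype.card_fin]; norm_num)
  exact is_one_pretransitive_iff.1 h1

theorem smul_val (g : A24) (i : Fin 24) : g • i = g.1 i := rfl

theorem c24s : sincr S24.B0 = true := by decide +kernel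

theorem c24lt : ∀ p ∈ S24.B0, p < 2 ^ 24 := by decide +kernel

/-- an automorphism given by a list -/
noncomputable def autL (l : List ℕ) (hv : validPerm 24 l = true)
    (h : S24.B0.all (fun b => lmem (pmask l b 24) S24.B0) = true) : A24 :=
  ⟨lperm 24 l hv, aut_of_check S24.B0 c24lt (nodup_of_sincr _ c24s) l hv h⟩

theorem autL_pow_eq_one (l : List ℕ) (hv : validPerm 24 l = true)
    (h : S24.B0.all (fun b => lmem (pmask l b 24) S24.B0) = true) (n : ℕ)
    (hn : ∀ i : Fin 24, (fun j => l.getD j 0)^[n] i.val = i.val) : autL l hv h ^ n = 1 := by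
  apply Subtype.ext
  apply Equiv.ext
  intro i
  apply Fin.ext
  show ((lperm 24 l hv ^ n) i).val = i.val
  rw [M23Out.lperm_pow_val, hn]

/-- an element of order eleven -/
def y0l : List ℕ := [0, 2, 4, 20, 21, 10, 7, 11, 19, 1, 9, 14, 5, 12, 15, 23, 16, 22, 6, 18, 8, 17, 13, 3]
/-- three involutions fixing a block pointwise -/
def t1l : List ℕ := [0, 1, 2, 3, 4, 5, 6, 7, 9, 8, 11, 10, 13, 12, 15, 14, 17, 16, 19, 18, 21, 20, 23, 22]
def t2l : List ℕ := [0, 1, 2, 3, 4, 5, 6, 7, 10, 11, 8, 9, 14, 15, 12, 13, 18, 19, 16, 17, 22, 23, 20, 21]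
def t3l : List ℕ := [0, 1, 2, 3, 4, 5, 6, 7, 11, 10, 9, 8, 15, 14, 13, 12, 19, 18, 17, 16, 23, 22, 21, 20]

theorem y0_valid : validPerm 24 y0l = true := by decide +kernel
theorem t1_valid : validPerm 24 t1l = true := by decide +kernel
theorem t2_valid : validPerm 24 t2l = true := by decide +kernel
theorem t3_valid : validPerm 24 t3l = true := by decide +kernel
theorem y0_chk : S24.B0.all (fun b => lmem (pmask y0l b 24) S24.B0) = true := by decide +kernel
theorem t1_chk : S24.B0.all (fun b => lmem (pmask t1l b 24) S24.B0) = true := by decide +kernel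
theorem t2_chk : S24.B0.all (fun b => lmem (pmask t2l b 24) S24.B0) = true := by decide +kernel
theorem t3_chk : S24.B0.all (fun b => lmem (pmask t3l b 24) S24.B0) = true := by decide +kernel

noncomputable def y0 : A24 := autL y0l y0_valid y0_chk
noncomputable def t1 : A24 := autL t1l t1_valid t1_chk
noncomputable def t2 : A24 := autL t2l t2_valid t2_chk
noncomputable def t3 : A24 := autL t3l t3_valid t3_chk

theorem y0_order : orderOf y0 = 11 := by
  have : Fact (Nat.Prime 11) := ⟨by norm_num⟩
  apply orderOf_eq_prime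
  · exact autL_pow_eq_one _ _ _ 11 (by decide +kernel)
  · intro h
    have := congrArg (fun g : A24 => (g.1 1).val) h
    revert this
    show y0l.getD 1 0 = 1 → False
    decide +kernel

/-! ### The centraliser of the element of order eleven -/

/-- the table of the points in terms of representatives of the cycles -/
def repT : List (ℕ × ℕ) := [(0, 0), (2, 0), (2, 1), (3, 0), (2, 2), (2, 8), (3, 5), (3, 6), (3, 2), (2, 10), (2, 9), (3, 7), (2, 7), (2, 6), (3, 8), (3, 9), (1, 0), (2, 4), (3, 4), (3, 3), (3, 1), (2, 3), (2, 5), (3, 10)]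

/-- the iterates of the element of order eleven -/
def pwN (i x : ℕ) : ℕ := (fun j => y0l.getD j 0)^[i] x

/-- the candidate determined by the images of the representatives -/
def candL (G : List ℕ) : List ℕ := repT.map (fun ri => pwN ri.2 (G.getD ri.1 0))

/-- the powers as lists -/
def powL (i : ℕ) : List ℕ := (List.range 24).map (pwN i)

/-- the representatives of the cycles -/
def reps : List ℕ := [0, 16, 1, 3]

theorem repT_spec : ∀ x : Fin 24, pwN (repT.getD x.val (0, 0)).2
    (reps.getD (repT.getD x.val (0, 0)).1 0) = x.val ∧ (repT.getD x.val (0, 0)).1 < 4 := by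
  decide +kernel

/-- the check of the centraliser -/
def centChk : Bool :=
  [(0, 16), (16, 0)].all fun aa => (List.range 24).all fun b => (List.range 24).all fun c =>
    (List.range 11).any (fun i => decide (candL [aa.1, aa.2, b, c] = powL i)) ||
      !(S24.B0.all (fun β => lmem (pmask (candL [aa.1, aa.2, b, c]) β 24) S24.B0))

set_option maxHeartbeats 4000000 in
theorem centChk_ok : centChk = true := by decide +kernel

theorem y0_fixed : ∀ x : Fin 24, y0l.getD x.val 0 = x.val → x.val = 0 ∨ x.val = 16 := by
  decide +kernel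

theorem y0_pow_val (i : ℕ) (x : Fin 24) : ((y0.1 ^ i) x).val = pwN i x.val :=
  M23Out.lperm_pow_val 24 y0l y0_valid i x

/-- the centraliser of the element of order eleven is generated by it -/
theorem cent_y0 (g : A24) (hg : g * y0 = y0 * g) : g ∈ Subgroup.zpowers y0 := by
  have hcomm : Commute g.1 y0.1 := congrArg Subtype.val hg
  have hpow : ∀ (i : ℕ) (r : Fin 24), g.1 ((y0.1 ^ i) r) = (y0.1 ^ i) (g.1 r) := by
    intro i r
    have := (hcomm.pow_right i).eq
    exact congrArg (fun e : Equiv.Perm (Fin 24) => e r) this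
  -- the images of the fixed points are fixed points
  have hfixed : ∀ r : Fin 24, y0.1 r = r → (g.1 r).val = 0 ∨ (g.1 r).val = 16 := by
    intro r hr
    apply y0_fixed
    have h1 := hpow 1 r
    rw [pow_one, hr] at h1
    have h2 : (y0.1 (g.1 r)).val = (g.1 r).val := by rw [← h1]
    exact h2
  have h0 := hfixed 0 (Fin.ext (by show y0l.getD 0 0 = 0; decide +kernel))
  have h16 := hfixed 16 (Fin.ext (by show y0l.getD 16 0 = 16; decide +kernel))
  set G : List ℕ := [(g.1 0).val, (g.1 16).val, (g.1 1).val, (g.1 3).val] with hG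
  -- the values of the automorphism
  have hval : ∀ x : Fin 24, (candL G).getD x.val 0 = (g.1 x).val := by
    intro x
    obtain ⟨h1, h2⟩ := repT_spec x
    have hlen : x.val < repT.length := by
      have : repT.length = 24 := by decide +kernel
      rw [this]; exact x.2
    unfold candL
    rw [List.getD_eq_getElem _ _ (by rw [List.length_map]; exact hlen), List.getElem_map]
    rw [List.getD_eq_getElem _ _ hlen] at h1 h2
    set ri := repT[x.val] with hri
    -- the representative as a point
    have hr4 : ri.1 < 4 := h2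
    have hrep : ∃ r : Fin 24, r.val = reps.getD ri.1 0 ∧ G.getD ri.1 0 = (g.1 r).val := by
      have : ri.1 = 0 ∨ ri.1 = 1 ∨ ri.1 = 2 ∨ ri.1 = 3 := by omega
      rcases this with h | h | h | h <;> rw [h]
      · exact ⟨0, rfl, rfl⟩
      · exact ⟨16, rfl, rfl⟩
      · exact ⟨1, rfl, rfl⟩
      · exact ⟨3, rfl, rfl⟩
    obtain ⟨r, hr1, hr2⟩ := hrep
    have hx : x = (y0.1 ^ ri.2) r := by
      apply Fin.ext
      rw [y0_pow_val, hr1]
      exact h1.symm
    rw [hr2, ← y0_pow_val, ← hpow, ← hx]
  -- the blocks are preserved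
  have hblk : S24.B0.all (fun β => lmem (pmask (candL G) β 24) S24.B0) = true := by
    rw [List.all_eq_true]
    intro β hβ
    exact lmem_pmask_of_aut S24.B0 c24lt g.1 g.2 (candL G) hval β hβ
  -- use the check
  have hchk := centChk_ok
  unfold centChk at hchk
  rw [List.all_eq_true] at hchk
  have hne : (g.1 0).val ≠ (g.1 16).val := by
    intro h
    have := g.1.injective (Fin.ext h)
    exact absurd this (by decide)
  have ha : ((g.1 0).val, (g.1 16).val) ∈ [(0, 16), (16, 0)] := by
    rcases h0 with h | h <;> rcases h16 with h' | h' <;> rw [h, h'] at hne ⊢ <;> simp at hne ⊢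
  have h2 := hchk _ ha
  rw [List.all_eq_true] at h2
  have h3 := h2 _ (List.mem_range.2 (g.1 1).2)
  rw [List.all_eq_true] at h3
  have h4 := h3 _ (List.mem_range.2 (g.1 3).2)
  have h5 : (List.range 11).any (fun i => decide (candL G = powL i)) = true := by
    rw [Bool.or_eq_true, Bool.not_eq_true'] at h4
    rcases h4 with h | h
    · exact h
    · rw [← hG, hblk] at h; exact absurd h (by decide)
  rw [List.any_eq_true] at h5
  obtain ⟨i, _, hi⟩ := h5
  rw [decide_eq_true_eq] at hi
  rw [Subgroup.mem_zpowers_iff]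
  refine ⟨(i : ℤ), ?_⟩
  rw [zpow_natCast]
  apply Subtype.ext
  apply Equiv.ext
  intro x
  apply Fin.ext
  show ((y0.1 ^ i) x).val = (g.1 x).val
  rw [y0_pow_val, ← hval x, hi]
  unfold powL
  rw [List.getD_eq_getElem _ _ (by rw [List.length_map, List.length_range]; exact x.2),
    List.getElem_map, List.getElem_range]

theorem centralizer_y0 :
    Subgroup.centralizer (Subgroup.zpowers y0 : Set A24) = Subgroup.zpowers y0 := by
  apply le_antisymm
  · intro g hg
    rw [Subgroup.mem_centralizer_iff] at hg
    exact cent_y0 g (hg y0 (Subgroup.mem_zpowers y0)).symm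
  · intro g hg
    rw [Subgroup.mem_centralizer_iff]
    intro h hh
    rw [SetLike.mem_coe, Subgroup.mem_zpowers_iff] at hh
    rw [Subgroup.mem_zpowers_iff] at hg
    obtain ⟨k, rfl⟩ := hh
    obtain ⟨j, rfl⟩ := hg
    exact (Commute.zpow_zpow_self y0 k j).eq

theorem not_sq_11 : ¬ 11 ^ 2 ∣ Nat.card A24 := by rw [A24_card]; norm_num

/-- the normaliser of a subgroup of order eleven has order dividing 110 -/
theorem card_normalizer_11 (y : A24) (hy : orderOf y = 11) :
    Nat.card (Subgroup.normalizer (Subgroup.zpowers y : Set A24)) ∣ 110 := by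
  have : Fact (Nat.Prime 11) := ⟨by norm_num⟩
  rw [SylowCount.card_normalizer_eq_of_conj not_sq_11 hy y0_order]
  exact SylowCount.card_normalizer_dvd y0 y0_order centralizer_y0

end Cfsg.Agent.Lib.Helper6.M24Out
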