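import Mathlib
import Cfsg.Prelude.Def_Sporadic_a
import Cfsg.Agent.Lib.Helper6.M24Out
import Cfsg.Agent.Lib.Helper6.OutGeneric

/-! Subgroups of index 24 in the automorphism group of the reference system `S(5, 8, 24)`, and the
innerness of all automorphisms of the group. -/

set_option autoImplicit false
set_option maxRecDepth 1000000

namespace Cfsg.Agent.Lib.Helper6.M24Out

open Cfsg Cfsg.Agent.Lib.Helper6.SteinerSearch Cfsg.Agent.Lib.Helper6.SteinerG
open Cfsg.Agent.Lib.Helper6.M23Aut Cfsg.Agent.Lib.Helper6.M22Aut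
open MulAction
open scoped Pointwise

theorem stab_of_index (H : Subgroup A24) (hH : H.index = 24) :
    ∃ x : Fin 24, H = stabilizer A24 x := by
  classical
  have hHc : Nat.card H = 10200960 := by
    have := Subgroup.index_mul_card H
    rw [hH, A24_card] at this
    omega
  have : Fact (Nat.Prime 23) := ⟨by norm_num⟩
  have : Fact (Nat.Prime 11) := ⟨by norm_num⟩
  obtain ⟨z, hz⟩ := exists_prime_orderOf_dvd_card' (G := H) 23 (by rw [hHc]; norm_num)
  have hz' : orderOf z.1 = 23 := by rw [Subgroup.orderOf_coe]; exact hz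
  have hz23 : z.1.1 ^ 23 = 1 := by
    have := pow_orderOf_eq_one z.1
    rw [hz'] at this
    exact congrArg Subtype.val this
  have hz1 : z.1.1 ≠ 1 := by
    intro h
    have : z.1 = 1 := Subtype.ext h
    rw [this, orderOf_one] at hz'
    exact absurd hz' (by norm_num)
  -- the fixed point of the element of order 23
  set F : Finset (Fin 24) := Finset.univ.filter (fun x => z.1.1 x = x) with hF
  have hF23 := SylowFix.card_modEq_fixed z.1.1 23 hz23 Finset.univ (fun x _ => Finset.mem_univ _)
  rw [Finset.card_univ, Fintype.card_fin] at hF23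
  have hFle : F.card ≤ 24 := by
    have := Finset.card_le_univ F
    rwa [Fintype.card_fin] at this
  have hFne : F.card ≠ 24 := by
    intro h
    apply hz1
    have hFu : F = Finset.univ := by
      apply Finset.eq_univ_of_card
      rw [h, Fintype.card_fin]
    ext x : 1
    have : x ∈ F := by rw [hFu]; exact Finset.mem_univ x
    rw [hF, Finset.mem_filter] at this
    rw [this.2]
    rfl
  have hF1 : F.card = 1 := by
    unfold Nat.ModEq at hF23
    rw [← hF] at hF23
    omega
  obtain ⟨f, hf⟩ := Finset.card_eq_one.1 hF1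
  have hfix : ∀ x : Fin 24, z.1.1 x = x ↔ x = f := by
    intro x
    have : x ∈ F ↔ x = f := by rw [hf, Finset.mem_singleton]
    rw [← this, hF, Finset.mem_filter]
    simp
  refine ⟨f, ?_⟩
  -- the orbit of the fixed point
  set Ω : Finset (Fin 24) := Finset.univ.filter (fun x => x ∈ orbit H f) with hΩ
  have hmemΩ : ∀ x, x ∈ Ω ↔ x ∈ orbit H f := fun x => by rw [hΩ, Finset.mem_filter]; simp
  have hinvΩ : ∀ k : H, ∀ x ∈ Ω, k.1.1 x ∈ Ω := by
    intro k x hx
    rw [hmemΩ] at hx ⊢
    obtain ⟨h, rfl⟩ := hx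
    exact ⟨k * h, rfl⟩
  have h23 := SylowFix.card_modEq_fixed z.1.1 23 hz23 Ω (hinvΩ z)
  have hfixΩ : Ω.filter (fun x => z.1.1 x = x) = {f} := by
    ext x
    rw [Finset.mem_filter, Finset.mem_singleton, hmemΩ]
    constructor
    · rintro ⟨_, hx⟩
      exact (hfix x).1 hx
    · rintro rfl
      exact ⟨mem_orbit_self x, (hfix x).2 rfl⟩
  rw [hfixΩ, Finset.card_singleton] at h23
  have hΩcard : Ω.card = (orbit H f).ncard := by
    rw [← Set.ncard_coe_finset]
    congr 1
    ext x
    rw [Finset.mem_coe, hmemΩ]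
  have hle : Ω.card ≤ 24 := by
    have := Finset.card_le_univ Ω
    rwa [Fintype.card_fin] at this
  have hcases : Ω.card = 1 ∨ Ω.card = 24 := by
    unfold Nat.ModEq at h23
    omega
  rcases hcases with hone | h24
  · have hfixH : ∀ k : H, k.1 • f = f := by
      intro k
      have h1 : k.1.1 f ∈ Ω := hinvΩ k f ((hmemΩ f).2 (mem_orbit_self f))
      obtain ⟨a, ha⟩ := Finset.card_eq_one.1 hone
      rw [ha, Finset.mem_singleton] at h1
      have h2 : f ∈ Ω := (hmemΩ f).2 (mem_orbit_self f)
      rw [ha, Finset.mem_singleton] at h2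
      show k.1.1 f = f
      rw [h1, h2]
    have hle' : H ≤ stabilizer A24 f := fun k hk => hfixH ⟨k, hk⟩
    apply Subgroup.eq_of_le_of_card_ge hle'
    have h1 := Subgroup.index_mul_card (stabilizer A24 f)
    rw [index_stabilizer_of_transitive, Nat.card_eq_fintype_card, Fintype.card_fin, A24_card] at h1
    rw [hHc]
    omega
  · -- the transitive case is excluded by counting Sylow subgroups
    exfalso
    have hidx : (stabilizer H f).index = 24 := by rw [index_stabilizer, ← hΩcard, h24]
    have hL0 : Nat.card (stabilizer H f) = 425040 := by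
      have := Subgroup.index_mul_card (stabilizer H f)
      rw [hidx, hHc] at this
      omega
    set L : Subgroup A24 := (stabilizer H f).map H.subtype with hL
    have hLcard : Nat.card L = 425040 := by
      rw [← hL0]
      exact Nat.card_congr ((stabilizer H f).equivMapOfInjective H.subtype
        H.subtype_injective).toEquiv.symm
    obtain ⟨d, hd1, hd2, hd3, hd4⟩ := SylowCount.exists_card_normalizer (p := 11) (m := 110)
      card_normalizer_11 L (by rw [hLcard]; norm_num) (by rw [hLcard]; norm_num)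
    rw [hLcard] at hd3 hd4
    have hd110 : d ≤ 110 := Nat.le_of_dvd (by norm_num) hd2
    have hdpos : 0 < d := Nat.pos_of_dvd_of_pos hd2 (by norm_num)
    interval_cases d <;> omega

/-- the block through the first five points -/
def blk0 : Finset (Fin 24) := dec 24 255

theorem blk0_mem : blk0 ∈ X24 := ⟨255, by decide +kernel, rfl⟩

/-- the first five points -/
def s0 : Fin 5 ↪ Fin 24 := Fin.castLEEmb (by norm_num)

theorem s0_mem (j : Fin 5) : s0 j ∈ blk0 := by
  revert j
  unfold blk0
  simp only [mem_dec]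
  decide +kernel

theorem t_fix : ∀ j : Fin 5, t1l.getD (s0 j).val 0 = (s0 j).val ∧ t2l.getD (s0 j).val 0 = (s0 j).val ∧
    t3l.getD (s0 j).val 0 = (s0 j).val := by decide +kernel

theorem t_distinct : ∀ q : Fin 24, Nat.testBit 255 q.val = false →
    [q.val, t1l.getD q.val 0, t2l.getD q.val 0, t3l.getD q.val 0].Nodup := by decide +kernel

theorem t_fix' (j : Fin 5) : t1.1 (s0 j) = s0 j ∧ t2.1 (s0 j) = s0 j ∧ t3.1 (s0 j) = s0 j :=
  ⟨Fin.ext (t_fix j).1, Fin.ext (t_fix j).2.1, Fin.ext (t_fix j).2.2⟩

theorem t_nodup (q : Fin 24) (hq : q ∉ blk0) : [q, t1.1 q, t2.1 q, t3.1 q].Nodup := by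
  have h1 : Nat.testBit 255 q.val = false := by
    rw [blk0, mem_dec] at hq
    simpa using hq
  have h2 := t_distinct q h1
  have h3 : [q, t1.1 q, t2.1 q, t3.1 q].map Fin.val =
      [q.val, t1l.getD q.val 0, t2l.getD q.val 0, t3l.getD q.val 0] := rfl
  rw [← h3] at h2
  exact List.Nodup.of_map _ h2

/-- a permutation normalising the automorphism group is an automorphism -/
theorem mem_of_normalizes (π : Equiv.Perm (Fin 24)) (h1 : ∀ g ∈ A24, π * g * π⁻¹ ∈ A24)
    (h2 : ∀ g ∈ A24, π⁻¹ * g * π ∈ A24) : π ∈ A24 :=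
  NormGeneric.mem_of_normalizes (t := 5) steiner_X24 A24_trans5 blk0_mem s0 s0_mem t1 t2 t3
    t_fix' t_nodup π h1 h2

/-- every automorphism of the group is inner -/
theorem A24_inner (φ : A24 ≃* A24) : ∃ g : A24, φ = MulAut.conj g :=
  OutGeneric.inner_of_perm A24
    (fun H hH => stab_of_index H (by rw [hH, Nat.card_eq_fintype_card, Fintype.card_fin]))
    (NormGeneric.stab_inj (by norm_num) A24_trans2) mem_of_normalizes φ

/-- the automorphism group of the reference system is the group of the code -/
noncomputable def m24Equiv : A24 ≃* M24 :=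
  (autEquiv e24 he24).trans (MulEquiv.subgroupCongr hM)

end Cfsg.Agent.Lib.Helper6.M24Out
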