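import Cfsg.Agent.Lib.Helper6.MatChain
import Cfsg.Agent.Lib.Helper6.SylowSimple

/-! # Words in coded generators as elements of GL₇(11); Sylow lists and normal-closure certificates

`gen : ℕ → GL₇(11)` realises the letters; the generator list `S` holds the codes of `gen 0`,
`gen 1`, `gen 2 = (gen 0)⁻¹`, `gen 3 = (gen 1)⁻¹`; all other letters denote `1`. -/

set_option autoImplicit false

namespace Cfsg.Agent.Lib.Helper6.MatN

open Cfsg.Agent.Lib.Helper6.SylowSimple

/-- powers of a code -/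
def powC (e : ℕ) : ℕ → ℕ
  | 0 => lone
  | n + 1 => lmul e (powC e n)

/-- the inverse letter -/
def invL : ℕ → ℕ
  | 0 => 2
  | 1 => 3
  | 2 => 0
  | 3 => 1
  | n => n

/-- the inverse word -/
def invW (w : List ℕ) : List ℕ := (w.map invL).reverse

/-- the value of a certificate: the product of the conjugates `v * e ^ n * v⁻¹` -/
def certVal (S : List ℕ) (e : ℕ) (cert : List (List ℕ × ℕ)) : ℕ :=
  cert.foldr (fun vn acc =>
    lmul (lmul (lmul (evalW S vn.1) (powC e vn.2)) (evalW S (invW vn.1))) acc) lone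

/-- data of a Sylow subgroup: for each element its code, a word for it, and certificates that
the two generators lie in its normal closure -/
abbrev SylData := List (ℕ × List ℕ × List (List ℕ × ℕ) × List (List ℕ × ℕ))

/-- the test of the data of a Sylow subgroup -/
def sylOK (S : List ℕ) (tX tY : ℕ) (D : SylData) : Bool :=
  D.all (fun d => d.1 == evalW S d.2.1) &&
  (D.map fun d => d.1).contains lone &&
  (D.map fun d => d.1).all (fun a => (D.map fun d => d.1).all fun b =>
    (D.map fun d => d.1).contains (lmul a b)) &&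
  decide (D.map fun d => d.1).Nodup &&
  D.all (fun d => d.1 == lone ||
    (certVal S d.1 d.2.2.1 == tX && certVal S d.1 d.2.2.2 == tY))

section gl

variable (S : List ℕ) (gen : ℕ → GL (Fin 7) (ZMod 11))

/-- the value of a word in the group -/
def evalGL (w : List ℕ) : GL (Fin 7) (ZMod 11) := (w.map gen).prod

variable {S gen}
variable (hgen : ∀ i, ((gen i : GL (Fin 7) (ZMod 11)) : Matrix (Fin 7) (Fin 7) (ZMod 11)) =
  toM (S.getD i lone))

include hgen in
theorem val_evalGL (w : List ℕ) :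
    ((evalGL gen w : GL (Fin 7) (ZMod 11)) : Matrix (Fin 7) (Fin 7) (ZMod 11)) =
      toM (evalW S w) := by
  induction w with
  | nil => rw [evalW_nil, toM_lone]; rfl
  | cons i w ih =>
    rw [evalW_cons, toM_lmul, ← ih, ← hgen i]
    show ((gen i * evalGL gen w : GL (Fin 7) (ZMod 11)) : Matrix (Fin 7) (Fin 7) (ZMod 11)) = _
    rw [Units.val_mul]

theorem evalGL_mem (H : Subgroup (GL (Fin 7) (ZMod 11))) (hH : ∀ i, gen i ∈ H) (w : List ℕ) :
    evalGL gen w ∈ H := by
  unfold evalGL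
  apply Subgroup.list_prod_mem
  intro x hx
  obtain ⟨i, -, rfl⟩ := List.mem_map.1 hx
  exact hH i

theorem evalGL_invW (hinv : ∀ i, gen (invL i) = (gen i)⁻¹) (w : List ℕ) :
    evalGL gen (invW w) = (evalGL gen w)⁻¹ := by
  unfold evalGL invW
  rw [List.prod_inv_reverse, List.map_reverse, List.map_map, List.map_map]
  have : gen ∘ invL = (fun x => x⁻¹) ∘ gen := by
    funext i
    exact hinv i
  rw [this]

theorem val_pow {e : GL (Fin 7) (ZMod 11)} {c : ℕ}
    (he : (e : Matrix (Fin 7) (Fin 7) (ZMod 11)) = toM c) (n : ℕ) :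
    ((e ^ n : GL (Fin 7) (ZMod 11)) : Matrix (Fin 7) (Fin 7) (ZMod 11)) = toM (powC c n) := by
  induction n with
  | zero => rw [pow_zero, powC, toM_lone]; rfl
  | succ n ih => rw [pow_succ', Units.val_mul, powC, toM_lmul, he, ih]

/-- the group element of a certificate -/
def certGL (gen : ℕ → GL (Fin 7) (ZMod 11)) (e : GL (Fin 7) (ZMod 11))
    (cert : List (List ℕ × ℕ)) : GL (Fin 7) (ZMod 11) :=
  (cert.map fun vn => evalGL gen vn.1 * e ^ vn.2 * (evalGL gen vn.1)⁻¹).prod

include hgen in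
theorem val_certGL (hinv : ∀ i, gen (invL i) = (gen i)⁻¹) {e : GL (Fin 7) (ZMod 11)} {c : ℕ}
    (he : (e : Matrix (Fin 7) (Fin 7) (ZMod 11)) = toM c) (cert : List (List ℕ × ℕ)) :
    ((certGL gen e cert : GL (Fin 7) (ZMod 11)) : Matrix (Fin 7) (Fin 7) (ZMod 11)) =
      toM (certVal S c cert) := by
  induction cert with
  | nil =>
    show ((1 : GL (Fin 7) (ZMod 11)) : Matrix (Fin 7) (Fin 7) (ZMod 11)) = toM lone
    rw [toM_lone]; rfl
  | cons vn cert ih =>
    show ((evalGL gen vn.1 * e ^ vn.2 * (evalGL gen vn.1)⁻¹ * certGL gen e cert :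
      GL (Fin 7) (ZMod 11)) : Matrix (Fin 7) (Fin 7) (ZMod 11)) =
      toM (lmul (lmul (lmul (evalW S vn.1) (powC c vn.2)) (evalW S (invW vn.1)))
        (certVal S c cert))
    rw [toM_lmul, toM_lmul, toM_lmul, ← ih, ← val_evalGL hgen, ← val_evalGL hgen,
      ← val_pow he, evalGL_invW hinv]
    simp only [Units.val_mul]

theorem inNC_certGL (H : Subgroup (GL (Fin 7) (ZMod 11))) (hH : ∀ i, gen i ∈ H) (e : ↥H)
    (cert : List (List ℕ × ℕ)) : InNC H e (certGL gen e.1 cert) := by
  induction cert with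
  | nil => exact InNC.one H e
  | cons vn cert ih =>
    show InNC H e (evalGL gen vn.1 * e.1 ^ vn.2 * (evalGL gen vn.1)⁻¹ * certGL gen e.1 cert)
    exact (((InNC.self H e).pow _).conj (evalGL_mem H hH _)).mul ih

include hgen in
/-- what the test of Sylow data gives -/
theorem sylOK_sound (hinv : ∀ i, gen (invL i) = (gen i)⁻¹)
    (H : Subgroup (GL (Fin 7) (ZMod 11))) (hH : ∀ i, gen i ∈ H)
    {tX tY : ℕ} {gx gy : GL (Fin 7) (ZMod 11)}
    (hgx : (gx : Matrix (Fin 7) (Fin 7) (ZMod 11)) = toM tX)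
    (hgy : (gy : Matrix (Fin 7) (Fin 7) (ZMod 11)) = toM tY)
    {D : SylData} (hD : sylOK S tX tY D = true) :
    ∃ F : Finset (GL (Fin 7) (ZMod 11)), 1 ∈ F ∧ (∀ a ∈ F, ∀ b ∈ F, a * b ∈ F) ∧
      (∀ a ∈ F, a ∈ H) ∧ F.card = D.length ∧
      ∀ (a : GL (Fin 7) (ZMod 11)) (ha : a ∈ H), a ∈ F → a ≠ 1 →
        InNC H ⟨a, ha⟩ gx ∧ InNC H ⟨a, ha⟩ gy := by
  unfold sylOK at hD
  simp only [Bool.and_eq_true, List.all_eq_true, decide_eq_true_eq, beq_iff_eq,
    Bool.or_eq_true] at hD
  obtain ⟨⟨⟨⟨h1, h2⟩, h3⟩, h4⟩, h5⟩ := hD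
  -- the value of an entry
  have hval : ∀ d ∈ D, ((evalGL gen d.2.1 : GL (Fin 7) (ZMod 11)) :
      Matrix (Fin 7) (Fin 7) (ZMod 11)) = toM d.1 := by
    intro d hd
    rw [val_evalGL hgen, ← h1 d hd]
  have hcanon : ∀ d ∈ D, Canon d.1 := by
    intro d hd
    rw [h1 d hd]; exact canon_evalW _ _
  -- equal codes give equal entries
  have hinj : ∀ d ∈ D, ∀ d' ∈ D, evalGL gen d.2.1 = evalGL gen d'.2.1 → d = d' := by
    intro d hd d' hd' h
    have hc : d.1 = d'.1 := by
      apply toM_inj (hcanon d hd) (hcanon d' hd')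
      rw [← hval d hd, ← hval d' hd', h]
    exact List.inj_on_of_nodup_map h4 hd hd' hc
  refine ⟨(D.map fun d => evalGL gen d.2.1).toFinset, ?_, ?_, ?_, ?_, ?_⟩
  · -- one
    rw [List.contains_iff_mem, List.mem_map] at h2
    obtain ⟨d, hd, hd1⟩ := h2
    rw [List.mem_toFinset, List.mem_map]
    refine ⟨d, hd, Units.ext ?_⟩
    rw [hval d hd, hd1, toM_lone]; rfl
  · -- products
    intro a ha b hb
    rw [List.mem_toFinset, List.mem_map] at ha hb ⊢
    obtain ⟨d, hd, rfl⟩ := ha
    obtain ⟨d', hd', rfl⟩ := hb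
    have := h3 d.1 (List.mem_map.2 ⟨d, hd, rfl⟩) d'.1 (List.mem_map.2 ⟨d', hd', rfl⟩)
    rw [List.contains_iff_mem, List.mem_map] at this
    obtain ⟨d'', hd'', hc⟩ := this
    refine ⟨d'', hd'', Units.ext ?_⟩
    rw [hval d'' hd'', hc, toM_lmul, Units.val_mul, hval d hd, hval d' hd']
  · -- membership
    intro a ha
    rw [List.mem_toFinset, List.mem_map] at ha
    obtain ⟨d, -, rfl⟩ := ha
    exact evalGL_mem H hH _
  · -- cardinality
    rw [List.toFinset_card_of_nodup, List.length_map]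
    exact List.Nodup.map_on hinj (List.Nodup.of_map _ h4)
  · -- certificates
    intro a ha haF hne
    rw [List.mem_toFinset, List.mem_map] at haF
    obtain ⟨d, hd, rfl⟩ := haF
    rcases h5 d hd with h6 | ⟨h6, h7⟩
    · exfalso
      apply hne
      apply Units.ext
      rw [hval d hd, h6, toM_lone]; rfl
    · have e1 : certGL gen (evalGL gen d.2.1) d.2.2.1 = gx := by
        apply Units.ext
        rw [val_certGL hgen hinv (hval d hd), h6, hgx]
      have e2 : certGL gen (evalGL gen d.2.1) d.2.2.2 = gy := by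
        apply Units.ext
        rw [val_certGL hgen hinv (hval d hd), h7, hgy]
      have i1 := inNC_certGL H hH ⟨evalGL gen d.2.1, ha⟩ d.2.2.1
      have i2 := inNC_certGL H hH ⟨evalGL gen d.2.1, ha⟩ d.2.2.2
      rw [e1] at i1
      rw [e2] at i2
      exact ⟨i1, i2⟩

end gl

end Cfsg.Agent.Lib.Helper6.MatN
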