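import Cfsg.Agent.Lib.Helper6.MatN

/-! # A verified subgroup-chain bound for matrix groups given by coded generators

For a list `S` of codes, `Nmon S` is the monoid of matrices they generate.  A *level* consists of
a list `U` of codes (a transversal), the generators `S'` of the next monoid, and certificates
`s * u = u' * (word in S')` for all `s ∈ S`, `u ∈ U`.  A checked chain of levels ending in the
empty generator list shows that `Nmon S` is contained in the set of products `u₀ u₁ ⋯ uᵣ`. -/

set_option autoImplicit false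

namespace Cfsg.Agent.Lib.Helper6.MatN

/-- one level of a chain -/
structure Level where
  /-- the transversal -/
  U : List ℕ
  /-- for every `u` (in order), for every generator (in order): index into `U`, word in `S'` -/
  cert : List (List (ℕ × List ℕ))
  /-- the generators of the next level -/
  S' : List ℕ

/-- the test of one certificate -/
def pairOK (U S' : List ℕ) (u : ℕ) (sc : ℕ × (ℕ × List ℕ)) : Bool :=
  match U[sc.2.1]? with
  | some u' => lmul sc.1 u == lmul u' (evalW S' sc.2.2)
  | none => false

/-- the test of a level with generators `S` -/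
def levelOK (S : List ℕ) (L : Level) : Bool :=
  L.U.contains lone && (L.cert.length == L.U.length) &&
    (L.U.zip L.cert).all fun uc =>
      (uc.2.length == S.length) && (S.zip uc.2).all (pairOK L.U L.S' uc.1)

/-- the test of a chain -/
def chainOK : List ℕ → List Level → Bool
  | S, [] => S.isEmpty
  | S, L :: Ls => levelOK S L && chainOK L.S' Ls

theorem exists_zip_of_mem {α β : Type*} {l₁ : List α} {l₂ : List β} {a : α} (ha : a ∈ l₁)
    (hlen : l₁.length ≤ l₂.length) : ∃ b, (a, b) ∈ l₁.zip l₂ := by
  obtain ⟨i, hi, rfl⟩ := List.mem_iff_getElem.1 ha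
  have hi2 : i < l₂.length := lt_of_lt_of_le hi hlen
  refine ⟨l₂[i], ?_⟩
  have hz : i < (l₁.zip l₂).length := by
    rw [List.length_zip]; exact lt_min hi hi2
  have := List.getElem_mem hz
  rwa [List.getElem_zip] at this

theorem level_sound {S : List ℕ} {L : Level} (h : levelOK S L = true) :
    lone ∈ L.U ∧ ∀ s ∈ S, ∀ u ∈ L.U, ∃ u' ∈ L.U, ∃ w, lmul s u = lmul u' (evalW L.S' w) := by
  unfold levelOK at h
  rw [Bool.and_eq_true, Bool.and_eq_true, List.all_eq_true] at h
  obtain ⟨⟨h1, h2⟩, h3⟩ := h
  refine ⟨by simpa using h1, ?_⟩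
  intro s hs u hu
  have hlen : L.U.length ≤ L.cert.length := by
    have := beq_iff_eq.1 h2
    omega
  obtain ⟨c, hc⟩ := exists_zip_of_mem hu hlen
  have h4 := h3 _ hc
  rw [Bool.and_eq_true, List.all_eq_true] at h4
  obtain ⟨h5, h6⟩ := h4
  have hlen2 : S.length ≤ c.length := by
    have := beq_iff_eq.1 h5
    simp only at this
    omega
  obtain ⟨jw, hjw⟩ := exists_zip_of_mem hs hlen2
  have h7 := h6 _ hjw
  unfold pairOK at h7
  simp only at h7
  split at h7
  · rename_i u' hu'
    refine ⟨u', List.mem_of_getElem? hu', jw.2, ?_⟩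
    exact beq_iff_eq.1 h7
  · exact absurd h7 (by simp)

/-- the finite set of products along a chain -/
noncomputable def Tfin : List Level → Finset (Matrix (Fin 7) (Fin 7) (ZMod 11))
  | [] => {1}
  | L :: Ls => Finset.image₂ (fun u t => toM u * t) L.U.toFinset (Tfin Ls)

theorem Tfin_card_le : ∀ Ls : List Level, (Tfin Ls).card ≤ (Ls.map fun L => L.U.length).prod
  | [] => by simp [Tfin]
  | L :: Ls => by
    rw [Tfin, List.map_cons, List.prod_cons]
    refine (Finset.card_image₂_le _ _ _).trans ?_
    exact Nat.mul_le_mul (List.toFinset_card_le _) (Tfin_card_le Ls)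

theorem Nmon_nil : Nmon [] = ⊥ := by
  unfold Nmon
  rw [eq_bot_iff]
  apply Submonoid.closure_le.2
  rintro m ⟨s, hs, -⟩
  exact absurd hs (List.not_mem_nil)

theorem chain_sound : ∀ (Ls : List Level) (S : List ℕ), chainOK S Ls = true →
    ∀ g ∈ Nmon S, g ∈ Tfin Ls
  | [], S, h, g, hg => by
    unfold chainOK at h
    have hS : S = [] := by simpa using h
    rw [hS, Nmon_nil, Submonoid.mem_bot] at hg
    rw [hg, Tfin]; exact Finset.mem_singleton_self _
  | L :: Ls, S, h, g, hg => by
    unfold chainOK at h
    rw [Bool.and_eq_true] at h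
    obtain ⟨hL, hrest⟩ := h
    have ih := chain_sound Ls L.S' hrest
    obtain ⟨hone, hstep⟩ := level_sound hL
    -- every element of `Nmon S` is `toM u * n` with `u ∈ L.U`, `n ∈ Nmon L.S'`
    have key : ∀ g ∈ Nmon S, ∃ u ∈ L.U, ∃ n ∈ Nmon L.S', g = toM u * n := by
      intro g hg
      unfold Nmon at hg
      induction hg using Submonoid.closure_induction_left with
      | one => exact ⟨lone, hone, 1, Submonoid.one_mem _, by rw [toM_lone, mul_one]⟩
      | mul_left x hx y _ ihy =>
        obtain ⟨s, hs, rfl⟩ := hx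
        obtain ⟨u, hu, n, hn, rfl⟩ := ihy
        obtain ⟨u', hu', w, hw⟩ := hstep s hs u hu
        refine ⟨u', hu', toM (evalW L.S' w) * n, Submonoid.mul_mem _ (toM_evalW_mem _ _) hn, ?_⟩
        rw [← mul_assoc, ← toM_lmul, hw, toM_lmul, mul_assoc]
    obtain ⟨u, hu, n, hn, rfl⟩ := key g hg
    rw [Tfin, Finset.mem_image₂]
    exact ⟨u, List.mem_toFinset.2 hu, n, ih n hn, rfl⟩

end Cfsg.Agent.Lib.Helper6.MatN
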