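import Cfsg.Agent.Lib.Helper6.MatCert

/-! # Certified lists of conjugates of a coded matrix

The conjugates are listed in increasing order of their codes (so that distinctness is a linear
check), in chunks (so that access is cheap); each entry names an entry of smaller depth of which
it is the conjugate by a letter, or is the root. -/

set_option autoImplicit false

namespace Cfsg.Agent.Lib.Helper6.MatN

/-- strictly increasing, as a Boolean test -/
def sortedB : List ℕ → Bool
  | [] => true
  | [_] => true
  | a :: b :: l => Nat.blt a b && sortedB (b :: l)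

theorem sortedB_pairwise : ∀ l : List ℕ, sortedB l = true → l.Pairwise (· < ·)
  | [], _ => List.Pairwise.nil
  | [_], _ => List.pairwise_singleton _ _
  | a :: b :: l, h => by
    unfold sortedB at h
    rw [Bool.and_eq_true] at h
    have hab : a < b := by
      have := h.1
      rwa [Nat.blt_eq] at this
    have ih := sortedB_pairwise (b :: l) h.2
    rw [List.pairwise_cons]
    refine ⟨?_, ih⟩
    intro x hx
    rcases List.mem_cons.1 hx with rfl | hx
    · exact hab
    · exact hab.trans ((List.pairwise_cons.1 ih).1 x hx)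

theorem sortedB_nodup {l : List ℕ} (h : sortedB l = true) : l.Nodup :=
  (sortedB_pairwise l h).imp (fun hab => Nat.ne_of_lt hab)

/-- an entry: code, index of the parent, letter, depth -/
abbrev ClEntry := ℕ × ℕ × ℕ × ℕ

/-- access into a chunked list -/
def getCh {α : Type} (Ch : List (List α)) (k i : ℕ) : Option α :=
  (Ch[i / k]?).bind fun chunk => chunk[i % k]?

theorem getCh_mem {α : Type} {Ch : List (List α)} {k i : ℕ} {x : α}
    (h : getCh Ch k i = some x) : x ∈ Ch.flatten := by
  unfold getCh at h
  rw [Option.bind_eq_some_iff] at h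
  obtain ⟨chunk, hc, hx⟩ := h
  exact List.mem_flatten.2 ⟨chunk, List.mem_of_getElem? hc, List.mem_of_getElem? hx⟩

/-- the test of one entry -/
def entryOK (S : List ℕ) (Ch : List (List ClEntry)) (k root : ℕ) (e : ClEntry) : Bool :=
  (Nat.beq e.2.2.2 0 && Nat.beq e.1 root) ||
    match getCh Ch k e.2.1 with
    | some p => Nat.blt p.2.2.2 e.2.2.2 &&
        Nat.beq e.1 (lmul (lmul (S.getD e.2.2.1 lone) p.1) (S.getD (invL e.2.2.1) lone))
    | none => false

/-- the test of a chunked list of conjugates -/
def classOK (S : List ℕ) (Ch : List (List ClEntry)) (k root : ℕ) : Bool :=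
  sortedB (Ch.flatten.map fun e => e.1) && Ch.flatten.all (entryOK S Ch k root)

variable {S : List ℕ} {gen : ℕ → GL (Fin 7) (ZMod 11)}

theorem classOK_sound
    (hgen : ∀ i, ((gen i : GL (Fin 7) (ZMod 11)) : Matrix (Fin 7) (Fin 7) (ZMod 11)) =
      toM (S.getD i lone))
    (hinv : ∀ i, gen (invL i) = (gen i)⁻¹)
    (H : Subgroup (GL (Fin 7) (ZMod 11))) (hH : ∀ i, gen i ∈ H)
    {Ch : List (List ClEntry)} {k root : ℕ} (h : classOK S Ch k root = true)
    (e : GL (Fin 7) (ZMod 11))
    (he : (e : Matrix (Fin 7) (Fin 7) (ZMod 11)) = toM root) (hcan : Canon root) :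
    (Ch.flatten.map fun e => e.1).Nodup ∧ (∀ c ∈ Ch.flatten.map fun e => e.1, Canon c) ∧
      ∀ c ∈ Ch.flatten.map fun e => e.1, ∃ g ∈ H, ((g * e * g⁻¹ : GL (Fin 7) (ZMod 11)) :
        Matrix (Fin 7) (Fin 7) (ZMod 11)) = toM c := by
  unfold classOK at h
  rw [Bool.and_eq_true, List.all_eq_true] at h
  obtain ⟨h1, h2⟩ := h
  have main : ∀ n, ∀ x ∈ Ch.flatten, x.2.2.2 ≤ n → Canon x.1 ∧ ∃ g ∈ H,
      ((g * e * g⁻¹ : GL (Fin 7) (ZMod 11)) : Matrix (Fin 7) (Fin 7) (ZMod 11)) = toM x.1 := by
    intro n
    induction n with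
    | zero =>
      intro x hx hd
      have h3 := h2 x hx
      unfold entryOK at h3
      rw [Bool.or_eq_true] at h3
      rcases h3 with h3 | h3
      · rw [Bool.and_eq_true] at h3
        have hroot : x.1 = root := Nat.eq_of_beq_eq_true h3.2
        rw [hroot]
        exact ⟨hcan, 1, H.one_mem, by rw [one_mul, inv_one, mul_one, he]⟩
      · exfalso
        split at h3
        · rename_i p hp
          rw [Bool.and_eq_true] at h3
          have : p.2.2.2 < x.2.2.2 := by
            have := h3.1
            rwa [Nat.blt_eq] at this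
          omega
        · exact absurd h3 (by simp)
    | succ n ih =>
      intro x hx hd
      have h3 := h2 x hx
      unfold entryOK at h3
      rw [Bool.or_eq_true] at h3
      rcases h3 with h3 | h3
      · rw [Bool.and_eq_true] at h3
        have hroot : x.1 = root := Nat.eq_of_beq_eq_true h3.2
        rw [hroot]
        exact ⟨hcan, 1, H.one_mem, by rw [one_mul, inv_one, mul_one, he]⟩
      · split at h3
        · rename_i p hp
          rw [Bool.and_eq_true] at h3
          have hlt : p.2.2.2 < x.2.2.2 := by
            have := h3.1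
            rwa [Nat.blt_eq] at this
          have hval : x.1 = lmul (lmul (S.getD x.2.2.1 lone) p.1)
              (S.getD (invL x.2.2.1) lone) := Nat.eq_of_beq_eq_true h3.2
          obtain ⟨-, g, hg, hgv⟩ := ih p (getCh_mem hp) (by omega)
          rw [hval]
          refine ⟨canon_lmul _ _, gen x.2.2.1 * g, H.mul_mem (hH _) hg, ?_⟩
          rw [toM_lmul, toM_lmul, ← hgv, ← hgen, ← hgen, hinv]
          simp only [Units.val_mul, mul_inv_rev, mul_assoc]
        · exact absurd h3 (by simp)
  refine ⟨sortedB_nodup h1, ?_, ?_⟩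
  · intro c hc
    obtain ⟨x, hx, rfl⟩ := List.mem_map.1 hc
    exact (main x.2.2.2 x hx le_rfl).1
  · intro c hc
    obtain ⟨x, hx, rfl⟩ := List.mem_map.1 hc
    exact (main x.2.2.2 x hx le_rfl).2

end Cfsg.Agent.Lib.Helper6.MatN
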