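import Mathlib

/-! # Computable 7 × 7 matrices over `ZMod 11`, coded as natural numbers

A matrix is coded by the natural number whose base-11 digit at place `7 * i + j` is the entry
`(i, j)`.  Every natural number denotes a matrix (`toM`); multiplication of codes (`lmul`) is
arithmetic on naturals only, which the kernel evaluates with its fast arithmetic. -/

set_option autoImplicit false

namespace Cfsg.Agent.Lib.Helper6.MatN

/-- entry `(i, j)` of the coded matrix -/
def ent (a i j : ℕ) : ℕ := Nat.mod (Nat.div a (Nat.pow 11 (Nat.add (Nat.mul 7 i) j))) 11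

theorem ent_eq (a i j : ℕ) : ent a i j = a / 11 ^ (7 * i + j) % 11 := rfl

/-- the denoted matrix -/
def toM (a : ℕ) : Matrix (Fin 7) (Fin 7) (ZMod 11) := fun i j => (ent a i.val j.val : ZMod 11)

/-- the number with the given base-11 digits (lowest first) -/
def ofDig : List ℕ → ℕ
  | [] => 0
  | d :: L => Nat.add d (Nat.mul 11 (ofDig L))

theorem ofDig_cons (d : ℕ) (L : List ℕ) : ofDig (d :: L) = d + 11 * ofDig L := rfl

/-- entry of the product -/
def pent (a b i j : ℕ) : ℕ :=
  Nat.mod (Nat.add (Nat.add (Nat.add (Nat.add (Nat.add (Nat.add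
    (Nat.mul (ent a i 0) (ent b 0 j)) (Nat.mul (ent a i 1) (ent b 1 j)))
    (Nat.mul (ent a i 2) (ent b 2 j))) (Nat.mul (ent a i 3) (ent b 3 j)))
    (Nat.mul (ent a i 4) (ent b 4 j))) (Nat.mul (ent a i 5) (ent b 5 j)))
    (Nat.mul (ent a i 6) (ent b 6 j))) 11

theorem pent_eq (a b i j : ℕ) : pent a b i j =
    (ent a i 0 * ent b 0 j + ent a i 1 * ent b 1 j + ent a i 2 * ent b 2 j +
      ent a i 3 * ent b 3 j + ent a i 4 * ent b 4 j + ent a i 5 * ent b 5 j +
      ent a i 6 * ent b 6 j) % 11 := rfl

/-- product of codes -/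
def lmul (a b : ℕ) : ℕ :=
  ofDig ((List.range 49).map fun t => pent a b (Nat.div t 7) (Nat.mod t 7))

theorem ofDig_digit : ∀ (L : List ℕ) (_ : ∀ d ∈ L, d < 11) (t : ℕ),
    ofDig L / 11 ^ t % 11 = L.getD t 0
  | [], _, t => by simp [ofDig]
  | d :: L, h, 0 => by
    have hd : d < 11 := h d (List.mem_cons_self ..)
    simp only [ofDig_cons, pow_zero, Nat.div_one, List.getD_cons_zero]
    rw [Nat.add_mul_mod_self_left, Nat.mod_eq_of_lt hd]
  | d :: L, h, t + 1 => by
    have hd : d < 11 := h d (List.mem_cons_self ..)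
    have ih := ofDig_digit L (fun e he => h e (List.mem_cons_of_mem _ he)) t
    simp only [ofDig_cons, List.getD_cons_succ]
    rw [pow_succ', ← Nat.div_div_eq_div_mul, Nat.add_mul_div_left _ _ (by norm_num : 0 < 11),
      Nat.div_eq_of_lt hd, zero_add]
    exact ih

theorem ofDig_lt : ∀ (L : List ℕ) (_ : ∀ d ∈ L, d < 11), ofDig L < 11 ^ L.length
  | [], _ => by simp [ofDig]
  | d :: L, h => by
    have hd : d < 11 := h d (List.mem_cons_self ..)
    have ih := ofDig_lt L (fun e he => h e (List.mem_cons_of_mem _ he))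
    rw [ofDig_cons, List.length_cons, pow_succ']
    have : 11 * (ofDig L + 1) ≤ 11 * 11 ^ L.length := Nat.mul_le_mul_left _ ih
    omega

theorem ent_lmul (a b : ℕ) (i j : Fin 7) : ent (lmul a b) i.val j.val = pent a b i.val j.val := by
  rw [ent_eq]
  unfold lmul
  rw [ofDig_digit]
  · have ht : 7 * i.val + j.val < 49 := by omega
    rw [List.getD_eq_getElem _ _ (by simpa using ht)]
    simp only [List.getElem_map, List.getElem_range]
    have h1 : Nat.div (7 * i.val + j.val) 7 = i.val := by
      show (7 * i.val + j.val) / 7 = i.val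
      omega
    have h2 : Nat.mod (7 * i.val + j.val) 7 = j.val := by
      show (7 * i.val + j.val) % 7 = j.val
      omega
    rw [h1, h2]
  · intro d hd
    simp only [List.mem_map, List.mem_range] at hd
    obtain ⟨t, _, rfl⟩ := hd
    rw [pent_eq]
    exact Nat.mod_lt _ (by norm_num)

theorem toM_lmul (a b : ℕ) : toM (lmul a b) = toM a * toM b := by
  ext i j
  rw [Matrix.mul_apply, Fin.sum_univ_seven]
  simp only [toM]
  rw [ent_lmul, pent_eq, ZMod.natCast_mod]
  push_cast
  rfl

/-- the code of the identity matrix -/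
def lone : ℕ := 97017234237464720195340918138392575865960457120487

theorem ent_lone : ∀ i j : Fin 7, ent lone i.val j.val = if i = j then 1 else 0 := by decide

theorem toM_lone : toM lone = 1 := by
  ext i j
  simp only [toM]
  rw [ent_lone, Matrix.one_apply]
  split <;> simp

/-! ### canonical codes -/

/-- a code is canonical if it has at most 49 digits -/
def Canon (a : ℕ) : Prop := a < 11 ^ 49

theorem canon_lmul (a b : ℕ) : Canon (lmul a b) := by
  unfold Canon lmul
  have := ofDig_lt ((List.range 49).map fun t => pent a b (Nat.div t 7) (Nat.mod t 7)) (by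
    intro d hd
    simp only [List.mem_map, List.mem_range] at hd
    obtain ⟨t, _, rfl⟩ := hd
    rw [pent_eq]
    exact Nat.mod_lt _ (by norm_num))
  simpa using this

theorem canon_lone : Canon lone := by
  unfold Canon lone
  norm_num

/-- a number below `11 ^ n` is determined by its lowest `n` digits -/
theorem eq_of_digits : ∀ (n a b : ℕ), a < 11 ^ n → b < 11 ^ n →
    (∀ t < n, a / 11 ^ t % 11 = b / 11 ^ t % 11) → a = b
  | 0, a, b, ha, hb, _ => by
    simp only [pow_zero, Nat.lt_one_iff] at ha hb
    rw [ha, hb]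
  | n + 1, a, b, ha, hb, h => by
    have h0 := h 0 (Nat.succ_pos n)
    simp only [pow_zero, Nat.div_one] at h0
    have ha' : a / 11 < 11 ^ n := by
      rw [Nat.div_lt_iff_lt_mul (by norm_num : 0 < 11)]
      rw [pow_succ] at ha; exact ha
    have hb' : b / 11 < 11 ^ n := by
      rw [Nat.div_lt_iff_lt_mul (by norm_num : 0 < 11)]
      rw [pow_succ] at hb; exact hb
    have hrec := eq_of_digits n (a / 11) (b / 11) ha' hb' (by
      intro t ht
      have := h (t + 1) (Nat.succ_lt_succ ht)
      rw [pow_succ', ← Nat.div_div_eq_div_mul, ← Nat.div_div_eq_div_mul] at this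
      exact this)
    have e1 := Nat.div_add_mod a 11
    have e2 := Nat.div_add_mod b 11
    omega

theorem toM_inj {a b : ℕ} (ha : Canon a) (hb : Canon b) (h : toM a = toM b) : a = b := by
  apply eq_of_digits 49 a b ha hb
  intro t ht
  have hij := congrFun (congrFun h ⟨t / 7, by omega⟩) ⟨t % 7, Nat.mod_lt _ (by norm_num)⟩
  simp only [toM, ent_eq] at hij
  have e : 7 * (t / 7) + t % 7 = t := Nat.div_add_mod t 7
  rw [e] at hij
  have h1 : a / 11 ^ t % 11 < 11 := Nat.mod_lt _ (by norm_num)
  have h2 : b / 11 ^ t % 11 < 11 := Nat.mod_lt _ (by norm_num)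
  have := congrArg ZMod.val hij
  rwa [ZMod.val_natCast_of_lt h1, ZMod.val_natCast_of_lt h2] at this

attribute [irreducible] lmul

/-! ### words -/

/-- the value of a word in the generators `S` (out-of-range letters denote the identity) -/
def evalW (S : List ℕ) (w : List ℕ) : ℕ := w.foldr (fun i acc => lmul (S.getD i lone) acc) lone

theorem evalW_nil (S : List ℕ) : evalW S [] = lone := rfl

theorem evalW_cons (S : List ℕ) (i : ℕ) (w : List ℕ) :
    evalW S (i :: w) = lmul (S.getD i lone) (evalW S w) := rfl

theorem canon_evalW (S : List ℕ) (w : List ℕ) : Canon (evalW S w) := by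
  cases w with
  | nil => exact canon_lone
  | cons i w => exact canon_lmul _ _

/-- the submonoid of matrices generated by a list of codes -/
def Nmon (S : List ℕ) : Submonoid (Matrix (Fin 7) (Fin 7) (ZMod 11)) :=
  Submonoid.closure {m | ∃ s ∈ S, toM s = m}

theorem toM_mem_Nmon {S : List ℕ} {s : ℕ} (hs : s ∈ S) : toM s ∈ Nmon S :=
  Submonoid.subset_closure ⟨s, hs, rfl⟩

theorem toM_evalW_mem (S : List ℕ) (w : List ℕ) : toM (evalW S w) ∈ Nmon S := by
  induction w with
  | nil => rw [evalW_nil, toM_lone]; exact (Nmon S).one_mem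
  | cons i w ih =>
    rw [evalW_cons, toM_lmul]
    refine (Nmon S).mul_mem ?_ ih
    by_cases hi : i < S.length
    · rw [List.getD_eq_getElem _ _ hi]
      exact toM_mem_Nmon (List.getElem_mem hi)
    · rw [List.getD_eq_default _ _ (not_lt.1 hi), toM_lone]
      exact (Nmon S).one_mem

end Cfsg.Agent.Lib.Helper6.MatN
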