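import Mathlib
import Cfsg.Prelude.Def_Transfer
import Cfsg.Prelude.Def_Solvable

/-!
# S3905, piece P4: Frobenius packaging and the reduction of Part II to `G ⧸ Z(N)`

(helper6) Pure group theory.  `frobenius_package` turns the output of the Centerless Lemma
(`N = A ⋊ ⟨x₀⟩`, `A` abelian normal of exponent `p`, every nontrivial power of `x₀` fixed point free
on `A`) into the Frobenius data of the statement.  `partII` carries the hypotheses of S3905 to
`G ⧸ Z(N)` and brings the conclusion back to `↥N ⧸ center ↥N`.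
-/

set_option autoImplicit false

namespace Cfsg.Agent.Lib.Helper6.MaxCent

open Subgroup
open scoped Pointwise commutatorElement

universe u

section Package

variable {X : Type*} [Group X]

theorem mem_conj_smul_iff (g x : X) (H : Subgroup X) :
    x ∈ MulAut.conj g • H ↔ g⁻¹ * x * g ∈ H := by
  rw [Subgroup.mem_pointwise_smul_iff_inv_smul_mem, MulAut.smul_def, MulAut.conj_inv_apply]

theorem commute_of_mem_zpowers {x y : X} (h : y ∈ zpowers x) : y * x = x * y := by
  obtain ⟨k, rfl⟩ := mem_zpowers_iff.mp h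
  exact ((Commute.refl x).zpow_left k).eq

theorem exists_pow_of_mem_zpowers [Finite X] {x y : X} (h : y ∈ zpowers x) : ∃ k : ℕ, y = x ^ k := by
  have h' : y ∈ Submonoid.powers x := (isOfFinOrder_of_finite x).mem_powers_iff_mem_zpowers.mpr h
  obtain ⟨k, hk⟩ := (Submonoid.mem_powers_iff _ _).mp h'
  exact ⟨k, hk.symm⟩

variable [Finite X] (A : Subgroup X) [hAn : A.Normal] (p r : ℕ) (x₀ : X)

include hAn in
theorem frobenius_package (hr : r.Prime) (hA1 : A ≠ ⊥)
    (hAab : ∀ a ∈ A, ∀ b ∈ A, a * b = b * a) (hAp : ∀ a ∈ A, a ^ p = 1) (hx₀ : orderOf x₀ = r)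
    (hgen : ∀ n : X, ∃ a ∈ A, ∃ k : ℕ, n = a * x₀ ^ k)
    (hfpf : ∀ a ∈ A, ∀ k : ℕ, x₀ ^ k ≠ 1 → a * x₀ ^ k = x₀ ^ k * a → a = 1) :
    Cfsg.IsFrobeniusComplement (zpowers x₀) ∧ (Nat.card ↥(zpowers x₀)).Prime ∧
      ((A : Set X) = Cfsg.frobeniusKernel (zpowers x₀)) ∧ Cfsg.IsElementaryAbelian p A := by
  have hx1 : x₀ ≠ 1 := by
    intro h
    rw [h, orderOf_one] at hx₀
    exact hr.ne_one hx₀.symm
  -- A ∩ Q = 1
  have hAQ : ∀ a ∈ A, a ∈ zpowers x₀ → a = 1 := by
    intro a ha haQ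
    have hc := commute_of_mem_zpowers haQ
    exact hfpf a ha 1 (by simpa using hx1) (by simpa using hc)
  refine ⟨⟨?_, ?_, ?_⟩, ?_, ?_, ?_⟩
  · intro h
    have : x₀ ∈ (⊥ : Subgroup X) := h ▸ mem_zpowers x₀
    exact hx1 (mem_bot.mp this)
  · intro h
    apply hA1
    rw [eq_bot_iff]
    intro a ha
    exact mem_bot.mpr (hAQ a ha (h ▸ mem_top a))
  · intro g hg
    rw [eq_bot_iff]
    intro y hy
    rw [mem_inf, mem_conj_smul_iff] at hy
    obtain ⟨hy1, hy2⟩ := hy
    rw [mem_bot]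
    by_contra hy0
    obtain ⟨i, rfl⟩ := exists_pow_of_mem_zpowers hy1
    obtain ⟨a, ha, k, rfl⟩ := hgen g
    -- a⁻¹ x₀^i a ∈ Q
    have h1 : a⁻¹ * x₀ ^ i * a ∈ zpowers x₀ := by
      have hk : x₀ ^ k ∈ zpowers x₀ := npow_mem_zpowers x₀ k
      have := (zpowers x₀).mul_mem ((zpowers x₀).mul_mem hk hy2) ((zpowers x₀).inv_mem hk)
      convert this using 1
      group
    have h2 : a⁻¹ * x₀ ^ i * a * (x₀ ^ i)⁻¹ ∈ zpowers x₀ :=
      (zpowers x₀).mul_mem h1 ((zpowers x₀).inv_mem (npow_mem_zpowers x₀ i))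
    have h3 : a⁻¹ * x₀ ^ i * a * (x₀ ^ i)⁻¹ ∈ A := by
      have : x₀ ^ i * a * (x₀ ^ i)⁻¹ ∈ A := hAn.conj_mem a ha (x₀ ^ i)
      have := A.mul_mem (A.inv_mem ha) this
      convert this using 1
      group
    have h4 := hAQ _ h3 h2
    have h5 : a * x₀ ^ i = x₀ ^ i * a := by
      have : a⁻¹ * x₀ ^ i * a = x₀ ^ i := by
        rw [mul_inv_eq_one] at h4
        exact h4
      calc a * x₀ ^ i = a * (a⁻¹ * x₀ ^ i * a) := by rw [this]
        _ = x₀ ^ i * a := by group
    have h6 := hfpf a ha i hy0 h5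
    apply hg
    rw [h6, one_mul]
    exact npow_mem_zpowers x₀ k
  · rw [Nat.card_zpowers, hx₀]
    exact hr
  · ext x
    simp only [SetLike.mem_coe, Cfsg.frobeniusKernel, Set.mem_ofPred_eq]
    constructor
    · intro hx
      by_cases hx1' : x = 1
      · exact Or.inl hx1'
      · right
        intro g hg
        rw [mem_conj_smul_iff] at hg
        have : g⁻¹ * x * g ∈ A := by
          have := hAn.conj_mem x hx g⁻¹
          simpa using this
        have h1 := hAQ _ this hg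
        apply hx1'
        have : x = g * (g⁻¹ * x * g) * g⁻¹ := by group
        rw [this, h1]
        group
    · rintro (rfl | hx)
      · exact A.one_mem
      · obtain ⟨a, ha, k, rfl⟩ := hgen x
        by_cases hk : x₀ ^ k = 1
        · rw [hk, mul_one]
          exact ha
        · exfalso
          -- the map b ↦ b h b⁻¹ h⁻¹ is injective on A, hence surjective
          set h := x₀ ^ k with hh
          let f : ↥A → ↥A := fun b =>
            ⟨(b : X) * (h * (b : X)⁻¹ * h⁻¹), A.mul_mem b.2 (hAn.conj_mem _ (A.inv_mem b.2) h)⟩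
          have hf : Function.Injective f := by
            intro b c hbc
            have hbc' : (b : X) * (h * (b : X)⁻¹ * h⁻¹) = (c : X) * (h * (c : X)⁻¹ * h⁻¹) :=
              congrArg Subtype.val hbc
            have hd : (c : X)⁻¹ * b = h * ((c : X)⁻¹ * b) * h⁻¹ := by
              have : (c : X)⁻¹ * b = (h * (c : X)⁻¹ * h⁻¹) * (h * (b : X)⁻¹ * h⁻¹)⁻¹ := by
                rw [eq_mul_inv_iff_mul_eq, mul_assoc, hbc']
                group
              calc (c : X)⁻¹ * b = (h * (c : X)⁻¹ * h⁻¹) * (h * (b : X)⁻¹ * h⁻¹)⁻¹ := this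
                _ = h * ((c : X)⁻¹ * b) * h⁻¹ := by group
            have hdA : (c : X)⁻¹ * b ∈ A := A.mul_mem (A.inv_mem c.2) b.2
            have hcomm : (c : X)⁻¹ * b * h = h * ((c : X)⁻¹ * b) := by
              calc (c : X)⁻¹ * b * h = (h * ((c : X)⁻¹ * b) * h⁻¹) * h := by rw [← hd]
                _ = h * ((c : X)⁻¹ * b) := by group
            have := hfpf _ hdA k hk hcomm
            apply Subtype.ext
            have h' : (b : X) = c * ((c : X)⁻¹ * b) := by group
            rw [h', this, mul_one]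
          have hs : Function.Surjective f := Finite.injective_iff_surjective.mp hf
          obtain ⟨b, hb⟩ := hs ⟨a, ha⟩
          have hb' : (b : X) * (h * (b : X)⁻¹ * h⁻¹) = a := congrArg Subtype.val hb
          apply hx (b : X)
          rw [mem_conj_smul_iff, ← hb']
          have : (b : X)⁻¹ * ((b : X) * (h * (b : X)⁻¹ * h⁻¹) * h) * (b : X) = h := by group
          rw [this]
          exact npow_mem_zpowers x₀ k
  · exact ⟨⟨⟨fun a b => Subtype.ext (hAab a a.2 b b.2)⟩⟩, hAp⟩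

end Package

/-- The abelian case of the Centerless Lemma (piece P3), as a hypothesis. -/
def CenterlessAb : Prop :=
  ∀ (G : Type u) [Group G] [Finite G] (N : Subgroup G) [N.Normal]
    (_hZ : ∀ x ∈ N, (∀ y ∈ N, x * y = y * x) → x = 1)
    (_hM : ∀ x ∈ N, x ≠ 1 → IsCoatom (Subgroup.centralizer ({x} : Set G)))
    (A : Subgroup G) [A.Normal] (_hAN : A ≤ N) (_hA1 : A ≠ ⊥)
    (_hAmin : ∀ B : Subgroup G, B.Normal → B ≤ A → B = ⊥ ∨ B = A)
    (_hAab : ∀ a ∈ A, ∀ b ∈ A, a * b = b * a),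
    ∃ (p r : ℕ) (x₀ : G), p.Prime ∧ r.Prime ∧ p ≠ r ∧ (∀ a ∈ A, a ^ p = 1) ∧ x₀ ∈ N ∧
      orderOf x₀ = r ∧ (∀ n ∈ N, ∃ a ∈ A, ∃ k : ℕ, n = a * x₀ ^ k) ∧
      (∀ a ∈ A, ∀ k : ℕ, x₀ ^ k ≠ 1 → a * x₀ ^ k = x₀ ^ k * a → a = 1)

/-- The non-abelian case of the Centerless Lemma (piece P2), as a hypothesis. -/
def CenterlessNonab : Prop :=
  ∀ (G : Type u) [Group G] [Finite G] (N : Subgroup G) [N.Normal]
    (_hZ : ∀ x ∈ N, (∀ y ∈ N, x * y = y * x) → x = 1)
    (_hM : ∀ x ∈ N, x ≠ 1 → IsCoatom (Subgroup.centralizer ({x} : Set G)))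
    (A : Subgroup G) [A.Normal] (_hAN : A ≤ N) (_hA1 : A ≠ ⊥)
    (_hAmin : ∀ B : Subgroup G, B.Normal → B ≤ A → B = ⊥ ∨ B = A)
    (_hAnab : ¬ ∀ a ∈ A, ∀ b ∈ A, a * b = b * a), False

section MinNormal

variable {G : Type*} [Group G] [Finite G]

/-- A nontrivial normal subgroup contains a minimal normal subgroup of the whole group. -/
theorem exists_min_normal_le (N : Subgroup G) [N.Normal] (hN : N ≠ ⊥) :
    ∃ A : Subgroup G, A.Normal ∧ A ≤ N ∧ A ≠ ⊥ ∧
      ∀ B : Subgroup G, B.Normal → B ≤ A → B = ⊥ ∨ B = A := by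
  classical
  let S : Set (Subgroup G) := {A | A.Normal ∧ A ≤ N ∧ A ≠ ⊥}
  have hS : S.Nonempty := ⟨N, inferInstance, le_rfl, hN⟩
  obtain ⟨A, hAS, hAmin⟩ := (Set.toFinite S).exists_minimal hS
  refine ⟨A, hAS.1, hAS.2.1, hAS.2.2, ?_⟩
  intro B hB hBA
  by_cases hB1 : B = ⊥
  · exact Or.inl hB1
  · right
    have hBS : B ∈ S := ⟨hB, hBA.trans hAS.2.1, hB1⟩
    exact le_antisymm hBA (hAmin hBS hBA)

end MinNormal

section Reduction

variable {G : Type u} [Group G] [Finite G] (N : Subgroup G) [hN : N.Normal]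

/-- `Z(N)` as a subgroup of `G`. -/
def ZN : Subgroup G := N ⊓ centralizer (N : Set G)

instance ZN_normal : (ZN N).Normal := by
  unfold ZN
  infer_instance

omit [Finite G] in
theorem comm_mem_of_mem {x : G} (hx : x ∈ N) (n : G) : ⁅x, n⁆ ∈ N := by
  rw [commutatorElement_def]
  have h1 : n * x⁻¹ * n⁻¹ ∈ N := hN.conj_mem _ (N.inv_mem hx) n
  have := N.mul_mem hx h1
  convert this using 1
  group

include hN in
/-- Part II of S3905: if `N/Z(N)` is nontrivial with trivial centre, it is a Frobenius group with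
elementary abelian kernel and complement of prime order. -/
theorem partII
    (h : ∀ x : G, x ∈ N → x ∉ centralizer (N : Set G) → IsCoatom (centralizer ({x} : Set G)))
    (hne : ¬ N ≤ centralizer (N : Set G))
    (hno : ∀ x ∈ N, x ∉ centralizer (N : Set G) → ∃ n ∈ N, ⁅x, n⁆ ∉ centralizer (N : Set G))
    (hab : CenterlessAb.{u}) (hnab : CenterlessNonab.{u}) :
    ∃ (Q K : Subgroup (↥N ⧸ center ↥N)) (p : ℕ), p.Prime ∧ Cfsg.IsFrobeniusComplement Q ∧
      (Nat.card ↥Q).Prime ∧ K.Normal ∧ (K : Set (↥N ⧸ center ↥N)) = Cfsg.frobeniusKernel Q ∧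
      Cfsg.IsElementaryAbelian p K := by
  classical
  set Z : Subgroup G := ZN N with hZdef
  let π : G →* G ⧸ Z := QuotientGroup.mk' Z
  have hπ : Function.Surjective π := QuotientGroup.mk'_surjective Z
  have hker : ∀ g : G, π g = 1 ↔ g ∈ Z := fun g => QuotientGroup.eq_one_iff g
  have hZmem : ∀ g : G, g ∈ Z ↔ g ∈ N ∧ g ∈ centralizer (N : Set G) := fun g => Iff.rfl
  -- commuting images
  have hcomm : ∀ x n : G, π x * π n = π n * π x → ⁅x, n⁆ ∈ Z := by
    intro x n hc
    rw [← hker, map_commutatorElement, commutatorElement_eq_one_iff_mul_comm]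
    exact hc
  let Nb : Subgroup (G ⧸ Z) := N.map π
  have hNb : Nb.Normal := hN.map π hπ
  have hZb : ∀ x ∈ Nb, (∀ y ∈ Nb, x * y = y * x) → x = 1 := by
    intro xb hxb hc
    obtain ⟨x, hx, rfl⟩ := mem_map.mp hxb
    by_contra hne1
    have hxZ : x ∉ centralizer (N : Set G) := fun hcz => hne1 ((hker x).mpr ⟨hx, hcz⟩)
    obtain ⟨n, hn, hcn⟩ := hno x hx hxZ
    exact hcn ((hZmem _).mp (hcomm x n (hc (π n) (mem_map_of_mem π hn)))).2
  have hMb : ∀ x ∈ Nb, x ≠ 1 → IsCoatom (centralizer ({x} : Set (G ⧸ Z))) := by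
    intro xb hxb hx1
    obtain ⟨x, hx, rfl⟩ := mem_map.mp hxb
    have hxZ : x ∉ centralizer (N : Set G) := fun hcz => hx1 ((hker x).mpr ⟨hx, hcz⟩)
    have hM := h x hx hxZ
    set Cb : Subgroup (G ⧸ Z) := centralizer ({π x} : Set (G ⧸ Z)) with hCb
    have hMK : centralizer ({x} : Set G) ≤ Cb.comap π := by
      intro g hg
      rw [mem_comap, hCb, mem_centralizer_singleton_iff]
      rw [mem_centralizer_singleton_iff] at hg
      rw [← map_mul, ← map_mul, hg]
    have hKtop : Cb.comap π ≠ ⊤ := by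
      intro htop
      obtain ⟨n, hn, hcn⟩ := hno x hx hxZ
      have hnK : n ∈ Cb.comap π := htop ▸ mem_top n
      rw [mem_comap, hCb, mem_centralizer_singleton_iff] at hnK
      exact hcn ((hZmem _).mp (hcomm x n hnK.symm)).2
    have hKM : Cb.comap π = centralizer ({x} : Set G) := by
      by_contra hne'
      exact hKtop (hM.2 _ (lt_of_le_of_ne hMK (Ne.symm hne')))
    refine ⟨?_, ?_⟩
    · intro htop
      apply hKtop
      rw [htop, comap_top]
    · intro B hB
      have h1 : Cb.comap π ≤ B.comap π := comap_mono hB.le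
      have h2 : Cb.comap π ≠ B.comap π := by
        intro heq
        exact hB.ne (comap_injective hπ heq)
      have h3 : B.comap π = ⊤ := by
        apply hM.2
        rw [← hKM]
        exact lt_of_le_of_ne h1 h2
      rw [eq_top_iff]
      intro b _
      obtain ⟨g, rfl⟩ := hπ b
      have : g ∈ B.comap π := h3 ▸ mem_top g
      exact this
  have hNb1 : Nb ≠ ⊥ := by
    intro hbot
    apply hne
    intro x hx
    have : π x ∈ Nb := mem_map_of_mem π hx
    rw [hbot, mem_bot, hker] at this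
    exact this.2
  obtain ⟨A, hAn, hAN, hA1, hAmin⟩ := exists_min_normal_le Nb hNb1
  have := hAn
  by_cases hAab : ∀ a ∈ A, ∀ b ∈ A, a * b = b * a
  · obtain ⟨p, r, x₀, hp, hr, _, hAp, hx₀N, hx₀, hgen, hfpf⟩ :=
      hab (G ⧸ Z) Nb hZb hMb A hAN hA1 hAmin hAab
    -- the embedding of `↥N ⧸ center ↥N` into `G ⧸ Z`
    let ψ : ↥N →* G ⧸ Z := π.comp N.subtype
    have hψker : center ↥N ≤ ψ.ker := by
      intro n hn
      rw [MonoidHom.mem_ker]
      show π (n : G) = 1
      rw [hker, hZmem]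
      refine ⟨n.2, ?_⟩
      rw [mem_centralizer_iff]
      intro m hm
      have := (mem_center_iff.mp hn) ⟨m, hm⟩
      exact congrArg Subtype.val this
    let ψh : ↥N ⧸ center ↥N →* G ⧸ Z := QuotientGroup.lift (center ↥N) ψ hψker
    have hψh_mk : ∀ n : ↥N, ψh (QuotientGroup.mk n) = π (n : G) := fun n => rfl
    have hψh_inj : Function.Injective ψh := by
      rw [injective_iff_map_eq_one]
      intro q hq
      induction q using QuotientGroup.induction_on with
      | H n =>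
        rw [hψh_mk, hker] at hq
        rw [QuotientGroup.eq_one_iff, mem_center_iff]
        intro m
        have := (mem_centralizer_iff.mp hq.2) (m : G) m.2
        exact Subtype.ext this
    have hψh_mem : ∀ q, ψh q ∈ Nb := by
      intro q
      induction q using QuotientGroup.induction_on with
      | H n => exact mem_map_of_mem π n.2
    have hψh_surj : ∀ y ∈ Nb, ∃ q, ψh q = y := by
      intro y hy
      obtain ⟨x, hx, rfl⟩ := mem_map.mp hy
      exact ⟨QuotientGroup.mk ⟨x, hx⟩, rfl⟩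
    obtain ⟨xh, hxh⟩ := hψh_surj x₀ hx₀N
    let K : Subgroup (↥N ⧸ center ↥N) := A.comap ψh
    have hKn : K.Normal := hAn.comap ψh
    have hpkg := frobenius_package K p r xh hr
      (by
        intro hbot
        apply hA1
        rw [eq_bot_iff]
        intro a ha
        obtain ⟨q, rfl⟩ := hψh_surj a (hAN ha)
        have hq : q ∈ K := ha
        rw [hbot, mem_bot] at hq
        rw [hq, map_one]
        exact one_mem _)
      (by
        intro a ha b hb
        apply hψh_inj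
        rw [map_mul, map_mul]
        exact hAab _ ha _ hb)
      (by
        intro a ha
        apply hψh_inj
        rw [map_pow, map_one]
        exact hAp _ ha)
      (by rw [← hx₀, ← hxh]; exact (orderOf_injective ψh hψh_inj xh).symm)
      (by
        intro n
        obtain ⟨a, ha, k, hk⟩ := hgen (ψh n) (hψh_mem n)
        obtain ⟨q, rfl⟩ := hψh_surj a (hAN ha)
        refine ⟨q, ha, k, ?_⟩
        apply hψh_inj
        rw [hk, map_mul, map_pow, hxh])
      (by
        intro a ha k hk hc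
        apply hψh_inj
        rw [map_one]
        apply hfpf (ψh a) ha k
        · intro h1
          apply hk
          apply hψh_inj
          rw [map_pow, hxh, h1, map_one]
        · rw [← hxh, ← map_pow, ← map_mul, ← map_mul, hc])
    exact ⟨zpowers xh, K, p, hp, hpkg.1, hpkg.2.1, hKn, hpkg.2.2.1, hpkg.2.2.2⟩
  · exact (hnab (G ⧸ Z) Nb hZb hMb A hAN hA1 hAmin hAab).elim

/-- Part I of S3905 (piece P1), as a hypothesis. -/
def PartIStmt : Prop :=
  ∀ (G : Type u) [Group G] [Finite G] (N : Subgroup G) [N.Normal]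
    (_h : ∀ x : G, x ∈ N → x ∉ centralizer (N : Set G) → IsCoatom (centralizer ({x} : Set G)))
    (x₀ : G) (_hx₀N : x₀ ∈ N) (_hx₀Z : x₀ ∉ centralizer (N : Set G))
    (_hx₀ : ∀ n ∈ N, x₀ * n * x₀⁻¹ * n⁻¹ ∈ centralizer (N : Set G)),
    ∃ p : ℕ, p.Prime ∧ Cfsg.IsElementaryAbelian p (⊤ : Subgroup (↥N ⧸ center ↥N))

omit [Finite G] hN in
/-- The trivial case `N = Z(N)`. -/
theorem elemAb_of_le_centralizer (hab : N ≤ centralizer (N : Set G)) :
    ∃ p : ℕ, p.Prime ∧ Cfsg.IsElementaryAbelian p (⊤ : Subgroup (↥N ⧸ center ↥N)) := by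
  have hsub : ∀ q : ↥N ⧸ center ↥N, q = 1 := by
    intro q
    induction q using QuotientGroup.induction_on with
    | H n =>
      rw [QuotientGroup.eq_one_iff, mem_center_iff]
      intro m
      exact Subtype.ext ((mem_centralizer_iff.mp (hab n.2)) m m.2)
  refine ⟨2, Nat.prime_two, ⟨⟨fun a b => ?_⟩⟩, fun a _ => ?_⟩
  · apply Subtype.ext
    rw [hsub (a * b : ↥(⊤ : Subgroup (↥N ⧸ center ↥N))), hsub (b * a : ↥(⊤ : Subgroup (↥N ⧸ center ↥N)))]
  · rw [hsub a, one_pow]

include hN in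
/-- S3905 from its pieces. -/
theorem main
    (h : ∀ x : G, x ∈ N → x ∉ centralizer (N : Set G) → IsCoatom (centralizer ({x} : Set G)))
    (hP1 : PartIStmt.{u}) (hab : CenterlessAb.{u}) (hnab : CenterlessNonab.{u}) :
    (∃ p : ℕ, p.Prime ∧ Cfsg.IsElementaryAbelian p (⊤ : Subgroup (↥N ⧸ center ↥N))) ∨
    (∃ (Q K : Subgroup (↥N ⧸ center ↥N)) (p : ℕ), p.Prime ∧ Cfsg.IsFrobeniusComplement Q ∧
      (Nat.card ↥Q).Prime ∧ K.Normal ∧ (K : Set (↥N ⧸ center ↥N)) = Cfsg.frobeniusKernel Q ∧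
      Cfsg.IsElementaryAbelian p K) := by
  by_cases hne : N ≤ centralizer (N : Set G)
  · exact Or.inl (elemAb_of_le_centralizer N hne)
  · by_cases hex : ∃ x₀ ∈ N, x₀ ∉ centralizer (N : Set G) ∧
        ∀ n ∈ N, x₀ * n * x₀⁻¹ * n⁻¹ ∈ centralizer (N : Set G)
    · obtain ⟨x₀, h1, h2, h3⟩ := hex
      exact Or.inl (hP1 G N h x₀ h1 h2 h3)
    · right
      apply partII N h hne ?_ hab hnab
      intro x hx hxZ
      by_contra hcon
      push Not at hcon
      exact hex ⟨x, hx, hxZ, fun n hn => by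
        have := hcon n hn
        rwa [commutatorElement_def] at this⟩

end Reduction

end Cfsg.Agent.Lib.Helper6.MaxCent
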