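import Mathlib

/-! Binary search trees of natural numbers, for fast membership tests in the kernel. -/

set_option autoImplicit false

namespace Cfsg.Agent.Lib.Helper6.SteinerG

/-- binary trees of natural numbers -/
inductive NTree
  | leaf
  | node (l : NTree) (x : ℕ) (r : NTree)

/-- membership test, assuming the tree is a search tree -/
def NTree.mem (a : ℕ) : NTree → Bool
  | .leaf => false
  | .node l x r => cond (Nat.beq a x) true (cond (Nat.blt a x) (l.mem a) (r.mem a))

/-- the entries of the tree, in order -/
def NTree.toList : NTree → List ℕ
  | .leaf => []
  | .node l x r => l.toList ++ x :: r.toList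

theorem NTree.mem_sound {a : ℕ} : ∀ t : NTree, t.mem a = true → a ∈ t.toList
  | .leaf, h => by simp [NTree.mem] at h
  | .node l x r, h => by
    unfold NTree.mem at h
    unfold NTree.toList
    rw [List.mem_append, List.mem_cons]
    cases hb : Nat.beq a x with
    | true => exact Or.inr (Or.inl (Nat.eq_of_beq_eq_true hb))
    | false =>
      rw [hb, cond_false] at h
      cases hl : Nat.blt a x with
      | true =>
        rw [hl, cond_true] at h
        exact Or.inl (NTree.mem_sound l h)
      | false =>
        rw [hl, cond_false] at h
        exact Or.inr (Or.inr (NTree.mem_sound r h))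

end Cfsg.Agent.Lib.Helper6.SteinerG
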