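import Mathlib

/-! # Arrays of small natural numbers stored in one natural number

Entry `i` of the array `t` with entries of `w` bits is the number made of the bits
`w * i, …, w * i + w - 1` of `t`.  Reading and writing are single shifts and bitwise operations,
which the kernel evaluates with its big number arithmetic. -/

set_option autoImplicit false

namespace Cfsg.Agent.Lib.Helper6.NatArr

/-- entry `i` of the array `t` of `w`-bit entries -/
def aget (w t i : ℕ) : ℕ :=
  Nat.land (Nat.shiftRight t (Nat.mul w i)) (Nat.pred (Nat.shiftLeft 1 w))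

/-- replace entry `i` of `t`, whose current value is `old`, by `new` -/
def aset (w t i old new : ℕ) : ℕ := Nat.xor t (Nat.shiftLeft (Nat.xor old new) (Nat.mul w i))

theorem aget_eq (w t i : ℕ) : aget w t i = t / 2 ^ (w * i) % 2 ^ w := by
  show (t >>> (w * i)) &&& (1 <<< w - 1) = _
  rw [Nat.shiftRight_eq_div_pow, Nat.one_shiftLeft, Nat.and_two_pow_sub_one_eq_mod]

theorem aget_lt (w t i : ℕ) : aget w t i < 2 ^ w := by
  rw [aget_eq]
  exact Nat.mod_lt _ (Nat.two_pow_pos w)

theorem testBit_aget (w t i k : ℕ) :
    (aget w t i).testBit k = (decide (k < w) && t.testBit (w * i + k)) := by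
  rw [aget_eq, Nat.testBit_mod_two_pow, Nat.testBit_div_two_pow, add_comm]

theorem testBit_of_lt_two_pow {d w m : ℕ} (hd : d < 2 ^ w) (hm : w ≤ m) : d.testBit m = false :=
  Nat.testBit_lt_two_pow (lt_of_lt_of_le hd (Nat.pow_le_pow_right (by norm_num) hm))

theorem aget_aset_self (w t i new : ℕ) (hnew : new < 2 ^ w) :
    aget w (aset w t i (aget w t i) new) i = new := by
  apply Nat.eq_of_testBit_eq
  intro k
  rw [testBit_aget]
  by_cases hk : k < w
  · show (decide (k < w) && (t ^^^ ((aget w t i ^^^ new) <<< (w * i))).testBit (w * i + k)) = _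
    rw [Nat.testBit_xor, Nat.testBit_shiftLeft, Nat.testBit_xor, testBit_aget]
    have e : w * i + k - w * i = k := by omega
    have h1 : decide (w * i + k ≥ w * i) = true := by simp
    rw [e, h1]
    simp only [hk, decide_true, Bool.true_and]
    cases t.testBit (w * i + k) <;> cases new.testBit k <;> rfl
  · rw [testBit_of_lt_two_pow hnew (by omega)]
    simp [hk]

theorem aget_aset_ne (w t i j new : ℕ) (hnew : new < 2 ^ w) (hji : j ≠ i) :
    aget w (aset w t i (aget w t i) new) j = aget w t j := by
  apply Nat.eq_of_testBit_eq
  intro k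
  rw [testBit_aget, testBit_aget]
  by_cases hk : k < w
  · show (decide (k < w) && (t ^^^ ((aget w t i ^^^ new) <<< (w * i))).testBit (w * j + k)) = _
    rw [Nat.testBit_xor, Nat.testBit_shiftLeft]
    have hd : aget w t i ^^^ new < 2 ^ w := Nat.xor_lt_two_pow (aget_lt w t i) hnew
    have h0 : (decide (w * j + k ≥ w * i) &&
        (aget w t i ^^^ new).testBit (w * j + k - w * i)) = false := by
      rcases Nat.lt_or_gt_of_ne hji with h | h
      · have : w * j + k < w * i := by
          have : w * (j + 1) ≤ w * i := Nat.mul_le_mul_left _ h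
          have e : w * (j + 1) = w * j + w := by ring
          omega
        have : ¬ (w * j + k ≥ w * i) := by omega
        simp [this]
      · have h2 : w * (i + 1) ≤ w * j := Nat.mul_le_mul_left _ h
        have e : w * (i + 1) = w * i + w := by ring
        rw [testBit_of_lt_two_pow hd (by omega)]
        simp
    rw [h0]
    simp
  · simp [hk]

theorem aget_zero (w i : ℕ) : aget w 0 i = 0 := by
  rw [aget_eq]
  simp

end Cfsg.Agent.Lib.Helper6.NatArr
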