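import Cfsg.Agent.Lib.Helper6.O73Mat
import Cfsg.Agent.Lib.Helper6.Fi22Q8Simple
import Cfsg.Agent.Lib.Helper6.Fi22Simple
import Cfsg.Agent.H9.OrthK
import Cfsg.Agent.S0292

/-! # The subgroup `⟨b, …, i⟩` of the presented Fischer group Fi22 is `PΩ(7, 3)`

The sub-presentation `Q8` on `b, …, i` is simple of order `4585351680`, the order of the subgroup
of Fi22 generated by `b, …, i`, so it is that subgroup. It maps to the isometry group of the
quadratic form by sending the generators to the negatives of eight reflections; being perfect, it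
maps to `Ω`, and the induced map to `PΩ` is injective since `Q8` is simple, and bijective since the
orders agree. -/

set_option autoImplicit false
set_option linter.constructorNameAsVariable false

namespace Cfsg.Agent.Lib.Helper6.O73Iso

open scoped commutatorElement

open Cfsg.Agent.Lib.Helper6.ChevMatL Cfsg.Agent.Lib.Helper6.EquivMatL Cfsg.Agent.Lib.Helper6.TC
  Cfsg.Agent.Lib.Helper6.Fi22Sub Cfsg.Agent.Lib.Helper6.O73Mat Cfsg.Spor
  Cfsg.Agent.Lib.Helper6.Simp Cfsg.Agent.H9.Orth

/-- the words of the relators are trivial, so the relators are -/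
theorem lift_eq_one_of_words {α : Type} [DecidableEq α] {edges : List (α × ℕ × α)}
    {extra : List (FreeGroup α)} {K : Type} [Group K] (gen : ℕ → α) (code : α → ℕ) (g : ℕ)
    (extraWords : List (List ℕ)) (hcode : ∀ a, code a < g ∧ gen (code a) = a) (f : α → K)
    (hextra : (∀ r ∈ extra, FreeGroup.lift f r = 1) ↔
      ∀ w ∈ extraWords, (w.map fun x => f (gen x)).prod = 1)
    (hw : ∀ w ∈ coxWordsL edges gen g ++ extraWords, (w.map fun x => f (gen x)).prod = 1) :
    ∀ r ∈ coxRelators edges ∪ {r | r ∈ extra}, FreeGroup.lift f r = 1 := by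
  intro r hr
  rcases hr with ⟨x, _, y, _, rfl⟩ | hr
  · rw [map_pow, map_mul, FreeGroup.lift_apply_of, FreeGroup.lift_apply_of]
    have hx := hcode x
    have hy := hcode y
    have hm := mem_coxWordsL edges gen hx.1 hy.1
    have := hw _ (List.mem_append_left _ hm)
    rw [prod_rep2 (fun x => f (gen x)), hx.2, hy.2] at this
    exact this
  · exact hextra.2 (fun w hw' => hw w (List.mem_append_right _ hw')) r hr

theorem two_ne : (2 : F) ≠ 0 := by decide

theorem inv_two : (2 : F)⁻¹ = 2 := inv_eq_of_mul_eq_one_left (by decide)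

theorem hQ : Cfsg.Geo.IsNondegenerateQuadraticForm Q :=
  isNondeg_quadFormOdd (F := F) (m := 3) two_ne

/-- the matrices -/
abbrev M : Type := Matrix I I F

/-! ### the images of the generators -/

/-- the negative of the reflection in `vec x` -/
noncomputable def gGL (x : ℕ) : GL I F := -(rf hQ (vec x))

theorem gGL_val {x : ℕ} (hx : x < 8) : ((gGL x : GL I F) : M) = colM num (genLt x) := by
  have hn : Q (vec x) ≠ 0 := by
    rw [chk_norm x hx]
    exact two_ne
  ext i j
  rw [colM_apply, ← chk_refl x hx i j]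
  show ((-(rf hQ (vec x)) : GL I F) : M) i j = _
  rw [Units.val_neg, Matrix.neg_apply]
  congr 1
  have h1 : ((rf hQ (vec x) : GL I F) : M) i j = act (rf hQ (vec x)) (Pi.single j 1) i := by
    unfold act
    rw [Matrix.mulVec_single_one]
    rfl
  rw [h1, act_rf hQ _ hn, chk_norm x hx, inv_two]
  rfl

theorem gGL_mem (x : ℕ) : gGL x ∈ Cfsg.isometryGroup F Q := by
  rw [mem_isometryGroup_iff]
  intro y
  have h : act (gGL x) y = -act (rf hQ (vec x)) y := by
    unfold act gGL
    rw [Units.val_neg, Matrix.neg_mulVec]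
  rw [h, Q_neg hQ, Q_act_rf hQ]

/-- the image of a generator in the isometry group -/
noncomputable def gO (x : ℕ) : ↥(Cfsg.isometryGroup F Q) := ⟨gGL x, gGL_mem x⟩

theorem gO_mul_self (x : ℕ) : gO x * gO x = 1 := by
  apply Subtype.ext
  show gGL x * gGL x = 1
  unfold gGL
  rw [neg_mul_neg, rf_mul_self]

theorem genLt_mem (x : ℕ) : genLt x ∈ genTbl := by
  unfold genLt
  by_cases h : x < genTbl.length
  · rw [List.getD_eq_getElem _ _ h]
    exact List.getElem_mem h
  · rw [List.getD_eq_default _ _ (Nat.le_of_not_gt h)]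
    simp [genTbl]

theorem genLt_cols (w : List ℕ) : ∀ Y ∈ w.map genLt, colsOK 7 Y := by
  intro Y hY
  obtain ⟨x, _, rfl⟩ := List.mem_map.1 hY
  exact chk_gcols _ (genLt_mem x)

theorem coe_prod_gO (w : List ℕ) :
    ((((w.map gO).prod : ↥(Cfsg.isometryGroup F Q)) : GL I F) : M) =
      (w.map fun x => ((gGL x : GL I F) : M)).prod := by
  induction w with
  | nil => rfl
  | cons x w ih =>
    rw [List.map_cons, List.prod_cons, Subgroup.coe_mul, Units.val_mul, ih, List.map_cons,
      List.prod_cons]
    rfl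

theorem prod_gO_val {w : List ℕ} (hw : ∀ x ∈ w, x < 8) :
    ((((w.map gO).prod : ↥(Cfsg.isometryGroup F Q)) : GL I F) : M) =
      rowM num (prodT 7 (w.map genLt)) := by
  rw [coe_prod_gO, rowM_prodT num (w.map genLt) (genLt_cols w), List.map_map]
  congr 1
  apply List.map_congr_left
  intro x hx
  exact gGL_val (hw x hx)

/-! ### the homomorphism -/

/-- the images of the generators -/
noncomputable def fgen (a : Q8.Gen) : ↥(Cfsg.isometryGroup F Q) := gO (Fi22Q8oTC.code a)

theorem fgen_gen {x : ℕ} (hx : x < 8) : fgen (Fi22Q8oTC.gen x) = gO x := by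
  interval_cases x <;> rfl

theorem word_eq_one {w : List ℕ}
    (hw : w ∈ coxWordsL Q8.edges Fi22Q8oTC.gen 8 ++ Fi22Q8oTC.extraWords) :
    (w.map fun x => fgen (Fi22Q8oTC.gen x)).prod = 1 := by
  have h1 := List.all_eq_true.1 chk_rels w hw
  have h2 := List.all_eq_true.1 chk_rels_lt w hw
  have h4 : ∀ x ∈ w, x < 8 := fun x hx => of_decide_eq_true (List.all_eq_true.1 h2 x hx)
  have h3 : w.map (fun x => fgen (Fi22Q8oTC.gen x)) = w.map gO :=
    List.map_congr_left fun x hx => fgen_gen (h4 x hx)
  rw [h3]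
  apply Subtype.ext
  apply Units.ext
  rw [prod_gO_val h4, of_decide_eq_true h1, ← rowM_one]
  rfl

theorem lift_rel : ∀ r ∈ coxRelators Q8.edges ∪ {r | r ∈ Q8.extra}, FreeGroup.lift fgen r = 1 :=
  lift_eq_one_of_words Fi22Q8oTC.gen Fi22Q8oTC.code 8 Fi22Q8oTC.extraWords
    (by intro a; cases a <;> exact ⟨by decide, rfl⟩) fgen
    (Fi22Q8oTC.extra_iff fgen fun a => gO_mul_self _) fun _ hw => word_eq_one hw

/-- the homomorphism from the presented group to the isometry group -/
noncomputable def φ : Q8 →* ↥(Cfsg.isometryGroup F Q) := PresentedGroup.toGroup lift_rel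

theorem φ_of (a : Q8.Gen) : φ (PresentedGroup.of a) = fgen a := PresentedGroup.toGroup.of _

theorem not_comm : gO 0 * gO 1 ≠ gO 1 * gO 0 := by
  intro h
  have e1 := prod_gO_val (w := [0, 1]) (by decide)
  have e2 := prod_gO_val (w := [1, 0]) (by decide)
  simp only [List.map_cons, List.map_nil, List.prod_cons, List.prod_nil, mul_one] at e1 e2
  rw [h, e2] at e1
  obtain ⟨i, j, hij⟩ := chk_nc
  exact hij (congrFun (congrFun e1 i) j).symm

theorem comm_top : commutator Q8 = ⊤ := by
  have hs := Fi22Q8Simple.main.1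
  rcases (inferInstance : (commutator Q8).Normal).eq_bot_or_eq_top with h | h
  · exfalso
    apply not_comm
    have hc : ∀ x y : Q8, x * y = y * x := by
      intro x y
      have : ⁅x, y⁆ ∈ commutator Q8 :=
        Subgroup.commutator_mem_commutator (Subgroup.mem_top x) (Subgroup.mem_top y)
      rw [h, Subgroup.mem_bot, commutatorElement_eq_one_iff_mul_comm] at this
      exact this
    have := congrArg φ (hc (PresentedGroup.of Q8.Gen.b) (PresentedGroup.of Q8.Gen.c))
    rw [map_mul, map_mul, φ_of, φ_of] at this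
    exact this
  · exact h

theorem φ_mem (q : Q8) : φ q ∈ Cfsg.Omega F Q := by
  have h1 : (commutator Q8).map φ ≤ commutator ↥(Cfsg.isometryGroup F Q) := by
    rw [commutator_def, Subgroup.map_commutator, commutator_def]
    exact Subgroup.commutator_mono le_top le_top
  apply h1
  rw [comm_top]
  exact ⟨q, Subgroup.mem_top q, rfl⟩

/-- the homomorphism to `Ω` -/
noncomputable def φΩ : Q8 →* ↥(Cfsg.Omega F Q) := φ.codRestrict (Cfsg.Omega F Q) φ_mem

/-- the homomorphism to `PΩ` -/
noncomputable def ψ : Q8 →* Cfsg.POmega F Q :=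
  (QuotientGroup.mk' (Subgroup.center ↥(Cfsg.Omega F Q))).comp φΩ

theorem ψ_injective : Function.Injective ψ := by
  have hs := Fi22Q8Simple.main.1
  rcases (MonoidHom.normal_ker ψ).eq_bot_or_eq_top with h | h
  · exact (MonoidHom.ker_eq_bot_iff ψ).1 h
  · exfalso
    have h1 : ψ (PresentedGroup.of Q8.Gen.b) = 1 := by
      have : PresentedGroup.of Q8.Gen.b ∈ ψ.ker := by
        rw [h]
        trivial
      exact this
    have h2 : φΩ (PresentedGroup.of Q8.Gen.b) ∈ Subgroup.center ↥(Cfsg.Omega F Q) :=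
      (QuotientGroup.eq_one_iff _).1 h1
    have h3 := Subgroup.mem_center_iff.1 h2 (φΩ (PresentedGroup.of Q8.Gen.c))
    have h4 : φ (PresentedGroup.of Q8.Gen.c) * φ (PresentedGroup.of Q8.Gen.b) =
        φ (PresentedGroup.of Q8.Gen.b) * φ (PresentedGroup.of Q8.Gen.c) :=
      congrArg Subtype.val h3
    rw [φ_of, φ_of] at h4
    exact not_comm h4.symm

theorem card_POmega : Nat.card (Cfsg.POmega F Q) = 4585351680 := by
  have h := Cfsg.Agent.S0292.result (F := F) (q := 3) (ZMod.card 3) (by decide) 3 (le_refl 3)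
  have h2 : 3 ^ (3 ^ 2) * ∏ i ∈ Finset.range 3, (3 ^ (2 * (i + 1)) - 1) = 2 * 4585351680 := by
    decide
  rw [h2] at h
  exact Nat.eq_of_mul_eq_mul_left (by norm_num) h

theorem ψ_bijective : Function.Bijective ψ := by
  have hc : Nat.card Q8 = 4585351680 := Fi22Q8Simple.main.2
  have : Finite (Cfsg.POmega F Q) := Nat.finite_of_card_ne_zero (by rw [card_POmega]; norm_num)
  exact ψ_injective.bijective_of_nat_card_le (by rw [card_POmega, hc])

/-! ### the subgroup of the Fischer group -/

/-- the subgroup generated by `b, …, i` -/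
abbrev H : Subgroup Fi22 :=
  (Subgroup.closure ({Fi22.b, Fi22.c, Fi22.d, Fi22.e, Fi22.f, Fi22.g, Fi22.h, Fi22.i} :
    Set (FreeGroup Fi22.Gen))).map
    (PresentedGroup.mk (coxRelators Fi22.edges ∪ {r | r ∈ Fi22.extra}))

theorem range_eq : subQ8.hom.range = H := by
  rw [subQ8.range_hom, rangeQ8]

theorem card_H : Nat.card H = 4585351680 := by
  have h1 := Subgroup.card_mul_index H
  have h2 : H.index = 14080 := Fi22BTC.main
  have h3 : Nat.card Fi22 = 64561751654400 := Fi22Simple.main.2
  rw [h2, h3] at h1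
  have h4 : Nat.card H * 14080 = 4585351680 * 14080 := h1.trans (by norm_num)
  exact Nat.eq_of_mul_eq_mul_right (by norm_num) h4

/-- the map from the sub-presentation onto the subgroup -/
noncomputable def π : Q8 →* H :=
  subQ8.hom.codRestrict H (fun q => by rw [← range_eq]; exact ⟨q, rfl⟩)

theorem π_surjective : Function.Surjective π := by
  rintro ⟨h, hh⟩
  rw [← range_eq] at hh
  obtain ⟨q, rfl⟩ := hh
  exact ⟨q, Subtype.ext rfl⟩

theorem π_bijective : Function.Bijective π := by
  have hc : Nat.card Q8 = 4585351680 := Fi22Q8Simple.main.2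
  have : Finite Q8 := Nat.finite_of_card_ne_zero (by rw [hc]; norm_num)
  exact π_surjective.bijective_of_nat_card_le (by rw [card_H, hc])

/-- **`⟨b, …, i⟩ ≤ Fi22` is `PΩ(7, 3)`** -/
theorem main : Nonempty (H ≃* Cfsg.POmega F Q) :=
  ⟨(MulEquiv.ofBijective π π_bijective).symm.trans (MulEquiv.ofBijective ψ ψ_bijective)⟩

end Cfsg.Agent.Lib.Helper6.O73Iso
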