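import Cfsg.Agent.Lib.Helper6.EquivMatL
import Cfsg.Agent.Lib.Helper6.Fi22Q8oTC
import Cfsg.Prelude.Def_Classical

/-! # Eight reflections of the orthogonal space of dimension seven over the field with three elements

The vectors `vec x` have norm `2` and realise the Coxeter graph of the generators `b, …, i` of the
presented group `Q8`; the matrices `genLt x` are the negatives of their reflections, given by their
columns (generated data, checked by the kernel). -/

set_option autoImplicit false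
set_option maxRecDepth 100000

namespace Cfsg.Agent.Lib.Helper6.O73Mat

open Cfsg.Agent.Lib.Helper6.ChevMatL Cfsg.Agent.Lib.Helper6.EquivMatL Cfsg.Agent.Lib.Helper6.TC
  Cfsg.Agent.Lib.Helper6.Fi22Sub Cfsg.Spor

/-- the field -/
abbrev F : Type := ZMod 3

/-- the set of indices -/
abbrev I : Type := Unit ⊕ (Fin 3 ⊕ Fin 3)

/-- the quadratic form -/
abbrev Q : (I → F) → F := Cfsg.quadFormOdd 3 F

/-- the number of an index -/
def numF : I → Fin 7
  | Sum.inl _ => 0
  | Sum.inr (Sum.inl i) => ⟨1 + i.val, by omega⟩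
  | Sum.inr (Sum.inr j) => ⟨4 + j.val, by omega⟩

/-- the index with a given number -/
def numI (k : Fin 7) : I :=
  if h0 : k.val = 0 then Sum.inl ()
  else if h1 : k.val < 4 then Sum.inr (Sum.inl ⟨k.val - 1, by omega⟩)
  else Sum.inr (Sum.inr ⟨k.val - 4, by omega⟩)

/-- the numbering of the indices -/
def num : I ≃ Fin 7 where
  toFun := numF
  invFun := numI
  left_inv := by decide
  right_inv := by decide

/-- the vectors -/
def vecTbl : List (List F) :=
  [[0, 2, 1, 0, 2, 1, 0],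
   [1, 0, 0, 2, 0, 1, 2],
   [0, 2, 0, 1, 2, 1, 1],
   [2, 0, 1, 2, 2, 1, 0],
   [0, 2, 1, 2, 0, 1, 2],
   [2, 1, 2, 0, 1, 0, 0],
   [0, 0, 0, 1, 2, 2, 2],
   [2, 2, 1, 2, 1, 2, 0]]

/-- the vector of a generator -/
def vec (x : ℕ) (i : I) : F := (vecTbl.getD x []).getD (num i).val 0

/-- the negative of the reflection of generator b, by its columns -/
def gB : List (List F) :=
  [[2, 0, 0, 0, 0, 0, 0],
   [0, 1, 1, 0, 2, 1, 0],
   [0, 1, 1, 0, 1, 2, 0],
   [0, 0, 0, 2, 0, 0, 0],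
   [0, 2, 1, 0, 1, 1, 0],
   [0, 1, 2, 0, 1, 1, 0],
   [0, 0, 0, 0, 0, 0, 2]]

/-- the negative of the reflection of generator c, by its columns -/
def gC : List (List F) :=
  [[0, 0, 0, 2, 0, 1, 2],
   [0, 2, 0, 0, 0, 0, 0],
   [2, 0, 2, 1, 0, 2, 1],
   [1, 0, 0, 1, 0, 1, 2],
   [0, 0, 0, 0, 2, 0, 0],
   [0, 0, 0, 0, 0, 2, 0],
   [1, 0, 0, 2, 0, 1, 1]]

/-- the negative of the reflection of generator d, by its columns -/
def gD : List (List F) :=
  [[2, 0, 0, 0, 0, 0, 0],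
   [0, 1, 0, 1, 2, 1, 1],
   [0, 1, 2, 2, 1, 2, 2],
   [0, 1, 0, 1, 1, 2, 2],
   [0, 2, 0, 1, 1, 1, 1],
   [0, 0, 0, 0, 0, 2, 0],
   [0, 1, 0, 2, 1, 2, 1]]

/-- the negative of the reflection of generator e, by its columns -/
def gE : List (List F) :=
  [[0, 0, 2, 1, 1, 2, 0],
   [2, 2, 1, 2, 2, 1, 0],
   [1, 0, 1, 1, 1, 2, 0],
   [0, 0, 0, 2, 0, 0, 0],
   [0, 0, 0, 0, 2, 0, 0],
   [1, 0, 2, 1, 1, 1, 0],
   [2, 0, 1, 2, 2, 1, 2]]

/-- the negative of the reflection of generator f, by its columns -/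
def gF : List (List F) :=
  [[2, 0, 0, 0, 0, 0, 0],
   [0, 2, 0, 0, 0, 0, 0],
   [0, 1, 1, 1, 0, 2, 1],
   [0, 2, 1, 1, 0, 1, 2],
   [0, 2, 1, 2, 2, 1, 2],
   [0, 1, 2, 1, 0, 1, 1],
   [0, 2, 1, 2, 0, 1, 1]]

/-- the negative of the reflection of generator g, by its columns -/
def gG : List (List F) :=
  [[0, 2, 1, 0, 2, 0, 0],
   [1, 1, 1, 0, 2, 0, 0],
   [0, 0, 2, 0, 0, 0, 0],
   [0, 0, 0, 2, 0, 0, 0],
   [1, 2, 1, 0, 1, 0, 0],
   [2, 1, 2, 0, 1, 2, 0],
   [0, 0, 0, 0, 0, 0, 2]]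

/-- the negative of the reflection of generator h, by its columns -/
def gH : List (List F) :=
  [[2, 0, 0, 0, 0, 0, 0],
   [0, 2, 0, 1, 2, 2, 2],
   [0, 0, 2, 1, 2, 2, 2],
   [0, 0, 0, 0, 2, 2, 2],
   [0, 0, 0, 0, 2, 0, 0],
   [0, 0, 0, 0, 0, 2, 0],
   [0, 0, 0, 2, 1, 1, 0]]

/-- the negative of the reflection of generator i, by its columns -/
def gI : List (List F) :=
  [[0, 1, 2, 1, 2, 1, 0],
   [1, 0, 2, 1, 2, 1, 0],
   [2, 2, 0, 2, 1, 2, 0],
   [0, 0, 0, 2, 0, 0, 0],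
   [2, 2, 1, 2, 0, 2, 0],
   [1, 1, 2, 1, 2, 0, 0],
   [2, 2, 1, 2, 1, 2, 2]]

/-- the matrices of the generators -/
def genTbl : List (List (List F)) := [gB, gC, gD, gE, gF, gG, gH, gI]

/-- the matrix of a generator -/
def genLt (x : ℕ) : List (List F) := genTbl.getD x gI

/-- an entry of the reflection in `vec x`, the norm of `vec x` being `2 = 2⁻¹` -/
def reflE (x : ℕ) (i j : I) : F :=
  ((Pi.single j 1 : I → F) - ((2 : F) * QuadraticMap.polar Q (Pi.single j 1) (vec x)) • vec x) i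

theorem chk_norm : ∀ x, x < 8 → Q (vec x) = 2 := by decide +kernel

theorem chk_refl : ∀ x, x < 8 → ∀ i j : I,
    -reflE x i j = entry (genLt x) (num j).val (num i).val := by decide +kernel

theorem chk_gcols : ∀ Y ∈ genTbl, colsOK 7 Y := by decide +kernel

theorem chk_rels : (coxWordsL Q8.edges Fi22Q8oTC.gen 8 ++ Fi22Q8oTC.extraWords).all
    (fun w => decide (prodT 7 (w.map genLt) = idL 7)) = true := by decide +kernel

theorem chk_rels_lt : (coxWordsL Q8.edges Fi22Q8oTC.gen 8 ++ Fi22Q8oTC.extraWords).all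
    (fun w => w.all fun x => decide (x < 8)) = true := by decide +kernel

theorem chk_nc : ∃ i j : I, entry (prodT 7 [genLt 0, genLt 1]) (num i).val (num j).val ≠
    entry (prodT 7 [genLt 1, genLt 0]) (num i).val (num j).val := by decide +kernel

end Cfsg.Agent.Lib.Helper6.O73Mat
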