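import Cfsg.Prelude.Def_SporCoxeter

/-! # Two small presented groups on two generators: the presentations of the groups of
orders 175560 and 7920 on their standard generators -/

set_option autoImplicit false

namespace Cfsg.Agent.Lib.Helper6.PGrp

open Cfsg.Spor

namespace PJ1

/-- the two generators -/
inductive Gen
  | a
  | b
  deriving DecidableEq

/-- the generator a as a word -/ abbrev a : FreeGroup Gen := FreeGroup.of Gen.a
/-- the generator b as a word -/ abbrev b : FreeGroup Gen := FreeGroup.of Gen.b

/-- no Coxeter graph -/
def edges : List (Gen × ℕ × Gen) := []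

/-- the relators -/
def extra : List (FreeGroup Gen) := [
  a ^ 2,
  b ^ 3,
  (a * b) ^ 7,
  (a * b * (a * b * a * b⁻¹) ^ 3) ^ 5,
  (a * b * (a * b * a * b⁻¹) ^ 6 * a * b * a * b * (a * b⁻¹) ^ 2) ^ 2 ]

end PJ1

/-- the group presented by the standard presentation of the first group of Janko -/
abbrev PJ1 : Type := CoxPresented PJ1.Gen PJ1.edges PJ1.extra

namespace PM11

/-- the two generators -/
inductive Gen
  | a
  | b
  deriving DecidableEq

/-- the generator a as a word -/ abbrev a : FreeGroup Gen := FreeGroup.of Gen.a
/-- the generator b as a word -/ abbrev b : FreeGroup Gen := FreeGroup.of Gen.b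

/-- no Coxeter graph -/
def edges : List (Gen × ℕ × Gen) := []

/-- the relators -/
def extra : List (FreeGroup Gen) := [
  a ^ 2,
  b ^ 4,
  (a * b) ^ 11,
  (a * b * b) ^ 6,
  a * b * a * b * a * b⁻¹ * a * b * a * b * b * a * b⁻¹ * a * b * a * b⁻¹ * a * b⁻¹ ]

end PM11

/-- the group presented by the standard presentation of the smallest group of Mathieu -/
abbrev PM11 : Type := CoxPresented PM11.Gen PM11.edges PM11.extra

end Cfsg.Agent.Lib.Helper6.PGrp
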