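import Cfsg.Agent.Lib.Helper6.PJ1CTCData
import Cfsg.Agent.Lib.Helper6.TCRel3

/-! # PJ1C: the kernel check of a part of the relators on the coset table -/

set_option autoImplicit false

namespace Cfsg.Agent.Lib.Helper6.PJ1CTC

open Cfsg.Agent.Lib.Helper6.TC

theorem chk_pow0_0_0 : tab.minOKc [0] 2 0 13340 = true := by decide +kernel

theorem chk_pow0_0_1 : tab.minOKc [0] 2 13340 13340 = true := by decide +kernel

theorem chk_pow0_0 : tab.minOKc [0] 2 0 26680 = true := by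
  refine tab.minOKc_of_chunks [0] 2 0 13340 2 (by norm_num) ?_
  intro i hi
  interval_cases i
  · exact chk_pow0_0_0
  · exact chk_pow0_0_1

theorem chk_pow1_0_0 : tab.minOKc [2] 3 0 10283 = true := by decide +kernel

theorem chk_pow1_0_1 : tab.minOKc [2] 3 10283 10283 = true := by decide +kernel

theorem chk_pow1_0_2 : tab.minOKc [2] 3 20566 10283 = true := by decide +kernel

theorem chk_pow1_0 : tab.minOKc [2] 3 0 30849 = true := by
  refine tab.minOKc_of_chunks [2] 3 0 10283 3 (by norm_num) ?_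
  intro i hi
  interval_cases i
  · exact chk_pow1_0_0
  · exact chk_pow1_0_1
  · exact chk_pow1_0_2

theorem chk_pow2_0_0 : tab.minOKc [0, 2] 7 0 3631 = true := by decide +kernel

theorem chk_pow2_0_1 : tab.minOKc [0, 2] 7 3631 3631 = true := by decide +kernel

theorem chk_pow2_0_2 : tab.minOKc [0, 2] 7 7262 3631 = true := by decide +kernel

theorem chk_pow2_0_3 : tab.minOKc [0, 2] 7 10893 3631 = true := by decide +kernel

theorem chk_pow2_0_4 : tab.minOKc [0, 2] 7 14524 3631 = true := by decide +kernel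

theorem chk_pow2_0_5 : tab.minOKc [0, 2] 7 18155 3631 = true := by decide +kernel

theorem chk_pow2_0_6 : tab.minOKc [0, 2] 7 21786 3631 = true := by decide +kernel

theorem chk_pow2_0 : tab.minOKc [0, 2] 7 0 25417 = true := by
  refine tab.minOKc_of_chunks [0, 2] 7 0 3631 7 (by norm_num) ?_
  intro i hi
  interval_cases i
  · exact chk_pow2_0_0
  · exact chk_pow2_0_1
  · exact chk_pow2_0_2
  · exact chk_pow2_0_3
  · exact chk_pow2_0_4
  · exact chk_pow2_0_5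
  · exact chk_pow2_0_6

theorem chk_pow3_0_0 : tab.minOKc [0, 2, 0, 2, 0, 3, 0, 2, 0, 3, 0, 2, 0, 3] 5 0 611 = true := by decide +kernel

theorem chk_pow3_0_1 : tab.minOKc [0, 2, 0, 2, 0, 3, 0, 2, 0, 3, 0, 2, 0, 3] 5 611 611 = true := by decide +kernel

theorem chk_pow3_0_2 : tab.minOKc [0, 2, 0, 2, 0, 3, 0, 2, 0, 3, 0, 2, 0, 3] 5 1222 611 = true := by decide +kernel

theorem chk_pow3_0_3 : tab.minOKc [0, 2, 0, 2, 0, 3, 0, 2, 0, 3, 0, 2, 0, 3] 5 1833 611 = true := by decide +kernel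

theorem chk_pow3_0_4 : tab.minOKc [0, 2, 0, 2, 0, 3, 0, 2, 0, 3, 0, 2, 0, 3] 5 2444 611 = true := by decide +kernel

theorem chk_pow3_0_5 : tab.minOKc [0, 2, 0, 2, 0, 3, 0, 2, 0, 3, 0, 2, 0, 3] 5 3055 611 = true := by decide +kernel

theorem chk_pow3_0_6 : tab.minOKc [0, 2, 0, 2, 0, 3, 0, 2, 0, 3, 0, 2, 0, 3] 5 3666 611 = true := by decide +kernel

theorem chk_pow3_0_7 : tab.minOKc [0, 2, 0, 2, 0, 3, 0, 2, 0, 3, 0, 2, 0, 3] 5 4277 611 = true := by decide +kernel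

theorem chk_pow3_0_8 : tab.minOKc [0, 2, 0, 2, 0, 3, 0, 2, 0, 3, 0, 2, 0, 3] 5 4888 611 = true := by decide +kernel

theorem chk_pow3_0_9 : tab.minOKc [0, 2, 0, 2, 0, 3, 0, 2, 0, 3, 0, 2, 0, 3] 5 5499 611 = true := by decide +kernel

theorem chk_pow3_0_10 : tab.minOKc [0, 2, 0, 2, 0, 3, 0, 2, 0, 3, 0, 2, 0, 3] 5 6110 611 = true := by decide +kernel

theorem chk_pow3_0_11 : tab.minOKc [0, 2, 0, 2, 0, 3, 0, 2, 0, 3, 0, 2, 0, 3] 5 6721 611 = true := by decide +kernel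

theorem chk_pow3_0_12 : tab.minOKc [0, 2, 0, 2, 0, 3, 0, 2, 0, 3, 0, 2, 0, 3] 5 7332 611 = true := by decide +kernel

theorem chk_pow3_0_13 : tab.minOKc [0, 2, 0, 2, 0, 3, 0, 2, 0, 3, 0, 2, 0, 3] 5 7943 611 = true := by decide +kernel

theorem chk_pow3_0_14 : tab.minOKc [0, 2, 0, 2, 0, 3, 0, 2, 0, 3, 0, 2, 0, 3] 5 8554 611 = true := by decide +kernel

theorem chk_pow3_0 : tab.minOKc [0, 2, 0, 2, 0, 3, 0, 2, 0, 3, 0, 2, 0, 3] 5 0 9165 = true := by
  refine tab.minOKc_of_chunks [0, 2, 0, 2, 0, 3, 0, 2, 0, 3, 0, 2, 0, 3] 5 0 611 15 (by norm_num) ?_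
  intro i hi
  interval_cases i
  · exact chk_pow3_0_0
  · exact chk_pow3_0_1
  · exact chk_pow3_0_2
  · exact chk_pow3_0_3
  · exact chk_pow3_0_4
  · exact chk_pow3_0_5
  · exact chk_pow3_0_6
  · exact chk_pow3_0_7
  · exact chk_pow3_0_8
  · exact chk_pow3_0_9
  · exact chk_pow3_0_10
  · exact chk_pow3_0_11
  · exact chk_pow3_0_12
  · exact chk_pow3_0_13
  · exact chk_pow3_0_14

end Cfsg.Agent.Lib.Helper6.PJ1CTC
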