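import Cfsg.Agent.Lib.Helper6.PJ1CTCData
import Cfsg.Agent.Lib.Helper6.TCRel3

/-! # PJ1C: the kernel check of a part of the relators on the coset table -/

set_option autoImplicit false

namespace Cfsg.Agent.Lib.Helper6.PJ1CTC

open Cfsg.Agent.Lib.Helper6.TC

theorem chk_pow3_1_0 : tab.minOKc [0, 2, 0, 2, 0, 3, 0, 2, 0, 3, 0, 2, 0, 3] 5 9165 611 = true := by decide +kernel

theorem chk_pow3_1_1 : tab.minOKc [0, 2, 0, 2, 0, 3, 0, 2, 0, 3, 0, 2, 0, 3] 5 9776 611 = true := by decide +kernel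

theorem chk_pow3_1_2 : tab.minOKc [0, 2, 0, 2, 0, 3, 0, 2, 0, 3, 0, 2, 0, 3] 5 10387 611 = true := by decide +kernel

theorem chk_pow3_1_3 : tab.minOKc [0, 2, 0, 2, 0, 3, 0, 2, 0, 3, 0, 2, 0, 3] 5 10998 611 = true := by decide +kernel

theorem chk_pow3_1_4 : tab.minOKc [0, 2, 0, 2, 0, 3, 0, 2, 0, 3, 0, 2, 0, 3] 5 11609 611 = true := by decide +kernel

theorem chk_pow3_1_5 : tab.minOKc [0, 2, 0, 2, 0, 3, 0, 2, 0, 3, 0, 2, 0, 3] 5 12220 611 = true := by decide +kernel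

theorem chk_pow3_1_6 : tab.minOKc [0, 2, 0, 2, 0, 3, 0, 2, 0, 3, 0, 2, 0, 3] 5 12831 611 = true := by decide +kernel

theorem chk_pow3_1_7 : tab.minOKc [0, 2, 0, 2, 0, 3, 0, 2, 0, 3, 0, 2, 0, 3] 5 13442 611 = true := by decide +kernel

theorem chk_pow3_1_8 : tab.minOKc [0, 2, 0, 2, 0, 3, 0, 2, 0, 3, 0, 2, 0, 3] 5 14053 611 = true := by decide +kernel

theorem chk_pow3_1_9 : tab.minOKc [0, 2, 0, 2, 0, 3, 0, 2, 0, 3, 0, 2, 0, 3] 5 14664 611 = true := by decide +kernel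

theorem chk_pow3_1_10 : tab.minOKc [0, 2, 0, 2, 0, 3, 0, 2, 0, 3, 0, 2, 0, 3] 5 15275 611 = true := by decide +kernel

theorem chk_pow3_1_11 : tab.minOKc [0, 2, 0, 2, 0, 3, 0, 2, 0, 3, 0, 2, 0, 3] 5 15886 611 = true := by decide +kernel

theorem chk_pow3_1_12 : tab.minOKc [0, 2, 0, 2, 0, 3, 0, 2, 0, 3, 0, 2, 0, 3] 5 16497 611 = true := by decide +kernel

theorem chk_pow3_1_13 : tab.minOKc [0, 2, 0, 2, 0, 3, 0, 2, 0, 3, 0, 2, 0, 3] 5 17108 611 = true := by decide +kernel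

theorem chk_pow3_1_14 : tab.minOKc [0, 2, 0, 2, 0, 3, 0, 2, 0, 3, 0, 2, 0, 3] 5 17719 611 = true := by decide +kernel

theorem chk_pow3_1 : tab.minOKc [0, 2, 0, 2, 0, 3, 0, 2, 0, 3, 0, 2, 0, 3] 5 9165 9165 = true := by
  refine tab.minOKc_of_chunks [0, 2, 0, 2, 0, 3, 0, 2, 0, 3, 0, 2, 0, 3] 5 9165 611 15 (by norm_num) ?_
  intro i hi
  interval_cases i
  · exact chk_pow3_1_0
  · exact chk_pow3_1_1
  · exact chk_pow3_1_2
  · exact chk_pow3_1_3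
  · exact chk_pow3_1_4
  · exact chk_pow3_1_5
  · exact chk_pow3_1_6
  · exact chk_pow3_1_7
  · exact chk_pow3_1_8
  · exact chk_pow3_1_9
  · exact chk_pow3_1_10
  · exact chk_pow3_1_11
  · exact chk_pow3_1_12
  · exact chk_pow3_1_13
  · exact chk_pow3_1_14

theorem chk_pow3_2_0 : tab.minOKc [0, 2, 0, 2, 0, 3, 0, 2, 0, 3, 0, 2, 0, 3] 5 18330 611 = true := by decide +kernel

theorem chk_pow3_2_1 : tab.minOKc [0, 2, 0, 2, 0, 3, 0, 2, 0, 3, 0, 2, 0, 3] 5 18941 611 = true := by decide +kernel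

theorem chk_pow3_2_2 : tab.minOKc [0, 2, 0, 2, 0, 3, 0, 2, 0, 3, 0, 2, 0, 3] 5 19552 611 = true := by decide +kernel

theorem chk_pow3_2_3 : tab.minOKc [0, 2, 0, 2, 0, 3, 0, 2, 0, 3, 0, 2, 0, 3] 5 20163 611 = true := by decide +kernel

theorem chk_pow3_2_4 : tab.minOKc [0, 2, 0, 2, 0, 3, 0, 2, 0, 3, 0, 2, 0, 3] 5 20774 611 = true := by decide +kernel

theorem chk_pow3_2_5 : tab.minOKc [0, 2, 0, 2, 0, 3, 0, 2, 0, 3, 0, 2, 0, 3] 5 21385 611 = true := by decide +kernel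

theorem chk_pow3_2_6 : tab.minOKc [0, 2, 0, 2, 0, 3, 0, 2, 0, 3, 0, 2, 0, 3] 5 21996 611 = true := by decide +kernel

theorem chk_pow3_2_7 : tab.minOKc [0, 2, 0, 2, 0, 3, 0, 2, 0, 3, 0, 2, 0, 3] 5 22607 611 = true := by decide +kernel

theorem chk_pow3_2_8 : tab.minOKc [0, 2, 0, 2, 0, 3, 0, 2, 0, 3, 0, 2, 0, 3] 5 23218 611 = true := by decide +kernel

theorem chk_pow3_2_9 : tab.minOKc [0, 2, 0, 2, 0, 3, 0, 2, 0, 3, 0, 2, 0, 3] 5 23829 611 = true := by decide +kernel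

theorem chk_pow3_2_10 : tab.minOKc [0, 2, 0, 2, 0, 3, 0, 2, 0, 3, 0, 2, 0, 3] 5 24440 611 = true := by decide +kernel

theorem chk_pow3_2_11 : tab.minOKc [0, 2, 0, 2, 0, 3, 0, 2, 0, 3, 0, 2, 0, 3] 5 25051 611 = true := by decide +kernel

theorem chk_pow3_2_12 : tab.minOKc [0, 2, 0, 2, 0, 3, 0, 2, 0, 3, 0, 2, 0, 3] 5 25662 611 = true := by decide +kernel

theorem chk_pow3_2_13 : tab.minOKc [0, 2, 0, 2, 0, 3, 0, 2, 0, 3, 0, 2, 0, 3] 5 26273 611 = true := by decide +kernel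

theorem chk_pow3_2_14 : tab.minOKc [0, 2, 0, 2, 0, 3, 0, 2, 0, 3, 0, 2, 0, 3] 5 26884 611 = true := by decide +kernel

theorem chk_pow3_2 : tab.minOKc [0, 2, 0, 2, 0, 3, 0, 2, 0, 3, 0, 2, 0, 3] 5 18330 9165 = true := by
  refine tab.minOKc_of_chunks [0, 2, 0, 2, 0, 3, 0, 2, 0, 3, 0, 2, 0, 3] 5 18330 611 15 (by norm_num) ?_
  intro i hi
  interval_cases i
  · exact chk_pow3_2_0
  · exact chk_pow3_2_1
  · exact chk_pow3_2_2
  · exact chk_pow3_2_3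
  · exact chk_pow3_2_4
  · exact chk_pow3_2_5
  · exact chk_pow3_2_6
  · exact chk_pow3_2_7
  · exact chk_pow3_2_8
  · exact chk_pow3_2_9
  · exact chk_pow3_2_10
  · exact chk_pow3_2_11
  · exact chk_pow3_2_12
  · exact chk_pow3_2_13
  · exact chk_pow3_2_14

end Cfsg.Agent.Lib.Helper6.PJ1CTC
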