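import Cfsg.Agent.Lib.Helper6.PJ1CTCData
import Cfsg.Agent.Lib.Helper6.TCRel3

/-! # PJ1C: the kernel check of a part of the relators on the coset table -/

set_option autoImplicit false

namespace Cfsg.Agent.Lib.Helper6.PJ1CTC

open Cfsg.Agent.Lib.Helper6.TC

theorem chk_pow4_0_0 : tab.minOKc [0, 2, 0, 2, 0, 3, 0, 2, 0, 3, 0, 2, 0, 3, 0, 2, 0, 3, 0, 2, 0, 3, 0, 2, 0, 3, 0, 2, 0, 2, 0, 3, 0, 3] 2 0 391 = true := by decide +kernel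

theorem chk_pow4_0_1 : tab.minOKc [0, 2, 0, 2, 0, 3, 0, 2, 0, 3, 0, 2, 0, 3, 0, 2, 0, 3, 0, 2, 0, 3, 0, 2, 0, 3, 0, 2, 0, 2, 0, 3, 0, 3] 2 391 391 = true := by decide +kernel

theorem chk_pow4_0_2 : tab.minOKc [0, 2, 0, 2, 0, 3, 0, 2, 0, 3, 0, 2, 0, 3, 0, 2, 0, 3, 0, 2, 0, 3, 0, 2, 0, 3, 0, 2, 0, 2, 0, 3, 0, 3] 2 782 391 = true := by decide +kernel

theorem chk_pow4_0_3 : tab.minOKc [0, 2, 0, 2, 0, 3, 0, 2, 0, 3, 0, 2, 0, 3, 0, 2, 0, 3, 0, 2, 0, 3, 0, 2, 0, 3, 0, 2, 0, 2, 0, 3, 0, 3] 2 1173 391 = true := by decide +kernel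

theorem chk_pow4_0_4 : tab.minOKc [0, 2, 0, 2, 0, 3, 0, 2, 0, 3, 0, 2, 0, 3, 0, 2, 0, 3, 0, 2, 0, 3, 0, 2, 0, 3, 0, 2, 0, 2, 0, 3, 0, 3] 2 1564 391 = true := by decide +kernel

theorem chk_pow4_0_5 : tab.minOKc [0, 2, 0, 2, 0, 3, 0, 2, 0, 3, 0, 2, 0, 3, 0, 2, 0, 3, 0, 2, 0, 3, 0, 2, 0, 3, 0, 2, 0, 2, 0, 3, 0, 3] 2 1955 391 = true := by decide +kernel

theorem chk_pow4_0_6 : tab.minOKc [0, 2, 0, 2, 0, 3, 0, 2, 0, 3, 0, 2, 0, 3, 0, 2, 0, 3, 0, 2, 0, 3, 0, 2, 0, 3, 0, 2, 0, 2, 0, 3, 0, 3] 2 2346 391 = true := by decide +kernel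

theorem chk_pow4_0_7 : tab.minOKc [0, 2, 0, 2, 0, 3, 0, 2, 0, 3, 0, 2, 0, 3, 0, 2, 0, 3, 0, 2, 0, 3, 0, 2, 0, 3, 0, 2, 0, 2, 0, 3, 0, 3] 2 2737 391 = true := by decide +kernel

theorem chk_pow4_0_8 : tab.minOKc [0, 2, 0, 2, 0, 3, 0, 2, 0, 3, 0, 2, 0, 3, 0, 2, 0, 3, 0, 2, 0, 3, 0, 2, 0, 3, 0, 2, 0, 2, 0, 3, 0, 3] 2 3128 391 = true := by decide +kernel

theorem chk_pow4_0_9 : tab.minOKc [0, 2, 0, 2, 0, 3, 0, 2, 0, 3, 0, 2, 0, 3, 0, 2, 0, 3, 0, 2, 0, 3, 0, 2, 0, 3, 0, 2, 0, 2, 0, 3, 0, 3] 2 3519 391 = true := by decide +kernel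

theorem chk_pow4_0_10 : tab.minOKc [0, 2, 0, 2, 0, 3, 0, 2, 0, 3, 0, 2, 0, 3, 0, 2, 0, 3, 0, 2, 0, 3, 0, 2, 0, 3, 0, 2, 0, 2, 0, 3, 0, 3] 2 3910 391 = true := by decide +kernel

theorem chk_pow4_0_11 : tab.minOKc [0, 2, 0, 2, 0, 3, 0, 2, 0, 3, 0, 2, 0, 3, 0, 2, 0, 3, 0, 2, 0, 3, 0, 2, 0, 3, 0, 2, 0, 2, 0, 3, 0, 3] 2 4301 391 = true := by decide +kernel

theorem chk_pow4_0_12 : tab.minOKc [0, 2, 0, 2, 0, 3, 0, 2, 0, 3, 0, 2, 0, 3, 0, 2, 0, 3, 0, 2, 0, 3, 0, 2, 0, 3, 0, 2, 0, 2, 0, 3, 0, 3] 2 4692 391 = true := by decide +kernel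

theorem chk_pow4_0_13 : tab.minOKc [0, 2, 0, 2, 0, 3, 0, 2, 0, 3, 0, 2, 0, 3, 0, 2, 0, 3, 0, 2, 0, 3, 0, 2, 0, 3, 0, 2, 0, 2, 0, 3, 0, 3] 2 5083 391 = true := by decide +kernel

theorem chk_pow4_0_14 : tab.minOKc [0, 2, 0, 2, 0, 3, 0, 2, 0, 3, 0, 2, 0, 3, 0, 2, 0, 3, 0, 2, 0, 3, 0, 2, 0, 3, 0, 2, 0, 2, 0, 3, 0, 3] 2 5474 391 = true := by decide +kernel

theorem chk_pow4_0 : tab.minOKc [0, 2, 0, 2, 0, 3, 0, 2, 0, 3, 0, 2, 0, 3, 0, 2, 0, 3, 0, 2, 0, 3, 0, 2, 0, 3, 0, 2, 0, 2, 0, 3, 0, 3] 2 0 5865 = true := by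
  refine tab.minOKc_of_chunks [0, 2, 0, 2, 0, 3, 0, 2, 0, 3, 0, 2, 0, 3, 0, 2, 0, 3, 0, 2, 0, 3, 0, 2, 0, 3, 0, 2, 0, 2, 0, 3, 0, 3] 2 0 391 15 (by norm_num) ?_
  intro i hi
  interval_cases i
  · exact chk_pow4_0_0
  · exact chk_pow4_0_1
  · exact chk_pow4_0_2
  · exact chk_pow4_0_3
  · exact chk_pow4_0_4
  · exact chk_pow4_0_5
  · exact chk_pow4_0_6
  · exact chk_pow4_0_7
  · exact chk_pow4_0_8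
  · exact chk_pow4_0_9
  · exact chk_pow4_0_10
  · exact chk_pow4_0_11
  · exact chk_pow4_0_12
  · exact chk_pow4_0_13
  · exact chk_pow4_0_14

theorem chk_pow4_1_0 : tab.minOKc [0, 2, 0, 2, 0, 3, 0, 2, 0, 3, 0, 2, 0, 3, 0, 2, 0, 3, 0, 2, 0, 3, 0, 2, 0, 3, 0, 2, 0, 2, 0, 3, 0, 3] 2 5865 391 = true := by decide +kernel

theorem chk_pow4_1_1 : tab.minOKc [0, 2, 0, 2, 0, 3, 0, 2, 0, 3, 0, 2, 0, 3, 0, 2, 0, 3, 0, 2, 0, 3, 0, 2, 0, 3, 0, 2, 0, 2, 0, 3, 0, 3] 2 6256 391 = true := by decide +kernel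

theorem chk_pow4_1_2 : tab.minOKc [0, 2, 0, 2, 0, 3, 0, 2, 0, 3, 0, 2, 0, 3, 0, 2, 0, 3, 0, 2, 0, 3, 0, 2, 0, 3, 0, 2, 0, 2, 0, 3, 0, 3] 2 6647 391 = true := by decide +kernel

theorem chk_pow4_1_3 : tab.minOKc [0, 2, 0, 2, 0, 3, 0, 2, 0, 3, 0, 2, 0, 3, 0, 2, 0, 3, 0, 2, 0, 3, 0, 2, 0, 3, 0, 2, 0, 2, 0, 3, 0, 3] 2 7038 391 = true := by decide +kernel

theorem chk_pow4_1_4 : tab.minOKc [0, 2, 0, 2, 0, 3, 0, 2, 0, 3, 0, 2, 0, 3, 0, 2, 0, 3, 0, 2, 0, 3, 0, 2, 0, 3, 0, 2, 0, 2, 0, 3, 0, 3] 2 7429 391 = true := by decide +kernel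

theorem chk_pow4_1_5 : tab.minOKc [0, 2, 0, 2, 0, 3, 0, 2, 0, 3, 0, 2, 0, 3, 0, 2, 0, 3, 0, 2, 0, 3, 0, 2, 0, 3, 0, 2, 0, 2, 0, 3, 0, 3] 2 7820 391 = true := by decide +kernel

theorem chk_pow4_1_6 : tab.minOKc [0, 2, 0, 2, 0, 3, 0, 2, 0, 3, 0, 2, 0, 3, 0, 2, 0, 3, 0, 2, 0, 3, 0, 2, 0, 3, 0, 2, 0, 2, 0, 3, 0, 3] 2 8211 391 = true := by decide +kernel

theorem chk_pow4_1_7 : tab.minOKc [0, 2, 0, 2, 0, 3, 0, 2, 0, 3, 0, 2, 0, 3, 0, 2, 0, 3, 0, 2, 0, 3, 0, 2, 0, 3, 0, 2, 0, 2, 0, 3, 0, 3] 2 8602 391 = true := by decide +kernel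

theorem chk_pow4_1_8 : tab.minOKc [0, 2, 0, 2, 0, 3, 0, 2, 0, 3, 0, 2, 0, 3, 0, 2, 0, 3, 0, 2, 0, 3, 0, 2, 0, 3, 0, 2, 0, 2, 0, 3, 0, 3] 2 8993 391 = true := by decide +kernel

theorem chk_pow4_1_9 : tab.minOKc [0, 2, 0, 2, 0, 3, 0, 2, 0, 3, 0, 2, 0, 3, 0, 2, 0, 3, 0, 2, 0, 3, 0, 2, 0, 3, 0, 2, 0, 2, 0, 3, 0, 3] 2 9384 391 = true := by decide +kernel

theorem chk_pow4_1_10 : tab.minOKc [0, 2, 0, 2, 0, 3, 0, 2, 0, 3, 0, 2, 0, 3, 0, 2, 0, 3, 0, 2, 0, 3, 0, 2, 0, 3, 0, 2, 0, 2, 0, 3, 0, 3] 2 9775 391 = true := by decide +kernel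

theorem chk_pow4_1_11 : tab.minOKc [0, 2, 0, 2, 0, 3, 0, 2, 0, 3, 0, 2, 0, 3, 0, 2, 0, 3, 0, 2, 0, 3, 0, 2, 0, 3, 0, 2, 0, 2, 0, 3, 0, 3] 2 10166 391 = true := by decide +kernel

theorem chk_pow4_1_12 : tab.minOKc [0, 2, 0, 2, 0, 3, 0, 2, 0, 3, 0, 2, 0, 3, 0, 2, 0, 3, 0, 2, 0, 3, 0, 2, 0, 3, 0, 2, 0, 2, 0, 3, 0, 3] 2 10557 391 = true := by decide +kernel

theorem chk_pow4_1_13 : tab.minOKc [0, 2, 0, 2, 0, 3, 0, 2, 0, 3, 0, 2, 0, 3, 0, 2, 0, 3, 0, 2, 0, 3, 0, 2, 0, 3, 0, 2, 0, 2, 0, 3, 0, 3] 2 10948 391 = true := by decide +kernel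

theorem chk_pow4_1_14 : tab.minOKc [0, 2, 0, 2, 0, 3, 0, 2, 0, 3, 0, 2, 0, 3, 0, 2, 0, 3, 0, 2, 0, 3, 0, 2, 0, 3, 0, 2, 0, 2, 0, 3, 0, 3] 2 11339 391 = true := by decide +kernel

theorem chk_pow4_1 : tab.minOKc [0, 2, 0, 2, 0, 3, 0, 2, 0, 3, 0, 2, 0, 3, 0, 2, 0, 3, 0, 2, 0, 3, 0, 2, 0, 3, 0, 2, 0, 2, 0, 3, 0, 3] 2 5865 5865 = true := by
  refine tab.minOKc_of_chunks [0, 2, 0, 2, 0, 3, 0, 2, 0, 3, 0, 2, 0, 3, 0, 2, 0, 3, 0, 2, 0, 3, 0, 2, 0, 3, 0, 2, 0, 2, 0, 3, 0, 3] 2 5865 391 15 (by norm_num) ?_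
  intro i hi
  interval_cases i
  · exact chk_pow4_1_0
  · exact chk_pow4_1_1
  · exact chk_pow4_1_2
  · exact chk_pow4_1_3
  · exact chk_pow4_1_4
  · exact chk_pow4_1_5
  · exact chk_pow4_1_6
  · exact chk_pow4_1_7
  · exact chk_pow4_1_8
  · exact chk_pow4_1_9
  · exact chk_pow4_1_10
  · exact chk_pow4_1_11
  · exact chk_pow4_1_12
  · exact chk_pow4_1_13
  · exact chk_pow4_1_14

end Cfsg.Agent.Lib.Helper6.PJ1CTC
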