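import Cfsg.Agent.Lib.Helper6.PJ1CTCData
import Cfsg.Agent.Lib.Helper6.TCRel3

/-! # PJ1C: the kernel check of a part of the relators on the coset table -/

set_option autoImplicit false

namespace Cfsg.Agent.Lib.Helper6.PJ1CTC

open Cfsg.Agent.Lib.Helper6.TC

theorem chk_pow4_2_0 : tab.minOKc [0, 2, 0, 2, 0, 3, 0, 2, 0, 3, 0, 2, 0, 3, 0, 2, 0, 3, 0, 2, 0, 3, 0, 2, 0, 3, 0, 2, 0, 2, 0, 3, 0, 3] 2 11730 391 = true := by decide +kernel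

theorem chk_pow4_2_1 : tab.minOKc [0, 2, 0, 2, 0, 3, 0, 2, 0, 3, 0, 2, 0, 3, 0, 2, 0, 3, 0, 2, 0, 3, 0, 2, 0, 3, 0, 2, 0, 2, 0, 3, 0, 3] 2 12121 391 = true := by decide +kernel

theorem chk_pow4_2_2 : tab.minOKc [0, 2, 0, 2, 0, 3, 0, 2, 0, 3, 0, 2, 0, 3, 0, 2, 0, 3, 0, 2, 0, 3, 0, 2, 0, 3, 0, 2, 0, 2, 0, 3, 0, 3] 2 12512 391 = true := by decide +kernel

theorem chk_pow4_2_3 : tab.minOKc [0, 2, 0, 2, 0, 3, 0, 2, 0, 3, 0, 2, 0, 3, 0, 2, 0, 3, 0, 2, 0, 3, 0, 2, 0, 3, 0, 2, 0, 2, 0, 3, 0, 3] 2 12903 391 = true := by decide +kernel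

theorem chk_pow4_2_4 : tab.minOKc [0, 2, 0, 2, 0, 3, 0, 2, 0, 3, 0, 2, 0, 3, 0, 2, 0, 3, 0, 2, 0, 3, 0, 2, 0, 3, 0, 2, 0, 2, 0, 3, 0, 3] 2 13294 391 = true := by decide +kernel

theorem chk_pow4_2_5 : tab.minOKc [0, 2, 0, 2, 0, 3, 0, 2, 0, 3, 0, 2, 0, 3, 0, 2, 0, 3, 0, 2, 0, 3, 0, 2, 0, 3, 0, 2, 0, 2, 0, 3, 0, 3] 2 13685 391 = true := by decide +kernel

theorem chk_pow4_2_6 : tab.minOKc [0, 2, 0, 2, 0, 3, 0, 2, 0, 3, 0, 2, 0, 3, 0, 2, 0, 3, 0, 2, 0, 3, 0, 2, 0, 3, 0, 2, 0, 2, 0, 3, 0, 3] 2 14076 391 = true := by decide +kernel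

theorem chk_pow4_2_7 : tab.minOKc [0, 2, 0, 2, 0, 3, 0, 2, 0, 3, 0, 2, 0, 3, 0, 2, 0, 3, 0, 2, 0, 3, 0, 2, 0, 3, 0, 2, 0, 2, 0, 3, 0, 3] 2 14467 391 = true := by decide +kernel

theorem chk_pow4_2_8 : tab.minOKc [0, 2, 0, 2, 0, 3, 0, 2, 0, 3, 0, 2, 0, 3, 0, 2, 0, 3, 0, 2, 0, 3, 0, 2, 0, 3, 0, 2, 0, 2, 0, 3, 0, 3] 2 14858 391 = true := by decide +kernel

theorem chk_pow4_2_9 : tab.minOKc [0, 2, 0, 2, 0, 3, 0, 2, 0, 3, 0, 2, 0, 3, 0, 2, 0, 3, 0, 2, 0, 3, 0, 2, 0, 3, 0, 2, 0, 2, 0, 3, 0, 3] 2 15249 391 = true := by decide +kernel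

theorem chk_pow4_2_10 : tab.minOKc [0, 2, 0, 2, 0, 3, 0, 2, 0, 3, 0, 2, 0, 3, 0, 2, 0, 3, 0, 2, 0, 3, 0, 2, 0, 3, 0, 2, 0, 2, 0, 3, 0, 3] 2 15640 391 = true := by decide +kernel

theorem chk_pow4_2_11 : tab.minOKc [0, 2, 0, 2, 0, 3, 0, 2, 0, 3, 0, 2, 0, 3, 0, 2, 0, 3, 0, 2, 0, 3, 0, 2, 0, 3, 0, 2, 0, 2, 0, 3, 0, 3] 2 16031 391 = true := by decide +kernel

theorem chk_pow4_2_12 : tab.minOKc [0, 2, 0, 2, 0, 3, 0, 2, 0, 3, 0, 2, 0, 3, 0, 2, 0, 3, 0, 2, 0, 3, 0, 2, 0, 3, 0, 2, 0, 2, 0, 3, 0, 3] 2 16422 391 = true := by decide +kernel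

theorem chk_pow4_2_13 : tab.minOKc [0, 2, 0, 2, 0, 3, 0, 2, 0, 3, 0, 2, 0, 3, 0, 2, 0, 3, 0, 2, 0, 3, 0, 2, 0, 3, 0, 2, 0, 2, 0, 3, 0, 3] 2 16813 391 = true := by decide +kernel

theorem chk_pow4_2_14 : tab.minOKc [0, 2, 0, 2, 0, 3, 0, 2, 0, 3, 0, 2, 0, 3, 0, 2, 0, 3, 0, 2, 0, 3, 0, 2, 0, 3, 0, 2, 0, 2, 0, 3, 0, 3] 2 17204 391 = true := by decide +kernel

theorem chk_pow4_2 : tab.minOKc [0, 2, 0, 2, 0, 3, 0, 2, 0, 3, 0, 2, 0, 3, 0, 2, 0, 3, 0, 2, 0, 3, 0, 2, 0, 3, 0, 2, 0, 2, 0, 3, 0, 3] 2 11730 5865 = true := by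
  refine tab.minOKc_of_chunks [0, 2, 0, 2, 0, 3, 0, 2, 0, 3, 0, 2, 0, 3, 0, 2, 0, 3, 0, 2, 0, 3, 0, 2, 0, 3, 0, 2, 0, 2, 0, 3, 0, 3] 2 11730 391 15 (by norm_num) ?_
  intro i hi
  interval_cases i
  · exact chk_pow4_2_0
  · exact chk_pow4_2_1
  · exact chk_pow4_2_2
  · exact chk_pow4_2_3
  · exact chk_pow4_2_4
  · exact chk_pow4_2_5
  · exact chk_pow4_2_6
  · exact chk_pow4_2_7
  · exact chk_pow4_2_8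
  · exact chk_pow4_2_9
  · exact chk_pow4_2_10
  · exact chk_pow4_2_11
  · exact chk_pow4_2_12
  · exact chk_pow4_2_13
  · exact chk_pow4_2_14

theorem chk_pow4_3_0 : tab.minOKc [0, 2, 0, 2, 0, 3, 0, 2, 0, 3, 0, 2, 0, 3, 0, 2, 0, 3, 0, 2, 0, 3, 0, 2, 0, 3, 0, 2, 0, 2, 0, 3, 0, 3] 2 17595 391 = true := by decide +kernel

theorem chk_pow4_3_1 : tab.minOKc [0, 2, 0, 2, 0, 3, 0, 2, 0, 3, 0, 2, 0, 3, 0, 2, 0, 3, 0, 2, 0, 3, 0, 2, 0, 3, 0, 2, 0, 2, 0, 3, 0, 3] 2 17986 391 = true := by decide +kernel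

theorem chk_pow4_3_2 : tab.minOKc [0, 2, 0, 2, 0, 3, 0, 2, 0, 3, 0, 2, 0, 3, 0, 2, 0, 3, 0, 2, 0, 3, 0, 2, 0, 3, 0, 2, 0, 2, 0, 3, 0, 3] 2 18377 391 = true := by decide +kernel

theorem chk_pow4_3_3 : tab.minOKc [0, 2, 0, 2, 0, 3, 0, 2, 0, 3, 0, 2, 0, 3, 0, 2, 0, 3, 0, 2, 0, 3, 0, 2, 0, 3, 0, 2, 0, 2, 0, 3, 0, 3] 2 18768 391 = true := by decide +kernel

theorem chk_pow4_3_4 : tab.minOKc [0, 2, 0, 2, 0, 3, 0, 2, 0, 3, 0, 2, 0, 3, 0, 2, 0, 3, 0, 2, 0, 3, 0, 2, 0, 3, 0, 2, 0, 2, 0, 3, 0, 3] 2 19159 391 = true := by decide +kernel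

theorem chk_pow4_3_5 : tab.minOKc [0, 2, 0, 2, 0, 3, 0, 2, 0, 3, 0, 2, 0, 3, 0, 2, 0, 3, 0, 2, 0, 3, 0, 2, 0, 3, 0, 2, 0, 2, 0, 3, 0, 3] 2 19550 391 = true := by decide +kernel

theorem chk_pow4_3_6 : tab.minOKc [0, 2, 0, 2, 0, 3, 0, 2, 0, 3, 0, 2, 0, 3, 0, 2, 0, 3, 0, 2, 0, 3, 0, 2, 0, 3, 0, 2, 0, 2, 0, 3, 0, 3] 2 19941 391 = true := by decide +kernel

theorem chk_pow4_3_7 : tab.minOKc [0, 2, 0, 2, 0, 3, 0, 2, 0, 3, 0, 2, 0, 3, 0, 2, 0, 3, 0, 2, 0, 3, 0, 2, 0, 3, 0, 2, 0, 2, 0, 3, 0, 3] 2 20332 391 = true := by decide +kernel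

theorem chk_pow4_3_8 : tab.minOKc [0, 2, 0, 2, 0, 3, 0, 2, 0, 3, 0, 2, 0, 3, 0, 2, 0, 3, 0, 2, 0, 3, 0, 2, 0, 3, 0, 2, 0, 2, 0, 3, 0, 3] 2 20723 391 = true := by decide +kernel

theorem chk_pow4_3_9 : tab.minOKc [0, 2, 0, 2, 0, 3, 0, 2, 0, 3, 0, 2, 0, 3, 0, 2, 0, 3, 0, 2, 0, 3, 0, 2, 0, 3, 0, 2, 0, 2, 0, 3, 0, 3] 2 21114 391 = true := by decide +kernel

theorem chk_pow4_3_10 : tab.minOKc [0, 2, 0, 2, 0, 3, 0, 2, 0, 3, 0, 2, 0, 3, 0, 2, 0, 3, 0, 2, 0, 3, 0, 2, 0, 3, 0, 2, 0, 2, 0, 3, 0, 3] 2 21505 391 = true := by decide +kernel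

theorem chk_pow4_3_11 : tab.minOKc [0, 2, 0, 2, 0, 3, 0, 2, 0, 3, 0, 2, 0, 3, 0, 2, 0, 3, 0, 2, 0, 3, 0, 2, 0, 3, 0, 2, 0, 2, 0, 3, 0, 3] 2 21896 391 = true := by decide +kernel

theorem chk_pow4_3_12 : tab.minOKc [0, 2, 0, 2, 0, 3, 0, 2, 0, 3, 0, 2, 0, 3, 0, 2, 0, 3, 0, 2, 0, 3, 0, 2, 0, 3, 0, 2, 0, 2, 0, 3, 0, 3] 2 22287 391 = true := by decide +kernel

theorem chk_pow4_3_13 : tab.minOKc [0, 2, 0, 2, 0, 3, 0, 2, 0, 3, 0, 2, 0, 3, 0, 2, 0, 3, 0, 2, 0, 3, 0, 2, 0, 3, 0, 2, 0, 2, 0, 3, 0, 3] 2 22678 391 = true := by decide +kernel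

theorem chk_pow4_3_14 : tab.minOKc [0, 2, 0, 2, 0, 3, 0, 2, 0, 3, 0, 2, 0, 3, 0, 2, 0, 3, 0, 2, 0, 3, 0, 2, 0, 3, 0, 2, 0, 2, 0, 3, 0, 3] 2 23069 391 = true := by decide +kernel

theorem chk_pow4_3 : tab.minOKc [0, 2, 0, 2, 0, 3, 0, 2, 0, 3, 0, 2, 0, 3, 0, 2, 0, 3, 0, 2, 0, 3, 0, 2, 0, 3, 0, 2, 0, 2, 0, 3, 0, 3] 2 17595 5865 = true := by
  refine tab.minOKc_of_chunks [0, 2, 0, 2, 0, 3, 0, 2, 0, 3, 0, 2, 0, 3, 0, 2, 0, 3, 0, 2, 0, 3, 0, 2, 0, 3, 0, 2, 0, 2, 0, 3, 0, 3] 2 17595 391 15 (by norm_num) ?_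
  intro i hi
  interval_cases i
  · exact chk_pow4_3_0
  · exact chk_pow4_3_1
  · exact chk_pow4_3_2
  · exact chk_pow4_3_3
  · exact chk_pow4_3_4
  · exact chk_pow4_3_5
  · exact chk_pow4_3_6
  · exact chk_pow4_3_7
  · exact chk_pow4_3_8
  · exact chk_pow4_3_9
  · exact chk_pow4_3_10
  · exact chk_pow4_3_11
  · exact chk_pow4_3_12
  · exact chk_pow4_3_13
  · exact chk_pow4_3_14

end Cfsg.Agent.Lib.Helper6.PJ1CTC
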