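import Cfsg.Agent.Lib.Helper6.PJ1CTCData
import Cfsg.Agent.Lib.Helper6.TCRel3

/-! # PJ1C: the kernel check of a part of the relators on the coset table -/

set_option autoImplicit false

namespace Cfsg.Agent.Lib.Helper6.PJ1CTC

open Cfsg.Agent.Lib.Helper6.TC

theorem chk_pow4_4_0 : tab.minOKc [0, 2, 0, 2, 0, 3, 0, 2, 0, 3, 0, 2, 0, 3, 0, 2, 0, 3, 0, 2, 0, 3, 0, 2, 0, 3, 0, 2, 0, 2, 0, 3, 0, 3] 2 23460 391 = true := by decide +kernel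

theorem chk_pow4_4_1 : tab.minOKc [0, 2, 0, 2, 0, 3, 0, 2, 0, 3, 0, 2, 0, 3, 0, 2, 0, 3, 0, 2, 0, 3, 0, 2, 0, 3, 0, 2, 0, 2, 0, 3, 0, 3] 2 23851 391 = true := by decide +kernel

theorem chk_pow4_4_2 : tab.minOKc [0, 2, 0, 2, 0, 3, 0, 2, 0, 3, 0, 2, 0, 3, 0, 2, 0, 3, 0, 2, 0, 3, 0, 2, 0, 3, 0, 2, 0, 2, 0, 3, 0, 3] 2 24242 391 = true := by decide +kernel

theorem chk_pow4_4_3 : tab.minOKc [0, 2, 0, 2, 0, 3, 0, 2, 0, 3, 0, 2, 0, 3, 0, 2, 0, 3, 0, 2, 0, 3, 0, 2, 0, 3, 0, 2, 0, 2, 0, 3, 0, 3] 2 24633 391 = true := by decide +kernel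

theorem chk_pow4_4_4 : tab.minOKc [0, 2, 0, 2, 0, 3, 0, 2, 0, 3, 0, 2, 0, 3, 0, 2, 0, 3, 0, 2, 0, 3, 0, 2, 0, 3, 0, 2, 0, 2, 0, 3, 0, 3] 2 25024 391 = true := by decide +kernel

theorem chk_pow4_4_5 : tab.minOKc [0, 2, 0, 2, 0, 3, 0, 2, 0, 3, 0, 2, 0, 3, 0, 2, 0, 3, 0, 2, 0, 3, 0, 2, 0, 3, 0, 2, 0, 2, 0, 3, 0, 3] 2 25415 391 = true := by decide +kernel

theorem chk_pow4_4_6 : tab.minOKc [0, 2, 0, 2, 0, 3, 0, 2, 0, 3, 0, 2, 0, 3, 0, 2, 0, 3, 0, 2, 0, 3, 0, 2, 0, 3, 0, 2, 0, 2, 0, 3, 0, 3] 2 25806 391 = true := by decide +kernel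

theorem chk_pow4_4_7 : tab.minOKc [0, 2, 0, 2, 0, 3, 0, 2, 0, 3, 0, 2, 0, 3, 0, 2, 0, 3, 0, 2, 0, 3, 0, 2, 0, 3, 0, 2, 0, 2, 0, 3, 0, 3] 2 26197 391 = true := by decide +kernel

theorem chk_pow4_4_8 : tab.minOKc [0, 2, 0, 2, 0, 3, 0, 2, 0, 3, 0, 2, 0, 3, 0, 2, 0, 3, 0, 2, 0, 3, 0, 2, 0, 3, 0, 2, 0, 2, 0, 3, 0, 3] 2 26588 391 = true := by decide +kernel

theorem chk_pow4_4_9 : tab.minOKc [0, 2, 0, 2, 0, 3, 0, 2, 0, 3, 0, 2, 0, 3, 0, 2, 0, 3, 0, 2, 0, 3, 0, 2, 0, 3, 0, 2, 0, 2, 0, 3, 0, 3] 2 26979 391 = true := by decide +kernel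

theorem chk_pow4_4_10 : tab.minOKc [0, 2, 0, 2, 0, 3, 0, 2, 0, 3, 0, 2, 0, 3, 0, 2, 0, 3, 0, 2, 0, 3, 0, 2, 0, 3, 0, 2, 0, 2, 0, 3, 0, 3] 2 27370 391 = true := by decide +kernel

theorem chk_pow4_4_11 : tab.minOKc [0, 2, 0, 2, 0, 3, 0, 2, 0, 3, 0, 2, 0, 3, 0, 2, 0, 3, 0, 2, 0, 3, 0, 2, 0, 3, 0, 2, 0, 2, 0, 3, 0, 3] 2 27761 391 = true := by decide +kernel

theorem chk_pow4_4_12 : tab.minOKc [0, 2, 0, 2, 0, 3, 0, 2, 0, 3, 0, 2, 0, 3, 0, 2, 0, 3, 0, 2, 0, 3, 0, 2, 0, 3, 0, 2, 0, 2, 0, 3, 0, 3] 2 28152 391 = true := by decide +kernel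

theorem chk_pow4_4_13 : tab.minOKc [0, 2, 0, 2, 0, 3, 0, 2, 0, 3, 0, 2, 0, 3, 0, 2, 0, 3, 0, 2, 0, 3, 0, 2, 0, 3, 0, 2, 0, 2, 0, 3, 0, 3] 2 28543 391 = true := by decide +kernel

theorem chk_pow4_4_14 : tab.minOKc [0, 2, 0, 2, 0, 3, 0, 2, 0, 3, 0, 2, 0, 3, 0, 2, 0, 3, 0, 2, 0, 3, 0, 2, 0, 3, 0, 2, 0, 2, 0, 3, 0, 3] 2 28934 391 = true := by decide +kernel

theorem chk_pow4_4 : tab.minOKc [0, 2, 0, 2, 0, 3, 0, 2, 0, 3, 0, 2, 0, 3, 0, 2, 0, 3, 0, 2, 0, 3, 0, 2, 0, 3, 0, 2, 0, 2, 0, 3, 0, 3] 2 23460 5865 = true := by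
  refine tab.minOKc_of_chunks [0, 2, 0, 2, 0, 3, 0, 2, 0, 3, 0, 2, 0, 3, 0, 2, 0, 3, 0, 2, 0, 3, 0, 2, 0, 3, 0, 2, 0, 2, 0, 3, 0, 3] 2 23460 391 15 (by norm_num) ?_
  intro i hi
  interval_cases i
  · exact chk_pow4_4_0
  · exact chk_pow4_4_1
  · exact chk_pow4_4_2
  · exact chk_pow4_4_3
  · exact chk_pow4_4_4
  · exact chk_pow4_4_5
  · exact chk_pow4_4_6
  · exact chk_pow4_4_7
  · exact chk_pow4_4_8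
  · exact chk_pow4_4_9
  · exact chk_pow4_4_10
  · exact chk_pow4_4_11
  · exact chk_pow4_4_12
  · exact chk_pow4_4_13
  · exact chk_pow4_4_14

end Cfsg.Agent.Lib.Helper6.PJ1CTC
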