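import Cfsg.Agent.Lib.Helper6.PJ1CTCData
import Cfsg.Agent.Lib.Helper6.TCRel3
import Cfsg.Agent.Lib.Helper6.PJ1CTCRel0
import Cfsg.Agent.Lib.Helper6.PJ1CTCRel1
import Cfsg.Agent.Lib.Helper6.PJ1CTCRel2
import Cfsg.Agent.Lib.Helper6.PJ1CTCRel3
import Cfsg.Agent.Lib.Helper6.PJ1CTCRel4

/-! # PJ1C: the relators hold on the coset table -/

set_option autoImplicit false

namespace Cfsg.Agent.Lib.Helper6.PJ1CTC

open Cfsg.Agent.Lib.Helper6.TC

theorem chk_pow0 : tab.minOK [0] 2 = true := by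
  refine tab.minOK_of_chunks [0] 2 26680 1 (by decide +kernel) (by norm_num) (by show 25080 ≤ 1 * 26680; norm_num) ?_
  intro i hi
  interval_cases i
  · exact chk_pow0_0

theorem chk_pow1 : tab.minOK [2] 3 = true := by
  refine tab.minOK_of_chunks [2] 3 30849 1 (by decide +kernel) (by norm_num) (by show 25080 ≤ 1 * 30849; norm_num) ?_
  intro i hi
  interval_cases i
  · exact chk_pow1_0

theorem chk_pow2 : tab.minOK [0, 2] 7 = true := by
  refine tab.minOK_of_chunks [0, 2] 7 25417 1 (by decide +kernel) (by norm_num) (by show 25080 ≤ 1 * 25417; norm_num) ?_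
  intro i hi
  interval_cases i
  · exact chk_pow2_0

theorem chk_pow3 : tab.minOK [0, 2, 0, 2, 0, 3, 0, 2, 0, 3, 0, 2, 0, 3] 5 = true := by
  refine tab.minOK_of_chunks [0, 2, 0, 2, 0, 3, 0, 2, 0, 3, 0, 2, 0, 3] 5 9165 3 (by decide +kernel) (by norm_num) (by show 25080 ≤ 3 * 9165; norm_num) ?_
  intro i hi
  interval_cases i
  · exact chk_pow3_0
  · exact chk_pow3_1
  · exact chk_pow3_2

theorem chk_pow4 : tab.minOK [0, 2, 0, 2, 0, 3, 0, 2, 0, 3, 0, 2, 0, 3, 0, 2, 0, 3, 0, 2, 0, 3, 0, 2, 0, 3, 0, 2, 0, 2, 0, 3, 0, 3] 2 = true := by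
  refine tab.minOK_of_chunks [0, 2, 0, 2, 0, 3, 0, 2, 0, 3, 0, 2, 0, 3, 0, 2, 0, 3, 0, 2, 0, 3, 0, 2, 0, 3, 0, 2, 0, 2, 0, 3, 0, 3] 2 5865 5 (by decide +kernel) (by norm_num) (by show 25080 ≤ 5 * 5865; norm_num) ?_
  intro i hi
  interval_cases i
  · exact chk_pow4_0
  · exact chk_pow4_1
  · exact chk_pow4_2
  · exact chk_pow4_3
  · exact chk_pow4_4

end Cfsg.Agent.Lib.Helper6.PJ1CTC
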