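import Cfsg.Agent.Lib.Helper6.PJ1CTCData
import Cfsg.Agent.Lib.Helper6.TCGIndex
import Cfsg.Agent.Lib.Helper6.PJ1CSRows1

/-! # PJ1C: the kernel check of the coset table, part 1 -/

set_option autoImplicit false

namespace Cfsg.Agent.Lib.Helper6.PJ1CTC

open Cfsg.Agent.Lib.Helper6.TC Cfsg.Agent.Lib.Helper6.TCGS

theorem chk_tab9 : Cfsg.Agent.Lib.Helper6.TCG.tabOKc tab ivs 18000 2000 = true := by decide +kernel

theorem chk_tab10 : Cfsg.Agent.Lib.Helper6.TCG.tabOKc tab ivs 20000 2000 = true := by decide +kernel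

theorem chk_tab11 : Cfsg.Agent.Lib.Helper6.TCG.tabOKc tab ivs 22000 2000 = true := by decide +kernel

theorem chk_tab12 : Cfsg.Agent.Lib.Helper6.TCG.tabOKc tab ivs 24000 2000 = true := by decide +kernel

end Cfsg.Agent.Lib.Helper6.PJ1CTC
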