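import Cfsg.Agent.Lib.Helper6.PJ1CTCData
import Cfsg.Agent.Lib.Helper6.TCChunk
import Cfsg.Agent.Lib.Helper6.TCGStatic
import Cfsg.Agent.Lib.Helper6.PJ1CSRows2

/-! # PJ1C: the kernel check that the coset table is connected, part 0 -/

set_option autoImplicit false

namespace Cfsg.Agent.Lib.Helper6.PJ1CTC

open Cfsg.Agent.Lib.Helper6.TC Cfsg.Agent.Lib.Helper6.TCGS

theorem chk_tree0 : tab.treeOKc 0 2000 = true := by decide +kernel

theorem chk_tree1 : tab.treeOKc 2000 2000 = true := by decide +kernel

theorem chk_tree2 : tab.treeOKc 4000 2000 = true := by decide +kernel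

theorem chk_tree3 : tab.treeOKc 6000 2000 = true := by decide +kernel

theorem chk_tree4 : tab.treeOKc 8000 2000 = true := by decide +kernel

theorem chk_tree5 : tab.treeOKc 10000 2000 = true := by decide +kernel

theorem chk_tree6 : tab.treeOKc 12000 2000 = true := by decide +kernel

theorem chk_tree7 : tab.treeOKc 14000 2000 = true := by decide +kernel

theorem chk_tree8 : tab.treeOKc 16000 2000 = true := by decide +kernel

theorem chk_tree9 : tab.treeOKc 18000 2000 = true := by decide +kernel

theorem chk_tree10 : tab.treeOKc 20000 2000 = true := by decide +kernel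

theorem chk_tree11 : tab.treeOKc 22000 2000 = true := by decide +kernel

theorem chk_tree12 : tab.treeOKc 24000 2000 = true := by decide +kernel

end Cfsg.Agent.Lib.Helper6.PJ1CTC
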