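import Cfsg.Agent.Lib.Helper6.PJ1CTCData
import Cfsg.Agent.Lib.Helper6.TCGInst
import Cfsg.Agent.Lib.Helper6.PGrp
import Cfsg.Agent.Lib.Helper6.PJ1CTCChk3
import Cfsg.Agent.Lib.Helper6.PJ1CTCTab0
import Cfsg.Agent.Lib.Helper6.PJ1CTCTab1
import Cfsg.Agent.Lib.Helper6.PJ1CTCTree0

/-! # PJ1C: the checks of the words, the coset table and the relators -/

set_option autoImplicit false

namespace Cfsg.Agent.Lib.Helper6.PJ1CTC

open Cfsg.Agent.Lib.Helper6.TC Cfsg.Agent.Lib.Helper6.TCG Cfsg.Spor Cfsg.Agent.Lib.Helper6.PGrp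

/-- the generator of a letter -/
def gen : ℕ → PJ1.Gen
  | 0 => .a
  | 1 => .a
  | 2 => .b
  | _ => .b

/-- is the letter the inverse of its generator? -/
def sgn : ℕ → Bool
  | 1 => true
  | 3 => true
  | _ => false

/-- the letter of a generator -/
def code : PJ1.Gen → ℕ
  | .a => 0
  | .b => 2

theorem chk_words : TCG.wordsSrcOK cfg ivs (relWords PJ1.edges gen 0 extraPow) nw srcs = true := by
  decide +kernel

theorem chk_tab : TCG.tabOK tab ivs = true := by
  refine TCG.tabOK_of_chunks tab ivs 2000 13 (by decide +kernel) (by norm_num) (by show 25080 ≤ 13 * 2000; norm_num) ?_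
  intro k hk
  interval_cases k
  · exact chk_tab0
  · exact chk_tab1
  · exact chk_tab2
  · exact chk_tab3
  · exact chk_tab4
  · exact chk_tab5
  · exact chk_tab6
  · exact chk_tab7
  · exact chk_tab8
  · exact chk_tab9
  · exact chk_tab10
  · exact chk_tab11
  · exact chk_tab12

theorem chk_tree : tab.treeOK = true := by
  refine tab.treeOK_of_chunks 2000 13 (by norm_num) (by show 25080 ≤ 13 * 2000; norm_num) ?_
  intro k hk
  interval_cases k
  · exact chk_tree0
  · exact chk_tree1
  · exact chk_tree2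
  · exact chk_tree3
  · exact chk_tree4
  · exact chk_tree5
  · exact chk_tree6
  · exact chk_tree7
  · exact chk_tree8
  · exact chk_tree9
  · exact chk_tree10
  · exact chk_tree11
  · exact chk_tree12

theorem pows_eq : coxPairs PJ1.edges gen 0 ++ extraPow = allPow := by
  decide +kernel

theorem chk_pows : tab.minsOK (coxPairs PJ1.edges gen 0 ++ extraPow) = true := by
  rw [pows_eq]
  simp only [allPow, Tab.minsOK_cons, Tab.minsOK_nil, Bool.and_eq_true, and_true]
  exact ⟨chk_pow0, chk_pow1, chk_pow2, chk_pow3, chk_pow4⟩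

theorem chk_sub : TCG.subOK cfg tab subW = true := by decide +kernel

end Cfsg.Agent.Lib.Helper6.PJ1CTC
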