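import Cfsg.Agent.Lib.Helper6.J1Group
import Cfsg.Agent.Lib.Helper6.PGen2
import Cfsg.Agent.Lib.Helper6.PJ1CTC

/-! # The group presented by the standard presentation of the first group of Janko is isomorphic
to the group of matrices: it is simple of order 175560 -/

set_option autoImplicit false
set_option maxRecDepth 100000

namespace Cfsg.Agent.Lib.Helper6.PJ1Iso

open Cfsg.Spor Cfsg.Agent.Lib.Helper6.MatN Cfsg.Agent.Lib.Helper6.PGrp
  Cfsg.Agent.Lib.Helper6.TC Cfsg.Agent.Lib.Helper6.TCG

open scoped MatrixGroups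

/-- the word in the two matrices for the generator a -/
def wA : List ℕ := [0, 1, 0, 3]

/-- the word in the two matrices for the generator b -/
def wB : List ℕ := [3, 0, 0, 0, 3, 3, 0, 3, 3, 2, 2, 1]

/-- the words of the generators -/
def wOf : PJ1.Gen → List ℕ
  | .a => wA
  | .b => wB

/-- the images of the generators -/
def f (x : PJ1.Gen) : GL (Fin 7) (ZMod 11) := evalGL J1.gen (wOf x)

/-- the word in the two matrices of a letter -/
def sub (x : ℕ) : List ℕ :=
  bif PJ1CTC.sgn x then invW (wOf (PJ1CTC.gen x)) else wOf (PJ1CTC.gen x)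

theorem lift_lt (x : ℕ) :
    FreeGroup.lift f (lt PJ1CTC.gen PJ1CTC.sgn x) = evalGL J1.gen (sub x) := by
  unfold lt sub
  cases PJ1CTC.sgn x
  · simp only [cond_false, FreeGroup.lift_apply_of]
    rfl
  · simp only [cond_true, map_inv, FreeGroup.lift_apply_of]
    rw [evalGL_invW J1.hinv]
    rfl

theorem evalGL_append (u v : List ℕ) :
    evalGL J1.gen (u ++ v) = evalGL J1.gen u * evalGL J1.gen v := by
  unfold evalGL
  rw [List.map_append, List.prod_append]

theorem prod_letters (L : List ℕ) :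
    (L.map fun x => FreeGroup.lift f (lt PJ1CTC.gen PJ1CTC.sgn x)).prod =
      evalGL J1.gen (L.flatMap sub) := by
  induction L with
  | nil => rfl
  | cons x L ih =>
    rw [List.map_cons, List.prod_cons, List.flatMap_cons, evalGL_append, ih, lift_lt]

theorem evalGL_eq_one {w : List ℕ} (h : evalW J1.codes4 w = lone) : evalGL J1.gen w = 1 := by
  apply Units.ext
  rw [val_evalGL J1.hgen, h, toM_lone]
  rfl

theorem evalGL_eq_of {w : List ℕ} {g : GL (Fin 7) (ZMod 11)} {c : ℕ}
    (hg : (g : Matrix (Fin 7) (Fin 7) (ZMod 11)) = toM c) (h : evalW J1.codes4 w = c) :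
    evalGL J1.gen w = g := by
  apply Units.ext
  rw [val_evalGL J1.hgen, h, hg]

theorem chk_rel0 : evalW J1.codes4 (((List.replicate 2 [0]).flatten).flatMap sub) = lone := by
  decide +kernel

theorem chk_rel1 : evalW J1.codes4 (((List.replicate 3 [2]).flatten).flatMap sub) = lone := by
  decide +kernel

theorem chk_rel2 : evalW J1.codes4 (((List.replicate 7 [0, 2]).flatten).flatMap sub) = lone := by
  decide +kernel

theorem chk_rel3 : evalW J1.codes4 (((List.replicate 5
    [0, 2, 0, 2, 0, 3, 0, 2, 0, 3, 0, 2, 0, 3]).flatten).flatMap sub) = lone := by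
  decide +kernel

theorem chk_rel4 : evalW J1.codes4 (((List.replicate 2
    [0, 2, 0, 2, 0, 3, 0, 2, 0, 3, 0, 2, 0, 3, 0, 2, 0, 3, 0, 2, 0, 3, 0, 2, 0, 3, 0, 2, 0, 2, 0, 3,
      0, 3]).flatten).flatMap sub) = lone := by
  decide +kernel

/-- the word in the generators a, b for the first matrix -/
def vX : List ℕ := [0, 3, 0, 2, 0, 2, 0, 3, 0, 2, 0, 3, 0, 3, 0, 2, 0, 2, 0, 3, 0, 3, 0, 2, 0, 2, 0, 3, 0, 2, 0, 3, 0, 3, 0, 2, 0, 2, 0, 3, 0]

/-- the word in the generators a, b for the second matrix -/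
def vY : List ℕ := [0, 2, 0, 3, 0, 2, 0, 3, 0, 3, 0, 2, 0, 2, 0, 3, 0, 2, 0, 3, 0, 3, 0, 2]

theorem chk_X : evalW J1.codes4 (vX.flatMap sub) = J1.cX := by decide +kernel

theorem chk_Y : evalW J1.codes4 (vY.flatMap sub) = J1.cY := by decide +kernel

theorem hrels : ∀ r ∈ coxRelators PJ1.edges ∪ {r | r ∈ PJ1.extra}, FreeGroup.lift f r = 1 := by
  have hf : ∀ z ∈ coxNodes PJ1.edges, f z * f z = 1 := by
    intro z hz
    simp [coxNodes, PJ1.edges] at hz
  have h := (PJ1CTC.extra_iff f hf).mpr (by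
    intro p hp
    rw [prod_letters]
    apply evalGL_eq_one
    simp only [PJ1CTC.extraPow, List.mem_cons, List.not_mem_nil, or_false] at hp
    rcases hp with rfl | rfl | rfl | rfl | rfl
    · exact chk_rel0
    · exact chk_rel1
    · exact chk_rel2
    · exact chk_rel3
    · exact chk_rel4)
  rintro r (hr | hr)
  · obtain ⟨x, hx, -⟩ := hr
    simp [coxNodes, PJ1.edges] at hx
  · exact h r hr

/-- the homomorphism to the group of matrices -/
def φ : PJ1 →* GL (Fin 7) (ZMod 11) := PresentedGroup.toGroup hrels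

theorem φ_of (x : PJ1.Gen) : φ (PresentedGroup.of x) = f x := PresentedGroup.toGroup.of _

theorem φ_word (w : List ℕ) :
    φ (PresentedGroup.mk _ (fgWord PJ1CTC.gen PJ1CTC.sgn w)) = evalGL J1.gen (w.flatMap sub) := by
  rw [← prod_letters]
  have : φ.comp (PresentedGroup.mk _) = FreeGroup.lift f := by
    apply FreeGroup.ext_hom
    intro x
    rw [MonoidHom.comp_apply, FreeGroup.lift_apply_of]
    exact φ_of x
  rw [← MonoidHom.comp_apply, this]
  exact hom_fgWord _ _ _ _

theorem range_le : φ.range ≤ J1.G := by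
  rintro _ ⟨x, rfl⟩
  induction x using PresentedGroup.induction_on with
  | _ z =>
    induction z using FreeGroup.induction_on with
    | C1 => simp [J1.G.one_mem]
    | of x =>
      show φ (PresentedGroup.of x) ∈ J1.G
      rw [φ_of]
      exact evalGL_mem J1.G J1.hH _
    | inv_of x hx =>
      rw [map_inv, map_inv]
      exact J1.G.inv_mem hx
    | mul x y hx hy =>
      rw [map_mul, map_mul]
      exact J1.G.mul_mem hx hy

theorem le_range : J1.G ≤ φ.range := by
  show Subgroup.closure {jankoX, jankoY} ≤ φ.range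
  rw [Subgroup.closure_le]
  rintro g (rfl | rfl)
  · refine ⟨PresentedGroup.mk _ (fgWord PJ1CTC.gen PJ1CTC.sgn vX), ?_⟩
    rw [φ_word]
    exact evalGL_eq_of J1.val_jankoX chk_X
  · refine ⟨PresentedGroup.mk _ (fgWord PJ1CTC.gen PJ1CTC.sgn vY), ?_⟩
    rw [φ_word]
    exact evalGL_eq_of J1.val_jankoY chk_Y

/-- the upper bound for the order, by the cosets of a cyclic subgroup of order seven -/
theorem ub : Finite PJ1 ∧ Nat.card PJ1 ≤ 175560 := by
  have h := PGen2.ub_of_cyclic (PJ1.a * PJ1.b) (k := 7) PJ1CTC.main (by norm_num) (by norm_num)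
    (Or.inr (by simp [PJ1.extra]))
  exact ⟨h.1, h.2.trans (by norm_num)⟩

/-- the isomorphism -/
theorem nonempty_equiv : Nonempty (PJ1 ≃* ↥Cfsg.Spor.J1) := by
  have hfin : Finite PJ1 := ub.1
  have hr : φ.range = J1.G := le_antisymm range_le le_range
  have hsurj : Function.Surjective φ.rangeRestrict := φ.rangeRestrict_surjective
  have hcard : Nat.card PJ1 ≤ Nat.card φ.range := by
    rw [hr, J1.card_G]
    exact ub.2
  have hbij : Function.Bijective φ.rangeRestrict := hsurj.bijective_of_nat_card_le hcard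
  exact ⟨(MulEquiv.ofBijective φ.rangeRestrict hbij).trans (MulEquiv.subgroupCongr hr)⟩

/-- **The presented group is simple of order 175560** -/
theorem main : IsSimpleGroup PJ1 ∧ Nat.card PJ1 = 175560 := by
  obtain ⟨e⟩ := nonempty_equiv
  have : IsSimpleGroup ↥Cfsg.Spor.J1 := J1.G_simple
  exact ⟨e.isSimpleGroup, (Nat.card_congr e.toEquiv).trans J1.card_G⟩

end Cfsg.Agent.Lib.Helper6.PJ1Iso
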