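import Cfsg.Agent.Lib.Helper6.PM11BTCData
import Cfsg.Agent.Lib.Helper6.TCRel3
import Cfsg.Agent.Lib.Helper6.PM11BTCRel0

/-! # PM11B: the relators hold on the coset table -/

set_option autoImplicit false

namespace Cfsg.Agent.Lib.Helper6.PM11BTC

open Cfsg.Agent.Lib.Helper6.TC

theorem chk_pow0 : tab.minOK [0] 2 = true := by
  refine tab.minOK_of_chunks [0] 2 14666 1 (by decide +kernel) (by norm_num) (by show 11 ≤ 1 * 14666; norm_num) ?_
  intro i hi
  interval_cases i
  · exact chk_pow0_0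

theorem chk_pow1 : tab.minOK [2] 4 = true := by
  refine tab.minOK_of_chunks [2] 4 10476 1 (by decide +kernel) (by norm_num) (by show 11 ≤ 1 * 10476; norm_num) ?_
  intro i hi
  interval_cases i
  · exact chk_pow1_0

theorem chk_pow2 : tab.minOK [0, 2] 11 = true := by
  refine tab.minOK_of_chunks [0, 2] 11 2500 1 (by decide +kernel) (by norm_num) (by show 11 ≤ 1 * 2500; norm_num) ?_
  intro i hi
  interval_cases i
  · exact chk_pow2_0

theorem chk_pow3 : tab.minOK [0, 2, 2] 6 = true := by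
  refine tab.minOK_of_chunks [0, 2, 2] 6 3188 1 (by decide +kernel) (by norm_num) (by show 11 ≤ 1 * 3188; norm_num) ?_
  intro i hi
  interval_cases i
  · exact chk_pow3_0

theorem chk_pow4 : tab.minOK [0, 2, 0, 2, 0, 3, 0, 2, 0, 2, 2, 0, 3, 0, 2, 0, 3, 0, 3] 1 = true := by
  refine tab.minOK_of_chunks [0, 2, 0, 2, 0, 3, 0, 2, 0, 2, 2, 0, 3, 0, 2, 0, 3, 0, 3] 1 1052 1 (by decide +kernel) (by norm_num) (by show 11 ≤ 1 * 1052; norm_num) ?_
  intro i hi
  interval_cases i
  · exact chk_pow4_0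

end Cfsg.Agent.Lib.Helper6.PM11BTC
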