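import Cfsg.Agent.Lib.Helper6.PM11CTCData
import Cfsg.Agent.Lib.Helper6.TCRel3

/-! # PM11C: the kernel check of a part of the relators on the coset table -/

set_option autoImplicit false

namespace Cfsg.Agent.Lib.Helper6.PM11CTC

open Cfsg.Agent.Lib.Helper6.TC

theorem chk_pow0_0_0 : tab.minOKc [0] 2 0 13333 = true := by decide +kernel

theorem chk_pow0_0 : tab.minOKc [0] 2 0 13333 = true := by
  refine tab.minOKc_of_chunks [0] 2 0 13333 1 (by norm_num) ?_
  intro i hi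
  interval_cases i
  · exact chk_pow0_0_0

theorem chk_pow1_0_0 : tab.minOKc [2] 4 0 9113 = true := by decide +kernel

theorem chk_pow1_0 : tab.minOKc [2] 4 0 9113 = true := by
  refine tab.minOKc_of_chunks [2] 4 0 9113 1 (by norm_num) ?_
  intro i hi
  interval_cases i
  · exact chk_pow1_0_0

theorem chk_pow2_0_0 : tab.minOKc [0, 2] 11 0 2758 = true := by decide +kernel

theorem chk_pow2_0 : tab.minOKc [0, 2] 11 0 2758 = true := by
  refine tab.minOKc_of_chunks [0, 2] 11 0 2758 1 (by norm_num) ?_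
  intro i hi
  interval_cases i
  · exact chk_pow2_0_0

theorem chk_pow3_0_0 : tab.minOKc [0, 2, 2] 6 0 2830 = true := by decide +kernel

theorem chk_pow3_0 : tab.minOKc [0, 2, 2] 6 0 2830 = true := by
  refine tab.minOKc_of_chunks [0, 2, 2] 6 0 2830 1 (by norm_num) ?_
  intro i hi
  interval_cases i
  · exact chk_pow3_0_0

theorem chk_pow4_0_0 : tab.minOKc [0, 2, 0, 2, 0, 3, 0, 2, 0, 2, 2, 0, 3, 0, 2, 0, 3, 0, 3] 1 0 1052 = true := by decide +kernel

theorem chk_pow4_0 : tab.minOKc [0, 2, 0, 2, 0, 3, 0, 2, 0, 2, 2, 0, 3, 0, 2, 0, 3, 0, 3] 1 0 1052 = true := by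
  refine tab.minOKc_of_chunks [0, 2, 0, 2, 0, 3, 0, 2, 0, 2, 2, 0, 3, 0, 2, 0, 3, 0, 3] 1 0 1052 1 (by norm_num) ?_
  intro i hi
  interval_cases i
  · exact chk_pow4_0_0

end Cfsg.Agent.Lib.Helper6.PM11CTC
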