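import Cfsg.Agent.Lib.Helper6.PM11BTCTb

/-! # Coset enumeration data for PM11B: configuration, table, words (generated) -/

set_option autoImplicit false
set_option maxRecDepth 1000000
set_option maxHeartbeats 40000000

namespace Cfsg.Agent.Lib.Helper6.PM11BTC

open Cfsg.Agent.Lib.Helper6.TC

/-- the configuration of the enumeration -/
def cfg : Cfg := ⟨4, 5, 1000000, 2, 96, 0x313121313312131212113000131213133121312121313000312131331213121213113000121313312131212131313000213133121312121313113000131331213121213131213000313312131212131312113000133121312121313121313000331213121213131213113000312131212131312131313000121312121313121313313000213121213131213133113000131212131312131331213000312121313121313312113000121213131213133121313000212131312131331213113000121313121313312131213000213131213133121312113000131312131331213121213000030203022020302020313000302030220203020203013000020302202030202030313000203022020302020303013000030220203020203030213000302202030202030302013000022020302020303020313000220203020203030203013000202030202030302030213000020302020303020302213000203020203030203022013000030202030302030220213000302020303020302202013000020203030203022020313000202030302030220203013000020303020302202030213000203030203022020302013000030302030220203020213000303020302202030202013000033133133133133133112000031331331331331331312000013313313313313313312000020220220220220220212000002202202202202202212000022022022022022022012313131313131313131313116131313131313131313131316020202020202020202020216202020202020202020202016000000000000000000333304000000000000000000222204000000000000000000001102000000000000000000000002000000000000000003302206000000000000000003020205⟩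

/-- the inverses of the letters -/
def ivs : ℕ := 0x2301

/-- the number of words -/
def nw : ℕ := 54

/-- the further relators as powers -/
def extraPow : List (List ℕ × ℕ) := [([0], 2), ([2], 4), ([0, 2], 11), ([0, 2, 2], 6), ([0, 2, 0, 2, 0, 3, 0, 2, 0, 2, 2, 0, 3, 0, 2, 0, 3, 0, 3], 1)]

/-- all the relators as powers -/
def allPow : List (List ℕ × ℕ) := [([0], 2), ([2], 4), ([0, 2], 11), ([0, 2, 2], 6), ([0, 2, 0, 2, 0, 3, 0, 2, 0, 2, 2, 0, 3, 0, 2, 0, 3, 0, 3], 1)]

/-- where the words come from -/
def srcs : List ℕ := [0, 1, 512, 513, 1024, 1026, 1025, 1027, 1536, 1538, 1540, 1537, 1539, 1541, 2048, 2050, 2052, 2054, 2056, 2058, 2060, 2062, 2064, 2066, 2068, 2070, 2072, 2074, 2076, 2078, 2080, 2082, 2084, 2049, 2051, 2053, 2055, 2057, 2059, 2061, 2063, 2065, 2067, 2069, 2071, 2073, 2075, 2077, 2079, 2081, 2083, 2085]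

/-- the coset table -/
noncomputable def tab : Tab := ⟨4, 4, 11, arrT⟩

/-- the words of the generators of the subgroup -/
def subW : List (List ℕ) := [[2, 0, 2, 0, 3], [2, 2, 0, 3, 3, 0]]

end Cfsg.Agent.Lib.Helper6.PM11BTC
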