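import Cfsg.Agent.Lib.Helper6.SimpG
import Cfsg.Agent.Lib.Helper6.PM11BTCData

/-! # The presented group of order 7920: data of the certificate of order and simplicity (generated) -/

set_option autoImplicit false
set_option maxRecDepth 1000000

namespace Cfsg.Agent.Lib.Helper6.PM11Simp

open Cfsg.Agent.Lib.Helper6.TC Cfsg.Agent.Lib.Helper6.Simp Cfsg.Agent.Lib.Helper6.SimpG Cfsg.Agent.Lib.Helper6.NatArr Cfsg.Agent.Lib.Helper6.PM11BTC

/-- level 1: base point 1, orbit of length 10 -/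
def lvl1 : Level where
  b := 1
  ws := [[2, 0, 2, 0, 3], [2, 2, 0, 3, 3, 0]]
  instrs := [8, 3, 4, 1048582, 1048586, 5, 9, 11, 0, 0, 0, 0, 0, 0, 0, 1048583]
  B := 0x7fe
  m := 10

theorem lvl1_ok : LevelOK tab [0] lvl1 :=
  ⟨by decide +kernel, by decide +kernel, by decide +kernel, by decide +kernel, by decide +kernel⟩

/-- level 2: base point 2, orbit of length 9 -/
def lvl2 : Level where
  b := 2
  ws := [[2, 0, 2, 0, 2, 0, 3, 3, 0, 2, 0, 2, 0, 3, 1, 2, 2, 1, 3, 1, 3, 1, 3], [2, 2, 0, 3, 3, 0, 2, 0, 2,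
    0, 2, 0, 3, 3, 0, 2, 1, 3, 1, 1, 3, 1, 1, 3, 1, 3]]
  instrs := [1048583, 4, 6, 10, 0, 1048585, 11, 8, 5]
  B := 0x7fc
  m := 9

theorem lvl2_ok : LevelOK tab [1, 0] lvl2 :=
  ⟨by decide +kernel, by decide +kernel, by decide +kernel, by decide +kernel, by decide +kernel⟩

/-- level 3: base point 3, orbit of length 8 -/
def lvl3 : Level where
  b := 3
  ws := [[2, 0, 2, 0, 2, 0, 3, 3, 0, 2, 0, 2, 0, 3, 1, 2, 2, 1, 3, 1, 3, 1, 3], [2, 2, 0, 3, 3, 0, 2, 0, 2,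
    0, 2, 0, 3, 3, 0, 2, 1, 3, 1, 1, 3, 1, 1, 3, 1, 2, 0, 3, 3, 0, 2, 0, 2, 0, 2, 0, 3, 3, 0, 2, 1,
    3, 1, 1, 3, 1, 2, 0, 3, 3, 0, 2, 1, 3, 1, 3, 1, 2, 2, 1, 3, 0, 2, 0, 0, 2, 0, 3, 1, 2, 2, 1, 3,
    1, 3, 1, 3, 1, 2, 2, 1, 3, 3]]
  instrs := [6, 10, 7, 1048585, 11, 8, 5]
  B := 0x7f8
  m := 8

theorem lvl3_ok : LevelOK tab [2, 1, 0] lvl3 :=
  ⟨by decide +kernel, by decide +kernel, by decide +kernel, by decide +kernel, by decide +kernel⟩

/-- the chain -/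
def levels : List Level := [lvl1, lvl2, lvl3]

theorem chain_ok : ChainOK tab [0] levels :=
  ChainOK.cons lvl1_ok (
  ChainOK.cons lvl2_ok (
  ChainOK.cons lvl3_ok (
  ChainOK.nil _)))

theorem chain_prod : 11 * chainProd levels = 7920 := by decide +kernel

/-- the instructions of the search of the orbit of the subgroup -/
def orb_instrs : List ℕ := [8, 3, 4, 1048582, 1048586, 5, 9, 11, 0, 0, 0, 0, 0, 0, 0, 1048583]

/-- the orbit of the subgroup -/
def orb_B : ℕ := 0x7fe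

theorem orb_seg : Tab.segOK2 tab subW orb_instrs [1] 2 orb_B = true := by decide +kernel

theorem orb_B0_eq : (2 : ℕ) = bset 0 1 := by decide +kernel

theorem orb_run : RunsTo tab subW (bset 0 1) orb_B := by
  rw [← orb_B0_eq]
  exact RunsTo.step [1] orb_instrs (RunsTo.refl _) orb_seg

theorem orb_cnt : cnt orb_B 11 = 10 := by decide +kernel

theorem chk_pow0u : tab.minOK [2, 0, 2, 0, 2, 0, 2] 11 = true := by decide +kernel

theorem chk_pow0x : tab.minOK (0 :: [2, 0, 2, 0, 2, 0, 2]) 11 = true := by decide +kernel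

theorem chk_pow2u : tab.minOK [0, 2, 0, 2, 0, 2] 11 = true := by decide +kernel

theorem chk_pow2x : tab.minOK (2 :: [0, 2, 0, 2, 0, 2]) 11 = true := by decide +kernel

end Cfsg.Agent.Lib.Helper6.PM11Simp
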