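import Cfsg.Agent.Lib.Helper6.SimpG
import Cfsg.Agent.Lib.Helper6.PGen2
import Cfsg.Agent.Lib.Helper6.PM11BTC
import Cfsg.Agent.Lib.Helper6.PM11CTC
import Cfsg.Agent.Lib.Helper6.PM11Simp

/-! # The group presented by the standard presentation of the smallest group of Mathieu is simple
of order 7920 -/

set_option autoImplicit false
set_option maxRecDepth 100000

namespace Cfsg.Agent.Lib.Helper6.PM11Simple

open Cfsg.Spor Cfsg.Agent.Lib.Helper6.Simp Cfsg.Agent.Lib.Helper6.SimpG
  Cfsg.Agent.Lib.Helper6.TC Cfsg.Agent.Lib.Helper6.TCG Cfsg.Agent.Lib.Helper6.NatArr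
  Cfsg.Agent.Lib.Helper6.PGrp

/-- the upper bound for the order, by the cosets of a cyclic subgroup of order eleven -/
theorem ub : Finite PM11 ∧ Nat.card PM11 ≤ 7920 := by
  have h := PGen2.ub_of_cyclic (PM11.a * PM11.b) (k := 11) PM11CTC.main (by norm_num) (by norm_num)
    (Or.inr (by simp [PM11.extra]))
  exact ⟨h.1, h.2.trans (by norm_num)⟩

/-- the order, and the action on the eleven cosets is faithful -/
theorem card_inj : Nat.card PM11 = 7920 ∧ Function.Injective PM11BTC.data.ρ :=
  card_eq_and_injective' PM11BTC.data ub PM11Simp.levels PM11Simp.chain_ok PM11Simp.chain_prod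

/-- the other ten rows lie in one orbit of the subgroup -/
def orb : OrbS PM11BTC.data where
  a := 1
  ha := show 1 < 11 by norm_num
  B := PM11Simp.orb_B
  chk_run := PM11Simp.orb_run

theorem chk_cover : (1 ||| PM11Simp.orb_B) = 2 ^ 11 - 1 := by decide +kernel

theorem chk_o : PM11Simp.orb_B.testBit 0 = false := by decide +kernel

/-- the group is generated by its elements of order eleven -/
theorem hgen : Subgroup.closure {g : PM11 | g ^ 11 = 1} = ⊤ := by
  have hinj := card_inj.2
  have key : ∀ (x0 : ℕ) (u : List ℕ), PM11BTC.data.T.minOK u 11 = true →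
      PM11BTC.data.T.minOK (x0 :: u) 11 = true →
      PM11BTC.data.γ x0 ∈ Subgroup.closure {g : PM11 | g ^ 11 = 1} := by
    intro x0 u h1 h2
    have e1 := wordG_pow_eq_one PM11BTC.data hinj h1
    have e2 := wordG_pow_eq_one PM11BTC.data hinj h2
    have : PM11BTC.data.γ x0 =
        SimpG.wordG PM11BTC.data (x0 :: u) * (SimpG.wordG PM11BTC.data u)⁻¹ := by
      unfold SimpG.wordG
      rw [List.map_cons, List.prod_cons]
      group
    rw [this]
    exact Subgroup.mul_mem _ (Subgroup.subset_closure e2)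
      (Subgroup.inv_mem _ (Subgroup.subset_closure e1))
  have ha : (PresentedGroup.of PM11.Gen.a : PM11) ∈ Subgroup.closure {g : PM11 | g ^ 11 = 1} :=
    key 0 [2, 0, 2, 0, 2, 0, 2] PM11Simp.chk_pow0u PM11Simp.chk_pow0x
  have hb : (PresentedGroup.of PM11.Gen.b : PM11) ∈ Subgroup.closure {g : PM11 | g ^ 11 = 1} :=
    key 2 [0, 2, 0, 2, 0, 2] PM11Simp.chk_pow2u PM11Simp.chk_pow2x
  rw [eq_top_iff, ← PresentedGroup.closure_range_of, Subgroup.closure_le]
  rintro _ ⟨x, rfl⟩
  cases x <;> assumption

/-- **The presented group is simple of order 7920** -/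
theorem main : IsSimpleGroup PM11 ∧ Nat.card PM11 = 7920 := by
  have hfin : Finite PM11 := ub.1
  refine ⟨?_, card_inj.1⟩
  refine simple_of_conn PM11BTC.data card_inj.2 (r := 1) ![orb] ![10] ?_ ?_ ?_ ?_ ?_ 11 ?_ hgen ?_
  · intro i
    fin_cases i
    exact PM11Simp.orb_cnt
  · intro b hb
    have hb' : b < 11 := hb
    have h1 : (2 ^ 11 - 1).testBit b = true := by
      rw [Nat.testBit_two_pow_sub_one]
      exact decide_eq_true hb'
    rw [← chk_cover] at h1
    simp only [Nat.testBit_or, Bool.or_eq_true] at h1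
    rcases h1 with h | h
    · exact Or.inl (Nat.testBit_one_eq_true_iff_self_eq_zero.mp h)
    · exact Or.inr ⟨0, h⟩
  · intro i j hij
    fin_cases i
    fin_cases j
    exact absurd rfl hij
  · intro i
    fin_cases i
    exact chk_o
  · show ∀ I : Finset (Fin 1), I.Nonempty → (1 + ∑ i ∈ I, ![10] i) ∣ 11 →
      1 + ∑ i ∈ I, ![10] i = 11
    decide
  · rw [card_inj.1]
    show (7920 / 11).Coprime 11
    norm_num
  · show 1 < 11
    norm_num

end Cfsg.Agent.Lib.Helper6.PM11Simple
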