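import Cfsg.Agent.Lib.Helper6.SimpWP

/-! # Homomorphisms into a presented group with a solved word problem, given by words for the
images of the generators -/

set_option autoImplicit false

noncomputable section

namespace Cfsg.Agent.Lib.Helper6.SimpWPHom

open Cfsg.Agent.Lib.Helper6.TC Cfsg.Agent.Lib.Helper6.TCG Cfsg.Agent.Lib.Helper6.NatArr
  Cfsg.Agent.Lib.Helper6.SimpG Cfsg.Agent.Lib.Helper6.SimpWP Cfsg.Spor Cfsg.Agent.Lib.Helper6.TCGS

variable {α : Type} [DecidableEq α] {edges : List (α × ℕ × α)} {extra : List (FreeGroup α)}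
  {S : Set (FreeGroup α)} (D : GenData edges extra S)

/-- the inverse of a word -/
def invWord (ivs : ℕ) (w : List ℕ) : List ℕ := (w.map (ivN ivs)).reverse

theorem wordG_nil : wordG D [] = 1 := rfl

theorem wordG_append (u v : List ℕ) : wordG D (u ++ v) = wordG D u * wordG D v := by
  unfold wordG
  rw [List.map_append, List.prod_append]

theorem wordG_invWord : ∀ {w : List ℕ}, (∀ x ∈ w, x < D.c.g) →
    wordG D (invWord D.ivs w) = (wordG D w)⁻¹
  | [], _ => by
    show wordG D [] = (wordG D [])⁻¹
    rw [wordG_nil, inv_one]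
  | x :: w, hw => by
    have hx : x < D.c.g := hw x (List.mem_cons_self ..)
    have ih := wordG_invWord (w := w) (fun y hy => hw y (List.mem_cons_of_mem _ hy))
    have e : invWord D.ivs (x :: w) = invWord D.ivs w ++ [ivN D.ivs x] := by
      unfold invWord
      rw [List.map_cons, List.reverse_cons]
    rw [e, wordG_append, ih]
    have h1 : wordG D [ivN D.ivs x] = (D.γ x)⁻¹ := by
      unfold wordG
      rw [List.map_cons, List.map_nil, List.prod_cons, List.prod_nil, mul_one]
      exact (D.γ_iv x hx).2
    have h2 : wordG D (x :: w) = D.γ x * wordG D w := by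
      unfold wordG
      rw [List.map_cons, List.prod_cons]
    rw [h1, h2, mul_inv_rev]

theorem invWord_lt {w : List ℕ} (hw : ∀ x ∈ w, x < D.c.g) :
    ∀ x ∈ invWord D.ivs w, x < D.c.g := by
  intro x hx
  unfold invWord at hx
  rw [List.mem_reverse, List.mem_map] at hx
  obtain ⟨y, hy, rfl⟩ := hx
  exact D.iv_lt (hw y hy)

/-- a word that moves a row is not trivial -/
theorem wordG_ne_one {w : List ℕ} {c : ℕ} (hl : ∀ x ∈ w, x < D.T.g) (hc : c < D.T.n)
    (hm : D.T.trace c w ≠ c) : wordG D w ≠ 1 := by
  intro h1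
  have h2 := ρ_wordG D (w := w) (fun x hx => by rw [← D.hTg]; exact hl x hx)
  rw [h1, map_one] at h2
  have h3 : (w.reverse.map D.P).prod = 1 := by
    rw [← inv_inj, ← h2, inv_one]
  have h4 := trace_eq D.chk_tab w ⟨c, hc⟩ hl
  have h5 : (w.reverse.map (perm D.chk_tab)).prod = 1 := h3
  rw [h5] at h4
  exact hm h4

section hom

variable {β : Type} (gen' : ℕ → β) (sgn' : ℕ → Bool) (wOf : β → List ℕ)

/-- the images of the generators -/
def img (b : β) : CoxPresented α edges extra := wordG D (wOf b)

/-- the word of a letter -/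
def sub (x : ℕ) : List ℕ :=
  bif sgn' x then invWord D.ivs (wOf (gen' x)) else wOf (gen' x)

variable (hw : ∀ b, ∀ x ∈ wOf b, x < D.c.g)

include hw in
theorem lift_lt' (x : ℕ) :
    FreeGroup.lift (img D wOf) (lt gen' sgn' x) = wordG D (sub D gen' sgn' wOf x) := by
  unfold lt sub
  cases sgn' x
  · simp only [cond_false, FreeGroup.lift_apply_of]
    rfl
  · simp only [cond_true, map_inv, FreeGroup.lift_apply_of]
    rw [wordG_invWord D (hw _)]
    rfl

include hw in
theorem prod_letters (L : List ℕ) :
    (L.map fun x => FreeGroup.lift (img D wOf) (lt gen' sgn' x)).prod =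
      wordG D (L.flatMap (sub D gen' sgn' wOf)) := by
  induction L with
  | nil => rfl
  | cons x L ih =>
    rw [List.map_cons, List.prod_cons, List.flatMap_cons, wordG_append, ih,
      lift_lt' D gen' sgn' wOf hw]

end hom

end Cfsg.Agent.Lib.Helper6.SimpWPHom

end
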