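import Cfsg.Agent.Lib.Helper6.ONSimple
import Cfsg.Agent.Lib.Helper6.SimpWPHom
import Cfsg.Agent.Lib.Helper6.PJ1Iso
import Cfsg.Agent.Lib.Helper6.PM11Simple
import Cfsg.Agent.Lib.Helper6.T3Gen

/-! # The presented O'Nan group contains simple subgroups of orders 175560 and 7920: the images
of the two small presented groups, the relators being checked by the word problem -/

set_option autoImplicit false
set_option maxRecDepth 100000

noncomputable section

namespace Cfsg.Agent.Lib.Helper6.ON460Sub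

open Cfsg.Spor Cfsg.Agent.Lib.Helper6.TC Cfsg.Agent.Lib.Helper6.TCG
  Cfsg.Agent.Lib.Helper6.SimpG Cfsg.Agent.Lib.Helper6.SimpWP Cfsg.Agent.Lib.Helper6.SimpWPHom
  Cfsg.Agent.Lib.Helper6.PGrp

instance finiteON : Finite ON := ONSimple.ub.1

/-- the base points -/
def base : List ℕ := [40164, 15, 0]

theorem base_eq : allFixed ONSimp.levels [0] = base := by decide +kernel

/-- **the word problem** of the presented O'Nan group -/
theorem wp (w : List ℕ) (h : fixOK ONTC.tab base w = true) : SimpG.wordG ONTC.data w = 1 := by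
  refine wordG_eq_one_of_fixOK ONTC.data ONSimple.card_inj.1 ONSimple.card_inj.2 ONSimp.levels
    ONSimp.chain_ok ONSimp.chain_prod (by norm_num) w ?_
  rw [base_eq]
  exact h

/-- the generator a is not trivial -/
theorem wordG_a_ne_one : SimpG.wordG ONTC.data [0] ≠ 1 := by
  refine wordG_ne_one ONTC.data (c := 2) ?_ ?_ ?_
  · show ∀ x ∈ [0], x < 8
    decide
  · show 2 < 122760
    norm_num
  · show ONTC.tab.trace 2 [0] ≠ 2
    decide +kernel

/-! ### the subgroup of order 175560 -/

/-- the word for the generator of order three -/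
def bJ : List ℕ := [2, 4, 5, 4, 0, 4, 1, 7, 2, 0, 3, 1, 4, 6, 2, 3, 1, 4, 1, 7, 2, 0, 3, 1, 4, 6, 2, 3, 1, 4, 1, 7,
    2, 0, 3, 1, 4, 6, 2, 3, 1, 4, 1, 7, 2, 0, 3, 1, 4, 6, 2, 3, 1, 0, 4, 5, 4, 2]

/-- the words of the generators -/
def wOfJ : PJ1.Gen → List ℕ
  | .a => [0]
  | .b => bJ

theorem hwJ : ∀ z, ∀ x ∈ wOfJ z, x < ONTC.data.c.g := by
  intro z
  show ∀ x ∈ wOfJ z, x < 8
  cases z <;> decide

/-- the word of a letter -/
abbrev subJ : ℕ → List ℕ := sub ONTC.data PJ1CTC.gen PJ1CTC.sgn wOfJ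

theorem chkJ0 : fixOK ONTC.tab base (((List.replicate 2
    [0]).flatten).flatMap subJ) = true := by
  decide +kernel

theorem chkJ1 : fixOK ONTC.tab base (((List.replicate 3
    [2]).flatten).flatMap subJ) = true := by
  decide +kernel

theorem chkJ2 : fixOK ONTC.tab base (((List.replicate 7
    [0, 2]).flatten).flatMap subJ) = true := by
  decide +kernel

theorem chkJ3 : fixOK ONTC.tab base (((List.replicate 5
    [0, 2, 0, 2, 0, 3, 0, 2, 0, 3, 0, 2, 0, 3]).flatten).flatMap subJ) = true := by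
  decide +kernel

theorem chkJ4 : fixOK ONTC.tab base (((List.replicate 2
    [0, 2, 0, 2, 0, 3, 0, 2, 0, 3, 0, 2, 0, 3, 0, 2, 0, 3, 0, 2, 0, 3, 0, 2, 0, 3, 0, 2, 0, 2, 0, 3,
      0, 3]).flatten).flatMap subJ) = true := by
  decide +kernel


theorem hrelsJ : ∀ r ∈ coxRelators PJ1.edges ∪ {r | r ∈ PJ1.extra},
    FreeGroup.lift (img ONTC.data wOfJ) r = 1 := by
  have hf : ∀ z ∈ coxNodes PJ1.edges, img ONTC.data wOfJ z * img ONTC.data wOfJ z = 1 := by
    intro z hz
    simp [coxNodes, PJ1.edges] at hz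
  have h := (PJ1CTC.extra_iff (img ONTC.data wOfJ) hf).mpr (by
    intro p hp
    rw [prod_letters ONTC.data PJ1CTC.gen PJ1CTC.sgn wOfJ hwJ]
    apply wp
    simp only [PJ1CTC.extraPow, List.mem_cons, List.not_mem_nil, or_false] at hp
    rcases hp with rfl | rfl | rfl | rfl | rfl
    · exact chkJ0
    · exact chkJ1
    · exact chkJ2
    · exact chkJ3
    · exact chkJ4)
  rintro r (hr | hr)
  · obtain ⟨x, hx, -⟩ := hr
    simp [coxNodes, PJ1.edges] at hx
  · exact h r hr

/-- the homomorphism from the presented group of order 175560 -/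
def φJ : PJ1 →* ON := PresentedGroup.toGroup hrelsJ

theorem φJ_inj : Function.Injective φJ := by
  have : IsSimpleGroup PJ1 := PJ1Iso.main.1
  refine T3Gen.injective_of_simple φJ (x := PresentedGroup.of PJ1.Gen.a) ?_
  have : φJ (PresentedGroup.of PJ1.Gen.a) = SimpG.wordG ONTC.data [0] :=
    PresentedGroup.toGroup.of _
  rw [this]
  exact wordG_a_ne_one

/-! ### the subgroup of order 7920 -/

/-- the word for the generator of order four -/
def bM : List ℕ := [7, 3, 7, 2, 7, 4, 1, 5, 4, 7, 4, 1, 5, 7, 5, 4, 5, 2, 5, 2, 5, 2, 1, 6, 0, 3, 0, 5, 0, 2, 1, 3,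
    4, 7, 5, 0, 3, 1, 0, 4, 0, 1, 0, 6, 2, 0, 1, 4, 0, 1, 3, 0, 5, 6, 4, 3, 1, 2, 0, 5, 0, 3, 0,
    7, 1, 2, 5, 2, 5, 2, 5, 4, 5, 6, 5, 1, 4, 6, 4, 5, 1, 4, 6, 2, 6, 3, 6]

/-- the words of the generators -/
def wOfM : PM11.Gen → List ℕ
  | .a => [0]
  | .b => bM

theorem hwM : ∀ z, ∀ x ∈ wOfM z, x < ONTC.data.c.g := by
  intro z
  show ∀ x ∈ wOfM z, x < 8
  cases z <;> decide

/-- the word of a letter -/
abbrev subM : ℕ → List ℕ := sub ONTC.data PM11CTC.gen PM11CTC.sgn wOfM

theorem chkM0 : fixOK ONTC.tab base (((List.replicate 2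
    [0]).flatten).flatMap subM) = true := by
  decide +kernel

theorem chkM1 : fixOK ONTC.tab base (((List.replicate 4
    [2]).flatten).flatMap subM) = true := by
  decide +kernel

theorem chkM2 : fixOK ONTC.tab base (((List.replicate 11
    [0, 2]).flatten).flatMap subM) = true := by
  decide +kernel

theorem chkM3 : fixOK ONTC.tab base (((List.replicate 6
    [0, 2, 2]).flatten).flatMap subM) = true := by
  decide +kernel

theorem chkM4 : fixOK ONTC.tab base (((List.replicate 1
    [0, 2, 0, 2, 0, 3, 0, 2, 0, 2, 2, 0, 3, 0, 2, 0, 3, 0, 3]).flatten).flatMap subM) = true := by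
  decide +kernel


theorem hrelsM : ∀ r ∈ coxRelators PM11.edges ∪ {r | r ∈ PM11.extra},
    FreeGroup.lift (img ONTC.data wOfM) r = 1 := by
  have hf : ∀ z ∈ coxNodes PM11.edges, img ONTC.data wOfM z * img ONTC.data wOfM z = 1 := by
    intro z hz
    simp [coxNodes, PM11.edges] at hz
  have h := (PM11CTC.extra_iff (img ONTC.data wOfM) hf).mpr (by
    intro p hp
    rw [prod_letters ONTC.data PM11CTC.gen PM11CTC.sgn wOfM hwM]
    apply wp
    simp only [PM11CTC.extraPow, List.mem_cons, List.not_mem_nil, or_false] at hp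
    rcases hp with rfl | rfl | rfl | rfl | rfl
    · exact chkM0
    · exact chkM1
    · exact chkM2
    · exact chkM3
    · exact chkM4)
  rintro r (hr | hr)
  · obtain ⟨x, hx, -⟩ := hr
    simp [coxNodes, PM11.edges] at hx
  · exact h r hr

/-- the homomorphism from the presented group of order 7920 -/
def φM : PM11 →* ON := PresentedGroup.toGroup hrelsM

theorem φM_inj : Function.Injective φM := by
  have : IsSimpleGroup PM11 := PM11Simple.main.1
  refine T3Gen.injective_of_simple φM (x := PresentedGroup.of PM11.Gen.a) ?_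
  have : φM (PresentedGroup.of PM11.Gen.a) = SimpG.wordG ONTC.data [0] :=
    PresentedGroup.toGroup.of _
  rw [this]
  exact wordG_a_ne_one

end Cfsg.Agent.Lib.Helper6.ON460Sub

end
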