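import Mathlib
import Cfsg.Agent.S0242

/-! # The group `PSL(3,7) : 2` (extension by the inverse-transpose automorphism) -/

set_option autoImplicit false

namespace Cfsg.Agent.Lib.Helper6.ONL37

open Matrix

instance fact7 : Fact (Nat.Prime 7) := ⟨by norm_num⟩

/-- `SL(3,7)` -/
abbrev S : Type := SpecialLinearGroup (Fin 3) (ZMod 7)

/-- `PSL(3,7)` -/
abbrev P : Type := ProjectiveSpecialLinearGroup (Fin 3) (ZMod 7)

theorem tr_mul (A B : S) : (A * B).transpose = B.transpose * A.transpose := by
  apply Subtype.ext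
  show (A.1 * B.1)ᵀ = B.1ᵀ * A.1ᵀ
  exact Matrix.transpose_mul _ _

theorem tr_one : (1 : S).transpose = 1 := by
  apply Subtype.ext
  show (1 : Matrix (Fin 3) (Fin 3) (ZMod 7))ᵀ = 1
  exact Matrix.transpose_one

theorem tr_tr (A : S) : A.transpose.transpose = A := by
  apply Subtype.ext
  show A.1ᵀᵀ = A.1
  exact Matrix.transpose_transpose _

theorem tr_inv (A : S) : (A⁻¹).transpose = (A.transpose)⁻¹ := by
  apply eq_inv_of_mul_eq_one_left
  rw [← tr_mul, mul_inv_cancel, tr_one]

/-- the inverse-transpose automorphism -/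
def θ : S ≃* S where
  toFun A := (A⁻¹).transpose
  invFun A := (A⁻¹).transpose
  left_inv A := by
    show (((A⁻¹).transpose)⁻¹).transpose = A
    rw [tr_inv, tr_tr, inv_inv]
  right_inv A := by
    show (((A⁻¹).transpose)⁻¹).transpose = A
    rw [tr_inv, tr_tr, inv_inv]
  map_mul' A B := by
    show ((A * B)⁻¹).transpose = (A⁻¹).transpose * (B⁻¹).transpose
    rw [_root_.mul_inv_rev, tr_mul]

theorem θ_apply (A : S) : θ A = (A⁻¹).transpose := rfl

theorem θ_θ (A : S) : θ (θ A) = A := by
  rw [θ_apply, θ_apply, tr_inv, tr_tr, inv_inv]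

/-- if `B` is the inverse of `A` and is symmetric then `θ A = B` -/
theorem θ_eq (A B : S) (h : B * A = 1) (hs : B.transpose = B) : θ A = B := by
  rw [θ_apply, ← eq_inv_of_mul_eq_one_left h, hs]

/-- the automorphism of `PSL(3,7)` induced by the inverse transpose -/
noncomputable def θbar : P ≃* P :=
  QuotientGroup.congr (Subgroup.center S) (Subgroup.center S) θ
    (Subgroup.characteristic_iff_map_eq.mp inferInstance θ)

theorem θbar_mk (A : S) : θbar (QuotientGroup.mk A) = QuotientGroup.mk (θ A) := rfl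

theorem θbar_sq : θbar * θbar = 1 := by
  ext x
  induction x using QuotientGroup.induction_on with
  | H A =>
    show θbar (θbar (QuotientGroup.mk A)) = QuotientGroup.mk A
    rw [θbar_mk, θbar_mk, θ_θ]

/-- the action of the group of order two -/
noncomputable def φ : ℤˣ →* MulAut P where
  toFun u := if u = 1 then 1 else θbar
  map_one' := by simp
  map_mul' u v := by
    rcases Int.units_eq_one_or u with rfl | rfl <;> rcases Int.units_eq_one_or v with rfl | rfl
    · simp
    · simp
    · simp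
    · have h : (-1 : ℤˣ) ≠ 1 := by decide
      simp [h, θbar_sq]

theorem φ_neg_one : φ (-1) = θbar := by
  have h : (-1 : ℤˣ) ≠ 1 := by decide
  simp [φ, h]

/-- `PSL(3,7) : 2` -/
abbrev Γ : Type := P ⋊[φ] ℤˣ

theorem card_S : Nat.card S = 5630688 := by
  have h := Cfsg.Agent.S0242.result (F := ZMod 7) (q := 7) (by simp) 3 (by norm_num)
  simp only [Fin.prod_univ_three] at h
  generalize Nat.card (SpecialLinearGroup (Fin 3) (ZMod 7)) = n at h
  show n = 5630688
  norm_num at h
  omega

theorem card_center_le : Nat.card (Subgroup.center S) ≤ 3 := by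
  have hinj : Function.Injective (fun A : Subgroup.center S =>
      (⟨(A : S) 0 0, by
        obtain ⟨r, hr, h⟩ := Matrix.SpecialLinearGroup.mem_center_iff.mp A.2
        have : (A : S) 0 0 = r := by rw [← h]; simp
        rw [this]; simpa using hr⟩ : {r : ZMod 7 // r ^ 3 = 1})) := by
    intro A B hAB
    have h0 : (A : S) 0 0 = (B : S) 0 0 := congrArg Subtype.val hAB
    apply Subtype.ext
    apply Subtype.ext
    rw [← Matrix.SpecialLinearGroup.scalar_eq_coe_self_center A 0,
      ← Matrix.SpecialLinearGroup.scalar_eq_coe_self_center B 0, h0]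
  have h := Nat.card_le_card_of_injective _ hinj
  have h3 : Nat.card {r : ZMod 7 // r ^ 3 = 1} = 3 := by
    rw [Nat.card_eq_fintype_card]
    decide
  omega

theorem card_P_ge : 1876896 ≤ Nat.card P := by
  have h := Subgroup.card_eq_card_quotient_mul_card_subgroup (Subgroup.center S)
  rw [card_S] at h
  have h3 := card_center_le
  have : Nat.card (S ⧸ Subgroup.center S) * Nat.card (Subgroup.center S) ≤
      Nat.card (S ⧸ Subgroup.center S) * 3 := Nat.mul_le_mul_left _ h3
  show 1876896 ≤ Nat.card (S ⧸ Subgroup.center S)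
  omega

theorem card_Γ_ge : 3753792 ≤ Nat.card Γ := by
  have h : Nat.card Γ = Nat.card P * Nat.card ℤˣ := by
    rw [Nat.card_congr (SemidirectProduct.equivProd), Nat.card_prod]
  have h2 : Nat.card ℤˣ = 2 := by
    rw [Nat.card_eq_fintype_card]
    rfl
  rw [h, h2]
  have := card_P_ge
  omega

/-! ### generation of `SL(3,7)` by the transvections -/

/-- a transvection as an element of `SL(3,7)` -/
def tv (i j : Fin 3) (hij : i ≠ j) (c : ZMod 7) : S :=
  ⟨transvection i j c, det_transvection_of_ne i j hij c⟩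

theorem tv_add (i j : Fin 3) (hij : i ≠ j) (c d : ZMod 7) :
    tv i j hij (c + d) = tv i j hij c * tv i j hij d := by
  apply Subtype.ext
  show transvection i j (c + d) = transvection i j c * transvection i j d
  rw [transvection_mul_transvection_same i j hij]

theorem tv_zero (i j : Fin 3) (hij : i ≠ j) : tv i j hij 0 = 1 := by
  apply Subtype.ext
  show transvection i j (0 : ZMod 7) = 1
  simp [transvection]

theorem tv_nat (i j : Fin 3) (hij : i ≠ j) : ∀ n : ℕ, tv i j hij (n : ZMod 7) = tv i j hij 1 ^ n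
  | 0 => by rw [Nat.cast_zero, tv_zero, pow_zero]
  | n + 1 => by rw [Nat.cast_succ, tv_add, tv_nat i j hij n, pow_succ]

theorem tv_mem (J : Subgroup S) (h : ∀ i j (hij : i ≠ j), tv i j hij 1 ∈ J)
    (i j : Fin 3) (hij : i ≠ j) (c : ZMod 7) : tv i j hij c ∈ J := by
  have : c = ((c.val : ℕ) : ZMod 7) := (ZMod.natCast_zmod_val c).symm
  rw [this, tv_nat]
  exact Subgroup.pow_mem _ (h i j hij) _

/-- a transvection structure as an element of `SL(3,7)` -/
def tsl (t : TransvectionStruct (Fin 3) (ZMod 7)) : S :=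
  ⟨t.toMatrix, by rw [TransvectionStruct.det]⟩

theorem tsl_mem (J : Subgroup S) (h : ∀ i j (hij : i ≠ j), tv i j hij 1 ∈ J)
    (t : TransvectionStruct (Fin 3) (ZMod 7)) : tsl t ∈ J :=
  tv_mem J h t.i t.j t.hij t.c

theorem tsl_prod (L : List (TransvectionStruct (Fin 3) (ZMod 7))) :
    ((L.map tsl).prod : S).1 = (L.map TransvectionStruct.toMatrix).prod := by
  induction L with
  | nil => rfl
  | cons t L ih =>
    rw [List.map_cons, List.prod_cons, List.map_cons, List.prod_cons]
    show (tsl t).1 * ((L.map tsl).prod : S).1 = _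
    rw [ih]
    rfl

theorem tsl_prod_mem (J : Subgroup S) (h : ∀ i j (hij : i ≠ j), tv i j hij 1 ∈ J)
    (L : List (TransvectionStruct (Fin 3) (ZMod 7))) : (L.map tsl).prod ∈ J := by
  apply Subgroup.list_prod_mem
  intro x hx
  obtain ⟨t, -, rfl⟩ := List.mem_map.mp hx
  exact tsl_mem J h t

/-- the diagonal matrices of determinant one are products of transvections -/
theorem diag_eq : ∀ x y : ZMod 7, x ≠ 0 → y ≠ 0 →
    (diagonal ![x, y, (x * y)⁻¹] : Matrix (Fin 3) (Fin 3) (ZMod 7)) =
      (transvection 0 1 x * transvection 1 0 (-x⁻¹) * transvection 0 1 x) *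
      (transvection 0 1 (-1) * transvection 1 0 1 * transvection 0 1 (-1)) *
      ((transvection 1 2 (x * y) * transvection 2 1 (-(x * y)⁻¹) * transvection 1 2 (x * y)) *
      (transvection 1 2 (-1) * transvection 2 1 1 * transvection 1 2 (-1))) := by
  decide +kernel

theorem diag_mem (J : Subgroup S) (h : ∀ i j (hij : i ≠ j), tv i j hij 1 ∈ J)
    (D : Fin 3 → ZMod 7) (hD : (diagonal D).det = 1) : (⟨diagonal D, hD⟩ : S) ∈ J := by
  have hprod : D 0 * D 1 * D 2 = 1 := by
    rw [det_diagonal, Fin.prod_univ_three] at hD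
    exact hD
  have hx : D 0 ≠ 0 := by
    intro h0
    rw [h0] at hprod
    simp at hprod
  have hy : D 1 ≠ 0 := by
    intro h0
    rw [h0] at hprod
    simp at hprod
  have hz : D 2 = (D 0 * D 1)⁻¹ := eq_inv_of_mul_eq_one_right hprod
  have hDe : D = ![D 0, D 1, (D 0 * D 1)⁻¹] := by
    funext i
    fin_cases i
    · rfl
    · rfl
    · exact hz
  have h01 : (0 : Fin 3) ≠ 1 := by decide
  have h10 : (1 : Fin 3) ≠ 0 := by decide
  have h12 : (1 : Fin 3) ≠ 2 := by decide
  have h21 : (2 : Fin 3) ≠ 1 := by decide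
  have key : (⟨diagonal D, hD⟩ : S) =
      (tv 0 1 h01 (D 0) * tv 1 0 h10 (-(D 0)⁻¹) * tv 0 1 h01 (D 0)) *
      (tv 0 1 h01 (-1) * tv 1 0 h10 1 * tv 0 1 h01 (-1)) *
      ((tv 1 2 h12 (D 0 * D 1) * tv 2 1 h21 (-(D 0 * D 1)⁻¹) * tv 1 2 h12 (D 0 * D 1)) *
      (tv 1 2 h12 (-1) * tv 2 1 h21 1 * tv 1 2 h12 (-1))) := by
    apply Subtype.ext
    show diagonal D = _
    rw [hDe]
    exact diag_eq (D 0) (D 1) hx hy
  rw [key]
  have m := tv_mem J h
  exact mul_mem (mul_mem (mul_mem (mul_mem (m _ _ _ _) (m _ _ _ _)) (m _ _ _ _))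
    (mul_mem (mul_mem (m _ _ _ _) (m _ _ _ _)) (m _ _ _ _)))
    (mul_mem (mul_mem (mul_mem (m _ _ _ _) (m _ _ _ _)) (m _ _ _ _))
    (mul_mem (mul_mem (m _ _ _ _) (m _ _ _ _)) (m _ _ _ _)))

/-- a subgroup that contains the six transvections `1 + E_ij` is all of `SL(3,7)` -/
theorem eq_top_of_tv (J : Subgroup S) (h : ∀ i j (hij : i ≠ j), tv i j hij 1 ∈ J) : J = ⊤ := by
  rw [eq_top_iff]
  intro A _
  obtain ⟨L, L', D, hA⟩ := Pivot.exists_list_transvec_mul_diagonal_mul_list_transvec A.1
  have hdet : (diagonal D).det = 1 := by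
    have h1 := A.2
    rw [hA, det_mul, det_mul, TransvectionStruct.det_toMatrix_prod,
      TransvectionStruct.det_toMatrix_prod, one_mul, mul_one] at h1
    exact h1
  have hA' : A = (L.map tsl).prod * ⟨diagonal D, hdet⟩ * (L'.map tsl).prod := by
    apply Subtype.ext
    show A.1 = ((L.map tsl).prod : S).1 * diagonal D * ((L'.map tsl).prod : S).1
    rw [tsl_prod, tsl_prod]
    exact hA
  rw [hA']
  exact mul_mem (mul_mem (tsl_prod_mem J h L) (diag_mem J h D hdet)) (tsl_prod_mem J h L')

end Cfsg.Agent.Lib.Helper6.ONL37
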