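import Cfsg.Agent.Lib.Helper6.ONL37A
import Cfsg.Agent.Lib.Helper6.ONSub

/-! # The sub-presentation `Q6` of the O'Nan presentation maps onto `PSL(3,7) : 2` -/

set_option autoImplicit false

namespace Cfsg.Agent.Lib.Helper6.ONL37

open Matrix Cfsg.Spor Cfsg.Agent.Lib.Helper6.ONSub

/-- symmetric matrices of determinant one: the generators are the outer involutions `(Sm x, -1)` -/
def Sm : Q6.Gen → Matrix (Fin 3) (Fin 3) (ZMod 7)
  | .a => !![1, 0, 0; 0, 1, 0; 0, 0, 1]
  | .b => !![1, 0, 0; 0, 2, 0; 0, 0, 4]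
  | .c => !![1, 2, 2; 2, 1, 5; 2, 5, 1]
  | .d => !![0, 0, 6; 0, 6, 0; 6, 0, 0]
  | .e => !![0, 1, 0; 1, 0, 0; 0, 0, 6]
  | .f => !![0, 0, 1; 0, 6, 0; 1, 0, 0]

/-- their inverses -/
def Si : Q6.Gen → Matrix (Fin 3) (Fin 3) (ZMod 7)
  | .a => !![1, 0, 0; 0, 1, 0; 0, 0, 1]
  | .b => !![1, 0, 0; 0, 4, 0; 0, 0, 2]
  | .c => !![4, 1, 1; 1, 4, 6; 1, 6, 4]
  | .d => !![0, 0, 6; 0, 6, 0; 6, 0, 0]
  | .e => !![0, 1, 0; 1, 0, 0; 0, 0, 6]
  | .f => !![0, 0, 1; 0, 6, 0; 1, 0, 0]

theorem Sm_det (x : Q6.Gen) : (Sm x).det = 1 := by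
  rw [det_fin_three]
  cases x <;> decide +kernel

theorem Si_det (x : Q6.Gen) : (Si x).det = 1 := by
  rw [det_fin_three]
  cases x <;> decide +kernel

/-- the generators' matrices in `SL(3,7)` -/
def SS (x : Q6.Gen) : S := ⟨Sm x, Sm_det x⟩

/-- their inverses in `SL(3,7)` -/
def SI (x : Q6.Gen) : S := ⟨Si x, Si_det x⟩

theorem SI_mul_SS (x : Q6.Gen) : SI x * SS x = 1 := by
  apply Subtype.ext
  show Si x * Sm x = 1
  cases x <;> decide +kernel

theorem SI_symm (x : Q6.Gen) : (SI x).transpose = SI x := by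
  apply Subtype.ext
  show (Si x)ᵀ = Si x
  cases x <;> decide +kernel

theorem θ_SS (x : Q6.Gen) : θ (SS x) = SI x := θ_eq _ _ (SI_mul_SS x) (SI_symm x)

/-- the images of the generators -/
noncomputable def ψgen (x : Q6.Gen) : Γ := ⟨(QuotientGroup.mk (SS x) : P), -1⟩

/-- the matrix of a product of two generators -/
def R (x y : Q6.Gen) : S := SS x * SI y

theorem pair (x y : Q6.Gen) :
    ψgen x * ψgen y = SemidirectProduct.inl (QuotientGroup.mk (R x y) : P) := by
  apply SemidirectProduct.ext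
  · rw [SemidirectProduct.mul_left, SemidirectProduct.left_inl]
    show (QuotientGroup.mk (SS x) : P) * φ (-1) (QuotientGroup.mk (SS y) : P) = _
    rw [φ_neg_one, θbar_mk, θ_SS]
    rfl
  · rw [SemidirectProduct.mul_right, SemidirectProduct.right_inl]
    show (-1 : ℤˣ) * (-1) = 1
    decide

theorem mk_eq_of_smul (A B : S) (r : ZMod 7) (hr : r ^ 3 = 1) (h : A.1 = r • B.1) :
    (QuotientGroup.mk A : P) = QuotientGroup.mk B := by
  rw [QuotientGroup.eq_iff_div_mem, Matrix.SpecialLinearGroup.mem_center_iff]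
  refine ⟨r, by simpa using hr, ?_⟩
  have h1 : B.1 * (B⁻¹).1 = 1 := by
    have : (B * B⁻¹).1 = (1 : S).1 := by rw [mul_inv_cancel]
    exact this
  rw [div_eq_mul_inv]
  show scalar (Fin 3) r = A.1 * (B⁻¹).1
  rw [h, smul_mul_assoc, h1]
  ext i j
  simp [Matrix.scalar, Matrix.smul_apply, Matrix.one_apply, Matrix.diagonal_apply]

theorem R_pow_coe (x y : Q6.Gen) (m : ℕ) : ((R x y ^ m : S)).1 = (Sm x * Si y) ^ m := by
  induction m with
  | zero => rfl
  | succ m ih =>
    rw [pow_succ, pow_succ]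
    show ((R x y ^ m : S)).1 * (R x y).1 = _
    rw [ih]
    rfl

theorem cox_chk : ∀ x y : Q6.Gen, ∃ r : ZMod 7, r ^ 3 = 1 ∧
    (Sm x * Si y) ^ (coxLabel Q6.edges x y) = r • (1 : Matrix (Fin 3) (Fin 3) (ZMod 7)) := by
  intro x y
  cases x <;> cases y <;> decide +kernel

theorem cox_rel (x y : Q6.Gen) : (ψgen x * ψgen y) ^ (coxLabel Q6.edges x y) = 1 := by
  obtain ⟨r, hr, h⟩ := cox_chk x y
  rw [pair, ← map_pow, ← QuotientGroup.mk_pow,
    mk_eq_of_smul (R x y ^ coxLabel Q6.edges x y) 1 r hr (by rw [R_pow_coe, h]; rfl)]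
  rfl

theorem extra_chk : ∃ r : ZMod 7, r ^ 3 = 1 ∧
    Sm .a * Si .f = r • (Sm .c * Si .d) ^ 4 := by
  decide +kernel

theorem extra_rel : (ψgen .a * ψgen .f) * ((ψgen .c * ψgen .d) ^ 4)⁻¹ = 1 := by
  obtain ⟨r, hr, h⟩ := extra_chk
  rw [pair, pair, ← map_pow, ← QuotientGroup.mk_pow,
    mk_eq_of_smul (R .a .f) (R .c .d ^ 4) r hr (by rw [R_pow_coe]; exact h), mul_inv_cancel]

theorem lift_rel : ∀ r ∈ coxRelators Q6.edges ∪ {r | r ∈ Q6.extra}, FreeGroup.lift ψgen r = 1 := by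
  intro r hr
  rcases hr with ⟨x, -, y, -, rfl⟩ | hr
  · rw [map_pow, map_mul, FreeGroup.lift_apply_of, FreeGroup.lift_apply_of]
    exact cox_rel x y
  · simp only [Q6.extra, Set.mem_setOf_eq, List.mem_cons, List.not_mem_nil, or_false] at hr
    rw [hr]
    simp only [map_mul, map_inv, map_pow, FreeGroup.lift_apply_of]
    exact extra_rel

/-- the homomorphism from the presented group to `PSL(3,7) : 2` -/
noncomputable def ψ : Q6 →* Γ := PresentedGroup.toGroup lift_rel

theorem ψ_of (x : Q6.Gen) : ψ (PresentedGroup.of x) = ψgen x := PresentedGroup.toGroup.of _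

/-- the matrix of a word given by pairs of generators -/
def wmat (l : List (Q6.Gen × Q6.Gen)) : Matrix (Fin 3) (Fin 3) (ZMod 7) :=
  (l.map fun p => Sm p.1 * Si p.2).prod

/-- the same in `SL(3,7)` -/
def wprod (l : List (Q6.Gen × Q6.Gen)) : S := (l.map fun p => R p.1 p.2).prod

theorem wprod_coe (l : List (Q6.Gen × Q6.Gen)) : (wprod l).1 = wmat l := by
  induction l with
  | nil => rfl
  | cons p l ih =>
    show (R p.1 p.2 * wprod l).1 = Sm p.1 * Si p.2 * wmat l
    rw [← ih]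
    rfl

theorem wprod_mem (l : List (Q6.Gen × Q6.Gen)) :
    SemidirectProduct.inl (QuotientGroup.mk (wprod l) : P) ∈ ψ.range := by
  induction l with
  | nil =>
    show SemidirectProduct.inl (QuotientGroup.mk (1 : S) : P) ∈ ψ.range
    rw [QuotientGroup.mk_one, map_one]
    exact one_mem _
  | cons p l ih =>
    show SemidirectProduct.inl (QuotientGroup.mk (R p.1 p.2 * wprod l) : P) ∈ ψ.range
    rw [QuotientGroup.mk_mul, map_mul]
    refine mul_mem ?_ ih
    rw [← pair, ← ψ_of, ← ψ_of, ← map_mul]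
    exact ⟨_, rfl⟩

/-- the subgroup of `SL(3,7)` of the matrices in the image -/
noncomputable def J : Subgroup S :=
  ψ.range.comap ((SemidirectProduct.inl : P →* Γ).comp (QuotientGroup.mk' (Subgroup.center S)))

theorem mem_J (A : S) : A ∈ J ↔ SemidirectProduct.inl (QuotientGroup.mk A : P) ∈ ψ.range := Iff.rfl

theorem tv_mem_J_of (i j : Fin 3) (hij : i ≠ j) (l : List (Q6.Gen × Q6.Gen)) (r : ZMod 7)
    (hr : r ^ 3 = 1) (h : wmat l = r • transvection i j 1) : tv i j hij 1 ∈ J := by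
  rw [mem_J, ← mk_eq_of_smul (wprod l) (tv i j hij 1) r hr (by rw [wprod_coe, h]; rfl)]
  exact wprod_mem l

def w01 : List (Q6.Gen × Q6.Gen) :=
  [(.a, .b), (.c, .d), (.c, .b), (.d, .e), (.d, .c), (.b, .d), (.c, .b), (.e, .d), (.c, .b), (.a, .d), (.c, .e), (.d, .c), (.b, .a)]

theorem chk_w01 : wmat w01 = (2 : ZMod 7) • transvection 0 1 1 := by decide +kernel

def w02 : List (Q6.Gen × Q6.Gen) :=
  [(.b, .a), (.c, .e), (.d, .c), (.b, .f), (.e, .d), (.c, .b), (.d, .c), (.b, .d), (.e, .d), (.c, .b), (.d, .c), (.e, .d), (.c, .b), (.f, .e)]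

theorem chk_w02 : wmat w02 = (4 : ZMod 7) • transvection 0 2 1 := by decide +kernel

def w10 : List (Q6.Gen × Q6.Gen) :=
  [(.b, .a), (.c, .d), (.c, .b), (.e, .d), (.c, .b), (.d, .c), (.b, .d), (.e, .d), (.c, .b), (.d, .c), (.e, .d), (.c, .b)]

theorem chk_w10 : wmat w10 = (4 : ZMod 7) • transvection 1 0 1 := by decide +kernel

def w12 : List (Q6.Gen × Q6.Gen) :=
  [(.a, .b), (.a, .d), (.c, .d), (.c, .b), (.e, .d), (.c, .b), (.d, .c), (.b, .d), (.e, .d), (.c, .b), (.d, .c), (.e, .d), (.c, .b), (.a, .d)]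

theorem chk_w12 : wmat w12 = (1 : ZMod 7) • transvection 1 2 1 := by decide +kernel

def w20 : List (Q6.Gen × Q6.Gen) :=
  [(.a, .b), (.a, .e), (.d, .c), (.d, .c), (.b, .e), (.d, .c), (.b, .d), (.c, .b), (.d, .e), (.d, .c), (.b, .d), (.c, .e), (.d, .c), (.b, .a), (.d, .e)]

theorem chk_w20 : wmat w20 = (4 : ZMod 7) • transvection 2 0 1 := by decide +kernel

def w21 : List (Q6.Gen × Q6.Gen) :=
  [(.b, .a), (.c, .d), (.c, .b), (.f, .e), (.d, .c), (.b, .d), (.c, .b), (.d, .e), (.d, .c), (.b, .d), (.c, .e), (.d, .c), (.b, .f)]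

theorem chk_w21 : wmat w21 = (1 : ZMod 7) • transvection 2 1 1 := by decide +kernel

theorem tv_mem_J : ∀ i j (hij : i ≠ j), tv i j hij 1 ∈ J := by
  intro i j hij
  fin_cases i <;> fin_cases j
  · exact absurd rfl hij
  · exact tv_mem_J_of 0 1 hij w01 _ (by decide) chk_w01
  · exact tv_mem_J_of 0 2 hij w02 _ (by decide) chk_w02
  · exact tv_mem_J_of 1 0 hij w10 _ (by decide) chk_w10
  · exact absurd rfl hij
  · exact tv_mem_J_of 1 2 hij w12 _ (by decide) chk_w12
  · exact tv_mem_J_of 2 0 hij w20 _ (by decide) chk_w20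
  · exact tv_mem_J_of 2 1 hij w21 _ (by decide) chk_w21
  · exact absurd rfl hij

theorem J_top : J = ⊤ := eq_top_of_tv J tv_mem_J

theorem inl_mem (p : P) : SemidirectProduct.inl p ∈ ψ.range := by
  induction p using QuotientGroup.induction_on with
  | H A =>
    have : A ∈ J := by rw [J_top]; exact Subgroup.mem_top A
    exact this

theorem ψ_surjective : Function.Surjective ψ := by
  intro g
  rw [← MonoidHom.mem_range]
  rcases Int.units_eq_one_or g.right with h | h
  · have hg : g = SemidirectProduct.inl g.left := by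
      apply SemidirectProduct.ext
      · rw [SemidirectProduct.left_inl]
      · rw [SemidirectProduct.right_inl, h]
    rw [hg]
    exact inl_mem _
  · have hg : g = SemidirectProduct.inl (g * (ψgen .a)⁻¹).left * ψgen .a := by
      have h2 : g * (ψgen .a)⁻¹ = SemidirectProduct.inl (g * (ψgen .a)⁻¹).left := by
        apply SemidirectProduct.ext
        · rw [SemidirectProduct.left_inl]
        · rw [SemidirectProduct.right_inl, SemidirectProduct.mul_right, SemidirectProduct.inv_right, h]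
          show (-1 : ℤˣ) * (-1)⁻¹ = 1
          decide
      rw [← h2, inv_mul_cancel_right]
    rw [hg]
    refine mul_mem (inl_mem _) ?_
    rw [← ψ_of]
    exact ⟨_, rfl⟩

end Cfsg.Agent.Lib.Helper6.ONL37
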