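import Cfsg.Agent.Lib.Helper6.ONL37B
import Cfsg.Agent.Lib.Helper6.ONSimple

/-! # In the presented O'Nan group, `⟨a, …, f⟩` has a normal subgroup of index two isomorphic to `PSL(3,7)` -/

set_option autoImplicit false

namespace Cfsg.Agent.Lib.Helper6.ONL37

open Matrix Cfsg.Spor Cfsg.Agent.Lib.Helper6.Simp Cfsg.Agent.Lib.Helper6.ONSub

/-- the sub-presentation is finite of order at most `5586 * 672` -/
theorem card_Q6 : Finite Q6 ∧ Nat.card Q6 ≤ 3753792 := by
  have h2 := finite_card_of_index_empty ONQ5TC.main (by norm_num)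
  have h1 := subQ5.finite_card_le ONQ6TC.S rangeQ5.symm ONQ6TC.main (by norm_num) h2.1
    (le_of_eq h2.2)
  exact ⟨h1.1, h1.2.trans (by norm_num)⟩

/-- the subgroup generated by `a, …, f` -/
abbrev H : Subgroup ON :=
  (Subgroup.closure ({ON.a, ON.b, ON.c, ON.d, ON.e, ON.f} : Set (FreeGroup ON.Gen))).map
    (PresentedGroup.mk (coxRelators ON.edges ∪ {r | r ∈ ON.extra}))

theorem range_eq : subQ6.hom.range = H := by
  rw [subQ6.range_hom, rangeQ6]

theorem card_H : Nat.card H = 3753792 := by
  have h1 := Subgroup.card_mul_index H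
  have h2 : H.index = 122760 := ONTC.main
  have h3 : Nat.card ON = 460815505920 := ONSimple.main.2
  rw [h2, h3] at h1
  have h4 : Nat.card H * 122760 = 3753792 * 122760 := h1.trans (by norm_num)
  exact Nat.eq_of_mul_eq_mul_right (by norm_num) h4

/-- the map from the sub-presentation onto the subgroup -/
noncomputable def π : Q6 →* H :=
  subQ6.hom.codRestrict H (fun q => by rw [← range_eq]; exact ⟨q, rfl⟩)

theorem π_surjective : Function.Surjective π := by
  rintro ⟨h, hh⟩
  rw [← range_eq] at hh
  obtain ⟨q, rfl⟩ := hh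
  exact ⟨q, Subtype.ext rfl⟩

theorem π_bijective : Function.Bijective π := by
  have := card_Q6.1
  exact π_surjective.bijective_of_nat_card_le (by rw [card_H]; exact card_Q6.2)

theorem ψ_bijective : Function.Bijective ψ := by
  have := card_Q6.1
  exact ψ_surjective.bijective_of_nat_card_le (card_Q6.2.trans card_Γ_ge)

/-- the subgroup is `PSL(3,7) : 2` -/
noncomputable def e : H ≃* Γ :=
  (MulEquiv.ofBijective π π_bijective).symm.trans (MulEquiv.ofBijective ψ ψ_bijective)

/-- the sign character of the subgroup -/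
noncomputable def χ : H →* ℤˣ := (SemidirectProduct.rightHom : Γ →* ℤˣ).comp e.toMonoidHom

theorem χ_surjective : Function.Surjective χ := by
  intro u
  obtain ⟨g, hg⟩ := SemidirectProduct.rightHom_surjective (φ := φ) u
  exact ⟨e.symm g, by show SemidirectProduct.rightHom (e (e.symm g)) = u; rw [e.apply_symm_apply, hg]⟩

theorem index_ker : χ.ker.index = 2 := by
  rw [Subgroup.index_ker, MonoidHom.range_eq_top.mpr χ_surjective, Subgroup.card_top,
    Nat.card_eq_fintype_card]
  rfl

/-- the kernel of the sign character is `PSL(3,7)` -/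
noncomputable def kerEquiv : χ.ker ≃* P := by
  let f : χ.ker →* Γ := e.toMonoidHom.comp χ.ker.subtype
  have hf : Function.Injective f := fun x y h => Subtype.ext (e.injective h)
  have hr : f.range = (SemidirectProduct.inl : P →* Γ).range := by
    rw [SemidirectProduct.range_inl_eq_ker_rightHom]
    ext g
    constructor
    · rintro ⟨n, rfl⟩
      exact n.2
    · intro hg
      have hn : e.symm g ∈ χ.ker := by
        show SemidirectProduct.rightHom (e (e.symm g)) = 1
        rw [e.apply_symm_apply]
        exact hg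
      exact ⟨⟨e.symm g, hn⟩, e.apply_symm_apply g⟩
  exact ((MonoidHom.ofInjective hf).trans (MulEquiv.subgroupCongr hr)).trans
    (MonoidHom.ofInjective SemidirectProduct.inl_injective).symm

/-- **`⟨a, …, f⟩ ≤ O'N` has a normal subgroup of index two isomorphic to `PSL(3,7)`** -/
theorem main : ∃ N : Subgroup H, N.Normal ∧ N.index = 2 ∧
    Nonempty (N ≃* Matrix.ProjectiveSpecialLinearGroup (Fin 3) (ZMod 7)) :=
  ⟨χ.ker, MonoidHom.normal_ker χ, index_ker, ⟨kerEquiv⟩⟩

end Cfsg.Agent.Lib.Helper6.ONL37
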