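import Cfsg.Agent.Lib.Helper6.ONSE0
import Cfsg.Agent.Lib.Helper6.ONSE1
import Cfsg.Agent.Lib.Helper6.ONSE2
import Cfsg.Agent.Lib.Helper6.ONSE3

/-! # Coset enumeration data for ON: the entries of the table with their times (generated) -/

set_option autoImplicit false
set_option maxRecDepth 1000000
set_option maxHeartbeats 40000000

namespace Cfsg.Agent.Lib.Helper6.ONTC

open Cfsg.Agent.Lib.Helper6.TC Cfsg.Agent.Lib.Helper6.TCGS

/-- the entries of the table with their times -/
noncomputable def arrE : BT :=
  (.node (.node (.node arrE_0 arrE_1) (.node arrE_2 arrE_3)) (.node (.node arrE_4 arrE_5) (.node arrE_6 arrE_7)))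

end Cfsg.Agent.Lib.Helper6.ONTC
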