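import Cfsg.Agent.Lib.Helper6.ONTCChk0
import Cfsg.Agent.Lib.Helper6.ONSMRows0
import Cfsg.Agent.Lib.Helper6.ONSMRows1
import Cfsg.Agent.Lib.Helper6.ONSMRows2
import Cfsg.Agent.Lib.Helper6.ONSMRows3
import Cfsg.Agent.Lib.Helper6.ONSMRows4
import Cfsg.Agent.Lib.Helper6.ONSMRows5
import Cfsg.Agent.Lib.Helper6.ONSMRows6
import Cfsg.Agent.Lib.Helper6.ONSMRows7
import Cfsg.Agent.Lib.Helper6.ONSMRows8
import Cfsg.Agent.Lib.Helper6.ONSMRows9
import Cfsg.Agent.Lib.Helper6.ONSMRows10
import Cfsg.Agent.Lib.Helper6.ONSMRows11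
import Cfsg.Agent.Lib.Helper6.ONSMRows12
import Cfsg.Agent.Lib.Helper6.ONSMRows13
import Cfsg.Agent.Lib.Helper6.ONSMRows14
import Cfsg.Agent.Lib.Helper6.ONSMRows15
import Cfsg.Agent.Lib.Helper6.ONSMRows16
import Cfsg.Agent.Lib.Helper6.ONSMRows17
import Cfsg.Agent.Lib.Helper6.ONSMRows18
import Cfsg.Agent.Lib.Helper6.ONSMRows19
import Cfsg.Agent.Lib.Helper6.ONSMRows20
import Cfsg.Agent.Lib.Helper6.ONSMRows21
import Cfsg.Agent.Lib.Helper6.ONSMRows22
import Cfsg.Agent.Lib.Helper6.ONSMRows23
import Cfsg.Agent.Lib.Helper6.ONSMRows24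
import Cfsg.Agent.Lib.Helper6.ONSMRows25
import Cfsg.Agent.Lib.Helper6.ONSFin0
import Cfsg.Agent.Lib.Helper6.ONSFin1
import Cfsg.Agent.Lib.Helper6.ONSFin2
import Cfsg.Agent.Lib.Helper6.ONSFin3
import Cfsg.Agent.Lib.Helper6.ONSFin4
import Cfsg.Agent.Lib.Helper6.ONSFin5
import Cfsg.Agent.Lib.Helper6.ONSFin6

/-! # ON: the coset enumeration is checked -/

set_option autoImplicit false

namespace Cfsg.Agent.Lib.Helper6.ONTC

open Cfsg.Agent.Lib.Helper6.TC Cfsg.Agent.Lib.Helper6.TCGS

theorem chk_mrows : ∀ b < cert.N, cert.mslotOK b = true := by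
  refine cert.mrows_of_ranges 16000 26 (by norm_num) (by show 400026 ≤ 26 * 16000; norm_num) ?_
  intro f hf
  interval_cases f
  · exact chk_mrange0
  · exact chk_mrange1
  · exact chk_mrange2
  · exact chk_mrange3
  · exact chk_mrange4
  · exact chk_mrange5
  · exact chk_mrange6
  · exact chk_mrange7
  · exact chk_mrange8
  · exact chk_mrange9
  · exact chk_mrange10
  · exact chk_mrange11
  · exact chk_mrange12
  · exact chk_mrange13
  · exact chk_mrange14
  · exact chk_mrange15
  · exact chk_mrange16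
  · exact chk_mrange17
  · exact chk_mrange18
  · exact chk_mrange19
  · exact chk_mrange20
  · exact chk_mrange21
  · exact chk_mrange22
  · exact chk_mrange23
  · exact chk_mrange24
  · exact chk_mrange25

theorem chk_fin : cert.finalOK 122760 = true := by
  refine cert.finalOK_of_chunks 122760 2000 62 (by norm_num) (by show 122760 ≤ 62 * 2000; norm_num) ?_
  intro k hk
  interval_cases k
  · exact chk_fin0
  · exact chk_fin1
  · exact chk_fin2
  · exact chk_fin3
  · exact chk_fin4
  · exact chk_fin5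
  · exact chk_fin6
  · exact chk_fin7
  · exact chk_fin8
  · exact chk_fin9
  · exact chk_fin10
  · exact chk_fin11
  · exact chk_fin12
  · exact chk_fin13
  · exact chk_fin14
  · exact chk_fin15
  · exact chk_fin16
  · exact chk_fin17
  · exact chk_fin18
  · exact chk_fin19
  · exact chk_fin20
  · exact chk_fin21
  · exact chk_fin22
  · exact chk_fin23
  · exact chk_fin24
  · exact chk_fin25
  · exact chk_fin26
  · exact chk_fin27
  · exact chk_fin28
  · exact chk_fin29
  · exact chk_fin30
  · exact chk_fin31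
  · exact chk_fin32
  · exact chk_fin33
  · exact chk_fin34
  · exact chk_fin35
  · exact chk_fin36
  · exact chk_fin37
  · exact chk_fin38
  · exact chk_fin39
  · exact chk_fin40
  · exact chk_fin41
  · exact chk_fin42
  · exact chk_fin43
  · exact chk_fin44
  · exact chk_fin45
  · exact chk_fin46
  · exact chk_fin47
  · exact chk_fin48
  · exact chk_fin49
  · exact chk_fin50
  · exact chk_fin51
  · exact chk_fin52
  · exact chk_fin53
  · exact chk_fin54
  · exact chk_fin55
  · exact chk_fin56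
  · exact chk_fin57
  · exact chk_fin58
  · exact chk_fin59
  · exact chk_fin60
  · exact chk_fin61

theorem hrun : RunCertG cfg ivs tab.n :=
  RunCertG.of_static cert 122760 (by norm_num) chk_rows chk_mrows chk_fin

end Cfsg.Agent.Lib.Helper6.ONTC
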