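import Mathlib
import Cfsg.Prelude.Def_Sporadic_a
import Cfsg.Agent.Lib.Helper6.PG4AutData
import Cfsg.Agent.Lib.Helper6.SteinerAutT

/-! Automorphisms of the projective plane of order four and hyperovals: every permutation of a
hyperoval extends uniquely to an automorphism of the plane. -/

set_option autoImplicit false
set_option maxRecDepth 1000000

namespace Cfsg.Agent.Lib.Helper6.PG4

open Cfsg Cfsg.Agent.Lib.Helper6.SteinerSearch Cfsg.Agent.Lib.Helper6.SteinerG
open scoped Pointwise

/-- the reference plane -/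
abbrev X21 : Set (Finset (Fin 21)) := B0set 21 B0

/-- the reference hyperoval -/
def H0 : Finset (Fin 21) := dec 21 h0

/-- a relabelling given by a list preserving a reference system is an automorphism -/
theorem autOfChk {v : ℕ} (l : List ℕ) (hl : ∀ m ∈ l, m < 2 ^ v) (hnd : l.Nodup) (π : List ℕ)
    (hv : validPerm v π = true) (h : l.all (fun b => lmem (pmask π b v) l) = true) :
    lperm v π hv ∈ setSystemAut (B0set v l) := by
  classical
  rw [List.all_eq_true] at h
  set σ := lperm v π hv with hσ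
  have hinj : Function.Injective σ := σ.injective
  have hinjI : ∀ x ∈ l, ∀ y ∈ l, pmask π x v = pmask π y v → x = y := by
    intro x hx y hy hxy
    apply dec_inj (hl x hx) (hl y hy)
    have h1 := dec_pmask π hv x
    have h2 := dec_pmask π hv y
    rw [hxy] at h1
    rw [h1] at h2
    exact Finset.image_injective hinj h2
  set IM : Finset ℕ := (l.map (fun p => pmask π p v)).toFinset with hIM
  have hIMcard : IM.card = l.length := by
    rw [hIM, List.toFinset_card_of_nodup (List.Nodup.map_on hinjI hnd), List.length_map]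
  have hIMsub : IM ⊆ l.toFinset := by
    intro β hβ
    rw [hIM, List.mem_toFinset, List.mem_map] at hβ
    obtain ⟨p, hp, rfl⟩ := hβ
    rw [List.mem_toFinset]
    exact lmem_iff.1 (h p hp)
  have hIMeq : IM = l.toFinset := by
    apply Finset.eq_of_subset_of_card_le hIMsub
    rw [hIMcard]
    exact List.toFinset_card_le l
  rw [mem_aut_iff']
  intro b
  constructor
  · rintro ⟨β, hβ, rfl⟩
    exact ⟨pmask π β v, lmem_iff.1 (h β hβ), dec_pmask π hv β⟩
  · rintro ⟨β, hβ, hβb⟩
    have : β ∈ IM := by rw [hIMeq, List.mem_toFinset]; exact hβ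
    rw [hIM, List.mem_toFinset, List.mem_map] at this
    obtain ⟨p, hp, rfl⟩ := this
    rw [dec_pmask π hv p] at hβb
    have := Finset.image_injective hinj hβb
    rw [← this]
    exact ⟨p, hp, rfl⟩

/-- the list is a valid relabelling preserving the lines -/
def autChk (π : List ℕ) : Bool := validPerm 21 π && B0.all (fun b => lmem (pmask π b 21) B0)

theorem cB0lt : ∀ l ∈ B0, l < 2 ^ 21 := by decide +kernel

theorem cB0s : sincr B0 = true := by decide +kernel

theorem autChk_spec {π : List ℕ} (h : autChk π = true) :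
    ∃ hv : validPerm 21 π = true, lperm 21 π hv ∈ setSystemAut X21 := by
  unfold autChk at h
  rw [Bool.and_eq_true] at h
  exact ⟨h.1, autOfChk B0 cB0lt (nodup_of_sincr _ cB0s) π h.1 h.2⟩

theorem c168 : W168.all (fun e => autChk e.2 && Nat.beq (pmask e.2 e.1 21) h0) = true := by
  decide +kernel

theorem c168h : leq (W168.map Prod.fst) H6 = true := by decide +kernel

/-- the relabelling is an automorphism inducing the transposition of `i` and `j` on the
reference hyperoval -/
def swapOK (i j : ℕ) (π : List ℕ) : Bool :=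
  autChk π && Nat.beq (π.getD i 0) j && Nat.beq (π.getD j 0) i &&
    (List.range 21).all (fun k => !Nat.testBit h0 k || Nat.beq k i || Nat.beq k j ||
      Nat.beq (π.getD k 0) k)

theorem cswap : (List.range 21).all (fun i => (List.range 21).all (fun j =>
    !Nat.testBit h0 i || !Nat.testBit h0 j || Nat.beq i j || WS.any (swapOK i j))) = true := by
  decide +kernel

theorem csec : (List.range 21).all (fun p => Nat.testBit h0 p || B0.any (fun l1 => B0.any (fun l2 =>
    geN 2 (Nat.land l1 h0) && geN 2 (Nat.land l2 h0) && Nat.beq (Nat.land l1 l2) (2 ^ p)))) = true := by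
  decide +kernel

theorem clin : B0.all (fun l => B0.all (fun l' => Nat.beq l l' || !geN 2 (Nat.land l l'))) = true := by
  decide +kernel

theorem h0_lt : h0 < 2 ^ 21 := by decide

/-- an automorphism fixing two points of a line fixes the line -/
theorem image_line_eq {k : Equiv.Perm (Fin 21)} (hk : k ∈ setSystemAut X21)
    (hfix : ∀ q ∈ H0, k q = q) {l : ℕ} (hl : l ∈ B0) (h2 : geN 2 (Nat.land l h0) = true) :
    (dec 21 l).image k = dec 21 l := by
  rw [mem_aut_iff'] at hk
  obtain ⟨l', hl', hl'e⟩ := (hk (dec 21 l)).1 ⟨l, hl, rfl⟩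
  have hlt := cB0lt l hl
  rw [geN_iff (v := 21) 2 (Nat.land l h0) (Nat.and_lt_two_pow l h0_lt), dec_and] at h2
  have hsub : dec 21 l ∩ dec 21 h0 ⊆ dec 21 l ∩ dec 21 l' := by
    intro q hq
    rw [Finset.mem_inter] at hq ⊢
    refine ⟨hq.1, ?_⟩
    rw [hl'e, Finset.mem_image]
    exact ⟨q, hq.1, hfix q hq.2⟩
  have hc := List.all_eq_true.1 (List.all_eq_true.1 clin l hl) l' hl'
  rw [Bool.or_eq_true] at hc
  rcases hc with hc | hc
  · rw [← hl'e, ← Nat.eq_of_beq_eq_true hc]
  · exfalso
    have h3 : geN 2 (Nat.land l l') = true := by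
      rw [geN_iff (v := 21) 2 (Nat.land l l') (Nat.and_lt_two_pow l (cB0lt l' hl')), dec_and]
      exact h2.trans (Finset.card_le_card hsub)
    rw [h3] at hc
    exact absurd hc (by simp)

/-- an automorphism fixing the reference hyperoval pointwise is the identity -/
theorem fix_eq_one {k : Equiv.Perm (Fin 21)} (hk : k ∈ setSystemAut X21)
    (hfix : ∀ q ∈ H0, k q = q) : k = 1 := by
  ext p
  rw [Equiv.Perm.one_apply]
  congr 1
  by_cases hp : p ∈ H0
  · exact hfix p hp
  · have hc := List.all_eq_true.1 csec p.val (List.mem_range.2 p.2)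
    have hpb : Nat.testBit h0 p.val = false := by
      rw [H0, mem_dec] at hp
      exact Bool.eq_false_iff.2 hp
    rw [hpb, Bool.false_or, List.any_eq_true] at hc
    obtain ⟨l1, hl1, hc⟩ := hc
    rw [List.any_eq_true] at hc
    obtain ⟨l2, hl2, hc⟩ := hc
    simp only [Bool.and_eq_true] at hc
    obtain ⟨⟨h1, h2⟩, h3⟩ := hc
    have h3 : Nat.land l1 l2 = 2 ^ p.val := Nat.eq_of_beq_eq_true h3
    have e1 := image_line_eq hk hfix hl1 h1
    have e2 := image_line_eq hk hfix hl2 h2
    have hp1 : p ∈ dec 21 (Nat.land l1 l2) := by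
      rw [h3, mem_dec, Nat.testBit_two_pow]
      simp
    rw [dec_and, Finset.mem_inter] at hp1
    have hk1 : k p ∈ dec 21 l1 := by
      rw [← e1]; exact Finset.mem_image_of_mem _ hp1.1
    have hk2 : k p ∈ dec 21 l2 := by
      rw [← e2]; exact Finset.mem_image_of_mem _ hp1.2
    have : k p ∈ dec 21 (Nat.land l1 l2) := by
      rw [dec_and, Finset.mem_inter]; exact ⟨hk1, hk2⟩
    rw [h3, mem_dec, Nat.testBit_two_pow, decide_eq_true_eq] at this
    exact Fin.ext this.symm

/-- the permutations of the reference hyperoval induced by automorphisms of the plane -/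
def indS : Subgroup (Equiv.Perm ↥H0) where
  carrier := {ρ | ∃ g ∈ setSystemAut X21, ∀ p : ↥H0, g p.1 = (ρ p).1}
  mul_mem' := by
    rintro ρ1 ρ2 ⟨g1, hg1, h1⟩ ⟨g2, hg2, h2⟩
    refine ⟨g1 * g2, (setSystemAut X21).mul_mem hg1 hg2, fun p => ?_⟩
    rw [Equiv.Perm.mul_apply, h2 p, h1 (ρ2 p)]
    rfl
  one_mem' := ⟨1, (setSystemAut X21).one_mem, fun p => rfl⟩
  inv_mem' := by
    rintro ρ ⟨g, hg, h⟩
    refine ⟨g⁻¹, (setSystemAut X21).inv_mem hg, fun p => ?_⟩
    have := h (ρ⁻¹ p)
    have e : ρ (ρ⁻¹ p) = p := by simp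
    rw [e] at this
    rw [Equiv.Perm.inv_eq_iff_eq]
    exact this.symm

theorem swap_mem (a b : ↥H0) (hab : a ≠ b) : Equiv.swap a b ∈ indS := by
  have hc := List.all_eq_true.1 (List.all_eq_true.1 cswap a.1.val (List.mem_range.2 a.1.2))
    b.1.val (List.mem_range.2 b.1.2)
  have ha : Nat.testBit h0 a.1.val = true := mem_dec.1 a.2
  have hb : Nat.testBit h0 b.1.val = true := mem_dec.1 b.2
  have hne : a.1.val ≠ b.1.val := fun e => hab (Subtype.ext (Fin.ext e))
  have hbeq : Nat.beq a.1.val b.1.val = false := by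
    cases h : Nat.beq a.1.val b.1.val
    · rfl
    · exact absurd (Nat.eq_of_beq_eq_true h) hne
  rw [ha, hb, hbeq] at hc
  simp only [Bool.not_true, Bool.false_or, List.any_eq_true] at hc
  obtain ⟨π, _, hπ⟩ := hc
  unfold swapOK at hπ
  simp only [Bool.and_eq_true, List.all_eq_true, List.mem_range, Bool.or_eq_true,
    Bool.not_eq_true'] at hπ
  obtain ⟨⟨⟨h1, h2⟩, h3⟩, h4⟩ := hπ
  obtain ⟨hv, hmem⟩ := autChk_spec h1
  have h2 : π.getD a.1.val 0 = b.1.val := Nat.eq_of_beq_eq_true h2
  have h3 : π.getD b.1.val 0 = a.1.val := Nat.eq_of_beq_eq_true h3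
  refine ⟨lperm 21 π hv, hmem, fun p => ?_⟩
  by_cases hpa : p = a
  · subst hpa
    rw [Equiv.swap_apply_left]
    apply Fin.ext
    rw [lperm_apply]
    exact h2
  · by_cases hpb : p = b
    · subst hpb
      rw [Equiv.swap_apply_right]
      apply Fin.ext
      rw [lperm_apply]
      exact h3
    · rw [Equiv.swap_apply_of_ne_of_ne hpa hpb]
      apply Fin.ext
      rw [lperm_apply]
      have hp : Nat.testBit h0 p.1.val = true := mem_dec.1 p.2
      rcases h4 p.1.val p.1.2 with ((h5 | h5) | h5) | h5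
      · rw [hp] at h5; exact absurd h5 (by simp)
      · exact absurd (Subtype.ext (Fin.ext (Nat.eq_of_beq_eq_true h5))) hpa
      · exact absurd (Subtype.ext (Fin.ext (Nat.eq_of_beq_eq_true h5))) hpb
      · exact Nat.eq_of_beq_eq_true h5

theorem indS_eq_top : indS = ⊤ := by
  rw [eq_top_iff, ← Equiv.Perm.closure_isSwap, Subgroup.closure_le]
  rintro σ ⟨a, b, hab, rfl⟩
  exact swap_mem a b hab

/-- every permutation of the reference hyperoval extends uniquely to an automorphism -/
theorem extend_H0 (ρ0 : Equiv.Perm ↥H0) :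
    ∃! g : Equiv.Perm (Fin 21), g ∈ setSystemAut X21 ∧ ∀ q : ↥H0, g q = ρ0 q := by
  have hmem : ρ0 ∈ indS := by rw [indS_eq_top]; exact Subgroup.mem_top _
  obtain ⟨g, hg, h⟩ := hmem
  refine ⟨g, ⟨hg, h⟩, ?_⟩
  rintro g' ⟨hg', h'⟩
  have hk : g⁻¹ * g' ∈ setSystemAut X21 :=
    (setSystemAut X21).mul_mem ((setSystemAut X21).inv_mem hg) hg'
  have hfix : ∀ q ∈ H0, (g⁻¹ * g') q = q := by
    intro q hq
    rw [Equiv.Perm.mul_apply, Equiv.Perm.inv_eq_iff_eq]
    have e1 := h ⟨q, hq⟩
    have e2 := h' ⟨q, hq⟩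
    simp only at e1 e2
    rw [e1, e2]
  have := fix_eq_one hk hfix
  rw [inv_mul_eq_one] at this
  exact this.symm

end Cfsg.Agent.Lib.Helper6.PG4
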