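import Mathlib
import Cfsg.Prelude.Def_Sporadic_a
import Cfsg.Agent.Lib.Helper6.PG4Aut

/-! Every permutation of a hyperoval of a projective plane of order four extends uniquely to an
automorphism of the plane. -/

set_option autoImplicit false

namespace Cfsg.Agent.Lib.Helper6.PG4

open Cfsg Cfsg.Agent.Lib.Helper6.SteinerSearch Cfsg.Agent.Lib.Helper6.SteinerG
open scoped Pointwise

section transport

variable {α γ : Type*} [DecidableEq α] [DecidableEq γ]

theorem extend_transport {L : Set (Finset α)} {X : Set (Finset γ)} (e : α ≃ γ)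
    (he : ∀ a : Finset α, a ∈ L ↔ a.image e ∈ X) (H : Finset α) (H' : Finset γ)
    (hH' : H.image e = H')
    (hX : ∀ ρ' : Equiv.Perm ↥H', ∃! g' : Equiv.Perm γ,
      g' ∈ setSystemAut X ∧ ∀ q : ↥H', g' q = ρ' q)
    (ρ : Equiv.Perm ↥H) :
    ∃! g : Equiv.Perm α, g ∈ setSystemAut L ∧ ∀ p : ↥H, g p = ρ p := by
  subst hH'
  have hmem : ∀ a : α, a ∈ H ↔ e a ∈ H.image e :=
    fun a => (Function.Injective.mem_finset_image e.injective).symm
  let se : ↥H ≃ ↥(H.image e) := e.subtypeEquiv hmem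
  obtain ⟨g', ⟨hg', hq⟩, huniq⟩ := hX (se.permCongr ρ)
  refine ⟨conjE e g', ⟨conjE_mem e he hg', fun p => ?_⟩, ?_⟩
  · rw [conjE_apply]
    have := hq (se p)
    have e1 : (se.permCongr ρ) (se p) = se (ρ p) := by simp [Equiv.permCongr_apply]
    rw [e1] at this
    have e2 : ((se p : ↥(H.image e)) : γ) = e p.1 := rfl
    have e3 : ((se (ρ p) : ↥(H.image e)) : γ) = e (ρ p).1 := rfl
    rw [e2, e3] at this
    rw [this, Equiv.symm_apply_apply]
  · rintro g2 ⟨hg2, h2⟩
    have hg2' := conjE_symm_mem e he hg2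
    have := huniq (conjE e.symm g2) ⟨hg2', fun q => ?_⟩
    · rw [← this]
      ext a
      simp [conjE_apply]
    · rw [conjE_apply, Equiv.symm_symm]
      have h3 := h2 (se.symm q)
      have e4 : ((se.symm q : ↥H) : α) = e.symm q.1 := rfl
      rw [e4] at h3
      rw [h3]
      rfl

end transport

theorem extend_hyperoval (H : Finset (Fin 21)) (hc : H.card = 6) (hi : Indep H)
    (ρ : Equiv.Perm ↥H) :
    ∃! g : Equiv.Perm (Fin 21), g ∈ setSystemAut X21 ∧ ∀ p : ↥H, g p = ρ p := by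
  obtain ⟨h, hh, rfl⟩ := mem_H6 H hc hi
  rw [← leq_iff.1 c168h, List.mem_map] at hh
  obtain ⟨e, he, rfl⟩ := hh
  have hchk := List.all_eq_true.1 c168 e he
  rw [Bool.and_eq_true] at hchk
  obtain ⟨hv, hmem⟩ := autChk_spec hchk.1
  have himg : (dec 21 e.1).image (lperm 21 e.2 hv) = H0 := by
    rw [← dec_pmask e.2 hv e.1, Nat.eq_of_beq_eq_true hchk.2]
    rfl
  exact extend_transport (lperm 21 e.2 hv) ((mem_aut_iff' _ _).1 hmem) (dec 21 e.1) H0 himg
    extend_H0 ρ

theorem extend_general {α : Type*} [Fintype α] [DecidableEq α] (hα : Fintype.card α = 21)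
    (L : Set (Finset α)) (hL : IsSteinerSystem 2 5 L) (H : Finset α)
    (hH : H.card = 6 ∧ ∀ l ∈ L, (l ∩ H).card ≤ 2) (σ : Equiv.Perm ↥H) :
    ∃! g : Equiv.Perm α, g ∈ setSystemAut L ∧ ∀ p : ↥H, g p = σ p := by
  obtain ⟨e, he⟩ := exists_equiv hα hL
  have hc : (H.image e).card = 6 := by
    rw [Finset.card_image_of_injective _ e.injective, hH.1]
  have hi : Indep (H.image e) := (indep_transport e he H).1 hH.2
  exact extend_transport e he H (H.image e) rfl (extend_hyperoval _ hc hi) σ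

end Cfsg.Agent.Lib.Helper6.PG4
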