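import Mathlib
import Cfsg.Prelude.Def_Sporadic_a
import Cfsg.Agent.Lib.Helper6.PG4
import Cfsg.Agent.Lib.Helper6.NTree

/-! Data for the hyperovals of the projective plane of order four (generated by
scratch/py/pg/emit_hyper.py). -/

set_option autoImplicit false
set_option maxRecDepth 1000000

namespace Cfsg.Agent.Lib.Helper6.PG4

open Cfsg Cfsg.Agent.Lib.Helper6.SteinerSearch Cfsg.Agent.Lib.Helper6.SteinerG

/-- the independent `4`-sets, each with the hyperoval containing it -/
def I4H : List (ℕ × ℕ) := [(51, 786483), (53, 24629), (54, 2614), (57, 1337), (58, 36922), (60, 196668), (83, 1619), (85, 655445), (86, 49238), (89, 12377), (90, 327770), (92, 2396), (99, 41059), (101, 3173), (102, 393318), (105, 589929), (106, 874), (108, 20588), (147, 20627), (149, 917), (150, 589974), (153, 393369), (154, 3226), (156, 41116), (163, 2467), (165, 327845), (166, 12454), (169, 49321), (170, 655530), (172, 1708), (195, 196803), (197, 37061), (198, 1478), (201, 2761), (202, 24778), (204, 786636), (277, 917), (281, 1337), (284, 2396), (291, 2467), (297, 1337), (298, 874), (305, 1337), (312,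 1337), (326, 1478), (330, 874), (332, 2396), (340, 2396), (344, 2396), (354, 874), (360, 874), (387, 2467), (389, 917), (390, 1478), (401, 917), (404, 917), (417, 2467), (418, 2467), (450, 1478), (452, 1478), (531, 1619), (533, 917), (534, 2614), (550, 2614), (554, 874), (556, 1708), (562, 2614), (564, 2614), (579, 1619), (585, 2761), (586, 874), (593, 1619), (594, 1619), (610, 874), (616, 874), (645, 917), (649, 2761), (652, 1708), (657, 917), (660, 917), (676, 1708), (680, 1708), (705, 2761), (712, 2761), (771, 590595), (773, 917), (774, 21254), (777, 41737), (778, 874), (780, 393996), (785, 917), (788, 917), (802, 874), (808, 874), (816, 328496), (834, 874), (840, 874), (848, 37712), (864, 874), (897, 917), (900, 917), (912, 917), (928, 25504), (960, 656320), (1043, 1619), (1049, 1337), (1050, 3226), (1061, 3173), (1065, 1337), (1068, 1708), (1073, 1337), (1080, 1337), (1091, 1619), (1093, 3173), (1094, 1478), (1105, 1619), (1106, 1619), (1121, 3173), (1124, 3173), (1158, 1478), (1162, 3226), (1164, 1708), (1170, 3226), (1176, 3226), (1188, 1708), (1192, 1708), (1218, 1478),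 (1220, 1478), (1283, 38147), (1285, 197893), (1286, 1478), (1289, 1337), (1290, 787722), (1292, 25868), (1297, 1337), (1304, 1337), (1313, 1337), (1320, 1337), (1328, 1337), (1346, 1478), (1348, 1478), (1360, 591184), (1376, 13664), (1410, 1478), (1412, 1478), (1424, 50576), (1440, 394656), (1472, 1478), (1539, 1619), (1541, 50693), (1542, 656902), (1545, 329225), (1546, 13834), (1548, 1708), (1553, 1619), (1554, 1619), (1572, 1708), (1576, 1708), (1584, 42544), (1601, 1619), (1602, 1619), (1616, 1619), (1632, 788064), (1668, 1708), (1672, 1708), (1680, 198288), (1696, 1708), (1728, 22208), (2070, 2614), (2074, 3226), (2076, 2396), (2083, 2467), (2085, 3173), (2086, 2614), (2098, 2614), (2100, 2614), (2117, 3173), (2121, 2761), (2124, 2396), (2132, 2396), (2136, 2396), (2145, 3173), (2148, 3173), (2179, 2467), (2185, 2761), (2186, 3226), (2194, 3226), (2200, 3226), (2209, 2467), (2210, 2467), (2241, 2761), (2248, 2761), (2307, 2467), (2309, 14597), (2310, 329990), (2313, 657673), (2314, 51466), (2316, 2396), (2324, 2396), (2328, 2396), (2337, 2467), (2338, 2467), (2352, 22832),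 (2372, 2396), (2376, 2396), (2384, 2396), (2400, 199008), (2433, 2467), (2434, 2467), (2448, 788880), (2464, 2467), (2496, 43456), (2563, 27139), (2565, 788997), (2566, 2614), (2569, 2761), (2570, 199178), (2572, 39436), (2578, 2614), (2580, 2614), (2594, 2614), (2596, 2614), (2608, 2614), (2625, 2761), (2632, 2761), (2640, 395856), (2656, 51808), (2689, 2761), (2696, 2761), (2704, 14992), (2720, 592544), (2752, 2761), (3075, 396291), (3077, 3173), (3078, 44038), (3081, 23561), (3082, 3226), (3084, 592908), (3090, 3226), (3096, 3226), (3105, 3173), (3108, 3173), (3120, 658480), (3137, 3173), (3140, 3173), (3152, 27728), (3168, 3173), (3202, 3226), (3208, 3226), (3216, 3226), (3232, 40096), (3264, 330944), (4115, 20627), (4121, 12377), (4122, 36922), (4134, 12454), (4138, 36922), (4140, 20588), (4146, 36922), (4152, 36922), (4165, 37061), (4169, 12377), (4172, 20588), (4177, 12377), (4184, 12377), (4196, 20588), (4200, 20588), (4227, 20627), (4229, 37061), (4230, 12454), (4241, 20627), (4242, 20627), (4258, 12454), (4260, 12454), (4289, 37061), (4292, 37061), (4355, 38147), (4357,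 14597), (4358, 21254), (4369, 1577233), (4386, 1315106), (4400, 22832), (4420, 1184068), (4432, 37712), (4448, 13664), (4614, 21254), (4618, 13834), (4620, 39436), (4626, 1118738), (4680, 1315400), (4688, 37712), (4740, 1577604), (4752, 14992), (4800, 22208), (4866, 21254), (4868, 21254), (4880, 37712), (4928, 37712), (5123, 38147), (5129, 23561), (5130, 13834), (5160, 1578024), (5185, 1119297), (5216, 13664), (5250, 1184898), (5280, 40096), (5312, 22208), (5377, 38147), (5378, 38147), (5408, 13664), (5440, 13664), (5634, 13834), (5640, 13834), (5696, 22208), (5760, 22208), (6149, 14597), (6153, 23561), (6156, 39436), (6168, 1185816), (6180, 1120292), (6192, 22832), (6273, 1316993), (6288, 14992), (6304, 40096), (6401, 14597), (6404, 14597), (6416, 22832), (6432, 22832), (6660, 39436), (6664, 39436), (6672, 14992), (6784, 14992), (7169, 23561), (7176, 23561), (7200, 40096), (7296, 40096), (8213, 24629), (8217, 12377), (8220, 41116), (8227, 41059), (8229, 24629), (8230, 12454), (8241, 24629), (8244, 24629), (8259, 41059), (8265, 12377), (8266, 24778), (8273, 12377), (8280, 12377),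 (8289, 41059), (8290, 41059), (8326, 12454), (8330, 24778), (8332, 41116), (8340, 41116), (8344, 41116), (8354, 12454), (8356, 12454), (8386, 24778), (8392, 24778), (8453, 14597), (8457, 41737), (8460, 25868), (8481, 1122593), (8520, 1581384), (8544, 13664), (8580, 1319300), (8608, 25504), (8640, 43456), (8707, 27139), (8713, 41737), (8714, 13834), (8721, 1319441), (8738, 1581602), (8752, 42544), (8840, 1188488), (8848, 14992), (8864, 25504), (8961, 41737), (8968, 41737), (8992, 25504), (9088, 25504), (9222, 44038), (9226, 13834), (9228, 25868), (9240, 1123352), (9252, 1188900), (9264, 42544), (9282, 1320002), (9296, 27728), (9312, 13664), (9476, 25868), (9480, 25868), (9504, 13664), (9536, 13664), (9730, 13834), (9736, 13834), (9744, 42544), (9760, 42544), (10243, 27139), (10245, 14597), (10246, 44038), (10260, 1583124), (10305, 1189953), (10320, 27728), (10370, 1124482), (10384, 14992), (10432, 43456), (10497, 14597), (10500, 14597), (10560, 43456), (10624, 43456), (10753, 27139), (10754, 27139), (10768, 14992), (10880, 14992), (11266, 44038), (11268, 44038), (11280, 27728),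 (11328, 27728), (12291, 339971), (12293, 14597), (12294, 12454), (12297, 12377), (12298, 13834), (12300, 667660), (12305, 12377), (12312, 12377), (12322, 12454), (12324, 12454), (12336, 602160), (12353, 12377), (12360, 12377), (12368, 12377), (12384, 13664), (12418, 12454), (12420, 12454), (12432, 14992), (12448, 12454), (12480, 405696), (12545, 14597), (12548, 14597), (12576, 13664), (12608, 13664), (12802, 13834), (12808, 13834), (12816, 14992), (12928, 14992), (13056, 799488), (13314, 13834), (13320, 13834), (13344, 13664), (13376, 13664), (13568, 13664), (13824, 13834), (14337, 14597), (14340, 14597), (14352, 14992), (14464, 14992), (14592, 14597), (14848, 14992), (15360, 211968), (16403, 20627), (16405, 24629), (16406, 49238), (16421, 24629), (16425, 49321), (16428, 20588), (16433, 24629), (16436, 24629), (16454, 49238), (16458, 24778), (16460, 20588), (16466, 49238), (16468, 49238), (16484, 20588), (16488, 20588), (16515, 20627), (16521, 49321), (16522, 24778), (16529, 20627), (16530, 20627), (16545, 49321), (16552, 49321), (16578, 24778), (16584, 24778), (16646, 21254),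 (16650, 51466), (16652, 25868), (16660, 1130772), (16680, 1196328), (16688, 22832), (16770, 1589634), (16784, 50576), (16800, 25504), (16899, 27139), (16901, 50693), (16902, 21254), (16932, 1327652), (16962, 1196610), (16992, 51808), (17025, 1131137), (17056, 25504), (17088, 22208), (17154, 21254), (17156, 21254), (17184, 25504), (17280, 25504), (17413, 50693), (17417, 23561), (17420, 25868), (17425, 1197073), (17476, 1590340), (17488, 27728), (17544, 1328264), (17552, 50576), (17600, 22208), (17668, 25868), (17672, 25868), (17680, 50576), (17792, 50576), (17921, 50693), (17924, 50693), (17984, 22208), (18048, 22208), (18435, 27139), (18441, 23561), (18442, 51466), (18450, 1329170), (18465, 1591329), (18480, 22832), (18504, 1132616), (18512, 27728), (18528, 51808), (18690, 51466), (18696, 51466), (18704, 22832), (18720, 22832), (18945, 27139), (18946, 27139), (18976, 51808), (19008, 51808), (19457, 23561), (19464, 23561), (19472, 27728), (19520, 27728), (20483, 20627), (20485, 610309), (20486, 21254), (20489, 23561), (20490, 413706), (20492, 20588), (20497, 20627), (20498, 20627),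 (20516, 20588), (20520, 20588), (20528, 22832), (20548, 20588), (20552, 20588), (20560, 217168), (20576, 20588), (20609, 20627), (20610, 20627), (20624, 20627), (20640, 807072), (20672, 22208), (20738, 21254), (20740, 21254), (20752, 22832), (20768, 22832), (20994, 21254), (20996, 21254), (21056, 22208), (21120, 22208), (21248, 21254), (21505, 23561), (21512, 23561), (21568, 22208), (21632, 22208), (21760, 677120), (22016, 22208), (22529, 23561), (22536, 23561), (22544, 22832), (22560, 22832), (22784, 22832), (23040, 350720), (23552, 23561), (24579, 27139), (24581, 24629), (24582, 811014), (24585, 221193), (24586, 24778), (24588, 25868), (24593, 24629), (24596, 24629), (24609, 24629), (24612, 24629), (24624, 24629), (24642, 24778), (24648, 24778), (24656, 27728), (24672, 680032), (24706, 24778), (24712, 24778), (24720, 352400), (24736, 25504), (24768, 24778), (24836, 25868), (24840, 25868), (24864, 25504), (24960, 25504), (25089, 27139), (25090, 27139), (25120, 25504), (25216, 25504), (25344, 25504), (25604, 25868), (25608, 25868), (25616, 27728), (25664, 27728), (25856, 25868),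 (26112, 419328), (26625, 27139), (26626, 27139), (26640, 27728), (26688, 27728), (26880, 616704), (27136, 27139), (27648, 27728), (32790, 49238), (32794, 36922), (32796, 41116), (32803, 41059), (32809, 49321), (32810, 36922), (32818, 36922), (32824, 36922), (32835, 41059), (32837, 37061), (32838, 49238), (32850, 49238), (32852, 49238), (32865, 41059), (32866, 41059), (32901, 37061), (32905, 49321), (32908, 41116), (32916, 41116), (32920, 41116), (32929, 49321), (32936, 49321), (32961, 37061), (32964, 37061), (33027, 38147), (33033, 41737), (33034, 51466), (33048, 1343768), (33090, 1147202), (33104, 37712), (33153, 1212801), (33168, 50576), (33216, 43456), (33285, 50693), (33289, 41737), (33292, 39436), (33300, 1212948), (33320, 1147432), (33328, 42544), (33345, 1606209), (33360, 37712), (33376, 51808), (33537, 41737), (33544, 41737), (33552, 37712), (33600, 37712), (33795, 38147), (33797, 50693), (33798, 44038), (33810, 1606674), (33825, 1344545), (33840, 42544), (33924, 1148036), (33936, 50576), (33952, 40096), (34049, 38147), (34050, 38147), (34064, 50576), (34176, 50576),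 (34305, 50693), (34308, 50693), (34320, 42544), (34336, 42544), (34822, 44038), (34826, 51466), (34828, 39436), (34850, 1214498), (34884, 1345604), (34912, 51808), (34952, 1607816), (34976, 40096), (35008, 43456), (35074, 51466), (35080, 51466), (35136, 43456), (35200, 43456), (35332, 39436), (35336, 39436), (35360, 51808), (35392, 51808), (35842, 44038), (35844, 44038), (35872, 40096), (35968, 40096), (36867, 38147), (36869, 37061), (36870, 233478), (36873, 823305), (36874, 36922), (36876, 39436), (36882, 36922), (36888, 36922), (36898, 36922), (36904, 36922), (36912, 36922), (36929, 37061), (36932, 37061), (36944, 37712), (36960, 364640), (36993, 37061), (36996, 37061), (37008, 692368), (37024, 40096), (37056, 37061), (37121, 38147), (37122, 38147), (37136, 37712), (37184, 37712), (37380, 39436), (37384, 39436), (37392, 37712), (37440, 37712), (37632, 37712), (37889, 38147), (37890, 38147), (37920, 40096), (38016, 40096), (38144, 38147), (38400, 628224), (38916, 39436), (38920, 39436), (38944, 40096), (39040, 40096), (39168, 432384), (39424, 39436), (39936, 40096), (40963,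 41059), (40965, 434181), (40966, 44038), (40969, 41737), (40970, 630794), (40972, 41116), (40980, 41116), (40984, 41116), (40993, 41059), (40994, 41059), (41008, 42544), (41025, 41059), (41026, 41059), (41040, 827472), (41056, 41059), (41092, 41116), (41096, 41116), (41104, 41116), (41120, 237728), (41152, 43456), (41217, 41737), (41224, 41737), (41280, 43456), (41344, 43456), (41473, 41737), (41480, 41737), (41488, 42544), (41504, 42544), (41728, 41737), (41986, 44038), (41988, 44038), (42000, 42544), (42016, 42544), (42240, 369920), (42496, 42544), (43010, 44038), (43012, 44038), (43072, 43456), (43136, 43456), (43264, 43456), (43520, 698880), (44032, 44038), (49155, 704515), (49157, 50693), (49158, 49238), (49161, 49321), (49162, 51466), (49164, 376844), (49170, 49238), (49172, 49238), (49185, 49321), (49192, 49321), (49200, 442416), (49218, 49238), (49220, 49238), (49232, 49238), (49248, 51808), (49281, 49321), (49288, 49321), (49296, 50576), (49312, 49321), (49344, 639168), (49410, 51466), (49416, 51466), (49424, 50576), (49536, 50576), (49665, 50693), (49668, 50693), (49696,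 51808), (49728, 51808), (49920, 246528), (50177, 50693), (50180, 50693), (50192, 50576), (50304, 50576), (50432, 50576), (50688, 50693), (51202, 51466), (51208, 51466), (51232, 51808), (51264, 51808), (51456, 51466), (51712, 51808), (52224, 838656), (65558, 589974), (65562, 327770), (65564, 196668), (65573, 327845), (65577, 589929), (65580, 196668), (65588, 196668), (65592, 196668), (65603, 196803), (65609, 589929), (65610, 327770), (65618, 327770), (65624, 327770), (65633, 589929), (65640, 589929), (65667, 196803), (65669, 327845), (65670, 589974), (65682, 589974), (65684, 589974), (65697, 327845), (65700, 327845), (65729, 196803), (65730, 196803), (65795, 590595), (65797, 197893), (65798, 329990), (65812, 1130772), (65825, 1122593), (65840, 328496), (65858, 1147202), (65872, 591184), (65888, 199008), (66051, 590595), (66057, 329225), (66058, 199178), (66066, 1118738), (66088, 1147432), (66096, 328496), (66177, 1131137), (66192, 198288), (66208, 592544), (66305, 590595), (66306, 590595), (66320, 328496), (66336, 328496), (66565, 197893), (66569, 329225), (66572, 592908), (66584,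 1123352), (66625, 1119297), (66640, 591184), (66692, 1148036), (66704, 198288), (66752, 330944), (66817, 197893), (66820, 197893), (66832, 591184), (66880, 591184), (67073, 329225), (67080, 329225), (67088, 198288), (67200, 198288), (67590, 329990), (67594, 199178), (67596, 592908), (67620, 1120292), (67656, 1132616), (67680, 199008), (67714, 1124482), (67744, 592544), (67776, 330944), (67842, 329990), (67844, 329990), (67872, 199008), (67904, 199008), (68098, 199178), (68104, 199178), (68128, 592544), (68224, 592544), (68612, 592908), (68616, 592908), (68672, 330944), (68736, 330944), (69635, 339971), (69637, 610309), (69638, 233478), (69650, 1118738), (69668, 1120292), (69680, 602160), (69697, 1119297), (69712, 217168), (69728, 364640), (70146, 1118738), (70160, 1118738), (70657, 1119297), (70720, 1119297), (71168, 628224), (71684, 1120292), (71712, 1120292), (72192, 350720), (72704, 211968), (73731, 339971), (73737, 221193), (73738, 630794), (73752, 1123352), (73761, 1122593), (73776, 602160), (73858, 1124482), (73872, 352400), (73888, 237728), (73985, 1122593), (74016, 1122593),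 (74760, 1123352), (74768, 1123352), (75008, 369920), (75778, 1124482), (75904, 1124482), (76032, 616704), (76800, 211968), (77825, 339971), (77826, 339971), (77840, 602160), (77856, 602160), (78848, 211968), (79872, 211968), (81925, 610309), (81929, 221193), (81932, 376844), (81940, 1130772), (81992, 1132616), (82000, 217168), (82049, 1131137), (82064, 352400), (82112, 639168), (82180, 1130772), (82192, 1130772), (82433, 1131137), (82560, 1131137), (82688, 246528), (83976, 1132616), (84032, 1132616), (84224, 616704), (84480, 350720), (86017, 610309), (86020, 610309), (86032, 217168), (86080, 217168), (86528, 350720), (88064, 350720), (90113, 221193), (90120, 221193), (90128, 352400), (90240, 352400), (90368, 616704), (92160, 616704), (98310, 233478), (98314, 630794), (98316, 376844), (98344, 1147432), (98370, 1147202), (98400, 364640), (98436, 1148036), (98464, 237728), (98496, 639168), (98562, 1147202), (98624, 1147202), (98824, 1147432), (98848, 1147432), (99072, 246528), (99332, 1148036), (99456, 1148036), (99584, 369920), (99840, 628224), (102402, 233478), (102404, 233478),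 (102432, 364640), (102464, 364640), (102912, 628224), (103424, 628224), (106498, 630794), (106504, 630794), (106528, 237728), (106624, 237728), (106752, 369920), (107520, 369920), (114692, 376844), (114696, 376844), (114752, 639168), (114816, 639168), (114944, 246528), (115200, 246528), (131093, 655445), (131097, 393369), (131100, 196668), (131110, 393318), (131114, 655530), (131116, 196668), (131124, 196668), (131128, 196668), (131139, 196803), (131141, 655445), (131142, 393318), (131153, 655445), (131156, 655445), (131170, 393318), (131172, 393318), (131203, 196803), (131209, 393369), (131210, 655530), (131217, 393369), (131224, 393369), (131234, 655530), (131240, 655530), (131265, 196803), (131266, 196803), (131333, 197893), (131337, 657673), (131340, 393996), (131368, 1196328), (131396, 1184068), (131424, 199008), (131457, 1212801), (131488, 394656), (131520, 656320), (131590, 656902), (131594, 199178), (131596, 393996), (131604, 1212948), (131650, 1196610), (131664, 395856), (131720, 1188488), (131728, 198288), (131776, 656320), (131844, 393996), (131848, 393996), (131904,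 656320), (131968, 656320), (132099, 396291), (132101, 197893), (132102, 656902), (132113, 1197073), (132132, 1188900), (132144, 658480), (132226, 1184898), (132240, 198288), (132256, 394656), (132353, 197893), (132356, 197893), (132384, 394656), (132480, 394656), (132610, 656902), (132612, 656902), (132624, 198288), (132736, 198288), (133123, 396291), (133129, 657673), (133130, 199178), (133144, 1185816), (133154, 1214498), (133168, 658480), (133185, 1189953), (133200, 395856), (133216, 199008), (133377, 657673), (133384, 657673), (133408, 199008), (133440, 199008), (133634, 199178), (133640, 199178), (133648, 395856), (133696, 395856), (134145, 396291), (134146, 396291), (134160, 658480), (134176, 658480), (135174, 233478), (135178, 413706), (135180, 667660), (135192, 1185816), (135236, 1184068), (135248, 217168), (135298, 1184898), (135312, 692368), (135360, 405696), (135428, 1184068), (135488, 1184068), (136194, 1184898), (136320, 1184898), (136448, 677120), (137224, 1185816), (137232, 1185816), (137472, 432384), (138240, 211968), (139269, 434181), (139273, 221193), (139276,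 667660), (139300, 1188900), (139329, 1189953), (139360, 680032), (139400, 1188488), (139424, 237728), (139456, 405696), (139784, 1188488), (139904, 1188488), (140292, 1188900), (140320, 1188900), (140800, 419328), (141313, 1189953), (141376, 1189953), (141824, 698880), (142336, 211968), (143364, 667660), (143368, 667660), (143424, 405696), (143488, 405696), (144384, 211968), (145408, 211968), (147459, 704515), (147465, 221193), (147466, 413706), (147473, 1197073), (147496, 1196328), (147504, 442416), (147522, 1196610), (147536, 217168), (147552, 680032), (147720, 1196328), (147744, 1196328), (147970, 1196610), (148032, 1196610), (148224, 246528), (148481, 1197073), (148496, 1197073), (148736, 677120), (148992, 419328), (151554, 413706), (151560, 413706), (151568, 217168), (151616, 217168), (151808, 677120), (152576, 677120), (155649, 221193), (155656, 221193), (155680, 680032), (155712, 680032), (156160, 419328), (156672, 419328), (163843, 704515), (163845, 434181), (163846, 233478), (163860, 1212948), (163874, 1214498), (163888, 442416), (163969, 1212801), (163984, 692368),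 (164000, 237728), (164097, 1212801), (164224, 1212801), (164356, 1212948), (164368, 1212948), (164608, 246528), (165890, 1214498), (165920, 1214498), (166144, 432384), (166400, 698880), (167938, 233478), (167940, 233478), (167952, 692368), (168064, 692368), (168192, 432384), (169984, 432384), (172033, 434181), (172036, 434181), (172064, 237728), (172160, 237728), (172544, 698880), (174080, 698880), (180225, 704515), (180226, 704515), (180240, 442416), (180256, 442416), (180480, 246528), (180736, 246528), (196611, 196803), (196613, 197893), (196614, 233478), (196617, 221193), (196618, 199178), (196620, 196668), (196628, 196668), (196632, 196668), (196644, 196668), (196648, 196668), (196656, 196668), (196673, 196803), (196674, 196803), (196688, 217168), (196704, 199008), (196737, 196803), (196738, 196803), (196752, 198288), (196768, 237728), (196800, 196803), (196865, 197893), (196868, 197893), (196896, 199008), (196928, 199008), (197122, 199178), (197128, 199178), (197136, 198288), (197248, 198288), (197376, 246528), (197633, 197893), (197636, 197893), (197648, 198288), (197760,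 198288), (197888, 197893), (198144, 198288), (198658, 199178), (198664, 199178), (198688, 199008), (198720, 199008), (198912, 199008), (199168, 199178), (199680, 211968), (200706, 233478), (200708, 233478), (200720, 217168), (200768, 217168), (201728, 211968), (202752, 211968), (204801, 221193), (204808, 221193), (204832, 237728), (204928, 237728), (205824, 211968), (206848, 211968), (208896, 211968), (212993, 221193), (213000, 221193), (213008, 217168), (213056, 217168), (213248, 246528), (213504, 246528), (217088, 217168), (221184, 221193), (229378, 233478), (229380, 233478), (229408, 237728), (229504, 237728), (229632, 246528), (229888, 246528), (233472, 233478), (237568, 237728), (245760, 246528), (262163, 786483), (262169, 393369), (262170, 327770), (262179, 786483), (262181, 327845), (262182, 393318), (262193, 786483), (262194, 786483), (262214, 393318), (262218, 327770), (262220, 786636), (262226, 327770), (262232, 327770), (262242, 393318), (262244, 393318), (262277, 327845), (262281, 393369), (262284, 786636), (262289, 393369), (262296, 393369), (262305, 327845), (262308,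 327845), (262340, 786636), (262344, 786636), (262406, 329990), (262410, 787722), (262412, 393996), (262424, 1343768), (262434, 1315106), (262448, 328496), (262532, 1319300), (262544, 788880), (262560, 394656), (262661, 788997), (262665, 329225), (262668, 393996), (262673, 1319441), (262692, 1327652), (262704, 328496), (262728, 1315400), (262736, 395856), (262752, 788064), (262916, 393996), (262920, 393996), (262928, 328496), (262944, 328496), (263171, 396291), (263177, 329225), (263178, 787722), (263201, 1344545), (263234, 1320002), (263264, 788064), (263304, 1328264), (263328, 394656), (263360, 330944), (263426, 787722), (263432, 787722), (263456, 394656), (263552, 394656), (263681, 329225), (263688, 329225), (263712, 788064), (263744, 788064), (264195, 396291), (264197, 788997), (264198, 329990), (264210, 1329170), (264260, 1345604), (264272, 395856), (264321, 1316993), (264336, 788880), (264384, 330944), (264450, 329990), (264452, 329990), (264464, 788880), (264576, 788880), (264705, 788997), (264708, 788997), (264720, 395856), (264768, 395856), (265217, 396291), (265218,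 396291), (265280, 330944), (265344, 330944), (266243, 339971), (266249, 823305), (266250, 413706), (266274, 1315106), (266312, 1315400), (266336, 364640), (266369, 1316993), (266400, 807072), (266432, 405696), (266498, 1315106), (266528, 1315106), (266760, 1315400), (266816, 1315400), (267008, 799488), (268289, 1316993), (268416, 1316993), (268544, 432384), (268800, 350720), (270339, 339971), (270341, 434181), (270342, 811014), (270353, 1319441), (270402, 1320002), (270416, 827472), (270468, 1319300), (270480, 352400), (270528, 405696), (270596, 1319300), (270720, 1319300), (270849, 1319441), (270864, 1319441), (271104, 799488), (271362, 1320002), (271424, 1320002), (271616, 369920), (271872, 419328), (274433, 339971), (274434, 339971), (274496, 405696), (274560, 405696), (274688, 799488), (274944, 799488), (278534, 811014), (278538, 413706), (278540, 376844), (278546, 1329170), (278564, 1327652), (278576, 442416), (278664, 1328264), (278672, 352400), (278688, 807072), (279044, 1327652), (279072, 1327652), (279560, 1328264), (279680, 1328264), (280064, 419328), (280578, 1329170),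 (280592, 1329170), (281088, 350720), (281600, 838656), (282626, 413706), (282632, 413706), (282656, 807072), (282752, 807072), (283136, 350720), (284672, 350720), (286722, 811014), (286724, 811014), (286736, 352400), (286848, 352400), (287232, 419328), (287744, 419328), (294917, 434181), (294921, 823305), (294924, 376844), (294936, 1343768), (294945, 1344545), (294960, 442416), (294980, 1345604), (294992, 827472), (295008, 364640), (295176, 1343768), (295184, 1343768), (295937, 1344545), (295968, 1344545), (296192, 369920), (296964, 1345604), (297024, 1345604), (297216, 432384), (297984, 838656), (299009, 823305), (299016, 823305), (299040, 364640), (299072, 364640), (299264, 432384), (301056, 432384), (303105, 434181), (303108, 434181), (303120, 827472), (303168, 827472), (303360, 369920), (304128, 369920), (311300, 376844), (311304, 376844), (311312, 442416), (311328, 442416), (312320, 838656), (313344, 838656), (327683, 339971), (327685, 327845), (327686, 329990), (327689, 329225), (327690, 327770), (327692, 376844), (327698, 327770), (327704, 327770), (327713, 327845), (327716,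 327845), (327728, 328496), (327746, 327770), (327752, 327770), (327760, 327770), (327776, 364640), (327809, 327845), (327812, 327845), (327824, 352400), (327840, 327845), (327872, 330944), (327938, 329990), (327940, 329990), (327952, 328496), (327968, 328496), (328193, 329225), (328200, 329225), (328208, 328496), (328224, 328496), (328448, 328496), (328705, 329225), (328712, 329225), (328768, 330944), (328832, 330944), (328960, 369920), (329216, 329225), (329730, 329990), (329732, 329990), (329792, 330944), (329856, 330944), (329984, 329990), (330240, 350720), (330752, 330944), (331777, 339971), (331778, 339971), (331808, 364640), (331840, 364640), (332288, 350720), (333824, 350720), (335873, 339971), (335874, 339971), (335888, 352400), (336000, 352400), (336128, 369920), (336896, 369920), (339968, 339971), (344068, 376844), (344072, 376844), (344080, 352400), (344192, 352400), (344576, 350720), (346112, 350720), (348160, 350720), (352256, 352400), (360452, 376844), (360456, 376844), (360480, 364640), (360512, 364640), (360704, 369920), (361472, 369920), (364544, 364640), (368640,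 369920), (376832, 376844), (393219, 396291), (393221, 434181), (393222, 393318), (393225, 393369), (393226, 413706), (393228, 393996), (393233, 393369), (393240, 393369), (393250, 393318), (393252, 393318), (393264, 442416), (393282, 393318), (393284, 393318), (393296, 395856), (393312, 393318), (393345, 393369), (393352, 393369), (393360, 393369), (393376, 394656), (393408, 405696), (393476, 393996), (393480, 393996), (393504, 394656), (393600, 394656), (393732, 393996), (393736, 393996), (393744, 395856), (393792, 395856), (393984, 393996), (394241, 396291), (394242, 396291), (394272, 394656), (394368, 394656), (394496, 394656), (394752, 419328), (395265, 396291), (395266, 396291), (395280, 395856), (395328, 395856), (395520, 432384), (395776, 395856), (396288, 396291), (397314, 413706), (397320, 413706), (397376, 405696), (397440, 405696), (397568, 432384), (399360, 432384), (401409, 434181), (401412, 434181), (401472, 405696), (401536, 405696), (401920, 419328), (402432, 419328), (405504, 405696), (409602, 413706), (409608, 413706), (409616, 442416), (409632, 442416), (410112,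 419328), (410624, 419328), (413696, 413706), (417792, 419328), (425985, 434181), (425988, 434181), (426000, 442416), (426016, 442416), (426240, 432384), (428032, 432384), (430080, 432384), (434176, 434181), (442368, 442416), (524307, 786483), (524309, 655445), (524310, 589974), (524323, 786483), (524329, 589929), (524330, 655530), (524337, 786483), (524338, 786483), (524357, 655445), (524361, 589929), (524364, 786636), (524369, 655445), (524372, 655445), (524385, 589929), (524392, 589929), (524422, 589974), (524426, 655530), (524428, 786636), (524434, 589974), (524436, 589974), (524450, 655530), (524456, 655530), (524484, 786636), (524488, 786636), (524547, 590595), (524553, 657673), (524554, 787722), (524561, 1577233), (524616, 1581384), (524624, 591184), (524674, 1589634), (524688, 788880), (524736, 656320), (524803, 590595), (524805, 788997), (524806, 656902), (524834, 1581602), (524865, 1606209), (524896, 788064), (524932, 1577604), (524960, 592544), (524992, 656320), (525057, 590595), (525058, 590595), (525120, 656320), (525184, 656320), (525318, 656902), (525322, 787722),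 (525324, 592908), (525330, 1606674), (525352, 1578024), (525360, 658480), (525380, 1590340), (525392, 591184), (525408, 788064), (525570, 787722), (525576, 787722), (525584, 591184), (525632, 591184), (525826, 656902), (525828, 656902), (525856, 788064), (525888, 788064), (526341, 788997), (526345, 657673), (526348, 592908), (526356, 1583124), (526369, 1591329), (526384, 658480), (526472, 1607816), (526480, 788880), (526496, 592544), (526593, 657673), (526600, 657673), (526608, 788880), (526720, 788880), (526849, 788997), (526852, 788997), (526880, 592544), (526976, 592544), (527364, 592908), (527368, 592908), (527376, 658480), (527392, 658480), (528389, 610309), (528393, 823305), (528396, 667660), (528401, 1577233), (528424, 1578024), (528432, 602160), (528516, 1577604), (528528, 692368), (528544, 807072), (528641, 1577233), (528656, 1577233), (528900, 1577604), (529024, 1577604), (529152, 799488), (529416, 1578024), (529440, 1578024), (529664, 677120), (529920, 628224), (532486, 811014), (532490, 630794), (532492, 667660), (532500, 1583124), (532514, 1581602), (532528, 602160),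 (532552, 1581384), (532560, 827472), (532576, 680032), (532744, 1581384), (532800, 1581384), (532994, 1581602), (533024, 1581602), (533248, 799488), (534532, 1583124), (534544, 1583124), (534784, 616704), (535040, 698880), (536580, 667660), (536584, 667660), (536592, 602160), (536608, 602160), (536832, 799488), (537088, 799488), (540675, 704515), (540677, 610309), (540678, 811014), (540705, 1591329), (540740, 1590340), (540768, 680032), (540802, 1589634), (540832, 807072), (540864, 639168), (540930, 1589634), (541056, 1589634), (541700, 1590340), (541760, 1590340), (541952, 677120), (542721, 1591329), (542752, 1591329), (542976, 616704), (543744, 838656), (544769, 610309), (544772, 610309), (544800, 807072), (544896, 807072), (545024, 677120), (545792, 677120), (548866, 811014), (548868, 811014), (548896, 680032), (548928, 680032), (549120, 616704), (550912, 616704), (557059, 704515), (557065, 823305), (557066, 630794), (557074, 1606674), (557121, 1606209), (557136, 827472), (557192, 1607816), (557200, 692368), (557248, 639168), (557569, 1606209), (557632, 1606209), (558082,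 1606674), (558096, 1606674), (558592, 628224), (559112, 1607816), (559232, 1607816), (559616, 698880), (560128, 838656), (561153, 823305), (561160, 823305), (561168, 692368), (561280, 692368), (561664, 628224), (562176, 628224), (565250, 630794), (565256, 630794), (565264, 827472), (565312, 827472), (565760, 698880), (567296, 698880), (573441, 704515), (573442, 704515), (573504, 639168), (573568, 639168), (574464, 838656), (575488, 838656), (589827, 590595), (589829, 610309), (589830, 589974), (589833, 589929), (589834, 630794), (589836, 592908), (589842, 589974), (589844, 589974), (589857, 589929), (589864, 589929), (589872, 602160), (589889, 589929), (589896, 589929), (589904, 591184), (589920, 589929), (589954, 589974), (589956, 589974), (589968, 589974), (589984, 592544), (590016, 639168), (590081, 590595), (590082, 590595), (590096, 591184), (590144, 591184), (590337, 590595), (590338, 590595), (590368, 592544), (590464, 592544), (590592, 590595), (590852, 592908), (590856, 592908), (590864, 591184), (590912, 591184), (591104, 591184), (591360, 628224), (591876, 592908),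 (591880, 592908), (591904, 592544), (592000, 592544), (592128, 616704), (592384, 592544), (592896, 592908), (593921, 610309), (593924, 610309), (593936, 602160), (593952, 602160), (594432, 628224), (594944, 628224), (598018, 630794), (598024, 630794), (598032, 602160), (598048, 602160), (598272, 616704), (600064, 616704), (602112, 602160), (606209, 610309), (606212, 610309), (606272, 639168), (606336, 639168), (606464, 616704), (608256, 616704), (610304, 610309), (614400, 616704), (622594, 630794), (622600, 630794), (622656, 639168), (622720, 639168), (623104, 628224), (623616, 628224), (626688, 628224), (630784, 630794), (638976, 639168), (655363, 704515), (655365, 655445), (655366, 656902), (655369, 657673), (655370, 655530), (655372, 667660), (655377, 655445), (655380, 655445), (655394, 655530), (655400, 655530), (655408, 658480), (655425, 655445), (655428, 655445), (655440, 655445), (655456, 680032), (655490, 655530), (655496, 655530), (655504, 692368), (655520, 655530), (655552, 656320), (655617, 657673), (655624, 657673), (655680, 656320), (655744, 656320), (655874, 656902),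 (655876, 656902), (655936, 656320), (656000, 656320), (656128, 656320), (656386, 656902), (656388, 656902), (656400, 658480), (656416, 658480), (656640, 677120), (656896, 656902), (657409, 657673), (657416, 657673), (657424, 658480), (657440, 658480), (657664, 657673), (657920, 698880), (658432, 658480), (659460, 667660), (659464, 667660), (659472, 692368), (659584, 692368), (659712, 677120), (660480, 677120), (663556, 667660), (663560, 667660), (663584, 680032), (663616, 680032), (664064, 698880), (665600, 698880), (667648, 667660), (671745, 704515), (671746, 704515), (671776, 680032), (671808, 680032), (672000, 677120), (672768, 677120), (675840, 677120), (679936, 680032), (688129, 704515), (688130, 704515), (688144, 692368), (688256, 692368), (688640, 698880), (690176, 698880), (692224, 692368), (696320, 698880), (704512, 704515), (786435, 786483), (786437, 788997), (786438, 811014), (786441, 823305), (786442, 787722), (786444, 786636), (786449, 786483), (786450, 786483), (786465, 786483), (786466, 786483), (786480, 786483), (786500, 786636), (786504, 786636), (786512, 827472),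 (786528, 788064), (786564, 786636), (786568, 786636), (786576, 788880), (786592, 807072), (786624, 786636), (786690, 787722), (786696, 787722), (786704, 788880), (786816, 788880), (786945, 788997), (786948, 788997), (786976, 788064), (787008, 788064), (787200, 799488), (787458, 787722), (787464, 787722), (787488, 788064), (787520, 788064), (787712, 787722), (787968, 788064), (788481, 788997), (788484, 788997), (788496, 788880), (788608, 788880), (788736, 788880), (788992, 788997), (789504, 838656), (790529, 823305), (790536, 823305), (790560, 807072), (790656, 807072), (790784, 799488), (791040, 799488), (794626, 811014), (794628, 811014), (794640, 827472), (794688, 827472), (794880, 799488), (795136, 799488), (798720, 799488), (802818, 811014), (802820, 811014), (802848, 807072), (802944, 807072), (803840, 838656), (804864, 838656), (806912, 807072), (811008, 811014), (819201, 823305), (819208, 823305), (819216, 827472), (819264, 827472), (820224, 838656), (821248, 838656), (823296, 823305), (827392, 827472), (835584, 838656), (1048849, 1577233), (1048852, 1130772), (1048856,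 1343768), (1048865, 1122593), (1048866, 1315106), (1048872, 1196328), (1048898, 1147202), (1048900, 1184068), (1048904, 1581384), (1048961, 1212801), (1048962, 1589634), (1048964, 1319300), (1049105, 1319441), (1049106, 1118738), (1049108, 1212948), (1049122, 1581602), (1049124, 1327652), (1049128, 1147432), (1049153, 1606209), (1049154, 1196610), (1049160, 1315400), (1049217, 1131137), (1049220, 1577604), (1049224, 1188488), (1049617, 1197073), (1049618, 1606674), (1049624, 1123352), (1049633, 1344545), (1049636, 1188900), (1049640, 1578024), (1049665, 1119297), (1049666, 1320002), (1049668, 1590340), (1049730, 1184898), (1049732, 1148036), (1049736, 1328264), (1050642, 1329170), (1050644, 1583124), (1050648, 1185816), (1050657, 1591329), (1050658, 1214498), (1050660, 1120292), (1050689, 1189953), (1050692, 1345604), (1050696, 1132616), (1050753, 1316993), (1050754, 1124482), (1050760, 1607816), (1052689, 1577233), (1052690, 1118738), (1052696, 1185816), (1052706, 1315106), (1052708, 1120292), (1052712, 1578024), (1052737, 1119297), (1052740, 1184068), (1052744, 1315400), (1052801,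 1316993), (1052802, 1184898), (1052804, 1577604), (1052929, 1577233), (1052930, 1315106), (1052932, 1184068), (1052944, 1577233), (1052960, 1315106), (1052992, 1184068), (1053186, 1118738), (1053188, 1577604), (1053192, 1315400), (1053200, 1118738), (1053248, 1315400), (1053312, 1577604), (1053697, 1119297), (1053698, 1184898), (1053704, 1578024), (1053728, 1578024), (1053760, 1119297), (1053824, 1184898), (1054721, 1316993), (1054724, 1120292), (1054728, 1185816), (1054736, 1185816), (1054752, 1120292), (1054848, 1316993), (1056785, 1319441), (1056788, 1583124), (1056792, 1123352), (1056801, 1122593), (1056802, 1581602), (1056804, 1188900), (1056833, 1189953), (1056834, 1320002), (1056840, 1581384), (1056898, 1124482), (1056900, 1319300), (1056904, 1188488), (1057025, 1122593), (1057028, 1319300), (1057032, 1581384), (1057056, 1122593), (1057088, 1581384), (1057152, 1319300), (1057281, 1319441), (1057282, 1581602), (1057288, 1188488), (1057296, 1319441), (1057312, 1581602), (1057408, 1188488), (1057794, 1320002), (1057796, 1188900), (1057800, 1123352), (1057808, 1123352), (1057824,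 1188900), (1057856, 1320002), (1058817, 1189953), (1058818, 1124482), (1058820, 1583124), (1058832, 1583124), (1058880, 1189953), (1058944, 1124482), (1064977, 1197073), (1064978, 1329170), (1064980, 1130772), (1064993, 1591329), (1064996, 1327652), (1065000, 1196328), (1065026, 1196610), (1065028, 1590340), (1065032, 1132616), (1065089, 1131137), (1065090, 1589634), (1065096, 1328264), (1065218, 1589634), (1065220, 1130772), (1065224, 1196328), (1065232, 1130772), (1065248, 1196328), (1065344, 1589634), (1065473, 1131137), (1065474, 1196610), (1065476, 1327652), (1065504, 1327652), (1065536, 1196610), (1065600, 1131137), (1065985, 1197073), (1065988, 1590340), (1065992, 1328264), (1066000, 1197073), (1066048, 1590340), (1066112, 1328264), (1067009, 1591329), (1067010, 1329170), (1067016, 1132616), (1067024, 1329170), (1067040, 1591329), (1067072, 1132616), (1081362, 1606674), (1081364, 1212948), (1081368, 1343768), (1081377, 1344545), (1081378, 1214498), (1081384, 1147432), (1081409, 1606209), (1081410, 1147202), (1081412, 1345604), (1081473, 1212801), (1081476, 1148036), (1081480,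 1607816), (1081601, 1212801), (1081602, 1147202), (1081608, 1343768), (1081616, 1343768), (1081664, 1147202), (1081728, 1212801), (1081857, 1606209), (1081860, 1212948), (1081864, 1147432), (1081872, 1212948), (1081888, 1147432), (1081920, 1606209), (1082369, 1344545), (1082370, 1606674), (1082372, 1148036), (1082384, 1606674), (1082400, 1344545), (1082496, 1148036), (1083394, 1214498), (1083396, 1345604), (1083400, 1607816), (1083424, 1214498), (1083456, 1345604), (1083520, 1607816), (1114130, 1118738), (1114132, 1130772), (1114136, 1123352), (1114145, 1122593), (1114148, 1120292), (1114152, 1147432), (1114177, 1119297), (1114178, 1147202), (1114184, 1132616), (1114241, 1131137), (1114242, 1124482), (1114244, 1148036), (1114369, 1122593), (1114370, 1147202), (1114372, 1130772), (1114384, 1130772), (1114400, 1122593), (1114432, 1147202), (1114625, 1131137), (1114626, 1118738), (1114632, 1147432), (1114640, 1118738), (1114656, 1147432), (1114752, 1131137), (1115137, 1119297), (1115140, 1148036), (1115144, 1123352), (1115152, 1123352), (1115200, 1119297), (1115264, 1148036), (1116162,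 1124482), (1116164, 1120292), (1116168, 1132616), (1116192, 1120292), (1116224, 1132616), (1116288, 1124482), (1118209, 1119297), (1118210, 1118738), (1118212, 1120292), (1118224, 1118738), (1118240, 1120292), (1118272, 1119297), (1118720, 1118738), (1119232, 1119297), (1120256, 1120292), (1122305, 1122593), (1122306, 1124482), (1122312, 1123352), (1122320, 1123352), (1122336, 1122593), (1122432, 1124482), (1122560, 1122593), (1123328, 1123352), (1124352, 1124482), (1130497, 1131137), (1130500, 1130772), (1130504, 1132616), (1130512, 1130772), (1130560, 1132616), (1130624, 1131137), (1130752, 1130772), (1131008, 1131137), (1132544, 1132616), (1146882, 1147202), (1146884, 1148036), (1146888, 1147432), (1146912, 1147432), (1146944, 1147202), (1147008, 1148036), (1147136, 1147202), (1147392, 1147432), (1147904, 1148036), (1179665, 1197073), (1179668, 1212948), (1179672, 1185816), (1179682, 1214498), (1179684, 1188900), (1179688, 1196328), (1179713, 1189953), (1179714, 1196610), (1179716, 1184068), (1179777, 1212801), (1179778, 1184898), (1179784, 1188488), (1179905, 1212801), (1179908,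 1184068), (1179912, 1196328), (1179936, 1196328), (1179968, 1184068), (1180032, 1212801), (1180162, 1196610), (1180164, 1212948), (1180168, 1188488), (1180176, 1212948), (1180224, 1196610), (1180288, 1188488), (1180673, 1197073), (1180674, 1184898), (1180676, 1188900), (1180688, 1197073), (1180704, 1188900), (1180800, 1184898), (1181697, 1189953), (1181698, 1214498), (1181704, 1185816), (1181712, 1185816), (1181728, 1214498), (1181760, 1189953), (1183746, 1184898), (1183748, 1184068), (1183752, 1185816), (1183760, 1185816), (1183808, 1184068), (1183872, 1184898), (1184000, 1184068), (1184768, 1184898), (1185792, 1185816), (1187841, 1189953), (1187844, 1188900), (1187848, 1188488), (1187872, 1188900), (1187904, 1189953), (1187968, 1188488), (1188352, 1188488), (1188864, 1188900), (1189888, 1189953), (1196033, 1197073), (1196034, 1196610), (1196040, 1196328), (1196048, 1197073), (1196064, 1196328), (1196096, 1196610), (1196288, 1196328), (1196544, 1196610), (1197056, 1197073), (1212417, 1212801), (1212418, 1214498), (1212420, 1212948), (1212432, 1212948), (1212448, 1214498), (1212544,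 1212801), (1212672, 1212801), (1212928, 1212948), (1214464, 1214498), (1310737, 1319441), (1310738, 1329170), (1310744, 1343768), (1310753, 1344545), (1310754, 1315106), (1310756, 1327652), (1310786, 1320002), (1310788, 1345604), (1310792, 1315400), (1310849, 1316993), (1310852, 1319300), (1310856, 1328264), (1310978, 1315106), (1310980, 1319300), (1310984, 1343768), (1310992, 1343768), (1311008, 1315106), (1311104, 1319300), (1311233, 1319441), (1311236, 1327652), (1311240, 1315400), (1311248, 1319441), (1311264, 1327652), (1311296, 1315400), (1311745, 1344545), (1311746, 1320002), (1311752, 1328264), (1311776, 1344545), (1311808, 1320002), (1311872, 1328264), (1312769, 1316993), (1312770, 1329170), (1312772, 1345604), (1312784, 1329170), (1312832, 1345604), (1312896, 1316993), (1314817, 1316993), (1314818, 1315106), (1314824, 1315400), (1314848, 1315106), (1314880, 1315400), (1314944, 1316993), (1315072, 1315106), (1315328, 1315400), (1316864, 1316993), (1318913, 1319441), (1318914, 1320002), (1318916, 1319300), (1318928, 1319441), (1318976, 1320002), (1319040, 1319300), (1319168,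 1319300), (1319424, 1319441), (1319936, 1320002), (1327106, 1329170), (1327108, 1327652), (1327112, 1328264), (1327120, 1329170), (1327136, 1327652), (1327232, 1328264), (1327616, 1327652), (1328128, 1328264), (1329152, 1329170), (1343489, 1344545), (1343492, 1345604), (1343496, 1343768), (1343504, 1343768), (1343520, 1344545), (1343552, 1345604), (1343744, 1343768), (1344512, 1344545), (1345536, 1345604), (1572881, 1577233), (1572882, 1606674), (1572884, 1583124), (1572897, 1591329), (1572898, 1581602), (1572904, 1578024), (1572929, 1606209), (1572932, 1590340), (1572936, 1581384), (1572994, 1589634), (1572996, 1577604), (1573000, 1607816), (1573121, 1577233), (1573122, 1589634), (1573128, 1581384), (1573136, 1577233), (1573184, 1581384), (1573248, 1589634), (1573377, 1606209), (1573378, 1581602), (1573380, 1577604), (1573408, 1581602), (1573440, 1606209), (1573504, 1577604), (1573890, 1606674), (1573892, 1590340), (1573896, 1578024), (1573904, 1606674), (1573920, 1578024), (1573952, 1590340), (1574913, 1591329), (1574916, 1583124), (1574920, 1607816), (1574928, 1583124), (1574944,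 1591329), (1575040, 1607816), (1576961, 1577233), (1576964, 1577604), (1576968, 1578024), (1576976, 1577233), (1576992, 1578024), (1577088, 1577604), (1577216, 1577233), (1577472, 1577604), (1577984, 1578024), (1581058, 1581602), (1581060, 1583124), (1581064, 1581384), (1581072, 1583124), (1581088, 1581602), (1581120, 1581384), (1581312, 1581384), (1581568, 1581602), (1583104, 1583124), (1589249, 1591329), (1589250, 1589634), (1589252, 1590340), (1589280, 1591329), (1589312, 1590340), (1589376, 1589634), (1589504, 1589634), (1590272, 1590340), (1591296, 1591329), (1605633, 1606209), (1605634, 1606674), (1605640, 1607816), (1605648, 1606674), (1605696, 1606209), (1605760, 1607816), (1606144, 1606209), (1606656, 1606674), (1607680, 1607816)]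

/-- the hyperovals -/
def H6 : List ℕ := [874, 917, 1337, 1478, 1619, 1708, 2396, 2467, 2614, 2761, 3173, 3226, 12377, 12454, 13664, 13834, 14597, 14992, 20588, 20627, 21254, 22208, 22832, 23561, 24629, 24778, 25504, 25868, 27139, 27728, 36922, 37061, 37712, 38147, 39436, 40096, 41059, 41116, 41737, 42544, 43456, 44038, 49238, 49321, 50576, 50693, 51466, 51808, 196668, 196803, 197893, 198288, 199008, 199178, 211968, 217168, 221193, 233478, 237728, 246528, 327770, 327845, 328496, 329225, 329990, 330944, 339971, 350720, 352400, 364640, 369920, 376844, 393318, 393369, 393996, 394656, 395856, 396291, 405696, 413706, 419328, 432384, 434181, 442416, 589929, 589974, 590595, 591184, 592544, 592908, 602160, 610309, 616704, 628224, 630794, 639168, 655445, 655530, 656320, 656902, 657673, 658480, 667660, 677120, 680032, 692368, 698880, 704515, 786483, 786636, 787722, 788064, 788880, 788997, 799488, 807072, 811014, 823305, 827472, 838656, 1118738, 1119297, 1120292, 1122593, 1123352, 1124482, 1130772, 1131137, 1132616, 1147202, 1147432, 1148036, 1184068, 1184898, 1185816, 1188488, 1188900,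 1189953, 1196328, 1196610, 1197073, 1212801, 1212948, 1214498, 1315106, 1315400, 1316993, 1319300, 1319441, 1320002, 1327652, 1328264, 1329170, 1343768, 1344545, 1345604, 1577233, 1577604, 1578024, 1581384, 1581602, 1583124, 1589634, 1590340, 1591329, 1606209, 1606674, 1607816]

/-- the independent `4`-sets as a search tree -/
def T4 : NTree := (NTree.node (NTree.node (NTree.node (NTree.node (NTree.node (NTree.node (NTree.node (NTree.node (NTree.node (NTree.node (NTree.node (NTree.node NTree.leaf 51 NTree.leaf) 53 NTree.leaf) 54 (NTree.node NTree.leaf 57 NTree.leaf)) 58 (NTree.node (NTree.node (NTree.node NTree.leaf 60 NTree.leaf) 83 NTree.leaf) 85 (NTree.node NTree.leaf 86 NTree.leaf))) 89 (NTree.node (NTree.node (NTree.node (NTree.node NTree.leaf 90 NTree.leaf) 92 NTree.leaf) 99 (NTree.node NTree.leaf 101 NTree.leaf)) 102 (NTree.node (NTree.node (NTree.node NTree.leaf 105 NTree.leaf) 106 NTree.leaf) 108 (NTree.node NTree.leaf 147 NTree.leaf)))) 149 (NTree.node (NTree.node (NTree.node (NTree.node (NTree.node NTree.leaf 150 NTree.leaf) 153 NTree.leaf) 154 (NTree.node NTree.leaf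 156 NTree.leaf)) 163 (NTree.node (NTree.node (NTree.node NTree.leaf 165 NTree.leaf) 166 NTree.leaf) 169 (NTree.node NTree.leaf 170 NTree.leaf))) 172 (NTree.node (NTree.node (NTree.node (NTree.node NTree.leaf 195 NTree.leaf) 197 NTree.leaf) 198 (NTree.node NTree.leaf 201 NTree.leaf)) 202 (NTree.node (NTree.node (NTree.node NTree.leaf 204 NTree.leaf) 277 NTree.leaf) 281 (NTree.node NTree.leaf 284 NTree.leaf))))) 291 (NTree.node (NTree.node (NTree.node (NTree.node (NTree.node (NTree.node NTree.leaf 297 NTree.leaf) 298 NTree.leaf) 305 (NTree.node NTree.leaf 312 NTree.leaf)) 326 (NTree.node (NTree.node (NTree.node NTree.leaf 330 NTree.leaf) 332 NTree.leaf) 340 (NTree.node NTree.leaf 344 NTree.leaf))) 354 (NTree.node (NTree.node (NTree.node (NTree.node NTree.leaf 360 NTree.leaf) 387 NTree.leaf) 389 (NTree.node NTree.leaf 390 NTree.leaf)) 401 (NTree.node (NTree.node (NTree.node NTree.leaf 404 NTree.leaf) 417 NTree.leaf) 418 (NTree.node NTree.leaf 450 NTree.leaf)))) 452 (NTree.node (NTree.node (NTree.node (NTree.node (NTree.node NTree.leaf 531 NTree.leaf) 533 NTree.leaf) 534 (NTree.node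 NTree.leaf 550 NTree.leaf)) 554 (NTree.node (NTree.node (NTree.node NTree.leaf 556 NTree.leaf) 562 NTree.leaf) 564 (NTree.node NTree.leaf 579 NTree.leaf))) 585 (NTree.node (NTree.node (NTree.node (NTree.node NTree.leaf 586 NTree.leaf) 593 NTree.leaf) 594 (NTree.node NTree.leaf 610 NTree.leaf)) 616 (NTree.node (NTree.node NTree.leaf 645 NTree.leaf) 649 (NTree.node NTree.leaf 652 NTree.leaf)))))) 657 (NTree.node (NTree.node (NTree.node (NTree.node (NTree.node (NTree.node (NTree.node NTree.leaf 660 NTree.leaf) 676 NTree.leaf) 680 (NTree.node NTree.leaf 705 NTree.leaf)) 712 (NTree.node (NTree.node (NTree.node NTree.leaf 771 NTree.leaf) 773 NTree.leaf) 774 (NTree.node NTree.leaf 777 NTree.leaf))) 778 (NTree.node (NTree.node (NTree.node (NTree.node NTree.leaf 780 NTree.leaf) 785 NTree.leaf) 788 (NTree.node NTree.leaf 802 NTree.leaf)) 808 (NTree.node (NTree.node (NTree.node NTree.leaf 816 NTree.leaf) 834 NTree.leaf) 840 (NTree.node NTree.leaf 848 NTree.leaf)))) 864 (NTree.node (NTree.node (NTree.node (NTree.node (NTree.node NTree.leaf 897 NTree.leaf) 900 NTree.leaf) 912 (NTree.node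 NTree.leaf 928 NTree.leaf)) 960 (NTree.node (NTree.node (NTree.node NTree.leaf 1043 NTree.leaf) 1049 NTree.leaf) 1050 (NTree.node NTree.leaf 1061 NTree.leaf))) 1065 (NTree.node (NTree.node (NTree.node (NTree.node NTree.leaf 1068 NTree.leaf) 1073 NTree.leaf) 1080 (NTree.node NTree.leaf 1091 NTree.leaf)) 1093 (NTree.node (NTree.node (NTree.node NTree.leaf 1094 NTree.leaf) 1105 NTree.leaf) 1106 (NTree.node NTree.leaf 1121 NTree.leaf))))) 1124 (NTree.node (NTree.node (NTree.node (NTree.node (NTree.node (NTree.node NTree.leaf 1158 NTree.leaf) 1162 NTree.leaf) 1164 (NTree.node NTree.leaf 1170 NTree.leaf)) 1176 (NTree.node (NTree.node (NTree.node NTree.leaf 1188 NTree.leaf) 1192 NTree.leaf) 1218 (NTree.node NTree.leaf 1220 NTree.leaf))) 1283 (NTree.node (NTree.node (NTree.node (NTree.node NTree.leaf 1285 NTree.leaf) 1286 NTree.leaf) 1289 (NTree.node NTree.leaf 1290 NTree.leaf)) 1292 (NTree.node (NTree.node (NTree.node NTree.leaf 1297 NTree.leaf) 1304 NTree.leaf) 1313 (NTree.node NTree.leaf 1320 NTree.leaf)))) 1328 (NTree.node (NTree.node (NTree.node (NTree.node (NTree.node NTree.leaf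 1346 NTree.leaf) 1348 NTree.leaf) 1360 (NTree.node NTree.leaf 1376 NTree.leaf)) 1410 (NTree.node (NTree.node (NTree.node NTree.leaf 1412 NTree.leaf) 1424 NTree.leaf) 1440 (NTree.node NTree.leaf 1472 NTree.leaf))) 1539 (NTree.node (NTree.node (NTree.node (NTree.node NTree.leaf 1541 NTree.leaf) 1542 NTree.leaf) 1545 (NTree.node NTree.leaf 1546 NTree.leaf)) 1548 (NTree.node (NTree.node NTree.leaf 1553 NTree.leaf) 1554 (NTree.node NTree.leaf 1572 NTree.leaf))))))) 1576 (NTree.node (NTree.node (NTree.node (NTree.node (NTree.node (NTree.node (NTree.node (NTree.node NTree.leaf 1584 NTree.leaf) 1601 NTree.leaf) 1602 (NTree.node NTree.leaf 1616 NTree.leaf)) 1632 (NTree.node (NTree.node (NTree.node NTree.leaf 1668 NTree.leaf) 1672 NTree.leaf) 1680 (NTree.node NTree.leaf 1696 NTree.leaf))) 1728 (NTree.node (NTree.node (NTree.node (NTree.node NTree.leaf 2070 NTree.leaf) 2074 NTree.leaf) 2076 (NTree.node NTree.leaf 2083 NTree.leaf)) 2085 (NTree.node (NTree.node (NTree.node NTree.leaf 2086 NTree.leaf) 2098 NTree.leaf) 2100 (NTree.node NTree.leaf 2117 NTree.leaf)))) 2121 (NTree.node (NTree.node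 (NTree.node (NTree.node (NTree.node NTree.leaf 2124 NTree.leaf) 2132 NTree.leaf) 2136 (NTree.node NTree.leaf 2145 NTree.leaf)) 2148 (NTree.node (NTree.node (NTree.node NTree.leaf 2179 NTree.leaf) 2185 NTree.leaf) 2186 (NTree.node NTree.leaf 2194 NTree.leaf))) 2200 (NTree.node (NTree.node (NTree.node (NTree.node NTree.leaf 2209 NTree.leaf) 2210 NTree.leaf) 2241 (NTree.node NTree.leaf 2248 NTree.leaf)) 2307 (NTree.node (NTree.node (NTree.node NTree.leaf 2309 NTree.leaf) 2310 NTree.leaf) 2313 (NTree.node NTree.leaf 2314 NTree.leaf))))) 2316 (NTree.node (NTree.node (NTree.node (NTree.node (NTree.node (NTree.node NTree.leaf 2324 NTree.leaf) 2328 NTree.leaf) 2337 (NTree.node NTree.leaf 2338 NTree.leaf)) 2352 (NTree.node (NTree.node (NTree.node NTree.leaf 2372 NTree.leaf) 2376 NTree.leaf) 2384 (NTree.node NTree.leaf 2400 NTree.leaf))) 2433 (NTree.node (NTree.node (NTree.node (NTree.node NTree.leaf 2434 NTree.leaf) 2448 NTree.leaf) 2464 (NTree.node NTree.leaf 2496 NTree.leaf)) 2563 (NTree.node (NTree.node (NTree.node NTree.leaf 2565 NTree.leaf) 2566 NTree.leaf) 2569 (NTree.node NTree.leaf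 2570 NTree.leaf)))) 2572 (NTree.node (NTree.node (NTree.node (NTree.node (NTree.node NTree.leaf 2578 NTree.leaf) 2580 NTree.leaf) 2594 (NTree.node NTree.leaf 2596 NTree.leaf)) 2608 (NTree.node (NTree.node (NTree.node NTree.leaf 2625 NTree.leaf) 2632 NTree.leaf) 2640 (NTree.node NTree.leaf 2656 NTree.leaf))) 2689 (NTree.node (NTree.node (NTree.node (NTree.node NTree.leaf 2696 NTree.leaf) 2704 NTree.leaf) 2720 (NTree.node NTree.leaf 2752 NTree.leaf)) 3075 (NTree.node (NTree.node NTree.leaf 3077 NTree.leaf) 3078 (NTree.node NTree.leaf 3081 NTree.leaf)))))) 3082 (NTree.node (NTree.node (NTree.node (NTree.node (NTree.node (NTree.node (NTree.node NTree.leaf 3084 NTree.leaf) 3090 NTree.leaf) 3096 (NTree.node NTree.leaf 3105 NTree.leaf)) 3108 (NTree.node (NTree.node (NTree.node NTree.leaf 3120 NTree.leaf) 3137 NTree.leaf) 3140 (NTree.node NTree.leaf 3152 NTree.leaf))) 3168 (NTree.node (NTree.node (NTree.node (NTree.node NTree.leaf 3202 NTree.leaf) 3208 NTree.leaf) 3216 (NTree.node NTree.leaf 3232 NTree.leaf)) 3264 (NTree.node (NTree.node (NTree.node NTree.leaf 4115 NTree.leaf) 4121 NTree.leaf)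 4122 (NTree.node NTree.leaf 4134 NTree.leaf)))) 4138 (NTree.node (NTree.node (NTree.node (NTree.node (NTree.node NTree.leaf 4140 NTree.leaf) 4146 NTree.leaf) 4152 (NTree.node NTree.leaf 4165 NTree.leaf)) 4169 (NTree.node (NTree.node (NTree.node NTree.leaf 4172 NTree.leaf) 4177 NTree.leaf) 4184 (NTree.node NTree.leaf 4196 NTree.leaf))) 4200 (NTree.node (NTree.node (NTree.node (NTree.node NTree.leaf 4227 NTree.leaf) 4229 NTree.leaf) 4230 (NTree.node NTree.leaf 4241 NTree.leaf)) 4242 (NTree.node (NTree.node (NTree.node NTree.leaf 4258 NTree.leaf) 4260 NTree.leaf) 4289 (NTree.node NTree.leaf 4292 NTree.leaf))))) 4355 (NTree.node (NTree.node (NTree.node (NTree.node (NTree.node (NTree.node NTree.leaf 4357 NTree.leaf) 4358 NTree.leaf) 4369 (NTree.node NTree.leaf 4386 NTree.leaf)) 4400 (NTree.node (NTree.node (NTree.node NTree.leaf 4420 NTree.leaf) 4432 NTree.leaf) 4448 (NTree.node NTree.leaf 4614 NTree.leaf))) 4618 (NTree.node (NTree.node (NTree.node (NTree.node NTree.leaf 4620 NTree.leaf) 4626 NTree.leaf) 4680 (NTree.node NTree.leaf 4688 NTree.leaf)) 4740 (NTree.node (NTree.node (NTree.node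 NTree.leaf 4752 NTree.leaf) 4800 NTree.leaf) 4866 (NTree.node NTree.leaf 4868 NTree.leaf)))) 4880 (NTree.node (NTree.node (NTree.node (NTree.node (NTree.node NTree.leaf 4928 NTree.leaf) 5123 NTree.leaf) 5129 (NTree.node NTree.leaf 5130 NTree.leaf)) 5160 (NTree.node (NTree.node (NTree.node NTree.leaf 5185 NTree.leaf) 5216 NTree.leaf) 5250 (NTree.node NTree.leaf 5280 NTree.leaf))) 5312 (NTree.node (NTree.node (NTree.node (NTree.node NTree.leaf 5377 NTree.leaf) 5378 NTree.leaf) 5408 (NTree.node NTree.leaf 5440 NTree.leaf)) 5634 (NTree.node (NTree.node NTree.leaf 5640 NTree.leaf) 5696 (NTree.node NTree.leaf 5760 NTree.leaf)))))))) 6149 (NTree.node (NTree.node (NTree.node (NTree.node (NTree.node (NTree.node (NTree.node (NTree.node (NTree.node NTree.leaf 6153 NTree.leaf) 6156 NTree.leaf) 6168 (NTree.node NTree.leaf 6180 NTree.leaf)) 6192 (NTree.node (NTree.node (NTree.node NTree.leaf 6273 NTree.leaf) 6288 NTree.leaf) 6304 (NTree.node NTree.leaf 6401 NTree.leaf))) 6404 (NTree.node (NTree.node (NTree.node (NTree.node NTree.leaf 6416 NTree.leaf) 6432 NTree.leaf) 6660 (NTree.node NTree.leaf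 6664 NTree.leaf)) 6672 (NTree.node (NTree.node (NTree.node NTree.leaf 6784 NTree.leaf) 7169 NTree.leaf) 7176 (NTree.node NTree.leaf 7200 NTree.leaf)))) 7296 (NTree.node (NTree.node (NTree.node (NTree.node (NTree.node NTree.leaf 8213 NTree.leaf) 8217 NTree.leaf) 8220 (NTree.node NTree.leaf 8227 NTree.leaf)) 8229 (NTree.node (NTree.node (NTree.node NTree.leaf 8230 NTree.leaf) 8241 NTree.leaf) 8244 (NTree.node NTree.leaf 8259 NTree.leaf))) 8265 (NTree.node (NTree.node (NTree.node (NTree.node NTree.leaf 8266 NTree.leaf) 8273 NTree.leaf) 8280 (NTree.node NTree.leaf 8289 NTree.leaf)) 8290 (NTree.node (NTree.node (NTree.node NTree.leaf 8326 NTree.leaf) 8330 NTree.leaf) 8332 (NTree.node NTree.leaf 8340 NTree.leaf))))) 8344 (NTree.node (NTree.node (NTree.node (NTree.node (NTree.node (NTree.node NTree.leaf 8354 NTree.leaf) 8356 NTree.leaf) 8386 (NTree.node NTree.leaf 8392 NTree.leaf)) 8453 (NTree.node (NTree.node (NTree.node NTree.leaf 8457 NTree.leaf) 8460 NTree.leaf) 8481 (NTree.node NTree.leaf 8520 NTree.leaf))) 8544 (NTree.node (NTree.node (NTree.node (NTree.node NTree.leaf 8580 NTree.leaf)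 8608 NTree.leaf) 8640 (NTree.node NTree.leaf 8707 NTree.leaf)) 8713 (NTree.node (NTree.node (NTree.node NTree.leaf 8714 NTree.leaf) 8721 NTree.leaf) 8738 (NTree.node NTree.leaf 8752 NTree.leaf)))) 8840 (NTree.node (NTree.node (NTree.node (NTree.node (NTree.node NTree.leaf 8848 NTree.leaf) 8864 NTree.leaf) 8961 (NTree.node NTree.leaf 8968 NTree.leaf)) 8992 (NTree.node (NTree.node (NTree.node NTree.leaf 9088 NTree.leaf) 9222 NTree.leaf) 9226 (NTree.node NTree.leaf 9228 NTree.leaf))) 9240 (NTree.node (NTree.node (NTree.node (NTree.node NTree.leaf 9252 NTree.leaf) 9264 NTree.leaf) 9282 (NTree.node NTree.leaf 9296 NTree.leaf)) 9312 (NTree.node (NTree.node NTree.leaf 9476 NTree.leaf) 9480 (NTree.node NTree.leaf 9504 NTree.leaf)))))) 9536 (NTree.node (NTree.node (NTree.node (NTree.node (NTree.node (NTree.node (NTree.node NTree.leaf 9730 NTree.leaf) 9736 NTree.leaf) 9744 (NTree.node NTree.leaf 9760 NTree.leaf)) 10243 (NTree.node (NTree.node (NTree.node NTree.leaf 10245 NTree.leaf) 10246 NTree.leaf) 10260 (NTree.node NTree.leaf 10305 NTree.leaf))) 10320 (NTree.node (NTree.node (NTree.node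 (NTree.node NTree.leaf 10370 NTree.leaf) 10384 NTree.leaf) 10432 (NTree.node NTree.leaf 10497 NTree.leaf)) 10500 (NTree.node (NTree.node (NTree.node NTree.leaf 10560 NTree.leaf) 10624 NTree.leaf) 10753 (NTree.node NTree.leaf 10754 NTree.leaf)))) 10768 (NTree.node (NTree.node (NTree.node (NTree.node (NTree.node NTree.leaf 10880 NTree.leaf) 11266 NTree.leaf) 11268 (NTree.node NTree.leaf 11280 NTree.leaf)) 11328 (NTree.node (NTree.node (NTree.node NTree.leaf 12291 NTree.leaf) 12293 NTree.leaf) 12294 (NTree.node NTree.leaf 12297 NTree.leaf))) 12298 (NTree.node (NTree.node (NTree.node (NTree.node NTree.leaf 12300 NTree.leaf) 12305 NTree.leaf) 12312 (NTree.node NTree.leaf 12322 NTree.leaf)) 12324 (NTree.node (NTree.node (NTree.node NTree.leaf 12336 NTree.leaf) 12353 NTree.leaf) 12360 (NTree.node NTree.leaf 12368 NTree.leaf))))) 12384 (NTree.node (NTree.node (NTree.node (NTree.node (NTree.node (NTree.node NTree.leaf 12418 NTree.leaf) 12420 NTree.leaf) 12432 (NTree.node NTree.leaf 12448 NTree.leaf)) 12480 (NTree.node (NTree.node (NTree.node NTree.leaf 12545 NTree.leaf) 12548 NTree.leaf)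 12576 (NTree.node NTree.leaf 12608 NTree.leaf))) 12802 (NTree.node (NTree.node (NTree.node (NTree.node NTree.leaf 12808 NTree.leaf) 12816 NTree.leaf) 12928 (NTree.node NTree.leaf 13056 NTree.leaf)) 13314 (NTree.node (NTree.node (NTree.node NTree.leaf 13320 NTree.leaf) 13344 NTree.leaf) 13376 (NTree.node NTree.leaf 13568 NTree.leaf)))) 13824 (NTree.node (NTree.node (NTree.node (NTree.node (NTree.node NTree.leaf 14337 NTree.leaf) 14340 NTree.leaf) 14352 (NTree.node NTree.leaf 14464 NTree.leaf)) 14592 (NTree.node (NTree.node (NTree.node NTree.leaf 14848 NTree.leaf) 15360 NTree.leaf) 16403 (NTree.node NTree.leaf 16405 NTree.leaf))) 16406 (NTree.node (NTree.node (NTree.node (NTree.node NTree.leaf 16421 NTree.leaf) 16425 NTree.leaf) 16428 (NTree.node NTree.leaf 16433 NTree.leaf)) 16436 (NTree.node (NTree.node NTree.leaf 16454 NTree.leaf) 16458 (NTree.node NTree.leaf 16460 NTree.leaf))))))) 16466 (NTree.node (NTree.node (NTree.node (NTree.node (NTree.node (NTree.node (NTree.node (NTree.node NTree.leaf 16468 NTree.leaf) 16484 NTree.leaf) 16488 (NTree.node NTree.leaf 16515 NTree.leaf))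 16521 (NTree.node (NTree.node (NTree.node NTree.leaf 16522 NTree.leaf) 16529 NTree.leaf) 16530 (NTree.node NTree.leaf 16545 NTree.leaf))) 16552 (NTree.node (NTree.node (NTree.node (NTree.node NTree.leaf 16578 NTree.leaf) 16584 NTree.leaf) 16646 (NTree.node NTree.leaf 16650 NTree.leaf)) 16652 (NTree.node (NTree.node (NTree.node NTree.leaf 16660 NTree.leaf) 16680 NTree.leaf) 16688 (NTree.node NTree.leaf 16770 NTree.leaf)))) 16784 (NTree.node (NTree.node (NTree.node (NTree.node (NTree.node NTree.leaf 16800 NTree.leaf) 16899 NTree.leaf) 16901 (NTree.node NTree.leaf 16902 NTree.leaf)) 16932 (NTree.node (NTree.node (NTree.node NTree.leaf 16962 NTree.leaf) 16992 NTree.leaf) 17025 (NTree.node NTree.leaf 17056 NTree.leaf))) 17088 (NTree.node (NTree.node (NTree.node (NTree.node NTree.leaf 17154 NTree.leaf) 17156 NTree.leaf) 17184 (NTree.node NTree.leaf 17280 NTree.leaf)) 17413 (NTree.node (NTree.node (NTree.node NTree.leaf 17417 NTree.leaf) 17420 NTree.leaf) 17425 (NTree.node NTree.leaf 17476 NTree.leaf))))) 17488 (NTree.node (NTree.node (NTree.node (NTree.node (NTree.node (NTree.node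 NTree.leaf 17544 NTree.leaf) 17552 NTree.leaf) 17600 (NTree.node NTree.leaf 17668 NTree.leaf)) 17672 (NTree.node (NTree.node (NTree.node NTree.leaf 17680 NTree.leaf) 17792 NTree.leaf) 17921 (NTree.node NTree.leaf 17924 NTree.leaf))) 17984 (NTree.node (NTree.node (NTree.node (NTree.node NTree.leaf 18048 NTree.leaf) 18435 NTree.leaf) 18441 (NTree.node NTree.leaf 18442 NTree.leaf)) 18450 (NTree.node (NTree.node (NTree.node NTree.leaf 18465 NTree.leaf) 18480 NTree.leaf) 18504 (NTree.node NTree.leaf 18512 NTree.leaf)))) 18528 (NTree.node (NTree.node (NTree.node (NTree.node (NTree.node NTree.leaf 18690 NTree.leaf) 18696 NTree.leaf) 18704 (NTree.node NTree.leaf 18720 NTree.leaf)) 18945 (NTree.node (NTree.node (NTree.node NTree.leaf 18946 NTree.leaf) 18976 NTree.leaf) 19008 (NTree.node NTree.leaf 19457 NTree.leaf))) 19464 (NTree.node (NTree.node (NTree.node (NTree.node NTree.leaf 19472 NTree.leaf) 19520 NTree.leaf) 20483 (NTree.node NTree.leaf 20485 NTree.leaf)) 20486 (NTree.node (NTree.node NTree.leaf 20489 NTree.leaf) 20490 (NTree.node NTree.leaf 20492 NTree.leaf)))))) 20497 (NTree.node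 (NTree.node (NTree.node (NTree.node (NTree.node (NTree.node (NTree.node NTree.leaf 20498 NTree.leaf) 20516 NTree.leaf) 20520 (NTree.node NTree.leaf 20528 NTree.leaf)) 20548 (NTree.node (NTree.node (NTree.node NTree.leaf 20552 NTree.leaf) 20560 NTree.leaf) 20576 (NTree.node NTree.leaf 20609 NTree.leaf))) 20610 (NTree.node (NTree.node (NTree.node (NTree.node NTree.leaf 20624 NTree.leaf) 20640 NTree.leaf) 20672 (NTree.node NTree.leaf 20738 NTree.leaf)) 20740 (NTree.node (NTree.node (NTree.node NTree.leaf 20752 NTree.leaf) 20768 NTree.leaf) 20994 (NTree.node NTree.leaf 20996 NTree.leaf)))) 21056 (NTree.node (NTree.node (NTree.node (NTree.node (NTree.node NTree.leaf 21120 NTree.leaf) 21248 NTree.leaf) 21505 (NTree.node NTree.leaf 21512 NTree.leaf)) 21568 (NTree.node (NTree.node (NTree.node NTree.leaf 21632 NTree.leaf) 21760 NTree.leaf) 22016 (NTree.node NTree.leaf 22529 NTree.leaf))) 22536 (NTree.node (NTree.node (NTree.node (NTree.node NTree.leaf 22544 NTree.leaf) 22560 NTree.leaf) 22784 (NTree.node NTree.leaf 23040 NTree.leaf)) 23552 (NTree.node (NTree.node NTree.leaf 24579 NTree.leaf)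 24581 (NTree.node NTree.leaf 24582 NTree.leaf))))) 24585 (NTree.node (NTree.node (NTree.node (NTree.node (NTree.node (NTree.node NTree.leaf 24586 NTree.leaf) 24588 NTree.leaf) 24593 (NTree.node NTree.leaf 24596 NTree.leaf)) 24609 (NTree.node (NTree.node (NTree.node NTree.leaf 24612 NTree.leaf) 24624 NTree.leaf) 24642 (NTree.node NTree.leaf 24648 NTree.leaf))) 24656 (NTree.node (NTree.node (NTree.node (NTree.node NTree.leaf 24672 NTree.leaf) 24706 NTree.leaf) 24712 (NTree.node NTree.leaf 24720 NTree.leaf)) 24736 (NTree.node (NTree.node (NTree.node NTree.leaf 24768 NTree.leaf) 24836 NTree.leaf) 24840 (NTree.node NTree.leaf 24864 NTree.leaf)))) 24960 (NTree.node (NTree.node (NTree.node (NTree.node (NTree.node NTree.leaf 25089 NTree.leaf) 25090 NTree.leaf) 25120 (NTree.node NTree.leaf 25216 NTree.leaf)) 25344 (NTree.node (NTree.node (NTree.node NTree.leaf 25604 NTree.leaf) 25608 NTree.leaf) 25616 (NTree.node NTree.leaf 25664 NTree.leaf))) 25856 (NTree.node (NTree.node (NTree.node (NTree.node NTree.leaf 26112 NTree.leaf) 26625 NTree.leaf) 26626 (NTree.node NTree.leaf 26640 NTree.leaf))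 26688 (NTree.node (NTree.node NTree.leaf 26880 NTree.leaf) 27136 (NTree.node NTree.leaf 27648 NTree.leaf))))))))) 32790 (NTree.node (NTree.node (NTree.node (NTree.node (NTree.node (NTree.node (NTree.node (NTree.node (NTree.node (NTree.node NTree.leaf 32794 NTree.leaf) 32796 NTree.leaf) 32803 (NTree.node NTree.leaf 32809 NTree.leaf)) 32810 (NTree.node (NTree.node (NTree.node NTree.leaf 32818 NTree.leaf) 32824 NTree.leaf) 32835 (NTree.node NTree.leaf 32837 NTree.leaf))) 32838 (NTree.node (NTree.node (NTree.node (NTree.node NTree.leaf 32850 NTree.leaf) 32852 NTree.leaf) 32865 (NTree.node NTree.leaf 32866 NTree.leaf)) 32901 (NTree.node (NTree.node (NTree.node NTree.leaf 32905 NTree.leaf) 32908 NTree.leaf) 32916 (NTree.node NTree.leaf 32920 NTree.leaf)))) 32929 (NTree.node (NTree.node (NTree.node (NTree.node (NTree.node NTree.leaf 32936 NTree.leaf) 32961 NTree.leaf) 32964 (NTree.node NTree.leaf 33027 NTree.leaf)) 33033 (NTree.node (NTree.node (NTree.node NTree.leaf 33034 NTree.leaf) 33048 NTree.leaf) 33090 (NTree.node NTree.leaf 33104 NTree.leaf))) 33153 (NTree.node (NTree.node (NTree.node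 (NTree.node NTree.leaf 33168 NTree.leaf) 33216 NTree.leaf) 33285 (NTree.node NTree.leaf 33289 NTree.leaf)) 33292 (NTree.node (NTree.node (NTree.node NTree.leaf 33300 NTree.leaf) 33320 NTree.leaf) 33328 (NTree.node NTree.leaf 33345 NTree.leaf))))) 33360 (NTree.node (NTree.node (NTree.node (NTree.node (NTree.node (NTree.node NTree.leaf 33376 NTree.leaf) 33537 NTree.leaf) 33544 (NTree.node NTree.leaf 33552 NTree.leaf)) 33600 (NTree.node (NTree.node (NTree.node NTree.leaf 33795 NTree.leaf) 33797 NTree.leaf) 33798 (NTree.node NTree.leaf 33810 NTree.leaf))) 33825 (NTree.node (NTree.node (NTree.node (NTree.node NTree.leaf 33840 NTree.leaf) 33924 NTree.leaf) 33936 (NTree.node NTree.leaf 33952 NTree.leaf)) 34049 (NTree.node (NTree.node (NTree.node NTree.leaf 34050 NTree.leaf) 34064 NTree.leaf) 34176 (NTree.node NTree.leaf 34305 NTree.leaf)))) 34308 (NTree.node (NTree.node (NTree.node (NTree.node (NTree.node NTree.leaf 34320 NTree.leaf) 34336 NTree.leaf) 34822 (NTree.node NTree.leaf 34826 NTree.leaf)) 34828 (NTree.node (NTree.node (NTree.node NTree.leaf 34850 NTree.leaf) 34884 NTree.leaf)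 34912 (NTree.node NTree.leaf 34952 NTree.leaf))) 34976 (NTree.node (NTree.node (NTree.node (NTree.node NTree.leaf 35008 NTree.leaf) 35074 NTree.leaf) 35080 (NTree.node NTree.leaf 35136 NTree.leaf)) 35200 (NTree.node (NTree.node NTree.leaf 35332 NTree.leaf) 35336 (NTree.node NTree.leaf 35360 NTree.leaf)))))) 35392 (NTree.node (NTree.node (NTree.node (NTree.node (NTree.node (NTree.node (NTree.node NTree.leaf 35842 NTree.leaf) 35844 NTree.leaf) 35872 (NTree.node NTree.leaf 35968 NTree.leaf)) 36867 (NTree.node (NTree.node (NTree.node NTree.leaf 36869 NTree.leaf) 36870 NTree.leaf) 36873 (NTree.node NTree.leaf 36874 NTree.leaf))) 36876 (NTree.node (NTree.node (NTree.node (NTree.node NTree.leaf 36882 NTree.leaf) 36888 NTree.leaf) 36898 (NTree.node NTree.leaf 36904 NTree.leaf)) 36912 (NTree.node (NTree.node (NTree.node NTree.leaf 36929 NTree.leaf) 36932 NTree.leaf) 36944 (NTree.node NTree.leaf 36960 NTree.leaf)))) 36993 (NTree.node (NTree.node (NTree.node (NTree.node (NTree.node NTree.leaf 36996 NTree.leaf) 37008 NTree.leaf) 37024 (NTree.node NTree.leaf 37056 NTree.leaf)) 37121 (NTree.node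 (NTree.node (NTree.node NTree.leaf 37122 NTree.leaf) 37136 NTree.leaf) 37184 (NTree.node NTree.leaf 37380 NTree.leaf))) 37384 (NTree.node (NTree.node (NTree.node (NTree.node NTree.leaf 37392 NTree.leaf) 37440 NTree.leaf) 37632 (NTree.node NTree.leaf 37889 NTree.leaf)) 37890 (NTree.node (NTree.node (NTree.node NTree.leaf 37920 NTree.leaf) 38016 NTree.leaf) 38144 (NTree.node NTree.leaf 38400 NTree.leaf))))) 38916 (NTree.node (NTree.node (NTree.node (NTree.node (NTree.node (NTree.node NTree.leaf 38920 NTree.leaf) 38944 NTree.leaf) 39040 (NTree.node NTree.leaf 39168 NTree.leaf)) 39424 (NTree.node (NTree.node (NTree.node NTree.leaf 39936 NTree.leaf) 40963 NTree.leaf) 40965 (NTree.node NTree.leaf 40966 NTree.leaf))) 40969 (NTree.node (NTree.node (NTree.node (NTree.node NTree.leaf 40970 NTree.leaf) 40972 NTree.leaf) 40980 (NTree.node NTree.leaf 40984 NTree.leaf)) 40993 (NTree.node (NTree.node (NTree.node NTree.leaf 40994 NTree.leaf) 41008 NTree.leaf) 41025 (NTree.node NTree.leaf 41026 NTree.leaf)))) 41040 (NTree.node (NTree.node (NTree.node (NTree.node (NTree.node NTree.leaf 41056 NTree.leaf)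 41092 NTree.leaf) 41096 (NTree.node NTree.leaf 41104 NTree.leaf)) 41120 (NTree.node (NTree.node (NTree.node NTree.leaf 41152 NTree.leaf) 41217 NTree.leaf) 41224 (NTree.node NTree.leaf 41280 NTree.leaf))) 41344 (NTree.node (NTree.node (NTree.node (NTree.node NTree.leaf 41473 NTree.leaf) 41480 NTree.leaf) 41488 (NTree.node NTree.leaf 41504 NTree.leaf)) 41728 (NTree.node (NTree.node NTree.leaf 41986 NTree.leaf) 41988 (NTree.node NTree.leaf 42000 NTree.leaf))))))) 42016 (NTree.node (NTree.node (NTree.node (NTree.node (NTree.node (NTree.node (NTree.node (NTree.node NTree.leaf 42240 NTree.leaf) 42496 NTree.leaf) 43010 (NTree.node NTree.leaf 43012 NTree.leaf)) 43072 (NTree.node (NTree.node (NTree.node NTree.leaf 43136 NTree.leaf) 43264 NTree.leaf) 43520 (NTree.node NTree.leaf 44032 NTree.leaf))) 49155 (NTree.node (NTree.node (NTree.node (NTree.node NTree.leaf 49157 NTree.leaf) 49158 NTree.leaf) 49161 (NTree.node NTree.leaf 49162 NTree.leaf)) 49164 (NTree.node (NTree.node (NTree.node NTree.leaf 49170 NTree.leaf) 49172 NTree.leaf) 49185 (NTree.node NTree.leaf 49192 NTree.leaf)))) 49200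 (NTree.node (NTree.node (NTree.node (NTree.node (NTree.node NTree.leaf 49218 NTree.leaf) 49220 NTree.leaf) 49232 (NTree.node NTree.leaf 49248 NTree.leaf)) 49281 (NTree.node (NTree.node (NTree.node NTree.leaf 49288 NTree.leaf) 49296 NTree.leaf) 49312 (NTree.node NTree.leaf 49344 NTree.leaf))) 49410 (NTree.node (NTree.node (NTree.node (NTree.node NTree.leaf 49416 NTree.leaf) 49424 NTree.leaf) 49536 (NTree.node NTree.leaf 49665 NTree.leaf)) 49668 (NTree.node (NTree.node (NTree.node NTree.leaf 49696 NTree.leaf) 49728 NTree.leaf) 49920 (NTree.node NTree.leaf 50177 NTree.leaf))))) 50180 (NTree.node (NTree.node (NTree.node (NTree.node (NTree.node (NTree.node NTree.leaf 50192 NTree.leaf) 50304 NTree.leaf) 50432 (NTree.node NTree.leaf 50688 NTree.leaf)) 51202 (NTree.node (NTree.node (NTree.node NTree.leaf 51208 NTree.leaf) 51232 NTree.leaf) 51264 (NTree.node NTree.leaf 51456 NTree.leaf))) 51712 (NTree.node (NTree.node (NTree.node (NTree.node NTree.leaf 52224 NTree.leaf) 65558 NTree.leaf) 65562 (NTree.node NTree.leaf 65564 NTree.leaf)) 65573 (NTree.node (NTree.node (NTree.node NTree.leaf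 65577 NTree.leaf) 65580 NTree.leaf) 65588 (NTree.node NTree.leaf 65592 NTree.leaf)))) 65603 (NTree.node (NTree.node (NTree.node (NTree.node (NTree.node NTree.leaf 65609 NTree.leaf) 65610 NTree.leaf) 65618 (NTree.node NTree.leaf 65624 NTree.leaf)) 65633 (NTree.node (NTree.node (NTree.node NTree.leaf 65640 NTree.leaf) 65667 NTree.leaf) 65669 (NTree.node NTree.leaf 65670 NTree.leaf))) 65682 (NTree.node (NTree.node (NTree.node (NTree.node NTree.leaf 65684 NTree.leaf) 65697 NTree.leaf) 65700 (NTree.node NTree.leaf 65729 NTree.leaf)) 65730 (NTree.node (NTree.node NTree.leaf 65795 NTree.leaf) 65797 (NTree.node NTree.leaf 65798 NTree.leaf)))))) 65812 (NTree.node (NTree.node (NTree.node (NTree.node (NTree.node (NTree.node (NTree.node NTree.leaf 65825 NTree.leaf) 65840 NTree.leaf) 65858 (NTree.node NTree.leaf 65872 NTree.leaf)) 65888 (NTree.node (NTree.node (NTree.node NTree.leaf 66051 NTree.leaf) 66057 NTree.leaf) 66058 (NTree.node NTree.leaf 66066 NTree.leaf))) 66088 (NTree.node (NTree.node (NTree.node (NTree.node NTree.leaf 66096 NTree.leaf) 66177 NTree.leaf) 66192 (NTree.node NTree.leaf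 66208 NTree.leaf)) 66305 (NTree.node (NTree.node (NTree.node NTree.leaf 66306 NTree.leaf) 66320 NTree.leaf) 66336 (NTree.node NTree.leaf 66565 NTree.leaf)))) 66569 (NTree.node (NTree.node (NTree.node (NTree.node (NTree.node NTree.leaf 66572 NTree.leaf) 66584 NTree.leaf) 66625 (NTree.node NTree.leaf 66640 NTree.leaf)) 66692 (NTree.node (NTree.node (NTree.node NTree.leaf 66704 NTree.leaf) 66752 NTree.leaf) 66817 (NTree.node NTree.leaf 66820 NTree.leaf))) 66832 (NTree.node (NTree.node (NTree.node (NTree.node NTree.leaf 66880 NTree.leaf) 67073 NTree.leaf) 67080 (NTree.node NTree.leaf 67088 NTree.leaf)) 67200 (NTree.node (NTree.node NTree.leaf 67590 NTree.leaf) 67594 (NTree.node NTree.leaf 67596 NTree.leaf))))) 67620 (NTree.node (NTree.node (NTree.node (NTree.node (NTree.node (NTree.node NTree.leaf 67656 NTree.leaf) 67680 NTree.leaf) 67714 (NTree.node NTree.leaf 67744 NTree.leaf)) 67776 (NTree.node (NTree.node (NTree.node NTree.leaf 67842 NTree.leaf) 67844 NTree.leaf) 67872 (NTree.node NTree.leaf 67904 NTree.leaf))) 68098 (NTree.node (NTree.node (NTree.node (NTree.node NTree.leaf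 68104 NTree.leaf) 68128 NTree.leaf) 68224 (NTree.node NTree.leaf 68612 NTree.leaf)) 68616 (NTree.node (NTree.node (NTree.node NTree.leaf 68672 NTree.leaf) 68736 NTree.leaf) 69635 (NTree.node NTree.leaf 69637 NTree.leaf)))) 69638 (NTree.node (NTree.node (NTree.node (NTree.node (NTree.node NTree.leaf 69650 NTree.leaf) 69668 NTree.leaf) 69680 (NTree.node NTree.leaf 69697 NTree.leaf)) 69712 (NTree.node (NTree.node (NTree.node NTree.leaf 69728 NTree.leaf) 70146 NTree.leaf) 70160 (NTree.node NTree.leaf 70657 NTree.leaf))) 70720 (NTree.node (NTree.node (NTree.node (NTree.node NTree.leaf 71168 NTree.leaf) 71684 NTree.leaf) 71712 (NTree.node NTree.leaf 72192 NTree.leaf)) 72704 (NTree.node (NTree.node NTree.leaf 73731 NTree.leaf) 73737 (NTree.node NTree.leaf 73738 NTree.leaf)))))))) 73752 (NTree.node (NTree.node (NTree.node (NTree.node (NTree.node (NTree.node (NTree.node (NTree.node (NTree.node NTree.leaf 73761 NTree.leaf) 73776 NTree.leaf) 73858 (NTree.node NTree.leaf 73872 NTree.leaf)) 73888 (NTree.node (NTree.node (NTree.node NTree.leaf 73985 NTree.leaf) 74016 NTree.leaf) 74760 (NTree.node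 NTree.leaf 74768 NTree.leaf))) 75008 (NTree.node (NTree.node (NTree.node (NTree.node NTree.leaf 75778 NTree.leaf) 75904 NTree.leaf) 76032 (NTree.node NTree.leaf 76800 NTree.leaf)) 77825 (NTree.node (NTree.node (NTree.node NTree.leaf 77826 NTree.leaf) 77840 NTree.leaf) 77856 (NTree.node NTree.leaf 78848 NTree.leaf)))) 79872 (NTree.node (NTree.node (NTree.node (NTree.node (NTree.node NTree.leaf 81925 NTree.leaf) 81929 NTree.leaf) 81932 (NTree.node NTree.leaf 81940 NTree.leaf)) 81992 (NTree.node (NTree.node (NTree.node NTree.leaf 82000 NTree.leaf) 82049 NTree.leaf) 82064 (NTree.node NTree.leaf 82112 NTree.leaf))) 82180 (NTree.node (NTree.node (NTree.node (NTree.node NTree.leaf 82192 NTree.leaf) 82433 NTree.leaf) 82560 (NTree.node NTree.leaf 82688 NTree.leaf)) 83976 (NTree.node (NTree.node (NTree.node NTree.leaf 84032 NTree.leaf) 84224 NTree.leaf) 84480 (NTree.node NTree.leaf 86017 NTree.leaf))))) 86020 (NTree.node (NTree.node (NTree.node (NTree.node (NTree.node (NTree.node NTree.leaf 86032 NTree.leaf) 86080 NTree.leaf) 86528 (NTree.node NTree.leaf 88064 NTree.leaf)) 90113 (NTree.node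 (NTree.node (NTree.node NTree.leaf 90120 NTree.leaf) 90128 NTree.leaf) 90240 (NTree.node NTree.leaf 90368 NTree.leaf))) 92160 (NTree.node (NTree.node (NTree.node (NTree.node NTree.leaf 98310 NTree.leaf) 98314 NTree.leaf) 98316 (NTree.node NTree.leaf 98344 NTree.leaf)) 98370 (NTree.node (NTree.node (NTree.node NTree.leaf 98400 NTree.leaf) 98436 NTree.leaf) 98464 (NTree.node NTree.leaf 98496 NTree.leaf)))) 98562 (NTree.node (NTree.node (NTree.node (NTree.node (NTree.node NTree.leaf 98624 NTree.leaf) 98824 NTree.leaf) 98848 (NTree.node NTree.leaf 99072 NTree.leaf)) 99332 (NTree.node (NTree.node (NTree.node NTree.leaf 99456 NTree.leaf) 99584 NTree.leaf) 99840 (NTree.node NTree.leaf 102402 NTree.leaf))) 102404 (NTree.node (NTree.node (NTree.node (NTree.node NTree.leaf 102432 NTree.leaf) 102464 NTree.leaf) 102912 (NTree.node NTree.leaf 103424 NTree.leaf)) 106498 (NTree.node (NTree.node NTree.leaf 106504 NTree.leaf) 106528 (NTree.node NTree.leaf 106624 NTree.leaf)))))) 106752 (NTree.node (NTree.node (NTree.node (NTree.node (NTree.node (NTree.node (NTree.node NTree.leaf 107520 NTree.leaf)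 114692 NTree.leaf) 114696 (NTree.node NTree.leaf 114752 NTree.leaf)) 114816 (NTree.node (NTree.node (NTree.node NTree.leaf 114944 NTree.leaf) 115200 NTree.leaf) 131093 (NTree.node NTree.leaf 131097 NTree.leaf))) 131100 (NTree.node (NTree.node (NTree.node (NTree.node NTree.leaf 131110 NTree.leaf) 131114 NTree.leaf) 131116 (NTree.node NTree.leaf 131124 NTree.leaf)) 131128 (NTree.node (NTree.node (NTree.node NTree.leaf 131139 NTree.leaf) 131141 NTree.leaf) 131142 (NTree.node NTree.leaf 131153 NTree.leaf)))) 131156 (NTree.node (NTree.node (NTree.node (NTree.node (NTree.node NTree.leaf 131170 NTree.leaf) 131172 NTree.leaf) 131203 (NTree.node NTree.leaf 131209 NTree.leaf)) 131210 (NTree.node (NTree.node (NTree.node NTree.leaf 131217 NTree.leaf) 131224 NTree.leaf) 131234 (NTree.node NTree.leaf 131240 NTree.leaf))) 131265 (NTree.node (NTree.node (NTree.node (NTree.node NTree.leaf 131266 NTree.leaf) 131333 NTree.leaf) 131337 (NTree.node NTree.leaf 131340 NTree.leaf)) 131368 (NTree.node (NTree.node (NTree.node NTree.leaf 131396 NTree.leaf) 131424 NTree.leaf) 131457 (NTree.node NTree.leaf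 131488 NTree.leaf))))) 131520 (NTree.node (NTree.node (NTree.node (NTree.node (NTree.node (NTree.node NTree.leaf 131590 NTree.leaf) 131594 NTree.leaf) 131596 (NTree.node NTree.leaf 131604 NTree.leaf)) 131650 (NTree.node (NTree.node (NTree.node NTree.leaf 131664 NTree.leaf) 131720 NTree.leaf) 131728 (NTree.node NTree.leaf 131776 NTree.leaf))) 131844 (NTree.node (NTree.node (NTree.node (NTree.node NTree.leaf 131848 NTree.leaf) 131904 NTree.leaf) 131968 (NTree.node NTree.leaf 132099 NTree.leaf)) 132101 (NTree.node (NTree.node (NTree.node NTree.leaf 132102 NTree.leaf) 132113 NTree.leaf) 132132 (NTree.node NTree.leaf 132144 NTree.leaf)))) 132226 (NTree.node (NTree.node (NTree.node (NTree.node (NTree.node NTree.leaf 132240 NTree.leaf) 132256 NTree.leaf) 132353 (NTree.node NTree.leaf 132356 NTree.leaf)) 132384 (NTree.node (NTree.node (NTree.node NTree.leaf 132480 NTree.leaf) 132610 NTree.leaf) 132612 (NTree.node NTree.leaf 132624 NTree.leaf))) 132736 (NTree.node (NTree.node (NTree.node (NTree.node NTree.leaf 133123 NTree.leaf) 133129 NTree.leaf) 133130 (NTree.node NTree.leaf 133144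 NTree.leaf)) 133154 (NTree.node (NTree.node NTree.leaf 133168 NTree.leaf) 133185 (NTree.node NTree.leaf 133200 NTree.leaf))))))) 133216 (NTree.node (NTree.node (NTree.node (NTree.node (NTree.node (NTree.node (NTree.node (NTree.node NTree.leaf 133377 NTree.leaf) 133384 NTree.leaf) 133408 (NTree.node NTree.leaf 133440 NTree.leaf)) 133634 (NTree.node (NTree.node (NTree.node NTree.leaf 133640 NTree.leaf) 133648 NTree.leaf) 133696 (NTree.node NTree.leaf 134145 NTree.leaf))) 134146 (NTree.node (NTree.node (NTree.node (NTree.node NTree.leaf 134160 NTree.leaf) 134176 NTree.leaf) 135174 (NTree.node NTree.leaf 135178 NTree.leaf)) 135180 (NTree.node (NTree.node (NTree.node NTree.leaf 135192 NTree.leaf) 135236 NTree.leaf) 135248 (NTree.node NTree.leaf 135298 NTree.leaf)))) 135312 (NTree.node (NTree.node (NTree.node (NTree.node (NTree.node NTree.leaf 135360 NTree.leaf) 135428 NTree.leaf) 135488 (NTree.node NTree.leaf 136194 NTree.leaf)) 136320 (NTree.node (NTree.node (NTree.node NTree.leaf 136448 NTree.leaf) 137224 NTree.leaf) 137232 (NTree.node NTree.leaf 137472 NTree.leaf))) 138240 (NTree.node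 (NTree.node (NTree.node (NTree.node NTree.leaf 139269 NTree.leaf) 139273 NTree.leaf) 139276 (NTree.node NTree.leaf 139300 NTree.leaf)) 139329 (NTree.node (NTree.node (NTree.node NTree.leaf 139360 NTree.leaf) 139400 NTree.leaf) 139424 (NTree.node NTree.leaf 139456 NTree.leaf))))) 139784 (NTree.node (NTree.node (NTree.node (NTree.node (NTree.node (NTree.node NTree.leaf 139904 NTree.leaf) 140292 NTree.leaf) 140320 (NTree.node NTree.leaf 140800 NTree.leaf)) 141313 (NTree.node (NTree.node (NTree.node NTree.leaf 141376 NTree.leaf) 141824 NTree.leaf) 142336 (NTree.node NTree.leaf 143364 NTree.leaf))) 143368 (NTree.node (NTree.node (NTree.node (NTree.node NTree.leaf 143424 NTree.leaf) 143488 NTree.leaf) 144384 (NTree.node NTree.leaf 145408 NTree.leaf)) 147459 (NTree.node (NTree.node (NTree.node NTree.leaf 147465 NTree.leaf) 147466 NTree.leaf) 147473 (NTree.node NTree.leaf 147496 NTree.leaf)))) 147504 (NTree.node (NTree.node (NTree.node (NTree.node (NTree.node NTree.leaf 147522 NTree.leaf) 147536 NTree.leaf) 147552 (NTree.node NTree.leaf 147720 NTree.leaf)) 147744 (NTree.node (NTree.node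 (NTree.node NTree.leaf 147970 NTree.leaf) 148032 NTree.leaf) 148224 (NTree.node NTree.leaf 148481 NTree.leaf))) 148496 (NTree.node (NTree.node (NTree.node (NTree.node NTree.leaf 148736 NTree.leaf) 148992 NTree.leaf) 151554 (NTree.node NTree.leaf 151560 NTree.leaf)) 151568 (NTree.node (NTree.node NTree.leaf 151616 NTree.leaf) 151808 (NTree.node NTree.leaf 152576 NTree.leaf)))))) 155649 (NTree.node (NTree.node (NTree.node (NTree.node (NTree.node (NTree.node (NTree.node NTree.leaf 155656 NTree.leaf) 155680 NTree.leaf) 155712 (NTree.node NTree.leaf 156160 NTree.leaf)) 156672 (NTree.node (NTree.node (NTree.node NTree.leaf 163843 NTree.leaf) 163845 NTree.leaf) 163846 (NTree.node NTree.leaf 163860 NTree.leaf))) 163874 (NTree.node (NTree.node (NTree.node (NTree.node NTree.leaf 163888 NTree.leaf) 163969 NTree.leaf) 163984 (NTree.node NTree.leaf 164000 NTree.leaf)) 164097 (NTree.node (NTree.node (NTree.node NTree.leaf 164224 NTree.leaf) 164356 NTree.leaf) 164368 (NTree.node NTree.leaf 164608 NTree.leaf)))) 165890 (NTree.node (NTree.node (NTree.node (NTree.node (NTree.node NTree.leaf 165920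 NTree.leaf) 166144 NTree.leaf) 166400 (NTree.node NTree.leaf 167938 NTree.leaf)) 167940 (NTree.node (NTree.node (NTree.node NTree.leaf 167952 NTree.leaf) 168064 NTree.leaf) 168192 (NTree.node NTree.leaf 169984 NTree.leaf))) 172033 (NTree.node (NTree.node (NTree.node (NTree.node NTree.leaf 172036 NTree.leaf) 172064 NTree.leaf) 172160 (NTree.node NTree.leaf 172544 NTree.leaf)) 174080 (NTree.node (NTree.node NTree.leaf 180225 NTree.leaf) 180226 (NTree.node NTree.leaf 180240 NTree.leaf))))) 180256 (NTree.node (NTree.node (NTree.node (NTree.node (NTree.node (NTree.node NTree.leaf 180480 NTree.leaf) 180736 NTree.leaf) 196611 (NTree.node NTree.leaf 196613 NTree.leaf)) 196614 (NTree.node (NTree.node (NTree.node NTree.leaf 196617 NTree.leaf) 196618 NTree.leaf) 196620 (NTree.node NTree.leaf 196628 NTree.leaf))) 196632 (NTree.node (NTree.node (NTree.node (NTree.node NTree.leaf 196644 NTree.leaf) 196648 NTree.leaf) 196656 (NTree.node NTree.leaf 196673 NTree.leaf)) 196674 (NTree.node (NTree.node (NTree.node NTree.leaf 196688 NTree.leaf) 196704 NTree.leaf) 196737 (NTree.node NTree.leaf 196738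 NTree.leaf)))) 196752 (NTree.node (NTree.node (NTree.node (NTree.node (NTree.node NTree.leaf 196768 NTree.leaf) 196800 NTree.leaf) 196865 (NTree.node NTree.leaf 196868 NTree.leaf)) 196896 (NTree.node (NTree.node (NTree.node NTree.leaf 196928 NTree.leaf) 197122 NTree.leaf) 197128 (NTree.node NTree.leaf 197136 NTree.leaf))) 197248 (NTree.node (NTree.node (NTree.node (NTree.node NTree.leaf 197376 NTree.leaf) 197633 NTree.leaf) 197636 (NTree.node NTree.leaf 197648 NTree.leaf)) 197760 (NTree.node (NTree.node NTree.leaf 197888 NTree.leaf) 198144 (NTree.node NTree.leaf 198658 NTree.leaf)))))))))) 198664 (NTree.node (NTree.node (NTree.node (NTree.node (NTree.node (NTree.node (NTree.node (NTree.node (NTree.node (NTree.node (NTree.node NTree.leaf 198688 NTree.leaf) 198720 NTree.leaf) 198912 (NTree.node NTree.leaf 199168 NTree.leaf)) 199680 (NTree.node (NTree.node (NTree.node NTree.leaf 200706 NTree.leaf) 200708 NTree.leaf) 200720 (NTree.node NTree.leaf 200768 NTree.leaf))) 201728 (NTree.node (NTree.node (NTree.node (NTree.node NTree.leaf 202752 NTree.leaf) 204801 NTree.leaf) 204808 (NTree.node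 NTree.leaf 204832 NTree.leaf)) 204928 (NTree.node (NTree.node (NTree.node NTree.leaf 205824 NTree.leaf) 206848 NTree.leaf) 208896 (NTree.node NTree.leaf 212993 NTree.leaf)))) 213000 (NTree.node (NTree.node (NTree.node (NTree.node (NTree.node NTree.leaf 213008 NTree.leaf) 213056 NTree.leaf) 213248 (NTree.node NTree.leaf 213504 NTree.leaf)) 217088 (NTree.node (NTree.node (NTree.node NTree.leaf 221184 NTree.leaf) 229378 NTree.leaf) 229380 (NTree.node NTree.leaf 229408 NTree.leaf))) 229504 (NTree.node (NTree.node (NTree.node (NTree.node NTree.leaf 229632 NTree.leaf) 229888 NTree.leaf) 233472 (NTree.node NTree.leaf 237568 NTree.leaf)) 245760 (NTree.node (NTree.node (NTree.node NTree.leaf 262163 NTree.leaf) 262169 NTree.leaf) 262170 (NTree.node NTree.leaf 262179 NTree.leaf))))) 262181 (NTree.node (NTree.node (NTree.node (NTree.node (NTree.node (NTree.node NTree.leaf 262182 NTree.leaf) 262193 NTree.leaf) 262194 (NTree.node NTree.leaf 262214 NTree.leaf)) 262218 (NTree.node (NTree.node (NTree.node NTree.leaf 262220 NTree.leaf) 262226 NTree.leaf) 262232 (NTree.node NTree.leaf 262242 NTree.leaf)))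 262244 (NTree.node (NTree.node (NTree.node (NTree.node NTree.leaf 262277 NTree.leaf) 262281 NTree.leaf) 262284 (NTree.node NTree.leaf 262289 NTree.leaf)) 262296 (NTree.node (NTree.node (NTree.node NTree.leaf 262305 NTree.leaf) 262308 NTree.leaf) 262340 (NTree.node NTree.leaf 262344 NTree.leaf)))) 262406 (NTree.node (NTree.node (NTree.node (NTree.node (NTree.node NTree.leaf 262410 NTree.leaf) 262412 NTree.leaf) 262424 (NTree.node NTree.leaf 262434 NTree.leaf)) 262448 (NTree.node (NTree.node (NTree.node NTree.leaf 262532 NTree.leaf) 262544 NTree.leaf) 262560 (NTree.node NTree.leaf 262661 NTree.leaf))) 262665 (NTree.node (NTree.node (NTree.node (NTree.node NTree.leaf 262668 NTree.leaf) 262673 NTree.leaf) 262692 (NTree.node NTree.leaf 262704 NTree.leaf)) 262728 (NTree.node (NTree.node NTree.leaf 262736 NTree.leaf) 262752 (NTree.node NTree.leaf 262916 NTree.leaf)))))) 262920 (NTree.node (NTree.node (NTree.node (NTree.node (NTree.node (NTree.node (NTree.node NTree.leaf 262928 NTree.leaf) 262944 NTree.leaf) 263171 (NTree.node NTree.leaf 263177 NTree.leaf)) 263178 (NTree.node (NTree.node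 (NTree.node NTree.leaf 263201 NTree.leaf) 263234 NTree.leaf) 263264 (NTree.node NTree.leaf 263304 NTree.leaf))) 263328 (NTree.node (NTree.node (NTree.node (NTree.node NTree.leaf 263360 NTree.leaf) 263426 NTree.leaf) 263432 (NTree.node NTree.leaf 263456 NTree.leaf)) 263552 (NTree.node (NTree.node (NTree.node NTree.leaf 263681 NTree.leaf) 263688 NTree.leaf) 263712 (NTree.node NTree.leaf 263744 NTree.leaf)))) 264195 (NTree.node (NTree.node (NTree.node (NTree.node (NTree.node NTree.leaf 264197 NTree.leaf) 264198 NTree.leaf) 264210 (NTree.node NTree.leaf 264260 NTree.leaf)) 264272 (NTree.node (NTree.node (NTree.node NTree.leaf 264321 NTree.leaf) 264336 NTree.leaf) 264384 (NTree.node NTree.leaf 264450 NTree.leaf))) 264452 (NTree.node (NTree.node (NTree.node (NTree.node NTree.leaf 264464 NTree.leaf) 264576 NTree.leaf) 264705 (NTree.node NTree.leaf 264708 NTree.leaf)) 264720 (NTree.node (NTree.node (NTree.node NTree.leaf 264768 NTree.leaf) 265217 NTree.leaf) 265218 (NTree.node NTree.leaf 265280 NTree.leaf))))) 265344 (NTree.node (NTree.node (NTree.node (NTree.node (NTree.node (NTree.node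 NTree.leaf 266243 NTree.leaf) 266249 NTree.leaf) 266250 (NTree.node NTree.leaf 266274 NTree.leaf)) 266312 (NTree.node (NTree.node (NTree.node NTree.leaf 266336 NTree.leaf) 266369 NTree.leaf) 266400 (NTree.node NTree.leaf 266432 NTree.leaf))) 266498 (NTree.node (NTree.node (NTree.node (NTree.node NTree.leaf 266528 NTree.leaf) 266760 NTree.leaf) 266816 (NTree.node NTree.leaf 267008 NTree.leaf)) 268289 (NTree.node (NTree.node (NTree.node NTree.leaf 268416 NTree.leaf) 268544 NTree.leaf) 268800 (NTree.node NTree.leaf 270339 NTree.leaf)))) 270341 (NTree.node (NTree.node (NTree.node (NTree.node (NTree.node NTree.leaf 270342 NTree.leaf) 270353 NTree.leaf) 270402 (NTree.node NTree.leaf 270416 NTree.leaf)) 270468 (NTree.node (NTree.node (NTree.node NTree.leaf 270480 NTree.leaf) 270528 NTree.leaf) 270596 (NTree.node NTree.leaf 270720 NTree.leaf))) 270849 (NTree.node (NTree.node (NTree.node (NTree.node NTree.leaf 270864 NTree.leaf) 271104 NTree.leaf) 271362 (NTree.node NTree.leaf 271424 NTree.leaf)) 271616 (NTree.node (NTree.node NTree.leaf 271872 NTree.leaf) 274433 (NTree.node NTree.leaf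 274434 NTree.leaf))))))) 274496 (NTree.node (NTree.node (NTree.node (NTree.node (NTree.node (NTree.node (NTree.node (NTree.node NTree.leaf 274560 NTree.leaf) 274688 NTree.leaf) 274944 (NTree.node NTree.leaf 278534 NTree.leaf)) 278538 (NTree.node (NTree.node (NTree.node NTree.leaf 278540 NTree.leaf) 278546 NTree.leaf) 278564 (NTree.node NTree.leaf 278576 NTree.leaf))) 278664 (NTree.node (NTree.node (NTree.node (NTree.node NTree.leaf 278672 NTree.leaf) 278688 NTree.leaf) 279044 (NTree.node NTree.leaf 279072 NTree.leaf)) 279560 (NTree.node (NTree.node (NTree.node NTree.leaf 279680 NTree.leaf) 280064 NTree.leaf) 280578 (NTree.node NTree.leaf 280592 NTree.leaf)))) 281088 (NTree.node (NTree.node (NTree.node (NTree.node (NTree.node NTree.leaf 281600 NTree.leaf) 282626 NTree.leaf) 282632 (NTree.node NTree.leaf 282656 NTree.leaf)) 282752 (NTree.node (NTree.node (NTree.node NTree.leaf 283136 NTree.leaf) 284672 NTree.leaf) 286722 (NTree.node NTree.leaf 286724 NTree.leaf))) 286736 (NTree.node (NTree.node (NTree.node (NTree.node NTree.leaf 286848 NTree.leaf) 287232 NTree.leaf) 287744 (NTree.node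 NTree.leaf 294917 NTree.leaf)) 294921 (NTree.node (NTree.node (NTree.node NTree.leaf 294924 NTree.leaf) 294936 NTree.leaf) 294945 (NTree.node NTree.leaf 294960 NTree.leaf))))) 294980 (NTree.node (NTree.node (NTree.node (NTree.node (NTree.node (NTree.node NTree.leaf 294992 NTree.leaf) 295008 NTree.leaf) 295176 (NTree.node NTree.leaf 295184 NTree.leaf)) 295937 (NTree.node (NTree.node (NTree.node NTree.leaf 295968 NTree.leaf) 296192 NTree.leaf) 296964 (NTree.node NTree.leaf 297024 NTree.leaf))) 297216 (NTree.node (NTree.node (NTree.node (NTree.node NTree.leaf 297984 NTree.leaf) 299009 NTree.leaf) 299016 (NTree.node NTree.leaf 299040 NTree.leaf)) 299072 (NTree.node (NTree.node (NTree.node NTree.leaf 299264 NTree.leaf) 301056 NTree.leaf) 303105 (NTree.node NTree.leaf 303108 NTree.leaf)))) 303120 (NTree.node (NTree.node (NTree.node (NTree.node (NTree.node NTree.leaf 303168 NTree.leaf) 303360 NTree.leaf) 304128 (NTree.node NTree.leaf 311300 NTree.leaf)) 311304 (NTree.node (NTree.node (NTree.node NTree.leaf 311312 NTree.leaf) 311328 NTree.leaf) 312320 (NTree.node NTree.leaf 313344 NTree.leaf)))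 327683 (NTree.node (NTree.node (NTree.node (NTree.node NTree.leaf 327685 NTree.leaf) 327686 NTree.leaf) 327689 (NTree.node NTree.leaf 327690 NTree.leaf)) 327692 (NTree.node (NTree.node NTree.leaf 327698 NTree.leaf) 327704 (NTree.node NTree.leaf 327713 NTree.leaf)))))) 327716 (NTree.node (NTree.node (NTree.node (NTree.node (NTree.node (NTree.node (NTree.node NTree.leaf 327728 NTree.leaf) 327746 NTree.leaf) 327752 (NTree.node NTree.leaf 327760 NTree.leaf)) 327776 (NTree.node (NTree.node (NTree.node NTree.leaf 327809 NTree.leaf) 327812 NTree.leaf) 327824 (NTree.node NTree.leaf 327840 NTree.leaf))) 327872 (NTree.node (NTree.node (NTree.node (NTree.node NTree.leaf 327938 NTree.leaf) 327940 NTree.leaf) 327952 (NTree.node NTree.leaf 327968 NTree.leaf)) 328193 (NTree.node (NTree.node (NTree.node NTree.leaf 328200 NTree.leaf) 328208 NTree.leaf) 328224 (NTree.node NTree.leaf 328448 NTree.leaf)))) 328705 (NTree.node (NTree.node (NTree.node (NTree.node (NTree.node NTree.leaf 328712 NTree.leaf) 328768 NTree.leaf) 328832 (NTree.node NTree.leaf 328960 NTree.leaf)) 329216 (NTree.node (NTree.node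 (NTree.node NTree.leaf 329730 NTree.leaf) 329732 NTree.leaf) 329792 (NTree.node NTree.leaf 329856 NTree.leaf))) 329984 (NTree.node (NTree.node (NTree.node (NTree.node NTree.leaf 330240 NTree.leaf) 330752 NTree.leaf) 331777 (NTree.node NTree.leaf 331778 NTree.leaf)) 331808 (NTree.node (NTree.node NTree.leaf 331840 NTree.leaf) 332288 (NTree.node NTree.leaf 333824 NTree.leaf))))) 335873 (NTree.node (NTree.node (NTree.node (NTree.node (NTree.node (NTree.node NTree.leaf 335874 NTree.leaf) 335888 NTree.leaf) 336000 (NTree.node NTree.leaf 336128 NTree.leaf)) 336896 (NTree.node (NTree.node (NTree.node NTree.leaf 339968 NTree.leaf) 344068 NTree.leaf) 344072 (NTree.node NTree.leaf 344080 NTree.leaf))) 344192 (NTree.node (NTree.node (NTree.node (NTree.node NTree.leaf 344576 NTree.leaf) 346112 NTree.leaf) 348160 (NTree.node NTree.leaf 352256 NTree.leaf)) 360452 (NTree.node (NTree.node (NTree.node NTree.leaf 360456 NTree.leaf) 360480 NTree.leaf) 360512 (NTree.node NTree.leaf 360704 NTree.leaf)))) 361472 (NTree.node (NTree.node (NTree.node (NTree.node (NTree.node NTree.leaf 364544 NTree.leaf)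 368640 NTree.leaf) 376832 (NTree.node NTree.leaf 393219 NTree.leaf)) 393221 (NTree.node (NTree.node (NTree.node NTree.leaf 393222 NTree.leaf) 393225 NTree.leaf) 393226 (NTree.node NTree.leaf 393228 NTree.leaf))) 393233 (NTree.node (NTree.node (NTree.node (NTree.node NTree.leaf 393240 NTree.leaf) 393250 NTree.leaf) 393252 (NTree.node NTree.leaf 393264 NTree.leaf)) 393282 (NTree.node (NTree.node NTree.leaf 393284 NTree.leaf) 393296 (NTree.node NTree.leaf 393312 NTree.leaf)))))))) 393345 (NTree.node (NTree.node (NTree.node (NTree.node (NTree.node (NTree.node (NTree.node (NTree.node (NTree.node NTree.leaf 393352 NTree.leaf) 393360 NTree.leaf) 393376 (NTree.node NTree.leaf 393408 NTree.leaf)) 393476 (NTree.node (NTree.node (NTree.node NTree.leaf 393480 NTree.leaf) 393504 NTree.leaf) 393600 (NTree.node NTree.leaf 393732 NTree.leaf))) 393736 (NTree.node (NTree.node (NTree.node (NTree.node NTree.leaf 393744 NTree.leaf) 393792 NTree.leaf) 393984 (NTree.node NTree.leaf 394241 NTree.leaf)) 394242 (NTree.node (NTree.node (NTree.node NTree.leaf 394272 NTree.leaf) 394368 NTree.leaf) 394496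 (NTree.node NTree.leaf 394752 NTree.leaf)))) 395265 (NTree.node (NTree.node (NTree.node (NTree.node (NTree.node NTree.leaf 395266 NTree.leaf) 395280 NTree.leaf) 395328 (NTree.node NTree.leaf 395520 NTree.leaf)) 395776 (NTree.node (NTree.node (NTree.node NTree.leaf 396288 NTree.leaf) 397314 NTree.leaf) 397320 (NTree.node NTree.leaf 397376 NTree.leaf))) 397440 (NTree.node (NTree.node (NTree.node (NTree.node NTree.leaf 397568 NTree.leaf) 399360 NTree.leaf) 401409 (NTree.node NTree.leaf 401412 NTree.leaf)) 401472 (NTree.node (NTree.node (NTree.node NTree.leaf 401536 NTree.leaf) 401920 NTree.leaf) 402432 (NTree.node NTree.leaf 405504 NTree.leaf))))) 409602 (NTree.node (NTree.node (NTree.node (NTree.node (NTree.node (NTree.node NTree.leaf 409608 NTree.leaf) 409616 NTree.leaf) 409632 (NTree.node NTree.leaf 410112 NTree.leaf)) 410624 (NTree.node (NTree.node (NTree.node NTree.leaf 413696 NTree.leaf) 417792 NTree.leaf) 425985 (NTree.node NTree.leaf 425988 NTree.leaf))) 426000 (NTree.node (NTree.node (NTree.node (NTree.node NTree.leaf 426016 NTree.leaf) 426240 NTree.leaf) 428032 (NTree.node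 NTree.leaf 430080 NTree.leaf)) 434176 (NTree.node (NTree.node (NTree.node NTree.leaf 442368 NTree.leaf) 524307 NTree.leaf) 524309 (NTree.node NTree.leaf 524310 NTree.leaf)))) 524323 (NTree.node (NTree.node (NTree.node (NTree.node (NTree.node NTree.leaf 524329 NTree.leaf) 524330 NTree.leaf) 524337 (NTree.node NTree.leaf 524338 NTree.leaf)) 524357 (NTree.node (NTree.node (NTree.node NTree.leaf 524361 NTree.leaf) 524364 NTree.leaf) 524369 (NTree.node NTree.leaf 524372 NTree.leaf))) 524385 (NTree.node (NTree.node (NTree.node (NTree.node NTree.leaf 524392 NTree.leaf) 524422 NTree.leaf) 524426 (NTree.node NTree.leaf 524428 NTree.leaf)) 524434 (NTree.node (NTree.node NTree.leaf 524436 NTree.leaf) 524450 (NTree.node NTree.leaf 524456 NTree.leaf)))))) 524484 (NTree.node (NTree.node (NTree.node (NTree.node (NTree.node (NTree.node (NTree.node NTree.leaf 524488 NTree.leaf) 524547 NTree.leaf) 524553 (NTree.node NTree.leaf 524554 NTree.leaf)) 524561 (NTree.node (NTree.node (NTree.node NTree.leaf 524616 NTree.leaf) 524624 NTree.leaf) 524674 (NTree.node NTree.leaf 524688 NTree.leaf))) 524736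 (NTree.node (NTree.node (NTree.node (NTree.node NTree.leaf 524803 NTree.leaf) 524805 NTree.leaf) 524806 (NTree.node NTree.leaf 524834 NTree.leaf)) 524865 (NTree.node (NTree.node (NTree.node NTree.leaf 524896 NTree.leaf) 524932 NTree.leaf) 524960 (NTree.node NTree.leaf 524992 NTree.leaf)))) 525057 (NTree.node (NTree.node (NTree.node (NTree.node (NTree.node NTree.leaf 525058 NTree.leaf) 525120 NTree.leaf) 525184 (NTree.node NTree.leaf 525318 NTree.leaf)) 525322 (NTree.node (NTree.node (NTree.node NTree.leaf 525324 NTree.leaf) 525330 NTree.leaf) 525352 (NTree.node NTree.leaf 525360 NTree.leaf))) 525380 (NTree.node (NTree.node (NTree.node (NTree.node NTree.leaf 525392 NTree.leaf) 525408 NTree.leaf) 525570 (NTree.node NTree.leaf 525576 NTree.leaf)) 525584 (NTree.node (NTree.node (NTree.node NTree.leaf 525632 NTree.leaf) 525826 NTree.leaf) 525828 (NTree.node NTree.leaf 525856 NTree.leaf))))) 525888 (NTree.node (NTree.node (NTree.node (NTree.node (NTree.node (NTree.node NTree.leaf 526341 NTree.leaf) 526345 NTree.leaf) 526348 (NTree.node NTree.leaf 526356 NTree.leaf)) 526369 (NTree.node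 (NTree.node (NTree.node NTree.leaf 526384 NTree.leaf) 526472 NTree.leaf) 526480 (NTree.node NTree.leaf 526496 NTree.leaf))) 526593 (NTree.node (NTree.node (NTree.node (NTree.node NTree.leaf 526600 NTree.leaf) 526608 NTree.leaf) 526720 (NTree.node NTree.leaf 526849 NTree.leaf)) 526852 (NTree.node (NTree.node (NTree.node NTree.leaf 526880 NTree.leaf) 526976 NTree.leaf) 527364 (NTree.node NTree.leaf 527368 NTree.leaf)))) 527376 (NTree.node (NTree.node (NTree.node (NTree.node (NTree.node NTree.leaf 527392 NTree.leaf) 528389 NTree.leaf) 528393 (NTree.node NTree.leaf 528396 NTree.leaf)) 528401 (NTree.node (NTree.node (NTree.node NTree.leaf 528424 NTree.leaf) 528432 NTree.leaf) 528516 (NTree.node NTree.leaf 528528 NTree.leaf))) 528544 (NTree.node (NTree.node (NTree.node (NTree.node NTree.leaf 528641 NTree.leaf) 528656 NTree.leaf) 528900 (NTree.node NTree.leaf 529024 NTree.leaf)) 529152 (NTree.node (NTree.node NTree.leaf 529416 NTree.leaf) 529440 (NTree.node NTree.leaf 529664 NTree.leaf))))))) 529920 (NTree.node (NTree.node (NTree.node (NTree.node (NTree.node (NTree.node (NTree.node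 (NTree.node NTree.leaf 532486 NTree.leaf) 532490 NTree.leaf) 532492 (NTree.node NTree.leaf 532500 NTree.leaf)) 532514 (NTree.node (NTree.node (NTree.node NTree.leaf 532528 NTree.leaf) 532552 NTree.leaf) 532560 (NTree.node NTree.leaf 532576 NTree.leaf))) 532744 (NTree.node (NTree.node (NTree.node (NTree.node NTree.leaf 532800 NTree.leaf) 532994 NTree.leaf) 533024 (NTree.node NTree.leaf 533248 NTree.leaf)) 534532 (NTree.node (NTree.node (NTree.node NTree.leaf 534544 NTree.leaf) 534784 NTree.leaf) 535040 (NTree.node NTree.leaf 536580 NTree.leaf)))) 536584 (NTree.node (NTree.node (NTree.node (NTree.node (NTree.node NTree.leaf 536592 NTree.leaf) 536608 NTree.leaf) 536832 (NTree.node NTree.leaf 537088 NTree.leaf)) 540675 (NTree.node (NTree.node (NTree.node NTree.leaf 540677 NTree.leaf) 540678 NTree.leaf) 540705 (NTree.node NTree.leaf 540740 NTree.leaf))) 540768 (NTree.node (NTree.node (NTree.node (NTree.node NTree.leaf 540802 NTree.leaf) 540832 NTree.leaf) 540864 (NTree.node NTree.leaf 540930 NTree.leaf)) 541056 (NTree.node (NTree.node (NTree.node NTree.leaf 541700 NTree.leaf) 541760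 NTree.leaf) 541952 (NTree.node NTree.leaf 542721 NTree.leaf))))) 542752 (NTree.node (NTree.node (NTree.node (NTree.node (NTree.node (NTree.node NTree.leaf 542976 NTree.leaf) 543744 NTree.leaf) 544769 (NTree.node NTree.leaf 544772 NTree.leaf)) 544800 (NTree.node (NTree.node (NTree.node NTree.leaf 544896 NTree.leaf) 545024 NTree.leaf) 545792 (NTree.node NTree.leaf 548866 NTree.leaf))) 548868 (NTree.node (NTree.node (NTree.node (NTree.node NTree.leaf 548896 NTree.leaf) 548928 NTree.leaf) 549120 (NTree.node NTree.leaf 550912 NTree.leaf)) 557059 (NTree.node (NTree.node (NTree.node NTree.leaf 557065 NTree.leaf) 557066 NTree.leaf) 557074 (NTree.node NTree.leaf 557121 NTree.leaf)))) 557136 (NTree.node (NTree.node (NTree.node (NTree.node (NTree.node NTree.leaf 557192 NTree.leaf) 557200 NTree.leaf) 557248 (NTree.node NTree.leaf 557569 NTree.leaf)) 557632 (NTree.node (NTree.node (NTree.node NTree.leaf 558082 NTree.leaf) 558096 NTree.leaf) 558592 (NTree.node NTree.leaf 559112 NTree.leaf))) 559232 (NTree.node (NTree.node (NTree.node (NTree.node NTree.leaf 559616 NTree.leaf) 560128 NTree.leaf)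 561153 (NTree.node NTree.leaf 561160 NTree.leaf)) 561168 (NTree.node (NTree.node NTree.leaf 561280 NTree.leaf) 561664 (NTree.node NTree.leaf 562176 NTree.leaf)))))) 565250 (NTree.node (NTree.node (NTree.node (NTree.node (NTree.node (NTree.node (NTree.node NTree.leaf 565256 NTree.leaf) 565264 NTree.leaf) 565312 (NTree.node NTree.leaf 565760 NTree.leaf)) 567296 (NTree.node (NTree.node (NTree.node NTree.leaf 573441 NTree.leaf) 573442 NTree.leaf) 573504 (NTree.node NTree.leaf 573568 NTree.leaf))) 574464 (NTree.node (NTree.node (NTree.node (NTree.node NTree.leaf 575488 NTree.leaf) 589827 NTree.leaf) 589829 (NTree.node NTree.leaf 589830 NTree.leaf)) 589833 (NTree.node (NTree.node (NTree.node NTree.leaf 589834 NTree.leaf) 589836 NTree.leaf) 589842 (NTree.node NTree.leaf 589844 NTree.leaf)))) 589857 (NTree.node (NTree.node (NTree.node (NTree.node (NTree.node NTree.leaf 589864 NTree.leaf) 589872 NTree.leaf) 589889 (NTree.node NTree.leaf 589896 NTree.leaf)) 589904 (NTree.node (NTree.node (NTree.node NTree.leaf 589920 NTree.leaf) 589954 NTree.leaf) 589956 (NTree.node NTree.leaf 589968 NTree.leaf)))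 589984 (NTree.node (NTree.node (NTree.node (NTree.node NTree.leaf 590016 NTree.leaf) 590081 NTree.leaf) 590082 (NTree.node NTree.leaf 590096 NTree.leaf)) 590144 (NTree.node (NTree.node NTree.leaf 590337 NTree.leaf) 590338 (NTree.node NTree.leaf 590368 NTree.leaf))))) 590464 (NTree.node (NTree.node (NTree.node (NTree.node (NTree.node (NTree.node NTree.leaf 590592 NTree.leaf) 590852 NTree.leaf) 590856 (NTree.node NTree.leaf 590864 NTree.leaf)) 590912 (NTree.node (NTree.node (NTree.node NTree.leaf 591104 NTree.leaf) 591360 NTree.leaf) 591876 (NTree.node NTree.leaf 591880 NTree.leaf))) 591904 (NTree.node (NTree.node (NTree.node (NTree.node NTree.leaf 592000 NTree.leaf) 592128 NTree.leaf) 592384 (NTree.node NTree.leaf 592896 NTree.leaf)) 593921 (NTree.node (NTree.node (NTree.node NTree.leaf 593924 NTree.leaf) 593936 NTree.leaf) 593952 (NTree.node NTree.leaf 594432 NTree.leaf)))) 594944 (NTree.node (NTree.node (NTree.node (NTree.node (NTree.node NTree.leaf 598018 NTree.leaf) 598024 NTree.leaf) 598032 (NTree.node NTree.leaf 598048 NTree.leaf)) 598272 (NTree.node (NTree.node (NTree.node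 NTree.leaf 600064 NTree.leaf) 602112 NTree.leaf) 606209 (NTree.node NTree.leaf 606212 NTree.leaf))) 606272 (NTree.node (NTree.node (NTree.node (NTree.node NTree.leaf 606336 NTree.leaf) 606464 NTree.leaf) 608256 (NTree.node NTree.leaf 610304 NTree.leaf)) 614400 (NTree.node (NTree.node NTree.leaf 622594 NTree.leaf) 622600 (NTree.node NTree.leaf 622656 NTree.leaf))))))))) 622720 (NTree.node (NTree.node (NTree.node (NTree.node (NTree.node (NTree.node (NTree.node (NTree.node (NTree.node (NTree.node NTree.leaf 623104 NTree.leaf) 623616 NTree.leaf) 626688 (NTree.node NTree.leaf 630784 NTree.leaf)) 638976 (NTree.node (NTree.node (NTree.node NTree.leaf 655363 NTree.leaf) 655365 NTree.leaf) 655366 (NTree.node NTree.leaf 655369 NTree.leaf))) 655370 (NTree.node (NTree.node (NTree.node (NTree.node NTree.leaf 655372 NTree.leaf) 655377 NTree.leaf) 655380 (NTree.node NTree.leaf 655394 NTree.leaf)) 655400 (NTree.node (NTree.node (NTree.node NTree.leaf 655408 NTree.leaf) 655425 NTree.leaf) 655428 (NTree.node NTree.leaf 655440 NTree.leaf)))) 655456 (NTree.node (NTree.node (NTree.node (NTree.node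 (NTree.node NTree.leaf 655490 NTree.leaf) 655496 NTree.leaf) 655504 (NTree.node NTree.leaf 655520 NTree.leaf)) 655552 (NTree.node (NTree.node (NTree.node NTree.leaf 655617 NTree.leaf) 655624 NTree.leaf) 655680 (NTree.node NTree.leaf 655744 NTree.leaf))) 655874 (NTree.node (NTree.node (NTree.node (NTree.node NTree.leaf 655876 NTree.leaf) 655936 NTree.leaf) 656000 (NTree.node NTree.leaf 656128 NTree.leaf)) 656386 (NTree.node (NTree.node (NTree.node NTree.leaf 656388 NTree.leaf) 656400 NTree.leaf) 656416 (NTree.node NTree.leaf 656640 NTree.leaf))))) 656896 (NTree.node (NTree.node (NTree.node (NTree.node (NTree.node (NTree.node NTree.leaf 657409 NTree.leaf) 657416 NTree.leaf) 657424 (NTree.node NTree.leaf 657440 NTree.leaf)) 657664 (NTree.node (NTree.node (NTree.node NTree.leaf 657920 NTree.leaf) 658432 NTree.leaf) 659460 (NTree.node NTree.leaf 659464 NTree.leaf))) 659472 (NTree.node (NTree.node (NTree.node (NTree.node NTree.leaf 659584 NTree.leaf) 659712 NTree.leaf) 660480 (NTree.node NTree.leaf 663556 NTree.leaf)) 663560 (NTree.node (NTree.node (NTree.node NTree.leaf 663584 NTree.leaf)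 663616 NTree.leaf) 664064 (NTree.node NTree.leaf 665600 NTree.leaf)))) 667648 (NTree.node (NTree.node (NTree.node (NTree.node (NTree.node NTree.leaf 671745 NTree.leaf) 671746 NTree.leaf) 671776 (NTree.node NTree.leaf 671808 NTree.leaf)) 672000 (NTree.node (NTree.node (NTree.node NTree.leaf 672768 NTree.leaf) 675840 NTree.leaf) 679936 (NTree.node NTree.leaf 688129 NTree.leaf))) 688130 (NTree.node (NTree.node (NTree.node (NTree.node NTree.leaf 688144 NTree.leaf) 688256 NTree.leaf) 688640 (NTree.node NTree.leaf 690176 NTree.leaf)) 692224 (NTree.node (NTree.node NTree.leaf 696320 NTree.leaf) 704512 (NTree.node NTree.leaf 786435 NTree.leaf)))))) 786437 (NTree.node (NTree.node (NTree.node (NTree.node (NTree.node (NTree.node (NTree.node NTree.leaf 786438 NTree.leaf) 786441 NTree.leaf) 786442 (NTree.node NTree.leaf 786444 NTree.leaf)) 786449 (NTree.node (NTree.node (NTree.node NTree.leaf 786450 NTree.leaf) 786465 NTree.leaf) 786466 (NTree.node NTree.leaf 786480 NTree.leaf))) 786500 (NTree.node (NTree.node (NTree.node (NTree.node NTree.leaf 786504 NTree.leaf) 786512 NTree.leaf) 786528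 (NTree.node NTree.leaf 786564 NTree.leaf)) 786568 (NTree.node (NTree.node (NTree.node NTree.leaf 786576 NTree.leaf) 786592 NTree.leaf) 786624 (NTree.node NTree.leaf 786690 NTree.leaf)))) 786696 (NTree.node (NTree.node (NTree.node (NTree.node (NTree.node NTree.leaf 786704 NTree.leaf) 786816 NTree.leaf) 786945 (NTree.node NTree.leaf 786948 NTree.leaf)) 786976 (NTree.node (NTree.node (NTree.node NTree.leaf 787008 NTree.leaf) 787200 NTree.leaf) 787458 (NTree.node NTree.leaf 787464 NTree.leaf))) 787488 (NTree.node (NTree.node (NTree.node (NTree.node NTree.leaf 787520 NTree.leaf) 787712 NTree.leaf) 787968 (NTree.node NTree.leaf 788481 NTree.leaf)) 788484 (NTree.node (NTree.node (NTree.node NTree.leaf 788496 NTree.leaf) 788608 NTree.leaf) 788736 (NTree.node NTree.leaf 788992 NTree.leaf))))) 789504 (NTree.node (NTree.node (NTree.node (NTree.node (NTree.node (NTree.node NTree.leaf 790529 NTree.leaf) 790536 NTree.leaf) 790560 (NTree.node NTree.leaf 790656 NTree.leaf)) 790784 (NTree.node (NTree.node (NTree.node NTree.leaf 791040 NTree.leaf) 794626 NTree.leaf) 794628 (NTree.node NTree.leaf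 794640 NTree.leaf))) 794688 (NTree.node (NTree.node (NTree.node (NTree.node NTree.leaf 794880 NTree.leaf) 795136 NTree.leaf) 798720 (NTree.node NTree.leaf 802818 NTree.leaf)) 802820 (NTree.node (NTree.node (NTree.node NTree.leaf 802848 NTree.leaf) 802944 NTree.leaf) 803840 (NTree.node NTree.leaf 804864 NTree.leaf)))) 806912 (NTree.node (NTree.node (NTree.node (NTree.node (NTree.node NTree.leaf 811008 NTree.leaf) 819201 NTree.leaf) 819208 (NTree.node NTree.leaf 819216 NTree.leaf)) 819264 (NTree.node (NTree.node (NTree.node NTree.leaf 820224 NTree.leaf) 821248 NTree.leaf) 823296 (NTree.node NTree.leaf 827392 NTree.leaf))) 835584 (NTree.node (NTree.node (NTree.node (NTree.node NTree.leaf 1048849 NTree.leaf) 1048852 NTree.leaf) 1048856 (NTree.node NTree.leaf 1048865 NTree.leaf)) 1048866 (NTree.node (NTree.node NTree.leaf 1048872 NTree.leaf) 1048898 (NTree.node NTree.leaf 1048900 NTree.leaf))))))) 1048904 (NTree.node (NTree.node (NTree.node (NTree.node (NTree.node (NTree.node (NTree.node (NTree.node NTree.leaf 1048961 NTree.leaf) 1048962 NTree.leaf) 1048964 (NTree.node NTree.leaf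 1049105 NTree.leaf)) 1049106 (NTree.node (NTree.node (NTree.node NTree.leaf 1049108 NTree.leaf) 1049122 NTree.leaf) 1049124 (NTree.node NTree.leaf 1049128 NTree.leaf))) 1049153 (NTree.node (NTree.node (NTree.node (NTree.node NTree.leaf 1049154 NTree.leaf) 1049160 NTree.leaf) 1049217 (NTree.node NTree.leaf 1049220 NTree.leaf)) 1049224 (NTree.node (NTree.node (NTree.node NTree.leaf 1049617 NTree.leaf) 1049618 NTree.leaf) 1049624 (NTree.node NTree.leaf 1049633 NTree.leaf)))) 1049636 (NTree.node (NTree.node (NTree.node (NTree.node (NTree.node NTree.leaf 1049640 NTree.leaf) 1049665 NTree.leaf) 1049666 (NTree.node NTree.leaf 1049668 NTree.leaf)) 1049730 (NTree.node (NTree.node (NTree.node NTree.leaf 1049732 NTree.leaf) 1049736 NTree.leaf) 1050642 (NTree.node NTree.leaf 1050644 NTree.leaf))) 1050648 (NTree.node (NTree.node (NTree.node (NTree.node NTree.leaf 1050657 NTree.leaf) 1050658 NTree.leaf) 1050660 (NTree.node NTree.leaf 1050689 NTree.leaf)) 1050692 (NTree.node (NTree.node (NTree.node NTree.leaf 1050696 NTree.leaf) 1050753 NTree.leaf) 1050754 (NTree.node NTree.leaf 1050760 NTree.leaf)))))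 1052689 (NTree.node (NTree.node (NTree.node (NTree.node (NTree.node (NTree.node NTree.leaf 1052690 NTree.leaf) 1052696 NTree.leaf) 1052706 (NTree.node NTree.leaf 1052708 NTree.leaf)) 1052712 (NTree.node (NTree.node (NTree.node NTree.leaf 1052737 NTree.leaf) 1052740 NTree.leaf) 1052744 (NTree.node NTree.leaf 1052801 NTree.leaf))) 1052802 (NTree.node (NTree.node (NTree.node (NTree.node NTree.leaf 1052804 NTree.leaf) 1052929 NTree.leaf) 1052930 (NTree.node NTree.leaf 1052932 NTree.leaf)) 1052944 (NTree.node (NTree.node (NTree.node NTree.leaf 1052960 NTree.leaf) 1052992 NTree.leaf) 1053186 (NTree.node NTree.leaf 1053188 NTree.leaf)))) 1053192 (NTree.node (NTree.node (NTree.node (NTree.node (NTree.node NTree.leaf 1053200 NTree.leaf) 1053248 NTree.leaf) 1053312 (NTree.node NTree.leaf 1053697 NTree.leaf)) 1053698 (NTree.node (NTree.node (NTree.node NTree.leaf 1053704 NTree.leaf) 1053728 NTree.leaf) 1053760 (NTree.node NTree.leaf 1053824 NTree.leaf))) 1054721 (NTree.node (NTree.node (NTree.node (NTree.node NTree.leaf 1054724 NTree.leaf) 1054728 NTree.leaf) 1054736 (NTree.node NTree.leaf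 1054752 NTree.leaf)) 1054848 (NTree.node (NTree.node NTree.leaf 1056785 NTree.leaf) 1056788 (NTree.node NTree.leaf 1056792 NTree.leaf)))))) 1056801 (NTree.node (NTree.node (NTree.node (NTree.node (NTree.node (NTree.node (NTree.node NTree.leaf 1056802 NTree.leaf) 1056804 NTree.leaf) 1056833 (NTree.node NTree.leaf 1056834 NTree.leaf)) 1056840 (NTree.node (NTree.node (NTree.node NTree.leaf 1056898 NTree.leaf) 1056900 NTree.leaf) 1056904 (NTree.node NTree.leaf 1057025 NTree.leaf))) 1057028 (NTree.node (NTree.node (NTree.node (NTree.node NTree.leaf 1057032 NTree.leaf) 1057056 NTree.leaf) 1057088 (NTree.node NTree.leaf 1057152 NTree.leaf)) 1057281 (NTree.node (NTree.node (NTree.node NTree.leaf 1057282 NTree.leaf) 1057288 NTree.leaf) 1057296 (NTree.node NTree.leaf 1057312 NTree.leaf)))) 1057408 (NTree.node (NTree.node (NTree.node (NTree.node (NTree.node NTree.leaf 1057794 NTree.leaf) 1057796 NTree.leaf) 1057800 (NTree.node NTree.leaf 1057808 NTree.leaf)) 1057824 (NTree.node (NTree.node (NTree.node NTree.leaf 1057856 NTree.leaf) 1058817 NTree.leaf) 1058818 (NTree.node NTree.leaf 1058820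 NTree.leaf))) 1058832 (NTree.node (NTree.node (NTree.node (NTree.node NTree.leaf 1058880 NTree.leaf) 1058944 NTree.leaf) 1064977 (NTree.node NTree.leaf 1064978 NTree.leaf)) 1064980 (NTree.node (NTree.node NTree.leaf 1064993 NTree.leaf) 1064996 (NTree.node NTree.leaf 1065000 NTree.leaf))))) 1065026 (NTree.node (NTree.node (NTree.node (NTree.node (NTree.node (NTree.node NTree.leaf 1065028 NTree.leaf) 1065032 NTree.leaf) 1065089 (NTree.node NTree.leaf 1065090 NTree.leaf)) 1065096 (NTree.node (NTree.node (NTree.node NTree.leaf 1065218 NTree.leaf) 1065220 NTree.leaf) 1065224 (NTree.node NTree.leaf 1065232 NTree.leaf))) 1065248 (NTree.node (NTree.node (NTree.node (NTree.node NTree.leaf 1065344 NTree.leaf) 1065473 NTree.leaf) 1065474 (NTree.node NTree.leaf 1065476 NTree.leaf)) 1065504 (NTree.node (NTree.node (NTree.node NTree.leaf 1065536 NTree.leaf) 1065600 NTree.leaf) 1065985 (NTree.node NTree.leaf 1065988 NTree.leaf)))) 1065992 (NTree.node (NTree.node (NTree.node (NTree.node (NTree.node NTree.leaf 1066000 NTree.leaf) 1066048 NTree.leaf) 1066112 (NTree.node NTree.leaf 1067009 NTree.leaf))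 1067010 (NTree.node (NTree.node (NTree.node NTree.leaf 1067016 NTree.leaf) 1067024 NTree.leaf) 1067040 (NTree.node NTree.leaf 1067072 NTree.leaf))) 1081362 (NTree.node (NTree.node (NTree.node (NTree.node NTree.leaf 1081364 NTree.leaf) 1081368 NTree.leaf) 1081377 (NTree.node NTree.leaf 1081378 NTree.leaf)) 1081384 (NTree.node (NTree.node NTree.leaf 1081409 NTree.leaf) 1081410 (NTree.node NTree.leaf 1081412 NTree.leaf)))))))) 1081473 (NTree.node (NTree.node (NTree.node (NTree.node (NTree.node (NTree.node (NTree.node (NTree.node (NTree.node NTree.leaf 1081476 NTree.leaf) 1081480 NTree.leaf) 1081601 (NTree.node NTree.leaf 1081602 NTree.leaf)) 1081608 (NTree.node (NTree.node (NTree.node NTree.leaf 1081616 NTree.leaf) 1081664 NTree.leaf) 1081728 (NTree.node NTree.leaf 1081857 NTree.leaf))) 1081860 (NTree.node (NTree.node (NTree.node (NTree.node NTree.leaf 1081864 NTree.leaf) 1081872 NTree.leaf) 1081888 (NTree.node NTree.leaf 1081920 NTree.leaf)) 1082369 (NTree.node (NTree.node (NTree.node NTree.leaf 1082370 NTree.leaf) 1082372 NTree.leaf) 1082384 (NTree.node NTree.leaf 1082400 NTree.leaf))))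 1082496 (NTree.node (NTree.node (NTree.node (NTree.node (NTree.node NTree.leaf 1083394 NTree.leaf) 1083396 NTree.leaf) 1083400 (NTree.node NTree.leaf 1083424 NTree.leaf)) 1083456 (NTree.node (NTree.node (NTree.node NTree.leaf 1083520 NTree.leaf) 1114130 NTree.leaf) 1114132 (NTree.node NTree.leaf 1114136 NTree.leaf))) 1114145 (NTree.node (NTree.node (NTree.node (NTree.node NTree.leaf 1114148 NTree.leaf) 1114152 NTree.leaf) 1114177 (NTree.node NTree.leaf 1114178 NTree.leaf)) 1114184 (NTree.node (NTree.node (NTree.node NTree.leaf 1114241 NTree.leaf) 1114242 NTree.leaf) 1114244 (NTree.node NTree.leaf 1114369 NTree.leaf))))) 1114370 (NTree.node (NTree.node (NTree.node (NTree.node (NTree.node (NTree.node NTree.leaf 1114372 NTree.leaf) 1114384 NTree.leaf) 1114400 (NTree.node NTree.leaf 1114432 NTree.leaf)) 1114625 (NTree.node (NTree.node (NTree.node NTree.leaf 1114626 NTree.leaf) 1114632 NTree.leaf) 1114640 (NTree.node NTree.leaf 1114656 NTree.leaf))) 1114752 (NTree.node (NTree.node (NTree.node (NTree.node NTree.leaf 1115137 NTree.leaf) 1115140 NTree.leaf) 1115144 (NTree.node NTree.leaf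 1115152 NTree.leaf)) 1115200 (NTree.node (NTree.node (NTree.node NTree.leaf 1115264 NTree.leaf) 1116162 NTree.leaf) 1116164 (NTree.node NTree.leaf 1116168 NTree.leaf)))) 1116192 (NTree.node (NTree.node (NTree.node (NTree.node (NTree.node NTree.leaf 1116224 NTree.leaf) 1116288 NTree.leaf) 1118209 (NTree.node NTree.leaf 1118210 NTree.leaf)) 1118212 (NTree.node (NTree.node (NTree.node NTree.leaf 1118224 NTree.leaf) 1118240 NTree.leaf) 1118272 (NTree.node NTree.leaf 1118720 NTree.leaf))) 1119232 (NTree.node (NTree.node (NTree.node (NTree.node NTree.leaf 1120256 NTree.leaf) 1122305 NTree.leaf) 1122306 (NTree.node NTree.leaf 1122312 NTree.leaf)) 1122320 (NTree.node (NTree.node NTree.leaf 1122336 NTree.leaf) 1122432 (NTree.node NTree.leaf 1122560 NTree.leaf)))))) 1123328 (NTree.node (NTree.node (NTree.node (NTree.node (NTree.node (NTree.node (NTree.node NTree.leaf 1124352 NTree.leaf) 1130497 NTree.leaf) 1130500 (NTree.node NTree.leaf 1130504 NTree.leaf)) 1130512 (NTree.node (NTree.node (NTree.node NTree.leaf 1130560 NTree.leaf) 1130624 NTree.leaf) 1130752 (NTree.node NTree.leaf 1131008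 NTree.leaf))) 1132544 (NTree.node (NTree.node (NTree.node (NTree.node NTree.leaf 1146882 NTree.leaf) 1146884 NTree.leaf) 1146888 (NTree.node NTree.leaf 1146912 NTree.leaf)) 1146944 (NTree.node (NTree.node (NTree.node NTree.leaf 1147008 NTree.leaf) 1147136 NTree.leaf) 1147392 (NTree.node NTree.leaf 1147904 NTree.leaf)))) 1179665 (NTree.node (NTree.node (NTree.node (NTree.node (NTree.node NTree.leaf 1179668 NTree.leaf) 1179672 NTree.leaf) 1179682 (NTree.node NTree.leaf 1179684 NTree.leaf)) 1179688 (NTree.node (NTree.node (NTree.node NTree.leaf 1179713 NTree.leaf) 1179714 NTree.leaf) 1179716 (NTree.node NTree.leaf 1179777 NTree.leaf))) 1179778 (NTree.node (NTree.node (NTree.node (NTree.node NTree.leaf 1179784 NTree.leaf) 1179905 NTree.leaf) 1179908 (NTree.node NTree.leaf 1179912 NTree.leaf)) 1179936 (NTree.node (NTree.node (NTree.node NTree.leaf 1179968 NTree.leaf) 1180032 NTree.leaf) 1180162 (NTree.node NTree.leaf 1180164 NTree.leaf))))) 1180168 (NTree.node (NTree.node (NTree.node (NTree.node (NTree.node (NTree.node NTree.leaf 1180176 NTree.leaf) 1180224 NTree.leaf) 1180288 (NTree.node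 NTree.leaf 1180673 NTree.leaf)) 1180674 (NTree.node (NTree.node (NTree.node NTree.leaf 1180676 NTree.leaf) 1180688 NTree.leaf) 1180704 (NTree.node NTree.leaf 1180800 NTree.leaf))) 1181697 (NTree.node (NTree.node (NTree.node (NTree.node NTree.leaf 1181698 NTree.leaf) 1181704 NTree.leaf) 1181712 (NTree.node NTree.leaf 1181728 NTree.leaf)) 1181760 (NTree.node (NTree.node (NTree.node NTree.leaf 1183746 NTree.leaf) 1183748 NTree.leaf) 1183752 (NTree.node NTree.leaf 1183760 NTree.leaf)))) 1183808 (NTree.node (NTree.node (NTree.node (NTree.node (NTree.node NTree.leaf 1183872 NTree.leaf) 1184000 NTree.leaf) 1184768 (NTree.node NTree.leaf 1185792 NTree.leaf)) 1187841 (NTree.node (NTree.node (NTree.node NTree.leaf 1187844 NTree.leaf) 1187848 NTree.leaf) 1187872 (NTree.node NTree.leaf 1187904 NTree.leaf))) 1187968 (NTree.node (NTree.node (NTree.node (NTree.node NTree.leaf 1188352 NTree.leaf) 1188864 NTree.leaf) 1189888 (NTree.node NTree.leaf 1196033 NTree.leaf)) 1196034 (NTree.node (NTree.node NTree.leaf 1196040 NTree.leaf) 1196048 (NTree.node NTree.leaf 1196064 NTree.leaf))))))) 1196096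 (NTree.node (NTree.node (NTree.node (NTree.node (NTree.node (NTree.node (NTree.node (NTree.node NTree.leaf 1196288 NTree.leaf) 1196544 NTree.leaf) 1197056 (NTree.node NTree.leaf 1212417 NTree.leaf)) 1212418 (NTree.node (NTree.node (NTree.node NTree.leaf 1212420 NTree.leaf) 1212432 NTree.leaf) 1212448 (NTree.node NTree.leaf 1212544 NTree.leaf))) 1212672 (NTree.node (NTree.node (NTree.node (NTree.node NTree.leaf 1212928 NTree.leaf) 1214464 NTree.leaf) 1310737 (NTree.node NTree.leaf 1310738 NTree.leaf)) 1310744 (NTree.node (NTree.node (NTree.node NTree.leaf 1310753 NTree.leaf) 1310754 NTree.leaf) 1310756 (NTree.node NTree.leaf 1310786 NTree.leaf)))) 1310788 (NTree.node (NTree.node (NTree.node (NTree.node (NTree.node NTree.leaf 1310792 NTree.leaf) 1310849 NTree.leaf) 1310852 (NTree.node NTree.leaf 1310856 NTree.leaf)) 1310978 (NTree.node (NTree.node (NTree.node NTree.leaf 1310980 NTree.leaf) 1310984 NTree.leaf) 1310992 (NTree.node NTree.leaf 1311008 NTree.leaf))) 1311104 (NTree.node (NTree.node (NTree.node (NTree.node NTree.leaf 1311233 NTree.leaf) 1311236 NTree.leaf) 1311240 (NTree.node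 NTree.leaf 1311248 NTree.leaf)) 1311264 (NTree.node (NTree.node (NTree.node NTree.leaf 1311296 NTree.leaf) 1311745 NTree.leaf) 1311746 (NTree.node NTree.leaf 1311752 NTree.leaf))))) 1311776 (NTree.node (NTree.node (NTree.node (NTree.node (NTree.node (NTree.node NTree.leaf 1311808 NTree.leaf) 1311872 NTree.leaf) 1312769 (NTree.node NTree.leaf 1312770 NTree.leaf)) 1312772 (NTree.node (NTree.node (NTree.node NTree.leaf 1312784 NTree.leaf) 1312832 NTree.leaf) 1312896 (NTree.node NTree.leaf 1314817 NTree.leaf))) 1314818 (NTree.node (NTree.node (NTree.node (NTree.node NTree.leaf 1314824 NTree.leaf) 1314848 NTree.leaf) 1314880 (NTree.node NTree.leaf 1314944 NTree.leaf)) 1315072 (NTree.node (NTree.node (NTree.node NTree.leaf 1315328 NTree.leaf) 1316864 NTree.leaf) 1318913 (NTree.node NTree.leaf 1318914 NTree.leaf)))) 1318916 (NTree.node (NTree.node (NTree.node (NTree.node (NTree.node NTree.leaf 1318928 NTree.leaf) 1318976 NTree.leaf) 1319040 (NTree.node NTree.leaf 1319168 NTree.leaf)) 1319424 (NTree.node (NTree.node (NTree.node NTree.leaf 1319936 NTree.leaf) 1327106 NTree.leaf) 1327108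 (NTree.node NTree.leaf 1327112 NTree.leaf))) 1327120 (NTree.node (NTree.node (NTree.node (NTree.node NTree.leaf 1327136 NTree.leaf) 1327232 NTree.leaf) 1327616 (NTree.node NTree.leaf 1328128 NTree.leaf)) 1329152 (NTree.node (NTree.node NTree.leaf 1343489 NTree.leaf) 1343492 (NTree.node NTree.leaf 1343496 NTree.leaf)))))) 1343504 (NTree.node (NTree.node (NTree.node (NTree.node (NTree.node (NTree.node (NTree.node NTree.leaf 1343520 NTree.leaf) 1343552 NTree.leaf) 1343744 (NTree.node NTree.leaf 1344512 NTree.leaf)) 1345536 (NTree.node (NTree.node (NTree.node NTree.leaf 1572881 NTree.leaf) 1572882 NTree.leaf) 1572884 (NTree.node NTree.leaf 1572897 NTree.leaf))) 1572898 (NTree.node (NTree.node (NTree.node (NTree.node NTree.leaf 1572904 NTree.leaf) 1572929 NTree.leaf) 1572932 (NTree.node NTree.leaf 1572936 NTree.leaf)) 1572994 (NTree.node (NTree.node (NTree.node NTree.leaf 1572996 NTree.leaf) 1573000 NTree.leaf) 1573121 (NTree.node NTree.leaf 1573122 NTree.leaf)))) 1573128 (NTree.node (NTree.node (NTree.node (NTree.node (NTree.node NTree.leaf 1573136 NTree.leaf) 1573184 NTree.leaf)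 1573248 (NTree.node NTree.leaf 1573377 NTree.leaf)) 1573378 (NTree.node (NTree.node (NTree.node NTree.leaf 1573380 NTree.leaf) 1573408 NTree.leaf) 1573440 (NTree.node NTree.leaf 1573504 NTree.leaf))) 1573890 (NTree.node (NTree.node (NTree.node (NTree.node NTree.leaf 1573892 NTree.leaf) 1573896 NTree.leaf) 1573904 (NTree.node NTree.leaf 1573920 NTree.leaf)) 1573952 (NTree.node (NTree.node NTree.leaf 1574913 NTree.leaf) 1574916 (NTree.node NTree.leaf 1574920 NTree.leaf))))) 1574928 (NTree.node (NTree.node (NTree.node (NTree.node (NTree.node (NTree.node NTree.leaf 1574944 NTree.leaf) 1575040 NTree.leaf) 1576961 (NTree.node NTree.leaf 1576964 NTree.leaf)) 1576968 (NTree.node (NTree.node (NTree.node NTree.leaf 1576976 NTree.leaf) 1576992 NTree.leaf) 1577088 (NTree.node NTree.leaf 1577216 NTree.leaf))) 1577472 (NTree.node (NTree.node (NTree.node (NTree.node NTree.leaf 1577984 NTree.leaf) 1581058 NTree.leaf) 1581060 (NTree.node NTree.leaf 1581064 NTree.leaf)) 1581072 (NTree.node (NTree.node (NTree.node NTree.leaf 1581088 NTree.leaf) 1581120 NTree.leaf) 1581312 (NTree.node NTree.leaf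 1581568 NTree.leaf)))) 1583104 (NTree.node (NTree.node (NTree.node (NTree.node (NTree.node NTree.leaf 1589249 NTree.leaf) 1589250 NTree.leaf) 1589252 (NTree.node NTree.leaf 1589280 NTree.leaf)) 1589312 (NTree.node (NTree.node (NTree.node NTree.leaf 1589376 NTree.leaf) 1589504 NTree.leaf) 1590272 (NTree.node NTree.leaf 1591296 NTree.leaf))) 1605633 (NTree.node (NTree.node (NTree.node (NTree.node NTree.leaf 1605634 NTree.leaf) 1605640 NTree.leaf) 1605648 (NTree.node NTree.leaf 1605696 NTree.leaf)) 1605760 (NTree.node (NTree.node NTree.leaf 1606144 NTree.leaf) 1606656 (NTree.node NTree.leaf 1607680 NTree.leaf)))))))))))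

end Cfsg.Agent.Lib.Helper6.PG4
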