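import Mathlib
import Cfsg.Prelude.Def_Sporadic_a
import Cfsg.Agent.Lib.Helper6.PG4HyperData

/-! The hyperovals of the projective plane of order four. -/

set_option autoImplicit false
set_option maxRecDepth 1000000

namespace Cfsg.Agent.Lib.Helper6.PG4

open Cfsg Cfsg.Agent.Lib.Helper6.SteinerSearch Cfsg.Agent.Lib.Helper6.SteinerG

/-- independence of a mask: no line meets it in three points -/
def indepM (m : ℕ) : Bool := B0.all (fun l => !geN 3 (Nat.land l m))

/-- independence of a set of points of the reference plane -/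
def Indep (S : Finset (Fin 21)) : Prop := ∀ l ∈ B0set 21 B0, (l ∩ S).card ≤ 2

theorem indep_iff_compat (S : Finset (Fin 21)) :
    Indep S ↔ ∀ p ∈ B0, (dec 21 p ∩ S).card ≤ 2 := by
  constructor
  · intro h p hp
    exact h _ ⟨p, hp, rfl⟩
  · rintro h l ⟨p, hp, rfl⟩
    exact h p hp

theorem indep_dec {m : ℕ} (hm : m < 2 ^ 21) : Indep (dec 21 m) ↔ indepM m = true := by
  rw [indep_iff_compat]
  unfold indepM
  rw [List.all_eq_true]
  refine forall₂_congr (fun p _ => ?_)
  have hi := geN_iff (v := 21) 3 (Nat.land p m) (Nat.and_lt_two_pow p hm)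
  rw [dec_and] at hi
  cases hg : geN 3 (Nat.land p m) with
  | false =>
    rw [hg] at hi
    have : ¬ 3 ≤ (dec 21 p ∩ dec 21 m).card := fun h => by simpa using hi.2 h
    simp only [Bool.not_false, iff_true]
    omega
  | true =>
    rw [hg] at hi
    have := hi.1 rfl
    simp only [Bool.not_true, Bool.false_eq_true, iff_false]
    omega

theorem enum {f : ℕ → Bool} {need : ℕ} (h : ext 2 21 B0 f need 0 21 = true)
    (S : Finset (Fin 21)) (hc : S.card = need) (hi : Indep S) :
    ∃ m, m < 2 ^ 21 ∧ dec 21 m = S ∧ f m = true := by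
  obtain ⟨m, h1, h2, _, h4⟩ := ext_sound S ((indep_iff_compat S).1 hi) need 0 21 (by norm_num)
    (by rw [dec_zero]; exact Finset.empty_subset _)
    (by rw [dec_zero, Finset.sdiff_empty, hc]) (fun y _ => y.2) h
  exact ⟨m, h1, h2, h4⟩

theorem ncard_of_list {v : ℕ} (P : Finset (Fin v) → Prop) (l : List ℕ)
    (hl : ∀ m ∈ l, m < 2 ^ v) (hnd : l.Nodup) (h1 : ∀ S, P S → ∃ m ∈ l, dec v m = S)
    (h2 : ∀ m ∈ l, P (dec v m)) : {S | P S}.ncard = l.length := by
  classical
  have : {S | P S} = ↑((l.map (dec v)).toFinset) := by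
    ext S
    rw [Set.mem_ofPred_eq, Finset.mem_coe, List.mem_toFinset, List.mem_map]
    constructor
    · intro h
      exact h1 S h
    · rintro ⟨m, hm, rfl⟩
      exact h2 m hm
  rw [this, Set.ncard_coe_finset, List.toFinset_card_of_nodup, List.length_map]
  exact List.Nodup.map_on (fun x hx y hy h => dec_inj (hl x hx) (hl y hy) h) hnd

/-- the independent `4`-sets -/
def I4 : List ℕ := T4.toList

/-- the check of a list of independent sets -/
def listChk (k : ℕ) (l : List ℕ) : Bool :=
  l.all (fun m => decide (m < 2 ^ 21) && Nat.beq (popc m 21) k && indepM m)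

theorem listChk_spec {k : ℕ} {l : List ℕ} (h : listChk k l = true) :
    ∀ m ∈ l, m < 2 ^ 21 ∧ (dec 21 m).card = k ∧ Indep (dec 21 m) := by
  intro m hm
  unfold listChk at h
  rw [List.all_eq_true] at h
  have := h m hm
  simp only [Bool.and_eq_true, decide_eq_true_eq] at this
  obtain ⟨⟨h1, h2⟩, h3⟩ := this
  refine ⟨h1, ?_, (indep_dec h1).2 h3⟩
  rw [card_dec]
  exact Nat.eq_of_beq_eq_true h2

theorem c1 : ext 2 21 B0 (fun m => T4.mem m) 4 0 21 = true := by decide +kernel

theorem c2 : ext 2 21 B0 (fun m => lmem m H6) 6 0 21 = true := by decide +kernel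

theorem c3 : listChk 4 I4 = true := by decide +kernel

theorem c3s : sincr I4 = true := by decide +kernel

theorem c3l : I4.length = 2520 := by decide +kernel

theorem c4 : listChk 6 H6 = true := by decide +kernel

theorem c4s : sincr H6 = true := by decide +kernel

theorem c4l : H6.length = 168 := by decide +kernel

theorem c5a : leq (I4H.map Prod.fst) I4 = true := by decide +kernel

theorem c5 : I4H.all (fun e => covB e.1 e.2 && lmem e.2 H6 &&
    H6.all (fun h => !covB e.1 h || Nat.beq h e.2)) = true := by decide +kernel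

theorem mem_I4 (S : Finset (Fin 21)) (hc : S.card = 4) (hi : Indep S) :
    ∃ m ∈ I4, dec 21 m = S := by
  obtain ⟨m, _, h2, h3⟩ := enum c1 S hc hi
  exact ⟨m, NTree.mem_sound T4 h3, h2⟩

theorem mem_H6 (S : Finset (Fin 21)) (hc : S.card = 6) (hi : Indep S) :
    ∃ m ∈ H6, dec 21 m = S := by
  obtain ⟨m, _, h2, h3⟩ := enum c2 S hc hi
  exact ⟨m, lmem_iff.1 h3, h2⟩

theorem ncard_I4 : {S : Finset (Fin 21) | S.card = 4 ∧ Indep S}.ncard = 2520 := by
  rw [← c3l]
  exact ncard_of_list (fun S => S.card = 4 ∧ Indep S) I4 (fun m hm => (listChk_spec c3 m hm).1)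
    (nodup_of_sincr _ c3s) (fun S hS => mem_I4 S hS.1 hS.2)
    (fun m hm => (listChk_spec c3 m hm).2)

theorem ncard_H6 : {S : Finset (Fin 21) | S.card = 6 ∧ Indep S}.ncard = 168 := by
  rw [← c4l]
  exact ncard_of_list (fun S => S.card = 6 ∧ Indep S) H6 (fun m hm => (listChk_spec c4 m hm).1)
    (nodup_of_sincr _ c4s) (fun S hS => mem_H6 S hS.1 hS.2)
    (fun m hm => (listChk_spec c4 m hm).2)

theorem unique_hyperoval (S : Finset (Fin 21)) (hc : S.card = 4) (hi : Indep S) :
    ∃! H : Finset (Fin 21), (H.card = 6 ∧ Indep H) ∧ S ⊆ H := by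
  obtain ⟨m, hm, rfl⟩ := mem_I4 S hc hi
  have hmlt := (listChk_spec c3 m hm).1
  rw [← leq_iff.1 c5a, List.mem_map] at hm
  obtain ⟨e, he, rfl⟩ := hm
  have h5 := List.all_eq_true.1 c5 e he
  simp only [Bool.and_eq_true, List.all_eq_true, Bool.or_eq_true, Bool.not_eq_true'] at h5
  obtain ⟨⟨h51, h52⟩, h53⟩ := h5
  have hH := listChk_spec c4 e.2 (lmem_iff.1 h52)
  refine ⟨dec 21 e.2, ⟨⟨hH.2.1, hH.2.2⟩, dec_subset_of_covB h51⟩, ?_⟩
  rintro H' ⟨⟨hc', hi'⟩, hsub⟩
  obtain ⟨h', hh', rfl⟩ := mem_H6 H' hc' hi'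
  rcases h53 h' hh' with h6 | h6
  · rw [covB_of_dec_subset hmlt hsub] at h6
    exact absurd h6 (by simp)
  · rw [Nat.eq_of_beq_eq_true h6]

/-! ### Transport to an arbitrary plane -/

section transport

variable {α : Type*} [DecidableEq α] {L : Set (Finset α)} (e : α ≃ Fin 21)

theorem indep_transport (he : ∀ a, a ∈ L ↔ a.image e ∈ B0set 21 B0) (S : Finset α) :
    (∀ l ∈ L, (l ∩ S).card ≤ 2) ↔ Indep (S.image e) := by
  constructor
  · intro h l' hl'
    have hl : l'.image e.symm ∈ L := by
      rw [he, image_symm_imageE]; exact hl'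
    have := h _ hl
    rw [← Finset.card_image_of_injective _ e.injective, Finset.image_inter _ _ e.injective,
      image_symm_imageE] at this
    exact this
  · intro h l hl
    have := h _ ((he l).1 hl)
    rw [← Finset.image_inter _ _ e.injective, Finset.card_image_of_injective _ e.injective] at this
    exact this

theorem ncard_transport (he : ∀ a, a ∈ L ↔ a.image e ∈ B0set 21 B0) (k : ℕ) :
    {S : Finset α | S.card = k ∧ ∀ l ∈ L, (l ∩ S).card ≤ 2}.ncard =
      {S : Finset (Fin 21) | S.card = k ∧ Indep S}.ncard := by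
  have hinj : Function.Injective (fun S : Finset α => S.image e) :=
    Finset.image_injective e.injective
  rw [← Set.ncard_image_of_injective _ hinj]
  congr 1
  ext S'
  constructor
  · rintro ⟨S, ⟨hc, hi⟩, rfl⟩
    exact ⟨by rw [Finset.card_image_of_injective _ e.injective, hc],
      (indep_transport e he S).1 hi⟩
  · rintro ⟨hc, hi⟩
    refine ⟨S'.image e.symm, ⟨?_, ?_⟩, image_symm_imageE e S'⟩
    · rw [Finset.card_image_of_injective _ e.symm.injective, hc]
    · rw [indep_transport e he, image_symm_imageE]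
      exact hi

theorem unique_hyperoval_transport (he : ∀ a, a ∈ L ↔ a.image e ∈ B0set 21 B0) (S : Finset α)
    (hS : S.card = 4 ∧ ∀ l ∈ L, (l ∩ S).card ≤ 2) :
    ∃! H : Finset α, (H.card = 6 ∧ ∀ l ∈ L, (l ∩ H).card ≤ 2) ∧ S ⊆ H := by
  obtain ⟨H', ⟨⟨hc', hi'⟩, hsub'⟩, huniq⟩ := unique_hyperoval (S.image e)
    (by rw [Finset.card_image_of_injective _ e.injective, hS.1])
    ((indep_transport e he S).1 hS.2)
  refine ⟨H'.image e.symm, ⟨⟨?_, ?_⟩, ?_⟩, ?_⟩
  · rw [Finset.card_image_of_injective _ e.symm.injective, hc']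
  · rw [indep_transport e he, image_symm_imageE]
    exact hi'
  · have := Finset.image_subset_image (f := e.symm) hsub'
    rwa [image_image_symmE] at this
  · rintro H ⟨⟨hc, hi⟩, hsub⟩
    have := huniq (H.image e) ⟨⟨by rw [Finset.card_image_of_injective _ e.injective, hc],
      (indep_transport e he H).1 hi⟩, Finset.image_subset_image hsub⟩
    rw [← this, image_image_symmE]

end transport

end Cfsg.Agent.Lib.Helper6.PG4
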