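import Cfsg.Agent.Lib.Helper6.PJ1CTCData
import Cfsg.Agent.Lib.Helper6.PJ1CSE
import Cfsg.Agent.Lib.Helper6.PJ1CSJ
import Cfsg.Agent.Lib.Helper6.PJ1CSM

/-! # PJ1C: the table with a proof for every entry -/

set_option autoImplicit false

namespace Cfsg.Agent.Lib.Helper6.PJ1CTC

open Cfsg.Agent.Lib.Helper6.TC Cfsg.Agent.Lib.Helper6.TCGS

/-- the table with a proof for every entry -/
noncomputable def cert : SCert := ⟨cfg, 17, 25080, arrE, arrM, arrJ, arrJM, arrP, ivs⟩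

end Cfsg.Agent.Lib.Helper6.PJ1CTC
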