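import Cfsg.Agent.Lib.Helper6.PJ1CTCChk0
import Cfsg.Agent.Lib.Helper6.PJ1CSMRows0
import Cfsg.Agent.Lib.Helper6.PJ1CSMRows1
import Cfsg.Agent.Lib.Helper6.PJ1CSFin0
import Cfsg.Agent.Lib.Helper6.PJ1CSFin1

/-! # PJ1C: the coset enumeration is checked -/

set_option autoImplicit false

namespace Cfsg.Agent.Lib.Helper6.PJ1CTC

open Cfsg.Agent.Lib.Helper6.TC Cfsg.Agent.Lib.Helper6.TCGS

theorem chk_mrows : ∀ b < cert.N, cert.mslotOK b = true := by
  refine cert.mrows_of_ranges 16000 2 (by norm_num) (by show 25080 ≤ 2 * 16000; norm_num) ?_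
  intro f hf
  interval_cases f
  · exact chk_mrange0
  · exact chk_mrange1

theorem chk_fin : cert.finalOK 25080 = true := by
  refine cert.finalOK_of_chunks 25080 2000 13 (by norm_num) (by show 25080 ≤ 13 * 2000; norm_num) ?_
  intro k hk
  interval_cases k
  · exact chk_fin0
  · exact chk_fin1
  · exact chk_fin2
  · exact chk_fin3
  · exact chk_fin4
  · exact chk_fin5
  · exact chk_fin6
  · exact chk_fin7
  · exact chk_fin8
  · exact chk_fin9
  · exact chk_fin10
  · exact chk_fin11
  · exact chk_fin12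

theorem hrun : RunCertG cfg ivs tab.n :=
  RunCertG.of_static cert 25080 (by norm_num) chk_rows chk_mrows chk_fin

end Cfsg.Agent.Lib.Helper6.PJ1CTC
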