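import Cfsg.Agent.Lib.Helper6.TCGStatic

/-! # Coset enumeration data for PM11B: the entries of the table with their times (generated) -/

set_option autoImplicit false
set_option maxRecDepth 1000000
set_option maxHeartbeats 40000000

namespace Cfsg.Agent.Lib.Helper6.PM11BTC

open Cfsg.Agent.Lib.Helper6.TC Cfsg.Agent.Lib.Helper6.TCGS

/-- the entries of the table with their times -/
noncomputable def arrE : BT :=
  .leaf 0xb19af7b5a000ab6000000b7ba75b3b000000000b8b9f4a14adb995933953000a9a8b18d19b7a598308500007eea389d878d76c9779176ec72d00000066b68b8f68960006298758155e90000000007d40005685887127b34e55057536d24614816b165126a3ca2273483eb24b6105cf1e738736a1a65ae54e16620a3a91c91881471233030e228352d4cd4244040a22c22a50613261060210c52e40840430024ac44c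

end Cfsg.Agent.Lib.Helper6.PM11BTC
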