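import Cfsg.Agent.Lib.Helper6.TCGStatic

/-! # Coset enumeration data for PM11B: the reasons for the entries of the table (generated) -/

set_option autoImplicit false
set_option maxRecDepth 1000000
set_option maxHeartbeats 40000000

namespace Cfsg.Agent.Lib.Helper6.PM11BTC

open Cfsg.Agent.Lib.Helper6.TC Cfsg.Agent.Lib.Helper6.TCGS

/-- the reasons for the entries of the table -/
noncomputable def arrJ : BT :=
  .leaf 0xb002818000001b00401800000000000040000000000000000001000000400000100000000000000000002c0642a0000006600406000000240200600000064004060000000000000000000600040600000040000000000005e0040600000000000010000004000000580281800000100000040000000000004000001000000000000000000054016060000004000000000000000000100000040000000000004000000000000000000000000000000000000004e004060000838000001000000480040600000000000000000004000406000000400000000000052004060000004a0080a000000400000000000000000000000004c00406000000400000100000040000000000004000000000000400000000000000000000000004400406000000400080a0000004000000000000400000a0000004200406000000400000100000040000000000004000000000000400000000000000000000000004000000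

end Cfsg.Agent.Lib.Helper6.PM11BTC
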