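import Cfsg.Agent.Lib.Helper6.TCGStatic

/-! # Coset enumeration data for PM11B: the merge map, its reasons, the definitions of the rows (generated) -/

set_option autoImplicit false
set_option maxRecDepth 1000000
set_option maxHeartbeats 40000000

namespace Cfsg.Agent.Lib.Helper6.PM11BTC

open Cfsg.Agent.Lib.Helper6.TC Cfsg.Agent.Lib.Helper6.TCGS

/-- the merge map with its times -/
noncomputable def arrM : BT :=
  .leaf 0xbc8c0ec8ae91c46e54cc7f0ad83000f4bd09d49ec8e05dc1000000000000000000000000000000000

/-- the reasons for the entries of the merge map -/
noncomputable def arrJM : BT :=
  .leaf 0x340344cd00080b400602a80000b400402c80180b000602680180ac000020000002600002a000009e00402380f132400602900100800000000000000000000000000000000000000000000000000000000000000000000000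

/-- the definitions of the rows -/
noncomputable def arrP : BT :=
  .leaf 0x58ea5429848200f069acd64a241a08e04000240c4602994840120800c0400

end Cfsg.Agent.Lib.Helper6.PM11BTC
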