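import Cfsg.Agent.Lib.Helper6.PM11BSCert

/-! # PM11B: the kernel check of the rows from 0 on -/

set_option autoImplicit false

namespace Cfsg.Agent.Lib.Helper6.PM11BTC

open Cfsg.Agent.Lib.Helper6.TC Cfsg.Agent.Lib.Helper6.TCGS

theorem chk_rows0_0 : cert.rowsOK 0 2 = true := by decide +kernel

theorem chk_rows0_1 : cert.rowsOK 2 2 = true := by decide +kernel

theorem chk_rows0_2 : cert.rowsOK 4 2 = true := by decide +kernel

theorem chk_rows0_3 : cert.rowsOK 6 2 = true := by decide +kernel

theorem chk_rows0_4 : cert.rowsOK 8 2 = true := by decide +kernel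

theorem chk_rows0_5 : cert.rowsOK 10 2 = true := by decide +kernel

theorem chk_rows0_6 : cert.rowsOK 12 2 = true := by decide +kernel

theorem chk_rows0_7 : cert.rowsOK 14 2 = true := by decide +kernel

theorem chk_rows0_8 : cert.rowsOK 16 2 = true := by decide +kernel

theorem chk_rows0_9 : cert.rowsOK 18 2 = true := by decide +kernel

theorem chk_rows0_10 : cert.rowsOK 20 2 = true := by decide +kernel

theorem chk_rows0_11 : cert.rowsOK 22 2 = true := by decide +kernel

theorem chk_rows0_12 : cert.rowsOK 24 2 = true := by decide +kernel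

theorem chk_rows0_13 : cert.rowsOK 26 2 = true := by decide +kernel

theorem chk_rows0_14 : cert.rowsOK 28 2 = true := by decide +kernel

theorem chk_rows0_15 : cert.rowsOK 30 2 = true := by decide +kernel

theorem chk_rows0_16 : cert.rowsOK 32 2 = true := by decide +kernel

theorem chk_rows0_17 : cert.rowsOK 34 2 = true := by decide +kernel

theorem chk_rows0_18 : cert.rowsOK 36 2 = true := by decide +kernel

theorem chk_rows0_19 : cert.rowsOK 38 2 = true := by decide +kernel

theorem chk_rows0_20 : cert.rowsOK 40 2 = true := by decide +kernel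

theorem chk_rows0_21 : cert.rowsOK 42 2 = true := by decide +kernel

theorem chk_rows0_22 : cert.rowsOK 44 2 = true := by decide +kernel

theorem chk_rows0_23 : cert.rowsOK 46 2 = true := by decide +kernel

theorem chk_range0 : ∀ a, 0 ≤ a → a < 48 → ∀ x < cert.c.g, cert.slotOK a x = true := by
  refine cert.range_of_chunks 0 2 24 (by norm_num) ?_
  intro k hk
  interval_cases k
  · exact chk_rows0_0
  · exact chk_rows0_1
  · exact chk_rows0_2
  · exact chk_rows0_3
  · exact chk_rows0_4
  · exact chk_rows0_5
  · exact chk_rows0_6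
  · exact chk_rows0_7
  · exact chk_rows0_8
  · exact chk_rows0_9
  · exact chk_rows0_10
  · exact chk_rows0_11
  · exact chk_rows0_12
  · exact chk_rows0_13
  · exact chk_rows0_14
  · exact chk_rows0_15
  · exact chk_rows0_16
  · exact chk_rows0_17
  · exact chk_rows0_18
  · exact chk_rows0_19
  · exact chk_rows0_20
  · exact chk_rows0_21
  · exact chk_rows0_22
  · exact chk_rows0_23

end Cfsg.Agent.Lib.Helper6.PM11BTC
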