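import Cfsg.Agent.Lib.Helper6.TCPerm

/-! # Coset enumeration data for PM11B: the coset table (generated) -/

set_option autoImplicit false
set_option maxRecDepth 1000000
set_option maxHeartbeats 40000000

namespace Cfsg.Agent.Lib.Helper6.PM11BTC

open Cfsg.Agent.Lib.Helper6.TC

/-- the coset table -/
noncomputable def arrT : BT :=
  .leaf 0xbbaa78bb9977a6886a998733235544225166154432110

end Cfsg.Agent.Lib.Helper6.PM11BTC
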