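import Cfsg.Agent.Lib.Helper6.PM11CTCChk0
import Cfsg.Agent.Lib.Helper6.PM11CSMRows0
import Cfsg.Agent.Lib.Helper6.PM11CSFin0

/-! # PM11C: the coset enumeration is checked -/

set_option autoImplicit false

namespace Cfsg.Agent.Lib.Helper6.PM11CTC

open Cfsg.Agent.Lib.Helper6.TC Cfsg.Agent.Lib.Helper6.TCGS

theorem chk_mrows : ∀ b < cert.N, cert.mslotOK b = true := by
  refine cert.mrows_of_ranges 3096 1 (by norm_num) (by show 3095 ≤ 1 * 3096; norm_num) ?_
  intro f hf
  interval_cases f
  · exact chk_mrange0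

theorem chk_fin : cert.finalOK 720 = true := by
  refine cert.finalOK_of_chunks 720 720 1 (by norm_num) (by show 720 ≤ 1 * 720; norm_num) ?_
  intro k hk
  interval_cases k
  · exact chk_fin0

theorem hrun : RunCertG cfg ivs tab.n :=
  RunCertG.of_static cert 720 (by norm_num) chk_rows chk_mrows chk_fin

end Cfsg.Agent.Lib.Helper6.PM11CTC
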