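import Cfsg.Agent.Lib.Helper6.PS44BSCert

/-! # PS44B: the kernel check of the rows from 0 on -/

set_option autoImplicit false

namespace Cfsg.Agent.Lib.Helper6.PS44BTC

open Cfsg.Agent.Lib.Helper6.TC Cfsg.Agent.Lib.Helper6.TCGS

theorem chk_rows0_0 : cert.rowsOK 0 56 = true := by decide +kernel

theorem chk_rows0_1 : cert.rowsOK 56 56 = true := by decide +kernel

theorem chk_rows0_2 : cert.rowsOK 112 56 = true := by decide +kernel

theorem chk_rows0_3 : cert.rowsOK 168 56 = true := by decide +kernel

theorem chk_rows0_4 : cert.rowsOK 224 56 = true := by decide +kernel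

theorem chk_rows0_5 : cert.rowsOK 280 56 = true := by decide +kernel

theorem chk_rows0_6 : cert.rowsOK 336 56 = true := by decide +kernel

theorem chk_rows0_7 : cert.rowsOK 392 56 = true := by decide +kernel

theorem chk_rows0_8 : cert.rowsOK 448 56 = true := by decide +kernel

theorem chk_rows0_9 : cert.rowsOK 504 56 = true := by decide +kernel

theorem chk_rows0_10 : cert.rowsOK 560 56 = true := by decide +kernel

theorem chk_rows0_11 : cert.rowsOK 616 56 = true := by decide +kernel

theorem chk_rows0_12 : cert.rowsOK 672 56 = true := by decide +kernel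

theorem chk_rows0_13 : cert.rowsOK 728 56 = true := by decide +kernel

theorem chk_rows0_14 : cert.rowsOK 784 56 = true := by decide +kernel

theorem chk_rows0_15 : cert.rowsOK 840 56 = true := by decide +kernel

theorem chk_rows0_16 : cert.rowsOK 896 56 = true := by decide +kernel

theorem chk_rows0_17 : cert.rowsOK 952 56 = true := by decide +kernel

theorem chk_rows0_18 : cert.rowsOK 1008 56 = true := by decide +kernel

theorem chk_rows0_19 : cert.rowsOK 1064 56 = true := by decide +kernel

theorem chk_rows0_20 : cert.rowsOK 1120 56 = true := by decide +kernel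

theorem chk_rows0_21 : cert.rowsOK 1176 56 = true := by decide +kernel

theorem chk_rows0_22 : cert.rowsOK 1232 56 = true := by decide +kernel

theorem chk_rows0_23 : cert.rowsOK 1288 56 = true := by decide +kernel

theorem chk_range0 : ∀ a, 0 ≤ a → a < 1344 → ∀ x < cert.c.g, cert.slotOK a x = true := by
  refine cert.range_of_chunks 0 56 24 (by norm_num) ?_
  intro k hk
  interval_cases k
  · exact chk_rows0_0
  · exact chk_rows0_1
  · exact chk_rows0_2
  · exact chk_rows0_3
  · exact chk_rows0_4
  · exact chk_rows0_5
  · exact chk_rows0_6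
  · exact chk_rows0_7
  · exact chk_rows0_8
  · exact chk_rows0_9
  · exact chk_rows0_10
  · exact chk_rows0_11
  · exact chk_rows0_12
  · exact chk_rows0_13
  · exact chk_rows0_14
  · exact chk_rows0_15
  · exact chk_rows0_16
  · exact chk_rows0_17
  · exact chk_rows0_18
  · exact chk_rows0_19
  · exact chk_rows0_20
  · exact chk_rows0_21
  · exact chk_rows0_22
  · exact chk_rows0_23

end Cfsg.Agent.Lib.Helper6.PS44BTC
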