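import Cfsg.Agent.Lib.Helper6.PS44BTCChk0
import Cfsg.Agent.Lib.Helper6.PS44BSMRows0
import Cfsg.Agent.Lib.Helper6.PS44BSFin0

/-! # PS44B: the coset enumeration is checked -/

set_option autoImplicit false

namespace Cfsg.Agent.Lib.Helper6.PS44BTC

open Cfsg.Agent.Lib.Helper6.TC Cfsg.Agent.Lib.Helper6.TCGS

theorem chk_mrows : ∀ b < cert.N, cert.mslotOK b = true := by
  refine cert.mrows_of_ranges 1332 1 (by norm_num) (by show 1332 ≤ 1 * 1332; norm_num) ?_
  intro f hf
  interval_cases f
  · exact chk_mrange0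

theorem chk_fin : cert.finalOK 85 = true := by
  refine cert.finalOK_of_chunks 85 85 1 (by norm_num) (by show 85 ≤ 1 * 85; norm_num) ?_
  intro k hk
  interval_cases k
  · exact chk_fin0

theorem hrun : RunCertG cfg ivs tab.n :=
  RunCertG.of_static cert 85 (by norm_num) chk_rows chk_mrows chk_fin

end Cfsg.Agent.Lib.Helper6.PS44BTC
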