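import Cfsg.Agent.Lib.Helper6.TCPerm

/-! # Coset enumeration data for PS44B: the coset table (generated) -/

set_option autoImplicit false
set_option maxRecDepth 1000000
set_option maxHeartbeats 40000000

namespace Cfsg.Agent.Lib.Helper6.PS44BTC

open Cfsg.Agent.Lib.Helper6.TC

/-- the coset table -/
noncomputable def arrT : BT :=
  .leaf 0x54953a749ab3e7d28f4e9c6a7428459d1a34f874a942a152a517f56abf8b3264b7d366bd98f9f55772243ba90a13c712a5536d060b6a5468cda2d5ab278cd9d0630e1b19f264c0611e3af830204e9ab164c572e5ab96b56c490a954a929d3a84aa54b74899348649122372a14478c8912d43162b33e8101e69122388878f438474ec1367cf9b80bd7a1348d19a6af5eaa32fdfbe7a64c9858f1e252ee9d1774ddba62cedd954ee5cba5254ab928e1c146eb972026d9b355c4c99244d1a3422c181166c991c20c588f3a70e305e3c7ae5a3872c1aad58d54489295030627164080b4c952a4462852212850894060c1f3c2041d0e58b07386cd8c0c68d1930183051c5cb962a142880850a13241020314448901e0c18e0434682182c58a0224481101c3860a040840608100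

end Cfsg.Agent.Lib.Helper6.PS44BTC
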