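import Cfsg.Agent.Lib.Helper6.PS44CTCData
import Cfsg.Agent.Lib.Helper6.PS44CSE
import Cfsg.Agent.Lib.Helper6.PS44CSJ
import Cfsg.Agent.Lib.Helper6.PS44CSM

/-! # PS44C: the table with a proof for every entry -/

set_option autoImplicit false

namespace Cfsg.Agent.Lib.Helper6.PS44CTC

open Cfsg.Agent.Lib.Helper6.TC Cfsg.Agent.Lib.Helper6.TCGS

/-- the table with a proof for every entry -/
noncomputable def cert : SCert := ⟨cfg, 19, 83772, arrE, arrM, arrJ, arrJM, arrP, ivs⟩

end Cfsg.Agent.Lib.Helper6.PS44CTC
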