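import Cfsg.Agent.Lib.Helper6.TCGIndex
import Cfsg.Agent.Lib.Helper6.PS44CSRows0
import Cfsg.Agent.Lib.Helper6.PS44CSRows1
import Cfsg.Agent.Lib.Helper6.PS44CSRows2
import Cfsg.Agent.Lib.Helper6.PS44CSRows3

/-! # PS44C: the rows of the coset enumeration are checked -/

set_option autoImplicit false

namespace Cfsg.Agent.Lib.Helper6.PS44CTC

open Cfsg.Agent.Lib.Helper6.TC Cfsg.Agent.Lib.Helper6.TCGS

theorem chk_rows : ∀ a < cert.N, ∀ x < cert.c.g, cert.slotOK a x = true := by
  have r0 : ∀ a, a < 0 → ∀ x < cert.c.g, cert.slotOK a x = true := upto_zero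
  have r1 := upto_step (P := fun a => ∀ x < cert.c.g, cert.slotOK a x = true) r0 chk_range0
  have r2 := upto_step (P := fun a => ∀ x < cert.c.g, cert.slotOK a x = true) r1 chk_range1
  have r3 := upto_step (P := fun a => ∀ x < cert.c.g, cert.slotOK a x = true) r2 chk_range2
  have r4 := upto_step (P := fun a => ∀ x < cert.c.g, cert.slotOK a x = true) r3 chk_range3
  intro a ha
  exact r4 a (lt_of_lt_of_le ha (by show 83772 ≤ 98736; norm_num))

end Cfsg.Agent.Lib.Helper6.PS44CTC
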