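import Cfsg.Agent.Lib.Helper6.PS44CTCChk0
import Cfsg.Agent.Lib.Helper6.PS44CSMRows0
import Cfsg.Agent.Lib.Helper6.PS44CSMRows1
import Cfsg.Agent.Lib.Helper6.PS44CSMRows2
import Cfsg.Agent.Lib.Helper6.PS44CSMRows3
import Cfsg.Agent.Lib.Helper6.PS44CSMRows4
import Cfsg.Agent.Lib.Helper6.PS44CSMRows5
import Cfsg.Agent.Lib.Helper6.PS44CSFin0
import Cfsg.Agent.Lib.Helper6.PS44CSFin1
import Cfsg.Agent.Lib.Helper6.PS44CSFin2
import Cfsg.Agent.Lib.Helper6.PS44CSFin3

/-! # PS44C: the coset enumeration is checked -/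

set_option autoImplicit false

namespace Cfsg.Agent.Lib.Helper6.PS44CTC

open Cfsg.Agent.Lib.Helper6.TC Cfsg.Agent.Lib.Helper6.TCGS

theorem chk_mrows : ∀ b < cert.N, cert.mslotOK b = true := by
  refine cert.mrows_of_ranges 16000 6 (by norm_num) (by show 83772 ≤ 6 * 16000; norm_num) ?_
  intro f hf
  interval_cases f
  · exact chk_mrange0
  · exact chk_mrange1
  · exact chk_mrange2
  · exact chk_mrange3
  · exact chk_mrange4
  · exact chk_mrange5

theorem chk_fin : cert.finalOK 57600 = true := by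
  refine cert.finalOK_of_chunks 57600 2000 29 (by norm_num) (by show 57600 ≤ 29 * 2000; norm_num) ?_
  intro k hk
  interval_cases k
  · exact chk_fin0
  · exact chk_fin1
  · exact chk_fin2
  · exact chk_fin3
  · exact chk_fin4
  · exact chk_fin5
  · exact chk_fin6
  · exact chk_fin7
  · exact chk_fin8
  · exact chk_fin9
  · exact chk_fin10
  · exact chk_fin11
  · exact chk_fin12
  · exact chk_fin13
  · exact chk_fin14
  · exact chk_fin15
  · exact chk_fin16
  · exact chk_fin17
  · exact chk_fin18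
  · exact chk_fin19
  · exact chk_fin20
  · exact chk_fin21
  · exact chk_fin22
  · exact chk_fin23
  · exact chk_fin24
  · exact chk_fin25
  · exact chk_fin26
  · exact chk_fin27
  · exact chk_fin28

theorem hrun : RunCertG cfg ivs tab.n :=
  RunCertG.of_static cert 57600 (by norm_num) chk_rows chk_mrows chk_fin

end Cfsg.Agent.Lib.Helper6.PS44CTC
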