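import Mathlib
import Cfsg.Agent.Lib.Helper6.M21F4

/-! # Two matrices of the symplectic group of dimension four over the field with four elements and
the relators of a presentation, checked step by step (generated) -/

set_option autoImplicit false

namespace Cfsg.Agent.Lib.Helper6.PS44Mat

open Matrix Cfsg.Agent.Lib.Helper6.M21 Cfsg.Agent.Lib.Helper6.M21.F4c

/-- the matrices -/
abbrev M4 : Type := Matrix (Fin 2 ⊕ Fin 2) (Fin 2 ⊕ Fin 2) F4c

/-- the matrix of the generator a -/
def mX : M4 := fromBlocks !![o, o; w, o] !![o, w; w, o] !![o, v; v, o] !![o, w; o, o]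

/-- the matrix of the generator b -/
def mY : M4 := fromBlocks !![o, v; w, w] !![w, v; w, v] !![w, e; e, w] !![w, w; o, e]

/-- the inverse of the matrix of the generator b -/
def mYi : M4 := fromBlocks !![w, o; w, e] !![w, w; v, v] !![w, e; e, w] !![o, w; v, w]

/-- the matrix of a letter -/
def letterM : ℕ → M4
  | 0 => mX
  | 1 => mX
  | 3 => mYi
  | _ => mY

theorem mX_mem : mX * J (Fin 2) F4c * mXᵀ = J (Fin 2) F4c := by decide

theorem mY_mem : mY * J (Fin 2) F4c * mYᵀ = J (Fin 2) F4c := by decide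

theorem mYi_mem : mYi * J (Fin 2) F4c * mYiᵀ = J (Fin 2) F4c := by decide

theorem mX_mul_mX : mX * mX = 1 := by decide

theorem mY_mul_mYi : mY * mYi = 1 := by decide

theorem mX_ne_one : mX ≠ 1 := by decide

theorem prod_nil_eq : (([] : List ℕ).map letterM).prod = 1 := rfl

theorem prod_cons_eq {x : ℕ} {w : List ℕ} {Q Q' : M4} (h : (w.map letterM).prod = Q)
    (hs : letterM x * Q = Q') : ((x :: w).map letterM).prod = Q' := by
  rw [List.map_cons, List.prod_cons, h, hs]

theorem pow_succ_eq {U P P' : M4} {n : ℕ} (h : U ^ n = P) (hs : P * U = P') : U ^ (n + 1) = P' := by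
  rw [pow_succ, h, hs]

theorem prod_replicate_eq {u : List ℕ} {k : ℕ} {U : M4} (hU : (u.map letterM).prod = U)
    (hk : U ^ k = 1) : (((List.replicate k u).flatten).map letterM).prod = 1 := by
  rw [List.map_flatten, List.prod_flatten, List.map_replicate, List.map_replicate,
    List.prod_replicate, hU, hk]

/-- a partial product of relator 0 -/
def q0_0 : M4 := fromBlocks !![o, o; w, o] !![o, w; w, o] !![o, v; v, o] !![o, w; o, o]

theorem s0_0 : letterM 0 * 1 = q0_0 := by decide

theorem word0 : (([0] : List ℕ).map letterM).prod = q0_0 :=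
  prod_cons_eq (prod_nil_eq) s0_0

theorem t0_2 : q0_0 * q0_0 = 1 := by decide

theorem pow0 : q0_0 ^ 2 = 1 :=
  pow_succ_eq ((pow_one q0_0)) t0_2

theorem rel0 : (((List.replicate 2 ([0] : List ℕ)).flatten).map letterM).prod = 1 :=
  prod_replicate_eq word0 pow0

/-- a partial product of relator 1 -/
def q1_0 : M4 := fromBlocks !![o, v; w, w] !![w, v; w, v] !![w, e; e, w] !![w, w; o, e]

theorem s1_0 : letterM 2 * 1 = q1_0 := by decide

theorem word1 : (([2] : List ℕ).map letterM).prod = q1_0 :=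
  prod_cons_eq (prod_nil_eq) s1_0

/-- a power of the word of relator 1 -/
def p1_2 : M4 := fromBlocks !![e, w; v, e] !![w, w; v, o] !![v, w; w, w] !![w, v; e, v]

/-- a power of the word of relator 1 -/
def p1_3 : M4 := fromBlocks !![w, e; v, v] !![w, v; w, o] !![v, w; w, w] !![e, v; w, e]

/-- a power of the word of relator 1 -/
def p1_4 : M4 := fromBlocks !![w, o; w, e] !![w, w; v, v] !![w, e; e, w] !![o, w; v, w]

theorem t1_2 : q1_0 * q1_0 = p1_2 := by decide

theorem t1_3 : p1_2 * q1_0 = p1_3 := by decide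

theorem t1_4 : p1_3 * q1_0 = p1_4 := by decide

theorem t1_5 : p1_4 * q1_0 = 1 := by decide

theorem pow1 : q1_0 ^ 5 = 1 :=
  pow_succ_eq (pow_succ_eq (pow_succ_eq (pow_succ_eq ((pow_one q1_0)) t1_2) t1_3) t1_4) t1_5

theorem rel1 : (((List.replicate 5 ([2] : List ℕ)).flatten).map letterM).prod = 1 :=
  prod_replicate_eq word1 pow1

/-- a partial product of relator 2 -/
def q2_0 : M4 := fromBlocks !![e, o; v, v] !![w, v; v, o] !![w, e; e, v] !![e, v; o, v]

/-- a partial product of relator 2 -/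
def q2_1 : M4 := fromBlocks !![w, e; e, w] !![o, e; e, o] !![o, v; v, o] !![w, e; e, w]

/-- a partial product of relator 2 -/
def q2_2 : M4 := fromBlocks !![w, v; o, w] !![e, v; v, o] !![v, o; e, o] !![v, e; e, e]

/-- a partial product of relator 2 -/
def q2_3 : M4 := fromBlocks !![w, o; w, e] !![w, w; v, v] !![w, e; e, w] !![o, w; v, w]

theorem s2_3 : letterM 3 * 1 = q2_3 := by decide

theorem s2_2 : letterM 0 * q2_3 = q2_2 := by decide

theorem s2_1 : letterM 2 * q2_2 = q2_1 := by decide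

theorem s2_0 : letterM 0 * q2_1 = q2_0 := by decide

theorem word2 : (([0, 2, 0, 3] : List ℕ).map letterM).prod = q2_0 :=
  prod_cons_eq (prod_cons_eq (prod_cons_eq (prod_cons_eq (prod_nil_eq) s2_3) s2_2) s2_1) s2_0

theorem t2_2 : q2_0 * q2_0 = 1 := by decide

theorem pow2 : q2_0 ^ 2 = 1 :=
  pow_succ_eq ((pow_one q2_0)) t2_2

theorem rel2 : (((List.replicate 2 ([0, 2, 0, 3] : List ℕ)).flatten).map letterM).prod = 1 :=
  prod_replicate_eq word2 pow2

/-- a partial product of relator 3 -/
def q3_0 : M4 := fromBlocks !![o, o; o, v] !![v, o; o, w] !![w, o; o, e] !![w, o; o, e]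

/-- a partial product of relator 3 -/
def q3_1 : M4 := fromBlocks !![o, w; v, o] !![o, w; w, o] !![o, o; o, o] !![o, v; w, o]

/-- a partial product of relator 3 -/
def q3_2 : M4 := fromBlocks !![o, v; v, v] !![v, w; v, e] !![v, v; e, w] !![e, v; o, o]

/-- a partial product of relator 3 -/
def q3_3 : M4 := fromBlocks !![v, v; w, e] !![v, w; e, o] !![e, e; e, v] !![w, w; e, w]

/-- a partial product of relator 3 -/
def q3_4 : M4 := fromBlocks !![w, e; v, v] !![w, v; w, o] !![v, w; w, w] !![e, v; w, e]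

/-- a partial product of relator 3 -/
def q3_5 : M4 := fromBlocks !![w, o; w, e] !![w, w; v, v] !![w, e; e, w] !![o, w; v, w]

theorem s3_5 : letterM 3 * 1 = q3_5 := by decide

theorem s3_4 : letterM 3 * q3_5 = q3_4 := by decide

theorem s3_3 : letterM 0 * q3_4 = q3_3 := by decide

theorem s3_2 : letterM 2 * q3_3 = q3_2 := by decide

theorem s3_1 : letterM 2 * q3_2 = q3_1 := by decide

theorem s3_0 : letterM 0 * q3_1 = q3_0 := by decide

theorem word3 : (([0, 2, 2, 0, 3, 3] : List ℕ).map letterM).prod = q3_0 :=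
  prod_cons_eq (prod_cons_eq (prod_cons_eq (prod_cons_eq (prod_cons_eq (prod_cons_eq (prod_nil_eq) s3_5) s3_4) s3_3) s3_2) s3_1) s3_0

/-- a power of the word of relator 3 -/
def p3_2 : M4 := fromBlocks !![e, o; o, o] !![e, o; o, v] !![v, o; o, w] !![w, o; o, v]

/-- a power of the word of relator 3 -/
def p3_3 : M4 := fromBlocks !![w, o; o, v] !![e, o; o, v] !![v, o; o, w] !![e, o; o, o]

/-- a power of the word of relator 3 -/
def p3_4 : M4 := fromBlocks !![w, o; o, e] !![v, o; o, w] !![w, o; o, e] !![o, o; o, v]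

theorem t3_2 : q3_0 * q3_0 = p3_2 := by decide

theorem t3_3 : p3_2 * q3_0 = p3_3 := by decide

theorem t3_4 : p3_3 * q3_0 = p3_4 := by decide

theorem t3_5 : p3_4 * q3_0 = 1 := by decide

theorem pow3 : q3_0 ^ 5 = 1 :=
  pow_succ_eq (pow_succ_eq (pow_succ_eq (pow_succ_eq ((pow_one q3_0)) t3_2) t3_3) t3_4) t3_5

theorem rel3 : (((List.replicate 5 ([0, 2, 2, 0, 3, 3] : List ℕ)).flatten).map letterM).prod = 1 :=
  prod_replicate_eq word3 pow3

/-- a partial product of relator 4 -/
def q4_0 : M4 := fromBlocks !![e, o; v, v] !![w, o; e, w] !![w, e; e, v] !![w, w; w, o]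

/-- a partial product of relator 4 -/
def q4_1 : M4 := fromBlocks !![w, e; e, w] !![v, o; o, v] !![o, v; v, o] !![o, e; e, o]

/-- a partial product of relator 4 -/
def q4_2 : M4 := fromBlocks !![e, o; v, o] !![v, o; w, v] !![v, e; v, w] !![v, e; w, e]

/-- a partial product of relator 4 -/
def q4_3 : M4 := fromBlocks !![e, v; o, v] !![e, v; w, o] !![e, e; v, w] !![e, v; w, o]

/-- a partial product of relator 4 -/
def q4_4 : M4 := fromBlocks !![e, v; o, v] !![v, o; o, o] !![e, e; v, w] !![w, o; v, w]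

/-- a partial product of relator 4 -/
def q4_5 : M4 := fromBlocks !![o, e; w, v] !![e, e; o, e] !![e, v; w, o] !![v, v; o, w]

/-- a partial product of relator 4 -/
def q4_6 : M4 := fromBlocks !![w, v; o, w] !![e, v; v, o] !![v, o; e, o] !![v, e; e, e]

/-- a partial product of relator 4 -/
def q4_7 : M4 := fromBlocks !![w, o; w, e] !![w, w; v, v] !![w, e; e, w] !![o, w; v, w]

theorem s4_7 : letterM 3 * 1 = q4_7 := by decide

theorem s4_6 : letterM 0 * q4_7 = q4_6 := by decide

theorem s4_5 : letterM 3 * q4_6 = q4_5 := by decide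

theorem s4_4 : letterM 3 * q4_5 = q4_4 := by decide

theorem s4_3 : letterM 0 * q4_4 = q4_3 := by decide

theorem s4_2 : letterM 3 * q4_3 = q4_2 := by decide

theorem s4_1 : letterM 3 * q4_2 = q4_1 := by decide

theorem s4_0 : letterM 0 * q4_1 = q4_0 := by decide

theorem word4 : (([0, 3, 3, 0, 3, 3, 0, 3] : List ℕ).map letterM).prod = q4_0 :=
  prod_cons_eq (prod_cons_eq (prod_cons_eq (prod_cons_eq (prod_cons_eq (prod_cons_eq (prod_cons_eq (prod_cons_eq (prod_nil_eq) s4_7) s4_6) s4_5) s4_4) s4_3) s4_2) s4_1) s4_0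

/-- a power of the word of relator 4 -/
def p4_2 : M4 := fromBlocks !![w, w; e, w] !![e, v; v, v] !![o, o; o, o] !![w, e; w, w]

/-- a power of the word of relator 4 -/
def p4_3 : M4 := fromBlocks !![w, w; w, o] !![w, e; o, w] !![w, e; e, v] !![e, v; o, v]

theorem t4_2 : q4_0 * q4_0 = p4_2 := by decide

theorem t4_3 : p4_2 * q4_0 = p4_3 := by decide

theorem t4_4 : p4_3 * q4_0 = 1 := by decide

theorem pow4 : q4_0 ^ 4 = 1 :=
  pow_succ_eq (pow_succ_eq (pow_succ_eq ((pow_one q4_0)) t4_2) t4_3) t4_4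

theorem rel4 : (((List.replicate 4 ([0, 3, 3, 0, 3, 3, 0, 3] : List ℕ)).flatten).map letterM).prod = 1 :=
  prod_replicate_eq word4 pow4

/-- a partial product of relator 5 -/
def q5_0 : M4 := fromBlocks !![w, v; v, v] !![o, w; o, w] !![v, w; o, w] !![e, o; e, w]

/-- a partial product of relator 5 -/
def q5_1 : M4 := fromBlocks !![o, v; w, w] !![w, v; w, v] !![w, e; e, w] !![w, w; o, e]

theorem s5_1 : letterM 2 * 1 = q5_1 := by decide

theorem s5_0 : letterM 0 * q5_1 = q5_0 := by decide

theorem word5 : (([0, 2] : List ℕ).map letterM).prod = q5_0 :=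
  prod_cons_eq (prod_cons_eq (prod_nil_eq) s5_1) s5_0

/-- a power of the word of relator 5 -/
def p5_2 : M4 := fromBlocks !![e, o; v, v] !![w, e; w, v] !![v, e; w, o] !![e, w; v, o]

/-- a power of the word of relator 5 -/
def p5_3 : M4 := fromBlocks !![v, w; w, w] !![v, o; e, e] !![e, o; e, o] !![v, o; v, v]

/-- a power of the word of relator 5 -/
def p5_4 : M4 := fromBlocks !![w, w; e, o] !![v, w; o, w] !![o, w; o, v] !![v, w; o, v]

/-- a power of the word of relator 5 -/
def p5_5 : M4 := fromBlocks !![o, w; w, o] !![e, v; w, e] !![v, v; w, v] !![e, o; v, o]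

/-- a power of the word of relator 5 -/
def p5_6 : M4 := fromBlocks !![w, w; w, o] !![w, w; v, e] !![o, w; v, w] !![e, o; v, w]

/-- a power of the word of relator 5 -/
def p5_7 : M4 := fromBlocks !![v, o; e, w] !![o, v; w, e] !![w, v; w, e] !![e, v; e, e]

/-- a power of the word of relator 5 -/
def p5_8 : M4 := fromBlocks !![e, v; w, v] !![v, o; v, v] !![w, o; v, w] !![w, v; o, v]

/-- a power of the word of relator 5 -/
def p5_9 : M4 := fromBlocks !![w, o; v, v] !![v, v; o, v] !![w, v; o, w] !![e, w; v, v]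

/-- a power of the word of relator 5 -/
def p5_10 : M4 := fromBlocks !![e, e; v, e] !![o, w; v, e] !![w, w; v, e] !![v, e; o, w]

/-- a power of the word of relator 5 -/
def p5_11 : M4 := fromBlocks !![e, v; o, w] !![w, v; w, e] !![o, v; w, w] !![w, w; w, o]

/-- a power of the word of relator 5 -/
def p5_12 : M4 := fromBlocks !![e, v; o, o] !![e, w; v, e] !![v, w; v, v] !![o, w; w, o]

/-- a power of the word of relator 5 -/
def p5_13 : M4 := fromBlocks !![v, o; w, v] !![v, o; w, w] !![o, o; w, v] !![w, e; w, o]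

/-- a power of the word of relator 5 -/
def p5_14 : M4 := fromBlocks !![v, v; o, v] !![v, e; o, e] !![e, e; o, o] !![v, w; w, w]

/-- a power of the word of relator 5 -/
def p5_15 : M4 := fromBlocks !![e, v; w, o] !![w, w; e, v] !![v, w; e, o] !![e, v; o, v]

/-- a power of the word of relator 5 -/
def p5_16 : M4 := fromBlocks !![e, e; o, w] !![o, o; w, w] !![v, o; w, w] !![w, v; v, v]

theorem t5_2 : q5_0 * q5_0 = p5_2 := by decide

theorem t5_3 : p5_2 * q5_0 = p5_3 := by decide

theorem t5_4 : p5_3 * q5_0 = p5_4 := by decide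

theorem t5_5 : p5_4 * q5_0 = p5_5 := by decide

theorem t5_6 : p5_5 * q5_0 = p5_6 := by decide

theorem t5_7 : p5_6 * q5_0 = p5_7 := by decide

theorem t5_8 : p5_7 * q5_0 = p5_8 := by decide

theorem t5_9 : p5_8 * q5_0 = p5_9 := by decide

theorem t5_10 : p5_9 * q5_0 = p5_10 := by decide

theorem t5_11 : p5_10 * q5_0 = p5_11 := by decide

theorem t5_12 : p5_11 * q5_0 = p5_12 := by decide

theorem t5_13 : p5_12 * q5_0 = p5_13 := by decide

theorem t5_14 : p5_13 * q5_0 = p5_14 := by decide

theorem t5_15 : p5_14 * q5_0 = p5_15 := by decide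

theorem t5_16 : p5_15 * q5_0 = p5_16 := by decide

theorem t5_17 : p5_16 * q5_0 = 1 := by decide

theorem pow5 : q5_0 ^ 17 = 1 :=
  pow_succ_eq (pow_succ_eq (pow_succ_eq (pow_succ_eq (pow_succ_eq (pow_succ_eq (pow_succ_eq (pow_succ_eq (pow_succ_eq (pow_succ_eq (pow_succ_eq (pow_succ_eq (pow_succ_eq (pow_succ_eq (pow_succ_eq (pow_succ_eq ((pow_one q5_0)) t5_2) t5_3) t5_4) t5_5) t5_6) t5_7) t5_8) t5_9) t5_10) t5_11) t5_12) t5_13) t5_14) t5_15) t5_16) t5_17

theorem rel5 : (((List.replicate 17 ([0, 2] : List ℕ)).flatten).map letterM).prod = 1 :=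
  prod_replicate_eq word5 pow5

end Cfsg.Agent.Lib.Helper6.PS44Mat
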