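import Mathlib
import Cfsg.Agent.H2.ClassProdA
import Cfsg.Agent.H2.ClassProdB
import Cfsg.Agent.Lib.Helper6.PSingDefs

/-!
# S4321, piece (B): the two cases for `c = ab` (S4), (S5)
-/

set_option autoImplicit false
set_option linter.unusedVariables false
set_option linter.unusedSectionVars false
set_option linter.style.haveILetI false

namespace Cfsg.Agent.Lib.Helper6.PSing

open Cfsg.Agent.H2.ClassProd

variable {G : Type*} [Group G] [Finite G]

/-- `M(d₀) := ⟨ d (g d⁻¹ g⁻¹) : d ∈ d₀^G ⟩` -/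
def MM (d₀ : G) : Subgroup G := NN (cl d₀)

theorem MM_normal (d₀ : G) : (MM d₀).Normal := by
  constructor
  intro n hn k
  have : ∀ n ∈ MM d₀, k * n * k⁻¹ ∈ MM d₀ := by
    intro n hn
    induction hn using Subgroup.closure_induction with
    | mem x hx =>
      obtain ⟨d, hd, g, rfl⟩ := hx
      apply Subgroup.subset_closure
      refine ⟨k * d * k⁻¹, ?_, k * g * k⁻¹, by group⟩
      rw [← cl_eq_of_mem hd]
      exact conj_mem_cl d k
    | one => simp
    | mul x y _ _ hx hy =>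
      have : k * (x * y) * k⁻¹ = (k * x * k⁻¹) * (k * y * k⁻¹) := by group
      rw [this]; exact Subgroup.mul_mem _ hx hy
    | inv x _ hx =>
      have : k * x⁻¹ * k⁻¹ = (k * x * k⁻¹)⁻¹ := by group
      rw [this]; exact Subgroup.inv_mem _ hx
  exact this n hn

theorem gen_mem_MM (d₀ g : G) : d₀ * (g * d₀⁻¹ * g⁻¹) ∈ MM d₀ :=
  comm_mem_NN (self_mem_cl d₀) g

theorem MM_invariant (a d₀ : G) (hcop : (cs a).Coprime (cs d₀)) (heq : cs (a * d₀) = cs a) :
    ∀ y ∈ cl a, ∀ n ∈ MM d₀, y * n ∈ cl a := by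
  apply right_invariant_closure
  rintro y hy _ ⟨d, hd, g, rfl⟩
  have hd1 : cs d = cs d₀ := cs_eq_of_mem_cl hd
  have hcop' : (cs a).Coprime (cs d) := by rw [hd1]; exact hcop
  have heq' : cs (a * d) = cs a := by
    obtain ⟨k, rfl⟩ := hd
    have := mul_conj_mem_cl a d₀ hcop 1 k
    simp only [one_mul, inv_one, mul_one] at this
    rw [cs_eq_of_mem_cl this, heq]
  exact cl_mul_invariant a d hcop' heq' y hy g

theorem card_MM_dvd (a d₀ : G) (hcop : (cs a).Coprime (cs d₀)) (heq : cs (a * d₀) = cs a) :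
    Nat.card ↥(MM d₀) ∣ cs a :=
  card_dvd_cs_of_invariant (MM d₀) a (MM_invariant a d₀ hcop heq)

variable {p : ℕ} [Fact p.Prime]

/-- (S4) -/
theorem case_one (a b : G) (hab : a * b = b * a) (hb : PEl p b) (hpa : ¬ p ∣ cs a)
    (hcop : (cs a).Coprime (cs b)) (heq : cs (a * b) = cs a) : cs b = 1 := by
  have hp : p.Prime := Fact.out
  have hdvd := card_MM_dvd a b hcop heq
  haveI := MM_normal b
  have hc : (Nat.card ↥(MM b)).Coprime (cs b) := Nat.Coprime.coprime_dvd_left hdvd hcop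
  have hle := le_centralizer_of_coprime (MM b) b hc
  have hpM : ¬ p ∣ Nat.card ↥(MM b) := fun h => hpa (h.trans hdvd)
  obtain ⟨k, hk⟩ := hb.2
  rw [cs_eq_one_iff, Subgroup.mem_center_iff]
  intro g
  set m := b * (g * b⁻¹ * g⁻¹) with hm
  have hmM : m ∈ MM b := gen_mem_MM b g
  have hmb : m * b = b * m := (mem_centralizer_singleton b m).1 (hle hmM)
  -- `g b g⁻¹ = m⁻¹ b`
  have h1 : g * b * g⁻¹ = m⁻¹ * b := by rw [hm]; group
  have hbk : b ^ p ^ k = 1 := by rw [← hk]; exact pow_orderOf_eq_one b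
  have h2 : (g * b * g⁻¹) ^ p ^ k = 1 := by
    have : (g * b * g⁻¹) ^ p ^ k = g * b ^ p ^ k * g⁻¹ := by
      rw [← MulAut.conj_apply, ← map_pow, MulAut.conj_apply]
    rw [this, hbk]; group
  have hcm : Commute m⁻¹ b := (Commute.inv_left (show Commute m b from hmb))
  have h3 : (m⁻¹) ^ p ^ k = 1 := by
    have := hcm.mul_pow (p ^ k)
    rw [← h1, h2, hbk, mul_one] at this
    exact this.symm
  have h4 : orderOf m ∣ p ^ k := by
    rw [← orderOf_inv]
    exact orderOf_dvd_of_pow_eq_one h3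
  have h5 : orderOf m ∣ Nat.card ↥(MM b) := by
    have := orderOf_dvd_natCard (⟨m, hmM⟩ : ↥(MM b))
    rwa [← Subgroup.orderOf_coe] at this
  have h6 : Nat.Coprime (p ^ k) (Nat.card ↥(MM b)) :=
    Nat.Coprime.pow_left k ((Nat.Prime.coprime_iff_not_dvd hp).2 hpM)
  have h7 : orderOf m = 1 := Nat.eq_one_of_dvd_coprimes h6 h4 h5
  rw [orderOf_eq_one_iff] at h7
  rw [h7, inv_one, one_mul] at h1
  calc g * b = (g * b * g⁻¹) * g := by group
    _ = b * g := by rw [h1]

/-- (S5) -/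
theorem case_two (a b : G) (hab : a * b = b * a) (ha : PEl p a) (hnc : cs a ≠ 1)
    (hcop : (cs a).Coprime (cs b)) (heq : cs (a * b) = cs b) :
    p ∣ cs b ∧ IsPGroup p ↥(Subgroup.normalClosure ({a} : Set G)) := by
  have hp : p.Prime := Fact.out
  have heq' : cs (b * a) = cs b := by rw [← hab]; exact heq
  have hdvd := card_MM_dvd b a hcop.symm heq'
  haveI := MM_normal a
  -- conjugates of `a` commute with `a`
  have hca : ∀ g : G, Commute (g * a * g⁻¹) a := by
    intro g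
    have hc : (Nat.card ↥(MM a)).Coprime (cs a) := Nat.Coprime.coprime_dvd_left hdvd hcop.symm
    have hle := le_centralizer_of_coprime (MM a) a hc
    have h1 := (mem_centralizer_singleton a _).1 (hle (gen_mem_MM a g))
    have h2 : (g * a⁻¹ * g⁻¹) * a = a * (g * a⁻¹ * g⁻¹) := by
      have := congrArg (fun t => a⁻¹ * t) h1
      simpa [mul_assoc] using this
    have h3 : Commute (g * a⁻¹ * g⁻¹) a := h2
    have h4 : g * a * g⁻¹ = (g * a⁻¹ * g⁻¹)⁻¹ := by group
    rw [h4]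
    exact h3.inv_left
  have hcc : ∀ g h : G, (g * a * g⁻¹) * (h * a * h⁻¹) = (h * a * h⁻¹) * (g * a * g⁻¹) := by
    intro g h
    have h3 : (h⁻¹ * g) * a * (h⁻¹ * g)⁻¹ * a = a * ((h⁻¹ * g) * a * (h⁻¹ * g)⁻¹) :=
      hca (h⁻¹ * g)
    have h2 : g * a * g⁻¹ = h * ((h⁻¹ * g) * a * (h⁻¹ * g)⁻¹) * h⁻¹ := by group
    rw [h2]
    calc h * ((h⁻¹ * g) * a * (h⁻¹ * g)⁻¹) * h⁻¹ * (h * a * h⁻¹)
        = h * ((h⁻¹ * g) * a * (h⁻¹ * g)⁻¹ * a) * h⁻¹ := by group
      _ = h * (a * ((h⁻¹ * g) * a * (h⁻¹ * g)⁻¹)) * h⁻¹ := by rw [h3]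
      _ = (h * a * h⁻¹) * (h * ((h⁻¹ * g) * a * (h⁻¹ * g)⁻¹) * h⁻¹) := by group
  obtain ⟨k, hk⟩ := ha.2
  have hak : a ^ p ^ k = 1 := by rw [← hk]; exact pow_orderOf_eq_one a
  set S : Set G := Group.conjugatesOfSet ({a} : Set G) with hS
  have hSmem : ∀ s ∈ S, ∃ g : G, s = g * a * g⁻¹ := by
    intro s hs
    rw [hS, Group.mem_conjugatesOfSet_iff] at hs
    obtain ⟨a', ha', hc⟩ := hs
    rw [Set.mem_singleton_iff] at ha'
    subst ha'
    obtain ⟨g, hg⟩ := isConj_iff.1 hc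
    exact ⟨g, hg.symm⟩
  have hW : Subgroup.normalClosure ({a} : Set G) = Subgroup.closure S := rfl
  have hS1 : Subgroup.closure S ≤ Subgroup.centralizer S := by
    rw [Subgroup.closure_le]
    intro s hs
    obtain ⟨g, rfl⟩ := hSmem s hs
    rw [SetLike.mem_coe, Subgroup.mem_centralizer_iff]
    intro t ht
    obtain ⟨h, rfl⟩ := hSmem t ht
    exact hcc h g
  have hS2 : Subgroup.closure S ≤ Subgroup.centralizer (Subgroup.closure S : Set G) := by
    rw [Subgroup.closure_le]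
    intro s hs
    rw [SetLike.mem_coe, Subgroup.mem_centralizer_iff]
    intro t ht
    have := Subgroup.mem_centralizer_iff.1 (hS1 ht) s hs
    exact this.symm
  have hpow : ∀ x ∈ Subgroup.closure S, x ^ p ^ k = 1 := by
    intro x hx
    induction hx using Subgroup.closure_induction with
    | mem s hs =>
      obtain ⟨g, rfl⟩ := hSmem s hs
      have : (g * a * g⁻¹) ^ p ^ k = g * a ^ p ^ k * g⁻¹ := by
        rw [← MulAut.conj_apply, ← map_pow, MulAut.conj_apply]
      rw [this, hak]; group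
    | one => simp
    | mul x y hx hy ihx ihy =>
      have hc : Commute x y := Subgroup.mem_centralizer_iff.1 (hS2 hy) x hx
      rw [hc.mul_pow, ihx, ihy, mul_one]
    | inv x hx ihx => rw [inv_pow, ihx, inv_one]
  have hWp : IsPGroup p ↥(Subgroup.normalClosure ({a} : Set G)) := by
    intro x
    refine ⟨k, ?_⟩
    apply Subtype.ext
    have := hpow x.1 x.2
    simpa using this
  refine ⟨?_, hWp⟩
  have hnc' : a ∉ Subgroup.center G := fun h => hnc ((cs_eq_one_iff a).2 h)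
  rw [Subgroup.mem_center_iff] at hnc'
  push Not at hnc'
  obtain ⟨g, hg⟩ := hnc'
  set m := a * (g * a⁻¹ * g⁻¹) with hm
  have hmM : m ∈ MM a := gen_mem_MM a g
  have hm1 : m ≠ 1 := by
    intro h1
    apply hg
    have h0 : g * a⁻¹ * g⁻¹ = a⁻¹ := by
      have := congrArg (fun t => a⁻¹ * t) h1
      simpa [hm, mul_assoc] using this
    have h2 : g * a * g⁻¹ = a := by
      have h3 : g * a * g⁻¹ = (g * a⁻¹ * g⁻¹)⁻¹ := by group
      rw [h3, h0, inv_inv]
    calc g * a = (g * a * g⁻¹) * g := by group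
      _ = a * g := by rw [h2]
  have hmW : m ∈ Subgroup.closure S := by
    apply Subgroup.mul_mem
    · apply Subgroup.subset_closure
      rw [hS]; exact Group.subset_conjugatesOfSet (Set.mem_singleton a)
    · have : g * a⁻¹ * g⁻¹ = (g * a * g⁻¹)⁻¹ := by group
      rw [this]
      apply Subgroup.inv_mem
      apply Subgroup.subset_closure
      rw [hS, Group.mem_conjugatesOfSet_iff]
      exact ⟨a, Set.mem_singleton a, isConj_iff.2 ⟨g, rfl⟩⟩
  have h4 : orderOf m ∣ p ^ k := orderOf_dvd_of_pow_eq_one (hpow m hmW)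
  obtain ⟨j, -, hj⟩ := (Nat.dvd_prime_pow hp).1 h4
  have hj0 : j ≠ 0 := by
    rintro rfl
    rw [pow_zero, orderOf_eq_one_iff] at hj
    exact hm1 hj
  have h5 : orderOf m ∣ Nat.card ↥(MM a) := by
    have := orderOf_dvd_natCard (⟨m, hmM⟩ : ↥(MM a))
    rwa [← Subgroup.orderOf_coe] at this
  have h6 : p ∣ orderOf m := by rw [hj]; exact dvd_pow_self p hj0
  exact h6.trans (h5.trans hdvd)

end Cfsg.Agent.Lib.Helper6.PSing
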