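import Mathlib
import Cfsg.Agent.H2.ClassProdA
import Cfsg.Agent.H2.ConjOrbit
import Cfsg.Agent.Lib.Helper6.PSingDefs

/-!
# S4321, piece (E): the final contradiction (S9)
-/

set_option autoImplicit false
set_option linter.unusedVariables false
set_option linter.unusedSectionVars false
set_option linter.style.haveILetI false

namespace Cfsg.Agent.Lib.Helper6.PSing

open Cfsg.Agent.H2.ClassProd

/-- a non-abelian finite `p`-group is not the union of its centre and the conjugates of a proper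
subgroup -/
theorem pgroup_union {p : ℕ} [Fact p.Prime] {P : Type*} [Group P] [Finite P] (hP : IsPGroup p P)
    (F : Subgroup P) (h : ∀ z : P, z ∈ Subgroup.center P ∨ ∃ u : P, u * z * u⁻¹ ∈ F)
    (hF : F ≠ ⊤) : ∀ x y : P, x * y = y * x := by
  obtain ⟨M, hM, hFM⟩ := (eq_top_or_exists_le_coatom F).resolve_left hF
  haveI : Group.IsNilpotent P := hP.isNilpotent
  have hMn : M.Normal := Subgroup.NormalizerCondition.normal_of_coatom M
    Group.normalizerCondition_of_isNilpotent hM
  have hout : ∀ z : P, z ∉ M → z ∈ Subgroup.center P := by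
    intro z hz
    rcases h z with h1 | ⟨u, hu⟩
    · exact h1
    · exfalso
      apply hz
      have h2 : u * z * u⁻¹ ∈ M := hFM hu
      have h3 := hMn.conj_mem _ h2 u⁻¹
      simpa [mul_assoc] using h3
  have hex : ∃ x : P, x ∉ M := by
    by_contra hcon
    push Not at hcon
    exact hM.1 (eq_top_iff.2 (fun x _ => hcon x))
  obtain ⟨x, hx⟩ := hex
  have hxc := hout x hx
  have hall : ∀ y : P, y ∈ Subgroup.center P := by
    intro y
    by_cases hy : y ∈ M
    · have hxy : x * y ∉ M := by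
        intro h1
        apply hx
        have := M.mul_mem h1 (M.inv_mem hy)
        simpa using this
      have h2 := hout _ hxy
      have h3 := (Subgroup.center P).mul_mem ((Subgroup.center P).inv_mem hxc) h2
      simpa using h3
    · exact hout y hy
  intro a b
  exact (Subgroup.mem_center_iff.1 (hall a) b).symm

variable {G : Type*} [Group G] [Finite G] {p : ℕ} [Fact p.Prime]

/-- a normal Sylow `p`-subgroup contains all `p`-elements -/
theorem mem_of_normal_sylow (P₁ : Subgroup G) (hn : P₁.Normal) (hidx : ¬ p ∣ P₁.index) (b : G)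
    (hb : ∃ k : ℕ, orderOf b = p ^ k) : b ∈ P₁ := by
  have hp : p.Prime := Fact.out
  obtain ⟨k, hk⟩ := hb
  haveI := hn
  have h1 : orderOf (QuotientGroup.mk b : G ⧸ P₁) ∣ p ^ k := by
    apply orderOf_dvd_of_pow_eq_one
    rw [← QuotientGroup.mk_pow, ← hk, pow_orderOf_eq_one]
    rfl
  have h2 : orderOf (QuotientGroup.mk b : G ⧸ P₁) ∣ P₁.index := by
    rw [Subgroup.index_eq_card]
    exact orderOf_dvd_natCard _
  have h3 : Nat.Coprime (p ^ k) P₁.index :=
    Nat.Coprime.pow_left k ((Nat.Prime.coprime_iff_not_dvd hp).2 hidx)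
  have h4 : orderOf (QuotientGroup.mk b : G ⧸ P₁) = 1 :=
    Nat.eq_one_of_dvd_coprimes h3 h1 h2
  rw [orderOf_eq_one_iff] at h4
  exact (QuotientGroup.eq_one_iff b).1 h4

/-- a `q`-subgroup fixes a point of a conjugation-stable set of `p`-power size -/
theorem exists_fixed_conj {q : ℕ} [Fact q.Prime] (Q : Subgroup G) (hQ : IsPGroup q ↥Q)
    (Ω : Set G) (hΩ : ∀ y ∈ Ω, ∀ x ∈ Q, x * y * x⁻¹ ∈ Ω) (hcard : ¬ q ∣ Nat.card ↥Ω) :
    ∃ y ∈ Ω, ∀ x ∈ Q, x * y = y * x := by
  classical
  letI act : MulAction ↥Q ↥Ω :=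
    { smul := fun x y => ⟨(x : G) * (y : G) * (x : G)⁻¹, hΩ y.1 y.2 x.1 x.2⟩
      one_smul := by
        intro y
        apply Subtype.ext
        show ((1 : ↥Q) : G) * (y : G) * ((1 : ↥Q) : G)⁻¹ = y
        simp
      mul_smul := by
        intro x x' y
        apply Subtype.ext
        show ((x * x' : ↥Q) : G) * (y : G) * ((x * x' : ↥Q) : G)⁻¹ =
          (x : G) * ((x' : G) * (y : G) * (x' : G)⁻¹) * (x : G)⁻¹
        simp [mul_assoc] }
  obtain ⟨y, hy⟩ := hQ.nonempty_fixed_point_of_prime_not_dvd_card ↥Ω hcard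
  refine ⟨y.1, y.2, ?_⟩
  intro x hx
  have h1 := (MulAction.mem_fixedPoints.1 hy) ⟨x, hx⟩
  have h2 : x * (y : G) * x⁻¹ = (y : G) := congrArg Subtype.val h1
  calc x * (y : G) = (x * (y : G) * x⁻¹) * x := by simp
    _ = (y : G) * x := by rw [h2]

/-- (S9) -/
theorem no_normal_sylow (hZ : ¬ p ∣ Nat.card ↥(Subgroup.center G)) (P₁ : Subgroup G)
    (hn : P₁.Normal) (hP : IsPGroup p ↥P₁) (hidx : ¬ p ∣ P₁.index) (b : G) (hb : PEl p b)
    (hpb : p ∣ cs b)
    (h : ∀ z ∈ P₁, (∃ y ∈ P₁, z * y ≠ y * z) → ∀ g : G, ∃ u ∈ P₁, g * z * g⁻¹ = u * z * u⁻¹) :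
    False := by
  classical
  have hp : p.Prime := Fact.out
  haveI := hn
  have hbP : b ∈ P₁ := mem_of_normal_sylow P₁ hn hidx b hb.2
  -- `b` is not central in `P₁`
  have hbnc : ∃ y ∈ P₁, b * y ≠ y * b := by
    by_contra hcon
    push Not at hcon
    have hle : P₁ ≤ Subgroup.centralizer ({b} : Set G) := by
      intro y hy
      rw [mem_centralizer_singleton]
      exact (hcon y hy).symm
    exact hidx (hpb.trans (Subgroup.index_dvd_of_le hle))
  -- every `q`-subgroup, `q ≠ p`, centralizes `P₁`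
  have hcent : ∀ q : ℕ, q.Prime → q ≠ p → ∀ Q : Subgroup G, IsPGroup q ↥Q →
      ∀ x ∈ Q, ∀ z ∈ P₁, x * z = z * x := by
    intro q hq hqp Q hQ
    haveI : Fact q.Prime := ⟨hq⟩
    set F : Subgroup G := P₁ ⊓ Subgroup.centralizer (Q : Set G) with hF
    have hcov : ∀ z : ↥P₁, z ∈ Subgroup.center ↥P₁ ∨
        ∃ u : ↥P₁, u * z * u⁻¹ ∈ F.subgroupOf P₁ := by
      intro z
      by_cases hz : z ∈ Subgroup.center ↥P₁
      · left; exact hz
      · right
        have hz' : ∃ y ∈ P₁, (z : G) * y ≠ y * (z : G) := by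
          by_contra hcon
          push Not at hcon
          apply hz
          rw [Subgroup.mem_center_iff]
          intro y
          apply Subtype.ext
          exact (hcon y.1 y.2).symm
        have hconj := h z.1 z.2 hz'
        set Ω : Set G := Cfsg.Agent.H2.conjOrbit P₁ (z : G) with hΩ
        have hΩst : ∀ y ∈ Ω, ∀ x ∈ Q, x * y * x⁻¹ ∈ Ω := by
          rintro y ⟨u, hu, rfl⟩ x hx
          obtain ⟨u', hu', he⟩ := hconj (x * u)
          refine ⟨u', hu', ?_⟩
          rw [← he]; group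
        have hcard : ¬ q ∣ Nat.card ↥Ω := by
          intro hdvd
          have h1 := Cfsg.Agent.H2.card_eq_card_conjOrbit_mul P₁ (z : G)
          have h2 : q ∣ Nat.card ↥P₁ := by rw [h1]; exact Dvd.dvd.mul_right hdvd _
          obtain ⟨n, hn'⟩ := IsPGroup.iff_card.1 hP
          rw [hn'] at h2
          exact hqp ((Nat.prime_dvd_prime_iff_eq hq hp).1 (hq.dvd_of_dvd_pow h2))
        obtain ⟨y, ⟨u, hu, rfl⟩, hy⟩ := exists_fixed_conj Q hQ Ω hΩst hcard
        refine ⟨⟨u, hu⟩, ?_⟩
        rw [Subgroup.mem_subgroupOf]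
        show (u * (z : G) * u⁻¹) ∈ F
        refine ⟨P₁.mul_mem (P₁.mul_mem hu z.2) (P₁.inv_mem hu), ?_⟩
        show u * (z : G) * u⁻¹ ∈ Subgroup.centralizer (Q : Set G)
        rw [Subgroup.mem_centralizer_iff]
        intro x hx
        exact hy x hx
    have htop : F.subgroupOf P₁ = ⊤ := by
      by_contra hne
      have hab := pgroup_union hP (F.subgroupOf P₁) hcov hne
      obtain ⟨y, hy, hby⟩ := hbnc
      apply hby
      have := hab ⟨b, hbP⟩ ⟨y, hy⟩
      exact congrArg Subtype.val this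
    intro x hx z hz
    have h1 : (⟨z, hz⟩ : ↥P₁) ∈ F.subgroupOf P₁ := by rw [htop]; exact Subgroup.mem_top _
    rw [Subgroup.mem_subgroupOf] at h1
    have h2 : z ∈ Subgroup.centralizer (Q : Set G) := h1.2
    rw [Subgroup.mem_centralizer_iff] at h2
    exact h2 x hx
  -- `N := C_G(Z(P₁)) = G`
  set Z₁ : Subgroup G := (Subgroup.center ↥P₁).map P₁.subtype with hZ₁
  set N : Subgroup G := Subgroup.centralizer (Z₁ : Set G) with hN
  have hPN : P₁ ≤ N := by
    intro x hx
    rw [hN, Subgroup.mem_centralizer_iff]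
    rintro _ ⟨c, hc, rfl⟩
    have := Subgroup.mem_center_iff.1 hc ⟨x, hx⟩
    exact (congrArg Subtype.val this).symm
  have hNtop : N = ⊤ := by
    rw [← Subgroup.index_eq_one]
    by_contra hne
    obtain ⟨q, hq, hqd⟩ := Nat.exists_prime_and_dvd hne
    by_cases hqp : q = p
    · subst hqp
      exact hidx (hqd.trans (Subgroup.index_dvd_of_le hPN))
    · haveI : Fact q.Prime := ⟨hq⟩
      obtain ⟨Q⟩ : Nonempty (Sylow q G) := inferInstance
      have hQN : (Q : Subgroup G) ≤ N := by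
        intro x hx
        rw [hN, Subgroup.mem_centralizer_iff]
        rintro _ ⟨c, hc, rfl⟩
        exact (hcent q hq hqp Q Q.2 x hx c.1 c.2).symm
      exact Q.not_dvd_index (hqd.trans (Subgroup.index_dvd_of_le hQN))
  have hZle : Z₁ ≤ Subgroup.center G := by
    intro c hc
    rw [Subgroup.mem_center_iff]
    intro g
    have : g ∈ N := by rw [hNtop]; exact Subgroup.mem_top g
    rw [hN, Subgroup.mem_centralizer_iff] at this
    exact (this c hc).symm
  haveI : Nontrivial ↥P₁ := ⟨⟨⟨b, hbP⟩, 1, fun h1 => hb.1 (congrArg Subtype.val h1)⟩⟩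
  have hcn : Nontrivial ↥(Subgroup.center ↥P₁) := hP.center_nontrivial
  have hpc : p ∣ Nat.card ↥(Subgroup.center ↥P₁) := by
    have hPc : IsPGroup p ↥(Subgroup.center ↥P₁) := hP.to_subgroup _
    obtain ⟨n, hn'⟩ := IsPGroup.iff_card.1 hPc
    rw [hn']
    have : n ≠ 0 := by
      rintro rfl
      rw [pow_zero] at hn'
      have h3 : Subsingleton ↥(Subgroup.center ↥P₁) := (Nat.card_eq_one_iff_unique.1 hn').1
      exact not_subsingleton _ h3
    exact dvd_pow_self p this
  apply hZ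
  have h1 : Nat.card ↥Z₁ = Nat.card ↥(Subgroup.center ↥P₁) :=
    Subgroup.card_map_of_injective P₁.subtype_injective
  rw [← h1] at hpc
  exact hpc.trans (Subgroup.card_dvd_of_le hZle)

end Cfsg.Agent.Lib.Helper6.PSing
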