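import Mathlib
import Cfsg.Agent.H2.ClassProdA
import Cfsg.Agent.Lib.Helper6.PSingDefs
import Cfsg.Agent.H2.PSingA
import Cfsg.Agent.Lib.Helper6.PSingB
import Cfsg.Agent.H9.PSingC
import Cfsg.Agent.Lib.Helper5.PSingD
import Cfsg.Agent.Lib.Helper6.PSingE

/-!
# S4321: assembly of the key claim (K) from the pieces (A)–(E)
-/

set_option autoImplicit false
set_option linter.unusedVariables false
set_option linter.unusedSectionVars false

namespace Cfsg.Agent.Lib.Helper6.PSing

open Cfsg.Agent.H2.ClassProd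

variable {G : Type*} [Group G] [Finite G] {p : ℕ} [Fact p.Prime]

/-! ## Assembly -/

theorem NK.coprime (hZ : ¬ p ∣ Nat.card ↥(Subgroup.center G)) {a b : G} (ha : PEl p a)
    (h : NK p a b) : (cs a).Coprime (cs b) := by
  rcases h a ha.dvd_orderOf with h1 | h1
  · exact absurd ((Nat.coprime_self _).1 h1) (ha.cs_ne_one hZ)
  · exact h1

theorem key_false_aux (hZ : ¬ p ∣ Nat.card ↥(Subgroup.center G)) (a b : G) (ha : PEl p a)
    (hb : PEl p b) (hNK : NK p a b) (hpa : ¬ p ∣ cs a) : False := by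
  have hp : p.Prime := Fact.out
  obtain ⟨g, hg⟩ := exists_conj_commute a b hb hpa
  set b' := g * b * g⁻¹ with hb'
  have hb'p : PEl p b' := hb.conj g
  have hNK' : NK p a b' := hNK.conj_right g
  have hcop : (cs a).Coprime (cs b') := hNK'.coprime hZ ha
  have hnca : cs a ≠ 1 := ha.cs_ne_one hZ
  have hncb : cs b' ≠ 1 := hb'p.cs_ne_one hZ
  have hc1 : a * b' ≠ 1 := by
    intro h1
    have : b' = a⁻¹ := (eq_inv_of_mul_eq_one_right h1)
    rw [this, cs_inv] at hcop
    exact hnca ((Nat.coprime_self _).1 hcop)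
  have hcp : PEl p (a * b') := ha.mul hb'p hg hc1
  have hdvd : cs (a * b') ∣ cs a * cs b' := cs_mul_dvd a b' hcop
  rcases hNK' (a * b') hcp.dvd_orderOf with h1 | h1
  · -- second case
    have h2 : cs (a * b') ∣ cs b' := Nat.Coprime.dvd_of_dvd_mul_left h1 hdvd
    have heq : cs (a * b') = cs b' :=
      le_antisymm (Nat.le_of_dvd (cs_pos b') h2) (cs_le_cs_mul_right a b' hcop)
    obtain ⟨hpb, hW⟩ := case_two a b' hg ha hnca hcop heq
    have hA := centralizer_normal a b' hNK' ha hnca hpb hW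
    obtain ⟨P₁, hn, hP, hidx, hconj⟩ := exists_normal_sylow a b' hNK' ha hnca hpa hpb hA
    apply no_normal_sylow hZ P₁ hn hP hidx b' hb'p hpb
    intro z hz ⟨y, hy, hzy⟩
    apply hconj z hz
    -- `p ∣ cs z`
    have hpz : p ∣ cs z := by
      by_contra hnd
      have := hn
      have hc : (Nat.card ↥P₁).Coprime (cs z) := by
        obtain ⟨n, hn'⟩ := IsPGroup.iff_card.1 hP
        rw [hn']
        exact Nat.Coprime.pow_left n ((Nat.Prime.coprime_iff_not_dvd hp).2 hnd)
      have := le_centralizer_of_coprime P₁ z hc hy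
      rw [mem_centralizer_singleton] at this
      exact hzy this.symm
    have hz1 : z ≠ 1 := by
      rintro rfl
      exact hzy (by rw [one_mul, mul_one])
    have hzp : PEl p z := by
      refine ⟨hz1, ?_⟩
      obtain ⟨k, hk⟩ := hP ⟨z, hz⟩
      have h3 : z ^ p ^ k = 1 := by
        have := congrArg Subtype.val hk
        simpa using this
      obtain ⟨j, -, hj⟩ := (Nat.dvd_prime_pow hp).1 (orderOf_dvd_of_pow_eq_one h3)
      exact ⟨j, hj⟩
    rcases hNK' z hzp.dvd_orderOf with h3 | h3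
    · exact h3
    · exfalso
      have h4 := Nat.dvd_gcd hpz hpb
      rw [h3] at h4
      have := Nat.le_of_dvd one_pos h4
      have := hp.one_lt
      omega
  · -- first case
    have h2 : cs (a * b') ∣ cs a := Nat.Coprime.dvd_of_dvd_mul_right h1 hdvd
    have heq : cs (a * b') = cs a :=
      le_antisymm (Nat.le_of_dvd (cs_pos a) h2) (cs_le_cs_mul_left a b' hcop)
    exact hncb (case_one a b' hg hb'p hpa hcop heq)

theorem key_false (hZ : ¬ p ∣ Nat.card ↥(Subgroup.center G)) (a b : G) (ha : PEl p a)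
    (hb : PEl p b) (hNK : NK p a b) : False := by
  have hp : p.Prime := Fact.out
  have hcop := hNK.coprime hZ ha
  by_cases hpa : p ∣ cs a
  · have hpb : ¬ p ∣ cs b := by
      intro hpb
      have := Nat.dvd_gcd hpa hpb
      rw [hcop] at this
      have := Nat.le_of_dvd one_pos this
      have := hp.one_lt
      omega
    exact key_false_aux hZ b a hb ha hNK.symm hpb
  · exact key_false_aux hZ a b ha hb hNK hpa

/-- the key claim (K) -/
theorem key (hZ : ¬ p ∣ Nat.card ↥(Subgroup.center G)) (a b : G) (ha : PEl p a) (hb : PEl p b) :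
    ∃ w : G, p ∣ orderOf w ∧ ∃ t u : ℕ, t.Prime ∧ u.Prime ∧ t ∣ cs a ∧ u ∣ cs b ∧
      t ∣ cs w ∧ u ∣ cs w := by
  by_contra hcon
  apply key_false hZ a b ha hb
  intro w hw
  by_contra h2
  push Not at h2
  obtain ⟨h3, h4⟩ := h2
  obtain ⟨t, ht, ht1, ht2⟩ := Nat.Prime.not_coprime_iff_dvd.1 h3
  obtain ⟨u, hu, hu1, hu2⟩ := Nat.Prime.not_coprime_iff_dvd.1 h4
  exact hcon ⟨w, hw, t, u, ht, hu, ht2, hu2, ht1, hu1⟩

end Cfsg.Agent.Lib.Helper6.PSing
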