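import Mathlib

/-! # Matrices over `ZMod p` whose rows are coded by natural numbers

A row is coded by the natural number whose digits in base `B` are its entries. The rows of a product
are linear combinations of the codes of the rows of the right factor; as long as `n * p * p ≤ B`
there are no carries, and the digits are reduced modulo `p` afterwards. The kernel evaluates all
this with its fast arithmetic: a product of two matrices of size `n` takes about `3 * n ^ 2` steps.
The functions are defined by the recursors, which the kernel unfolds faster than compiled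
structural recursion. -/

set_option autoImplicit false
set_option linter.unusedSectionVars false

namespace Cfsg.Agent.Lib.Helper6.PackMat

/-- the linear combination of the numbers `Ns` with the coefficients `as` -/
def lin (as : List ℕ) : List ℕ → ℕ :=
  List.rec (motive := fun _ => List ℕ → ℕ) (fun _ => 0)
    (fun a _ ih Ns =>
      List.casesOn (motive := fun _ => ℕ) Ns 0 (fun N Ns' => Nat.add (Nat.mul a N) (ih Ns'))) as

theorem lin_nil (Ns : List ℕ) : lin [] Ns = 0 := rfl

theorem lin_cons_nil (a : ℕ) (as : List ℕ) : lin (a :: as) [] = 0 := rfl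

theorem lin_cons_cons (a : ℕ) (as : List ℕ) (N : ℕ) (Ns : List ℕ) :
    lin (a :: as) (N :: Ns) = a * N + lin as Ns := rfl

/-- the lowest `n` digits in base `B` -/
def digs (B : ℕ) (n : ℕ) : ℕ → List ℕ :=
  Nat.rec (motive := fun _ => ℕ → List ℕ) (fun _ => [])
    (fun _ ih N => Nat.mod N B :: ih (Nat.div N B)) n

theorem digs_zero (B N : ℕ) : digs B 0 N = [] := rfl

theorem digs_succ (B n N : ℕ) : digs B (n + 1) N = N % B :: digs B n (N / B) := rfl

/-- the number whose digits are the lowest `n` digits of `N`, reduced modulo `p` -/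
def redEnc (B p : ℕ) (n : ℕ) : ℕ → ℕ :=
  Nat.rec (motive := fun _ => ℕ → ℕ) (fun _ => 0)
    (fun _ ih N => Nat.add (Nat.mod (Nat.mod N B) p) (Nat.mul B (ih (Nat.div N B)))) n

theorem redEnc_zero (B p N : ℕ) : redEnc B p 0 N = 0 := rfl

theorem redEnc_succ (B p n N : ℕ) :
    redEnc B p (n + 1) N = N % B % p + B * redEnc B p n (N / B) := rfl

/-- `List.map`, by the recursor -/
def mapR (f : ℕ → ℕ) (X : List ℕ) : List ℕ :=
  List.rec (motive := fun _ => List ℕ) [] (fun a _ ih => f a :: ih) X

theorem mapR_eq (f : ℕ → ℕ) (X : List ℕ) : mapR f X = X.map f := by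
  induction X with
  | nil => rfl
  | cons a X ih =>
    show f a :: mapR f X = _
    rw [ih, List.map_cons]

/-- the product of two matrices of size `n` given by the codes of their rows -/
def mulC (B p n : ℕ) (X Y : List ℕ) : List ℕ :=
  mapR (fun a => redEnc B p n (lin (digs B n a) Y)) X

/-- the identity matrix -/
def idC (B n : ℕ) : List ℕ := (List.range n).map fun i => Nat.pow B i

/-- the product of a list of matrices -/
def prodC (B p n : ℕ) (Ms : List (List ℕ)) : List ℕ := Ms.foldl (mulC B p n) (idC B n)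

/-- the square of a matrix -/
def sqC (B p n : ℕ) (X : List ℕ) : List ℕ := mulC B p n X X

/-- the ninth power of a matrix -/
def pow9C (B p n : ℕ) (W : List ℕ) : List ℕ :=
  mulC B p n (sqC B p n (sqC B p n (sqC B p n W))) W

/-- the tenth power of a matrix -/
def pow10C (B p n : ℕ) (W : List ℕ) : List ℕ :=
  sqC B p n (mulC B p n (sqC B p n (sqC B p n W)) W)

/-- the digit of `N` at the place `j` -/
def dig (B N j : ℕ) : ℕ := N / B ^ j % B

theorem dig_zero (B N : ℕ) : dig B N 0 = N % B := by
  unfold dig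
  rw [pow_zero, Nat.div_one]

theorem dig_succ (B N j : ℕ) : dig B N (j + 1) = dig B (N / B) j := by
  unfold dig
  rw [pow_succ', Nat.div_div_eq_div_mul]

theorem lin_digs (B : ℕ) : ∀ (n N : ℕ) (Ns : List ℕ),
    lin (digs B n N) Ns = ∑ k ∈ Finset.range n, dig B N k * Ns.getD k 0
  | 0, N, Ns => by
    rw [digs_zero, lin_nil, Finset.sum_range_zero]
  | n + 1, N, [] => by
    rw [digs_succ, lin_cons_nil]
    simp
  | n + 1, N, M :: Ms => by
    rw [digs_succ, lin_cons_cons, lin_digs B n (N / B) Ms, Finset.sum_range_succ', dig_zero,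
      List.getD_cons_zero, add_comm]
    congr 1
    apply Finset.sum_congr rfl
    intro k _
    rw [dig_succ, List.getD_cons_succ]

theorem redEnc_eq (B p : ℕ) : ∀ n N : ℕ,
    redEnc B p n N = ∑ j ∈ Finset.range n, dig B N j % p * B ^ j
  | 0, N => by
    rw [redEnc_zero, Finset.sum_range_zero]
  | n + 1, N => by
    rw [redEnc_succ, redEnc_eq B p n (N / B), Finset.sum_range_succ', dig_zero, pow_zero, mul_one,
      add_comm, Finset.mul_sum]
    congr 1
    apply Finset.sum_congr rfl
    intro j _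
    rw [dig_succ, pow_succ']
    ring

/-- a number with the given digits -/
theorem dig_sum {B : ℕ} : ∀ (n : ℕ) (f : ℕ → ℕ), (∀ j < n, f j < B) → ∀ t < n,
    dig B (∑ j ∈ Finset.range n, f j * B ^ j) t = f t
  | 0, f, _, t, ht => absurd ht (Nat.not_lt_zero t)
  | n + 1, f, hf, t, ht => by
    have hB : 0 < B := Nat.lt_of_le_of_lt (Nat.zero_le _) (hf 0 (Nat.succ_pos n))
    have h1 : ∑ j ∈ Finset.range (n + 1), f j * B ^ j =
        f 0 + B * ∑ j ∈ Finset.range n, f (j + 1) * B ^ j := by
      rw [Finset.sum_range_succ', pow_zero, mul_one, add_comm, Finset.mul_sum]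
      congr 1
      apply Finset.sum_congr rfl
      intro j _
      rw [pow_succ']
      ring
    rw [h1]
    cases t with
    | zero =>
      rw [dig_zero, Nat.add_mul_mod_self_left, Nat.mod_eq_of_lt (hf 0 (Nat.succ_pos n))]
    | succ t =>
      rw [dig_succ, Nat.add_mul_div_left _ _ hB, Nat.div_eq_of_lt (hf 0 (Nat.succ_pos n)),
        zero_add]
      exact dig_sum n (fun j => f (j + 1)) (fun j hj => hf (j + 1) (Nat.succ_lt_succ hj)) t
        (Nat.lt_of_succ_lt_succ ht)

/-- a number below `B ^ n` is the sum of its lowest `n` digits -/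
theorem eq_sum_dig {B : ℕ} : ∀ (n N : ℕ), N < B ^ n →
    N = ∑ j ∈ Finset.range n, dig B N j * B ^ j
  | 0, N, h => by
    rw [pow_zero, Nat.lt_one_iff] at h
    rw [h, Finset.sum_range_zero]
  | n + 1, N, h => by
    have hB : 0 < B := by
      rcases Nat.eq_zero_or_pos B with h0 | h0
      · rw [h0, zero_pow (Nat.succ_ne_zero n)] at h
        exact absurd h (Nat.not_lt_zero N)
      · exact h0
    have h1 : N / B < B ^ n := by
      rw [Nat.div_lt_iff_lt_mul hB, ← pow_succ]
      exact h
    have h2 := eq_sum_dig n (N / B) h1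
    rw [Finset.sum_range_succ', dig_zero, pow_zero, mul_one]
    have h3 : ∑ j ∈ Finset.range n, dig B N (j + 1) * B ^ (j + 1) =
        B * ∑ j ∈ Finset.range n, dig B (N / B) j * B ^ j := by
      rw [Finset.mul_sum]
      apply Finset.sum_congr rfl
      intro j _
      rw [dig_succ, pow_succ']
      ring
    rw [h3, ← h2]
    exact (Nat.div_add_mod N B).symm

/-- a number with `n` digits is below `B ^ n` -/
theorem sum_lt_pow {B : ℕ} : ∀ (n : ℕ) (f : ℕ → ℕ), (∀ j < n, f j < B) →
    ∑ j ∈ Finset.range n, f j * B ^ j < B ^ n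
  | 0, f, _ => by
    rw [Finset.sum_range_zero, pow_zero]
    exact Nat.one_pos
  | n + 1, f, hf => by
    have ih := sum_lt_pow n f (fun j hj => hf j (Nat.lt_succ_of_lt hj))
    have h1 : f n + 1 ≤ B := hf n (Nat.lt_succ_self n)
    have h2 : (f n + 1) * B ^ n ≤ B * B ^ n := Nat.mul_le_mul_right _ h1
    rw [Finset.sum_range_succ, pow_succ']
    have h3 : (f n + 1) * B ^ n = f n * B ^ n + B ^ n := by ring
    omega

theorem dig_zero_left (B j : ℕ) : dig B 0 j = 0 := by
  unfold dig
  rw [Nat.zero_div, Nat.zero_mod]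

theorem dig_lt {B : ℕ} (hB : 0 < B) (N j : ℕ) : dig B N j < B := Nat.mod_lt _ hB

/-- the digits of a power of the base -/
theorem dig_pow {B : ℕ} (hB : 1 < B) {n i j : ℕ} (hi : i < n) (hj : j < n) :
    dig B (B ^ i) j = if i = j then 1 else 0 := by
  have h1 : B ^ i = ∑ k ∈ Finset.range n, (if i = k then 1 else 0) * B ^ k := by
    rw [Finset.sum_eq_single i]
    · rw [if_pos rfl, one_mul]
    · intro k _ hk
      rw [if_neg (Ne.symm hk), zero_mul]
    · intro h
      exact absurd (Finset.mem_range.2 hi) h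
  rw [h1]
  exact dig_sum n (fun k => if i = k then 1 else 0) (fun k _ => by
    show (if i = k then 1 else 0) < B
    split
    · exact hB
    · exact Nat.lt_trans Nat.zero_lt_one hB) j hj

section

variable (B p : ℕ)

/-- the codes are below `B ^ n` and their digits are below `p` -/
def Good (n : ℕ) (X : List ℕ) : Prop := ∀ N ∈ X, N < B ^ n ∧ ∀ j < n, dig B N j < p

/-- the codes are below `B ^ n` and their digits are below `p`, as a computation -/
def goodB (n : ℕ) (X : List ℕ) : Bool :=
  X.all fun N => decide (N < B ^ n) && (List.range n).all fun j => decide (dig B N j < p)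

theorem good_of_goodB {n : ℕ} {X : List ℕ} (h : goodB B p n X = true) : Good B p n X := by
  intro N hN
  have h1 := List.all_eq_true.1 h N hN
  rw [Bool.and_eq_true] at h1
  refine ⟨of_decide_eq_true h1.1, fun j hj => ?_⟩
  exact of_decide_eq_true (List.all_eq_true.1 h1.2 j (List.mem_range.2 hj))

variable {B p}

theorem good_getD {n : ℕ} {X : List ℕ} (h : Good B p n X) (hB : 0 < B) (hp : 0 < p) (k : ℕ) :
    X.getD k 0 < B ^ n ∧ ∀ j < n, dig B (X.getD k 0) j < p := by
  by_cases hk : k < X.length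
  · rw [List.getD_eq_getElem _ _ hk]
    exact h _ (List.getElem_mem hk)
  · rw [List.getD_eq_default _ _ (Nat.le_of_not_lt hk)]
    exact ⟨pow_pos hB n, fun j _ => by rw [dig_zero_left]; exact hp⟩

/-- the code of a row of the product -/
def rowC (B p n : ℕ) (Y : List ℕ) (a : ℕ) : ℕ := redEnc B p n (lin (digs B n a) Y)

theorem mulC_eq (n : ℕ) (X Y : List ℕ) : mulC B p n X Y = X.map (rowC B p n Y) := by
  unfold mulC
  rw [mapR_eq]
  rfl

/-- the digits of a row of the product -/
theorem dig_rowC {n : ℕ} (hB : n * p * p ≤ B) (hp : 0 < p) {Y : List ℕ} (hY : Good B p n Y)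
    {a : ℕ} (ha : ∀ k < n, dig B a k < p) {t : ℕ} (ht : t < n) :
    dig B (rowC B p n Y a) t =
      (∑ k ∈ Finset.range n, dig B a k * dig B (Y.getD k 0) t) % p := by
  have hn : 0 < n := Nat.lt_of_le_of_lt (Nat.zero_le t) ht
  have hpB : p ≤ B := by
    have h1 : 1 * p * 1 ≤ n * p * p :=
      Nat.mul_le_mul (Nat.mul_le_mul hn (Nat.le_refl p)) hp
    omega
  have hB0 : 0 < B := Nat.lt_of_lt_of_le hp hpB
  unfold rowC
  rw [redEnc_eq, dig_sum n _ (fun j _ => Nat.lt_of_lt_of_le (Nat.mod_lt _ hp) hpB) t ht]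
  congr 1
  rw [lin_digs]
  have h1 : ∑ k ∈ Finset.range n, dig B a k * Y.getD k 0 =
      ∑ j ∈ Finset.range n, (∑ k ∈ Finset.range n, dig B a k * dig B (Y.getD k 0) j) * B ^ j := by
    rw [Finset.sum_congr rfl fun j _ => Finset.sum_mul _ _ _, Finset.sum_comm]
    apply Finset.sum_congr rfl
    intro k _
    have h2 := eq_sum_dig n (Y.getD k 0) (good_getD hY hB0 hp k).1
    conv_lhs => rw [h2]
    rw [Finset.mul_sum]
    apply Finset.sum_congr rfl
    intro j _
    ring
  rw [h1]
  apply dig_sum n _ _ t ht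
  intro j hj
  have h3 : ∑ k ∈ Finset.range n, dig B a k * dig B (Y.getD k 0) j ≤
      ∑ _k ∈ Finset.range n, (p - 1) * (p - 1) := by
    apply Finset.sum_le_sum
    intro k hk
    have h4 := ha k (Finset.mem_range.1 hk)
    have h5 := (good_getD hY hB0 hp k).2 j hj
    exact Nat.mul_le_mul (Nat.le_sub_one_of_lt h4) (Nat.le_sub_one_of_lt h5)
  rw [Finset.sum_const, Finset.card_range, smul_eq_mul] at h3
  have h5 : (p - 1) * (p - 1) < p * p := Nat.mul_self_lt_mul_self (Nat.sub_lt hp Nat.one_pos)
  have h6 : n * ((p - 1) * (p - 1)) < n * (p * p) := (Nat.mul_lt_mul_left hn).2 h5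
  rw [Nat.mul_assoc] at hB
  exact lt_of_le_of_lt h3 (lt_of_lt_of_le h6 hB)

theorem rowC_lt {n : ℕ} (hpB : p ≤ B) (hp : 0 < p) (Y : List ℕ) (a : ℕ) :
    rowC B p n Y a < B ^ n := by
  unfold rowC
  rw [redEnc_eq]
  exact sum_lt_pow n _ fun j _ => Nat.lt_of_lt_of_le (Nat.mod_lt _ hp) hpB

theorem dig_rowC_lt {n : ℕ} (hpB : p ≤ B) (hp : 0 < p) (Y : List ℕ) (a : ℕ) {t : ℕ} (ht : t < n) :
    dig B (rowC B p n Y a) t < p := by
  unfold rowC
  rw [redEnc_eq, dig_sum n _ (fun j _ => Nat.lt_of_lt_of_le (Nat.mod_lt _ hp) hpB) t ht]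
  exact Nat.mod_lt _ hp

theorem rowC_zero (n : ℕ) (Y : List ℕ) : rowC B p n Y 0 = 0 := by
  unfold rowC
  rw [lin_digs, redEnc_eq]
  have h1 : ∑ k ∈ Finset.range n, dig B 0 k * Y.getD k 0 = 0 := by
    apply Finset.sum_eq_zero
    intro k _
    rw [dig_zero_left, zero_mul]
  rw [h1]
  apply Finset.sum_eq_zero
  intro j _
  rw [dig_zero_left, Nat.zero_mod, zero_mul]

theorem good_mulC {n : ℕ} (hpB : p ≤ B) (hp : 0 < p) (X Y : List ℕ) :
    Good B p n (mulC B p n X Y) := by
  intro N hN
  rw [mulC_eq] at hN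
  obtain ⟨a, _, rfl⟩ := List.mem_map.1 hN
  exact ⟨rowC_lt hpB hp Y a, fun t ht => dig_rowC_lt hpB hp Y a ht⟩

theorem good_idC {n : ℕ} (hB : 1 < B) (hp : 1 < p) : Good B p n (idC B n) := by
  intro N hN
  unfold idC at hN
  obtain ⟨i, hi, rfl⟩ := List.mem_map.1 hN
  have hi' : i < n := List.mem_range.1 hi
  refine ⟨Nat.pow_lt_pow_right hB hi', fun j hj => ?_⟩
  show dig B (B ^ i) j < p
  rw [dig_pow hB hi' hj]
  split
  · exact hp
  · exact Nat.lt_trans Nat.zero_lt_one hp

theorem good_prodC {n : ℕ} (hB : 1 < B) (hpB : p ≤ B) (hp : 1 < p) (Ms : List (List ℕ)) :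
    Good B p n (prodC B p n Ms) := by
  unfold prodC
  induction Ms using List.reverseRecOn with
  | nil => exact good_idC hB hp
  | append_singleton Ms M _ =>
    rw [List.foldl_append, List.foldl_cons, List.foldl_nil]
    exact good_mulC hpB (Nat.lt_trans Nat.zero_lt_one hp) _ _

end

section

variable (B p : ℕ) [Fact p.Prime] {ι : Type*} [Fintype ι] [DecidableEq ι] {n : ℕ} (e : ι ≃ Fin n)

/-- the matrix coded by a list of numbers -/
def natM (X : List ℕ) : Matrix ι ι (ZMod p) :=
  Matrix.of fun i j => ((dig B (X.getD (e i).val 0) (e j).val : ℕ) : ZMod p)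

theorem natM_apply (X : List ℕ) (i j : ι) :
    natM B p e X i j = ((dig B (X.getD (e i).val 0) (e j).val : ℕ) : ZMod p) := rfl

theorem sum_equiv (f : ℕ → ZMod p) : ∑ k : ι, f (e k).val = ∑ k ∈ Finset.range n, f k := by
  rw [← Fin.sum_univ_eq_sum_range f n]
  exact Equiv.sum_comp e fun k : Fin n => f k.val

variable {B p}

theorem natM_mulC (hB : n * p * p ≤ B) {X Y : List ℕ} (hX : Good B p n X) (hY : Good B p n Y) :
    natM B p e (mulC B p n X Y) = natM B p e X * natM B p e Y := by
  have hp : 0 < p := (Fact.out : p.Prime).pos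
  ext i t
  have hB0 : 0 < B := by
    have h1 : 1 * 1 * 1 ≤ n * p * p :=
      Nat.mul_le_mul (Nat.mul_le_mul (Nat.lt_of_le_of_lt (Nat.zero_le _) (e i).isLt) hp) hp
    omega
  rw [Matrix.mul_apply, natM_apply, mulC_eq]
  have h1 : (X.map (rowC B p n Y)).getD (e i).val 0 = rowC B p n Y (X.getD (e i).val 0) := by
    have := List.getD_map (f := rowC B p n Y) (l := X) (n := (e i).val) (d := 0)
    rw [rowC_zero] at this
    exact this
  rw [h1, dig_rowC hB hp hY (good_getD hX hB0 hp _).2 (e t).isLt, ZMod.natCast_mod, Nat.cast_sum,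
    ← sum_equiv p e fun k =>
      ((dig B (X.getD (e i).val 0) k * dig B (Y.getD k 0) (e t).val : ℕ) : ZMod p)]
  apply Finset.sum_congr rfl
  intro k _
  rw [natM_apply, natM_apply, Nat.cast_mul]

theorem natM_idC (hB : 1 < B) : natM B p e (idC B n) = 1 := by
  ext i j
  rw [natM_apply, Matrix.one_apply]
  have h1 : (idC B n).getD (e i).val 0 = B ^ (e i).val := by
    unfold idC
    rw [List.getD_eq_getElem _ _ (by rw [List.length_map, List.length_range]; exact (e i).isLt),
      List.getElem_map, List.getElem_range]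
    rfl
  rw [h1, dig_pow hB (e i).isLt (e j).isLt]
  by_cases h : i = j
  · subst h
    rw [if_pos rfl, if_pos rfl, Nat.cast_one]
  · rw [if_neg h, if_neg (fun h' => h (e.injective (Fin.ext h'))), Nat.cast_zero]

theorem natM_prodC (hB : n * p * p ≤ B) (hB1 : 1 < B) (hpB : p ≤ B) (Ms : List (List ℕ))
    (hMs : ∀ M ∈ Ms, Good B p n M) :
    natM B p e (prodC B p n Ms) = (Ms.map (natM B p e)).prod := by
  have hp : 1 < p := (Fact.out : p.Prime).one_lt
  induction Ms using List.reverseRecOn with
  | nil =>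
    show natM B p e (idC B n) = _
    rw [natM_idC e hB1, List.map_nil, List.prod_nil]
  | append_singleton Ms M ih =>
    have h1 : prodC B p n (Ms ++ [M]) = mulC B p n (prodC B p n Ms) M := by
      unfold prodC
      rw [List.foldl_append, List.foldl_cons, List.foldl_nil]
    have hg : Good B p n (prodC B p n Ms) := good_prodC hB1 hpB hp Ms
    rw [h1, natM_mulC e hB hg (hMs M (List.mem_append_right _ (List.mem_singleton_self M))),
      ih (fun M' hM' => hMs M' (List.mem_append_left _ hM')), List.map_append, List.prod_append,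
      List.map_cons, List.map_nil, List.prod_cons, List.prod_nil, mul_one]

theorem natM_pow9C (hB : n * p * p ≤ B) (hpB : p ≤ B) {W : List ℕ} (hW : Good B p n W) :
    natM B p e (pow9C B p n W) = natM B p e W ^ 9 := by
  have hp : 0 < p := (Fact.out : p.Prime).pos
  unfold pow9C sqC
  rw [natM_mulC e hB (good_mulC hpB hp _ _) hW,
    natM_mulC e hB (good_mulC hpB hp _ _) (good_mulC hpB hp _ _),
    natM_mulC e hB (good_mulC hpB hp _ _) (good_mulC hpB hp _ _), natM_mulC e hB hW hW]
  simp only [pow_succ, pow_zero, one_mul, mul_assoc]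

theorem natM_pow10C (hB : n * p * p ≤ B) (hpB : p ≤ B) {W : List ℕ} (hW : Good B p n W) :
    natM B p e (pow10C B p n W) = natM B p e W ^ 10 := by
  have hp : 0 < p := (Fact.out : p.Prime).pos
  unfold pow10C sqC
  rw [natM_mulC e hB (good_mulC hpB hp _ _) (good_mulC hpB hp _ _),
    natM_mulC e hB (good_mulC hpB hp _ _) hW,
    natM_mulC e hB (good_mulC hpB hp _ _) (good_mulC hpB hp _ _), natM_mulC e hB hW hW]
  simp only [pow_succ, pow_zero, one_mul, mul_assoc]

end

end Cfsg.Agent.Lib.Helper6.PackMat
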