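import Mathlib
import Cfsg.Prelude.Def_Characters
import Cfsg.Prelude.Def_CharExt
import Cfsg.Agent.Lib.helper3.GlCyc3
import Cfsg.Agent.S0867

/-!
# S4472, piece P3a: the canonical extension is stable under the power maps trivial on `K`
-/

set_option autoImplicit false
set_option linter.style.haveILetI false
set_option linter.unusedSectionVars false

namespace Cfsg.Agent.Lib.Helper6.PowInv

open Cfsg
open Cfsg.Agent.Lib.helper3.Irr Cfsg.Agent.Lib.helper3.CharBasic
open Cfsg.Agent.Lib.helper3.Det Cfsg.Agent.Lib.helper3.SolvExt Cfsg.Agent.Lib.helper3.GlCyc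

universe u

/-- **S4472 P3a** -/
theorem exists_ext_pow_invariant {X : Type u} [Group X] [Finite X] (K : Subgroup X) [hK : K.Normal]
    (hcop : (Nat.card K).Coprime K.index) (φ : K → ℂ) (hφ : IsIrrCharacter K φ)
    (hinv : ∀ (g : X) (k : K), φ ⟨g * k * g⁻¹, hK.conj_mem (k : X) k.2 g⟩ = φ k) :
    ∃ ξ : X → ℂ, IsIrrCharacter X ξ ∧ (∀ k : K, ξ k = φ k) ∧
      ∀ j : ℕ, j.Coprime (Nat.card X) → j ≡ 1 [MOD Nat.card K] → ∀ x : X, ξ (x ^ j) = ξ x := by
  classical
  letI : Fintype X := Fintype.ofFinite X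
  obtain ⟨d, hd, hdd, -⟩ := Cfsg.Agent.Lib.helper3.Central.irr_degree_dvd_card hφ
  have hdetdvd : detOrder φ ∣ Nat.card K := detOrder_dvd_card (isCharacter_of_isIrrCharacter hφ)
  have hcop' : Nat.Coprime K.index (detOrder φ * d) := by
    apply Nat.Coprime.mul_right
    · exact (Nat.Coprime.coprime_dvd_left hdetdvd hcop).symm
    · exact (Nat.Coprime.coprime_dvd_left hdd hcop).symm
  obtain ⟨ξ, ⟨hξ, hres, hdet⟩, -⟩ := Cfsg.Agent.S0867.result K φ hφ hinv d hd hcop'
  refine ⟨ξ, hξ, hres, ?_⟩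
  intro j hj hj1 x
  have hresf : (fun g : K => ξ g) = φ := funext hres
  have hξK : IsIrrCharacter K (fun g : K => ξ g) := by rw [hresf]; exact hφ
  have hdet' : (detOrder ξ).Coprime K.index := by
    rw [hdet]
    exact Nat.Coprime.coprime_dvd_left hdetdvd hcop
  exact canonical_pow_invariant K hcop ξ hξ hξK hdet' j hj hj1 x

end Cfsg.Agent.Lib.Helper6.PowInv
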