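import Mathlib
import Cfsg.Prelude.Def_Characters
import Cfsg.Agent.Lib.helper3.CliffCorr
import Cfsg.Agent.Lib.helper3.FullyRam
import Cfsg.Agent.Lib.helper3.Ito
import Cfsg.Agent.Lib.Helper6.PowInvA
import Cfsg.Agent.Lib.Helper6.PowInvB

/-!
# S4472, piece P3: a character agreeing with `χ` on a normal Hall subgroup `K` and stable under
the power maps `x ↦ x ^ j`, `j ≡ 1 mod |K|`
-/

set_option autoImplicit false
set_option linter.style.haveILetI false
set_option linter.unusedSectionVars false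

namespace Cfsg.Agent.Lib.Helper6.PowInv

open Cfsg
open Cfsg.Agent.Lib.helper3.Irr Cfsg.Agent.Lib.helper3.CharBasic Cfsg.Agent.Lib.helper3.IndFun

universe u

/-- the conclusion of P3 -/
def Good (X : Type u) [Group X] (K : Subgroup X) (χ : X → ℂ) : Prop :=
  ∃ Ψ : X → ℂ, IsCharacter X Ψ ∧ (∀ k : K, Ψ k = χ k) ∧
    ∀ j : ℕ, j.Coprime (Nat.card X) → j ≡ 1 [MOD Nat.card K] → ∀ x : X, Ψ (x ^ j) = Ψ x

theorem good_of_irr {X : Type u} [Group X] [Finite X] (K : Subgroup X)
    (h : ∀ ψ : X → ℂ, IsIrrCharacter X ψ → Good X K ψ) (χ : X → ℂ) (hχ : IsCharacter X χ) :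
    Good X K χ := by
  classical
  letI : Fintype X := Fintype.ofFinite X
  obtain ⟨m, rfl⟩ := exists_decomposition_of_isCharacter hχ
  choose Ψ hΨ1 hΨ2 hΨ3 using fun ψ : IrrCharacter X => h ψ.1 ψ.2
  refine ⟨∑ ψ : IrrCharacter X, (m ψ : ℂ) • Ψ ψ, ?_, ?_, ?_⟩
  · apply isCharacter_sum
    intro ψ _
    exact isCharacter_nsmul (hΨ1 ψ) _
  · intro k
    rw [Finset.sum_apply, Finset.sum_apply]
    apply Finset.sum_congr rfl
    intro ψ _
    rw [Pi.smul_apply, Pi.smul_apply, hΨ2 ψ k]
  · intro j hj hj1 x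
    rw [Finset.sum_apply, Finset.sum_apply]
    apply Finset.sum_congr rfl
    intro ψ _
    rw [Pi.smul_apply, Pi.smul_apply, hΨ3 ψ j hj hj1 x]

theorem good_aux : ∀ n : ℕ, ∀ (X : Type u) [Group X] [Finite X], Nat.card X = n →
    ∀ (K : Subgroup X) [K.Normal], (Nat.card K).Coprime K.index →
      ∀ χ : X → ℂ, IsCharacter X χ → Good X K χ := by
  intro n
  induction n using Nat.strong_induction_on with
  | _ n ih =>
    intro X _ _ hn K hK hcop χ hχ
    classical
    letI : Fintype X := Fintype.ofFinite X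
    letI : Fintype K := Fintype.ofFinite K
    apply good_of_irr K _ χ hχ
    intro χ hχ
    have hχc := isCharacter_of_isIrrCharacter hχ
    have hresc : IsCharacter K (fun k : K => χ k) := isCharacter_restrict hχc K
    have hne : (fun k : K => χ k) ≠ 0 := by
      intro h0
      have := congrFun h0 1
      simp only [Pi.zero_apply] at this
      rw [show ((1 : K) : X) = 1 from rfl] at this
      exact apply_one_ne_zero hχ this
    obtain ⟨φ, hφ⟩ := exists_constituent hresc hne
    have hφc := isCharacter_of_isIrrCharacter φ.2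
    have hKT : K ≤ inertia K φ.1 := le_inertia K φ.1 (isClassFunction_of_isCharacter hφc)
    by_cases hT : inertia K φ.1 = ⊤
    · -- the invariant case
      have hinv : ∀ (g : X) (k : K), φ.1 ⟨g * k * g⁻¹, hK.conj_mem (k : X) k.2 g⟩ = φ.1 k := by
        intro g
        have : g ∈ inertia K φ.1 := hT ▸ Subgroup.mem_top g
        exact (mem_inertia_iff K φ.1 g).1 this
      obtain ⟨ξ, hξ, hξres, hξpow⟩ := exists_ext_pow_invariant K hcop φ.1 φ.2 hinv
      have hsm := restrict_eq_smul_of_invariant K χ hχ φ.1 φ.2 hφ hinv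
      obtain ⟨e, he⟩ := exists_nat_classInner_of_isCharacter_of_isCharacter hresc hφc
      refine ⟨(e : ℂ) • ξ, isCharacter_nsmul (isCharacter_of_isIrrCharacter hξ) e, ?_, ?_⟩
      · intro k
        have h1 := congrFun hsm k
        simp only [Pi.smul_apply, smul_eq_mul] at h1 ⊢
        rw [h1, he, hξres k]
      · intro j hj hj1 x
        simp only [Pi.smul_apply, smul_eq_mul]
        rw [hξpow j hj hj1 x]
    · -- the Clifford correspondence
      set T := inertia K φ.1 with hTdef
      letI : Fintype T := Fintype.ofFinite T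
      obtain ⟨η, hη, hind, -⟩ := clifford_corr_surjective K φ.1 φ.2 T (mem_inertia_iff K φ.1) hKT
        χ hχ hφ
      have hlt : Nat.card ↥T < n := by
        rw [← hn]
        exact lt_of_le_of_ne (Subgroup.card_le_card_group T)
          (fun h => hT ((Subgroup.card_eq_iff_eq_top T).1 h))
      haveI hK'n : (K.subgroupOf T).Normal := hK.subgroupOf T
      have hK'card : Nat.card ↥(K.subgroupOf T) = Nat.card ↥K :=
        Nat.card_congr (Subgroup.subgroupOfEquivOfLe hKT).toEquiv
      have hK'cop : (Nat.card ↥(K.subgroupOf T)).Coprime (K.subgroupOf T).index := by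
        rw [hK'card]
        have hdvd : K.relIndex T ∣ K.index := Dvd.intro _ (Subgroup.relIndex_mul_index hKT)
        exact Nat.Coprime.coprime_dvd_right hdvd hcop
      obtain ⟨Ψη, hΨη, hres, hpow⟩ := ih (Nat.card ↥T) hlt ↥T rfl (K.subgroupOf T) hK'cop η
        (isCharacter_of_isIrrCharacter hη)
      refine ⟨indFun T Ψη, isCharacter_indFun T Ψη hΨη, ?_, ?_⟩
      · intro k
        rw [indFun_restrict_normal K T hKT Ψη η
          (fun k => hres ⟨⟨k, hKT k.2⟩, Subgroup.mem_subgroupOf.2 k.2⟩) k, hind]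
      · intro j hj hj1 x
        apply indFun_pow T Ψη j hj
        intro t
        apply hpow j
        · exact Nat.Coprime.coprime_dvd_right (Subgroup.card_subgroup_dvd_card T) hj
        · rw [hK'card]; exact hj1

/-- **S4472 P3** -/
theorem exists_pow_invariant {X : Type u} [Group X] [Finite X] (K : Subgroup X) [K.Normal]
    (hcop : (Nat.card K).Coprime K.index) (χ : X → ℂ) (hχ : IsCharacter X χ) :
    ∃ Ψ : X → ℂ, IsCharacter X Ψ ∧ (∀ k : K, Ψ k = χ k) ∧
      ∀ j : ℕ, j.Coprime (Nat.card X) → j ≡ 1 [MOD Nat.card K] → ∀ x : X, Ψ (x ^ j) = Ψ x :=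
  good_aux _ X rfl K hcop χ hχ

end Cfsg.Agent.Lib.Helper6.PowInv
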