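import Mathlib
import Cfsg.Agent.Lib.Helper6.RealSylow2

/-!
# Group theory for the rows on real characters of `p'`-degree, part 3

Reduction to the subgroup generated by the `2`-elements.
-/

set_option autoImplicit false
set_option linter.style.haveILetI false

universe u

namespace Cfsg.Agent.Lib.Helper6.RealSylow

open Cfsg
open Cfsg.Agent.Lib.Helper6.RealLift

variable {G : Type u} [Group G] [Finite G]

/-- the subgroup generated by the `2`-elements has odd index -/
theorem odd_index_closure_two : Odd (Subgroup.closure (pElts 2 G)).index := by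
  have hn : (Subgroup.closure (pElts 2 G)).Normal := normal_closure_pElts 2
  rw [Subgroup.index_eq_card, ← Nat.not_even_iff_odd]
  intro heven
  have : Fact (Nat.Prime 2) := ⟨Nat.prime_two⟩
  obtain ⟨q, hq⟩ := exists_prime_orderOf_dvd_card' 2 heven.two_dvd
  obtain ⟨c, rfl⟩ := QuotientGroup.mk_surjective q
  obtain ⟨m, hm, k, hk⟩ := exists_odd_pow_two_elt c
  have h1 : c ^ m ∈ Subgroup.closure (pElts 2 G) := Subgroup.subset_closure ⟨k, hk⟩
  have h2 : (QuotientGroup.mk c : G ⧸ Subgroup.closure (pElts 2 G)) ^ m = 1 := by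
    rw [← QuotientGroup.mk_pow]
    exact (QuotientGroup.eq_one_iff _).mpr h1
  have h3 : 2 ∣ m := hq ▸ orderOf_dvd_of_pow_eq_one h2
  exact (Nat.not_even_iff_odd.mpr hm) (even_iff_two_dvd.mpr h3)

/-- the `p`-elements of a subgroup generate a solvable subgroup if those of the group do -/
theorem solvable_sub (p : ℕ) (K : Subgroup G)
    (h : Group.IsSolvable ↥(Subgroup.closure (pElts p G))) :
    Group.IsSolvable ↥(Subgroup.closure (pElts p ↥K)) := by
  have hle : (Subgroup.closure (pElts p ↥K)).map K.subtype ≤ Subgroup.closure (pElts p G) := by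
    rw [MonoidHom.map_closure, Subgroup.closure_le]
    rintro _ ⟨x, ⟨k, hk⟩, rfl⟩
    apply Subgroup.subset_closure
    exact ⟨k, by rw [Subgroup.coe_subtype, Subgroup.orderOf_coe, hk]⟩
  let f : ↥(Subgroup.closure (pElts p ↥K)) →* ↥(Subgroup.closure (pElts p G)) :=
    { toFun := fun x => ⟨((x : ↥K) : G), hle ⟨x, x.2, rfl⟩⟩
      map_one' := rfl
      map_mul' := fun _ _ => rfl }
  have hf : Function.Injective f := by
    intro x y hxy
    have := congrArg Subtype.val hxy
    exact Subtype.ext (Subtype.ext this)
  exact Group.isSolvable_of_isSolvable_injective hf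

/-- the subgroup generated by the `2`-elements is generated by its `2`-elements -/
theorem closure_two_sub :
    Subgroup.closure (pElts 2 ↥(Subgroup.closure (pElts 2 G))) = ⊤ := by
  apply Subgroup.map_injective (Subgroup.closure (pElts 2 G)).subtype_injective
  rw [MonoidHom.map_closure, ← MonoidHom.range_eq_map, Subgroup.range_subtype]
  apply le_antisymm
  · rw [Subgroup.closure_le]
    rintro _ ⟨x, -, rfl⟩
    exact x.2
  · apply Subgroup.closure_mono
    intro g hg
    obtain ⟨k, hk⟩ := hg
    refine ⟨⟨g, Subgroup.subset_closure ⟨k, hk⟩⟩, ⟨k, ?_⟩, rfl⟩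
    rw [← hk]
    exact (Subgroup.orderOf_mk g _)

/-- the theorem: the subgroup generated by the `2`-elements has a normal Sylow `p`-subgroup -/
theorem sylow_normal_closure_two {p : ℕ} [Fact p.Prime] (hF : CharFacts.{u} p)
    (hsolv : Group.IsSolvable ↥(Subgroup.closure (pElts p G))) (hreal : HR p G)
    (Q : Sylow p ↥(Subgroup.closure (pElts 2 G))) :
    (Q : Subgroup ↥(Subgroup.closure (pElts 2 G))).Normal := by
  have hn : (Subgroup.closure (pElts 2 G)).Normal := normal_closure_pElts 2
  exact sylow_normal_aux hF _ ↥(Subgroup.closure (pElts 2 G)) rfl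
    (solvable_sub p _ hsolv) (hF.c1 G _ odd_index_closure_two hreal) closure_two_sub Q

end Cfsg.Agent.Lib.Helper6.RealSylow
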