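import Cfsg.Agent.Lib.Helper6.SimpUB

/-! # A presentation of the group `PSL(2,8)` on three involutions

`P3` on the generators `a, b, c` with the Coxeter graph `a -3- b -7- c` and the further relator
`(abc)^9`, and the sub-presentation `P2` on `b, c`. -/

set_option autoImplicit false
set_option linter.unusedSimpArgs false

namespace Cfsg.Agent.Lib.Helper6.Ree3Sub

open Cfsg.Spor Cfsg.Agent.Lib.Helper6.Simp

namespace P3

/-- the generators a, b, c -/
inductive Gen
  | a
  | b
  | c
  deriving DecidableEq

abbrev a : FreeGroup Gen := FreeGroup.of Gen.a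
abbrev b : FreeGroup Gen := FreeGroup.of Gen.b
abbrev c : FreeGroup Gen := FreeGroup.of Gen.c

/-- the Coxeter graph -/
def edges : List (Gen × ℕ × Gen) :=
  [(.a, 3, .b), (.b, 7, .c)]

/-- the further relator -/
def extra : List (FreeGroup Gen) := [(a * b * c) ^ 9]

end P3

/-- the presented group on a, b, c -/
abbrev P3 : Type := CoxPresented P3.Gen P3.edges P3.extra

namespace P2

/-- the generators b, c -/
inductive Gen
  | b
  | c
  deriving DecidableEq

abbrev b : FreeGroup Gen := FreeGroup.of Gen.b
abbrev c : FreeGroup Gen := FreeGroup.of Gen.c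

/-- the Coxeter graph -/
def edges : List (Gen × ℕ × Gen) :=
  [(.b, 7, .c)]

/-- no further relators -/
def extra : List (FreeGroup Gen) := []

/-- the inclusion of the generators -/
def ι : Gen → P3.Gen
  | .b => .b
  | .c => .c

end P2

/-- the group of the sub-presentation on b, c -/
abbrev P2 : Type := CoxPresented P2.Gen P2.edges P2.extra

/-- `P2` maps to `P3` -/
def subP2 : SubPres P3.edges P3.extra P2.edges P2.extra where
  ι := P2.ι
  hnode := by decide
  hlabel := by decide
  hextra := by
    intro r hr
    simp [P2.extra] at hr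

theorem rangeP2 : (Set.range fun y => FreeGroup.of (subP2.ι y)) =
    ({P3.b, P3.c} : Set (FreeGroup P3.Gen)) := by
  ext z
  constructor
  · rintro ⟨y, rfl⟩
    cases y <;> simp [subP2, P2.ι]
  · intro hz
    simp only [Set.mem_insert_iff, Set.mem_singleton_iff] at hz
    rcases hz with rfl | rfl
    · exact ⟨.b, rfl⟩
    · exact ⟨.c, rfl⟩

end Cfsg.Agent.Lib.Helper6.Ree3Sub
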