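import Cfsg.Agent.Lib.Helper6.Ree3P3Simp
import Cfsg.Agent.Lib.Helper6.Ree3P3TC
import Cfsg.Agent.Lib.Helper6.Ree3P2TC

/-! # The presented group `P3` (that is `PSL(2,8)`) is simple of order 504 -/

set_option autoImplicit false

namespace Cfsg.Agent.Lib.Helper6.Ree3Simple

open Cfsg.Spor Cfsg.Agent.Lib.Helper6.Simp Cfsg.Agent.Lib.Helper6.Ree3Sub
  Cfsg.Agent.Lib.Helper6.TC Cfsg.Agent.Lib.Helper6.NatArr

/-- the order is at most `36 * 14` -/
theorem ub : Finite P3 ∧ Nat.card P3 ≤ 504 := by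
  have h2 := finite_card_of_index_empty Ree3P2TC.main (by norm_num)
  have h3 := subP2.finite_card_le Ree3P3TC.S rangeP2.symm Ree3P3TC.main (by norm_num) h2.1
    (le_of_eq h2.2)
  exact ⟨h3.1, h3.2.trans (by norm_num)⟩

theorem chk_cover : allBelow 36 (fun b => Nat.beq b 0 ||
    (btest Ree3P3TC.orbB1 b || (btest Ree3P3TC.orbB2 b || (btest Ree3P3TC.orbB3 b ||
      btest Ree3P3TC.orbB4 b)))) = true := by decide +kernel

theorem chk_disj : ∀ i j : Fin 4, i ≠ j →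
    Nat.land (![Ree3P3TC.orbB1, Ree3P3TC.orbB2, Ree3P3TC.orbB3, Ree3P3TC.orbB4] i)
      (![Ree3P3TC.orbB1, Ree3P3TC.orbB2, Ree3P3TC.orbB3, Ree3P3TC.orbB4] j) = 0 := by
  decide +kernel

theorem chk_o : ∀ i : Fin 4,
    (![Ree3P3TC.orbB1, Ree3P3TC.orbB2, Ree3P3TC.orbB3, Ree3P3TC.orbB4] i).testBit 0 = false := by
  decide +kernel

/-- **the presented group is simple of order 504** -/
theorem main : IsSimpleGroup P3 ∧ Nat.card P3 = 504 := by
  refine simple_card Ree3P3TC.data ub Ree3P3Simp.levels Ree3P3Simp.chain_ok Ree3P3Simp.chain_prod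
    (r := 4) ![Ree3P3TC.orb1, Ree3P3TC.orb2, Ree3P3TC.orb3, Ree3P3TC.orb4] ![7, 7, 14, 7]
    ?_ ?_ ?_ ?_ ?_ 9 ?_ Ree3P3Simp.us Ree3P3Simp.chk_pow ?_
  · intro i
    fin_cases i
    · exact Ree3P3TC.chk_cnt1
    · exact Ree3P3TC.chk_cnt2
    · exact Ree3P3TC.chk_cnt3
    · exact Ree3P3TC.chk_cnt4
  · intro b hb
    have h := allBelow_spec _ _ chk_cover b hb
    simp only [Bool.or_eq_true, btest_eq] at h
    rcases h with h | h | h | h | h
    · exact Or.inl (Nat.eq_of_beq_eq_true h)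
    · exact Or.inr ⟨0, h⟩
    · exact Or.inr ⟨1, h⟩
    · exact Or.inr ⟨2, h⟩
    · exact Or.inr ⟨3, h⟩
  · intro i j hij
    have := chk_disj i j hij
    fin_cases i <;> fin_cases j <;> first | exact absurd rfl hij | exact this
  · intro i
    have := chk_o i
    fin_cases i <;> exact this
  · show ∀ I : Finset (Fin 4), I.Nonempty → (1 + ∑ i ∈ I, ![7, 7, 14, 7] i) ∣ 36 →
      1 + ∑ i ∈ I, ![7, 7, 14, 7] i = 36
    decide
  · show (504 / 36).Coprime 9
    norm_num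
  · show 1 < 36
    norm_num

end Cfsg.Agent.Lib.Helper6.Ree3Simple
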