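import Cfsg.Agent.Lib.Helper6.ChevMatL
import Cfsg.Agent.Lib.Helper6.Ree3P3TCChk2
import Cfsg.Prelude.Def_LieTwisted

/-! # Matrices of the group `²G₂(3)`: the root elements of `G₂(3)`, three involutions that
satisfy the relators of the presentation `P3` of `PSL(2,8)`, and words that express the
generators of `²G₂(3)` by these involutions and an element of order three (generated; the words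
were found by a search in the matrix group). All matrices are given by the lists of their
columns. -/

set_option autoImplicit false
set_option maxRecDepth 1000000
set_option maxHeartbeats 4000000

namespace Cfsg.Agent.Lib.Helper6.Ree3Mat

open Cfsg.Agent.Lib.Helper6.ChevMatL Cfsg.Agent.Lib.Helper6.TC Cfsg.Agent.Lib.Helper6.Ree3Sub
  Cfsg.Lie

/-- an entry of a root element of a Chevalley group -/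
def xE (D : ChevalleyDatum) (F : Type) [Field F] (r : ℕ) (t : F) (i j : D.Idx) : F := D.x F r t i j

/-- the root element of root 0 with parameter 1 -/
def x0_1 : List (List (ZMod 3)) :=
  [[1, 0, 0, 0, 0, 0, 0, 0, 0, 0, 0, 0, 0, 0],
    [0, 1, 1, 0, 0, 0, 0, 0, 0, 0, 0, 0, 0, 0],
    [0, 0, 1, 0, 0, 0, 0, 0, 0, 0, 0, 0, 0, 0],
    [0, 0, 0, 1, 0, 0, 0, 0, 0, 0, 0, 0, 0, 0],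
    [0, 0, 0, 0, 1, 0, 0, 0, 0, 0, 0, 0, 0, 0],
    [0, 0, 0, 0, 0, 1, 0, 0, 0, 0, 0, 0, 0, 0],
    [0, 0, 0, 0, 0, 0, 1, 0, 0, 0, 0, 0, 0, 0],
    [0, 0, 0, 0, 0, 0, 0, 1, 0, 0, 0, 0, 0, 0],
    [0, 0, 0, 1, 0, 0, 0, 0, 1, 0, 0, 0, 0, 0],
    [0, 0, 0, 0, 0, 0, 0, 0, 0, 1, 0, 0, 0, 0],
    [0, 0, 0, 0, 1, 0, 0, 0, 0, 0, 1, 0, 0, 0],
    [0, 0, 0, 0, 0, 2, 0, 0, 0, 0, 0, 1, 0, 0],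
    [0, 0, 0, 0, 0, 0, 0, 2, 0, 0, 0, 0, 1, 0],
    [2, 1, 2, 0, 0, 0, 0, 0, 0, 0, 0, 0, 0, 1]]

/-- the root element of root 0 with parameter 2 -/
def x0_2 : List (List (ZMod 3)) :=
  [[1, 0, 0, 0, 0, 0, 0, 0, 0, 0, 0, 0, 0, 0],
    [0, 1, 2, 0, 0, 0, 0, 0, 0, 0, 0, 0, 0, 0],
    [0, 0, 1, 0, 0, 0, 0, 0, 0, 0, 0, 0, 0, 0],
    [0, 0, 0, 1, 0, 0, 0, 0, 0, 0, 0, 0, 0, 0],
    [0, 0, 0, 0, 1, 0, 0, 0, 0, 0, 0, 0, 0, 0],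
    [0, 0, 0, 0, 0, 1, 0, 0, 0, 0, 0, 0, 0, 0],
    [0, 0, 0, 0, 0, 0, 1, 0, 0, 0, 0, 0, 0, 0],
    [0, 0, 0, 0, 0, 0, 0, 1, 0, 0, 0, 0, 0, 0],
    [0, 0, 0, 2, 0, 0, 0, 0, 1, 0, 0, 0, 0, 0],
    [0, 0, 0, 0, 0, 0, 0, 0, 0, 1, 0, 0, 0, 0],
    [0, 0, 0, 0, 2, 0, 0, 0, 0, 0, 1, 0, 0, 0],
    [0, 0, 0, 0, 0, 1, 0, 0, 0, 0, 0, 1, 0, 0],
    [0, 0, 0, 0, 0, 0, 0, 1, 0, 0, 0, 0, 1, 0],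
    [1, 2, 2, 0, 0, 0, 0, 0, 0, 0, 0, 0, 0, 1]]

/-- the root element of root 1 with parameter 1 -/
def x1_1 : List (List (ZMod 3)) :=
  [[1, 0, 0, 0, 0, 0, 0, 0, 0, 0, 0, 0, 0, 0],
    [0, 1, 0, 2, 0, 0, 0, 0, 0, 0, 0, 0, 0, 0],
    [0, 0, 1, 0, 0, 0, 0, 0, 0, 0, 0, 0, 0, 0],
    [0, 0, 0, 1, 0, 0, 0, 0, 0, 0, 0, 0, 0, 0],
    [0, 0, 0, 0, 1, 0, 0, 0, 0, 0, 0, 0, 0, 0],
    [0, 0, 0, 0, 0, 1, 0, 0, 0, 0, 0, 0, 0, 0],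
    [0, 0, 0, 0, 0, 0, 1, 0, 0, 0, 0, 0, 0, 0],
    [0, 0, 1, 0, 0, 0, 0, 1, 0, 0, 0, 0, 0, 0],
    [0, 0, 0, 0, 0, 0, 0, 0, 1, 0, 0, 0, 0, 0],
    [0, 0, 0, 0, 1, 0, 0, 0, 0, 1, 0, 0, 0, 0],
    [0, 0, 0, 0, 0, 0, 0, 0, 0, 0, 1, 0, 0, 0],
    [0, 0, 0, 0, 0, 0, 2, 0, 0, 0, 0, 1, 0, 0],
    [2, 2, 0, 2, 0, 0, 0, 0, 0, 0, 0, 0, 1, 0],
    [0, 0, 0, 0, 0, 0, 0, 0, 2, 0, 0, 0, 0, 1]]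

/-- the root element of root 1 with parameter 2 -/
def x1_2 : List (List (ZMod 3)) :=
  [[1, 0, 0, 0, 0, 0, 0, 0, 0, 0, 0, 0, 0, 0],
    [0, 1, 0, 1, 0, 0, 0, 0, 0, 0, 0, 0, 0, 0],
    [0, 0, 1, 0, 0, 0, 0, 0, 0, 0, 0, 0, 0, 0],
    [0, 0, 0, 1, 0, 0, 0, 0, 0, 0, 0, 0, 0, 0],
    [0, 0, 0, 0, 1, 0, 0, 0, 0, 0, 0, 0, 0, 0],
    [0, 0, 0, 0, 0, 1, 0, 0, 0, 0, 0, 0, 0, 0],
    [0, 0, 0, 0, 0, 0, 1, 0, 0, 0, 0, 0, 0, 0],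
    [0, 0, 2, 0, 0, 0, 0, 1, 0, 0, 0, 0, 0, 0],
    [0, 0, 0, 0, 0, 0, 0, 0, 1, 0, 0, 0, 0, 0],
    [0, 0, 0, 0, 2, 0, 0, 0, 0, 1, 0, 0, 0, 0],
    [0, 0, 0, 0, 0, 0, 0, 0, 0, 0, 1, 0, 0, 0],
    [0, 0, 0, 0, 0, 0, 1, 0, 0, 0, 0, 1, 0, 0],
    [1, 1, 0, 2, 0, 0, 0, 0, 0, 0, 0, 0, 1, 0],
    [0, 0, 0, 0, 0, 0, 0, 0, 1, 0, 0, 0, 0, 1]]

/-- the root element of root 2 with parameter 1 -/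
def x2_1 : List (List (ZMod 3)) :=
  [[1, 0, 0, 0, 1, 0, 0, 0, 0, 0, 0, 0, 0, 0],
    [0, 1, 0, 0, 0, 0, 0, 0, 0, 0, 0, 0, 0, 0],
    [0, 0, 1, 0, 0, 0, 0, 0, 0, 0, 0, 0, 0, 0],
    [0, 0, 0, 1, 0, 0, 0, 0, 0, 0, 0, 0, 0, 0],
    [0, 0, 0, 0, 1, 0, 0, 0, 0, 0, 0, 0, 0, 0],
    [0, 0, 0, 0, 0, 1, 0, 0, 0, 0, 0, 0, 0, 0],
    [0, 0, 0, 0, 0, 0, 1, 0, 0, 0, 0, 0, 0, 0],
    [0, 0, 0, 0, 0, 0, 0, 1, 0, 0, 0, 0, 0, 0],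
    [0, 0, 0, 0, 0, 0, 0, 0, 1, 0, 0, 0, 0, 0],
    [0, 0, 0, 0, 0, 1, 0, 0, 0, 1, 0, 0, 0, 0],
    [0, 0, 0, 0, 0, 0, 2, 0, 0, 0, 1, 0, 0, 0],
    [1, 0, 0, 0, 2, 0, 0, 0, 0, 0, 0, 1, 0, 0],
    [0, 0, 1, 0, 0, 1, 0, 0, 0, 2, 0, 0, 1, 0],
    [0, 0, 0, 2, 0, 0, 2, 0, 0, 0, 2, 0, 0, 1]]

/-- the root element of root 2 with parameter 2 -/
def x2_2 : List (List (ZMod 3)) :=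
  [[1, 0, 0, 0, 2, 0, 0, 0, 0, 0, 0, 0, 0, 0],
    [0, 1, 0, 0, 0, 0, 0, 0, 0, 0, 0, 0, 0, 0],
    [0, 0, 1, 0, 0, 0, 0, 0, 0, 0, 0, 0, 0, 0],
    [0, 0, 0, 1, 0, 0, 0, 0, 0, 0, 0, 0, 0, 0],
    [0, 0, 0, 0, 1, 0, 0, 0, 0, 0, 0, 0, 0, 0],
    [0, 0, 0, 0, 0, 1, 0, 0, 0, 0, 0, 0, 0, 0],
    [0, 0, 0, 0, 0, 0, 1, 0, 0, 0, 0, 0, 0, 0],
    [0, 0, 0, 0, 0, 0, 0, 1, 0, 0, 0, 0, 0, 0],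
    [0, 0, 0, 0, 0, 0, 0, 0, 1, 0, 0, 0, 0, 0],
    [0, 0, 0, 0, 0, 2, 0, 0, 0, 1, 0, 0, 0, 0],
    [0, 0, 0, 0, 0, 0, 1, 0, 0, 0, 1, 0, 0, 0],
    [2, 0, 0, 0, 2, 0, 0, 0, 0, 0, 0, 1, 0, 0],
    [0, 0, 2, 0, 0, 1, 0, 0, 0, 1, 0, 0, 1, 0],
    [0, 0, 0, 1, 0, 0, 2, 0, 0, 0, 1, 0, 0, 1]]

/-- the root element of root 3 with parameter 1 -/
def x3_1 : List (List (ZMod 3)) :=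
  [[1, 0, 0, 0, 0, 2, 0, 0, 0, 0, 0, 0, 0, 0],
    [0, 1, 0, 0, 0, 1, 0, 0, 0, 0, 0, 0, 0, 0],
    [0, 0, 1, 0, 0, 0, 0, 0, 0, 0, 0, 0, 0, 0],
    [0, 0, 0, 1, 0, 0, 0, 0, 0, 0, 0, 0, 0, 0],
    [0, 0, 0, 0, 1, 0, 0, 0, 0, 0, 0, 0, 0, 0],
    [0, 0, 0, 0, 0, 1, 0, 0, 0, 0, 0, 0, 0, 0],
    [0, 0, 0, 0, 1, 0, 1, 0, 0, 0, 0, 0, 0, 0],
    [0, 0, 0, 0, 0, 0, 0, 1, 0, 0, 0, 0, 0, 0],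
    [0, 0, 1, 0, 2, 0, 1, 0, 1, 0, 0, 0, 0, 0],
    [0, 0, 0, 0, 0, 0, 0, 0, 0, 1, 0, 0, 0, 0],
    [2, 0, 0, 0, 0, 2, 0, 0, 0, 0, 1, 0, 0, 0],
    [0, 0, 0, 0, 0, 0, 0, 0, 0, 2, 0, 1, 0, 0],
    [0, 0, 0, 0, 0, 0, 0, 0, 0, 0, 0, 0, 1, 0],
    [0, 0, 0, 0, 0, 0, 0, 2, 0, 1, 0, 1, 0, 1]]

/-- the root element of root 3 with parameter 2 -/
def x3_2 : List (List (ZMod 3)) :=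
  [[1, 0, 0, 0, 0, 1, 0, 0, 0, 0, 0, 0, 0, 0],
    [0, 1, 0, 0, 0, 2, 0, 0, 0, 0, 0, 0, 0, 0],
    [0, 0, 1, 0, 0, 0, 0, 0, 0, 0, 0, 0, 0, 0],
    [0, 0, 0, 1, 0, 0, 0, 0, 0, 0, 0, 0, 0, 0],
    [0, 0, 0, 0, 1, 0, 0, 0, 0, 0, 0, 0, 0, 0],
    [0, 0, 0, 0, 0, 1, 0, 0, 0, 0, 0, 0, 0, 0],
    [0, 0, 0, 0, 2, 0, 1, 0, 0, 0, 0, 0, 0, 0],
    [0, 0, 0, 0, 0, 0, 0, 1, 0, 0, 0, 0, 0, 0],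
    [0, 0, 2, 0, 2, 0, 2, 0, 1, 0, 0, 0, 0, 0],
    [0, 0, 0, 0, 0, 0, 0, 0, 0, 1, 0, 0, 0, 0],
    [1, 0, 0, 0, 0, 2, 0, 0, 0, 0, 1, 0, 0, 0],
    [0, 0, 0, 0, 0, 0, 0, 0, 0, 1, 0, 1, 0, 0],
    [0, 0, 0, 0, 0, 0, 0, 0, 0, 0, 0, 0, 1, 0],
    [0, 0, 0, 0, 0, 0, 0, 1, 0, 1, 0, 2, 0, 1]]

/-- the root element of root 4 with parameter 1 -/
def x4_1 : List (List (ZMod 3)) :=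
  [[1, 0, 0, 0, 0, 0, 2, 0, 0, 0, 0, 0, 0, 0],
    [0, 1, 0, 0, 0, 0, 2, 0, 0, 0, 0, 0, 0, 0],
    [0, 0, 1, 0, 0, 0, 0, 0, 0, 0, 0, 0, 0, 0],
    [0, 0, 0, 1, 0, 0, 0, 0, 0, 0, 0, 0, 0, 0],
    [0, 0, 0, 0, 1, 0, 0, 0, 0, 0, 0, 0, 0, 0],
    [0, 0, 0, 0, 2, 1, 0, 0, 0, 0, 0, 0, 0, 0],
    [0, 0, 0, 0, 0, 0, 1, 0, 0, 0, 0, 0, 0, 0],
    [0, 0, 0, 2, 1, 1, 0, 1, 0, 0, 0, 0, 0, 0],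
    [0, 0, 0, 0, 0, 0, 0, 0, 1, 0, 0, 0, 0, 0],
    [2, 0, 0, 0, 0, 0, 2, 0, 0, 1, 0, 0, 0, 0],
    [0, 0, 0, 0, 0, 0, 0, 0, 0, 0, 1, 0, 0, 0],
    [0, 0, 0, 0, 0, 0, 0, 0, 0, 0, 1, 1, 0, 0],
    [0, 0, 0, 0, 0, 0, 0, 0, 1, 0, 2, 1, 1, 0],
    [0, 0, 0, 0, 0, 0, 0, 0, 0, 0, 0, 0, 0, 1]]

/-- the root element of root 4 with parameter 2 -/
def x4_2 : List (List (ZMod 3)) :=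
  [[1, 0, 0, 0, 0, 0, 1, 0, 0, 0, 0, 0, 0, 0],
    [0, 1, 0, 0, 0, 0, 1, 0, 0, 0, 0, 0, 0, 0],
    [0, 0, 1, 0, 0, 0, 0, 0, 0, 0, 0, 0, 0, 0],
    [0, 0, 0, 1, 0, 0, 0, 0, 0, 0, 0, 0, 0, 0],
    [0, 0, 0, 0, 1, 0, 0, 0, 0, 0, 0, 0, 0, 0],
    [0, 0, 0, 0, 1, 1, 0, 0, 0, 0, 0, 0, 0, 0],
    [0, 0, 0, 0, 0, 0, 1, 0, 0, 0, 0, 0, 0, 0],
    [0, 0, 0, 1, 1, 2, 0, 1, 0, 0, 0, 0, 0, 0],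
    [0, 0, 0, 0, 0, 0, 0, 0, 1, 0, 0, 0, 0, 0],
    [1, 0, 0, 0, 0, 0, 2, 0, 0, 1, 0, 0, 0, 0],
    [0, 0, 0, 0, 0, 0, 0, 0, 0, 0, 1, 0, 0, 0],
    [0, 0, 0, 0, 0, 0, 0, 0, 0, 0, 2, 1, 0, 0],
    [0, 0, 0, 0, 0, 0, 0, 0, 2, 0, 2, 2, 1, 0],
    [0, 0, 0, 0, 0, 0, 0, 0, 0, 0, 0, 0, 0, 1]]

/-- the root element of root 5 with parameter 1 -/
def x5_1 : List (List (ZMod 3)) :=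
  [[1, 0, 0, 0, 0, 0, 0, 0, 0, 0, 0, 0, 0, 0],
    [0, 1, 0, 0, 0, 0, 0, 2, 0, 0, 0, 0, 0, 0],
    [0, 0, 1, 0, 0, 0, 0, 0, 0, 0, 0, 0, 0, 0],
    [0, 0, 2, 1, 0, 0, 0, 0, 0, 0, 0, 0, 0, 0],
    [0, 0, 0, 0, 1, 0, 0, 0, 0, 0, 0, 0, 0, 0],
    [0, 0, 0, 0, 0, 1, 0, 0, 0, 0, 0, 0, 0, 0],
    [0, 0, 0, 0, 0, 2, 1, 0, 0, 0, 0, 0, 0, 0],
    [0, 0, 0, 0, 0, 0, 0, 1, 0, 0, 0, 0, 0, 0],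
    [0, 2, 0, 0, 0, 0, 0, 2, 1, 0, 0, 0, 0, 0],
    [0, 0, 0, 0, 0, 0, 0, 0, 0, 1, 0, 0, 0, 0],
    [0, 0, 0, 0, 0, 0, 0, 0, 0, 1, 1, 0, 0, 0],
    [0, 0, 0, 0, 0, 0, 0, 0, 0, 0, 0, 1, 0, 0],
    [0, 0, 0, 0, 0, 0, 0, 0, 0, 0, 0, 0, 1, 0],
    [0, 0, 0, 0, 0, 0, 0, 0, 0, 0, 0, 0, 1, 1]]

/-- the root element of root 5 with parameter 2 -/
def x5_2 : List (List (ZMod 3)) :=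
  [[1, 0, 0, 0, 0, 0, 0, 0, 0, 0, 0, 0, 0, 0],
    [0, 1, 0, 0, 0, 0, 0, 1, 0, 0, 0, 0, 0, 0],
    [0, 0, 1, 0, 0, 0, 0, 0, 0, 0, 0, 0, 0, 0],
    [0, 0, 1, 1, 0, 0, 0, 0, 0, 0, 0, 0, 0, 0],
    [0, 0, 0, 0, 1, 0, 0, 0, 0, 0, 0, 0, 0, 0],
    [0, 0, 0, 0, 0, 1, 0, 0, 0, 0, 0, 0, 0, 0],
    [0, 0, 0, 0, 0, 1, 1, 0, 0, 0, 0, 0, 0, 0],
    [0, 0, 0, 0, 0, 0, 0, 1, 0, 0, 0, 0, 0, 0],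
    [0, 1, 0, 0, 0, 0, 0, 2, 1, 0, 0, 0, 0, 0],
    [0, 0, 0, 0, 0, 0, 0, 0, 0, 1, 0, 0, 0, 0],
    [0, 0, 0, 0, 0, 0, 0, 0, 0, 2, 1, 0, 0, 0],
    [0, 0, 0, 0, 0, 0, 0, 0, 0, 0, 0, 1, 0, 0],
    [0, 0, 0, 0, 0, 0, 0, 0, 0, 0, 0, 0, 1, 0],
    [0, 0, 0, 0, 0, 0, 0, 0, 0, 0, 0, 0, 2, 1]]

/-- the root element of root 6 with parameter 1 -/
def x6_1 : List (List (ZMod 3)) :=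
  [[1, 0, 0, 0, 0, 0, 0, 0, 0, 0, 0, 0, 0, 0],
    [0, 1, 0, 0, 0, 0, 0, 0, 1, 0, 0, 0, 0, 0],
    [0, 0, 1, 2, 0, 0, 0, 0, 0, 0, 0, 0, 0, 0],
    [0, 0, 0, 1, 0, 0, 0, 0, 0, 0, 0, 0, 0, 0],
    [0, 0, 0, 0, 1, 0, 0, 0, 0, 0, 0, 0, 0, 0],
    [0, 0, 0, 0, 0, 1, 2, 0, 0, 0, 0, 0, 0, 0],
    [0, 0, 0, 0, 0, 0, 1, 0, 0, 0, 0, 0, 0, 0],
    [0, 1, 0, 0, 0, 0, 0, 1, 2, 0, 0, 0, 0, 0],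
    [0, 0, 0, 0, 0, 0, 0, 0, 1, 0, 0, 0, 0, 0],
    [0, 0, 0, 0, 0, 0, 0, 0, 0, 1, 1, 0, 0, 0],
    [0, 0, 0, 0, 0, 0, 0, 0, 0, 0, 1, 0, 0, 0],
    [0, 0, 0, 0, 0, 0, 0, 0, 0, 0, 0, 1, 0, 0],
    [0, 0, 0, 0, 0, 0, 0, 0, 0, 0, 0, 0, 1, 1],
    [0, 0, 0, 0, 0, 0, 0, 0, 0, 0, 0, 0, 0, 1]]

/-- the root element of root 6 with parameter 2 -/
def x6_2 : List (List (ZMod 3)) :=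
  [[1, 0, 0, 0, 0, 0, 0, 0, 0, 0, 0, 0, 0, 0],
    [0, 1, 0, 0, 0, 0, 0, 0, 2, 0, 0, 0, 0, 0],
    [0, 0, 1, 1, 0, 0, 0, 0, 0, 0, 0, 0, 0, 0],
    [0, 0, 0, 1, 0, 0, 0, 0, 0, 0, 0, 0, 0, 0],
    [0, 0, 0, 0, 1, 0, 0, 0, 0, 0, 0, 0, 0, 0],
    [0, 0, 0, 0, 0, 1, 1, 0, 0, 0, 0, 0, 0, 0],
    [0, 0, 0, 0, 0, 0, 1, 0, 0, 0, 0, 0, 0, 0],
    [0, 2, 0, 0, 0, 0, 0, 1, 2, 0, 0, 0, 0, 0],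
    [0, 0, 0, 0, 0, 0, 0, 0, 1, 0, 0, 0, 0, 0],
    [0, 0, 0, 0, 0, 0, 0, 0, 0, 1, 2, 0, 0, 0],
    [0, 0, 0, 0, 0, 0, 0, 0, 0, 0, 1, 0, 0, 0],
    [0, 0, 0, 0, 0, 0, 0, 0, 0, 0, 0, 1, 0, 0],
    [0, 0, 0, 0, 0, 0, 0, 0, 0, 0, 0, 0, 1, 2],
    [0, 0, 0, 0, 0, 0, 0, 0, 0, 0, 0, 0, 0, 1]]

/-- the root element of root 7 with parameter 1 -/
def x7_1 : List (List (ZMod 3)) :=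
  [[1, 0, 0, 0, 0, 0, 0, 0, 0, 1, 0, 0, 0, 0],
    [0, 1, 0, 0, 0, 0, 0, 0, 0, 1, 0, 0, 0, 0],
    [0, 0, 1, 0, 0, 0, 0, 0, 0, 0, 0, 0, 0, 0],
    [0, 0, 0, 1, 2, 2, 0, 2, 0, 0, 0, 0, 0, 0],
    [0, 0, 0, 0, 1, 2, 0, 0, 0, 0, 0, 0, 0, 0],
    [0, 0, 0, 0, 0, 1, 0, 0, 0, 0, 0, 0, 0, 0],
    [1, 0, 0, 0, 0, 0, 1, 0, 0, 2, 0, 0, 0, 0],
    [0, 0, 0, 0, 0, 0, 0, 1, 0, 0, 0, 0, 0, 0],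
    [0, 0, 0, 0, 0, 0, 0, 0, 1, 0, 2, 1, 1, 0],
    [0, 0, 0, 0, 0, 0, 0, 0, 0, 1, 0, 0, 0, 0],
    [0, 0, 0, 0, 0, 0, 0, 0, 0, 0, 1, 1, 0, 0],
    [0, 0, 0, 0, 0, 0, 0, 0, 0, 0, 0, 1, 0, 0],
    [0, 0, 0, 0, 0, 0, 0, 0, 0, 0, 0, 0, 1, 0],
    [0, 0, 0, 0, 0, 0, 0, 0, 0, 0, 0, 0, 0, 1]]

/-- the root element of root 7 with parameter 2 -/
def x7_2 : List (List (ZMod 3)) :=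
  [[1, 0, 0, 0, 0, 0, 0, 0, 0, 2, 0, 0, 0, 0],
    [0, 1, 0, 0, 0, 0, 0, 0, 0, 2, 0, 0, 0, 0],
    [0, 0, 1, 0, 0, 0, 0, 0, 0, 0, 0, 0, 0, 0],
    [0, 0, 0, 1, 1, 2, 0, 1, 0, 0, 0, 0, 0, 0],
    [0, 0, 0, 0, 1, 1, 0, 0, 0, 0, 0, 0, 0, 0],
    [0, 0, 0, 0, 0, 1, 0, 0, 0, 0, 0, 0, 0, 0],
    [2, 0, 0, 0, 0, 0, 1, 0, 0, 2, 0, 0, 0, 0],
    [0, 0, 0, 0, 0, 0, 0, 1, 0, 0, 0, 0, 0, 0],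
    [0, 0, 0, 0, 0, 0, 0, 0, 1, 0, 1, 1, 2, 0],
    [0, 0, 0, 0, 0, 0, 0, 0, 0, 1, 0, 0, 0, 0],
    [0, 0, 0, 0, 0, 0, 0, 0, 0, 0, 1, 2, 0, 0],
    [0, 0, 0, 0, 0, 0, 0, 0, 0, 0, 0, 1, 0, 0],
    [0, 0, 0, 0, 0, 0, 0, 0, 0, 0, 0, 0, 1, 0],
    [0, 0, 0, 0, 0, 0, 0, 0, 0, 0, 0, 0, 0, 1]]

/-- the root element of root 8 with parameter 1 -/
def x8_1 : List (List (ZMod 3)) :=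
  [[1, 0, 0, 0, 0, 0, 0, 0, 0, 0, 1, 0, 0, 0],
    [0, 1, 0, 0, 0, 0, 0, 0, 0, 0, 2, 0, 0, 0],
    [0, 0, 1, 0, 2, 0, 1, 0, 1, 0, 0, 0, 0, 0],
    [0, 0, 0, 1, 0, 0, 0, 0, 0, 0, 0, 0, 0, 0],
    [0, 0, 0, 0, 1, 0, 1, 0, 0, 0, 0, 0, 0, 0],
    [1, 0, 0, 0, 0, 1, 0, 0, 0, 0, 2, 0, 0, 0],
    [0, 0, 0, 0, 0, 0, 1, 0, 0, 0, 0, 0, 0, 0],
    [0, 0, 0, 0, 0, 0, 0, 1, 0, 2, 0, 2, 0, 2],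
    [0, 0, 0, 0, 0, 0, 0, 0, 1, 0, 0, 0, 0, 0],
    [0, 0, 0, 0, 0, 0, 0, 0, 0, 1, 0, 2, 0, 0],
    [0, 0, 0, 0, 0, 0, 0, 0, 0, 0, 1, 0, 0, 0],
    [0, 0, 0, 0, 0, 0, 0, 0, 0, 0, 0, 1, 0, 0],
    [0, 0, 0, 0, 0, 0, 0, 0, 0, 0, 0, 0, 1, 0],
    [0, 0, 0, 0, 0, 0, 0, 0, 0, 0, 0, 0, 0, 1]]

/-- the root element of root 8 with parameter 2 -/
def x8_2 : List (List (ZMod 3)) :=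
  [[1, 0, 0, 0, 0, 0, 0, 0, 0, 0, 2, 0, 0, 0],
    [0, 1, 0, 0, 0, 0, 0, 0, 0, 0, 1, 0, 0, 0],
    [0, 0, 1, 0, 1, 0, 1, 0, 2, 0, 0, 0, 0, 0],
    [0, 0, 0, 1, 0, 0, 0, 0, 0, 0, 0, 0, 0, 0],
    [0, 0, 0, 0, 1, 0, 2, 0, 0, 0, 0, 0, 0, 0],
    [2, 0, 0, 0, 0, 1, 0, 0, 0, 0, 2, 0, 0, 0],
    [0, 0, 0, 0, 0, 0, 1, 0, 0, 0, 0, 0, 0, 0],
    [0, 0, 0, 0, 0, 0, 0, 1, 0, 1, 0, 2, 0, 1],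
    [0, 0, 0, 0, 0, 0, 0, 0, 1, 0, 0, 0, 0, 0],
    [0, 0, 0, 0, 0, 0, 0, 0, 0, 1, 0, 1, 0, 0],
    [0, 0, 0, 0, 0, 0, 0, 0, 0, 0, 1, 0, 0, 0],
    [0, 0, 0, 0, 0, 0, 0, 0, 0, 0, 0, 1, 0, 0],
    [0, 0, 0, 0, 0, 0, 0, 0, 0, 0, 0, 0, 1, 0],
    [0, 0, 0, 0, 0, 0, 0, 0, 0, 0, 0, 0, 0, 1]]

/-- the root element of root 9 with parameter 1 -/
def x9_1 : List (List (ZMod 3)) :=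
  [[1, 0, 0, 0, 0, 0, 0, 0, 0, 0, 0, 2, 0, 0],
    [0, 1, 0, 0, 0, 0, 0, 0, 0, 0, 0, 0, 0, 0],
    [0, 0, 1, 0, 0, 1, 0, 0, 0, 2, 0, 0, 1, 0],
    [0, 0, 0, 1, 0, 0, 1, 0, 0, 0, 1, 0, 0, 2],
    [2, 0, 0, 0, 1, 0, 0, 0, 0, 0, 0, 2, 0, 0],
    [0, 0, 0, 0, 0, 1, 0, 0, 0, 1, 0, 0, 0, 0],
    [0, 0, 0, 0, 0, 0, 1, 0, 0, 0, 2, 0, 0, 0],
    [0, 0, 0, 0, 0, 0, 0, 1, 0, 0, 0, 0, 0, 0],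
    [0, 0, 0, 0, 0, 0, 0, 0, 1, 0, 0, 0, 0, 0],
    [0, 0, 0, 0, 0, 0, 0, 0, 0, 1, 0, 0, 0, 0],
    [0, 0, 0, 0, 0, 0, 0, 0, 0, 0, 1, 0, 0, 0],
    [0, 0, 0, 0, 0, 0, 0, 0, 0, 0, 0, 1, 0, 0],
    [0, 0, 0, 0, 0, 0, 0, 0, 0, 0, 0, 0, 1, 0],
    [0, 0, 0, 0, 0, 0, 0, 0, 0, 0, 0, 0, 0, 1]]

/-- the root element of root 9 with parameter 2 -/
def x9_2 : List (List (ZMod 3)) :=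
  [[1, 0, 0, 0, 0, 0, 0, 0, 0, 0, 0, 1, 0, 0],
    [0, 1, 0, 0, 0, 0, 0, 0, 0, 0, 0, 0, 0, 0],
    [0, 0, 1, 0, 0, 2, 0, 0, 0, 2, 0, 0, 2, 0],
    [0, 0, 0, 1, 0, 0, 2, 0, 0, 0, 1, 0, 0, 1],
    [1, 0, 0, 0, 1, 0, 0, 0, 0, 0, 0, 2, 0, 0],
    [0, 0, 0, 0, 0, 1, 0, 0, 0, 2, 0, 0, 0, 0],
    [0, 0, 0, 0, 0, 0, 1, 0, 0, 0, 1, 0, 0, 0],
    [0, 0, 0, 0, 0, 0, 0, 1, 0, 0, 0, 0, 0, 0],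
    [0, 0, 0, 0, 0, 0, 0, 0, 1, 0, 0, 0, 0, 0],
    [0, 0, 0, 0, 0, 0, 0, 0, 0, 1, 0, 0, 0, 0],
    [0, 0, 0, 0, 0, 0, 0, 0, 0, 0, 1, 0, 0, 0],
    [0, 0, 0, 0, 0, 0, 0, 0, 0, 0, 0, 1, 0, 0],
    [0, 0, 0, 0, 0, 0, 0, 0, 0, 0, 0, 0, 1, 0],
    [0, 0, 0, 0, 0, 0, 0, 0, 0, 0, 0, 0, 0, 1]]

/-- the root element of root 10 with parameter 1 -/
def x10_1 : List (List (ZMod 3)) :=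
  [[1, 0, 0, 0, 0, 0, 0, 0, 0, 0, 0, 0, 0, 0],
    [0, 1, 0, 0, 0, 0, 0, 0, 0, 0, 0, 0, 1, 0],
    [0, 0, 1, 0, 0, 0, 0, 1, 0, 0, 0, 0, 0, 0],
    [1, 1, 0, 1, 0, 0, 0, 0, 0, 0, 0, 0, 2, 0],
    [0, 0, 0, 0, 1, 0, 0, 0, 0, 1, 0, 0, 0, 0],
    [0, 0, 0, 0, 0, 1, 0, 0, 0, 0, 0, 0, 0, 0],
    [0, 0, 0, 0, 0, 0, 1, 0, 0, 0, 0, 2, 0, 0],
    [0, 0, 0, 0, 0, 0, 0, 1, 0, 0, 0, 0, 0, 0],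
    [0, 0, 0, 0, 0, 0, 0, 0, 1, 0, 0, 0, 0, 2],
    [0, 0, 0, 0, 0, 0, 0, 0, 0, 1, 0, 0, 0, 0],
    [0, 0, 0, 0, 0, 0, 0, 0, 0, 0, 1, 0, 0, 0],
    [0, 0, 0, 0, 0, 0, 0, 0, 0, 0, 0, 1, 0, 0],
    [0, 0, 0, 0, 0, 0, 0, 0, 0, 0, 0, 0, 1, 0],
    [0, 0, 0, 0, 0, 0, 0, 0, 0, 0, 0, 0, 0, 1]]

/-- the root element of root 10 with parameter 2 -/
def x10_2 : List (List (ZMod 3)) :=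
  [[1, 0, 0, 0, 0, 0, 0, 0, 0, 0, 0, 0, 0, 0],
    [0, 1, 0, 0, 0, 0, 0, 0, 0, 0, 0, 0, 2, 0],
    [0, 0, 1, 0, 0, 0, 0, 2, 0, 0, 0, 0, 0, 0],
    [2, 2, 0, 1, 0, 0, 0, 0, 0, 0, 0, 0, 2, 0],
    [0, 0, 0, 0, 1, 0, 0, 0, 0, 2, 0, 0, 0, 0],
    [0, 0, 0, 0, 0, 1, 0, 0, 0, 0, 0, 0, 0, 0],
    [0, 0, 0, 0, 0, 0, 1, 0, 0, 0, 0, 1, 0, 0],
    [0, 0, 0, 0, 0, 0, 0, 1, 0, 0, 0, 0, 0, 0],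
    [0, 0, 0, 0, 0, 0, 0, 0, 1, 0, 0, 0, 0, 1],
    [0, 0, 0, 0, 0, 0, 0, 0, 0, 1, 0, 0, 0, 0],
    [0, 0, 0, 0, 0, 0, 0, 0, 0, 0, 1, 0, 0, 0],
    [0, 0, 0, 0, 0, 0, 0, 0, 0, 0, 0, 1, 0, 0],
    [0, 0, 0, 0, 0, 0, 0, 0, 0, 0, 0, 0, 1, 0],
    [0, 0, 0, 0, 0, 0, 0, 0, 0, 0, 0, 0, 0, 1]]

/-- the root element of root 11 with parameter 1 -/
def x11_1 : List (List (ZMod 3)) :=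
  [[1, 0, 0, 0, 0, 0, 0, 0, 0, 0, 0, 0, 0, 0],
    [0, 1, 0, 0, 0, 0, 0, 0, 0, 0, 0, 0, 0, 2],
    [1, 2, 1, 0, 0, 0, 0, 0, 0, 0, 0, 0, 0, 2],
    [0, 0, 0, 1, 0, 0, 0, 0, 1, 0, 0, 0, 0, 0],
    [0, 0, 0, 0, 1, 0, 0, 0, 0, 0, 1, 0, 0, 0],
    [0, 0, 0, 0, 0, 1, 0, 0, 0, 0, 0, 2, 0, 0],
    [0, 0, 0, 0, 0, 0, 1, 0, 0, 0, 0, 0, 0, 0],
    [0, 0, 0, 0, 0, 0, 0, 1, 0, 0, 0, 0, 2, 0],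
    [0, 0, 0, 0, 0, 0, 0, 0, 1, 0, 0, 0, 0, 0],
    [0, 0, 0, 0, 0, 0, 0, 0, 0, 1, 0, 0, 0, 0],
    [0, 0, 0, 0, 0, 0, 0, 0, 0, 0, 1, 0, 0, 0],
    [0, 0, 0, 0, 0, 0, 0, 0, 0, 0, 0, 1, 0, 0],
    [0, 0, 0, 0, 0, 0, 0, 0, 0, 0, 0, 0, 1, 0],
    [0, 0, 0, 0, 0, 0, 0, 0, 0, 0, 0, 0, 0, 1]]

/-- the root element of root 11 with parameter 2 -/
def x11_2 : List (List (ZMod 3)) :=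
  [[1, 0, 0, 0, 0, 0, 0, 0, 0, 0, 0, 0, 0, 0],
    [0, 1, 0, 0, 0, 0, 0, 0, 0, 0, 0, 0, 0, 1],
    [2, 1, 1, 0, 0, 0, 0, 0, 0, 0, 0, 0, 0, 2],
    [0, 0, 0, 1, 0, 0, 0, 0, 2, 0, 0, 0, 0, 0],
    [0, 0, 0, 0, 1, 0, 0, 0, 0, 0, 2, 0, 0, 0],
    [0, 0, 0, 0, 0, 1, 0, 0, 0, 0, 0, 1, 0, 0],
    [0, 0, 0, 0, 0, 0, 1, 0, 0, 0, 0, 0, 0, 0],
    [0, 0, 0, 0, 0, 0, 0, 1, 0, 0, 0, 0, 1, 0],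
    [0, 0, 0, 0, 0, 0, 0, 0, 1, 0, 0, 0, 0, 0],
    [0, 0, 0, 0, 0, 0, 0, 0, 0, 1, 0, 0, 0, 0],
    [0, 0, 0, 0, 0, 0, 0, 0, 0, 0, 1, 0, 0, 0],
    [0, 0, 0, 0, 0, 0, 0, 0, 0, 0, 0, 1, 0, 0],
    [0, 0, 0, 0, 0, 0, 0, 0, 0, 0, 0, 0, 1, 0],
    [0, 0, 0, 0, 0, 0, 0, 0, 0, 0, 0, 0, 0, 1]]

/-- the table of the root elements -/
def xTbl : List (List (List (List (ZMod 3)))) :=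
  [[idL 14, x0_1, x0_2],
    [idL 14, x1_1, x1_2],
    [idL 14, x2_1, x2_2],
    [idL 14, x3_1, x3_2],
    [idL 14, x4_1, x4_2],
    [idL 14, x5_1, x5_2],
    [idL 14, x6_1, x6_2],
    [idL 14, x7_1, x7_2],
    [idL 14, x8_1, x8_2],
    [idL 14, x9_1, x9_2],
    [idL 14, x10_1, x10_2],
    [idL 14, x11_1, x11_2]]

/-- the root elements -/
def xLt (r : ℕ) (t : ZMod 3) : List (List (ZMod 3)) := (xTbl.getD r []).getD (ZMod.val t) (idL 14)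

/-- the matrix of the generator a -/
def gA : List (List (ZMod 3)) :=
  [[2, 0, 0, 0, 2, 2, 1, 0, 0, 2, 1, 1, 0, 0],
    [0, 2, 2, 2, 2, 2, 0, 1, 2, 1, 0, 2, 1, 1],
    [1, 2, 1, 0, 0, 1, 0, 0, 0, 2, 0, 2, 1, 2],
    [1, 2, 1, 1, 0, 1, 1, 0, 1, 2, 1, 2, 1, 1],
    [2, 0, 0, 0, 1, 0, 0, 0, 0, 0, 1, 2, 0, 0],
    [2, 0, 0, 0, 1, 1, 0, 0, 0, 1, 1, 1, 0, 0],
    [1, 0, 0, 0, 2, 1, 1, 0, 0, 1, 1, 0, 0, 0],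
    [1, 1, 2, 1, 1, 1, 1, 1, 1, 0, 2, 1, 1, 0],
    [0, 2, 2, 0, 2, 1, 2, 2, 1, 0, 0, 0, 0, 0],
    [2, 0, 0, 0, 2, 0, 2, 0, 0, 1, 0, 0, 0, 0],
    [1, 0, 0, 0, 0, 2, 0, 0, 0, 1, 1, 0, 0, 0],
    [1, 0, 0, 0, 1, 0, 2, 0, 0, 2, 1, 1, 0, 0],
    [1, 1, 0, 2, 0, 0, 1, 0, 1, 0, 2, 1, 1, 0],
    [0, 1, 1, 0, 1, 2, 1, 2, 2, 1, 0, 2, 1, 1]]

/-- the matrix of the generator b -/
def gB : List (List (ZMod 3)) :=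
  [[2, 0, 0, 0, 1, 1, 2, 0, 0, 1, 2, 2, 0, 0],
    [0, 2, 1, 1, 2, 0, 1, 2, 1, 0, 2, 2, 2, 2],
    [0, 1, 1, 1, 2, 0, 1, 2, 2, 1, 2, 1, 0, 1],
    [1, 1, 0, 1, 1, 2, 0, 1, 0, 1, 0, 0, 2, 0],
    [1, 0, 0, 0, 1, 1, 2, 0, 0, 2, 0, 1, 0, 0],
    [1, 0, 0, 0, 0, 1, 1, 0, 0, 0, 2, 0, 0, 0],
    [2, 0, 0, 0, 0, 0, 1, 0, 0, 2, 0, 2, 0, 0],
    [0, 2, 0, 0, 0, 0, 0, 1, 2, 2, 1, 2, 0, 2],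
    [1, 1, 0, 1, 1, 2, 0, 1, 1, 1, 1, 1, 1, 2],
    [1, 0, 0, 0, 0, 1, 1, 0, 0, 1, 1, 2, 0, 0],
    [2, 0, 0, 0, 1, 1, 1, 0, 0, 0, 1, 1, 0, 0],
    [2, 0, 0, 0, 2, 1, 0, 0, 0, 0, 0, 1, 0, 0],
    [1, 2, 1, 1, 2, 1, 2, 1, 0, 1, 1, 0, 1, 1],
    [1, 2, 2, 1, 2, 0, 2, 0, 0, 0, 1, 0, 0, 1]]

/-- the matrix of the generator c -/
def gC : List (List (ZMod 3)) :=
  [[2, 0, 0, 0, 2, 1, 2, 0, 0, 1, 1, 0, 0, 0],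
    [2, 2, 2, 1, 1, 0, 1, 2, 1, 0, 1, 0, 1, 0],
    [1, 0, 1, 1, 1, 2, 0, 0, 2, 2, 2, 2, 2, 1],
    [2, 2, 0, 1, 1, 2, 0, 1, 2, 2, 2, 2, 0, 2],
    [0, 0, 0, 0, 1, 1, 0, 0, 0, 2, 2, 1, 0, 0],
    [2, 0, 0, 0, 0, 1, 1, 0, 0, 2, 0, 2, 0, 0],
    [2, 0, 0, 0, 1, 1, 1, 0, 0, 1, 2, 2, 0, 0],
    [1, 2, 1, 1, 1, 2, 0, 1, 1, 0, 1, 1, 2, 2],
    [1, 1, 1, 0, 2, 2, 1, 2, 1, 0, 2, 1, 1, 0],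
    [1, 0, 0, 0, 1, 0, 2, 0, 0, 1, 1, 0, 0, 0],
    [2, 0, 0, 0, 0, 2, 0, 0, 0, 1, 1, 1, 0, 0],
    [1, 0, 0, 0, 1, 0, 1, 0, 0, 1, 0, 1, 0, 0],
    [2, 2, 0, 2, 0, 0, 1, 0, 1, 0, 2, 2, 1, 1],
    [1, 1, 1, 0, 2, 2, 1, 1, 1, 1, 2, 2, 0, 1]]

/-- the table of the matrices of the generators -/
def genTbl : List (List (List (ZMod 3))) := [gA, gB, gC]

/-- the matrices of the generators -/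
def genLt (x : ℕ) : List (List (ZMod 3)) := genTbl.getD x gC

/-- the matrix of an element of order three that is not in the derived subgroup -/
def g0Lt : List (List (ZMod 3)) :=
  [[1, 0, 0, 0, 0, 0, 0, 0, 0, 0, 1, 0, 0, 0],
    [0, 1, 0, 0, 0, 0, 0, 0, 0, 0, 2, 0, 1, 0],
    [0, 0, 1, 0, 2, 0, 1, 1, 1, 2, 0, 2, 0, 2],
    [1, 1, 0, 1, 0, 0, 0, 0, 0, 0, 0, 0, 2, 0],
    [0, 0, 0, 0, 1, 0, 1, 0, 0, 1, 0, 2, 0, 0],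
    [1, 0, 0, 0, 0, 1, 0, 0, 0, 0, 2, 0, 0, 0],
    [0, 0, 0, 0, 0, 0, 1, 0, 0, 0, 0, 2, 0, 0],
    [0, 0, 0, 0, 0, 0, 0, 1, 0, 2, 0, 2, 0, 2],
    [0, 0, 0, 0, 0, 0, 0, 0, 1, 0, 0, 0, 0, 2],
    [0, 0, 0, 0, 0, 0, 0, 0, 0, 1, 0, 2, 0, 0],
    [0, 0, 0, 0, 0, 0, 0, 0, 0, 0, 1, 0, 0, 0],
    [0, 0, 0, 0, 0, 0, 0, 0, 0, 0, 0, 1, 0, 0],
    [0, 0, 0, 0, 0, 0, 0, 0, 0, 0, 0, 0, 1, 0],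
    [0, 0, 0, 0, 0, 0, 0, 0, 0, 0, 0, 0, 0, 1]]

/-- the words of the generators of the first kind -/
def nwTblU : List (List ℕ) :=
  [[],
    [1, 2, 1, 2, 1, 0, 2, 1, 0, 2, 1, 0, 2, 1, 2],
    [2, 1, 0, 2, 1, 0, 2, 1, 0, 2, 1, 2, 1, 2, 1],
    [],
    [1, 2, 1, 2, 1, 0, 2, 1, 0, 2, 1, 0, 2, 1, 2],
    [2, 1, 0, 2, 1, 0, 2, 1, 0, 2, 1, 2, 1, 2, 1],
    [],
    [1, 2, 1, 2, 1, 0, 2, 1, 0, 2, 1, 0, 2, 1, 2],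
    [2, 1, 0, 2, 1, 0, 2, 1, 0, 2, 1, 2, 1, 2, 1],
    [1, 2, 1, 0, 2, 1, 0, 2],
    [0, 2, 1, 0, 2, 1, 2, 1, 0, 2, 1, 0, 2, 1, 2, 1],
    [2, 1, 0, 2, 1, 0, 2, 1, 2, 1, 2],
    [1, 2, 1, 0, 2, 1, 0, 2],
    [0, 2, 1, 0, 2, 1, 2, 1, 0, 2, 1, 0, 2, 1, 2, 1],
    [2, 1, 0, 2, 1, 0, 2, 1, 2, 1, 2],
    [1, 2, 1, 0, 2, 1, 0, 2],
    [0, 2, 1, 0, 2, 1, 2, 1, 0, 2, 1, 0, 2, 1, 2, 1],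
    [2, 1, 0, 2, 1, 0, 2, 1, 2, 1, 2],
    [0, 2, 1, 0, 2, 1, 2, 1],
    [2, 1, 2, 1, 0, 2, 1, 0, 2, 1, 2],
    [1, 2, 1, 0, 2, 1, 0, 2, 1, 2, 1, 0, 2, 1, 0, 2],
    [0, 2, 1, 0, 2, 1, 2, 1],
    [2, 1, 2, 1, 0, 2, 1, 0, 2, 1, 2],
    [1, 2, 1, 0, 2, 1, 0, 2, 1, 2, 1, 0, 2, 1, 0, 2],
    [0, 2, 1, 0, 2, 1, 2, 1],
    [2, 1, 2, 1, 0, 2, 1, 0, 2, 1, 2],
    [1, 2, 1, 0, 2, 1, 0, 2, 1, 2, 1, 0, 2, 1, 0, 2]]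

/-- the exponents of the generators of the first kind -/
def kTblU : List ℕ := [0, 0, 0, 1, 1, 1, 2, 2, 2, 2, 2, 2, 0, 0, 0, 1, 1, 1, 2, 2, 2, 0, 0, 0, 1, 1, 1]

/-- the words of the generators of the second kind -/
def nwTblV : List (List ℕ) :=
  [[],
    [1, 2, 1, 2, 1, 0, 2, 1, 0, 2, 1, 2],
    [2, 1, 0, 2, 1, 0, 2, 1, 2, 1, 2, 1],
    [0, 2, 1, 2, 1, 0, 2, 1, 0, 2, 1, 2, 1, 0, 2],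
    [0, 2, 1, 0, 2, 1, 2, 1, 2, 1],
    [1, 2, 1, 0, 2, 1, 0, 2, 1, 2],
    [0, 1, 2, 1, 2, 1, 0, 2, 1, 0, 2, 1, 2, 1, 0, 2],
    [0, 2, 1, 0, 2, 1, 2, 1, 0, 2, 1],
    [1, 2, 1, 0, 2, 1, 0, 2, 1, 0, 2, 1, 0],
    [1, 2, 1, 2, 1, 0, 2, 1, 2, 1, 0, 2],
    [2, 1, 2, 1, 0, 2, 1, 2, 1, 0, 2, 1, 0, 2],
    [0, 2, 1, 2],
    [1, 0, 2, 1, 0, 2, 1, 2, 1, 0],
    [0, 2, 1, 2, 1, 0, 2, 1, 2, 1, 0, 2, 1, 0, 2],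
    [2, 1, 0, 2, 1, 0, 2, 1, 0, 2, 1, 2, 1, 2, 1, 0],
    [1, 2, 1, 2, 1, 0, 2, 1, 2, 1, 2, 1, 0],
    [2, 1, 2, 1, 0, 2, 1, 2, 1, 0, 2, 1, 2, 1, 0],
    [0, 2, 1, 0, 2, 1, 0],
    [2, 1, 0, 2, 1, 2, 1, 0, 2, 1, 2, 1],
    [1, 2, 1, 0, 2, 1, 2, 1, 2, 1],
    [0, 2, 1, 2, 1, 0, 2, 1, 2, 1, 0],
    [0, 1, 2, 1, 0, 2, 1, 0, 2, 1],
    [0, 1, 2, 1, 2, 1, 0, 2, 1, 0, 2, 1, 0, 2, 1, 2],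
    [0, 2, 1, 0, 2, 1, 2, 1, 0, 2, 1, 2, 1, 0, 2],
    [2, 1, 0, 2, 1, 2, 1, 0, 2, 1, 0, 2, 1],
    [1, 2, 1, 0, 2, 1, 2, 1, 0, 2, 1],
    [0, 2, 1, 2, 1, 0, 2, 1, 0, 2]]

/-- the exponents of the generators of the second kind -/
def kTblV : List ℕ := [0, 0, 0, 1, 1, 1, 2, 2, 2, 2, 2, 2, 0, 0, 0, 1, 1, 1, 2, 2, 2, 0, 0, 0, 1, 1, 1]

/-- the place of a triple in the tables -/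
def tix (t u v : ZMod 3) : ℕ := 9 * ZMod.val t + 3 * ZMod.val u + ZMod.val v

/-- the conjugates of the generators by the element of order three, and by its inverse -/
def conjW : List (List ℕ) := [[0, 1, 2, 1, 2, 1, 0, 2, 1, 2, 1, 0, 2, 1, 2, 1, 2, 1],
    [0, 1, 0, 2, 1, 2, 1, 0, 2, 1, 0],
    [0]]

def conjW' : List (List ℕ) := [[2],
    [0, 1, 2, 1, 0, 2, 1, 0, 2, 1, 2, 1, 0],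
    [0, 1, 2, 1, 2, 1, 0, 2, 1, 2, 1, 0, 2, 1, 2, 1, 2, 1]]

/-- the matrix of a word in the root elements, by its rows -/
def wL (w : List (ℕ × ZMod 3)) : List (List (ZMod 3)) := prodT 14 (w.map fun p => xLt p.1 p.2)

theorem chk_x0 : ∀ t : ZMod 3, ∀ i j : chevG2.Idx, xE chevG2 (ZMod 3) 0 t i j =
    entry (xLt 0 t) (code chevG2.rank chevG2.nroots j) (code chevG2.rank chevG2.nroots i) := by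
  decide +kernel

theorem chk_x1 : ∀ t : ZMod 3, ∀ i j : chevG2.Idx, xE chevG2 (ZMod 3) 1 t i j =
    entry (xLt 1 t) (code chevG2.rank chevG2.nroots j) (code chevG2.rank chevG2.nroots i) := by
  decide +kernel

theorem chk_x2 : ∀ t : ZMod 3, ∀ i j : chevG2.Idx, xE chevG2 (ZMod 3) 2 t i j =
    entry (xLt 2 t) (code chevG2.rank chevG2.nroots j) (code chevG2.rank chevG2.nroots i) := by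
  decide +kernel

theorem chk_x3 : ∀ t : ZMod 3, ∀ i j : chevG2.Idx, xE chevG2 (ZMod 3) 3 t i j =
    entry (xLt 3 t) (code chevG2.rank chevG2.nroots j) (code chevG2.rank chevG2.nroots i) := by
  decide +kernel

theorem chk_x4 : ∀ t : ZMod 3, ∀ i j : chevG2.Idx, xE chevG2 (ZMod 3) 4 t i j =
    entry (xLt 4 t) (code chevG2.rank chevG2.nroots j) (code chevG2.rank chevG2.nroots i) := by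
  decide +kernel

theorem chk_x5 : ∀ t : ZMod 3, ∀ i j : chevG2.Idx, xE chevG2 (ZMod 3) 5 t i j =
    entry (xLt 5 t) (code chevG2.rank chevG2.nroots j) (code chevG2.rank chevG2.nroots i) := by
  decide +kernel

theorem chk_x6 : ∀ t : ZMod 3, ∀ i j : chevG2.Idx, xE chevG2 (ZMod 3) 6 t i j =
    entry (xLt 6 t) (code chevG2.rank chevG2.nroots j) (code chevG2.rank chevG2.nroots i) := by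
  decide +kernel

theorem chk_x7 : ∀ t : ZMod 3, ∀ i j : chevG2.Idx, xE chevG2 (ZMod 3) 7 t i j =
    entry (xLt 7 t) (code chevG2.rank chevG2.nroots j) (code chevG2.rank chevG2.nroots i) := by
  decide +kernel

theorem chk_x8 : ∀ t : ZMod 3, ∀ i j : chevG2.Idx, xE chevG2 (ZMod 3) 8 t i j =
    entry (xLt 8 t) (code chevG2.rank chevG2.nroots j) (code chevG2.rank chevG2.nroots i) := by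
  decide +kernel

theorem chk_x9 : ∀ t : ZMod 3, ∀ i j : chevG2.Idx, xE chevG2 (ZMod 3) 9 t i j =
    entry (xLt 9 t) (code chevG2.rank chevG2.nroots j) (code chevG2.rank chevG2.nroots i) := by
  decide +kernel

theorem chk_x10 : ∀ t : ZMod 3, ∀ i j : chevG2.Idx, xE chevG2 (ZMod 3) 10 t i j =
    entry (xLt 10 t) (code chevG2.rank chevG2.nroots j) (code chevG2.rank chevG2.nroots i) := by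
  decide +kernel

theorem chk_x11 : ∀ t : ZMod 3, ∀ i j : chevG2.Idx, xE chevG2 (ZMod 3) 11 t i j =
    entry (xLt 11 t) (code chevG2.rank chevG2.nroots j) (code chevG2.rank chevG2.nroots i) := by
  decide +kernel

theorem chk_x : ∀ r, r < 12 → ∀ t : ZMod 3, ∀ i j : chevG2.Idx, xE chevG2 (ZMod 3) r t i j =
    entry (xLt r t) (code chevG2.rank chevG2.nroots j) (code chevG2.rank chevG2.nroots i) := by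
  intro r hr
  interval_cases r
  · exact chk_x0
  · exact chk_x1
  · exact chk_x2
  · exact chk_x3
  · exact chk_x4
  · exact chk_x5
  · exact chk_x6
  · exact chk_x7
  · exact chk_x8
  · exact chk_x9
  · exact chk_x10
  · exact chk_x11

theorem chk_xcols : ∀ l ∈ xTbl, ∀ Y ∈ l, colsOK 14 Y := by decide +kernel

theorem chk_idcols : colsOK 14 (idL 14 : List (List (ZMod 3))) := by decide +kernel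

theorem chk_xinv : ∀ r, r < 12 → ∀ t : ZMod 3, prodT 14 [xLt r t, xLt r (-t)] = idL 14 := by
  decide +kernel

theorem chk_gcols : ∀ Y ∈ genTbl, colsOK 14 Y := by decide +kernel

theorem chk_ginv : ∀ Y ∈ genTbl, prodT 14 [Y, Y] = idL 14 := by decide +kernel

theorem chk_g0cols : colsOK 14 g0Lt := by decide +kernel

theorem chk_g0inv : prodT 14 [g0Lt, g0Lt, g0Lt] = idL 14 := by decide +kernel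

theorem chk_g0 : wL (reeWordU 1 0 1 0) = transp 14 g0Lt := by decide +kernel

theorem chk_a : wL (reeWordU 1 0 0 1 ++ reeWordV 1 1 1 2) = transp 14 gA := by decide +kernel

theorem chk_b : wL (reeWordV 1 0 0 1 ++ reeWordU 1 1 1 2) = transp 14 gB := by decide +kernel

theorem chk_c : wL (reeWordV 1 0 1 2 ++ reeWordU 1 1 0 0) = transp 14 gC := by decide +kernel

theorem chk_genU0 : ∀ u v : ZMod 3, prodT 14 ((nwTblU.getD (tix 0 u v) []).map genLt ++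
    List.replicate (kTblU.getD (tix 0 u v) 0) g0Lt) = wL (reeWordU 1 0 u v) := by decide +kernel

theorem chk_genV0 : ∀ u v : ZMod 3, prodT 14 ((nwTblV.getD (tix 0 u v) []).map genLt ++
    List.replicate (kTblV.getD (tix 0 u v) 0) g0Lt) = wL (reeWordV 1 0 u v) := by decide +kernel

theorem chk_genU1 : ∀ u v : ZMod 3, prodT 14 ((nwTblU.getD (tix 1 u v) []).map genLt ++
    List.replicate (kTblU.getD (tix 1 u v) 0) g0Lt) = wL (reeWordU 1 1 u v) := by decide +kernel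

theorem chk_genV1 : ∀ u v : ZMod 3, prodT 14 ((nwTblV.getD (tix 1 u v) []).map genLt ++
    List.replicate (kTblV.getD (tix 1 u v) 0) g0Lt) = wL (reeWordV 1 1 u v) := by decide +kernel

theorem chk_genU2 : ∀ u v : ZMod 3, prodT 14 ((nwTblU.getD (tix 2 u v) []).map genLt ++
    List.replicate (kTblU.getD (tix 2 u v) 0) g0Lt) = wL (reeWordU 1 2 u v) := by decide +kernel

theorem chk_genV2 : ∀ u v : ZMod 3, prodT 14 ((nwTblV.getD (tix 2 u v) []).map genLt ++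
    List.replicate (kTblV.getD (tix 2 u v) 0) g0Lt) = wL (reeWordV 1 2 u v) := by decide +kernel

theorem chk_genU : ∀ t u v : ZMod 3, prodT 14 ((nwTblU.getD (tix t u v) []).map genLt ++
    List.replicate (kTblU.getD (tix t u v) 0) g0Lt) = wL (reeWordU 1 t u v) := by
  intro t
  fin_cases t
  · exact chk_genU0
  · exact chk_genU1
  · exact chk_genU2

theorem chk_genV : ∀ t u v : ZMod 3, prodT 14 ((nwTblV.getD (tix t u v) []).map genLt ++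
    List.replicate (kTblV.getD (tix t u v) 0) g0Lt) = wL (reeWordV 1 t u v) := by
  intro t
  fin_cases t
  · exact chk_genV0
  · exact chk_genV1
  · exact chk_genV2

theorem chk_conj : ∀ i, i < 3 → prodT 14 [g0Lt, genLt i, g0Lt, g0Lt] =
    prodT 14 ((conjW.getD i []).map genLt) := by decide +kernel

theorem chk_conj' : ∀ i, i < 3 → prodT 14 [g0Lt, g0Lt, genLt i, g0Lt] =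
    prodT 14 ((conjW'.getD i []).map genLt) := by decide +kernel

theorem chk_rels : (coxWordsL P3.edges Ree3P3TC.gen 3 ++ Ree3P3TC.extraWords).all
    (fun w => decide (prodT 14 (w.map genLt) = idL 14)) = true := by decide +kernel

theorem chk_rels_lt : (coxWordsL P3.edges Ree3P3TC.gen 3 ++ Ree3P3TC.extraWords).all
    (fun w => w.all fun x => decide (x < 3)) = true := by decide +kernel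

theorem chk_ne : ∃ i j : chevG2.Idx, entry (genLt 0) (code chevG2.rank chevG2.nroots j)
    (code chevG2.rank chevG2.nroots i) ≠ if i = j then 1 else 0 := by decide +kernel

theorem chk_nc : prodT 14 [gA, gB] ≠ prodT 14 [gB, gA] := by decide +kernel

end Cfsg.Agent.Lib.Helper6.Ree3Mat
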