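import Cfsg.Agent.Lib.Helper6.TCPerm

/-! # Coset enumeration data for Ree3P3: configuration, table, words (generated) -/

set_option autoImplicit false
set_option maxRecDepth 1000000
set_option maxHeartbeats 4000000

namespace Cfsg.Agent.Lib.Helper6.Ree3P3TC

open Cfsg.Agent.Lib.Helper6.TC

/-- the configuration of the enumeration -/
def cfg : Cfg := ⟨3, 6, 1000000, 2, 116, 0x1201201201201201201201201201b2012012012012012012012012011b0120120120120120120120120121b1021021021021021021021021021b0210210210210210210210210211b2102102102102102102102102101b000000000000000000000000022020000000000000121212121212120e0000000000000212121212121210e0000000000000000000000000110200000000000000000000000020204000000000000000000000002020040000000000000000000000101010600000000000000000000010101006000000000000000000000000000020000000000000000000000000020100000000000000000000000000101⟩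

/-- the number of words -/
def nw : ℕ := 17

/-- the words of the further relators -/
def extraWords : List (List ℕ) := [[0, 1, 2, 0, 1, 2, 0, 1, 2, 0, 1, 2, 0, 1, 2, 0, 1, 2, 0, 1, 2, 0, 1, 2, 0, 1, 2]]

/-- where the words come from -/
def srcs : List ℕ := [0, 512, 514, 1024, 1026, 2048, 2560, 2562, 4096, 4608, 4610, 4612, 4609, 4611, 4613]

/-- the coset table -/
def tab : Tab := ⟨3, 6, 36, .leaf 0x238a392191f92076379b7a289c6da82185d69c7d98187de59d6557146d54d44d26964596185d15d05d63d254e50d4ce2d230a45040b28930f3cd24e20d3072c62871492081851c41831441020c20c1041080⟩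

/-- the words of the generators of the subgroup -/
def subW : List (List ℕ) := [[1], [2]]

/-- orbit 0 of the subgroup on the rows: root, search, bitmap (1 rows) -/
def orbRoot0 : ℕ := 0
def orbInstr0 : List ℕ := []
def orbB0 : ℕ := 0x1

/-- orbit 1 of the subgroup on the rows: root, search, bitmap (7 rows) -/
def orbRoot1 : ℕ := 1
def orbInstr1 : List ℕ := [3, 1048580, 5, 1048583, 9, 1048588]
def orbB1 : ℕ := 0x95e

/-- orbit 2 of the subgroup on the rows: root, search, bitmap (7 rows) -/
def orbRoot2 : ℕ := 5
def orbInstr2 : List ℕ := [1048584, 10, 1048590, 17, 1048597, 25]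
def orbB2 : ℕ := 0x11122a0

/-- orbit 3 of the subgroup on the rows: root, search, bitmap (14 rows) -/
def orbRoot3 : ℕ := 10
def orbInstr3 : List ℕ := [13, 1048592, 19, 1048599, 20, 1048600, 27, 1048608, 30, 1048602, 22, 1048594, 15]
def orbB3 : ℕ := 0xa6eed400

/-- orbit 4 of the subgroup on the rows: root, search, bitmap (7 rows) -/
def orbRoot4 : ℕ := 27
def orbInstr4 : List ℕ := [31, 1048610, 36, 1048611, 33, 1048605]
def orbB4 : ℕ := 0xf58000000


end Cfsg.Agent.Lib.Helper6.Ree3P3TC
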