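import Cfsg.Agent.Lib.Helper6.SimpInst
import Cfsg.Agent.Lib.Helper6.Ree3P3TCData

/-! # Ree3P3: data of the certificate of simplicity and order (generated) -/

set_option autoImplicit false
set_option maxRecDepth 1000000

namespace Cfsg.Agent.Lib.Helper6.Ree3P3Simp

open Cfsg.Agent.Lib.Helper6.TC Cfsg.Agent.Lib.Helper6.Simp Cfsg.Agent.Lib.Helper6.NatArr Cfsg.Agent.Lib.Helper6.Ree3P3TC

/-- level 0: base point 0, orbit of length 36 -/
def lvl0 : Level where
  b := 0
  ws := [[0], [1], [2]]
  instrs := [2, 1048579, 2097156, 1048581, 6, 2097160, 7, 1048585, 11, 1048589, 10, 2097166, 16, 1048595, 23,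
    1048596, 17, 2097173, 24, 1048603, 31, 1048604, 25, 0, 0, 2097186, 32, 1048606, 33, 1048611, 36,
    0, 0, 2097181, 26, 1048598, 2097170, 1048591, 12]
  B := 0xfffffffff
  m := 36

theorem lvl0_ok : LevelOK tab [] lvl0 :=
  ⟨by decide +kernel, by decide +kernel, by decide +kernel, by decide +kernel, by decide +kernel⟩

/-- level 1: base point 10, orbit of length 14 -/
def lvl1 : Level where
  b := 10
  ws := [[1], [2]]
  instrs := [13, 1048592, 19, 1048599, 20, 1048600, 27, 1048608, 30, 1048602, 22, 1048594, 15]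
  B := 0xa6eed400
  m := 14

theorem lvl1_ok : LevelOK tab [0] lvl1 :=
  ⟨by decide +kernel, by decide +kernel, by decide +kernel, by decide +kernel, by decide +kernel⟩

/-- the chain -/
def levels : List Level := [lvl0, lvl1]

theorem chain_ok : ChainOK tab [] levels :=
  ChainOK.cons lvl0_ok (
  ChainOK.cons lvl1_ok (
  ChainOK.nil _))

theorem chain_prod : chainProd levels = 504 := by decide +kernel

/-- the words of the certificate of generation by elements of order 9 -/
def us : List (List ℕ) := [[1, 0, 2, 1, 2], [0, 2, 1, 2], [0, 1]]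

theorem chk_pow0 : tab.minOK (us.getD 0 []) 9 = true ∧ tab.minOK (0 :: us.getD 0 []) 9 = true :=
  ⟨by decide +kernel, by decide +kernel⟩

theorem chk_pow1 : tab.minOK (us.getD 1 []) 9 = true ∧ tab.minOK (1 :: us.getD 1 []) 9 = true :=
  ⟨by decide +kernel, by decide +kernel⟩

theorem chk_pow2 : tab.minOK (us.getD 2 []) 9 = true ∧ tab.minOK (2 :: us.getD 2 []) 9 = true :=
  ⟨by decide +kernel, by decide +kernel⟩

theorem chk_pow : ∀ x, x < 3 → tab.minOK (us.getD x []) 9 = true ∧
    tab.minOK (x :: us.getD x []) 9 = true := by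
  intro x hx
  interval_cases x
  · exact chk_pow0
  · exact chk_pow1
  · exact chk_pow2

end Cfsg.Agent.Lib.Helper6.Ree3P3Simp
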