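import Cfsg.Agent.Lib.Helper6.TCCheck

/-! # Coset enumeration data for Ree3P3: the trace (generated) -/

set_option autoImplicit false
set_option maxRecDepth 1000000
set_option maxHeartbeats 4000000

namespace Cfsg.Agent.Lib.Helper6.Ree3P3TC

open Cfsg.Agent.Lib.Helper6.TC

/-- the operations of the enumeration -/
def trace : List (List ℕ) := [[0, 67108868, 134217736, 67108876, 16, 134217744, 134217748, 67108888, 67108892, 32, 134217760, 36, 134217764, 134217768, 134217776, 67108916, 67108920, 67108924, 64, 134217792, 134217796, 72, 134217804, 67108944, 67108948, 67108956, 96, 100, 134217828, 104, 134217832, 134217840, 134217848, 67108992, 67108996, 550091358225, 550024249369, 550091358241, 550091358245, 550024249397, 550091358273, 550024249425, 550091358309, 550091358313, 67108864, 274877906946, 824902156289, 550091358217, 824835047437, 1924682219541, 550158467169, 134217728, 274945015810, 550158467073, 3299407298561, 1924749328389, 1374993514569, 3574352314441, 824902156333, 824902156413, 824902156401, 5498296336453]]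

end Cfsg.Agent.Lib.Helper6.Ree3P3TC
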