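import Mathlib
import Cfsg.Prelude.Def_QuasithinSetup
import Cfsg.Agent.H2.RootInvA

/-!
# S5048 pieces (P4a), (P4b)
-/

set_option autoImplicit false
set_option linter.style.haveILetI false
set_option linter.unusedSectionVars false

namespace Cfsg.Agent.H2.RootInv

open Cfsg

variable {G : Type*} [Group G] {D : Set G}

/-- (P4a) `O_{2,Z}(G)` is solvable -/
theorem twoZCore_isSolvable [Finite G] : Group.IsSolvable (twoZCore G) := by
  classical
  have hle : pCore 2 G ≤ twoZCore G := by
    intro x hx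
    unfold twoZCore
    rw [Subgroup.mem_comap]
    have : QuotientGroup.mk' (pCore 2 G) x = 1 := (QuotientGroup.eq_one_iff x).2 hx
    rw [this]
    exact Subgroup.one_mem _
  -- `f : O₂(G) → O_{2,Z}(G)`, `g : O_{2,Z}(G) → Z(G / O₂(G))`
  let f : ↥(pCore 2 G) →* ↥(twoZCore G) := Subgroup.inclusion hle
  let g : ↥(twoZCore G) →* ↥(Subgroup.center (G ⧸ pCore 2 G)) :=
    ((QuotientGroup.mk' (pCore 2 G)).comp (twoZCore G).subtype).codRestrict _ (by
      intro x
      have := x.2
      unfold twoZCore at this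
      rw [Subgroup.mem_comap] at this
      exact this)
  haveI : Fact (Nat.Prime 2) := ⟨Nat.prime_two⟩
  haveI h1 : Group.IsSolvable ↥(pCore 2 G) := by
    haveI : Group.IsNilpotent ↥(pCore 2 G) :=
      (Cfsg.Agent.H1.pCore_isPGroup (G := G) 2).isNilpotent
    infer_instance
  haveI h2 : Group.IsSolvable ↥(Subgroup.center (G ⧸ pCore 2 G)) :=
    Group.isSolvable_of_comm (fun a b => by
      apply Subtype.ext
      exact (Subgroup.mem_center_iff.1 b.2 a.1))
  apply Group.isSolvable_of_ker_le_range f g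
  intro x hx
  rw [MonoidHom.mem_ker] at hx
  have hx1 : QuotientGroup.mk' (pCore 2 G) (x : G) = 1 := by
    have := congrArg Subtype.val hx
    exact this
  have hx2 : (x : G) ∈ pCore 2 G := (QuotientGroup.eq_one_iff (x : G)).1 hx1
  exact ⟨⟨x, hx2⟩, by apply Subtype.ext; rfl⟩

/-- (P4b) a quotient by a proper normal subgroup `Z` such that every normal subgroup lies in `Z` or is
everything is simple -/
theorem isSimpleGroup_quotient_of_dichotomy (Z : Subgroup G) [Z.Normal] (hZ : Z ≠ ⊤)
    (h : ∀ N : Subgroup G, N.Normal → N ≤ Z ∨ N = ⊤) : IsSimpleGroup (G ⧸ Z) := by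
  haveI : Nontrivial (G ⧸ Z) := by
    by_contra hcon
    rw [not_nontrivial_iff_subsingleton] at hcon
    apply hZ
    rw [eq_top_iff]
    intro x _
    have : (QuotientGroup.mk x : G ⧸ Z) = 1 := Subsingleton.elim _ _
    exact (QuotientGroup.eq_one_iff x).1 this
  refine ⟨fun Nb hNb => ?_⟩
  have hNn : (Nb.comap (QuotientGroup.mk' Z)).Normal := Subgroup.Normal.comap hNb _
  rcases h _ hNn with h1 | h1
  · left
    rw [eq_bot_iff]
    intro y hy
    obtain ⟨x, rfl⟩ := QuotientGroup.mk_surjective y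
    have hx : x ∈ Nb.comap (QuotientGroup.mk' Z) := hy
    have hxZ : x ∈ Z := h1 hx
    rw [Subgroup.mem_bot]
    exact (QuotientGroup.eq_one_iff x).2 hxZ
  · right
    rw [eq_top_iff]
    intro y _
    obtain ⟨x, rfl⟩ := QuotientGroup.mk_surjective y
    have hx : x ∈ Nb.comap (QuotientGroup.mk' Z) := by rw [h1]; exact Subgroup.mem_top x
    exact hx

end Cfsg.Agent.H2.RootInv
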