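import Cfsg.Agent.Lib.Helper6.RuLTCData
import Cfsg.Agent.Lib.Helper6.TCRel2

/-! # RuL: the kernel check of part 0 of the relators on the coset table -/

set_option autoImplicit false

namespace Cfsg.Agent.Lib.Helper6.RuLTC

open Cfsg.Agent.Lib.Helper6.TC

theorem chk_pow0_0 : tab.cycLoop [0, 1] 13 4060 0 0x0 = true := by decide +kernel

theorem chk_pow0 : tab.powOK [0, 1] 13 = true :=
  Tab.powOK_intro tab (by decide +kernel)
    (chk_pow0_0)

theorem chk_pow1_0 : tab.cycLoop [0, 2] 2 4060 0 0x0 = true := by decide +kernel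

theorem chk_pow1 : tab.powOK [0, 2] 2 = true :=
  Tab.powOK_intro tab (by decide +kernel)
    (chk_pow1_0)

theorem chk_pow2_0 : tab.cycLoop [1, 2] 3 4060 0 0x0 = true := by decide +kernel

theorem chk_pow2 : tab.powOK [1, 2] 3 = true :=
  Tab.powOK_intro tab (by decide +kernel)
    (chk_pow2_0)

theorem chk_pow3_0 : tab.cycLoop [0, 3] 2 4060 0 0x0 = true := by decide +kernel

theorem chk_pow3 : tab.powOK [0, 3] 2 = true :=
  Tab.powOK_intro tab (by decide +kernel)
    (chk_pow3_0)

end Cfsg.Agent.Lib.Helper6.RuLTC
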