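import Cfsg.Agent.Lib.Helper6.RuLTCData
import Cfsg.Agent.Lib.Helper6.TCRel2
import Cfsg.Agent.Lib.Helper6.RuLSRows0

/-! # RuL: the kernel check of part 1 of the relators on the coset table -/

set_option autoImplicit false

namespace Cfsg.Agent.Lib.Helper6.RuLTC

open Cfsg.Agent.Lib.Helper6.TC

theorem chk_pow4_0 : tab.cycLoop [1, 3] 10 4060 0 0x0 = true := by decide +kernel

theorem chk_pow4 : tab.powOK [1, 3] 10 = true :=
  Tab.powOK_intro tab (by decide +kernel)
    (chk_pow4_0)

theorem chk_pow5_0 : tab.cycLoop [2, 3] 2 4060 0 0x0 = true := by decide +kernel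

theorem chk_pow5 : tab.powOK [2, 3] 2 = true :=
  Tab.powOK_intro tab (by decide +kernel)
    (chk_pow5_0)

theorem chk_pow6_0 : tab.cycLoop [0, 4] 2 4060 0 0x0 = true := by decide +kernel

theorem chk_pow6 : tab.powOK [0, 4] 2 = true :=
  Tab.powOK_intro tab (by decide +kernel)
    (chk_pow6_0)

theorem chk_pow7_0 : tab.cycLoop [1, 4] 3 4060 0 0x0 = true := by decide +kernel

theorem chk_pow7 : tab.powOK [1, 4] 3 = true :=
  Tab.powOK_intro tab (by decide +kernel)
    (chk_pow7_0)

end Cfsg.Agent.Lib.Helper6.RuLTC
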