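import Cfsg.Agent.Lib.Helper6.RuLTCData
import Cfsg.Agent.Lib.Helper6.TCRel2
import Cfsg.Agent.Lib.Helper6.RuLSMRows0

/-! # RuL: the kernel check of part 2 of the relators on the coset table -/

set_option autoImplicit false

namespace Cfsg.Agent.Lib.Helper6.RuLTC

open Cfsg.Agent.Lib.Helper6.TC

theorem chk_pow8_0 : tab.cycLoop [2, 4] 2 4060 0 0x0 = true := by decide +kernel

theorem chk_pow8 : tab.powOK [2, 4] 2 = true :=
  Tab.powOK_intro tab (by decide +kernel)
    (chk_pow8_0)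

theorem chk_pow9_0 : tab.cycLoop [3, 4] 2 4060 0 0x0 = true := by decide +kernel

theorem chk_pow9 : tab.powOK [3, 4] 2 = true :=
  Tab.powOK_intro tab (by decide +kernel)
    (chk_pow9_0)

theorem chk_pow10_0 : tab.cycLoop [0, 1, 2] 8 4060 0 0x0 = true := by decide +kernel

theorem chk_pow10 : tab.powOK [0, 1, 2] 8 = true :=
  Tab.powOK_intro tab (by decide +kernel)
    (chk_pow10_0)

theorem chk_pow11_0 : tab.cycLoop [2, 1, 0, 1, 0, 1, 0, 1, 0, 1, 0, 1] 4 4060 0 0x0 = true := by decide +kernel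

theorem chk_pow11 : tab.powOK [2, 1, 0, 1, 0, 1, 0, 1, 0, 1, 0, 1] 4 = true :=
  Tab.powOK_intro tab (by decide +kernel)
    (chk_pow11_0)

end Cfsg.Agent.Lib.Helper6.RuLTC
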