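import Cfsg.Agent.Lib.Helper6.RuLTCData
import Cfsg.Agent.Lib.Helper6.TCRel2
import Cfsg.Agent.Lib.Helper6.RuLSFin0

/-! # RuL: the kernel check of part 3 of the relators on the coset table -/

set_option autoImplicit false

namespace Cfsg.Agent.Lib.Helper6.RuLTC

open Cfsg.Agent.Lib.Helper6.TC

theorem chk_pow12_0 : tab.cycLoop [3, 1, 0, 1, 3, 2, 1, 0, 1, 3, 2, 1, 0, 1, 2] 1 4060 0 0x0 = true := by decide +kernel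

theorem chk_pow12 : tab.powOK [3, 1, 0, 1, 3, 2, 1, 0, 1, 3, 2, 1, 0, 1, 2] 1 = true :=
  Tab.powOK_intro tab (by decide +kernel)
    (chk_pow12_0)

theorem chk_pow13_0 : tab.cycLoop [3, 1, 3, 1, 0, 2, 3, 1, 3, 1, 3, 0, 1, 0, 1, 2, 0, 1, 0, 1, 0, 1, 0, 1, 0, 1, 0, 1, 2, 0, 1, 0, 1, 0] 1 4060 0 0x0 = true := by decide +kernel

theorem chk_pow13 : tab.powOK [3, 1, 3, 1, 0, 2, 3, 1, 3, 1, 3, 0, 1, 0, 1, 2, 0, 1, 0, 1, 0, 1, 0, 1, 0, 1, 0, 1, 2, 0, 1, 0, 1, 0] 1 = true :=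
  Tab.powOK_intro tab (by decide +kernel)
    (chk_pow13_0)

theorem chk_pow14_0 : tab.cycLoop [3, 1, 0, 3, 1, 0, 3, 1, 3, 0, 1, 3, 0, 1, 3, 0, 1, 0] 1 4060 0 0x0 = true := by decide +kernel

theorem chk_pow14 : tab.powOK [3, 1, 0, 3, 1, 0, 3, 1, 3, 0, 1, 3, 0, 1, 3, 0, 1, 0] 1 = true :=
  Tab.powOK_intro tab (by decide +kernel)
    (chk_pow14_0)

theorem chk_pow15_0 : tab.cycLoop [3, 1, 0, 2, 1, 3, 1, 2, 0, 1, 3, 1, 2, 0, 1, 3, 0, 1, 0, 1, 2, 0, 1, 0, 1, 2, 0, 1, 0, 1, 0, 1, 2, 0, 1, 0, 1, 2, 0, 1, 0, 1, 0] 1 4060 0 0x0 = true := by decide +kernel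

theorem chk_pow15 : tab.powOK [3, 1, 0, 2, 1, 3, 1, 2, 0, 1, 3, 1, 2, 0, 1, 3, 0, 1, 0, 1, 2, 0, 1, 0, 1, 2, 0, 1, 0, 1, 0, 1, 2, 0, 1, 0, 1, 2, 0, 1, 0, 1, 0] 1 = true :=
  Tab.powOK_intro tab (by decide +kernel)
    (chk_pow15_0)

end Cfsg.Agent.Lib.Helper6.RuLTC
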