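import Cfsg.Agent.Lib.Helper6.TitsSub

/-! # A presentation of the Rudvalis group on five involutions, over the presentation of the Tits group -/

set_option autoImplicit false
set_option linter.unusedSimpArgs false

namespace Cfsg.Agent.Lib.Helper6.RuSub

open Cfsg.Spor Cfsg.Agent.Lib.Helper6.Simp Cfsg.Agent.Lib.Helper6.TitsSub

namespace P5

/-- the generators x, y, z, t, u -/
inductive Gen
  | x
  | y
  | z
  | t
  | u
  deriving DecidableEq

abbrev x : FreeGroup Gen := FreeGroup.of Gen.x
abbrev y : FreeGroup Gen := FreeGroup.of Gen.y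
abbrev z : FreeGroup Gen := FreeGroup.of Gen.z
abbrev t : FreeGroup Gen := FreeGroup.of Gen.t
abbrev u : FreeGroup Gen := FreeGroup.of Gen.u

/-- the Coxeter graph -/
def edges : List (Gen × ℕ × Gen) :=
  [(.x, 13, .y), (.y, 3, .z), (.y, 10, .t), (.y, 3, .u)]

/-- the further relators -/
def extra : List (FreeGroup Gen) := [  (x * y * z) ^ 8,
  (z * (y * x) ^ 5 * y) ^ 4,
  t * y * x * y * t * z * y * x * y * t * z * y * x * y * z,
  t * y * t * y * x * z * t * y * t * y * t * x * y * x * y * z * x * y * x * y * x * y * x * y * x * y * x * y * z * x * y * x * y * x,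
  t * y * x * t * y * x * t * y * t * x * y * t * x * y * t * x * y * x,
  t * y * x * z * y * t * y * z * x * y * t * y * z * x * y * t * x * y * x * y * z * x * y * x * y * z * x * y * x * y * x * y * z * x * y * x * y * z * x * y * x * y * x,
  t * y * x * y * x * y * z * t * y * t * y * x * y * t * x * y * t * z * x * y * x * y * x * y * z * y * x * y * x * y * x * y * x * y * x * y * z * x * y * x * y * z * y,
  u * y * t * y * z * t * y * x * y * z * y * x * y * u * t * y * x * y * x * y * t * z * y * t * z * x * y * x * y * x * y * x * y * x * y * z * x * y * x * y * x * y * x * y * x * y * z * x * y,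
  u * y * t * y * z * u * y * x * y * u * z * y * t * y * u * z * y * x * y * z * y,
  u * y * x * t * y * x * y * z * u * t * y * x * y * t * x * y * u * z * y * x * y * z * x * y * t * z * y * t * y * z * y * x * y * x * y * z,
  u * y * z * t * y * x * y * x * t * u * y * x * y * t * z * y * u * t * y * t * z * y * x * y * z * y * x * y * t * z * y * x]

/-- the inclusion of the generators of the Tits group -/
def ι4 : P4.Gen → Gen
  | .x => .x
  | .y => .y
  | .z => .z
  | .t => .t

end P5

/-- the presented group on x, y, z, t, u -/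
abbrev P5 : Type := CoxPresented P5.Gen P5.edges P5.extra

/-- `P4` maps to `P5` -/
def subP4 : SubPres P5.edges P5.extra P4.edges P4.extra where
  ι := P5.ι4
  hnode := by decide
  hlabel := by decide
  hextra := by
    intro r hr
    simp only [P4.extra, List.mem_cons, List.not_mem_nil, or_false] at hr
    rcases hr with rfl | rfl | rfl | rfl | rfl | rfl | rfl <;>
      simp only [map_mul, map_inv, map_pow, FreeGroup.map.of, P5.ι4, P5.extra, List.mem_cons,
        true_or, or_true]

theorem rangeP4 : (Set.range fun y => FreeGroup.of (subP4.ι y)) =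
    ({P5.x, P5.y, P5.z, P5.t} : Set (FreeGroup P5.Gen)) := by
  ext z
  constructor
  · rintro ⟨y, rfl⟩
    cases y <;> simp [subP4, P5.ι4]
  · intro hz
    simp only [Set.mem_insert_iff, Set.mem_singleton_iff] at hz
    rcases hz with rfl | rfl | rfl | rfl
    · exact ⟨.x, rfl⟩
    · exact ⟨.y, rfl⟩
    · exact ⟨.z, rfl⟩
    · exact ⟨.t, rfl⟩

end Cfsg.Agent.Lib.Helper6.RuSub
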