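import Cfsg.Agent.Lib.Helper6.RuLTCData
import Cfsg.Agent.Lib.Helper6.TCChunk
import Cfsg.Agent.Lib.Helper6.RuLTCTab0

/-! # RuL: the kernel check that orbit 2 is closed, part 0 -/

set_option autoImplicit false

namespace Cfsg.Agent.Lib.Helper6.RuLTC

open Cfsg.Agent.Lib.Helper6.TC Cfsg.Agent.Lib.Helper6.TCS

theorem chk_closed2_0 : tab.closedOKc subW orbB2 0 8000 = true := by decide +kernel

end Cfsg.Agent.Lib.Helper6.RuLTC
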