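import Cfsg.Agent.Lib.Helper6.RuLSRows0
import Cfsg.Agent.Lib.Helper6.RuLSMRows0
import Cfsg.Agent.Lib.Helper6.RuLSFin0

/-! # RuL: the coset enumeration is checked -/

set_option autoImplicit false

namespace Cfsg.Agent.Lib.Helper6.RuLTC

open Cfsg.Agent.Lib.Helper6.TC Cfsg.Agent.Lib.Helper6.TCS

theorem chk_rows : ∀ a < cert.N, ∀ x < cert.c.g, cert.slotOK a x = true := by
  refine cert.rows_of_ranges 4200 1 (by norm_num) (by show 4064 ≤ 1 * 4200; norm_num) ?_
  intro f hf
  interval_cases f
  · exact chk_range0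

theorem chk_mrows : ∀ b < cert.N, cert.mslotOK b = true := by
  refine cert.mrows_of_ranges 4200 1 (by norm_num) (by show 4064 ≤ 1 * 4200; norm_num) ?_
  intro f hf
  interval_cases f
  · exact chk_mrange0

theorem chk_fin : cert.finalOK 4060 = true := by
  refine cert.finalOK_of_chunks 4060 3000 2 (by norm_num) (by show 4060 ≤ 2 * 3000; norm_num) ?_
  intro k hk
  interval_cases k
  · exact chk_fin0
  · exact chk_fin1

theorem hrun : RunCert cfg tab.n :=
  RunCert.of_static cert 4060 (by norm_num) chk_rows chk_mrows chk_fin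

end Cfsg.Agent.Lib.Helper6.RuLTC
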