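import Cfsg.Agent.Lib.Helper6.RuP5SCert
import Cfsg.Agent.Lib.Helper6.TCChunk

/-! # RuP5: the kernel check that the first rows are closed, part 0 -/

set_option autoImplicit false

namespace Cfsg.Agent.Lib.Helper6.RuP5TC

open Cfsg.Agent.Lib.Helper6.TC Cfsg.Agent.Lib.Helper6.TCS

theorem chk_fin0 : cert.finalOKc 8120 0 3000 = true := by decide +kernel

theorem chk_fin1 : cert.finalOKc 8120 3000 3000 = true := by decide +kernel

theorem chk_fin2 : cert.finalOKc 8120 6000 3000 = true := by decide +kernel

end Cfsg.Agent.Lib.Helper6.RuP5TC
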