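import Cfsg.Agent.Lib.Helper6.RuP5SCert

/-! # RuP5: the kernel check of the merge map from row 0 on -/

set_option autoImplicit false

namespace Cfsg.Agent.Lib.Helper6.RuP5TC

open Cfsg.Agent.Lib.Helper6.TC Cfsg.Agent.Lib.Helper6.TCS

theorem chk_mrows0_0 : cert.mrowsOK 0 1100 = true := by decide +kernel

theorem chk_mrows0_1 : cert.mrowsOK 1100 1100 = true := by decide +kernel

theorem chk_mrows0_2 : cert.mrowsOK 2200 1100 = true := by decide +kernel

theorem chk_mrows0_3 : cert.mrowsOK 3300 1100 = true := by decide +kernel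

theorem chk_mrows0_4 : cert.mrowsOK 4400 1100 = true := by decide +kernel

theorem chk_mrows0_5 : cert.mrowsOK 5500 1100 = true := by decide +kernel

theorem chk_mrows0_6 : cert.mrowsOK 6600 1100 = true := by decide +kernel

theorem chk_mrows0_7 : cert.mrowsOK 7700 1100 = true := by decide +kernel

theorem chk_mrange0 : ∀ a, 0 ≤ a → a < 0 + 8800 → cert.mslotOK a = true := by
  refine cert.mrange_of_chunks 0 1100 8 (by norm_num) ?_
  intro k hk
  interval_cases k
  · exact chk_mrows0_0
  · exact chk_mrows0_1
  · exact chk_mrows0_2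
  · exact chk_mrows0_3
  · exact chk_mrows0_4
  · exact chk_mrows0_5
  · exact chk_mrows0_6
  · exact chk_mrows0_7

end Cfsg.Agent.Lib.Helper6.RuP5TC
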