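import Cfsg.Agent.Lib.Helper6.RuP5SCert

/-! # RuP5: the kernel check of the rows from 0 on -/

set_option autoImplicit false

namespace Cfsg.Agent.Lib.Helper6.RuP5TC

open Cfsg.Agent.Lib.Helper6.TC Cfsg.Agent.Lib.Helper6.TCS

theorem chk_rows0_0 : cert.rowsOK 0 600 = true := by decide +kernel

theorem chk_rows0_1 : cert.rowsOK 600 600 = true := by decide +kernel

theorem chk_rows0_2 : cert.rowsOK 1200 600 = true := by decide +kernel

theorem chk_rows0_3 : cert.rowsOK 1800 600 = true := by decide +kernel

theorem chk_rows0_4 : cert.rowsOK 2400 600 = true := by decide +kernel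

theorem chk_rows0_5 : cert.rowsOK 3000 600 = true := by decide +kernel

theorem chk_rows0_6 : cert.rowsOK 3600 600 = true := by decide +kernel

theorem chk_rows0_7 : cert.rowsOK 4200 600 = true := by decide +kernel

theorem chk_rows0_8 : cert.rowsOK 4800 600 = true := by decide +kernel

theorem chk_rows0_9 : cert.rowsOK 5400 600 = true := by decide +kernel

theorem chk_rows0_10 : cert.rowsOK 6000 600 = true := by decide +kernel

theorem chk_rows0_11 : cert.rowsOK 6600 600 = true := by decide +kernel

theorem chk_rows0_12 : cert.rowsOK 7200 600 = true := by decide +kernel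

theorem chk_rows0_13 : cert.rowsOK 7800 600 = true := by decide +kernel

theorem chk_range0 : ∀ a, 0 ≤ a → a < 0 + 8400 → ∀ x < cert.c.g, cert.slotOK a x = true := by
  refine cert.range_of_chunks 0 600 14 (by norm_num) ?_
  intro k hk
  interval_cases k
  · exact chk_rows0_0
  · exact chk_rows0_1
  · exact chk_rows0_2
  · exact chk_rows0_3
  · exact chk_rows0_4
  · exact chk_rows0_5
  · exact chk_rows0_6
  · exact chk_rows0_7
  · exact chk_rows0_8
  · exact chk_rows0_9
  · exact chk_rows0_10
  · exact chk_rows0_11
  · exact chk_rows0_12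
  · exact chk_rows0_13

end Cfsg.Agent.Lib.Helper6.RuP5TC
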