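import Cfsg.Agent.Lib.Helper6.RuP5TCData
import Cfsg.Agent.Lib.Helper6.TCInst
import Cfsg.Agent.Lib.Helper6.TCChunk
import Cfsg.Agent.Lib.Helper6.RuSub
import Cfsg.Agent.Lib.Helper6.RuP5TCRel0
import Cfsg.Agent.Lib.Helper6.RuP5TCRel1
import Cfsg.Agent.Lib.Helper6.RuP5TCRel2
import Cfsg.Agent.Lib.Helper6.RuP5TCRel3
import Cfsg.Agent.Lib.Helper6.RuP5TCRel4
import Cfsg.Agent.Lib.Helper6.RuP5TCRel5
import Cfsg.Agent.Lib.Helper6.RuP5TCTab0
import Cfsg.Agent.Lib.Helper6.RuP5TCTree0

/-! # RuP5: the checks of the words, the coset table and the relators -/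

set_option autoImplicit false

namespace Cfsg.Agent.Lib.Helper6.RuP5TC

open Cfsg.Agent.Lib.Helper6.TC Cfsg.Spor Cfsg.Agent.Lib.Helper6.RuSub Cfsg.Agent.Lib.Helper6.TitsSub

/-- the generator with a given code -/
def gen : ℕ → P5.Gen
  | 0 => .x
  | 1 => .y
  | 2 => .z
  | 3 => .t
  | _ => .u

/-- the code of a generator -/
def code : P5.Gen → ℕ
  | .x => 0
  | .y => 1
  | .z => 2
  | .t => 3
  | .u => 4

theorem chk_words : wordsSrcOK cfg (coxWordsL P5.edges gen cfg.g ++ extraWords) nw srcs = true := by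
  decide +kernel

theorem chk_tab : tab.tabOK = true := by
  refine tab.tabOK_of_chunks 3000 3 (by norm_num) (by show 8120 ≤ 3 * 3000; norm_num) ?_
  intro k hk
  interval_cases k
  · exact chk_tab0
  · exact chk_tab1
  · exact chk_tab2

theorem chk_tree : tab.treeOK = true := by
  refine tab.treeOK_of_chunks 3000 3 (by norm_num) (by show 8120 ≤ 3 * 3000; norm_num) ?_
  intro k hk
  interval_cases k
  · exact chk_tree0
  · exact chk_tree1
  · exact chk_tree2

theorem extraWords_eq : (extraPow.map fun p => (List.replicate p.2 p.1).flatten) = extraWords := by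
  decide +kernel

theorem pows_eq : coxPairs P5.edges gen tab.g ++ extraPow = allPow := by
  decide +kernel

theorem chk_pows : tab.powsOK (coxPairs P5.edges gen tab.g ++ extraPow) = true := by
  rw [pows_eq]
  simp only [allPow, Tab.powsOK_cons, Tab.powsOK_nil, Bool.and_eq_true, and_true]
  exact ⟨chk_pow0, chk_pow1, chk_pow2, chk_pow3, chk_pow4, chk_pow5, chk_pow6, chk_pow7, chk_pow8, chk_pow9, chk_pow10, chk_pow11, chk_pow12, chk_pow13, chk_pow14, chk_pow15, chk_pow16, chk_pow17, chk_pow18, chk_pow19, chk_pow20⟩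

theorem chk_rels : tab.relsOK (coxWordsL P5.edges gen cfg.g ++ extraWords) = true := by
  rw [← extraWords_eq]
  exact Tab.relsOK_of_powsOK chk_tab P5.edges gen extraPow chk_pows

theorem chk_sub : subOK cfg tab subW = true := by decide +kernel

end Cfsg.Agent.Lib.Helper6.RuP5TC
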