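import Cfsg.Agent.Lib.Helper6.RuSimple
import Cfsg.Prelude.Def_Sporadic
import Cfsg.Prelude.Def_Exceptional

/-! # The Rudvalis group as a permutation group on 4060 points

The presented group `P5` acts on the 4060 cosets of the subgroup generated by `x, y, z, t` and one
more element; the image is a simple permutation group of order 145926144000, the stabiliser of a
point has order 35942400 and contains the image of the presented Tits group. -/

set_option autoImplicit false

namespace Cfsg.Agent.Lib.Helper6.RuPerm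

open Cfsg Cfsg.Spor Cfsg.Agent.Lib.Helper6.Simp Cfsg.Agent.Lib.Helper6.RuSub
  Cfsg.Agent.Lib.Helper6.TitsSub Cfsg.Agent.Lib.Helper6.TC

/-- the certificate of the enumeration of the 4060 cosets -/
noncomputable abbrev C : CoxCert P5.edges P5.extra := RuLTC.data.cert

theorem C_n : C.T.n = 4060 := rfl

/-- the action on the 4060 cosets -/
noncomputable def ρ : P5 →* Equiv.Perm (Fin 4060) := C.ρ

theorem ρ_trans (a : Fin 4060) : ∃ z : P5, ρ z 0 = a := by
  obtain ⟨z, hz⟩ := C.trans a
  exact ⟨z, hz⟩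

theorem ρ_injective : Function.Injective ρ := by
  have hs := RuSimple.main.1
  rw [← MonoidHom.ker_eq_bot_iff]
  rcases (inferInstance : ρ.ker.Normal).eq_bot_or_eq_top with h | h
  · exact h
  · exfalso
    obtain ⟨z, hz⟩ := ρ_trans (1 : Fin 4060)
    have hz1 : ρ z = 1 := by
      rw [← MonoidHom.mem_ker, h]
      exact Subgroup.mem_top z
    rw [hz1] at hz
    exact absurd hz (by decide)

/-- the Rudvalis group on 4060 points -/
noncomputable def H0 : Subgroup (Equiv.Perm (Fin 4060)) := ρ.range

/-- the presented group is the permutation group -/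
noncomputable def isoH0 : P5 ≃* ↥H0 := MonoidHom.ofInjective ρ_injective

theorem isRu_H0 : IsRu ↥H0 :=
  ⟨@MulEquiv.isSimpleGroup _ _ _ _ RuSimple.main.1 isoH0.symm,
    (Nat.card_congr isoH0.toEquiv).symm.trans RuSimple.main.2⟩

theorem smul_H0 (g : ↥H0) (a : Fin 4060) : g • a = (g : Equiv.Perm (Fin 4060)) a := rfl

instance pretransitive_H0 : MulAction.IsPretransitive ↥H0 (Fin 4060) := by
  refine ⟨fun a b => ?_⟩
  obtain ⟨za, hza⟩ := ρ_trans a
  obtain ⟨zb, hzb⟩ := ρ_trans b
  refine ⟨⟨ρ (zb * za⁻¹), ⟨_, rfl⟩⟩, ?_⟩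
  rw [smul_H0]
  show ρ (zb * za⁻¹) a = b
  rw [map_mul, map_inv, Equiv.Perm.mul_apply, ← hza, perm_inv_apply_self, hzb]

theorem card_stabilizer : Nat.card ↥(MulAction.stabilizer ↥H0 (0 : Fin 4060)) = 35942400 := by
  have h1 := MulAction.index_stabilizer_of_transitive ↥H0 (0 : Fin 4060)
  have h2 := (MulAction.stabilizer ↥H0 (0 : Fin 4060)).card_mul_index
  rw [h1, Nat.card_fin, isRu_H0.2] at h2
  have h3 : Nat.card ↥(MulAction.stabilizer ↥H0 (0 : Fin 4060)) * 4060 = 35942400 * 4060 :=
    h2.trans (by norm_num)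
  exact Nat.eq_of_mul_eq_mul_right (by norm_num) h3

/-! ### the Tits group in the stabiliser -/

/-- the presented Tits group maps to `P5` -/
noncomputable def φ4 : P4 →* P5 := subP4.hom

theorem index_range_φ4 : φ4.range.index = 8120 := by
  unfold φ4
  rw [subP4.range_hom, rangeP4]
  exact RuP5TC.main

theorem φ4_injective : Function.Injective φ4 := by
  have hs := TitsSimple.main.1
  rw [← MonoidHom.ker_eq_bot_iff]
  rcases (inferInstance : φ4.ker.Normal).eq_bot_or_eq_top with h | h
  · exact h
  · exfalso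
    have h1 : φ4.range = ⊥ := by
      rw [eq_bot_iff]
      rintro _ ⟨a, rfl⟩
      have : a ∈ φ4.ker := by rw [h]; exact Subgroup.mem_top a
      exact Subgroup.mem_bot.2 (MonoidHom.mem_ker.1 this)
    have h2 := index_range_φ4
    rw [h1, Subgroup.index_bot, RuSimple.main.2] at h2
    omega

theorem range_φ4_le : φ4.range ≤ C.H := by
  unfold φ4 CoxCert.H
  rw [subP4.range_hom, rangeP4]
  apply Subgroup.map_mono
  apply Subgroup.closure_mono
  intro s hs
  simp only [Set.mem_insert_iff, Set.mem_singleton_iff] at hs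
  show s ∈ RuLTC.S
  rcases hs with rfl | rfl | rfl | rfl <;> simp [RuLTC.S]

theorem ρ_φ4_fix (a : P4) : ρ (φ4 a) 0 = 0 := by
  exact C.fix (φ4 a) (range_φ4_le ⟨a, rfl⟩)

/-- the Tits group in the stabiliser of the point `0` -/
noncomputable def θ : P4 →* ↥(MulAction.stabilizer ↥H0 (0 : Fin 4060)) where
  toFun a := ⟨⟨ρ (φ4 a), ⟨_, rfl⟩⟩, by
    rw [MulAction.mem_stabilizer_iff, smul_H0]
    exact ρ_φ4_fix a⟩
  map_one' := by
    apply Subtype.ext
    apply Subtype.ext
    simp
  map_mul' a b := by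
    apply Subtype.ext
    apply Subtype.ext
    simp

theorem θ_injective : Function.Injective θ := by
  intro a b hab
  have h1 : ρ (φ4 a) = ρ (φ4 b) :=
    congrArg (fun g : ↥(MulAction.stabilizer ↥H0 (0 : Fin 4060)) =>
      ((g : ↥H0) : Equiv.Perm (Fin 4060))) hab
  exact φ4_injective (ρ_injective h1)

theorem isTits_range : IsTits ↥θ.range :=
  ⟨@MulEquiv.isSimpleGroup _ _ _ _ TitsSimple.main.1 (MonoidHom.ofInjective θ_injective).symm,
    (Nat.card_congr (MonoidHom.ofInjective θ_injective).toEquiv).symm.trans TitsSimple.main.2⟩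

/-- **the Rudvalis group as a permutation group on 4060 points** -/
theorem main : ∃ H : Subgroup (Equiv.Perm (Fin 4060)), IsRu H ∧
    MulAction.IsPretransitive H (Fin 4060) ∧
    Nat.card (MulAction.stabilizer H (0 : Fin 4060)) = 35942400 ∧
    ∃ T : Subgroup (MulAction.stabilizer H (0 : Fin 4060)), IsTits T :=
  ⟨H0, isRu_H0, pretransitive_H0, card_stabilizer, θ.range, isTits_range⟩

end Cfsg.Agent.Lib.Helper6.RuPerm
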