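import Cfsg.Agent.Lib.Helper6.RuSimp
import Cfsg.Agent.Lib.Helper6.RuLTC
import Cfsg.Agent.Lib.Helper6.RuP5TC
import Cfsg.Agent.Lib.Helper6.TitsSimple

/-! # The presented group P5 (that is the Rudvalis group) is simple of order 145926144000 -/

set_option autoImplicit false

namespace Cfsg.Agent.Lib.Helper6.RuSimple

open Cfsg.Spor Cfsg.Agent.Lib.Helper6.Simp Cfsg.Agent.Lib.Helper6.RuSub Cfsg.Agent.Lib.Helper6.TC
  Cfsg.Agent.Lib.Helper6.NatArr Cfsg.Agent.Lib.Helper6.TitsSub

/-- the upper bound for the order, along the chain of sub-presentations -/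
theorem ub : Finite P5 ∧ Nat.card P5 ≤ 145926144000 := by
  have h4 := TitsSimple.ub
  have h5 := subP4.finite_card_le RuP5TC.S rangeP4.symm RuP5TC.main (by norm_num) h4.1 h4.2
  exact ⟨h5.1, h5.2.trans (by norm_num)⟩

theorem chk_cover : allBelow 4060 (fun b => Nat.beq b 0 ||
    (btest RuLTC.orbB1 b || btest RuLTC.orbB2 b)) = true := by decide +kernel

theorem chk_disj0_1 : Nat.land RuLTC.orbB1 RuLTC.orbB2 = 0 := by decide +kernel

theorem chk_disj1_0 : Nat.land RuLTC.orbB2 RuLTC.orbB1 = 0 := by decide +kernel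

theorem chk_o0 : RuLTC.orbB1.testBit 0 = false := by decide +kernel

theorem chk_o1 : RuLTC.orbB2.testBit 0 = false := by decide +kernel

/-- **The presented group P5 (that is the Rudvalis group) is simple of order 145926144000** -/
theorem main : IsSimpleGroup P5 ∧ Nat.card P5 = 145926144000 := by
  refine simple_card RuLTC.data ub RuSimp.levels RuSimp.chain_ok RuSimp.chain_prod
    (r := 2) ![RuLTC.orb1, RuLTC.orb2] ![1755, 2304] ?_ ?_ ?_ ?_ ?_ 7 ?_ RuSimp.us
    RuSimp.chk_pow ?_
  · intro i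
    fin_cases i
    · exact RuLTC.chk_cnt1
    · exact RuLTC.chk_cnt2
  · intro b hb
    have h := allBelow_spec _ _ chk_cover b hb
    simp only [Bool.or_eq_true, btest_eq] at h
    rcases h with h | h | h
    · exact Or.inl (Nat.eq_of_beq_eq_true h)
    · exact Or.inr ⟨0, h⟩
    · exact Or.inr ⟨1, h⟩
  · intro i j hij
    fin_cases i <;> fin_cases j
    · exact absurd rfl hij
    · exact chk_disj0_1
    · exact chk_disj1_0
    · exact absurd rfl hij
  · intro i
    fin_cases i
    · exact chk_o0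
    · exact chk_o1
  · show ∀ I : Finset (Fin 2), I.Nonempty → (1 + ∑ i ∈ I, ![1755, 2304] i) ∣ 4060 →
      1 + ∑ i ∈ I, ![1755, 2304] i = 4060
    decide
  · show (145926144000 / 4060).Coprime 7
    norm_num
  · show 1 < 4060
    norm_num

end Cfsg.Agent.Lib.Helper6.RuSimple
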