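import Mathlib
import Cfsg.Prelude.Def_Sporadic_a

/-!
# Strongly regular graphs with parameters (100, 22, 0, 6): the local structure

Fix a vertex `v₀`.  The 22 neighbours of `v₀` are "points", the 77 other vertices are "blocks";
the block of `m` is the set of the 6 common neighbours of `v₀` and `m`.  A variance count shows that
two blocks meet in 0 points (if adjacent) or in 2 points (if not).
-/

set_option autoImplicit false
set_option linter.unusedSectionVars false
set_option linter.unusedVariables false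

namespace Cfsg.Agent.Lib.Helper6.SRG100

open Finset

variable {V : Type*} [Fintype V] [DecidableEq V] (G : SimpleGraph V) [DecidableRel G.Adj]

/-- the finset form of the hypotheses -/
structure SRGf : Prop where
  card : Fintype.card V = 100
  deg : ∀ v, (univ.filter (fun x => G.Adj v x)).card = 22
  lam : ∀ v w x, G.Adj v w → G.Adj v x → G.Adj w x → False
  mu : ∀ v w, v ≠ w → ¬ G.Adj v w → (univ.filter (fun x => G.Adj v x ∧ G.Adj w x)).card = 6

theorem srgf_of_isSRGWith (hG : G.IsSRGWith 100 22 0 6) : SRGf G := by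
  refine ⟨hG.card, ?_, ?_, ?_⟩
  · intro v
    have h := hG.regular v
    rw [← h, SimpleGraph.degree, SimpleGraph.neighborFinset_eq_filter]
  · intro v w x hvw hvx hwx
    have h := hG.of_adj v w hvw
    rw [Fintype.card_eq_zero_iff] at h
    exact h.false ⟨x, by rw [SimpleGraph.mem_commonNeighbors]; exact ⟨hvx, hwx⟩⟩
  · intro v w hne hna
    have h := hG.of_not_adj hne hna
    rw [← h, Fintype.card_subtype]
    congr 1

variable {G}

section fix

variable (hG : SRGf G) (v₀ : V)

variable (G) in
/-- the points: the neighbours of `v₀` -/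
def pts : Finset V := univ.filter (fun a => G.Adj v₀ a)

variable (G) in
/-- the block vertices: the vertices other than `v₀` not adjacent to it -/
def bvs : Finset V := univ.filter (fun m => m ≠ v₀ ∧ ¬ G.Adj v₀ m)

variable (G) in
/-- the block of a vertex -/
def blk (m : V) : Finset V := univ.filter (fun a => G.Adj v₀ a ∧ G.Adj m a)

theorem mem_pts {a : V} : a ∈ pts G v₀ ↔ G.Adj v₀ a := by simp [pts]

theorem mem_bvs {m : V} : m ∈ bvs G v₀ ↔ m ≠ v₀ ∧ ¬ G.Adj v₀ m := by simp [bvs]

theorem mem_blk {m a : V} : a ∈ blk G v₀ m ↔ G.Adj v₀ a ∧ G.Adj m a := by simp [blk]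

theorem blk_subset (m : V) : blk G v₀ m ⊆ pts G v₀ := fun a ha =>
  (mem_pts v₀).2 ((mem_blk v₀).1 ha).1

theorem trichotomy (v : V) : v = v₀ ∨ v ∈ pts G v₀ ∨ v ∈ bvs G v₀ := by
  by_cases h0 : v = v₀
  · exact Or.inl h0
  · by_cases h1 : G.Adj v₀ v
    · exact Or.inr (Or.inl ((mem_pts v₀).2 h1))
    · exact Or.inr (Or.inr ((mem_bvs v₀).2 ⟨h0, h1⟩))

include hG

theorem card_pts : (pts G v₀).card = 22 := hG.deg v₀

theorem card_blk {m : V} (hm : m ∈ bvs G v₀) : (blk G v₀ m).card = 6 := by
  rw [mem_bvs] at hm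
  exact hG.mu v₀ m (Ne.symm hm.1) hm.2

theorem indep {a b : V} (ha : a ∈ pts G v₀) (hb : b ∈ pts G v₀) : ¬ G.Adj a b := fun h =>
  hG.lam v₀ a b ((mem_pts v₀).1 ha) ((mem_pts v₀).1 hb) h

theorem card_bvs : (bvs G v₀).card = 77 := by
  have h1 : (univ : Finset V) = insert v₀ (pts G v₀ ∪ bvs G v₀) := by
    ext v
    simp only [mem_univ, mem_insert, mem_union, true_iff]
    exact trichotomy v₀ v
  have h2 : v₀ ∉ pts G v₀ ∪ bvs G v₀ := by
    simp [mem_pts, mem_bvs]
  have h3 : Disjoint (pts G v₀) (bvs G v₀) := by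
    rw [Finset.disjoint_left]
    intro a ha hb
    exact ((mem_bvs v₀).1 hb).2 ((mem_pts v₀).1 ha)
  have h4 := congrArg Finset.card h1
  rw [card_univ, hG.card, card_insert_of_notMem h2, card_union_of_disjoint h3, card_pts hG] at h4
  omega

/-- each point lies in 21 blocks -/
theorem count_pt {a : V} (ha : a ∈ pts G v₀) :
    ((bvs G v₀).filter (fun m => G.Adj m a)).card = 21 := by
  have h1 : univ.filter (fun x => G.Adj a x) = insert v₀ ((bvs G v₀).filter (fun m => G.Adj m a)) := by
    ext x
    simp only [mem_filter, mem_univ, true_and, mem_insert, mem_bvs]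
    constructor
    · intro h
      by_cases hx : x = v₀
      · exact Or.inl hx
      · refine Or.inr ⟨⟨hx, fun h' => ?_⟩, h.symm⟩
        exact indep hG v₀ ha ((mem_pts v₀).2 h') h
    · rintro (rfl | ⟨_, h⟩)
      · exact ((mem_pts _).1 ha).symm
      · exact h.symm
  have h2 : v₀ ∉ (bvs G v₀).filter (fun m => G.Adj m a) := by
    simp [mem_bvs]
  have h3 := congrArg Finset.card h1
  rw [hG.deg a, card_insert_of_notMem h2] at h3
  omega

/-- two points lie in 5 common blocks -/
theorem count_pair {a b : V} (ha : a ∈ pts G v₀) (hb : b ∈ pts G v₀) (hab : a ≠ b) :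
    ((bvs G v₀).filter (fun m => G.Adj m a ∧ G.Adj m b)).card = 5 := by
  have h1 : univ.filter (fun x => G.Adj a x ∧ G.Adj b x) =
      insert v₀ ((bvs G v₀).filter (fun m => G.Adj m a ∧ G.Adj m b)) := by
    ext x
    simp only [mem_filter, mem_univ, true_and, mem_insert, mem_bvs]
    constructor
    · intro h
      by_cases hx : x = v₀
      · exact Or.inl hx
      · refine Or.inr ⟨⟨hx, fun h' => ?_⟩, h.1.symm, h.2.symm⟩
        exact indep hG v₀ ha ((mem_pts v₀).2 h') h.1
    · rintro (rfl | ⟨_, h⟩)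
      · exact ⟨((mem_pts _).1 ha).symm, ((mem_pts _).1 hb).symm⟩
      · exact ⟨h.1.symm, h.2.symm⟩
  have h2 : v₀ ∉ (bvs G v₀).filter (fun m => G.Adj m a ∧ G.Adj m b) := by
    simp [mem_bvs]
  have h3 := congrArg Finset.card h1
  rw [hG.mu a b hab (indep hG v₀ ha hb), card_insert_of_notMem h2] at h3
  omega

/-- a block vertex has 16 neighbours among the block vertices -/
theorem count_adj {m : V} (hm : m ∈ bvs G v₀) :
    ((bvs G v₀).filter (fun m' => G.Adj m m')).card = 16 := by
  have h1 : univ.filter (fun x => G.Adj m x) =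
      blk G v₀ m ∪ (bvs G v₀).filter (fun m' => G.Adj m m') := by
    ext x
    simp only [mem_filter, mem_univ, true_and, mem_union, mem_bvs, mem_blk]
    constructor
    · intro h
      by_cases hx : G.Adj v₀ x
      · exact Or.inl ⟨hx, h⟩
      · refine Or.inr ⟨⟨?_, hx⟩, h⟩
        rintro rfl
        exact ((mem_bvs _).1 hm).2 h.symm
    · rintro (h | h)
      · exact h.2
      · exact h.2
  have h2 : Disjoint (blk G v₀ m) ((bvs G v₀).filter (fun m' => G.Adj m m')) := by
    rw [Finset.disjoint_left]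
    intro a ha hb
    rw [mem_filter, mem_bvs] at hb
    exact hb.1.2 ((mem_blk v₀).1 ha).1
  have h3 := congrArg Finset.card h1
  rw [hG.deg m, card_union_of_disjoint h2, card_blk hG v₀ hm] at h3
  omega

/-- adjacent block vertices have disjoint blocks -/
theorem blk_inter_of_adj {m m' : V} (h : G.Adj m m') : blk G v₀ m ∩ blk G v₀ m' = ∅ := by
  rw [Finset.eq_empty_iff_forall_notMem]
  intro a ha
  rw [mem_inter, mem_blk, mem_blk] at ha
  exact hG.lam m m' a h ha.1.2 ha.2.2

end fix

end Cfsg.Agent.Lib.Helper6.SRG100
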