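import Cfsg.Agent.Lib.Helper6.SRG100a

/-!
# srg(100, 22, 0, 6): two blocks meet in 0 or 2 points
-/

set_option autoImplicit false
set_option linter.unusedSectionVars false
set_option linter.unusedVariables false

namespace Cfsg.Agent.Lib.Helper6.SRG100

open Finset

variable {V : Type*} [Fintype V] [DecidableEq V] {G : SimpleGraph V} [DecidableRel G.Adj]

variable (hG : SRGf G) (v₀ : V)

theorem inter_blk_eq (m m' : V) :
    blk G v₀ m ∩ blk G v₀ m' = (blk G v₀ m).filter (fun a => G.Adj m' a) := by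
  ext a
  simp only [mem_inter, mem_blk, mem_filter]
  tauto

theorem offDiag_inter_blk_eq (m m' : V) :
    (blk G v₀ m ∩ blk G v₀ m').offDiag =
      (blk G v₀ m).offDiag.filter (fun p => G.Adj m' p.1 ∧ G.Adj m' p.2) := by
  ext ⟨a, b⟩
  simp only [mem_offDiag, mem_inter, mem_blk, mem_filter]
  tauto

include hG

/-- first moment -/
theorem sum_inter {m : V} (hm : m ∈ bvs G v₀) :
    ∑ m' ∈ (bvs G v₀).erase m, (blk G v₀ m ∩ blk G v₀ m').card = 120 := by
  have h1 : ∑ m' ∈ (bvs G v₀).erase m, (blk G v₀ m ∩ blk G v₀ m').card =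
      ∑ m' ∈ (bvs G v₀).erase m, ((blk G v₀ m).bipartiteAbove (fun m' a => G.Adj m' a) m').card := by
    refine Finset.sum_congr rfl fun m' _ => ?_
    rw [inter_blk_eq]
    rfl
  rw [h1, Finset.sum_card_bipartiteAbove_eq_sum_card_bipartiteBelow]
  have h2 : ∀ a ∈ blk G v₀ m,
      (((bvs G v₀).erase m).bipartiteBelow (fun m' a => G.Adj m' a) a).card = 20 := by
    intro a ha
    have h3 : ((bvs G v₀).erase m).bipartiteBelow (fun m' a => G.Adj m' a) a =
        ((bvs G v₀).filter (fun m' => G.Adj m' a)).erase m := by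
      ext x
      simp only [Finset.mem_bipartiteBelow, mem_erase, mem_filter]
      tauto
    rw [h3, card_erase_of_mem, count_pt hG v₀ (blk_subset v₀ m ha)]
    rw [mem_filter]
    exact ⟨hm, ((mem_blk v₀).1 ha).2⟩
  rw [Finset.sum_congr rfl h2, sum_const, card_blk hG v₀ hm]
  rfl

/-- second moment -/
theorem sum_offDiag_inter {m : V} (hm : m ∈ bvs G v₀) :
    ∑ m' ∈ (bvs G v₀).erase m, (blk G v₀ m ∩ blk G v₀ m').offDiag.card = 120 := by
  have h1 : ∑ m' ∈ (bvs G v₀).erase m, (blk G v₀ m ∩ blk G v₀ m').offDiag.card =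
      ∑ m' ∈ (bvs G v₀).erase m, ((blk G v₀ m).offDiag.bipartiteAbove
        (fun (m' : V) (p : V × V) => G.Adj m' p.1 ∧ G.Adj m' p.2) m').card := by
    refine Finset.sum_congr rfl fun m' _ => ?_
    rw [offDiag_inter_blk_eq]
    rfl
  rw [h1, Finset.sum_card_bipartiteAbove_eq_sum_card_bipartiteBelow]
  have h2 : ∀ p ∈ (blk G v₀ m).offDiag,
      (((bvs G v₀).erase m).bipartiteBelow
        (fun (m' : V) (p : V × V) => G.Adj m' p.1 ∧ G.Adj m' p.2) p).card = 4 := by
    rintro ⟨a, b⟩ hp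
    rw [mem_offDiag] at hp
    obtain ⟨ha, hb, hab⟩ := hp
    have h3 : ((bvs G v₀).erase m).bipartiteBelow
        (fun (m' : V) (p : V × V) => G.Adj m' p.1 ∧ G.Adj m' p.2) (a, b) =
        ((bvs G v₀).filter (fun m' => G.Adj m' a ∧ G.Adj m' b)).erase m := by
      ext x
      simp only [Finset.mem_bipartiteBelow, mem_erase, mem_filter]
      tauto
    rw [h3, card_erase_of_mem,
      count_pair hG v₀ (blk_subset v₀ m ha) (blk_subset v₀ m hb) hab]
    rw [mem_filter]
    exact ⟨hm, ((mem_blk v₀).1 ha).2, ((mem_blk v₀).1 hb).2⟩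
  rw [Finset.sum_congr rfl h2, sum_const, offDiag_card, card_blk hG v₀ hm]
  rfl

/-- the variance computation -/
theorem sum_sq {m : V} (hm : m ∈ bvs G v₀) :
    ∑ m' ∈ (bvs G v₀).erase m, (((blk G v₀ m ∩ blk G v₀ m').card : ℤ) - 2) ^ 2 = 64 := by
  have h1 : ∀ m' ∈ (bvs G v₀).erase m, (((blk G v₀ m ∩ blk G v₀ m').card : ℤ) - 2) ^ 2 =
      ((blk G v₀ m ∩ blk G v₀ m').offDiag.card : ℤ) - 3 * ((blk G v₀ m ∩ blk G v₀ m').card : ℤ)
        + 4 := by
    intro m' _
    rw [offDiag_card, Nat.cast_sub (Nat.le_mul_self _), Nat.cast_mul]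
    ring
  rw [Finset.sum_congr rfl h1, Finset.sum_add_distrib, Finset.sum_sub_distrib, ← Finset.mul_sum,
    ← Nat.cast_sum, ← Nat.cast_sum, sum_inter hG v₀ hm, sum_offDiag_inter hG v₀ hm, sum_const,
    card_erase_of_mem hm, card_bvs hG]
  norm_num

/-- two non-adjacent block vertices have blocks meeting in two points -/
theorem card_inter_of_not_adj {m m' : V} (hm : m ∈ bvs G v₀) (hm' : m' ∈ bvs G v₀)
    (hne : m ≠ m') (hna : ¬ G.Adj m m') : (blk G v₀ m ∩ blk G v₀ m').card = 2 := by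
  have h1 := sum_sq hG v₀ hm
  rw [← Finset.sum_filter_add_sum_filter_not _ (fun m' => G.Adj m m')] at h1
  have h2 : ∑ x ∈ ((bvs G v₀).erase m).filter (fun m' => G.Adj m m'),
      (((blk G v₀ m ∩ blk G v₀ x).card : ℤ) - 2) ^ 2 = 64 := by
    have h3 : ∀ x ∈ ((bvs G v₀).erase m).filter (fun m' => G.Adj m m'),
        (((blk G v₀ m ∩ blk G v₀ x).card : ℤ) - 2) ^ 2 = 4 := by
      intro x hx
      rw [mem_filter] at hx
      rw [blk_inter_of_adj hG v₀ hx.2]
      norm_num
    have h4 : ((bvs G v₀).erase m).filter (fun m' => G.Adj m m') =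
        (bvs G v₀).filter (fun m' => G.Adj m m') := by
      ext x
      simp only [mem_filter, mem_erase]
      constructor
      · rintro ⟨⟨_, h⟩, h'⟩
        exact ⟨h, h'⟩
      · rintro ⟨h, h'⟩
        exact ⟨⟨fun e => G.loopless.irrefl m (e ▸ h'), h⟩, h'⟩
    rw [Finset.sum_congr rfl h3, sum_const, h4, count_adj hG v₀ hm]
    norm_num
  rw [h2] at h1
  have h5 : ∑ x ∈ ((bvs G v₀).erase m).filter (fun m' => ¬ G.Adj m m'),
      (((blk G v₀ m ∩ blk G v₀ x).card : ℤ) - 2) ^ 2 = 0 := by linarith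
  rw [Finset.sum_eq_zero_iff_of_nonneg (fun _ _ => sq_nonneg _)] at h5
  have h6 := h5 m' (by
    rw [mem_filter, mem_erase]
    exact ⟨⟨Ne.symm hne, hm'⟩, hna⟩)
  have h7 : ((blk G v₀ m ∩ blk G v₀ m').card : ℤ) - 2 = 0 := by
    exact pow_eq_zero_iff (two_ne_zero) |>.1 h6
  omega

/-- the block determines the vertex -/
theorem blk_injOn {m m' : V} (hm : m ∈ bvs G v₀) (hm' : m' ∈ bvs G v₀)
    (h : 3 ≤ (blk G v₀ m ∩ blk G v₀ m').card) : m = m' := by
  by_contra hne
  by_cases ha : G.Adj m m'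
  · rw [blk_inter_of_adj hG v₀ ha] at h
    simp at h
  · rw [card_inter_of_not_adj hG v₀ hm hm' hne ha] at h
    omega

/-- adjacency of block vertices in terms of the blocks -/
theorem adj_iff_disjoint {m m' : V} (hm : m ∈ bvs G v₀) (hm' : m' ∈ bvs G v₀) (hne : m ≠ m') :
    G.Adj m m' ↔ Disjoint (blk G v₀ m) (blk G v₀ m') := by
  constructor
  · intro h
    rw [Finset.disjoint_iff_inter_eq_empty]
    exact blk_inter_of_adj hG v₀ h
  · intro h
    by_contra ha
    have h1 := card_inter_of_not_adj hG v₀ hm hm' hne ha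
    rw [Finset.disjoint_iff_inter_eq_empty] at h
    rw [h] at h1
    simp at h1

end Cfsg.Agent.Lib.Helper6.SRG100
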