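import Cfsg.Agent.Lib.Helper6.SRG100b
import Cfsg.Agent.Lib.Helper6.HSGraph
import Cfsg.Agent.S0410

/-!
# srg(100, 22, 0, 6): the Steiner system of a vertex and the uniqueness of the graph
-/

set_option autoImplicit false
set_option linter.unusedSectionVars false
set_option linter.unusedVariables false

namespace Cfsg.Agent.Lib.Helper6.SRG100

open Finset Cfsg.Agent.Lib.Helper6.HSGraph

variable {V : Type*} [Fintype V] [DecidableEq V] {G : SimpleGraph V} [DecidableRel G.Adj]

variable (hG : SRGf G) (v₀ : V)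

variable (G) in
/-- the block of a vertex, as a set of points -/
def blk' (m : V) : Finset ↥(pts G v₀) := (blk G v₀ m).subtype (· ∈ pts G v₀)

variable (G) in
/-- the family of blocks -/
def blocks : Set (Finset ↥(pts G v₀)) := {b | ∃ m ∈ bvs G v₀, b = blk' G v₀ m}

theorem mem_blk' {m : V} {a : ↥(pts G v₀)} : a ∈ blk' G v₀ m ↔ (a : V) ∈ blk G v₀ m := by
  simp [blk']

theorem map_blk' (m : V) :
    (blk' G v₀ m).map (Function.Embedding.subtype _) = blk G v₀ m := by
  ext a
  simp only [mem_map, mem_blk', Function.Embedding.coe_subtype, Subtype.exists, exists_and_right,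
    exists_eq_right]
  constructor
  · rintro ⟨_, h⟩
    exact h
  · intro h
    exact ⟨blk_subset v₀ m h, h⟩

theorem card_blk'_eq (m : V) : (blk' G v₀ m).card = (blk G v₀ m).card := by
  rw [← map_blk' v₀ m, card_map]

theorem map_subset_inter {s : Finset ↥(pts G v₀)} {m m' : V} (h : s ⊆ blk' G v₀ m)
    (h' : s ⊆ blk' G v₀ m') :
    s.map (Function.Embedding.subtype _) ⊆ blk G v₀ m ∩ blk G v₀ m' := by
  intro a ha
  rw [mem_map] at ha
  obtain ⟨x, hx, rfl⟩ := ha
  rw [mem_inter]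
  exact ⟨(mem_blk' v₀).1 (h hx), (mem_blk' v₀).1 (h' hx)⟩

theorem trichotomy' (v : V) : v₀ = v ∨ v ∈ pts G v₀ ∨ v ∈ bvs G v₀ := by
  rcases trichotomy (G := G) v₀ v with h | h | h
  · exact Or.inl h.symm
  · exact Or.inr (Or.inl h)
  · exact Or.inr (Or.inr h)

include hG

theorem card_points : Fintype.card ↥(pts G v₀) = 22 := by
  rw [Fintype.card_coe, card_pts hG]

/-- two block vertices whose blocks share three points are equal -/
theorem eq_of_subset {s : Finset ↥(pts G v₀)} (hs : s.card = 3) {m m' : V}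
    (hm : m ∈ bvs G v₀) (hm' : m' ∈ bvs G v₀) (h : s ⊆ blk' G v₀ m) (h' : s ⊆ blk' G v₀ m') :
    m = m' := by
  apply blk_injOn hG v₀ hm hm'
  have := card_le_card (map_subset_inter v₀ h h')
  rw [card_map, hs] at this
  exact this

/-- every triple of points lies in a block -/
theorem exists_block (s : Finset ↥(pts G v₀)) (hs : s.card = 3) :
    ∃ m ∈ bvs G v₀, s ⊆ blk' G v₀ m := by
  classical
  let P : Finset (Σ _ : V, Finset ↥(pts G v₀)) :=
    (bvs G v₀).sigma (fun m => powersetCard 3 (blk' G v₀ m))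
  let T : Finset (Finset ↥(pts G v₀)) := powersetCard 3 univ
  have hP : P.card = 1540 := by
    rw [card_sigma]
    have : ∀ m ∈ bvs G v₀, (powersetCard 3 (blk' G v₀ m)).card = 20 := by
      intro m hm
      rw [card_powersetCard, card_blk'_eq, card_blk hG v₀ hm]
      rfl
    rw [Finset.sum_congr rfl this, sum_const, card_bvs hG]
    rfl
  have hT : T.card = 1540 := by
    rw [card_powersetCard, card_univ, card_points hG]
    rfl
  have key := Finset.surj_on_of_inj_on_of_card_le (s := P) (t := T) (fun x _ => x.2)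
    (by
      intro x hx
      rw [mem_sigma] at hx
      rw [mem_powersetCard] at hx ⊢
      exact ⟨subset_univ _, hx.2.2⟩)
    (by
      rintro ⟨m, t⟩ ⟨m', t'⟩ hx hx' (e : t = t')
      subst e
      rw [mem_sigma, mem_powersetCard] at hx hx'
      have := eq_of_subset hG v₀ hx.2.2 hx.1 hx'.1 hx.2.1 hx'.2.1
      subst this
      rfl)
    (by rw [hP, hT])
  obtain ⟨x, hx, e⟩ := key s (by rw [mem_powersetCard]; exact ⟨subset_univ _, hs⟩)
  rw [mem_sigma, mem_powersetCard] at hx
  exact ⟨x.1, hx.1, e ▸ hx.2.1⟩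

/-- the blocks form a Steiner system S(3, 6, 22) -/
theorem steiner : IsSteinerSystem 3 6 (blocks G v₀) := by
  constructor
  · rintro b ⟨m, hm, rfl⟩
    rw [card_blk'_eq, card_blk hG v₀ hm]
  · intro s hs
    obtain ⟨m, hm, hsm⟩ := exists_block hG v₀ s hs
    refine ⟨blk' G v₀ m, ⟨⟨m, hm, rfl⟩, hsm⟩, ?_⟩
    rintro b ⟨⟨m', hm', rfl⟩, hsm'⟩
    rw [eq_of_subset hG v₀ hs hm hm' hsm hsm']

/-- the vertex map to the point-block graph -/
noncomputable def toPB (v : V) : Option (↥(pts G v₀) ⊕ ↥(blocks G v₀)) :=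
  if h0 : v = v₀ then none
  else if h : G.Adj v₀ v then some (Sum.inl ⟨v, (mem_pts v₀).2 h⟩)
  else some (Sum.inr ⟨blk' G v₀ v, ⟨v, (mem_bvs v₀).2 ⟨h0, h⟩, rfl⟩⟩)

omit hG in
theorem toPB_base : toPB v₀ v₀ = (none : Option (↥(pts G v₀) ⊕ ↥(blocks G v₀))) := by
  rw [toPB, dif_pos rfl]

omit hG in
theorem toPB_pt {a : V} (ha : a ∈ pts G v₀) :
    toPB v₀ a = (some (Sum.inl ⟨a, ha⟩) : Option (↥(pts G v₀) ⊕ ↥(blocks G v₀))) := by
  have h0 : a ≠ v₀ := by
    rintro rfl
    exact G.loopless.irrefl _ ((mem_pts _).1 ha)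
  rw [toPB, dif_neg h0, dif_pos ((mem_pts v₀).1 ha)]

omit hG in
theorem toPB_bv {m : V} (hm : m ∈ bvs G v₀) :
    toPB v₀ m = (some (Sum.inr ⟨blk' G v₀ m, ⟨m, hm, rfl⟩⟩) :
      Option (↥(pts G v₀) ⊕ ↥(blocks G v₀))) := by
  rw [mem_bvs] at hm
  rw [toPB, dif_neg hm.1, dif_neg hm.2]

theorem toPB_injective : Function.Injective (toPB (G := G) v₀) := by
  intro x y hxy
  rcases trichotomy' (G := G) v₀ x with rfl | hx | hx <;>
    rcases trichotomy' (G := G) v₀ y with rfl | hy | hy
  · rfl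
  · rw [toPB_base, toPB_pt v₀ hy] at hxy
    exact absurd hxy (by simp)
  · rw [toPB_base, toPB_bv v₀ hy] at hxy
    exact absurd hxy (by simp)
  · rw [toPB_base, toPB_pt v₀ hx] at hxy
    exact absurd hxy (by simp)
  · rw [toPB_pt v₀ hx, toPB_pt v₀ hy] at hxy
    exact congrArg Subtype.val (Sum.inl_injective (Option.some_injective _ hxy))
  · rw [toPB_pt v₀ hx, toPB_bv v₀ hy] at hxy
    exact absurd hxy (by simp)
  · rw [toPB_base, toPB_bv v₀ hx] at hxy
    exact absurd hxy (by simp)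
  · rw [toPB_pt v₀ hy, toPB_bv v₀ hx] at hxy
    exact absurd hxy (by simp)
  · rw [toPB_bv v₀ hx, toPB_bv v₀ hy] at hxy
    have h1 : blk' G v₀ x = blk' G v₀ y :=
      congrArg Subtype.val (Sum.inr_injective (Option.some_injective _ hxy))
    have h2 : blk G v₀ x = blk G v₀ y := by
      rw [← map_blk' v₀ x, ← map_blk' v₀ y, h1]
    apply blk_injOn hG v₀ hx hy
    rw [h2, inter_self, card_blk hG v₀ hy]
    norm_num

omit hG in
theorem toPB_surjective : Function.Surjective (toPB (G := G) v₀) := by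
  rintro (_ | ⟨a, ha⟩ | ⟨b, m, hm, rfl⟩)
  · exact ⟨v₀, toPB_base v₀⟩
  · exact ⟨a, toPB_pt v₀ ha⟩
  · exact ⟨m, toPB_bv v₀ hm⟩

/-- the graph is the point-block graph of the Steiner system of a vertex -/
noncomputable def isoPB : G ≃g pointBlockGraph (blocks G v₀) where
  toEquiv := Equiv.ofBijective (toPB v₀) ⟨toPB_injective hG v₀, toPB_surjective v₀⟩
  map_rel_iff' := by
    intro x y
    show (pointBlockGraph (blocks G v₀)).Adj (toPB v₀ x) (toPB v₀ y) ↔ G.Adj x y
    rcases trichotomy' (G := G) v₀ x with rfl | hx | hx <;>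
      rcases trichotomy' (G := G) v₀ y with rfl | hy | hy
    · simp
    · rw [toPB_base, toPB_pt v₀ hy]
      exact iff_of_true (adj_none_pt _ _) ((mem_pts _).1 hy)
    · rw [toPB_base, toPB_bv v₀ hy]
      exact iff_of_false (not_adj_none_blk _ _) ((mem_bvs _).1 hy).2
    · rw [toPB_base, toPB_pt v₀ hx]
      exact iff_of_true (adj_none_pt _ _).symm ((mem_pts _).1 hx).symm
    · rw [toPB_pt v₀ hx, toPB_pt v₀ hy]
      exact iff_of_false (not_adj_pt_pt _ _ _) (indep hG v₀ hx hy)
    · rw [toPB_pt v₀ hx, toPB_bv v₀ hy, adj_pt_blk]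
      show (⟨x, hx⟩ : ↥(pts G v₀)) ∈ blk' G v₀ y ↔ _
      rw [mem_blk', mem_blk]
      constructor
      · exact fun h => h.2.symm
      · exact fun h => ⟨(mem_pts _).1 hx, h.symm⟩
    · rw [toPB_base, toPB_bv v₀ hx]
      exact iff_of_false (fun h => not_adj_none_blk _ _ h.symm)
        (fun h => ((mem_bvs _).1 hx).2 h.symm)
    · rw [toPB_pt v₀ hy, toPB_bv v₀ hx, SimpleGraph.adj_comm, adj_pt_blk]
      show (⟨y, hy⟩ : ↥(pts G v₀)) ∈ blk' G v₀ x ↔ _
      rw [mem_blk', mem_blk]
      constructor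
      · exact fun h => h.2
      · exact fun h => ⟨(mem_pts _).1 hy, h⟩
    · rw [toPB_bv v₀ hx, toPB_bv v₀ hy, adj_blk_blk]
      show _ ∧ Disjoint (blk' G v₀ x) (blk' G v₀ y) ↔ _
      by_cases hne : x = y
      · subst hne
        simp
      · rw [adj_iff_disjoint hG v₀ hx hy hne, ← map_blk' v₀ x, ← map_blk' v₀ y,
          Finset.disjoint_map]
        constructor
        · exact fun h => h.2
        · intro h
          refine ⟨fun e => hne ?_, h⟩
          have : toPB (G := G) v₀ x = toPB v₀ y := by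
            rw [toPB_bv v₀ hx, toPB_bv v₀ hy, e]
          exact toPB_injective hG v₀ this

end Cfsg.Agent.Lib.Helper6.SRG100

namespace Cfsg.Agent.Lib.Helper6.SRG100

/-- **S0430**: uniqueness of the strongly regular graph with parameters (100, 22, 0, 6) -/
theorem srg_100_unique {V W : Type*} [Fintype V] [Fintype W] {G : SimpleGraph V}
    {H : SimpleGraph W} [DecidableRel G.Adj] [DecidableRel H.Adj]
    (hG : G.IsSRGWith 100 22 0 6) (hH : H.IsSRGWith 100 22 0 6) : Nonempty (G ≃g H) := by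
  classical
  have hG' := srgf_of_isSRGWith G hG
  have hH' := srgf_of_isSRGWith H hH
  obtain ⟨v₀⟩ : Nonempty V := Fintype.card_pos_iff.1 (by rw [hG.card]; norm_num)
  obtain ⟨w₀⟩ : Nonempty W := Fintype.card_pos_iff.1 (by rw [hH.card]; norm_num)
  obtain ⟨e, he⟩ := Cfsg.Agent.S0410.result (card_points hG' v₀) (card_points hH' w₀)
    (steiner hG' v₀) (steiner hH' w₀)
  have h : ∀ a, a ∈ blocks G v₀ ↔ a.image e ∈ blocks H w₀ := by
    intro a
    constructor
    · intro ha
      rw [← he]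
      exact ⟨a, ha, rfl⟩
    · intro ha
      rw [← he] at ha
      obtain ⟨b, hb, hba⟩ := ha
      have : b = a := Finset.image_injective e.injective hba
      exact this ▸ hb
  exact ⟨(isoPB hG' v₀).trans ((HSGraph.isoOfEquiv e h).trans (isoPB hH' w₀).symm)⟩

end Cfsg.Agent.Lib.Helper6.SRG100
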