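import Cfsg.Agent.Lib.Helper6.SSChain

/-!
# Tools for applying a Schreier–Sims certificate: orbits of the groups of the chain and
certificates for normal closures
-/

set_option autoImplicit false

namespace Cfsg.Agent.Lib.Helper6.SS

variable {n : ℕ}

theorem checkLevels_tail {sgs : List (List ℕ)} {pre : List ℕ} {lv : Lvl} {rest : List Lvl}
    (h : checkLevels n sgs pre (lv :: rest) = true) :
    checkLevels n sgs (pre ++ [lv.b]) rest = true := by
  rw [checkLevels, Bool.and_eq_true] at h
  exact h.2

theorem Hgrp_nil (sgs : List (List ℕ)) :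
    Hgrp n sgs [] = Subgroup.closure {g | ∃ s ∈ sgs, g = toPerm n s} := by
  rw [Hgrp]
  congr 1
  ext g
  constructor
  · rintro ⟨s, hs, _, rfl⟩; exact ⟨s, hs, rfl⟩
  · rintro ⟨s, hs, rfl⟩; exact ⟨s, hs, rfl, rfl⟩

theorem inT_valid {levels : List Lvl} {x : List ℕ} (h : inT n levels x = true)
    (hv : ∀ lv ∈ levels, ∀ u ∈ lv.U, Valid n u) : Valid n x := by
  rw [inT] at h
  cases hf : factor levels (fun c => x.getD c 0) with
  | none => rw [hf] at h; exact absurd h (by simp)
  | some us =>
    rw [hf] at h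
    have hx : prodL n us = x := by simpa using h
    rw [← hx]
    exact valid_prodL (mem_Tset_of_forall₂ levels us (factor_sound _ _ _ hf) hv).1

/-- the elements of the transversal of the first level belong to the group -/
theorem toPerm_mem_of_mem_U {sgs : List (List ℕ)} {pre : List ℕ} {lv : Lvl} {rest : List Lvl}
    (hset : (Hgrp n sgs pre : Set (Equiv.Perm (Fin n))) = Tset n (lv :: rest))
    (hrest : (Hgrp n sgs (pre ++ [lv.b]) : Set (Equiv.Perm (Fin n))) = Tset n rest)
    {u : List ℕ} (hu : u ∈ lv.U) : toPerm n u ∈ Hgrp n sgs pre := by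
  have h1 : (1 : Equiv.Perm (Fin n)) ∈ Tset n rest := by
    rw [← hrest]; exact (Hgrp n sgs (pre ++ [lv.b])).one_mem
  have : toPerm n u ∈ Tset n (lv :: rest) := ⟨u, hu, 1, h1, (mul_one _).symm⟩
  rw [← hset] at this
  exact this

/-- the test of a tree of points: each point after the first is the image of an earlier one under
one of the generators -/
def ptreeOK (S : List (List ℕ)) (pts : List ℕ) (tree : List (ℕ × ℕ)) : Bool :=
  (List.range (pts.length - 1)).all fun i =>
    decide ((tree.getD i (0, 0)).1 ≤ i) && decide ((tree.getD i (0, 0)).2 < S.length) &&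
      ((S.getD (tree.getD i (0, 0)).2 []).getD (pts.getD (tree.getD i (0, 0)).1 0) 0 ==
        pts.getD (i + 1) 0)

theorem ptree_mem {S : List (List ℕ)} {pts : List ℕ} {tree : List (ℕ × ℕ)}
    (H : Subgroup (Equiv.Perm (Fin n))) (hS : ∀ s ∈ S, Valid n s ∧ toPerm n s ∈ H)
    (hlt : ∀ p ∈ pts, p < n) (ht : ptreeOK S pts tree = true) (h0 : 0 < pts.length) :
    ∀ k (hk : k < pts.length), ∃ h ∈ H,
      ((h ⟨pts[0], hlt _ (List.getElem_mem h0)⟩ : Fin n) : ℕ) = pts[k] := by
  intro k
  induction k using Nat.strong_induction_on with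
  | _ k ih =>
    intro hk
    cases k with
    | zero => exact ⟨1, H.one_mem, rfl⟩
    | succ i =>
      rw [ptreeOK, List.all_eq_true] at ht
      have hi := ht i (List.mem_range.2 (by omega))
      rw [Bool.and_eq_true, Bool.and_eq_true, decide_eq_true_eq, decide_eq_true_eq,
        beq_iff_eq] at hi
      obtain ⟨⟨h1, h2⟩, h3⟩ := hi
      have hp : (tree.getD i (0, 0)).1 < pts.length := by omega
      obtain ⟨h, hh, hhp⟩ := ih _ (by omega : (tree.getD i (0, 0)).1 < i + 1) hp
      rw [List.getD_eq_getElem _ _ h2, List.getD_eq_getElem _ _ hp,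
        List.getD_eq_getElem _ _ hk] at h3
      obtain ⟨v, m⟩ := hS _ (List.getElem_mem h2)
      refine ⟨toPerm n _ * h, H.mul_mem m hh, ?_⟩
      rw [Equiv.Perm.mul_apply, toPerm_apply v, hhp, h3]

/-! ### certificates for normal closures -/

section cert

variable (J : Subgroup (Equiv.Perm (Fin n))) (e : ↥J)

/-- membership in the normal closure of `e` in `J`, for elements of the ambient group -/
def InNC (y : Equiv.Perm (Fin n)) : Prop :=
  ∃ h : y ∈ J, (⟨y, h⟩ : ↥J) ∈ Subgroup.normalClosure ({e} : Set ↥J)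

theorem InNC.self : InNC J e e.1 := ⟨e.2, Subgroup.subset_normalClosure rfl⟩

theorem InNC.one : InNC J e 1 := ⟨J.one_mem, Subgroup.one_mem _⟩

theorem InNC.mul {y z : Equiv.Perm (Fin n)} (hy : InNC J e y) (hz : InNC J e z) :
    InNC J e (y * z) := by
  obtain ⟨h1, h1'⟩ := hy
  obtain ⟨h2, h2'⟩ := hz
  exact ⟨J.mul_mem h1 h2, Subgroup.mul_mem _ h1' h2'⟩

theorem InNC.pow {y : Equiv.Perm (Fin n)} (hy : InNC J e y) (k : ℕ) : InNC J e (y ^ k) := by
  induction k with
  | zero => rw [pow_zero]; exact InNC.one J e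
  | succ k ih => rw [pow_succ]; exact ih.mul J e hy

theorem InNC.conj {y : Equiv.Perm (Fin n)} (hy : InNC J e y) {x : Equiv.Perm (Fin n)}
    (hx : x ∈ J) : InNC J e (x * y * x⁻¹) := by
  obtain ⟨h1, h1'⟩ := hy
  refine ⟨J.mul_mem (J.mul_mem hx h1) (J.inv_mem hx), ?_⟩
  have := (Subgroup.normalClosure_normal (s := ({e} : Set ↥J))).conj_mem _ h1' ⟨x, hx⟩
  exact this

/-- one block of a certificate: conjugator, its inverse, exponent -/
def certBlocks (r : List ℕ) (cert : List (List ℕ × List ℕ × ℕ)) : List (List ℕ) :=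
  cert.flatMap fun c => [c.1] ++ List.replicate c.2.2 r ++ [c.2.1]

/-- the test of a certificate -/
def certOK (n : ℕ) (levels : List Lvl) (r : List ℕ) (cert : List (List ℕ × List ℕ × ℕ))
    (target : List ℕ) : Bool :=
  cert.all (fun c => inT n levels c.1 && valid n c.2.1 && (cmp c.1 c.2.1 == idL n)) &&
    (prodL n (certBlocks r cert) == target)

theorem prodL_append {us vs : List (List ℕ)} (hu : ∀ u ∈ us, Valid n u)
    (hv : ∀ v ∈ vs, Valid n v) :
    toPerm n (prodL n (us ++ vs)) = toPerm n (prodL n us) * toPerm n (prodL n vs) := by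
  have huv : ∀ w ∈ us ++ vs, Valid n w := by
    intro w hw
    rcases List.mem_append.1 hw with h | h
    · exact hu w h
    · exact hv w h
  rw [toPerm_prodL huv, toPerm_prodL hu, toPerm_prodL hv, List.map_append, List.prod_append]

theorem toPerm_replicate {r : List ℕ} (hr : Valid n r) (k : ℕ) :
    toPerm n (prodL n (List.replicate k r)) = toPerm n r ^ k := by
  rw [toPerm_prodL (fun u hu => by rw [List.eq_of_mem_replicate hu]; exact hr),
    List.map_replicate, List.prod_replicate]

theorem cert_sound {levels : List Lvl} (hJ : ∀ x, inT n levels x = true → Valid n x ∧ toPerm n x ∈ J)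
    {r : List ℕ} (hr : Valid n r) (hre : InNC J e (toPerm n r))
    (cert : List (List ℕ × List ℕ × ℕ))
    (hc : cert.all (fun c => inT n levels c.1 && valid n c.2.1 && (cmp c.1 c.2.1 == idL n))
      = true) :
    (∀ u ∈ certBlocks r cert, Valid n u) ∧ InNC J e (toPerm n (prodL n (certBlocks r cert))) := by
  induction cert with
  | nil =>
    refine ⟨by simp [certBlocks], ?_⟩
    show InNC J e (toPerm n (prodL n []))
    rw [prodL_nil, toPerm_idL]; exact InNC.one J e
  | cons c cert ih =>
    rw [List.all_cons, Bool.and_eq_true] at hc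
    obtain ⟨hc1, hc2⟩ := hc
    rw [Bool.and_eq_true, Bool.and_eq_true, beq_iff_eq] at hc1
    obtain ⟨⟨h1, h2⟩, h3⟩ := hc1
    obtain ⟨v1, m1⟩ := hJ _ h1
    have v2 : Valid n c.2.1 := valid_iff.1 h2
    obtain ⟨iv, im⟩ := ih hc2
    have hblock : ∀ u ∈ [c.1] ++ List.replicate c.2.2 r ++ [c.2.1], Valid n u := by
      intro u hu
      simp only [List.mem_append, List.mem_singleton, List.mem_replicate] at hu
      rcases hu with (rfl | ⟨_, rfl⟩) | rfl
      · exact v1
      · exact hr
      · exact v2
    have hsplit : certBlocks r (c :: cert) =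
        ([c.1] ++ List.replicate c.2.2 r ++ [c.2.1]) ++ certBlocks r cert := by
      rw [certBlocks, List.flatMap_cons]; rfl
    refine ⟨?_, ?_⟩
    · intro u hu
      rw [hsplit, List.mem_append] at hu
      rcases hu with hu | hu
      · exact hblock u hu
      · exact iv u hu
    · rw [hsplit, prodL_append hblock iv]
      refine InNC.mul J e ?_ im
      have hinv : toPerm n c.2.1 = (toPerm n c.1)⁻¹ := by
        have := toPerm_cmp v1 v2
        rw [h3, toPerm_idL] at this
        exact eq_inv_of_mul_eq_one_right this.symm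
      have h4 : ∀ u ∈ [c.1] ++ List.replicate c.2.2 r, Valid n u := fun u hu =>
        hblock u (List.mem_append_left _ hu)
      have h5 : ∀ u ∈ [c.2.1], Valid n u := fun u hu =>
        hblock u (List.mem_append_right _ hu)
      have h6 : ∀ u ∈ [c.1], Valid n u := fun u hu =>
        h4 u (List.mem_append_left _ hu)
      have h7 : ∀ u ∈ List.replicate c.2.2 r, Valid n u := fun u hu =>
        h4 u (List.mem_append_right _ hu)
      rw [prodL_append h4 h5, prodL_append h6 h7, toPerm_replicate hr]
      have e1 : toPerm n (prodL n [c.1]) = toPerm n c.1 := by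
        rw [toPerm_prodL h6]; simp
      have e2 : toPerm n (prodL n [c.2.1]) = toPerm n c.2.1 := by
        rw [toPerm_prodL h5]; simp
      rw [e1, e2, hinv]
      exact (hre.pow J e _).conj J e m1

end cert

end Cfsg.Agent.Lib.Helper6.SS
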