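import Cfsg.Agent.Lib.Helper6.SSPerm

/-!
# A verified Schreier–Sims certificate for permutation groups on `Fin n`

A certificate consists of strong generators `sgs` (lists), and for each base point a level: the base
point, an explicit transversal `U` (lists, the first being the identity) and a Schreier tree showing
that the transversal lies in the group generated by the strong generators of that level.  The
Boolean `checkLevels` verifies the Schreier conditions; `main` then gives the order of the group and
the normal form of its elements.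
-/

set_option autoImplicit false

namespace Cfsg.Agent.Lib.Helper6.SS

/-- one level of a stabiliser chain -/
structure Lvl where
  b : ℕ
  U : List (List ℕ)
  tree : List (ℕ × ℕ)

variable {n : ℕ}

/-- the set of products of transversal elements -/
def Tset (n : ℕ) : List Lvl → Set (Equiv.Perm (Fin n))
  | [] => {1}
  | lv :: rest => {g | ∃ u ∈ lv.U, ∃ t ∈ Tset n rest, g = toPerm n u * t}

def findU (U : List (List ℕ)) (b t : ℕ) : Option (List ℕ) := U.find? (fun u => u.getD b 0 == t)

/-- the factorisation of a permutation (given by its function) along the chain -/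
def factor : List Lvl → (ℕ → ℕ) → Option (List (List ℕ))
  | [], _ => some []
  | lv :: rest, f =>
    match findU lv.U lv.b (f lv.b) with
    | none => none
    | some u => (factor rest (fun c => u.idxOf (f c))).map (fun us => u :: us)

/-- the membership test -/
def inT (n : ℕ) (levels : List Lvl) (x : List ℕ) : Bool :=
  match factor levels (fun c => x.getD c 0) with
  | none => false
  | some us => prodL n us == x

theorem factor_sound : ∀ (levels : List Lvl) (f : ℕ → ℕ) (us : List (List ℕ)),
    factor levels f = some us → List.Forall₂ (fun lv u => u ∈ lv.U) levels us := by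
  intro levels
  induction levels with
  | nil =>
    intro f us h
    rw [factor, Option.some.injEq] at h
    subst h
    exact List.Forall₂.nil
  | cons lv rest ih =>
    intro f us h
    rw [factor] at h
    cases hu : findU lv.U lv.b (f lv.b) with
    | none => rw [hu] at h; exact absurd h (by simp)
    | some u =>
      rw [hu] at h
      simp only [Option.map_eq_some_iff] at h
      obtain ⟨vs, hvs, rfl⟩ := h
      refine List.Forall₂.cons ?_ (ih _ _ hvs)
      exact List.mem_of_find?_eq_some hu

theorem mem_Tset_of_forall₂ : ∀ (levels : List Lvl) (us : List (List ℕ)),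
    List.Forall₂ (fun lv u => u ∈ lv.U) levels us →
    (∀ lv ∈ levels, ∀ u ∈ lv.U, Valid n u) →
    (∀ u ∈ us, Valid n u) ∧ toPerm n (prodL n us) ∈ Tset n levels := by
  intro levels us h
  induction h with
  | nil =>
    intro _
    refine ⟨by simp, ?_⟩
    rw [prodL_nil, toPerm_idL]; rfl
  | @cons lv u rest us hu _ ih =>
    intro hv
    have hv' : ∀ l ∈ rest, ∀ u ∈ l.U, Valid n u := fun l hl => hv l (List.mem_cons_of_mem _ hl)
    obtain ⟨h1, h2⟩ := ih hv'
    have hvu : Valid n u := hv lv List.mem_cons_self u hu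
    refine ⟨?_, ?_⟩
    · intro w hw
      rcases List.mem_cons.1 hw with rfl | hw
      · exact hvu
      · exact h1 w hw
    · rw [prodL_cons, toPerm_cmp hvu (valid_prodL h1)]
      exact ⟨u, hu, _, h2, rfl⟩

theorem inT_sound {levels : List Lvl} {x : List ℕ} (h : inT n levels x = true)
    (hv : ∀ lv ∈ levels, ∀ u ∈ lv.U, Valid n u) : toPerm n x ∈ Tset n levels := by
  rw [inT] at h
  cases hf : factor levels (fun c => x.getD c 0) with
  | none => rw [hf] at h; exact absurd h (by simp)
  | some us =>
    rw [hf] at h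
    have hx : prodL n us = x := by simpa using h
    rw [← hx]
    exact (mem_Tset_of_forall₂ levels us (factor_sound _ _ _ hf) hv).2

/-- a list fixes all the points of a prefix of the base -/
def fixesAll (pre : List ℕ) (s : List ℕ) : Bool := pre.all (fun b => s.getD b 0 == b)

/-- the generators of a level of the chain -/
def gensAt (n : ℕ) (sgs : List (List ℕ)) (pre : List ℕ) : Set (Equiv.Perm (Fin n)) :=
  {g | ∃ s ∈ sgs, fixesAll pre s = true ∧ g = toPerm n s}

/-- the groups of the chain -/
noncomputable def Hgrp (n : ℕ) (sgs : List (List ℕ)) (pre : List ℕ) : Subgroup (Equiv.Perm (Fin n)) :=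
  Subgroup.closure (gensAt n sgs pre)

theorem fixesAll_append {pre : List ℕ} {b : ℕ} {s : List ℕ} (h : fixesAll (pre ++ [b]) s = true) :
    fixesAll pre s = true ∧ s.getD b 0 = b := by
  rw [fixesAll, List.all_append, Bool.and_eq_true] at h
  refine ⟨h.1, ?_⟩
  simpa using h.2

theorem Hgrp_mono (sgs : List (List ℕ)) (pre : List ℕ) (b : ℕ) :
    Hgrp n sgs (pre ++ [b]) ≤ Hgrp n sgs pre := by
  apply Subgroup.closure_mono
  rintro g ⟨s, hs, hf, rfl⟩
  exact ⟨s, hs, (fixesAll_append hf).1, rfl⟩

theorem Hgrp_fix (sgs : List (List ℕ)) (hs : ∀ s ∈ sgs, Valid n s) (pre : List ℕ) {b : ℕ}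
    (hb : b < n) {g : Equiv.Perm (Fin n)} (hg : g ∈ Hgrp n sgs (pre ++ [b])) :
    g ⟨b, hb⟩ = ⟨b, hb⟩ := by
  have : Hgrp n sgs (pre ++ [b]) ≤ MulAction.stabilizer (Equiv.Perm (Fin n)) (⟨b, hb⟩ : Fin n) := by
    rw [Hgrp, Subgroup.closure_le]
    rintro g ⟨s, hsm, hf, rfl⟩
    rw [SetLike.mem_coe, MulAction.mem_stabilizer_iff, Equiv.Perm.smul_def]
    apply Fin.ext
    rw [toPerm_apply (hs s hsm)]
    exact (fixesAll_append hf).2
  exact MulAction.mem_stabilizer_iff.1 (this hg)

/-- the Schreier tree test -/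
def treeOK (S : List (List ℕ)) (U : List (List ℕ)) (tree : List (ℕ × ℕ)) : Bool :=
  (List.range (U.length - 1)).all fun i =>
    decide ((tree.getD i (0, 0)).1 ≤ i) && decide ((tree.getD i (0, 0)).2 < S.length) &&
      (U.getD (i + 1) [] == cmp (S.getD (tree.getD i (0, 0)).2 []) (U.getD (tree.getD i (0, 0)).1 []))

theorem tree_mem {S U : List (List ℕ)} {tree : List (ℕ × ℕ)} (H : Subgroup (Equiv.Perm (Fin n)))
    (hS : ∀ s ∈ S, Valid n s ∧ toPerm n s ∈ H) (hhead : U.headD [] = idL n)
    (ht : treeOK S U tree = true) : ∀ u ∈ U, Valid n u ∧ toPerm n u ∈ H := by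
  have key : ∀ k, k < U.length → Valid n (U.getD k []) ∧ toPerm n (U.getD k []) ∈ H := by
    intro k
    induction k using Nat.strong_induction_on with
    | _ k ih =>
      intro hk
      cases k with
      | zero =>
        have : U.getD 0 [] = idL n := by
          cases U with
          | nil => simp at hk
          | cons u U => simpa using hhead
        rw [this, toPerm_idL]
        exact ⟨valid_idL n, H.one_mem⟩
      | succ i =>
        rw [treeOK, List.all_eq_true] at ht
        have hi := ht i (List.mem_range.2 (by omega))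
        rw [Bool.and_eq_true, Bool.and_eq_true, decide_eq_true_eq, decide_eq_true_eq,
          beq_iff_eq] at hi
        obtain ⟨⟨h1, h2⟩, h3⟩ := hi
        rw [h3]
        obtain ⟨v1, m1⟩ := ih _ (by omega : (tree.getD i (0, 0)).1 < i + 1) (by omega)
        rw [List.getD_eq_getElem _ _ h2]
        obtain ⟨v2, m2⟩ := hS _ (List.getElem_mem h2)
        exact ⟨v2.cmp v1, by rw [toPerm_cmp v2 v1]; exact H.mul_mem m2 m1⟩
  intro u hu
  obtain ⟨k, hk, rfl⟩ := List.getElem_of_mem hu
  have := key k hk
  rwa [List.getD_eq_getElem _ _ hk] at this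

/-- **one step of the chain** -/
theorem step (sgs : List (List ℕ)) (hs : ∀ s ∈ sgs, Valid n s) (pre : List ℕ) (lv : Lvl)
    (rest : List Lvl)
    (hrest : (Hgrp n sgs (pre ++ [lv.b]) : Set (Equiv.Perm (Fin n))) = Tset n rest)
    (hvalid : ∀ l ∈ rest, ∀ u ∈ l.U, Valid n u)
    (hb : lv.b < n) (hhead : lv.U.headD [] = idL n)
    (htree : treeOK (sgs.filter (fixesAll pre)) lv.U lv.tree = true)
    (hnd : (lv.U.map (fun u => u.getD lv.b 0)).Nodup)
    (hclosed : ∀ s ∈ sgs.filter (fixesAll pre), ∀ u ∈ lv.U,
      inT n (lv :: rest) (cmp s u) = true) :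
    (Hgrp n sgs pre : Set (Equiv.Perm (Fin n))) = Tset n (lv :: rest) ∧
      (∀ u ∈ lv.U, Valid n u) ∧
      Nat.card (Hgrp n sgs pre) = lv.U.length * Nat.card (Hgrp n sgs (pre ++ [lv.b])) := by
  set H := Hgrp n sgs pre with hH
  set K := Hgrp n sgs (pre ++ [lv.b]) with hK
  have hKH : K ≤ H := Hgrp_mono sgs pre lv.b
  have F1 : ∀ s ∈ sgs.filter (fixesAll pre), Valid n s ∧ toPerm n s ∈ H := by
    intro s hsm
    rw [List.mem_filter] at hsm
    exact ⟨hs s hsm.1, Subgroup.subset_closure ⟨s, hsm.1, hsm.2, rfl⟩⟩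
  have F3 := tree_mem H F1 hhead htree
  have F4 : ∀ l ∈ lv :: rest, ∀ u ∈ l.U, Valid n u := by
    intro l hl
    rcases List.mem_cons.1 hl with rfl | hl
    · exact fun u hu => (F3 u hu).1
    · exact hvalid l hl
  have hne : lv.U ≠ [] := by
    intro h
    rw [h] at hhead
    have : ([] : List ℕ) = idL n := hhead
    have hlen := congrArg List.length this
    rw [idL, List.length_range, List.length_nil] at hlen
    omega
  have hid : idL n ∈ lv.U := by
    cases hU : lv.U with
    | nil => exact absurd hU hne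
    | cons u U =>
      rw [hU] at hhead
      have : u = idL n := hhead
      rw [this]; exact List.mem_cons_self
  have hTK : ∀ t, t ∈ Tset n rest ↔ t ∈ K := by
    intro t; rw [← hrest]; rfl
  have h1T : (1 : Equiv.Perm (Fin n)) ∈ Tset n (lv :: rest) :=
    ⟨idL n, hid, 1, (hTK 1).2 K.one_mem, by rw [toPerm_idL, one_mul]⟩
  -- the set of products lies in the group
  have F5 : Tset n (lv :: rest) ⊆ H := by
    rintro g ⟨u, hu, t, ht, rfl⟩
    exact H.mul_mem (F3 u hu).2 (hKH ((hTK t).1 ht))
  -- the set of products is stable under the generators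
  have F6 : ∀ s ∈ sgs.filter (fixesAll pre), ∀ g ∈ Tset n (lv :: rest),
      toPerm n s * g ∈ Tset n (lv :: rest) := by
    rintro s hsm g ⟨u, hu, t, ht, rfl⟩
    have := inT_sound (hclosed s hsm u hu) F4
    rw [toPerm_cmp (F1 s hsm).1 (F3 u hu).1] at this
    obtain ⟨u', hu', t', ht', e⟩ := this
    refine ⟨u', hu', t' * t, (hTK _).2 (K.mul_mem ((hTK _).1 ht') ((hTK _).1 ht)), ?_⟩
    rw [← mul_assoc, e, mul_assoc]
  -- the subgroup of the elements stabilising the set of products
  have hfin : (Tset n (lv :: rest)).Finite := Set.toFinite _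
  let M : Subgroup (Equiv.Perm (Fin n)) :=
    { carrier := {g | ∀ x ∈ Tset n (lv :: rest), g * x ∈ Tset n (lv :: rest)}
      one_mem' := by intro x hx; rw [one_mul]; exact hx
      mul_mem' := by
        intro a b ha hb x hx
        rw [mul_assoc]; exact ha _ (hb _ hx)
      inv_mem' := by
        intro a ha x hx
        have hmaps : Set.MapsTo (fun y => a * y) (Tset n (lv :: rest)) (Tset n (lv :: rest)) := ha
        have hinj : Set.InjOn (fun y => a * y) (Tset n (lv :: rest)) :=
          fun y _ z _ hyz => mul_left_cancel hyz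
        have hbij := (Set.Finite.injOn_iff_bijOn_of_mapsTo hfin hmaps).1 hinj
        obtain ⟨y, hy, hyx⟩ := hbij.surjOn hx
        have : a⁻¹ * x = y := by rw [← hyx]; simp
        rw [this]; exact hy }
  have hHM : H ≤ M := by
    rw [hH, Hgrp, Subgroup.closure_le]
    rintro g ⟨s, hsm, hf, rfl⟩
    exact F6 s (List.mem_filter.2 ⟨hsm, hf⟩)
  have F7 : (H : Set (Equiv.Perm (Fin n))) ⊆ Tset n (lv :: rest) := by
    intro g hg
    have := hHM hg 1 h1T
    rwa [mul_one] at this
  have hset : (H : Set (Equiv.Perm (Fin n))) = Tset n (lv :: rest) := Set.Subset.antisymm F7 F5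
  refine ⟨hset, fun u hu => (F3 u hu).1, ?_⟩
  -- the order
  have hKfix : ∀ t ∈ K, t ⟨lv.b, hb⟩ = ⟨lv.b, hb⟩ := fun t ht => Hgrp_fix sgs hs pre hb ht
  let φ : Fin lv.U.length × K → H := fun p =>
    ⟨toPerm n (lv.U.get p.1) * p.2.1, H.mul_mem (F3 _ (List.get_mem _ _)).2 (hKH p.2.2)⟩
  have hφ : Function.Bijective φ := by
    constructor
    · rintro ⟨i, t⟩ ⟨j, t'⟩ h
      have h' : toPerm n (lv.U.get i) * t.1 = toPerm n (lv.U.get j) * t'.1 :=
        congrArg Subtype.val h
      have h2 := congrArg (fun σ : Equiv.Perm (Fin n) => ((σ ⟨lv.b, hb⟩ : Fin n) : ℕ)) h'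
      simp only [Equiv.Perm.mul_apply, hKfix t.1 t.2, hKfix t'.1 t'.2] at h2
      rw [toPerm_apply (F3 _ (List.get_mem _ i)).1,
        toPerm_apply (F3 _ (List.get_mem _ j)).1, List.get_eq_getElem, List.get_eq_getElem] at h2
      have hi : (i : ℕ) < (lv.U.map (fun u => u.getD lv.b 0)).length := by
        rw [List.length_map]; exact i.2
      have hj : (j : ℕ) < (lv.U.map (fun u => u.getD lv.b 0)).length := by
        rw [List.length_map]; exact j.2
      have h3 : (lv.U.map (fun u => u.getD lv.b 0))[(i : ℕ)] =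
          (lv.U.map (fun u => u.getD lv.b 0))[(j : ℕ)] := by
        rw [List.getElem_map, List.getElem_map]; exact h2
      have hij : (i : ℕ) = j := (List.Nodup.getElem_inj_iff hnd).1 h3
      have hij' : i = j := Fin.ext hij
      subst hij'
      have : t.1 = t'.1 := mul_left_cancel h'
      rw [Prod.mk.injEq]
      exact ⟨rfl, Subtype.ext this⟩
    · rintro ⟨g, hg⟩
      have hg' : g ∈ Tset n (lv :: rest) := by rw [← hset]; exact hg
      obtain ⟨u, hu, t, ht, rfl⟩ := hg'
      obtain ⟨k, hk, rfl⟩ := List.getElem_of_mem hu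
      refine ⟨(⟨k, hk⟩, ⟨t, (hTK t).1 ht⟩), ?_⟩
      apply Subtype.ext
      show toPerm n (lv.U.get ⟨k, hk⟩) * t = _
      rw [List.get_eq_getElem]
  rw [← Nat.card_congr (Equiv.ofBijective φ hφ), Nat.card_prod, Nat.card_fin]

/-- the full test of a chain -/
def checkLevels (n : ℕ) (sgs : List (List ℕ)) : List ℕ → List Lvl → Bool
  | pre, [] => (sgs.filter (fixesAll pre)).all (fun s => s == idL n)
  | pre, lv :: rest =>
    decide (lv.b < n) && (lv.U.headD [] == idL n) &&
    treeOK (sgs.filter (fixesAll pre)) lv.U lv.tree &&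
    decide ((lv.U.map (fun u => u.getD lv.b 0)).Nodup) &&
    (sgs.filter (fixesAll pre)).all (fun s => lv.U.all (fun u => inT n (lv :: rest) (cmp s u))) &&
    checkLevels n sgs (pre ++ [lv.b]) rest

/-- **the main theorem**: a checked chain computes the group -/
theorem main (sgs : List (List ℕ)) (hs : ∀ s ∈ sgs, Valid n s) :
    ∀ (levels : List Lvl) (pre : List ℕ), checkLevels n sgs pre levels = true →
      (Hgrp n sgs pre : Set (Equiv.Perm (Fin n))) = Tset n levels ∧
        (∀ l ∈ levels, ∀ u ∈ l.U, Valid n u) ∧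
        Nat.card (Hgrp n sgs pre) = (levels.map (fun l => l.U.length)).prod := by
  intro levels
  induction levels with
  | nil =>
    intro pre h
    rw [checkLevels, List.all_eq_true] at h
    have hbot : Hgrp n sgs pre = ⊥ := by
      rw [Hgrp, Subgroup.closure_eq_bot_iff]
      rintro g ⟨s, hsm, hf, rfl⟩
      have := h s (List.mem_filter.2 ⟨hsm, hf⟩)
      rw [beq_iff_eq] at this
      rw [this, toPerm_idL]; rfl
    refine ⟨?_, by simp, ?_⟩
    · rw [hbot]; rfl
    · rw [hbot, Subgroup.card_bot]; rfl
  | cons lv rest ih =>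
    intro pre h
    rw [checkLevels, Bool.and_eq_true, Bool.and_eq_true, Bool.and_eq_true, Bool.and_eq_true,
      Bool.and_eq_true, decide_eq_true_eq, decide_eq_true_eq, beq_iff_eq] at h
    obtain ⟨⟨⟨⟨⟨hb, hhead⟩, htree⟩, hnd⟩, hclosed⟩, hrec⟩ := h
    obtain ⟨i1, i2, i3⟩ := ih _ hrec
    have hcl : ∀ s ∈ sgs.filter (fixesAll pre), ∀ u ∈ lv.U,
        inT n (lv :: rest) (cmp s u) = true := by
      intro s hsm u hu
      rw [List.all_eq_true] at hclosed
      have := hclosed s hsm
      rw [List.all_eq_true] at this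
      exact this u hu
    obtain ⟨s1, s2, s3⟩ := step sgs hs pre lv rest i1 i2 hb hhead htree hnd hcl
    refine ⟨s1, ?_, ?_⟩
    · intro l hl
      rcases List.mem_cons.1 hl with rfl | hl
      · exact s2
      · exact i2 l hl
    · rw [s3, i3, List.map_cons, List.prod_cons]

end Cfsg.Agent.Lib.Helper6.SS
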