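import Mathlib
import Cfsg.Agent.H1.SZConj
import Cfsg.Agent.H2.PPrimeCore
import Cfsg.Agent.Lib.Helper8.SameOrdA

/-!
# S4022, piece PB (Case A: a normal subgroup of prime order)
-/

set_option autoImplicit false
set_option linter.style.haveILetI false
set_option linter.unusedSectionVars false
set_option linter.unusedVariables false

namespace Cfsg.Agent.Lib.Helper6.SameOrdCaseA

open Cfsg.Agent.Lib.Helper8.SameOrd
open scoped Pointwise

universe u

variable {G : Type u} [Group G]

theorem mem_conj_smul_iff'' {X : Type*} [Group X] (g x : X) (H : Subgroup X) :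
    x ∈ MulAut.conj g • H ↔ g⁻¹ * x * g ∈ H := by
  rw [Subgroup.mem_pointwise_smul_iff_inv_smul_mem, MulAut.smul_def, MulAut.conj_inv_apply]

theorem card_map_mk'_of_inf_eq_bot (H N : Subgroup G) [N.Normal] (h : H ⊓ N = ⊥) :
    Nat.card ↥(H.map (QuotientGroup.mk' N)) = Nat.card ↥H := by
  symm
  apply Nat.card_eq_of_bijective (fun x : ↥H =>
    (⟨QuotientGroup.mk' N x, Subgroup.mem_map_of_mem _ x.2⟩ : ↥(H.map (QuotientGroup.mk' N))))
  constructor
  · intro x y hxy
    have h1 : QuotientGroup.mk' N (x : G) = QuotientGroup.mk' N (y : G) := congrArg Subtype.val hxy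
    have h2 : (x : G)⁻¹ * y ∈ N := QuotientGroup.eq.1 h1
    have h3 : (x : G)⁻¹ * y ∈ H ⊓ N := ⟨H.mul_mem (H.inv_mem x.2) y.2, h2⟩
    rw [h, Subgroup.mem_bot] at h3
    apply Subtype.ext
    exact inv_mul_eq_one.1 h3
  · rintro ⟨_, x, hx, rfl⟩
    exact ⟨⟨x, hx⟩, rfl⟩

theorem card_eq_card_map_mul [Finite G] (H N : Subgroup G) [N.Normal] (h : N ≤ H) :
    Nat.card ↥H = Nat.card ↥(H.map (QuotientGroup.mk' N)) * Nat.card ↥N := by
  have := Cfsg.Agent.H2.card_comap_mk' N (H.map (QuotientGroup.mk' N))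
  rwa [Subgroup.comap_map_eq, QuotientGroup.ker_mk', sup_eq_left.2 h] at this

theorem cj_of_subgroupOf (L H K : Subgroup G) (hH : H ≤ L) (hK : K ≤ L) (l : ↥L)
    (h : MulAut.conj l • H.subgroupOf L = K.subgroupOf L) : Cj H K := by
  refine ⟨(l : G), ?_⟩
  ext x
  rw [mem_map_conj]
  constructor
  · intro hx
    have hxL : x ∈ L := hK hx
    have h1 : (⟨x, hxL⟩ : ↥L) ∈ K.subgroupOf L := Subgroup.mem_subgroupOf.2 hx
    rw [← h, mem_conj_smul_iff''] at h1
    exact Subgroup.mem_subgroupOf.1 h1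
  · intro hx
    have hxL : x ∈ L := by
      have := hH hx
      have e : x = l * ((l : G)⁻¹ * x * l) * (l : G)⁻¹ := by group
      rw [e]; exact mul_mem (mul_mem l.2 this) (inv_mem l.2)
    have h1 : (⟨x, hxL⟩ : ↥L) ∈ MulAut.conj l • H.subgroupOf L := by
      rw [mem_conj_smul_iff'']; exact Subgroup.mem_subgroupOf.2 hx
    rw [h] at h1
    exact Subgroup.mem_subgroupOf.1 h1

theorem map_map_conj_mk' (N H : Subgroup G) [N.Normal] (g : G) :
    (H.map (MulAut.conj g).toMonoidHom).map (QuotientGroup.mk' N) =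
      (H.map (QuotientGroup.mk' N)).map (MulAut.conj (QuotientGroup.mk' N g)).toMonoidHom := by
  rw [Subgroup.map_map, Subgroup.map_map]
  congr 1

variable [Finite G]

/-- **S4022 PB**: Case A, a normal subgroup of prime order. -/
theorem caseA {r : ℕ} (hX : X r G)
    (ih : ∀ (Q : Type u) [Group Q] [Finite Q], Nat.card Q < Nat.card G → X r Q → Concl Q)
    (hquot : ∀ (N : Subgroup G) [N.Normal] (q : ℕ), q.Prime → IsPGroup q N → X r (G ⧸ N))
    (N : Subgroup G) [N.Normal] (q : ℕ) (hq : q.Prime) (hN : Nat.card N = q) : Concl G := by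
  haveI : Fact q.Prime := ⟨hq⟩
  have hNp : IsPGroup q ↥N := IsPGroup.of_card (n := 1) (by rw [hN, pow_one])
  have hXQ : X r (G ⧸ N) := hquot N q hq hNp
  have hlt : Nat.card (G ⧸ N) < Nat.card G := by
    have h1 : Nat.card ↥N * Nat.card (G ⧸ N) = Nat.card G := by
      rw [← Subgroup.index_eq_card]; exact N.card_mul_index
    rw [← h1, hN]
    have : 0 < Nat.card (G ⧸ N) := Nat.card_pos
    have := hq.two_le
    nlinarith
  have hCQ : Concl (G ⧸ N) := ih (G ⧸ N) hlt hXQ
  -- `q ∣ |H|` implies `N ≤ H`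
  have hNle : ∀ H : Subgroup G, q ∣ Nat.card ↥H → N ≤ H := by
    intro H hdvd
    obtain ⟨x, hx⟩ := exists_prime_orderOf_dvd_card' q hdvd
    have hx' : orderOf (x : G) = q := by rw [Subgroup.orderOf_coe]; exact hx
    have hZcard : Nat.card ↥(Subgroup.zpowers (x : G)) = q := by rw [Nat.card_zpowers]; exact hx'
    have hZp : IsPGroup q ↥(Subgroup.zpowers (x : G)) :=
      IsPGroup.of_card (n := 1) (by rw [hZcard, pow_one])
    obtain ⟨g, hg⟩ := hX.hD q hq N (Subgroup.zpowers (x : G)) hNp hZp (hN.trans hZcard.symm)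
    rw [map_conj_normal] at hg
    rw [← hg]
    exact (Subgroup.zpowers_le).2 x.2
  intro H K hHK
  by_cases hdvd : q ∣ Nat.card ↥H
  · -- both contain `N`
    have hNH : N ≤ H := hNle H hdvd
    have hNK : N ≤ K := hNle K (hHK ▸ hdvd)
    apply Cj.of_quotient N hNH hNK
    apply hCQ
    have h1 := card_eq_card_map_mul H N hNH
    have h2 := card_eq_card_map_mul K N hNK
    rw [hHK, h2] at h1
    exact (Nat.eq_of_mul_eq_mul_right Nat.card_pos h1).symm
  · -- coprime case
    have hdvdK : ¬ q ∣ Nat.card ↥K := hHK ▸ hdvd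
    have hbot : ∀ H : Subgroup G, ¬ q ∣ Nat.card ↥H → H ⊓ N = ⊥ := by
      intro H hnd
      have hc : (Nat.card ↥H).Coprime q := ((Nat.Prime.coprime_iff_not_dvd hq).2 hnd).symm
      have h1 : Nat.card ↥(H ⊓ N) ∣ Nat.card ↥H := Subgroup.card_dvd_of_le inf_le_left
      have h2 : Nat.card ↥(H ⊓ N) ∣ q := hN ▸ Subgroup.card_dvd_of_le inf_le_right
      exact Subgroup.card_eq_one.1 (Nat.eq_one_of_dvd_coprimes hc h1 h2)
    have hHbar : Nat.card ↥(H.map (QuotientGroup.mk' N)) = Nat.card ↥H :=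
      card_map_mk'_of_inf_eq_bot H N (hbot H hdvd)
    have hKbar : Nat.card ↥(K.map (QuotientGroup.mk' N)) = Nat.card ↥K :=
      card_map_mk'_of_inf_eq_bot K N (hbot K hdvdK)
    obtain ⟨gbar, hgbar⟩ := hCQ (H.map (QuotientGroup.mk' N)) (K.map (QuotientGroup.mk' N))
      (by rw [hHbar, hKbar, hHK])
    obtain ⟨g, rfl⟩ := QuotientGroup.mk_surjective gbar
    -- replace `H` by its conjugate `H'`
    set H' := H.map (MulAut.conj g).toMonoidHom with hH'
    have hHH' : Cj H H' := ⟨g, rfl⟩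
    apply hHH'.trans
    have hH'card : Nat.card ↥H' = Nat.card ↥K := by rw [hHH'.card_eq, hHK]
    have hmapeq : H'.map (QuotientGroup.mk' N) = K.map (QuotientGroup.mk' N) := by
      rw [hgbar, hH', map_map_conj_mk']
      rfl
    have hsup : H' ⊔ N = K ⊔ N := by
      have h2 := congrArg (Subgroup.comap (QuotientGroup.mk' N)) hmapeq
      rwa [Subgroup.comap_map_eq, Subgroup.comap_map_eq, QuotientGroup.ker_mk'] at h2
    have hdvdH' : ¬ q ∣ Nat.card ↥H' := by rw [hH'card]; exact hdvdK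
    have hH'bar : Nat.card ↥(H'.map (QuotientGroup.mk' N)) = Nat.card ↥H' :=
      card_map_mk'_of_inf_eq_bot H' N (hbot H' hdvdH')
    set L := K ⊔ N with hL
    have hKL : K ≤ L := le_sup_left
    have hNL : N ≤ L := le_sup_right
    have hH'L : H' ≤ L := by rw [← hsup]; exact le_sup_left
    have hLmap : L.map (QuotientGroup.mk' N) = K.map (QuotientGroup.mk' N) := by
      rw [hL, Subgroup.map_sup, QuotientGroup.map_mk'_self, sup_bot_eq]
    have hLcard : Nat.card ↥L = Nat.card ↥K * q := by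
      rw [card_eq_card_map_mul L N hNL, hLmap, hKbar, hN]
    -- inside `L`
    haveI hNLn : (N.subgroupOf L).Normal := Subgroup.Normal.subgroupOf inferInstance L
    have hc1 : Nat.card ↥(N.subgroupOf L) = q := by
      rw [Nat.card_congr (Subgroup.subgroupOfEquivOfLe hNL).toEquiv]; exact hN
    have hc2 : Nat.card ↥(K.subgroupOf L) = Nat.card ↥K :=
      Nat.card_congr (Subgroup.subgroupOfEquivOfLe hKL).toEquiv
    have hc3 : Nat.card ↥(H'.subgroupOf L) = Nat.card ↥K := by
      rw [Nat.card_congr (Subgroup.subgroupOfEquivOfLe hH'L).toEquiv]; exact hH'card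
    have hcopK : (q).Coprime (Nat.card ↥K) := (Nat.Prime.coprime_iff_not_dvd hq).2 hdvdK
    have hcompK : Subgroup.IsComplement' (N.subgroupOf L) (K.subgroupOf L) := by
      apply Subgroup.isComplement'_of_coprime
      · rw [hc1, hc2, hLcard, mul_comm]
      · rw [hc1, hc2]; exact hcopK
    have hcompH : Subgroup.IsComplement' (N.subgroupOf L) (H'.subgroupOf L) := by
      apply Subgroup.isComplement'_of_coprime
      · rw [hc1, hc3, hLcard, mul_comm]
      · rw [hc1, hc3]; exact hcopK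
    haveI := hX.solv
    have hsolv : Group.IsSolvable ↥(N.subgroupOf L) := inferInstance
    obtain ⟨l, hl⟩ := Cfsg.Agent.H1.sz_conj (N.subgroupOf L) (H'.subgroupOf L) (K.subgroupOf L)
      hcompH hcompK (by rw [hc1, hc3]; exact hcopK) (Or.inl hsolv)
    exact cj_of_subgroupOf L H' K hH'L hKL l hl

end Cfsg.Agent.Lib.Helper6.SameOrdCaseA
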