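import Cfsg.Agent.Lib.Helper6.SidkiP3a
import Cfsg.Agent.H2.SidkiT

/-!
# S3048 piece (P3): a minimal normal subgroup has trivial centralizer and supplements `V` (helper6)
-/

set_option autoImplicit false

namespace Cfsg.Agent.Lib.Helper6.SidkiP3

open Cfsg.Agent.H2.Sidki

universe u
variable {G : Type u} [Group G] [Finite G] {V : Subgroup G}

/-- (P3) a minimal normal subgroup has trivial centralizer and supplements `V`. -/
theorem minimal_normal_centralizer (c : Ctx V)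
    (hab : ∀ N : Subgroup G, N.Normal → (∀ a ∈ N, ∀ b ∈ N, a * b = b * a) → N = ⊥)
    (N₁ : Subgroup G) (hN : N₁.Normal) (hN1 : N₁ ≠ ⊥)
    (hmin : ∀ N' : Subgroup G, N'.Normal → N' ≤ N₁ → N' = ⊥ ∨ N' = N₁) :
    Subgroup.centralizer (N₁ : Set G) = ⊥ ∧ N₁ ⊔ V = ⊤ :=
  minimal_normal_centralizer_of c (fun Y X => c.exists_centralizing Y X) hab N₁ hN hN1

end Cfsg.Agent.Lib.Helper6.SidkiP3

namespace Cfsg.Agent.H2.Sidki

universe u
variable {G : Type u} [Group G] [Finite G] {V : Subgroup G}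

/-- (P3), in helper2's namespace, verbatim signature. -/
theorem Ctx.minimal_normal_centralizer (c : Ctx V)
    (hab : ∀ N : Subgroup G, N.Normal → (∀ a ∈ N, ∀ b ∈ N, a * b = b * a) → N = ⊥)
    (N₁ : Subgroup G) (hN : N₁.Normal) (hN1 : N₁ ≠ ⊥)
    (hmin : ∀ N' : Subgroup G, N'.Normal → N' ≤ N₁ → N' = ⊥ ∨ N' = N₁) :
    Subgroup.centralizer (N₁ : Set G) = ⊥ ∧ N₁ ⊔ V = ⊤ :=
  Cfsg.Agent.Lib.Helper6.SidkiP3.minimal_normal_centralizer c hab N₁ hN hN1 hmin

end Cfsg.Agent.H2.Sidki
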