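import Cfsg.Agent.H2.SidkiDefs

/-!
# S3048 piece (P3), with trick (T') as a hypothesis (helper6)
-/

set_option autoImplicit false

namespace Cfsg.Agent.Lib.Helper6.SidkiP3

open Cfsg.Agent.H2.Sidki

universe u
variable {G : Type u} [Group G]

/-- all squares trivial ⇒ commutative -/
theorem comm_of_sq (B : Subgroup G) (h : ∀ b ∈ B, b * b = 1) :
    ∀ a ∈ B, ∀ b ∈ B, a * b = b * a := by
  intro a ha b hb
  have h1 := h a ha
  have h2 := h b hb
  have h3 := h (a * b) (B.mul_mem ha hb)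
  calc a * b = (a * b)⁻¹ := (inv_eq_of_mul_eq_one_left h3).symm
    _ = b⁻¹ * a⁻¹ := mul_inv_rev a b
    _ = b * a := by rw [inv_eq_of_mul_eq_one_left h1, inv_eq_of_mul_eq_one_left h2]

theorem sq_mem_of_mem_sup (K X : Subgroup G) (hK : K.Normal) (hX : ∀ a ∈ X, a * a = 1) {g : G}
    (hg : g ∈ K ⊔ X) : g * g ∈ K := by
  have := hK
  have h0 : (g : G) ∈ ((K ⊔ X : Subgroup G) : Set G) := hg
  rw [Subgroup.normal_mul] at h0
  obtain ⟨k, hk, x, hx, rfl⟩ := Set.mem_mul.1 h0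
  have hxx := hX x hx
  have e : k * x * (k * x) = k * (x * k * x⁻¹) * (x * x) := by group
  rw [e, hxx, mul_one]
  exact K.mul_mem hk (hK.conj_mem k hk x)

theorem mem_of_sq_mem_of_odd (K : Subgroup G) {g : G} (hodd : Odd (orderOf g))
    (h : g * g ∈ K) : g ∈ K := by
  obtain ⟨k, hk⟩ := hodd
  have e : g = (g * g) ^ (k + 1) := by
    rw [← pow_two, ← pow_mul]
    have e2 : 2 * (k + 1) = orderOf g + 1 := by omega
    rw [e2, pow_succ, pow_orderOf_eq_one, one_mul]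
  rw [e]; exact K.pow_mem h _

theorem odd_orderOf_mul {a b : G} (hab : a * b = b * a) (ha : Odd (orderOf a))
    (hb : Odd (orderOf b)) : Odd (orderOf (a * b)) := by
  have hc : Commute a b := hab
  have h1 : (a * b) ^ (orderOf a * orderOf b) = 1 := by
    rw [hc.mul_pow, pow_mul, pow_orderOf_eq_one, one_pow, mul_comm, pow_mul, pow_orderOf_eq_one,
      one_pow, one_mul]
  exact Odd.of_dvd_nat (ha.mul hb) (orderOf_dvd_of_pow_eq_one h1)

variable {V : Subgroup G}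

theorem e2 (c : Ctx V)
    (hab : ∀ N : Subgroup G, N.Normal → (∀ a ∈ N, ∀ b ∈ N, a * b = b * a) → N = ⊥)
    (A B : Subgroup G) (hA : A.Normal) (hB : B.Normal) (hAB : A ⊓ B = ⊥) (hAV : A ⊔ V = ⊤) :
    B = ⊥ := by
  apply hab B hB
  apply comm_of_sq
  intro b hb
  have h1 : b * b ∈ A := sq_mem_of_mem_sup A V hA c.sq (hAV ▸ Subgroup.mem_top b)
  have h2 : b * b ∈ A ⊓ B := ⟨h1, B.mul_mem hb hb⟩
  rw [hAB] at h2; exact Subgroup.mem_bot.1 h2

theorem inf_centralizer_eq_bot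
    (hab : ∀ N : Subgroup G, N.Normal → (∀ a ∈ N, ∀ b ∈ N, a * b = b * a) → N = ⊥)
    (M : Subgroup G) (hM : M.Normal) : M ⊓ Subgroup.centralizer (M : Set G) = ⊥ := by
  have := hM
  apply hab _ inferInstance
  intro a ha b hb
  exact Subgroup.mem_centralizer_iff.1 hb.2 a ha.1

/-- (P3) with (P1) as a hypothesis. -/
theorem minimal_normal_centralizer_of (c : Ctx V)
    (hP1 : ∀ (Y X : Subgroup G), Y.IsSubnormal → X ≤ V → X ≠ ⊥ →
      X ≤ Subgroup.normalizer (Y : Set G) → Y ⊔ X ≠ ⊤ → SidkiIn X (Y ⊔ X) →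
      ∃ x ∈ X, x ≠ 1 ∧ ∀ y ∈ Y, x * y = y * x)
    (hab : ∀ N : Subgroup G, N.Normal → (∀ a ∈ N, ∀ b ∈ N, a * b = b * a) → N = ⊥)
    (N₁ : Subgroup G) (hN : N₁.Normal) (hN1 : N₁ ≠ ⊥) :
    Subgroup.centralizer (N₁ : Set G) = ⊥ ∧ N₁ ⊔ V = ⊤ := by
  classical
  have := hN
  have hM : (Subgroup.centralizer (N₁ : Set G)).Normal := inferInstance
  have hNM : N₁ ⊓ Subgroup.centralizer (N₁ : Set G) = ⊥ := by
    apply hab _ inferInstance
    intro a ha b hb
    exact Subgroup.mem_centralizer_iff.1 hb.2 a ha.1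
  have hZM := inf_centralizer_eq_bot hab _ hM
  have hSV : ∀ Y : Subgroup G, SidkiIn V (Y ⊔ V) :=
    fun Y h _ v hv hodd hinv => c.sidki h v hv hodd hinv
  have hnorm_top : ∀ (Y : Subgroup G), Y.Normal → ∀ X : Subgroup G,
      X ≤ Subgroup.normalizer (Y : Set G) := by
    intro Y hY X
    have := hY
    rw [Subgroup.normalizer_eq_top]; exact le_top
  have hYn : (N₁ ⊔ Subgroup.centralizer (N₁ : Set G)).Normal := inferInstance
  -- (a)
  have ha : (N₁ ⊔ Subgroup.centralizer (N₁ : Set G)) ⊔ V = ⊤ := by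
    by_contra hne
    obtain ⟨x, hxV, hx1, hx⟩ := hP1 (N₁ ⊔ Subgroup.centralizer (N₁ : Set G)) V hYn.isSubnormal
      le_rfl c.ne (hnorm_top _ hYn V) hne (hSV _)
    have hxM : x ∈ Subgroup.centralizer (N₁ : Set G) :=
      Subgroup.mem_centralizer_iff.2 (fun y hy => (hx y (Subgroup.mem_sup_left hy)).symm)
    have hxC : x ∈ Subgroup.centralizer ((Subgroup.centralizer (N₁ : Set G) : Subgroup G) : Set G) :=
      Subgroup.mem_centralizer_iff.2 (fun y hy => (hx y (Subgroup.mem_sup_right hy)).symm)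
    have hx2 : x ∈ Subgroup.centralizer (N₁ : Set G) ⊓
        Subgroup.centralizer ((Subgroup.centralizer (N₁ : Set G) : Subgroup G) : Set G) :=
      ⟨hxM, hxC⟩
    rw [hZM] at hx2
    exact hx1 (Subgroup.mem_bot.1 hx2)
  -- (b)
  have hMbot : Subgroup.centralizer (N₁ : Set G) = ⊥ := by
    by_contra hM1
    have hNV : N₁ ⊔ V ≠ ⊤ := fun h => hM1 (e2 c hab N₁ _ hN hM hNM h)
    have hMV : Subgroup.centralizer (N₁ : Set G) ⊔ V ≠ ⊤ :=
      fun h => hN1 (e2 c hab _ N₁ hM hN (by rw [inf_comm]; exact hNM) h)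
    obtain ⟨x₁, hx₁V, hx₁1, hx₁⟩ := hP1 N₁ V hN.isSubnormal le_rfl c.ne (hnorm_top _ hN V) hNV
      (hSV _)
    have hx₁M : x₁ ∈ Subgroup.centralizer (N₁ : Set G) :=
      Subgroup.mem_centralizer_iff.2 (fun y hy => (hx₁ y hy).symm)
    obtain ⟨x', hx'V, hx'1, hx'⟩ := hP1 _ V hM.isSubnormal le_rfl c.ne (hnorm_top _ hM V) hMV
      (hSV _)
    have hx'M : x' ∉ Subgroup.centralizer (N₁ : Set G) := by
      intro h
      have hx2 : x' ∈ Subgroup.centralizer (N₁ : Set G) ⊓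
          Subgroup.centralizer ((Subgroup.centralizer (N₁ : Set G) : Subgroup G) : Set G) :=
        ⟨h, Subgroup.mem_centralizer_iff.2 (fun y hy => (hx' y hy).symm)⟩
      rw [hZM] at hx2
      exact hx'1 (Subgroup.mem_bot.1 hx2)
    have hV₁V : V ⊓ Subgroup.centralizer (N₁ : Set G) ≠ V := by
      intro h
      have : x' ∈ V ⊓ Subgroup.centralizer (N₁ : Set G) := by rw [h]; exact hx'V
      exact hx'M this.2
    have hV₁bot : V ⊓ Subgroup.centralizer (N₁ : Set G) ≠ ⊥ := by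
      intro h
      have : x₁ ∈ V ⊓ Subgroup.centralizer (N₁ : Set G) := ⟨hx₁V, hx₁M⟩
      rw [h] at this
      exact hx₁1 (Subgroup.mem_bot.1 this)
    refine c.small (V ⊓ Subgroup.centralizer (N₁ : Set G)) inf_le_left hV₁V hV₁bot ?_
    -- claim
    intro g u hu hodd hinv
    by_contra hno0
    have hno : ∀ w ∈ V ⊓ Subgroup.centralizer (N₁ : Set G), w ≠ 1 → w * g ≠ g * w :=
      fun w hw h1 h2 => hno0 ⟨w, hw, h1, h2⟩
    have hgNM : g ∈ N₁ ⊔ Subgroup.centralizer (N₁ : Set G) :=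
      mem_of_sq_mem_of_odd _ hodd
        (sq_mem_of_mem_sup _ V hYn c.sq (ha ▸ Subgroup.mem_top g))
    have hgM : g ∈ Subgroup.centralizer (N₁ : Set G) := by
      have h0 : (g : G) ∈ ((N₁ ⊔ Subgroup.centralizer (N₁ : Set G) : Subgroup G) : Set G) := hgNM
      rw [Subgroup.normal_mul] at h0
      obtain ⟨g₁, hg₁, g', hg', hgeq⟩ := Set.mem_mul.1 h0
      have hg₁' : g₁ ∈ N₁ := hg₁
      have hg'' : g' ∈ Subgroup.centralizer (N₁ : Set G) := hg'
      have hcomm : g₁ * g' = g' * g₁ := Subgroup.mem_centralizer_iff.1 hg'' g₁ hg₁'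
      have hug₁ : u * g₁ = g₁ * u := (Subgroup.mem_centralizer_iff.1 hu.2 g₁ hg₁').symm
      have e1 : u * (g₁ * g') * u⁻¹ = g₁ * (u * g' * u⁻¹) := by
        calc u * (g₁ * g') * u⁻¹ = (u * g₁) * g' * u⁻¹ := by group
          _ = (g₁ * u) * g' * u⁻¹ := by rw [hug₁]
          _ = g₁ * (u * g' * u⁻¹) := by group
      have e2' : (g₁ * g')⁻¹ = g₁⁻¹ * g'⁻¹ := by rw [hcomm, mul_inv_rev]
      have e3 : g₁ * (u * g' * u⁻¹) = g₁⁻¹ * g'⁻¹ := by
        rw [← e1, ← e2', hgeq]; exact hinv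
      have e4 : g₁ * g₁ = g'⁻¹ * (u * g' * u⁻¹)⁻¹ := by
        calc g₁ * g₁ = g₁ * (g₁ * (u * g' * u⁻¹)) * (u * g' * u⁻¹)⁻¹ := by group
          _ = g₁ * (g₁⁻¹ * g'⁻¹) * (u * g' * u⁻¹)⁻¹ := by rw [e3]
          _ = g'⁻¹ * (u * g' * u⁻¹)⁻¹ := by group
      have hg₁sq : g₁ * g₁ = 1 := by
        have h1 : g₁ * g₁ ∈ N₁ := N₁.mul_mem hg₁' hg₁'
        have h2 : g₁ * g₁ ∈ Subgroup.centralizer (N₁ : Set G) := by
          rw [e4]
          exact Subgroup.mul_mem _ (Subgroup.inv_mem _ hg'')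
            (Subgroup.inv_mem _ (hM.conj_mem g' hg'' u))
        have h3 : g₁ * g₁ ∈ N₁ ⊓ Subgroup.centralizer (N₁ : Set G) := ⟨h1, h2⟩
        rw [hNM] at h3; exact Subgroup.mem_bot.1 h3
      have hsq : g * g = g' * g' := by
        rw [← hgeq]
        calc (g₁ * g') * (g₁ * g') = g₁ * (g' * g₁) * g' := by group
          _ = g₁ * (g₁ * g') * g' := by rw [hcomm]
          _ = (g₁ * g₁) * (g' * g') := by group
          _ = g' * g' := by rw [hg₁sq, one_mul]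
      exact mem_of_sq_mem_of_odd _ hodd (hsq ▸ Subgroup.mul_mem _ hg'' hg'')
    -- X
    obtain ⟨w₀, hw₀V, hw₀1, hw₀⟩ := c.sidki g u hu.1 hodd hinv
    have hX1 : V ⊓ Subgroup.centralizer ({g} : Set G) ≠ ⊥ := by
      intro h
      have : w₀ ∈ V ⊓ Subgroup.centralizer ({g} : Set G) :=
        ⟨hw₀V, Subgroup.mem_centralizer_singleton_iff.2 hw₀⟩
      rw [h] at this
      exact hw₀1 (Subgroup.mem_bot.1 this)
    have hXM : ∀ x ∈ V ⊓ Subgroup.centralizer ({g} : Set G),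
        x ∈ Subgroup.centralizer (N₁ : Set G) → x = 1 := by
      intro x hx hxM
      by_contra hx1
      exact hno x ⟨hx.1, hxM⟩ hx1 (Subgroup.mem_centralizer_singleton_iff.1 hx.2)
    have hSX : SidkiIn (V ⊓ Subgroup.centralizer ({g} : Set G))
        (N₁ ⊔ (V ⊓ Subgroup.centralizer ({g} : Set G))) := by
      intro y hy x hx hyodd hyinv
      have hyN : y ∈ N₁ := mem_of_sq_mem_of_odd N₁ hyodd
        (sq_mem_of_mem_sup N₁ (V ⊓ Subgroup.centralizer ({g} : Set G)) hN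
          (fun a ha => c.sq a ha.1) hy)
      have hxg : x * g = g * x := Subgroup.mem_centralizer_singleton_iff.1 hx.2
      have huy : u * y = y * u := (Subgroup.mem_centralizer_iff.1 hu.2 y hyN).symm
      have hyg : y * g = g * y := Subgroup.mem_centralizer_iff.1 hgM y hyN
      have hxu : x * u ∈ V := V.mul_mem hx.1 hu.1
      have hxg' : x * g * x⁻¹ = g := by rw [hxg]; group
      have hinv2 : (x * u) * (y * g) * (x * u)⁻¹ = (y * g)⁻¹ := by
        calc (x * u) * (y * g) * (x * u)⁻¹ = x * ((u * y) * g * u⁻¹) * x⁻¹ := by group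
          _ = x * ((y * u) * g * u⁻¹) * x⁻¹ := by rw [huy]
          _ = x * (y * (u * g * u⁻¹)) * x⁻¹ := by group
          _ = x * (y * g⁻¹) * x⁻¹ := by rw [hinv]
          _ = (x * y * x⁻¹) * (x * g * x⁻¹)⁻¹ := by group
          _ = y⁻¹ * g⁻¹ := by rw [hyinv, hxg']
          _ = (g * y)⁻¹ := by rw [mul_inv_rev]
          _ = (y * g)⁻¹ := by rw [hyg]
      have hodd2 : Odd (orderOf (y * g)) := odd_orderOf_mul hyg hyodd hodd
      obtain ⟨w, hwV, hw1, hw⟩ := c.sidki (y * g) (x * u) hxu hodd2 hinv2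
      have hw' : (w * y * w⁻¹) * (w * g * w⁻¹) = y * g := by
        calc (w * y * w⁻¹) * (w * g * w⁻¹) = w * (y * g) * w⁻¹ := by group
          _ = (y * g) * w * w⁻¹ := by rw [hw]
          _ = y * g := by group
      have ht : y⁻¹ * (w * y * w⁻¹) = g * (w * g * w⁻¹)⁻¹ := by
        calc y⁻¹ * (w * y * w⁻¹) = y⁻¹ * ((w * y * w⁻¹) * (w * g * w⁻¹)) * (w * g * w⁻¹)⁻¹ := by
              group
          _ = y⁻¹ * (y * g) * (w * g * w⁻¹)⁻¹ := by rw [hw']
          _ = g * (w * g * w⁻¹)⁻¹ := by group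
      have ht1 : y⁻¹ * (w * y * w⁻¹) = 1 := by
        have h1 : y⁻¹ * (w * y * w⁻¹) ∈ N₁ := N₁.mul_mem (N₁.inv_mem hyN) (hN.conj_mem y hyN w)
        have h2 : y⁻¹ * (w * y * w⁻¹) ∈ Subgroup.centralizer (N₁ : Set G) := by
          rw [ht]
          exact Subgroup.mul_mem _ hgM (Subgroup.inv_mem _ (hM.conj_mem g hgM w))
        have h3 : y⁻¹ * (w * y * w⁻¹) ∈ N₁ ⊓ Subgroup.centralizer (N₁ : Set G) := ⟨h1, h2⟩
        rw [hNM] at h3; exact Subgroup.mem_bot.1 h3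
      have hwy : w * y * w⁻¹ = y := by
        have := inv_mul_eq_one.1 ht1
        exact this.symm
      have hwg : w * g * w⁻¹ = g := by
        rw [hwy] at hw'
        exact mul_left_cancel hw'
      have hwy' : w * y = y * w := by
        calc w * y = (w * y * w⁻¹) * w := by group
          _ = y * w := by rw [hwy]
      have hwg' : w * g = g * w := by
        calc w * g = (w * g * w⁻¹) * w := by group
          _ = g * w := by rw [hwg]
      exact ⟨w, ⟨hwV, Subgroup.mem_centralizer_singleton_iff.2 hwg'⟩, hw1, hwy'⟩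
    have hNX : N₁ ⊔ (V ⊓ Subgroup.centralizer ({g} : Set G)) ≠ ⊤ :=
      fun h => hNV (top_le_iff.1 (h ▸ sup_le_sup_left inf_le_left N₁))
    obtain ⟨x, hxX, hx1, hx⟩ := hP1 N₁ _ hN.isSubnormal inf_le_left hX1 (hnorm_top _ hN _) hNX hSX
    exact hx1 (hXM x hxX (Subgroup.mem_centralizer_iff.2 (fun y hy => (hx y hy).symm)))
  refine ⟨hMbot, ?_⟩
  rw [hMbot, sup_bot_eq] at ha
  exact ha

end Cfsg.Agent.Lib.Helper6.SidkiP3
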