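import Cfsg.Agent.Lib.Helper6.SimpG

/-! # Primitive groups: non-trivial normal subgroups are transitive; orbits of the subgroup of a
coset enumeration found by searches in parts -/

set_option autoImplicit false

noncomputable section

namespace Cfsg.Agent.Lib.Helper6.SimpCO

open Cfsg.Agent.Lib.Helper6.TC Cfsg.Agent.Lib.Helper6.NatArr Cfsg.Agent.Lib.Helper6.Simp
  Cfsg.Agent.Lib.Helper6.SimpG Cfsg.Spor

/-- **a non-trivial normal subgroup is transitive**, for a faithful transitive action whose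
suborbit lengths admit no proper block size -/
theorem transitive_of_normal {G : Type*} [Group G] {n : ℕ} [Finite G]
    (ρ : G →* Equiv.Perm (Fin n))
    (hinj : Function.Injective ρ) (o : Fin n) (htrans : ∀ a : Fin n, ∃ z : G, ρ z o = a)
    (H : Subgroup G) (hH : ∀ h ∈ H, ρ h o = o)
    {r : ℕ} (Δ : Fin r → Set (Fin n))
    (hΔ : ∀ i, ∀ b ∈ Δ i, ∀ c ∈ Δ i, ∃ h ∈ H, ρ h b = c)
    (hcover : ∀ b, b = o ∨ ∃ i, b ∈ Δ i)
    (hdisj : ∀ i j, i ≠ j → ∀ b, b ∈ Δ i → b ∉ Δ j) (ho : ∀ i, o ∉ Δ i)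
    (s : Fin r → ℕ) (hs : ∀ i, (Δ i).ncard = s i)
    (harith : ∀ I : Finset (Fin r), I.Nonempty → (1 + ∑ i ∈ I, s i) ∣ n → 1 + ∑ i ∈ I, s i = n)
    (N : Subgroup G) (hN : N.Normal) (hbot : N ≠ ⊥) : ∀ b : Fin n, ∃ x ∈ N, ρ x o = b := by
  classical
  let _ : MulAction G (Fin n) := MulAction.compHom (Fin n) ρ
  have hsmul : ∀ (g : G) (b : Fin n), g • b = ρ g b := fun _ _ => rfl
  have : MulAction.IsPretransitive G (Fin n) := ⟨fun a b => by
    obtain ⟨x, hx⟩ := htrans a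
    obtain ⟨y, hy⟩ := htrans b
    refine ⟨y * x⁻¹, ?_⟩
    rw [hsmul, map_mul, map_inv, Equiv.Perm.mul_apply, ← hx, perm_inv_apply_self, hy]⟩
  -- the orbit of the base point under `N`
  set X : Set (Fin n) := MulAction.orbit N o with hXdef
  have hXmem : ∀ b, b ∈ X ↔ ∃ x ∈ N, ρ x o = b := by
    intro b
    constructor
    · rintro ⟨⟨x, hx⟩, rfl⟩
      exact ⟨x, hx, rfl⟩
    · rintro ⟨x, hx, rfl⟩
      exact ⟨⟨x, hx⟩, rfl⟩
  have hoX : o ∈ X := MulAction.mem_orbit_self o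
  have hblock : MulAction.IsBlock G X := MulAction.IsBlock.orbit_of_normal o
  have hdvd : X.ncard ∣ n := by
    have := hblock.ncard_dvd_card ⟨o, hoX⟩
    rwa [Nat.card_fin] at this
  -- invariance under the subgroup `H`
  have hinv : ∀ h ∈ H, ∀ b ∈ X, ρ h b ∈ X := by
    intro h hh b hb
    obtain ⟨x, hx, rfl⟩ := (hXmem b).1 hb
    refine (hXmem _).2 ⟨h * x * h⁻¹, hN.conj_mem x hx h, ?_⟩
    rw [map_mul, map_mul, map_inv, Equiv.Perm.mul_apply, Equiv.Perm.mul_apply]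
    congr 2
    rw [Equiv.Perm.inv_eq_iff_eq]
    exact (hH h hh).symm
  have hsub : ∀ i, (∃ b ∈ Δ i, b ∈ X) → Δ i ⊆ X := by
    intro i ⟨b, hbΔ, hbX⟩ c hc
    obtain ⟨h, hh, rfl⟩ := hΔ i b hbΔ c hc
    exact hinv h hh b hbX
  set I : Finset (Fin r) := Finset.univ.filter fun i => Δ i ⊆ X with hIdef
  have hXeq : X = {o} ∪ ⋃ i ∈ I, Δ i := by
    ext b
    simp only [Set.singleton_union, Set.mem_insert_iff, Set.mem_iUnion, exists_prop]
    constructor
    · intro hb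
      rcases hcover b with rfl | ⟨i, hi⟩
      · exact Or.inl rfl
      · refine Or.inr ⟨i, ?_, hi⟩
        rw [hIdef, Finset.mem_filter]
        exact ⟨Finset.mem_univ _, hsub i ⟨b, hi, hb⟩⟩
    · rintro (rfl | ⟨i, hi, hb⟩)
      · exact hoX
      · rw [hIdef, Finset.mem_filter] at hi
        exact hi.2 hb
  have hcard : X.ncard = 1 + ∑ i ∈ I, s i := ncard_eq_of_union o Δ hdisj ho s hs I X hXeq
  -- `N` moves the base point
  have hmove : ∃ b ∈ X, b ≠ o := by
    by_contra hcon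
    push Not at hcon
    apply hbot
    rw [Subgroup.eq_bot_iff_forall]
    intro x hx
    apply hinj
    rw [map_one]
    ext a
    obtain ⟨z, rfl⟩ := htrans a
    have h1 : ρ (z⁻¹ * x * z) o = o :=
      hcon _ ((hXmem _).2 ⟨z⁻¹ * x * z, by
        have := hN.conj_mem x hx z⁻¹
        rwa [inv_inv] at this, rfl⟩)
    rw [map_mul, map_mul, map_inv, Equiv.Perm.mul_apply, Equiv.Perm.mul_apply,
      Equiv.Perm.inv_eq_iff_eq] at h1
    rw [Equiv.Perm.coe_one, id_eq, h1]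
  have hIne : I.Nonempty := by
    obtain ⟨b, hbX, hbo⟩ := hmove
    rcases hcover b with rfl | ⟨i, hi⟩
    · exact absurd rfl hbo
    · refine ⟨i, ?_⟩
      rw [hIdef, Finset.mem_filter]
      exact ⟨Finset.mem_univ _, hsub i ⟨b, hi, hbX⟩⟩
  have hXn : X.ncard = n := by
    rw [hcard]
    apply harith I hIne
    rw [← hcard]
    exact hdvd
  have hXu : X = Set.univ := by
    apply Set.eq_of_subset_of_ncard_le (Set.subset_univ _) _ Set.finite_univ
    rw [Set.ncard_univ, Nat.card_fin, hXn]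
  intro b
  have hb : b ∈ X := by rw [hXu]; exact Set.mem_univ b
  exact (hXmem b).1 hb

section

variable {α : Type} [DecidableEq α] {edges : List (α × ℕ × α)} {extra : List (FreeGroup α)}
  {S : Set (FreeGroup α)} (D : CoxData edges extra S)

/-- a certificate that the rows of a bitmap lie in one orbit of the subgroup, found by searches
in parts -/
structure OrbSC where
  a : ℕ
  ha : a < D.T.n
  B : ℕ
  chk_run : RunsTo D.T D.subW (bset 0 a) B

namespace OrbSC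

variable {D} (O : OrbSC D)

theorem sub_mem {w : List ℕ} (hw : w ∈ D.subW) : (∀ x ∈ w, x < D.T.g) ∧
    ∃ s ∈ D.cert.S, FreeGroup.lift D.cert.f s = (w.map (D.cert.T.perm D.cert.chk_tab)).prod := by
  obtain ⟨_, _, h3⟩ := D.sub_spec
  refine ⟨?_, fgWord D.gen w, (D.hS _).2 ⟨w, hw, rfl⟩, D.lift_perm_fgWord (h3 w hw).1⟩
  intro x hx
  show x < D.T.g
  rw [D.hTg]
  exact (h3 w hw).1 x hx

theorem reach {k : ℕ} (hk : O.B.testBit k = true) :
    ∃ h ∈ D.cert.H, (D.cert.ρ h ⟨O.a, O.ha⟩).val = k := by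
  refine RunsTo.sound (T := D.T)
    (Q := fun k => ∃ h ∈ D.cert.H, (D.cert.ρ h ⟨O.a, O.ha⟩).val = k) ?_ O.chk_run ?_ k hk
  · rintro top w r hw ⟨h, hh, rfl⟩ htr
    obtain ⟨hl, s, hs, hsw⟩ := sub_mem hw
    have htr' : D.cert.T.trace (D.cert.ρ h ⟨O.a, O.ha⟩).val w = r := htr
    rw [D.cert.T.trace_eq D.cert.chk_tab w _ hl,
      prod_reverse_eq_inv (D.cert.T.perm_mul_self D.cert.chk_tab),
      ← hsw, ← D.cert.ρ_mk, ← map_inv, ← Equiv.Perm.mul_apply, ← map_mul] at htr'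
    refine ⟨_, D.cert.H.mul_mem (D.cert.H.inv_mem ?_) hh, htr'⟩
    exact ⟨s, Subgroup.subset_closure hs, rfl⟩
  · intro k hk
    rw [testBit_bset] at hk
    simp only [Nat.zero_testBit, Bool.false_or, decide_eq_true_eq] at hk
    subst hk
    exact ⟨1, D.cert.H.one_mem, by simp⟩

/-- two rows of the bitmap are joined by an element of the subgroup -/
theorem conn {b c : Fin D.cert.T.n} (hb : O.B.testBit b.val = true) (hc : O.B.testBit c.val = true) :
    ∃ h ∈ D.cert.H, D.cert.ρ h b = c := by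
  obtain ⟨h1, hh1, e1⟩ := O.reach hb
  obtain ⟨h2, hh2, e2⟩ := O.reach hc
  refine ⟨h2 * h1⁻¹, D.cert.H.mul_mem hh2 (D.cert.H.inv_mem hh1), ?_⟩
  have e1' : D.cert.ρ h1 ⟨O.a, O.ha⟩ = b := Fin.ext e1
  have e2' : D.cert.ρ h2 ⟨O.a, O.ha⟩ = c := Fin.ext e2
  rw [map_mul, map_inv, Equiv.Perm.mul_apply, ← e1', perm_inv_apply_self, e2']

end OrbSC

end

end Cfsg.Agent.Lib.Helper6.SimpCO

end
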