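import Cfsg.Agent.Lib.Helper6.SimpDC

/-! # Presented groups without subgroups of index two: a variant for a generating subset of the
generators -/

set_option autoImplicit false

namespace Cfsg.Agent.Lib.Helper6.Simp

open Cfsg.Spor Cfsg.Agent.Lib.Helper6.TC

section

variable {α : Type} [DecidableEq α] {edges : List (α × ℕ × α)} {extra : List (FreeGroup α)}

/-- a presented group generated by some of its generators, which are involutions joined by edges
with label three, with a word of odd length in these generators that is trivial, has no subgroup
of index two -/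
theorem index_ne_two_of_odd_core (hnode : ∀ a : α, a ∈ coxNodes edges) (x0 : α) (C : Set α)
    (hreach : ∀ a ∈ C, ReachA edges x0 a)
    (hgen : Subgroup.closure
      ((fun a => (PresentedGroup.of a : CoxPresented α edges extra)) '' C) = ⊤)
    (w : List α) (hwC : ∀ a ∈ w, a ∈ C) (hodd : Odd w.length)
    (hw : (w.map fun a => (PresentedGroup.of a : CoxPresented α edges extra)).prod = 1)
    (L : Subgroup (CoxPresented α edges extra)) : L.index ≠ 2 := by
  intro hL
  have hN : L.Normal := Subgroup.normal_of_index_eq_two hL
  have hcomm : ∀ x y : CoxPresented α edges extra, x * y * x⁻¹ * y⁻¹ ∈ L := by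
    intro x y
    have hcard : Nat.card (CoxPresented α edges extra ⧸ L) = 2 := hL
    have : Fact (Nat.Prime 2) := ⟨Nat.prime_two⟩
    have hcyc : IsCyclic (CoxPresented α edges extra ⧸ L) := isCyclic_of_prime_card hcard
    have hc : ((x : CoxPresented α edges extra ⧸ L)) * (y : CoxPresented α edges extra ⧸ L) =
        (y : CoxPresented α edges extra ⧸ L) * (x : CoxPresented α edges extra ⧸ L) := by
      let _ := hcyc.commGroup
      exact mul_comm _ _
    rw [← QuotientGroup.eq_one_iff]
    simp only [QuotientGroup.mk_mul, QuotientGroup.mk_inv]
    rw [hc]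
    group
  have hall : ∀ a, ReachA edges x0 a →
      (PresentedGroup.of a : CoxPresented α edges extra) * (PresentedGroup.of x0)⁻¹ ∈ L := by
    intro a ha
    induction ha with
    | root => rw [mul_inv_cancel]; exact L.one_mem
    | step _ h3 ih =>
      rename_i x y _
      have hy := conj_of_braid (of_mul_self (extra := extra) hnode x)
        (of_mul_self (extra := extra) hnode y) (of_braid (extra := extra) hnode x y h3)
      set X := (PresentedGroup.of x : CoxPresented α edges extra) with hX
      set Y := (PresentedGroup.of y : CoxPresented α edges extra) with hY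
      have h1 : Y * X⁻¹ ∈ L := by
        have : Y * X⁻¹ = (X * Y) * X * (X * Y)⁻¹ * X⁻¹ := by rw [← hy]
        rw [this]
        exact hcomm (X * Y) X
      have : Y * (PresentedGroup.of x0)⁻¹ = (Y * X⁻¹) * (X * (PresentedGroup.of x0)⁻¹) := by group
      rw [this]
      exact L.mul_mem h1 ih
  set t : CoxPresented α edges extra ⧸ L := ((PresentedGroup.of x0 : CoxPresented α edges extra) :
    CoxPresented α edges extra ⧸ L) with ht
  have himg : ∀ a ∈ C, ((PresentedGroup.of a : CoxPresented α edges extra) :
      CoxPresented α edges extra ⧸ L) = t := by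
    intro a ha
    have := hall a (hreach a ha)
    rw [← QuotientGroup.eq_one_iff, QuotientGroup.mk_mul, QuotientGroup.mk_inv,
      mul_inv_eq_one] at this
    exact this
  have ht2 : t * t = 1 := by
    rw [ht, ← QuotientGroup.mk_mul, of_mul_self hnode x0, QuotientGroup.mk_one]
  have hprod : ∀ v : List α, (∀ a ∈ v, a ∈ C) → (((v.map fun a =>
      (PresentedGroup.of a : CoxPresented α edges extra)).prod : CoxPresented α edges extra) :
      CoxPresented α edges extra ⧸ L) = t ^ v.length := by
    intro v
    induction v with
    | nil => simp
    | cons a v ih =>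
      intro hv
      rw [List.map_cons, List.prod_cons, QuotientGroup.mk_mul,
        ih (fun b hb => hv b (List.mem_cons_of_mem _ hb)), himg a (hv a List.mem_cons_self),
        List.length_cons, pow_succ']
  have h1 := hprod w hwC
  rw [hw, QuotientGroup.mk_one] at h1
  obtain ⟨k, hk⟩ := hodd
  rw [hk, pow_succ, pow_mul, pow_two, ht2, one_pow, one_mul] at h1
  have hx0 : (PresentedGroup.of x0 : CoxPresented α edges extra) ∈ L := by
    rw [← QuotientGroup.eq_one_iff]
    exact h1.symm
  have htop : L = ⊤ := by
    rw [eq_top_iff, ← hgen, Subgroup.closure_le]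
    rintro _ ⟨a, ha, rfl⟩
    have := hall a (hreach a ha)
    have h2 : (PresentedGroup.of a : CoxPresented α edges extra) =
        (PresentedGroup.of a * (PresentedGroup.of x0)⁻¹) * PresentedGroup.of x0 := by group
    show (PresentedGroup.of a : CoxPresented α edges extra) ∈ L
    rw [h2]
    exact L.mul_mem this hx0
  rw [htop, Subgroup.index_top] at hL
  exact absurd hL (by norm_num)

end

end Cfsg.Agent.Lib.Helper6.Simp
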