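import Cfsg.Agent.Lib.Helper6.TCOrb

/-! # Lower bounds for the order of a permutation group by a chain of stabilizers

The group is given by a coset table; a level of the chain consists of a new base point, of words
that fix the earlier base points, and of a search of the orbit of the new base point under these
words. -/

set_option autoImplicit false

noncomputable section

namespace Cfsg.Agent.Lib.Helper6.Simp

open Cfsg.Agent.Lib.Helper6.TC Cfsg.Agent.Lib.Helper6.NatArr

/-- a level of the chain -/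
structure Level where
  b : ℕ
  ws : List (List ℕ)
  instrs : List ℕ
  B : ℕ
  m : ℕ

/-- the checks of a level, given the earlier base points -/
structure LevelOK (T : Tab) (fixed : List ℕ) (L : Level) : Prop where
  hb : L.b < T.n
  hlt : ∀ w ∈ L.ws, ∀ x ∈ w, x < T.g
  hfix : ∀ w ∈ L.ws, ∀ c ∈ fixed, T.trace c w = c
  horb : T.orbRun L.ws L.instrs [L.b] (bset 0 L.b) = some L.B
  hcnt : cnt L.B T.n = L.m

/-- the product of the orbit lengths -/
def chainProd : List Level → ℕ
  | [] => 1
  | L :: Ls => L.m * chainProd Ls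

/-- the checks of a chain -/
inductive ChainOK (T : Tab) : List ℕ → List Level → Prop
  | nil (fixed : List ℕ) : ChainOK T fixed []
  | cons {fixed : List ℕ} {L : Level} {Ls : List Level} :
      LevelOK T fixed L → ChainOK T (L.b :: fixed) Ls → ChainOK T fixed (L :: Ls)

section

variable (T : Tab) (h : T.tabOK = true)

/-- the permutation of a word (the letters act from the left to the right) -/
def elt (w : List ℕ) : Equiv.Perm (Fin T.n) := (w.reverse.map (T.perm h)).prod

theorem elt_apply {w : List ℕ} (hw : ∀ x ∈ w, x < T.g) (a : Fin T.n) :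
    (elt T h w a).val = T.trace a.val w := (T.trace_eq h w a hw).symm

/-- the pointwise stabilizer of a list of points in a group of permutations -/
def pstab (Γ : Subgroup (Equiv.Perm (Fin T.n))) (fixed : List ℕ) :
    Subgroup (Equiv.Perm (Fin T.n)) where
  carrier := {σ | σ ∈ Γ ∧ ∀ c ∈ fixed, ∀ hc : c < T.n, σ ⟨c, hc⟩ = ⟨c, hc⟩}
  mul_mem' := by
    rintro σ τ ⟨h1, h2⟩ ⟨h3, h4⟩
    refine ⟨Γ.mul_mem h1 h3, fun c hc hcn => ?_⟩
    rw [Equiv.Perm.mul_apply, h4 c hc hcn, h2 c hc hcn]
  one_mem' := ⟨Γ.one_mem, fun _ _ _ => rfl⟩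
  inv_mem' := by
    rintro σ ⟨h1, h2⟩
    refine ⟨Γ.inv_mem h1, fun c hc hcn => ?_⟩
    rw [Equiv.Perm.inv_eq_iff_eq, h2 c hc hcn]

theorem mem_pstab {Γ : Subgroup (Equiv.Perm (Fin T.n))} {fixed : List ℕ}
    {σ : Equiv.Perm (Fin T.n)} : σ ∈ pstab T Γ fixed ↔
      σ ∈ Γ ∧ ∀ c ∈ fixed, ∀ hc : c < T.n, σ ⟨c, hc⟩ = ⟨c, hc⟩ := Iff.rfl

theorem pstab_nil (Γ : Subgroup (Equiv.Perm (Fin T.n))) : pstab T Γ [] = Γ := by
  ext σ
  rw [mem_pstab]
  simp

variable {T}

theorem elt_mem {Γ : Subgroup (Equiv.Perm (Fin T.n))} (hΓ : ∀ x, x < T.g → T.perm h x ∈ Γ)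
    {w : List ℕ} (hw : ∀ x ∈ w, x < T.g) : elt T h w ∈ Γ := by
  unfold elt
  apply Subgroup.list_prod_mem
  intro σ hσ
  rw [List.mem_map] at hσ
  obtain ⟨x, hx, rfl⟩ := hσ
  exact hΓ x (hw x (List.mem_reverse.1 hx))

/-- **the step**: the orbit length times the order of the next stabilizer is at most the order
of the stabilizer -/
theorem card_pstab_ge {Γ : Subgroup (Equiv.Perm (Fin T.n))}
    (hΓ : ∀ x, x < T.g → T.perm h x ∈ Γ) {fixed : List ℕ} {L : Level} (hL : LevelOK T fixed L) :
    L.m * Nat.card (pstab T Γ (L.b :: fixed)) ≤ Nat.card (pstab T Γ fixed) := by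
  classical
  set b' : Fin T.n := ⟨L.b, hL.hb⟩ with hb'
  -- the elements of the words lie in the stabilizer
  have hwM : ∀ w ∈ L.ws, elt T h w ∈ pstab T Γ fixed := by
    intro w hw
    refine ⟨elt_mem h hΓ (hL.hlt w hw), fun c hc hcn => ?_⟩
    apply Fin.ext
    rw [elt_apply T h (hL.hlt w hw)]
    exact hL.hfix w hw c hc
  -- the rows of the bitmap are reached
  have hreach : ∀ k, L.B.testBit k = true → ∃ σ ∈ pstab T Γ fixed, (σ b').val = k := by
    refine T.orbRun_sound (Q := fun k => ∃ σ ∈ pstab T Γ fixed, (σ b').val = k) L.ws ?_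
      L.instrs [L.b] (bset 0 L.b) L.B hL.horb ?_ ?_
    · rintro top w r hw ⟨σ, hσ, rfl⟩ htr
      refine ⟨elt T h w * σ, (pstab T Γ fixed).mul_mem (hwM w hw) hσ, ?_⟩
      rw [Equiv.Perm.mul_apply, elt_apply T h (hL.hlt w hw)]
      exact htr
    · intro s hs
      rw [List.mem_singleton] at hs
      subst hs
      exact ⟨1, (pstab T Γ fixed).one_mem, rfl⟩
    · intro k hk
      rw [testBit_bset] at hk
      simp only [Nat.zero_testBit, Bool.false_or, decide_eq_true_eq] at hk
      subst hk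
      exact ⟨1, (pstab T Γ fixed).one_mem, rfl⟩
  -- the transversal
  have hch : ∀ k : {k : Fin T.n // L.B.testBit k.val = true},
      ∃ σ ∈ pstab T Γ fixed, σ b' = k.1 := by
    intro k
    obtain ⟨σ, hσ, hv⟩ := hreach k.1.val k.2
    exact ⟨σ, hσ, Fin.ext hv⟩
  choose u hu hub using hch
  have hle : pstab T Γ (L.b :: fixed) ≤ pstab T Γ fixed := by
    intro σ hσ
    exact ⟨hσ.1, fun c hc hcn => hσ.2 c (List.mem_cons_of_mem _ hc) hcn⟩
  have hfixb : ∀ σ ∈ pstab T Γ (L.b :: fixed), σ b' = b' := by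
    intro σ hσ
    exact hσ.2 L.b (List.mem_cons_self ..) hL.hb
  let f : {k : Fin T.n // L.B.testBit k.val = true} × pstab T Γ (L.b :: fixed) →
      pstab T Γ fixed := fun x =>
    ⟨u x.1 * x.2.1, (pstab T Γ fixed).mul_mem (hu x.1) (hle x.2.2)⟩
  have hf : Function.Injective f := by
    rintro ⟨k, s⟩ ⟨k', s'⟩ hkk
    have hval : u k * s.1 = u k' * s'.1 := congrArg Subtype.val hkk
    have hk : k = k' := by
      apply Subtype.ext
      have := congrArg (fun σ : Equiv.Perm (Fin T.n) => σ b') hval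
      simp only [Equiv.Perm.mul_apply] at this
      rw [hfixb s.1 s.2, hfixb s'.1 s'.2, hub, hub] at this
      exact this
    subst hk
    have hs : s.1 = s'.1 := mul_left_cancel hval
    rw [Subtype.ext hs]
  have hcard := Nat.card_le_card_of_injective f hf
  rw [Nat.card_prod] at hcard
  have hcnt : Nat.card {k : Fin T.n // L.B.testBit k.val = true} = L.m := by
    have h1 := ncard_testBit L.B T.n
    rw [hL.hcnt] at h1
    rw [← h1]
    exact (Nat.card_coe_set_eq {b : Fin T.n | L.B.testBit b.val = true})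
  rw [hcnt] at hcard
  exact hcard

/-- **the order is at least the product of the orbit lengths** -/
theorem chainProd_le {Γ : Subgroup (Equiv.Perm (Fin T.n))}
    (hΓ : ∀ x, x < T.g → T.perm h x ∈ Γ) : ∀ (Ls : List Level) (fixed : List ℕ),
      ChainOK T fixed Ls → chainProd Ls ≤ Nat.card (pstab T Γ fixed)
  | [], fixed, _ => by
    rw [chainProd]
    exact Nat.card_pos
  | L :: Ls, fixed, hc => by
    cases hc with
    | cons hL hLs =>
      rw [chainProd]
      exact (Nat.mul_le_mul_left _ (chainProd_le hΓ Ls (L.b :: fixed) hLs)).trans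
        (card_pstab_ge h hΓ hL)

theorem chainProd_le_card {Γ : Subgroup (Equiv.Perm (Fin T.n))}
    (hΓ : ∀ x, x < T.g → T.perm h x ∈ Γ) {Ls : List Level} (hc : ChainOK T [] Ls) :
    chainProd Ls ≤ Nat.card Γ := by
  have := chainProd_le h hΓ Ls [] hc
  rwa [pstab_nil] at this

end

end Cfsg.Agent.Lib.Helper6.Simp

end
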