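import Cfsg.Agent.Lib.Helper6.SimpCrit
import Cfsg.Agent.Lib.Helper6.SimpLB
import Cfsg.Agent.Lib.Helper6.SimpUB
import Cfsg.Agent.Lib.Helper6.TCRel3

/-! # Simplicity and order of a presented group from a coset enumeration and certificates -/

set_option autoImplicit false

noncomputable section

namespace Cfsg.Agent.Lib.Helper6.Simp

open Cfsg.Agent.Lib.Helper6.TC Cfsg.Agent.Lib.Helper6.NatArr Cfsg.Spor

section

variable {α : Type} [DecidableEq α] {edges : List (α × ℕ × α)} {extra : List (FreeGroup α)}
  {S : Set (FreeGroup α)} (D : CoxData edges extra S)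

/-- the element of the group of a word -/
def wordG (w : List ℕ) : CoxPresented α edges extra :=
  (w.map fun y => (PresentedGroup.of (D.gen y) : CoxPresented α edges extra)).prod

theorem ρ_of_gen {x : ℕ} (hx : x < D.c.g) :
    D.cert.ρ (PresentedGroup.of (D.gen x)) = D.T.perm D.chk_tab x := by
  rw [D.cert.ρ_of]
  exact D.cert.f_gen hx

theorem ρ_wordG {w : List ℕ} (hw : ∀ x ∈ w, x < D.c.g) :
    D.cert.ρ (wordG D w) = (w.map (D.T.perm D.chk_tab)).prod := by
  unfold wordG
  rw [map_list_prod, List.map_map]
  congr 1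
  apply List.map_congr_left
  intro x hx
  exact ρ_of_gen D (hw x hx)

/-- **simplicity and order** -/
theorem simple_card {N : ℕ}
    (hub : Finite (CoxPresented α edges extra) ∧ Nat.card (CoxPresented α edges extra) ≤ N)
    (Ls : List Level) (hchain : ChainOK D.T [] Ls) (hprod : chainProd Ls = N)
    {r : ℕ} (orbs : Fin r → D.Orb) (s : Fin r → ℕ) (hs : ∀ i, cnt (orbs i).B D.T.n = s i)
    (hcover : ∀ b, b < D.T.n → b = 0 ∨ ∃ i, (orbs i).B.testBit b = true)
    (hdisj : ∀ i j, i ≠ j → Nat.land (orbs i).B (orbs j).B = 0)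
    (ho : ∀ i, (orbs i).B.testBit 0 = false)
    (harith : ∀ I : Finset (Fin r), I.Nonempty → (1 + ∑ i ∈ I, s i) ∣ D.T.n →
      1 + ∑ i ∈ I, s i = D.T.n)
    (p : ℕ) (hcop : (N / D.T.n).Coprime p)
    (us : List (List ℕ))
    (hpow : ∀ x, x < D.c.g → D.T.minOK (us.getD x []) p = true ∧
      D.T.minOK (x :: us.getD x []) p = true) (hn : 1 < D.T.n) :
    IsSimpleGroup (CoxPresented α edges extra) ∧ Nat.card (CoxPresented α edges extra) = N := by
  obtain ⟨hfin, hle⟩ := hub
  set ρ := D.cert.ρ with hρ
  have hΓ : ∀ x, x < D.T.g → D.T.perm D.chk_tab x ∈ ρ.range := by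
    intro x hx
    rw [D.hTg] at hx
    exact ⟨PresentedGroup.of (D.gen x), ρ_of_gen D hx⟩
  have hlow : N ≤ Nat.card ρ.range := by
    rw [← hprod]
    exact chainProd_le_card D.chk_tab hΓ hchain
  have hsurj : Function.Surjective ρ.rangeRestrict := ρ.rangeRestrict_surjective
  have hbij : Function.Bijective ρ.rangeRestrict :=
    hsurj.bijective_of_nat_card_le (hle.trans hlow)
  have hinj : Function.Injective ρ := by
    intro x y hxy
    apply hbij.1
    exact Subtype.ext hxy
  have hcard : Nat.card (CoxPresented α edges extra) = N :=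
    le_antisymm hle (hlow.trans (Nat.card_le_card_of_surjective _ hsurj))
  refine ⟨?_, hcard⟩
  -- a word whose power is a trivial permutation has trivial power in the group
  have hword : ∀ w : List ℕ, D.T.minOK w p = true → (wordG D w) ^ p = 1 := by
    intro w hw
    obtain ⟨hl, hp⟩ := Tab.pow_eq_one_of_minOK D.chk_tab hw
    apply hinj
    rw [map_one, map_pow, hρ, ρ_wordG D (fun x hx => by rw [← D.hTg]; exact hl x hx)]
    exact hp
  have hgen : Subgroup.closure {g : CoxPresented α edges extra | g ^ p = 1} = ⊤ := by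
    rw [eq_top_iff, ← PresentedGroup.closure_range_of, Subgroup.closure_le]
    rintro _ ⟨a, rfl⟩
    obtain ⟨hca, hga⟩ := D.hcode a
    set x := D.code a with hx
    have h1 := hword _ (hpow x hca).1
    have h2 := hword _ (hpow x hca).2
    unfold wordG at h1 h2
    rw [List.map_cons, List.prod_cons, hga] at h2
    set U := ((us.getD x []).map fun y =>
      (PresentedGroup.of (D.gen y) : CoxPresented α edges extra)).prod with hU
    have : (PresentedGroup.of a : CoxPresented α edges extra) =
        (PresentedGroup.of a * U) * U⁻¹ := by group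
    rw [this]
    apply Subgroup.mul_mem
    · exact Subgroup.subset_closure h2
    · apply Subgroup.inv_mem
      exact Subgroup.subset_closure h1
  have hNn : (Nat.card (CoxPresented α edges extra) / D.T.n).Coprime p := by
    rw [hcard]
    exact hcop
  refine isSimpleGroup_of_cert ρ hinj D.cert.o D.cert.trans D.cert.H D.cert.fix
    (fun i => {b : Fin D.T.n | (orbs i).B.testBit b.val = true}) ?_ ?_ ?_ ?_ s ?_ harith p hNn
    hgen hn
  · intro i
    exact ⟨⟨(orbs i).a, (orbs i).ha⟩, ((orbs i).cert.img_eq).symm⟩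
  · intro b
    rcases hcover b.val b.isLt with hb | ⟨i, hi⟩
    · left
      exact Fin.ext hb
    · right
      exact ⟨i, hi⟩
  · intro i j hij b hbi hbj
    have h1 : (Nat.land (orbs i).B (orbs j).B).testBit b.val = true := by
      show ((orbs i).B &&& (orbs j).B).testBit b.val = true
      rw [Nat.testBit_and, Bool.and_eq_true]
      exact ⟨hbi, hbj⟩
    rw [hdisj i j hij] at h1
    simp at h1
  · intro i hi
    have h1 : (orbs i).B.testBit 0 = true := hi
    rw [ho i] at h1
    exact Bool.false_ne_true h1
  · intro i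
    rw [← hs i]
    exact ncard_testBit _ _

end

end Cfsg.Agent.Lib.Helper6.Simp

end
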