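import Mathlib

/-!
# Simplicity of a primitive group with a simple point stabiliser
-/

set_option autoImplicit false

namespace Cfsg.Agent.Lib.Helper6.SimpleAct

open MulAction
open scoped Pointwise

variable {G : Type*} [Group G] {X : Type*} [MulAction G X]

/-- the cardinality of a union of pairwise disjoint sets of known cardinalities -/
theorem ncard_biUnion_eq [Finite X] {m : ℕ} (O : Fin m → Set X) (s : Fin m → ℕ)
    (hs : ∀ i, (O i).ncard = s i) (hdisj : ∀ i j, i ≠ j → Disjoint (O i) (O j)) (I : Finset (Fin m)) :
    (⋃ i ∈ I, O i).ncard = ∑ i ∈ I, s i := by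
  classical
  induction I using Finset.induction_on with
  | empty => simp
  | insert j I hj ih =>
    rw [Finset.set_biUnion_insert, Finset.sum_insert hj, Set.ncard_union_eq ?_ (Set.toFinite _) (Set.toFinite _),
      ih, hs]
    rw [Set.disjoint_iUnion₂_right]
    intro i hi
    exact hdisj j i (fun h => hj (h ▸ hi))

/-- **Primitivity from the lengths of the orbits of a point stabiliser.** -/
theorem isPreprimitive_of_suborbits [Finite X] [IsPretransitive G X] (a : X) {m : ℕ}
    (y : Fin m → X) (s : Fin m → ℕ)
    (hs : ∀ i, (orbit (stabilizer G a) (y i)).ncard = s i)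
    (hcover : ∀ x : X, x = a ∨ ∃ i, x ∈ orbit (stabilizer G a) (y i))
    (hsne : ∀ i j, i ≠ j → s i ≠ s j) (hs1 : ∀ i, s i ≠ 1)
    (n : ℕ) (hn : Nat.card X = n)
    (hcheck : ∀ I : Finset (Fin m), (1 + ∑ i ∈ I, s i) ∣ n → I = ∅ ∨ I = Finset.univ) :
    IsPreprimitive G X := by
  classical
  apply IsPreprimitive.of_isTrivialBlock_base a
  intro B haB hB
  set H := stabilizer G a with hH
  set O : Fin m → Set X := fun i => orbit H (y i) with hO
  -- the point stabiliser preserves the block
  have hinv : ∀ h : H, ∀ x ∈ B, h • x ∈ B := by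
    intro h x hx
    have h1 : (h : G) • B = B := hB.stabilizer_le haB h.2
    have : (h : G) • x ∈ (h : G) • B := Set.smul_mem_smul_set hx
    rw [h1] at this
    exact this
  have hanot : ∀ i, a ∉ O i := by
    rintro i ⟨h, hh⟩
    have h2 : y i = a := by
      have : h⁻¹ • (h • y i) = h⁻¹ • a := congrArg (fun z => h⁻¹ • z) hh
      rw [inv_smul_smul] at this
      rw [this]
      exact (h⁻¹).2
    have h3 : O i = {a} := by
      ext z
      simp only [hO, Set.mem_singleton_iff]
      constructor
      · rintro ⟨k, rfl⟩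
        rw [h2]; exact k.2
      · rintro rfl
        rw [h2]; exact mem_orbit_self _
    have := hs i
    rw [show orbit H (y i) = O i from rfl, h3, Set.ncard_singleton] at this
    exact hs1 i this.symm
  have hdisj : ∀ i j, i ≠ j → Disjoint (O i) (O j) := by
    intro i j hij
    rcases orbit.eq_or_disjoint (G := H) (y i) (y j) with h | h
    · exfalso
      apply hsne i j hij
      rw [← hs i, ← hs j, h]
    · exact h
  let I : Finset (Fin m) := Finset.univ.filter (fun i => y i ∈ B)
  have hBeq : B = insert a (⋃ i ∈ I, O i) := by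
    ext x
    simp only [Set.mem_insert_iff, Set.mem_iUnion, exists_prop, I, Finset.mem_filter, Finset.mem_univ, true_and]
    constructor
    · intro hx
      rcases hcover x with rfl | ⟨i, hi⟩
      · left; rfl
      · right
        refine ⟨i, ?_, hi⟩
        obtain ⟨h, rfl⟩ := hi
        have := hinv h⁻¹ _ hx
        rwa [inv_smul_smul] at this
    · rintro (rfl | ⟨i, hi, h, rfl⟩)
      · exact haB
      · exact hinv h _ hi
  have hcard : B.ncard = 1 + ∑ i ∈ I, s i := by
    rw [hBeq, Set.ncard_insert_of_notMem ?_ (Set.toFinite _), ncard_biUnion_eq O s hs hdisj, add_comm]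
    simp only [Set.mem_iUnion, not_exists]
    intro i _ hi
    exact hanot i hi
  have hdvd : B.ncard ∣ n := hn ▸ hB.ncard_dvd_card ⟨a, haB⟩
  rw [hcard] at hdvd
  rcases hcheck I hdvd with h | h
  · left
    rw [hBeq, h]
    simp
  · right
    rw [hBeq, h]
    ext x
    simp only [Set.mem_insert_iff, Set.mem_iUnion, Finset.mem_univ, exists_true_left, Set.mem_univ, iff_true]
    exact hcover x

/-- orbit-stabiliser for a subgroup acting transitively -/
theorem card_subgroup_eq [Finite X] (N : Subgroup G) [IsPretransitive N X] (a : X) :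
    Nat.card N = Nat.card X * Nat.card (N ⊓ stabilizer G a : Subgroup G) := by
  rw [Subgroup.card_eq_card_quotient_mul_card_subgroup (stabilizer N a)]
  congr 1
  · rw [← Nat.card_congr (orbitEquivQuotientStabilizer N a), orbit_eq_univ, Nat.card_coe_set_eq, Set.ncard_univ]
  · apply Nat.card_congr
    refine ⟨fun k => ⟨k.1.1, ⟨k.1.2, k.2⟩⟩, fun k => ⟨⟨k.1, k.2.1⟩, k.2.2⟩, fun k => rfl, fun k => rfl⟩

/-- **A primitive group with a simple point stabiliser and no regular normal subgroup is simple.** -/
theorem isSimpleGroup_of_preprimitive [Finite G] [Finite X] [IsPreprimitive G X] (a : X)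
    (hH : IsSimpleGroup (stabilizer G a))
    (hmove : ∃ h ∈ stabilizer G a, ∃ x : X, h • x ≠ x)
    (hreg : ∀ K : Subgroup G, K.Normal → Nat.card K = Nat.card X →
      ∃ C : Subgroup G, C.Normal ∧ C ≤ K ∧ C ≠ ⊥ ∧ C ≠ K) :
    IsSimpleGroup G := by
  set H := stabilizer G a with hHdef
  have : Nontrivial G := by
    obtain ⟨h, -, x, hx⟩ := hmove
    refine ⟨⟨h, 1, ?_⟩⟩
    rintro rfl
    exact hx (one_smul _ _)
  -- a normal subgroup meets the point stabiliser trivially or contains it
  have hmeet : ∀ N : Subgroup G, N.Normal → N ⊓ H = ⊥ ∨ H ≤ N := by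
    intro N hN
    have hn : (N.subgroupOf H).Normal := Subgroup.Normal.subgroupOf hN H
    rcases hH.eq_bot_or_eq_top_of_normal _ hn with h | h
    · left
      rw [Subgroup.subgroupOf_eq_bot] at h
      exact disjoint_iff.mp h
    · right
      exact Subgroup.subgroupOf_eq_top.mp h
  -- the action is faithful
  have hfaith : ∀ g : G, (∀ x : X, g • x = x) → g = 1 := by
    let K0 : Subgroup G := (MulAction.toPermHom G X).ker
    have hK0 : ∀ g, g ∈ K0 ↔ ∀ x : X, g • x = x := by
      intro g
      rw [MonoidHom.mem_ker]
      constructor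
      · intro h x
        have := congrArg (fun e : Equiv.Perm X => e x) h
        simpa using this
      · intro h
        ext x
        simpa using h x
    have hle : K0 ≤ H := fun g hg => (hK0 g).mp hg a
    rcases hmeet K0 (MonoidHom.normal_ker _) with h | h
    · intro g hg
      have : g ∈ K0 ⊓ H := ⟨(hK0 g).mpr hg, hle ((hK0 g).mpr hg)⟩
      rw [h] at this
      exact Subgroup.mem_bot.mp this
    · exfalso
      obtain ⟨k, hk, x, hx⟩ := hmove
      exact hx ((hK0 k).mp (h hk) x)
  -- nontrivial normal subgroups are transitive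
  have htr : ∀ N : Subgroup G, N.Normal → N ≠ ⊥ → IsPretransitive N X := by
    intro N hN hne
    have := hN
    refine IsQuasiPreprimitive.isPretransitive_of_normal (G := G) (X := X) ?_
    intro hfix
    apply hne
    rw [Subgroup.eq_bot_iff_forall]
    intro g hg
    apply hfaith
    intro x
    have : x ∈ fixedPoints N X := by rw [hfix]; exact Set.mem_univ x
    exact this ⟨g, hg⟩
  refine ⟨fun N hN => ?_⟩
  by_cases hne : N = ⊥
  · left; exact hne
  right
  have := htr N hN hne
  rcases hmeet N hN with h | h
  · -- the regular case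
    exfalso
    have hcN : Nat.card N = Nat.card X := by
      rw [card_subgroup_eq N a, h, Subgroup.card_bot, mul_one]
    obtain ⟨C, hCn, hCle, hCne, hCN⟩ := hreg N hN hcN
    have := htr C hCn hCne
    have hcC : Nat.card C = Nat.card X := by
      have : C ⊓ H = ⊥ := le_bot_iff.mp (h ▸ inf_le_inf_right H hCle)
      rw [card_subgroup_eq C a, this, Subgroup.card_bot, mul_one]
    apply hCN
    apply Subgroup.eq_of_le_of_card_ge hCle
    rw [hcC, hcN]
  · -- the point stabiliser is contained in the normal subgroup
    rw [Subgroup.eq_top_iff']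
    intro g
    obtain ⟨k, hk⟩ := exists_smul_eq N a (g • a)
    have h1 : (k : G)⁻¹ * g ∈ H := by
      show ((k : G)⁻¹ * g) • a = a
      rw [mul_smul, inv_smul_eq_iff]
      exact hk.symm
    have h2 := N.mul_mem k.2 (h h1)
    rwa [mul_inv_cancel_left] at h2

end Cfsg.Agent.Lib.Helper6.SimpleAct
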