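import Cfsg.Agent.Lib.Helper6.SimpleAct

/-!
# Simplicity of a primitive group with a simple point stabiliser: excluding regular normal subgroups
by counting prime divisors
-/

set_option autoImplicit false

namespace Cfsg.Agent.Lib.Helper6.SimpleAct

open MulAction
open scoped Pointwise

variable {G : Type*} [Group G] {X : Type*} [MulAction G X]

/-- A normal subgroup meeting a point stabiliser trivially has at most as many prime divisors as the
point stabiliser has orbits away from the point. -/
theorem no_semiregular_normal [Finite G] (a : X) (N : Subgroup G) [hN : N.Normal]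
    (hNa : N ⊓ stabilizer G a = ⊥) {m : ℕ} (y : Fin m → X)
    (hcover : ∀ x : X, x = a ∨ ∃ i, x ∈ orbit (stabilizer G a) (y i))
    (P : Finset ℕ) (hP : ∀ p ∈ P, p.Prime ∧ p ∣ Nat.card N) (hPm : m < P.card) : False := by
  classical
  -- elements of prime order
  have hex : ∀ p ∈ P, ∃ n : G, n ∈ N ∧ orderOf n = p := by
    intro p hp
    have : Fact p.Prime := ⟨(hP p hp).1⟩
    obtain ⟨x, hx⟩ := exists_prime_orderOf_dvd_card' (G := N) p (hP p hp).2
    refine ⟨x.1, x.2, ?_⟩
    rw [← hx]
    exact (Subgroup.orderOf_coe x)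
  choose! n hnN hno using hex
  have hmove : ∀ p ∈ P, n p • a ≠ a := by
    intro p hp hfix
    have h1 : n p ∈ N ⊓ stabilizer G a := ⟨hnN p hp, hfix⟩
    rw [hNa, Subgroup.mem_bot] at h1
    have h2 := hno p hp
    rw [h1, orderOf_one] at h2
    exact (hP p hp).1.one_lt.ne h2
  have hidx : ∀ p ∈ P, ∃ i, n p • a ∈ orbit (stabilizer G a) (y i) := by
    intro p hp
    rcases hcover (n p • a) with h | h
    · exact absurd h (hmove p hp)
    · exact h
  have hnonempty : Nonempty (Fin m) := by
    obtain ⟨p0, hp0⟩ : P.Nonempty := Finset.card_pos.mp (by omega)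
    obtain ⟨i, _⟩ := hidx p0 hp0
    exact ⟨i⟩
  choose! idx hidx using hidx
  have hcard : (Finset.univ : Finset (Fin m)).card < P.card := by
    rw [Finset.card_univ, Fintype.card_fin]; exact hPm
  obtain ⟨p, hp, q, hq, hpq, hi⟩ := Finset.exists_ne_map_eq_of_card_lt_of_maps_to hcard
    (f := idx) (fun p _ => Finset.mem_coe.mpr (Finset.mem_univ _))
  -- the two elements are conjugate under the point stabiliser
  have h1 := hidx p hp
  have h2 := hidx q hq
  rw [hi] at h1
  have h3 : n q • a ∈ orbit (stabilizer G a) (n p • a) := by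
    rw [orbit_eq_iff.mpr h1]; exact h2
  obtain ⟨h, hh⟩ := h3
  have hh' : (h : G) • n p • a = n q • a := hh
  have hha : (h : G)⁻¹ • a = a := by
    rw [inv_smul_eq_iff]; exact h.2.symm
  have h4 : ((h : G) * n p * (h : G)⁻¹) • a = n q • a := by
    rw [mul_smul, mul_smul, hha]; exact hh'
  have h5 : (n q)⁻¹ * ((h : G) * n p * (h : G)⁻¹) ∈ N ⊓ stabilizer G a := by
    refine ⟨N.mul_mem (N.inv_mem (hnN q hq)) (hN.conj_mem _ (hnN p hp) _), ?_⟩
    show ((n q)⁻¹ * ((h : G) * n p * (h : G)⁻¹)) • a = a
    rw [mul_smul, h4, inv_smul_smul]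
  rw [hNa, Subgroup.mem_bot, inv_mul_eq_one] at h5
  have h6 : orderOf (n q) = orderOf (n p) := by
    rw [h5]
    exact ((SemiconjBy.conj_mk (h : G) (n p)).orderOf_eq _).symm
  rw [hno p hp, hno q hq] at h6
  exact hpq h6.symm

/-- **A primitive group with a simple point stabiliser, whose degree has more prime divisors than the
point stabiliser has further orbits, is simple.** -/
theorem isSimpleGroup_of_preprimitive_primes [Finite G] [Finite X] [IsPreprimitive G X] (a : X)
    (hH : IsSimpleGroup (stabilizer G a))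
    (hmove : ∃ h ∈ stabilizer G a, ∃ x : X, h • x ≠ x)
    {m : ℕ} (y : Fin m → X)
    (hcover : ∀ x : X, x = a ∨ ∃ i, x ∈ orbit (stabilizer G a) (y i))
    (P : Finset ℕ) (hP : ∀ p ∈ P, p.Prime ∧ p ∣ Nat.card X) (hPm : m < P.card) :
    IsSimpleGroup G := by
  set H := stabilizer G a with hHdef
  have : Nontrivial G := by
    obtain ⟨h, -, x, hx⟩ := hmove
    refine ⟨⟨h, 1, ?_⟩⟩
    rintro rfl
    exact hx (one_smul _ _)
  -- a normal subgroup meets the point stabiliser trivially or contains it
  have hmeet : ∀ N : Subgroup G, N.Normal → N ⊓ H = ⊥ ∨ H ≤ N := by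
    intro N hN
    have hn : (N.subgroupOf H).Normal := Subgroup.Normal.subgroupOf hN H
    rcases hH.eq_bot_or_eq_top_of_normal _ hn with h | h
    · left
      rw [Subgroup.subgroupOf_eq_bot] at h
      exact disjoint_iff.mp h
    · right
      exact Subgroup.subgroupOf_eq_top.mp h
  -- the action is faithful
  have hfaith : ∀ g : G, (∀ x : X, g • x = x) → g = 1 := by
    let K0 : Subgroup G := (MulAction.toPermHom G X).ker
    have hK0 : ∀ g, g ∈ K0 ↔ ∀ x : X, g • x = x := by
      intro g
      rw [MonoidHom.mem_ker]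
      constructor
      · intro h x
        have := congrArg (fun e : Equiv.Perm X => e x) h
        simpa using this
      · intro h
        ext x
        simpa using h x
    have hle : K0 ≤ H := fun g hg => (hK0 g).mp hg a
    rcases hmeet K0 (MonoidHom.normal_ker _) with h | h
    · intro g hg
      have : g ∈ K0 ⊓ H := ⟨(hK0 g).mpr hg, hle ((hK0 g).mpr hg)⟩
      rw [h] at this
      exact Subgroup.mem_bot.mp this
    · exfalso
      obtain ⟨k, hk, x, hx⟩ := hmove
      exact hx ((hK0 k).mp (h hk) x)
  -- nontrivial normal subgroups are transitive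
  have htr : ∀ N : Subgroup G, N.Normal → N ≠ ⊥ → IsPretransitive N X := by
    intro N hN hne
    have := hN
    refine IsQuasiPreprimitive.isPretransitive_of_normal (G := G) (X := X) ?_
    intro hfix
    apply hne
    rw [Subgroup.eq_bot_iff_forall]
    intro g hg
    apply hfaith
    intro x
    have : x ∈ fixedPoints N X := by rw [hfix]; exact Set.mem_univ x
    exact this ⟨g, hg⟩
  refine ⟨fun N hN => ?_⟩
  by_cases hne : N = ⊥
  · left; exact hne
  right
  have := htr N hN hne
  rcases hmeet N hN with h | h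
  · -- the regular case
    exfalso
    have hcN : Nat.card N = Nat.card X := by
      rw [card_subgroup_eq N a, h, Subgroup.card_bot, mul_one]
    exact no_semiregular_normal a N h y hcover P (fun p hp => by rw [hcN]; exact hP p hp) hPm
  · -- the point stabiliser is contained in the normal subgroup
    rw [Subgroup.eq_top_iff']
    intro g
    obtain ⟨k, hk⟩ := exists_smul_eq N a (g • a)
    have h1 : (k : G)⁻¹ * g ∈ H := by
      show ((k : G)⁻¹ * g) • a = a
      rw [mul_smul, inv_smul_eq_iff]
      exact hk.symm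
    have h2 := N.mul_mem k.2 (h h1)
    rwa [mul_inv_cancel_left] at h2

/-- **Simplicity from the sub-orbit lengths, a simple point stabiliser and a count of prime divisors.** -/
theorem isSimpleGroup_of_suborbits_primes [Finite G] [Finite X] [IsPretransitive G X] (a : X)
    (hH : IsSimpleGroup (stabilizer G a))
    {m : ℕ} (y : Fin m → X) (s : Fin m → ℕ)
    (hs : ∀ i, (orbit (stabilizer G a) (y i)).ncard = s i)
    (hcover : ∀ x : X, x = a ∨ ∃ i, x ∈ orbit (stabilizer G a) (y i))
    (hsne : ∀ i j, i ≠ j → s i ≠ s j) (hs1 : ∀ i, s i ≠ 1) (hm : 0 < m)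
    (n : ℕ) (hn : Nat.card X = n)
    (hcheck : ∀ I : Finset (Fin m), (1 + ∑ i ∈ I, s i) ∣ n → I = ∅ ∨ I = Finset.univ)
    (P : Finset ℕ) (hP : ∀ p ∈ P, p.Prime ∧ p ∣ n) (hPm : m < P.card) :
    IsSimpleGroup G := by
  have : IsPreprimitive G X := isPreprimitive_of_suborbits a y s hs hcover hsne hs1 n hn hcheck
  refine isSimpleGroup_of_preprimitive_primes a hH ?_ y hcover P (fun p hp => by rw [hn]; exact hP p hp) hPm
  by_contra hno
  push Not at hno
  have : orbit (stabilizer G a) (y ⟨0, hm⟩) = {y ⟨0, hm⟩} := by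
    ext z
    constructor
    · rintro ⟨k, rfl⟩
      exact hno k.1 k.2 _
    · rintro rfl
      exact mem_orbit_self _
  have h1 := hs ⟨0, hm⟩
  rw [this, Set.ncard_singleton] at h1
  exact hs1 _ h1.symm

end Cfsg.Agent.Lib.Helper6.SimpleAct
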