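import Mathlib
import Cfsg.Prelude.Def_Classical
import Cfsg.Agent.Lib.Helper8.SUTransport

/-! # Transport of the symplectic groups and their quotients by the centre along an isomorphism of
fields, and scalar symplectic matrices are central -/

set_option autoImplicit false

namespace Cfsg.Agent.Lib.Helper6.SpTransport

open Matrix Cfsg

variable {K L : Type*} [Field K] [Field L] (e : K ≃+* L) (m : ℕ)

/-- `Sp_{2m}(K) ≃* Sp_{2m}(L)` -/
def spEquiv : symplecticGroup (Fin m) K ≃* symplecticGroup (Fin m) L where
  toFun A := ⟨A.1.map e, SymplecticGroup.map_mem A.2 e⟩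
  invFun B := ⟨B.1.map e.symm, SymplecticGroup.map_mem B.2 e.symm⟩
  left_inv A := by
    apply Subtype.ext
    ext i j
    simp
  right_inv B := by
    apply Subtype.ext
    ext i j
    simp
  map_mul' A B := by
    apply Subtype.ext
    exact Matrix.map_mul

/-- `PSp_{2m}(K) ≃* PSp_{2m}(L)` -/
def pspEquiv : PSp m K ≃* PSp m L :=
  QuotientGroup.congr _ _ (spEquiv e m)
    (Cfsg.Agent.Lib.Helper8.SUTransport.map_center (spEquiv e m))

/-- scalar symplectic matrices are central -/
theorem scalar_mem_center (z : symplecticGroup (Fin m) K) (c : K)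
    (hz : (z : Matrix (Fin m ⊕ Fin m) (Fin m ⊕ Fin m) K) = c • 1) :
    z ∈ Subgroup.center (symplecticGroup (Fin m) K) := by
  rw [Subgroup.mem_center_iff]
  intro g
  apply Subtype.ext
  show (g : Matrix (Fin m ⊕ Fin m) (Fin m ⊕ Fin m) K) * z = z * g
  rw [hz]
  simp

end Cfsg.Agent.Lib.Helper6.SpTransport
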