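import Mathlib
import Cfsg.Agent.Lib.Helper6.Steiner11Data

/-! Pieces of the exhaustive search (generated). -/

set_option autoImplicit false
set_option maxRecDepth 1000000

namespace Cfsg.Agent.Lib.Helper6.Steiner11

open Cfsg Cfsg.Agent.Lib.Helper6.SteinerSearch

theorem piece_0 : search 11 (leafCheck 11 W B0) (allQ.drop 38)
    [557, 1219, 803, 1299, 595, 179, 651, 331, 1067, 1543, 391, 103, 31] = true := by
  decide +kernel

theorem piece_2 : search 11 (leafCheck 11 W B0) (allQ.drop 38)
    [173, 1219, 803, 1299, 595, 179, 651, 331, 1067, 1543, 391, 103, 31] = true := by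
  decide +kernel

theorem piece_4 : search 11 (leafCheck 11 W B0) (allQ.drop 38)
    [301, 1347, 675, 1171, 595, 307, 779, 203, 1067, 1543, 391, 103, 31] = true := by
  decide +kernel

theorem piece_6 : search 11 (leafCheck 11 W B0) (allQ.drop 38)
    [1069, 707, 1315, 787, 1107, 179, 1163, 331, 555, 1543, 391, 103, 31] = true := by
  decide +kernel

theorem piece_8 : search 11 (leafCheck 11 W B0) (allQ.drop 38)
    [173, 707, 1315, 787, 1107, 179, 1163, 331, 555, 1543, 391, 103, 31] = true := by
  decide +kernel

theorem piece_10 : search 11 (leafCheck 11 W B0) (allQ.drop 38)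
    [301, 835, 1187, 659, 1107, 307, 1291, 203, 555, 1543, 391, 103, 31] = true := by
  decide +kernel

theorem piece_12 : search 11 (leafCheck 11 W B0) (allQ.drop 38)
    [1069, 835, 1187, 1299, 211, 563, 651, 1099, 299, 1543, 391, 103, 31] = true := by
  decide +kernel

theorem piece_14 : search 11 (leafCheck 11 W B0) (allQ.drop 38)
    [173, 835, 1187, 1299, 211, 563, 651, 1099, 299, 1543, 391, 103, 31] = true := by
  decide +kernel

theorem piece_16 : search 11 (leafCheck 11 W B0) (allQ.drop 38)
    [557, 1347, 675, 787, 211, 1075, 1163, 587, 299, 1543, 391, 103, 31] = true := by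
  decide +kernel

theorem piece_18 : search 11 (leafCheck 11 W B0) (allQ.drop 38)
    [1069, 707, 1315, 1171, 339, 563, 779, 1099, 171, 1543, 391, 103, 31] = true := by
  decide +kernel

theorem piece_20 : search 11 (leafCheck 11 W B0) (allQ.drop 38)
    [301, 707, 1315, 1171, 339, 563, 779, 1099, 171, 1543, 391, 103, 31] = true := by
  decide +kernel

theorem piece_22 : search 11 (leafCheck 11 W B0) (allQ.drop 38)
    [557, 1219, 803, 659, 339, 1075, 1291, 587, 171, 1543, 391, 103, 31] = true := by
  decide +kernel

end Cfsg.Agent.Lib.Helper6.Steiner11
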