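import Mathlib
import Cfsg.Agent.Lib.Helper6.Steiner12Data

/-! Pieces of the exhaustive search (generated). -/

set_option autoImplicit false
set_option maxRecDepth 1000000

namespace Cfsg.Agent.Lib.Helper6.Steiner12

open Cfsg Cfsg.Agent.Lib.Helper6.SteinerSearch

theorem piece_2 : search 12 (leafCheck 12 W B0) (allQ.drop 38)
    [347, 2439, 1607, 2599, 1191, 359, 1303, 663, 2135, 3087, 783, 207, 63] = true := by
  decide +kernel

theorem piece_6 : search 12 (leafCheck 12 W B0) (allQ.drop 38)
    [2139, 1415, 2631, 1575, 2215, 359, 2327, 663, 1111, 3087, 783, 207, 63] = true := by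
  decide +kernel

theorem piece_10 : search 12 (leafCheck 12 W B0) (allQ.drop 38)
    [603, 1671, 2375, 1319, 2215, 615, 2583, 407, 1111, 3087, 783, 207, 63] = true := by
  decide +kernel

theorem piece_14 : search 12 (leafCheck 12 W B0) (allQ.drop 38)
    [347, 1671, 2375, 2599, 423, 1127, 1303, 2199, 599, 3087, 783, 207, 63] = true := by
  decide +kernel

theorem piece_18 : search 12 (leafCheck 12 W B0) (allQ.drop 38)
    [2139, 1415, 2631, 2343, 679, 1127, 1559, 2199, 343, 3087, 783, 207, 63] = true := by
  decide +kernel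

theorem piece_22 : search 12 (leafCheck 12 W B0) (allQ.drop 38)
    [1115, 2439, 1607, 1319, 679, 2151, 2583, 1175, 343, 3087, 783, 207, 63] = true := by
  decide +kernel

end Cfsg.Agent.Lib.Helper6.Steiner12
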