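import Mathlib
import Cfsg.Prelude.Def_Sporadic_a
import Cfsg.Agent.Lib.Helper6.Steiner12Data
import Cfsg.Agent.Lib.Helper6.Steiner12P0
import Cfsg.Agent.Lib.Helper6.Steiner12P1
import Cfsg.Agent.Lib.Helper6.Steiner12P2
import Cfsg.Agent.Lib.Helper6.Steiner12P3

/-! Uniqueness of the Steiner system `S(5, 6, 12)` on `Fin 12`. -/

set_option autoImplicit false
set_option maxRecDepth 1000000

namespace Cfsg.Agent.Lib.Helper6.Steiner12

open Cfsg Cfsg.Agent.Lib.Helper6.SteinerSearch

theorem hT : ∀ e ∈ T, search 12 (leafCheck 12 W B0) (allQ.drop e.1) e.2 = true := by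
  intro e he
  unfold T at he
  simp only [List.mem_cons, List.not_mem_nil, or_false] at he
  rcases he with rfl | rfl | rfl | rfl | rfl | rfl | rfl | rfl | rfl | rfl | rfl | rfl | rfl | rfl | rfl | rfl | rfl | rfl | rfl | rfl | rfl | rfl | rfl | rfl
  · exact piece_0
  · exact piece_1
  · exact piece_2
  · exact piece_3
  · exact piece_4
  · exact piece_5
  · exact piece_6
  · exact piece_7
  · exact piece_8
  · exact piece_9
  · exact piece_10
  · exact piece_11
  · exact piece_12
  · exact piece_13
  · exact piece_14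
  · exact piece_15
  · exact piece_16
  · exact piece_17
  · exact piece_18
  · exact piece_19
  · exact piece_20
  · exact piece_21
  · exact piece_22
  · exact piece_23

theorem hsearch : search 12 (leafCheck 12 W B0) allQ [783, 207, 63] = true :=
  searchD_sound 12 (leafCheck 12 W B0) allQ T hT allQ 10 0 _ rfl hsearchD

/-- strong uniqueness: every Steiner system on `Fin 12` is carried onto the reference system by a
permutation fixing the first `5` points -/
theorem unique_strong {B : Set (Finset (Fin 12))} (hB : IsSteinerSystem 5 6 B) :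
    GoalP 5 B B0 := by
  obtain ⟨σ1, hf1, _, hm1⟩ := wlog_step hB [] (by simp) (⟨5, by norm_num⟩ : Fin 12)
    (by simp) 31 (by norm_num) card1 chk1
  have hB1 := steiner_imgSys σ1 hB
  obtain ⟨σ2, hf2, hL2, hm2⟩ := wlog_step hB1 [63]
    (by intro p hp; rw [List.mem_singleton] at hp; rw [hp]; exact hm1)
    (⟨7, by norm_num⟩ : Fin 12)
    (by intro p hp; rw [List.mem_singleton] at hp; rw [hp]; norm_num) 79 (by norm_num) card2 chk2
  have hB2 := steiner_imgSys σ2 hB1
  have hm1' := hL2 63 (List.mem_singleton.2 rfl)
  obtain ⟨σ3, hf3, hL3, hm3⟩ := wlog_step hB2 [207, 63]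
    (by
      intro p hp
      simp only [List.mem_cons, List.not_mem_nil, or_false] at hp
      rcases hp with rfl | rfl
      · exact hm2
      · exact hm1')
    (⟨9, by norm_num⟩ : Fin 12)
    (by
      intro p hp
      simp only [List.mem_cons, List.not_mem_nil, or_false] at hp
      rcases hp with rfl | rfl <;> norm_num) 271 (by norm_num) card3 chk3
  have hB3 := steiner_imgSys σ3 hB2
  have hP : ∀ p ∈ [783, 207, 63], dec 12 p ∈ imgSys σ3 (imgSys σ2 (imgSys σ1 B)) := by
    intro p hp
    simp only [List.mem_cons, List.not_mem_nil, or_false] at hp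
    rcases hp with rfl | rfl | rfl
    · exact hm3
    · exact hL3 207 (by simp)
    · exact hL3 63 (by simp)
  have hgoal := search_sound hB3 (leafCheck 12 W B0) allQ _
    (leaf_goal hB3 W B0 allQ hW hallQ hB0card hB0lin) allQ _ hsearch hP
    (fun S hS => Or.inl hS) hQ
  refine goal_of_imgSys σ1 (fun i hi => hf1 i (by simp only; omega)) ?_
  refine goal_of_imgSys σ2 (fun i hi => hf2 i (by simp only; omega)) ?_
  exact goal_of_imgSys σ3 (fun i hi => hf3 i (by simp only; omega)) hgoal

end Cfsg.Agent.Lib.Helper6.Steiner12
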