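import Mathlib
import Cfsg.Prelude.Def_Sporadic_a
import Cfsg.Agent.Lib.Helper6.Steiner12
import Cfsg.Agent.Lib.Helper6.SteinerAut2

/-! The automorphism group of the reference `S(5, 6, 12)` is sharply `5`-transitive
(generated by scratch/py/steiner_emit_aut.py). -/

set_option autoImplicit false
set_option maxRecDepth 1000000

namespace Cfsg.Agent.Lib.Helper6.Steiner12

open Cfsg Cfsg.Agent.Lib.Helper6.SteinerSearch

/-- the ordered pairs of the matching -/
def pairs8 : List (ℕ × ℕ) := [(4, 5), (5, 4), (6, 7), (7, 6), (8, 9), (9, 8), (10, 11), (11, 10)]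

theorem mem_std : 63 ∈ B0 := by decide +kernel
theorem mem_b1 : 207 ∈ B0 := by decide +kernel
theorem mem_b2 : 783 ∈ B0 := by decide +kernel
theorem mem_b3 : 3087 ∈ B0 := by decide +kernel

theorem D0 : ∀ y < 12, lmem (pmask [0, 1, 2, 3, 4, y] 63 12) B0 = true → y = 5 := by
  decide +kernel

theorem D1_1 : ∀ y < 12, ∀ y' < 12,
    lmem (pmask [0, 1, 2, 3, 4, 5, y, y'] 207 12) B0 = true → pairs8.contains (y, y') = true := by
  decide +kernel

theorem D1_2 : ∀ y < 12, ∀ y' < 12,
    lmem (pmask [0, 1, 2, 3, 4, 5, 0, 0, y, y'] 783 12) B0 = true → pairs8.contains (y, y') = true := by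
  decide +kernel

theorem D1_3 : ∀ y < 12, ∀ y' < 12,
    lmem (pmask [0, 1, 2, 3, 4, 5, 0, 0, 0, 0, y, y'] 3087 12) B0 = true → pairs8.contains (y, y') = true := by
  decide +kernel

theorem D2 : ∀ a ∈ pairs8, ∀ b ∈ pairs8, ∀ c ∈ pairs8,
    B0.all (fun β => lmem (pmask [0, 1, 2, 3, 4, 5, a.1, a.2, b.1, b.2, c.1, c.2] β 12) B0) = true →
      a = (6, 7) ∧ b = (8, 9) ∧ c = (10, 11) := by
  decide +kernel

theorem steinerX : IsSteinerSystem 5 6 (B0set 12 B0) :=
  steiner_B0set B0 allQ hallQ hB0card hB0lin hB0cov

theorem hstd : ∀ g ∈ setSystemAut (B0set 12 B0), (∀ i : Fin 12, i.val < 5 → g i = i) → g = 1 := by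
  intro g hg hfix
  have hπ : ∀ i : Fin 12, ([(g 0).val, (g 1).val, (g 2).val, (g 3).val, (g 4).val, (g 5).val, (g 6).val, (g 7).val, (g 8).val, (g 9).val, (g 10).val, (g 11).val] : List ℕ).getD i.val 0 = (g i).val := by
    intro i; fin_cases i <;> rfl
  have F := lmem_pmask_of_aut B0 hB0lt g hg _ hπ
  have h0 : (g 0).val = 0 := by rw [hfix 0 (by decide)]; rfl
  have h1 : (g 1).val = 1 := by rw [hfix 1 (by decide)]; rfl
  have h2 : (g 2).val = 2 := by rw [hfix 2 (by decide)]; rfl
  have h3 : (g 3).val = 3 := by rw [hfix 3 (by decide)]; rfl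
  have h4 : (g 4).val = 4 := by rw [hfix 4 (by decide)]; rfl
  have hlt : ∀ i : Fin 12, (g i).val < 12 := fun i => (g i).2
  -- the point `5` is fixed
  have h5 : (g 5).val = 5 := by
    have := F 63 mem_std
    rw [pmask_congr (π' := [0, 1, 2, 3, 4, (g 5).val]) 12 (by
      intro i hi hb
      interval_cases i
      · exact h0
      · exact h1
      · exact h2
      · exact h3
      · exact h4
      · rfl
      · exact absurd hb (by decide)
      · exact absurd hb (by decide)
      · exact absurd hb (by decide)
      · exact absurd hb (by decide)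
      · exact absurd hb (by decide)
      · exact absurd hb (by decide))] at this
    exact D0 _ (hlt 5) this
  -- the pairs
  have p1 : ((g 6).val, (g 7).val) ∈ pairs8 := by
    have := F 207 mem_b1
    rw [pmask_congr (π' := [0, 1, 2, 3, 4, 5, (g 6).val, (g 7).val]) 12 (by
      intro i hi hb
      interval_cases i
      · exact h0
      · exact h1
      · exact h2
      · exact h3
      · exact absurd hb (by decide)
      · exact absurd hb (by decide)
      · rfl
      · rfl
      · exact absurd hb (by decide)
      · exact absurd hb (by decide)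
      · exact absurd hb (by decide)
      · exact absurd hb (by decide))] at this
    exact List.contains_iff_mem.1 (D1_1 _ (hlt 6) _ (hlt 7) this)
  have p2 : ((g 8).val, (g 9).val) ∈ pairs8 := by
    have := F 783 mem_b2
    rw [pmask_congr (π' := [0, 1, 2, 3, 4, 5, 0, 0, (g 8).val, (g 9).val]) 12 (by
      intro i hi hb
      interval_cases i
      · exact h0
      · exact h1
      · exact h2
      · exact h3
      · exact absurd hb (by decide)
      · exact absurd hb (by decide)
      · exact absurd hb (by decide)
      · exact absurd hb (by decide)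
      · rfl
      · rfl
      · exact absurd hb (by decide)
      · exact absurd hb (by decide))] at this
    exact List.contains_iff_mem.1 (D1_2 _ (hlt 8) _ (hlt 9) this)
  have p3 : ((g 10).val, (g 11).val) ∈ pairs8 := by
    have := F 3087 mem_b3
    rw [pmask_congr (π' := [0, 1, 2, 3, 4, 5, 0, 0, 0, 0, (g 10).val, (g 11).val]) 12 (by
      intro i hi hb
      interval_cases i
      · exact h0
      · exact h1
      · exact h2
      · exact h3
      · exact absurd hb (by decide)
      · exact absurd hb (by decide)
      · exact absurd hb (by decide)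
      · exact absurd hb (by decide)
      · exact absurd hb (by decide)
      · exact absurd hb (by decide)
      · rfl
      · rfl)] at this
    exact List.contains_iff_mem.1 (D1_3 _ (hlt 10) _ (hlt 11) this)
  have hall : B0.all (fun β => lmem (pmask [0, 1, 2, 3, 4, 5, ((g 6).val, (g 7).val).1, ((g 6).val, (g 7).val).2, ((g 8).val, (g 9).val).1, ((g 8).val, (g 9).val).2, ((g 10).val, (g 11).val).1, ((g 10).val, (g 11).val).2] β 12) B0) = true := by
    rw [List.all_eq_true]
    intro β hβ
    have := F β hβ
    rw [pmask_congr (π' := [0, 1, 2, 3, 4, 5, (g 6).val, (g 7).val, (g 8).val, (g 9).val, (g 10).val, (g 11).val]) 12 (by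
      intro i hi _
      interval_cases i
      · exact h0
      · exact h1
      · exact h2
      · exact h3
      · exact h4
      · exact h5
      · rfl
      · rfl
      · rfl
      · rfl
      · rfl
      · rfl)] at this
    exact this
  obtain ⟨e1, e2, e3⟩ := D2 _ p1 _ p2 _ p3 hall
  have q1 := (Prod.mk.inj e1).1
  have q2 := (Prod.mk.inj e1).2
  have q3 := (Prod.mk.inj e2).1
  have q4 := (Prod.mk.inj e2).2
  have q5 := (Prod.mk.inj e3).1
  have q6 := (Prod.mk.inj e3).2
  ext i
  fin_cases i
  · exact h0
  · exact h1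
  · exact h2
  · exact h3
  · exact h4
  · exact h5
  · exact q1
  · exact q2
  · exact q3
  · exact q4
  · exact q5
  · exact q6

end Cfsg.Agent.Lib.Helper6.Steiner12
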