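import Cfsg.Agent.Lib.Helper6.SteinerParams

/-!
# Steiner systems: blocks meeting a given block exactly in a given subset; the Leech triangle of
`S(5, 6, 12)`
-/

set_option autoImplicit false
set_option linter.unusedSectionVars false

namespace Cfsg.Agent.Lib.Helper6.Steiner

open Cfsg Finset

variable {α : Type*} [Fintype α] [DecidableEq α] {t k : ℕ} {B : Set (Finset α)}

/-- the number of blocks meeting `b` exactly in `u` -/
noncomputable def muE (B : Set (Finset α)) (b u : Finset α) : ℕ :=
  {c | c ∈ B ∧ b ∩ c = u}.ncard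

theorem muE_eq_card (b u : Finset α) :
    muE B b u = ((blocksF B).filter (fun c => b ∩ c = u)).card := by
  rw [muE, ncard_eq_card_filter]

/-- the blocks through `s ⊆ b`, sorted by their exact intersection with `b` -/
theorem through_eq_sum_exact {b s : Finset α} (hs : s ⊆ b) :
    ((blocksF B).filter (fun c => s ⊆ c)).card =
      ∑ u ∈ (b.powerset).filter (fun u => s ⊆ u), muE B b u := by
  classical
  have hmaps : ∀ c ∈ (blocksF B).filter (fun c => s ⊆ c),
      b ∩ c ∈ (b.powerset).filter (fun u => s ⊆ u) := by
    intro c hc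
    rw [mem_filter] at hc
    rw [mem_filter, mem_powerset]
    exact ⟨inter_subset_left, subset_inter hs hc.2⟩
  rw [card_eq_sum_card_fiberwise hmaps]
  apply sum_congr rfl
  intro u hu
  rw [mem_filter, mem_powerset] at hu
  rw [muE_eq_card, filter_filter]
  congr 1
  apply filter_congr
  intro c _
  constructor
  · rintro ⟨_, h⟩; exact h
  · intro h
    refine ⟨?_, h⟩
    rw [← h] at hu
    exact hu.2.trans inter_subset_right

/-- the same sum, sorted by the size of the intersection -/
theorem through_eq_sum_card {b s : Finset α} (hs : s ⊆ b) :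
    ((blocksF B).filter (fun c => s ⊆ c)).card =
      ∑ m ∈ range (b.card + 1), ∑ u ∈ (b.powersetCard m).filter (fun u => s ⊆ u), muE B b u := by
  classical
  rw [through_eq_sum_exact hs]
  have hmaps : ∀ u ∈ (b.powerset).filter (fun u => s ⊆ u), u.card ∈ range (b.card + 1) := by
    intro u hu
    rw [mem_filter, mem_powerset] at hu
    rw [mem_range, Nat.lt_succ_iff]
    exact card_le_card hu.1
  rw [← sum_fiberwise_of_maps_to hmaps]
  apply sum_congr rfl
  intro m _
  apply sum_congr _ (fun _ _ => rfl)
  ext u
  simp only [mem_filter, mem_powerset, mem_powersetCard]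
  tauto

theorem sum_between_const {b s : Finset α} (hsb : s ⊆ b) {m : ℕ} (hjm : s.card ≤ m)
    (f : Finset α → ℕ) (c : ℕ) (hf : ∀ u, u ⊆ b → u.card = m → s ⊆ u → f u = c) :
    ∑ u ∈ (b.powersetCard m).filter (fun u => s ⊆ u), f u =
      Nat.choose (b.card - s.card) (m - s.card) * c := by
  have : ∀ u ∈ (b.powersetCard m).filter (fun u => s ⊆ u), f u = c := by
    intro u hu
    rw [mem_filter, mem_powersetCard] at hu
    exact hf u hu.1.1 hu.1.2 hu.2
  rw [sum_congr rfl this, sum_const, card_between hsb hjm, smul_eq_mul]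

theorem sum_between_empty {b s : Finset α} {m : ℕ} (hm : m < s.card) (f : Finset α → ℕ) :
    ∑ u ∈ (b.powersetCard m).filter (fun u => s ⊆ u), f u = 0 := by
  have : (b.powersetCard m).filter (fun u => s ⊆ u) = ∅ := by
    rw [filter_eq_empty_iff]
    intro u hu hsu
    rw [mem_powersetCard] at hu
    have := card_le_card hsu
    omega
  rw [this, sum_empty]

theorem muE_self (hB : IsSteinerSystem t k B) {b : Finset α} (hb : b ∈ B) : muE B b b = 1 := by
  have : {c | c ∈ B ∧ b ∩ c = b} = {b} := by
    ext c
    rw [Set.mem_singleton_iff]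
    constructor
    · rintro ⟨hc, h⟩
      have hsub : b ⊆ c := by rw [← h]; exact inter_subset_right
      exact (eq_of_subset_of_card_le hsub (by rw [hB.1 b hb, hB.1 c hc])).symm
    · rintro rfl
      exact ⟨hb, inter_self _⟩
  rw [muE, this, Set.ncard_singleton]

theorem muE_eq_zero_of_nI {b u : Finset α} (h : nI B b u.card = 0) : muE B b u = 0 := by
  rw [muE, Set.ncard_eq_zero (Set.toFinite _)]
  rw [nI, Set.ncard_eq_zero (Set.toFinite _)] at h
  ext c
  simp only [Set.mem_ofPred_eq, Set.mem_empty_iff_false, iff_false]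
  rintro ⟨hc, hcu⟩
  have : c ∈ ({c | c ∈ B ∧ (b ∩ c).card = u.card} : Set (Finset α)) := ⟨hc, by rw [hcu]⟩
  rw [h] at this
  exact this

/-- **The Leech triangle of `S(5, 6, 12)`**: exact intersections. -/
theorem muE_5_6_12 (hα : Fintype.card α = 12) (hB : IsSteinerSystem 5 6 B) {b : Finset α}
    (hb : b ∈ B) {s : Finset α} (hs : s ⊆ b) :
    (s.card = 4 → muE B b s = 3) ∧ (s.card = 3 → muE B b s = 2) ∧ (s.card = 2 → muE B b s = 3) := by
  obtain ⟨h0, h1, h2, h3, h4, h5, h6⟩ := nI_5_6_12 hα hB hb
  have hb6 : b.card = 6 := hB.1 b hb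
  have m6 : ∀ u, u ⊆ b → u.card = 6 → muE B b u = 1 := by
    intro u hu h
    have : u = b := eq_of_subset_of_card_le hu (by rw [hb6, h])
    rw [this]; exact muE_self hB hb
  have m5 : ∀ u, u ⊆ b → u.card = 5 → muE B b u = 0 := by
    intro u _ h
    apply muE_eq_zero_of_nI
    rw [h]; exact h5
  -- size 4
  have m4 : ∀ u, u ⊆ b → u.card = 4 → muE B b u = 3 := by
    intro u hu h
    have hthr := card_blocks_through hB (J := u) (by rw [h]; norm_num)
    rw [h, hα] at hthr
    norm_num [Nat.choose] at hthr
    have hsum := through_eq_sum_card (B := B) hu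
    rw [hb6] at hsum
    simp only [sum_range_succ, sum_range_zero, zero_add] at hsum
    rw [sum_between_empty (by rw [h]; norm_num), sum_between_empty (by rw [h]; norm_num),
      sum_between_empty (by rw [h]; norm_num), sum_between_empty (by rw [h]; norm_num),
      sum_between_const hu (by rw [h]) (muE B b) (muE B b u)
        (fun v hv hv4 huv => by rw [eq_of_subset_of_card_le huv (by rw [hv4, h])]),
      sum_between_const hu (by rw [h]; norm_num) (muE B b) 0 (fun v hv hv5 _ => m5 v hv hv5),
      sum_between_const hu (by rw [h]; norm_num) (muE B b) 1 (fun v hv hv6 _ => m6 v hv hv6),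
      hb6, h] at hsum
    norm_num [Nat.choose] at hsum
    omega
  have m3 : ∀ u, u ⊆ b → u.card = 3 → muE B b u = 2 := by
    intro u hu h
    have hthr := card_blocks_through hB (J := u) (by rw [h]; norm_num)
    rw [h, hα] at hthr
    norm_num [Nat.choose] at hthr
    have hsum := through_eq_sum_card (B := B) hu
    rw [hb6] at hsum
    simp only [sum_range_succ, sum_range_zero, zero_add] at hsum
    rw [sum_between_empty (by rw [h]; norm_num), sum_between_empty (by rw [h]; norm_num),
      sum_between_empty (by rw [h]; norm_num),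
      sum_between_const hu (by rw [h]) (muE B b) (muE B b u)
        (fun v hv hv3 huv => by rw [eq_of_subset_of_card_le huv (by rw [hv3, h])]),
      sum_between_const hu (by rw [h]; norm_num) (muE B b) 3 (fun v hv hv4 _ => m4 v hv hv4),
      sum_between_const hu (by rw [h]; norm_num) (muE B b) 0 (fun v hv hv5 _ => m5 v hv hv5),
      sum_between_const hu (by rw [h]; norm_num) (muE B b) 1 (fun v hv hv6 _ => m6 v hv hv6),
      hb6, h] at hsum
    norm_num [Nat.choose] at hsum
    omega
  have m2 : ∀ u, u ⊆ b → u.card = 2 → muE B b u = 3 := by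
    intro u hu h
    have hthr := card_blocks_through hB (J := u) (by rw [h]; norm_num)
    rw [h, hα] at hthr
    norm_num [Nat.choose] at hthr
    have hsum := through_eq_sum_card (B := B) hu
    rw [hb6] at hsum
    simp only [sum_range_succ, sum_range_zero, zero_add] at hsum
    rw [sum_between_empty (by rw [h]; norm_num), sum_between_empty (by rw [h]; norm_num),
      sum_between_const hu (by rw [h]) (muE B b) (muE B b u)
        (fun v hv hv2 huv => by rw [eq_of_subset_of_card_le huv (by rw [hv2, h])]),
      sum_between_const hu (by rw [h]; norm_num) (muE B b) 2 (fun v hv hv3 _ => m3 v hv hv3),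
      sum_between_const hu (by rw [h]; norm_num) (muE B b) 3 (fun v hv hv4 _ => m4 v hv hv4),
      sum_between_const hu (by rw [h]; norm_num) (muE B b) 0 (fun v hv hv5 _ => m5 v hv hv5),
      sum_between_const hu (by rw [h]; norm_num) (muE B b) 1 (fun v hv hv6 _ => m6 v hv hv6),
      hb6, h] at hsum
    norm_num [Nat.choose] at hsum
    omega
  exact ⟨m4 s hs, m3 s hs, m2 s hs⟩

end Cfsg.Agent.Lib.Helper6.Steiner
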