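import Cfsg.Agent.Lib.Helper6.SteinerParams

/-!
# Counting in a Steiner system `S(3, 6, 22)`: the block graph and the point-block graph
-/

set_option autoImplicit false
set_option linter.unusedSectionVars false

namespace Cfsg.Agent.Lib.Helper6.Steiner

open Cfsg Finset

variable {α : Type*} [Fintype α] [DecidableEq α] {B : Set (Finset α)}

theorem inter22 (hα : Fintype.card α = 22) (hB : IsSteinerSystem 3 6 B) {b c : Finset α}
    (hb : b ∈ B) (hc : c ∈ B) : (b ∩ c).card = 0 ∨ (b ∩ c).card = 2 ∨ b = c := by
  obtain ⟨-, h1, -, h3, h4, h5, -⟩ := nI_3_6_22 hα hB hb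
  have hle := inter_card_le hB hb c
  have hpos := nI_pos_of_mem (B := B) (b := b) hc
  have h6 : (b ∩ c).card = 6 → b = c := eq_of_inter_card hB hb hc
  have : (b ∩ c).card = 0 ∨ (b ∩ c).card = 1 ∨ (b ∩ c).card = 2 ∨ (b ∩ c).card = 3 ∨
      (b ∩ c).card = 4 ∨ (b ∩ c).card = 5 ∨ (b ∩ c).card = 6 := by omega
  rcases this with h | h | h | h | h | h | h
  · exact Or.inl h
  · rw [h] at hpos; exact absurd h1 hpos
  · exact Or.inr (Or.inl h)
  · rw [h] at hpos; exact absurd h3 hpos
  · rw [h] at hpos; exact absurd h4 hpos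
  · rw [h] at hpos; exact absurd h5 hpos
  · exact Or.inr (Or.inr (h6 h))

theorem ncard_blocks22 (hα : Fintype.card α = 22) (hB : IsSteinerSystem 3 6 B) : B.ncard = 77 := by
  have h := ncard_blocks hB
  rw [hα] at h
  have e1 : Nat.choose 6 3 = 20 := by decide
  have e2 : Nat.choose 22 3 = 1540 := by decide
  rw [e1, e2] at h
  omega

theorem through_point (hα : Fintype.card α = 22) (hB : IsSteinerSystem 3 6 B) (x : α) :
    ((blocksF B).filter (fun c => x ∈ c)).card = 21 := by
  have h := card_blocks_through hB (J := {x}) (by simp)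
  rw [card_singleton, hα] at h
  have e1 : Nat.choose (6 - 1) (3 - 1) = 10 := by decide
  have e2 : Nat.choose (22 - 1) (3 - 1) = 210 := by decide
  rw [e1, e2] at h
  have e3 : (blocksF B).filter (fun c => x ∈ c) = (blocksF B).filter (fun c => {x} ⊆ c) := by
    apply filter_congr
    intro c _
    rw [singleton_subset_iff]
  rw [e3]
  omega

theorem through_pair (hα : Fintype.card α = 22) (hB : IsSteinerSystem 3 6 B) {x y : α} (hxy : x ≠ y) :
    ((blocksF B).filter (fun c => x ∈ c ∧ y ∈ c)).card = 5 := by
  have h := card_blocks_through hB (J := {x, y}) (by rw [card_pair hxy]; norm_num)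
  rw [card_pair hxy, hα] at h
  have e1 : Nat.choose (6 - 2) (3 - 2) = 4 := by decide
  have e2 : Nat.choose (22 - 2) (3 - 2) = 20 := by decide
  rw [e1, e2] at h
  have e3 : (blocksF B).filter (fun c => x ∈ c ∧ y ∈ c) = (blocksF B).filter (fun c => {x, y} ⊆ c) := by
    apply filter_congr
    intro c _
    rw [insert_subset_iff, singleton_subset_iff]
  rw [e3]
  omega

/-- a sum of intersection sizes that are all `0` or `2` -/
theorem sum_inter_eq_two_mul (hα : Fintype.card α = 22) (hB : IsSteinerSystem 3 6 B)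
    {c : Finset α} (hc : c ∈ B) (F : Finset (Finset α)) (hF : ∀ d ∈ F, d ∈ B) (hcF : c ∉ F) :
    ∑ d ∈ F, (c ∩ d).card = 2 * (F.filter (fun d => ¬ Disjoint c d)).card := by
  rw [card_filter, mul_sum]
  apply sum_congr rfl
  intro d hd
  rcases inter22 hα hB hc (hF d hd) with h | h | h
  · have hdis : Disjoint c d := disjoint_iff_inter_eq_empty.mpr (card_eq_zero.mp h)
    rw [h, if_neg (not_not.mpr hdis), mul_zero]
  · have hdis : ¬ Disjoint c d := by
      rw [disjoint_iff_inter_eq_empty, ← card_eq_zero, h]; norm_num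
    rw [h, if_pos hdis, mul_one]
  · exact absurd (h ▸ hd) hcF

/-- through a point outside a block there are six blocks disjoint from the block -/
theorem through_point_disjoint (hα : Fintype.card α = 22) (hB : IsSteinerSystem 3 6 B)
    {b : Finset α} (hb : b ∈ B) {x : α} (hx : x ∉ b) :
    ((blocksF B).filter (fun d => Disjoint b d ∧ x ∈ d)).card = 6 := by
  set Fx := (blocksF B).filter (fun c => x ∈ c) with hFx
  have h21 : Fx.card = 21 := through_point hα hB x
  have hsum : ∑ c ∈ Fx, (b ∩ c).card = b.card * 5 := by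
    apply sum_card_inter
    intro y hy
    have hxy : x ≠ y := fun h => hx (h ▸ hy)
    rw [hFx, filter_filter]
    exact through_pair hα hB hxy
  rw [hB.1 b hb] at hsum
  have hbF : b ∉ Fx := by
    rw [hFx, mem_filter]; exact fun h => hx h.2
  have h2 := sum_inter_eq_two_mul hα hB hb Fx (fun d hd => mem_blocksF.mp (mem_filter.mp hd).1) hbF
  rw [hsum] at h2
  have h3 := card_filter_add_card_filter_not (s := Fx) (fun d => Disjoint b d)
  have e : (blocksF B).filter (fun d => Disjoint b d ∧ x ∈ d) = Fx.filter (fun d => Disjoint b d) := by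
    rw [hFx, filter_filter]
    apply filter_congr
    intro d _
    exact and_comm
  rw [e]
  omega

/-- the blocks disjoint from a given block -/
noncomputable def disjF (B : Set (Finset α)) (b : Finset α) : Finset (Finset α) :=
  (blocksF B).filter (fun d => Disjoint b d)

theorem card_disjF (hα : Fintype.card α = 22) (hB : IsSteinerSystem 3 6 B) {b : Finset α} (hb : b ∈ B) :
    (disjF B b).card = 16 := by
  obtain ⟨h0, -⟩ := nI_3_6_22 hα hB hb
  rw [nI, ncard_eq_card_filter] at h0
  rw [← h0, disjF]
  congr 1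
  apply filter_congr
  intro d _
  rw [disjoint_iff_inter_eq_empty, card_eq_zero]

theorem sum_disjF (hα : Fintype.card α = 22) (hB : IsSteinerSystem 3 6 B) {b c : Finset α}
    (hb : b ∈ B) : ∑ d ∈ disjF B b, (c ∩ d).card = (c \ b).card * 6 := by
  have h1 : ∑ d ∈ disjF B b, (c ∩ d).card = ∑ d ∈ disjF B b, ((c \ b) ∩ d).card := by
    apply sum_congr rfl
    intro d hd
    have hd' : Disjoint b d := (mem_filter.mp hd).2
    congr 1
    ext y
    simp only [mem_inter, mem_sdiff]
    constructor
    · rintro ⟨h1, h2⟩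
      exact ⟨⟨h1, fun hyb => (disjoint_left.mp hd') hyb h2⟩, h2⟩
    · rintro ⟨⟨h1, -⟩, h2⟩
      exact ⟨h1, h2⟩
  rw [h1]
  apply sum_card_inter
  intro y hy
  rw [mem_sdiff] at hy
  rw [disjF, filter_filter]
  exact through_point_disjoint hα hB hb hy.2

theorem block_nonempty (hB : IsSteinerSystem 3 6 B) {b : Finset α} (hb : b ∈ B) : b.Nonempty := by
  rw [← card_pos, hB.1 b hb]; norm_num

/-- **no three pairwise disjoint blocks** -/
theorem no_three_disjoint (hα : Fintype.card α = 22) (hB : IsSteinerSystem 3 6 B) {b c d : Finset α}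
    (hb : b ∈ B) (hc : c ∈ B) (hd : d ∈ B) (hbc : Disjoint b c) (hbd : Disjoint b d)
    (hcd : Disjoint c d) : False := by
  have hcD : c ∈ disjF B b := mem_filter.mpr ⟨mem_blocksF.mpr hc, hbc⟩
  have hsum := sum_disjF hα hB (c := c) hb
  have e1 : c \ b = c := sdiff_eq_self_of_disjoint hbc.symm
  rw [e1, hB.1 c hc, ← add_sum_erase _ _ hcD, inter_self, hB.1 c hc] at hsum
  have h2 := sum_inter_eq_two_mul hα hB hc ((disjF B b).erase c)
    (fun d hd => mem_blocksF.mp (mem_filter.mp (mem_of_mem_erase hd)).1) (notMem_erase c _)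
  have h15 : ((disjF B b).erase c).card = 15 := by
    rw [card_erase_of_mem hcD, card_disjF hα hB hb]
  have h3 := card_filter_add_card_filter_not (s := (disjF B b).erase c) (fun d => Disjoint c d)
  have h0 : (((disjF B b).erase c).filter (fun d => Disjoint c d)).card = 0 := by omega
  rw [card_eq_zero] at h0
  have hdm : d ∈ ((disjF B b).erase c).filter (fun d => Disjoint c d) := by
    rw [mem_filter, mem_erase]
    refine ⟨⟨?_, mem_filter.mpr ⟨mem_blocksF.mpr hd, hbd⟩⟩, hcd⟩
    rintro rfl
    exact (block_nonempty hB hd).ne_empty (disjoint_self.mp hcd)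
  rw [h0] at hdm
  exact notMem_empty _ hdm

/-- **two blocks meeting in two points have four common disjoint blocks** -/
theorem card_common_disjoint (hα : Fintype.card α = 22) (hB : IsSteinerSystem 3 6 B) {b c : Finset α}
    (hb : b ∈ B) (hc : c ∈ B) (hne : b ≠ c) (hbc : ¬ Disjoint b c) :
    ((blocksF B).filter (fun d => Disjoint b d ∧ Disjoint c d)).card = 4 := by
  have h2 : (b ∩ c).card = 2 := by
    rcases inter22 hα hB hb hc with h | h | h
    · exact absurd (disjoint_iff_inter_eq_empty.mpr (card_eq_zero.mp h)) hbc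
    · exact h
    · exact absurd h hne
  have hcD : c ∉ disjF B b := fun h => hbc (mem_filter.mp h).2
  have hsum := sum_disjF hα hB (c := c) hb
  have e1 : (c \ b).card = 4 := by
    have := card_sdiff_add_card_inter c b
    rw [inter_comm, h2, hB.1 c hc] at this
    omega
  rw [e1] at hsum
  have h3 := sum_inter_eq_two_mul hα hB hc (disjF B b)
    (fun d hd => mem_blocksF.mp (mem_filter.mp hd).1) hcD
  have h4 := card_filter_add_card_filter_not (s := disjF B b) (fun d => Disjoint c d)
  rw [card_disjF hα hB hb] at h4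
  have e : (blocksF B).filter (fun d => Disjoint b d ∧ Disjoint c d) =
      (disjF B b).filter (fun d => Disjoint c d) := by
    rw [disjF, filter_filter]
  rw [e]
  omega

end Cfsg.Agent.Lib.Helper6.Steiner
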