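import Cfsg.Agent.Lib.Helper6.SteinerGraph22
import Mathlib.Combinatorics.SimpleGraph.StronglyRegular

/-!
# The block graph of a Steiner system `S(3, 6, 22)` is strongly regular
-/

set_option autoImplicit false

namespace Cfsg.Agent.Lib.Helper6.Steiner

open Cfsg

theorem blockGraph_adj_iff {α : Type*} [Fintype α] {B : Set (Finset α)} (hB : IsSteinerSystem 3 6 B)
    (v w : ↥B) : (blockGraph B).Adj v w ↔ Disjoint (v : Finset α) (w : Finset α) := by
  classical
  rw [blockGraph, SimpleGraph.fromRel_adj]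
  constructor
  · rintro ⟨-, h | h⟩
    · exact h
    · exact h.symm
  · intro h
    refine ⟨?_, Or.inl h⟩
    rintro rfl
    exact (block_nonempty hB v.2).ne_empty (disjoint_self.mp h)

/-- the cardinality of a set of blocks, computed in the ambient type -/
theorem card_subtype_set {α : Type*} {B : Set (Finset α)} (S : Set ↥B) [Fintype ↥S] :
    Fintype.card ↥S = (Subtype.val '' S).ncard := by
  rw [Set.ncard_image_of_injective _ Subtype.val_injective, Fintype.card_eq_nat_card,
    Nat.card_coe_set_eq]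

/-- **S0427** -/
theorem blockGraph_srg {α : Type*} [Fintype α] (hα : Fintype.card α = 22) {B : Set (Finset α)}
    (hB : IsSteinerSystem 3 6 B) [Fintype B] [DecidableRel (blockGraph B).Adj] :
    (blockGraph B).IsSRGWith 77 16 0 4 := by
  classical
  refine ⟨?_, ?_, ?_, ?_⟩
  · rw [Fintype.card_eq_nat_card, Nat.card_coe_set_eq]
    exact ncard_blocks22 hα hB
  · intro v
    rw [← SimpleGraph.card_neighborSet_eq_degree, card_subtype_set]
    have e : Subtype.val '' (blockGraph B).neighborSet v = {c | c ∈ B ∧ Disjoint (v : Finset α) c} := by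
      ext c
      simp only [Set.mem_image, SimpleGraph.mem_neighborSet, Set.mem_ofPred_eq]
      constructor
      · rintro ⟨w, hw, rfl⟩
        exact ⟨w.2, (blockGraph_adj_iff hB v w).mp hw⟩
      · rintro ⟨hc, hd⟩
        exact ⟨⟨c, hc⟩, (blockGraph_adj_iff hB v ⟨c, hc⟩).mpr hd, rfl⟩
    rw [e, ncard_eq_card_filter]
    exact card_disjF hα hB v.2
  · intro v w hvw
    rw [Fintype.card_eq_zero_iff]
    constructor
    rintro ⟨u, hu⟩
    rw [SimpleGraph.mem_commonNeighbors] at hu
    exact no_three_disjoint hα hB v.2 w.2 u.2 ((blockGraph_adj_iff hB v w).mp hvw)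
      ((blockGraph_adj_iff hB v u).mp hu.1) ((blockGraph_adj_iff hB w u).mp hu.2)
  · intro v w hne hnadj
    rw [card_subtype_set]
    have e : Subtype.val '' (blockGraph B).commonNeighbors v w =
        {c | c ∈ B ∧ (Disjoint (v : Finset α) c ∧ Disjoint (w : Finset α) c)} := by
      ext c
      simp only [Set.mem_image, SimpleGraph.mem_commonNeighbors, Set.mem_ofPred_eq]
      constructor
      · rintro ⟨u, ⟨h1, h2⟩, rfl⟩
        exact ⟨u.2, (blockGraph_adj_iff hB v u).mp h1, (blockGraph_adj_iff hB w u).mp h2⟩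
      · rintro ⟨hc, h1, h2⟩
        exact ⟨⟨c, hc⟩, ⟨(blockGraph_adj_iff hB v ⟨c, hc⟩).mpr h1,
          (blockGraph_adj_iff hB w ⟨c, hc⟩).mpr h2⟩, rfl⟩
    rw [e, ncard_eq_card_filter]
    apply card_common_disjoint hα hB v.2 w.2
    · exact fun h => hne (Subtype.ext h)
    · exact fun h => hnadj ((blockGraph_adj_iff hB v w).mpr h)

end Cfsg.Agent.Lib.Helper6.Steiner
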