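import Cfsg.Agent.Lib.Helper6.SteinerGraph22b

/-!
# The point-block graph of a Steiner system `S(3, 6, 22)` is strongly regular
-/

set_option autoImplicit false
set_option linter.unusedSectionVars false

namespace Cfsg.Agent.Lib.Helper6.Steiner

open Cfsg

section split

variable {α β : Type*} [Fintype α] [Fintype β]

open Classical in
/-- counting a set of vertices of the point-block graph by kinds -/
theorem ncard_split (S : Set (Option (α ⊕ β))) :
    S.ncard = (if none ∈ S then 1 else 0) + {a : α | some (Sum.inl a) ∈ S}.ncard +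
      {b : β | some (Sum.inr b) ∈ S}.ncard := by
  classical
  rw [Set.ncard_eq_toFinset_card' S, Set.ncard_eq_toFinset_card' {a : α | some (Sum.inl a) ∈ S},
    Set.ncard_eq_toFinset_card' {b : β | some (Sum.inr b) ∈ S}]
  have hS : S.toFinset = Finset.univ.filter (fun u => u ∈ S) := by ext u; simp
  rw [hS]
  simp only [Set.toFinset_ofPred, Finset.card_filter]
  rw [Fintype.sum_option, Fintype.sum_sum_type]
  ring

end split

variable {α : Type*} [Fintype α] {B : Set (Finset α)}

theorem pb_adj_none_pt (a : α) : (pointBlockGraph B).Adj none (some (Sum.inl a)) := by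
  simp [pointBlockGraph, SimpleGraph.fromRel_adj, pointBlockRel]

theorem pb_adj_none_blk (b : ↥B) : ¬ (pointBlockGraph B).Adj none (some (Sum.inr b)) := by
  simp [pointBlockGraph, SimpleGraph.fromRel_adj, pointBlockRel]

theorem pb_adj_pt_pt (a a' : α) : ¬ (pointBlockGraph B).Adj (some (Sum.inl a)) (some (Sum.inl a')) := by
  simp [pointBlockGraph, SimpleGraph.fromRel_adj, pointBlockRel]

theorem pb_adj_pt_blk (a : α) (b : ↥B) :
    (pointBlockGraph B).Adj (some (Sum.inl a)) (some (Sum.inr b)) ↔ a ∈ (b : Finset α) := by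
  simp [pointBlockGraph, SimpleGraph.fromRel_adj, pointBlockRel]

theorem pb_adj_blk_blk (hB : IsSteinerSystem 3 6 B) (b c : ↥B) :
    (pointBlockGraph B).Adj (some (Sum.inr b)) (some (Sum.inr c)) ↔
      Disjoint (b : Finset α) (c : Finset α) := by
  classical
  simp only [pointBlockGraph, SimpleGraph.fromRel_adj, pointBlockRel]
  constructor
  · rintro ⟨-, h | h⟩
    · exact h
    · exact h.symm
  · intro h
    refine ⟨?_, Or.inl h⟩
    intro heq
    have : b = c := by simpa using heq
    subst this
    exact (block_nonempty hB b.2).ne_empty (disjoint_self.mp h)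

theorem ncard_blocks_pred [DecidableEq α] (Q : Finset α → Prop) [DecidablePred Q] :
    {b : ↥B | Q (b : Finset α)}.ncard = ((blocksF B).filter Q).card := by
  rw [← Set.ncard_image_of_injective _ Subtype.val_injective, ← ncard_eq_card_filter]
  congr 1
  ext c
  simp only [Set.mem_image, Set.mem_ofPred_eq]
  constructor
  · rintro ⟨b, hb, rfl⟩; exact ⟨b.2, hb⟩
  · rintro ⟨hc, hQ⟩; exact ⟨⟨c, hc⟩, hQ, rfl⟩

theorem ncard_pts_mem (b : Finset α) : {a : α | a ∈ b}.ncard = b.card :=
  Set.ncard_coe_finset b

theorem ncard_pts_false : {a : α | False}.ncard = 0 := by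
  have : {a : α | False} = ∅ := by ext; simp
  rw [this, Set.ncard_empty]

theorem ncard_blk_false : {b : ↥B | False}.ncard = 0 := by
  have : {b : ↥B | False} = ∅ := by ext; simp
  rw [this, Set.ncard_empty]

theorem card_eq_ncard {V : Type*} (S : Set V) [Fintype ↥S] : Fintype.card ↥S = S.ncard := by
  rw [Fintype.card_eq_nat_card, Nat.card_coe_set_eq]

/-- the neighbours of a vertex of the point-block graph -/
theorem pb_degree (hα : Fintype.card α = 22) (hB : IsSteinerSystem 3 6 B)
    (v : Option (α ⊕ ↥B)) : ((pointBlockGraph B).neighborSet v).ncard = 22 := by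
  classical
  rw [ncard_split]
  rcases v with _ | a | b
  · -- the extra vertex
    have e1 : {a : α | some (Sum.inl a) ∈ (pointBlockGraph B).neighborSet none} = Set.univ := by
      ext a; simp only [Set.mem_ofPred_eq, SimpleGraph.mem_neighborSet, Set.mem_univ, iff_true]
      exact pb_adj_none_pt a
    have e2 : {b : ↥B | some (Sum.inr b) ∈ (pointBlockGraph B).neighborSet none} = ∅ := by
      ext b; simp only [Set.mem_ofPred_eq, SimpleGraph.mem_neighborSet, Set.mem_empty_iff_false,
        iff_false]
      exact pb_adj_none_blk b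
    rw [e1, e2, if_neg (by rw [SimpleGraph.mem_neighborSet]; exact SimpleGraph.irrefl _),
      Set.ncard_univ, Nat.card_eq_fintype_card, hα, Set.ncard_empty]
  · -- a point
    have e1 : {a' : α | some (Sum.inl a') ∈ (pointBlockGraph B).neighborSet (some (Sum.inl a))} = ∅ := by
      ext a'; simp only [Set.mem_ofPred_eq, SimpleGraph.mem_neighborSet, Set.mem_empty_iff_false,
        iff_false]
      exact pb_adj_pt_pt a a'
    have e2 : {b : ↥B | some (Sum.inr b) ∈ (pointBlockGraph B).neighborSet (some (Sum.inl a))} =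
        {b : ↥B | a ∈ (b : Finset α)} := by
      ext b; simp only [Set.mem_ofPred_eq, SimpleGraph.mem_neighborSet]
      exact pb_adj_pt_blk a b
    rw [e1, e2, if_pos (by rw [SimpleGraph.mem_neighborSet]; exact (pb_adj_none_pt a).symm),
      Set.ncard_empty, ncard_blocks_pred (fun c => a ∈ c), through_point hα hB]
  · -- a block
    have e1 : {a : α | some (Sum.inl a) ∈ (pointBlockGraph B).neighborSet (some (Sum.inr b))} =
        {a : α | a ∈ (b : Finset α)} := by
      ext a; simp only [Set.mem_ofPred_eq, SimpleGraph.mem_neighborSet]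
      rw [SimpleGraph.adj_comm]
      exact pb_adj_pt_blk a b
    have e2 : {c : ↥B | some (Sum.inr c) ∈ (pointBlockGraph B).neighborSet (some (Sum.inr b))} =
        {c : ↥B | Disjoint (b : Finset α) (c : Finset α)} := by
      ext c; simp only [Set.mem_ofPred_eq, SimpleGraph.mem_neighborSet]
      exact pb_adj_blk_blk hB b c
    rw [e1, e2, if_neg (by rw [SimpleGraph.mem_neighborSet]; exact fun h => pb_adj_none_blk b h.symm),
      ncard_pts_mem, hB.1 b b.2, ncard_blocks_pred (fun c => Disjoint (b : Finset α) c)]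
    have := card_disjF hα hB b.2
    rw [disjF] at this
    rw [this]

theorem pb_adj_pt_none (a : α) : (pointBlockGraph B).Adj (some (Sum.inl a)) none :=
  (pb_adj_none_pt a).symm

theorem pb_adj_blk_none (b : ↥B) : ¬ (pointBlockGraph B).Adj (some (Sum.inr b)) none :=
  fun h => pb_adj_none_blk b h.symm

theorem pb_adj_blk_pt (a : α) (b : ↥B) :
    (pointBlockGraph B).Adj (some (Sum.inr b)) (some (Sum.inl a)) ↔ a ∈ (b : Finset α) := by
  rw [SimpleGraph.adj_comm]; exact pb_adj_pt_blk a b

/-- the point-block graph has no triangles -/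
theorem pb_no_triangle (hα : Fintype.card α = 22) (hB : IsSteinerSystem 3 6 B)
    (u v w : Option (α ⊕ ↥B)) (h1 : (pointBlockGraph B).Adj u v) (h2 : (pointBlockGraph B).Adj u w)
    (h3 : (pointBlockGraph B).Adj v w) : False := by
  classical
  rcases u with _ | a | b <;> rcases v with _ | a' | b' <;> rcases w with _ | a'' | b''
  all_goals first
    | exact SimpleGraph.irrefl _ h1
    | exact SimpleGraph.irrefl _ h2
    | exact SimpleGraph.irrefl _ h3
    | exact pb_adj_none_blk _ h1
    | exact pb_adj_none_blk _ h2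
    | exact pb_adj_none_blk _ h3
    | exact pb_adj_blk_none _ h1
    | exact pb_adj_blk_none _ h2
    | exact pb_adj_blk_none _ h3
    | exact pb_adj_pt_pt _ _ h1
    | exact pb_adj_pt_pt _ _ h2
    | exact pb_adj_pt_pt _ _ h3
    | skip
  · -- point, block, block
    rw [pb_adj_pt_blk] at h1 h2
    rw [pb_adj_blk_blk hB] at h3
    exact (Finset.disjoint_left.mp h3) h1 h2
  · -- block, point, block
    rw [pb_adj_blk_pt] at h1
    rw [pb_adj_blk_blk hB] at h2
    rw [pb_adj_pt_blk] at h3
    exact (Finset.disjoint_left.mp h2) h1 h3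
  · -- block, block, point
    rw [pb_adj_blk_blk hB] at h1
    rw [pb_adj_blk_pt] at h2 h3
    exact (Finset.disjoint_left.mp h1) h2 h3
  · -- three blocks
    rw [pb_adj_blk_blk hB] at h1 h2 h3
    exact no_three_disjoint hα hB b.2 b'.2 b''.2 h1 h2 h3

theorem pb_common_none_blk (hB : IsSteinerSystem 3 6 B) (b : ↥B) :
    ((pointBlockGraph B).commonNeighbors none (some (Sum.inr b))).ncard = 6 := by
  classical
  rw [ncard_split]
  have e1 : {a : α | some (Sum.inl a) ∈ (pointBlockGraph B).commonNeighbors none (some (Sum.inr b))} =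
      {a : α | a ∈ (b : Finset α)} := by
    ext a; simp only [Set.mem_ofPred_eq, SimpleGraph.mem_commonNeighbors]
    rw [pb_adj_blk_pt]
    exact ⟨fun h => h.2, fun h => ⟨pb_adj_none_pt a, h⟩⟩
  have e2 : {c : ↥B | some (Sum.inr c) ∈ (pointBlockGraph B).commonNeighbors none (some (Sum.inr b))} = ∅ := by
    ext c; simp only [Set.mem_ofPred_eq, SimpleGraph.mem_commonNeighbors, Set.mem_empty_iff_false,
      iff_false]
    exact fun h => pb_adj_none_blk c h.1
  rw [e1, e2, if_neg (by rw [SimpleGraph.mem_commonNeighbors]; exact fun h => SimpleGraph.irrefl _ h.1),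
    ncard_pts_mem, hB.1 b b.2, Set.ncard_empty]

theorem pb_common_pt_pt (hα : Fintype.card α = 22) (hB : IsSteinerSystem 3 6 B) {a a' : α} (h : a ≠ a') :
    ((pointBlockGraph B).commonNeighbors (some (Sum.inl a)) (some (Sum.inl a'))).ncard = 6 := by
  classical
  rw [ncard_split]
  have e1 : {x : α | some (Sum.inl x) ∈
      (pointBlockGraph B).commonNeighbors (some (Sum.inl a)) (some (Sum.inl a'))} = ∅ := by
    ext x; simp only [Set.mem_ofPred_eq, SimpleGraph.mem_commonNeighbors, Set.mem_empty_iff_false,
      iff_false]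
    exact fun h => pb_adj_pt_pt a x h.1
  have e2 : {c : ↥B | some (Sum.inr c) ∈
      (pointBlockGraph B).commonNeighbors (some (Sum.inl a)) (some (Sum.inl a'))} =
      {c : ↥B | a ∈ (c : Finset α) ∧ a' ∈ (c : Finset α)} := by
    ext c; simp only [Set.mem_ofPred_eq, SimpleGraph.mem_commonNeighbors]
    rw [pb_adj_pt_blk, pb_adj_pt_blk]
  rw [e1, e2, if_pos (by rw [SimpleGraph.mem_commonNeighbors]; exact ⟨pb_adj_pt_none a, pb_adj_pt_none a'⟩),
    Set.ncard_empty, ncard_blocks_pred (fun c => a ∈ c ∧ a' ∈ c), through_pair hα hB h]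

theorem pb_common_pt_blk (hα : Fintype.card α = 22) (hB : IsSteinerSystem 3 6 B) {a : α} {b : ↥B}
    (h : a ∉ (b : Finset α)) :
    ((pointBlockGraph B).commonNeighbors (some (Sum.inl a)) (some (Sum.inr b))).ncard = 6 := by
  classical
  rw [ncard_split]
  have e1 : {x : α | some (Sum.inl x) ∈
      (pointBlockGraph B).commonNeighbors (some (Sum.inl a)) (some (Sum.inr b))} = ∅ := by
    ext x; simp only [Set.mem_ofPred_eq, SimpleGraph.mem_commonNeighbors, Set.mem_empty_iff_false,
      iff_false]
    exact fun h => pb_adj_pt_pt a x h.1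
  have e2 : {c : ↥B | some (Sum.inr c) ∈
      (pointBlockGraph B).commonNeighbors (some (Sum.inl a)) (some (Sum.inr b))} =
      {c : ↥B | Disjoint (b : Finset α) (c : Finset α) ∧ a ∈ (c : Finset α)} := by
    ext c; simp only [Set.mem_ofPred_eq, SimpleGraph.mem_commonNeighbors]
    rw [pb_adj_pt_blk, pb_adj_blk_blk hB, and_comm]
  rw [e1, e2, if_neg (by rw [SimpleGraph.mem_commonNeighbors]; exact fun h => pb_adj_blk_none b h.2),
    Set.ncard_empty, ncard_blocks_pred (fun c => Disjoint (b : Finset α) c ∧ a ∈ c),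
    through_point_disjoint hα hB b.2 h]

theorem pb_common_blk_blk (hα : Fintype.card α = 22) (hB : IsSteinerSystem 3 6 B) {b c : ↥B}
    (hne : b ≠ c) (hnd : ¬ Disjoint (b : Finset α) (c : Finset α)) :
    ((pointBlockGraph B).commonNeighbors (some (Sum.inr b)) (some (Sum.inr c))).ncard = 6 := by
  classical
  rw [ncard_split]
  have e1 : {x : α | some (Sum.inl x) ∈
      (pointBlockGraph B).commonNeighbors (some (Sum.inr b)) (some (Sum.inr c))} =
      {x : α | x ∈ (b : Finset α) ∩ (c : Finset α)} := by
    ext x; simp only [Set.mem_ofPred_eq, SimpleGraph.mem_commonNeighbors]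
    rw [pb_adj_blk_pt, pb_adj_blk_pt, Finset.mem_inter]
  have e2 : {d : ↥B | some (Sum.inr d) ∈
      (pointBlockGraph B).commonNeighbors (some (Sum.inr b)) (some (Sum.inr c))} =
      {d : ↥B | Disjoint (b : Finset α) (d : Finset α) ∧ Disjoint (c : Finset α) (d : Finset α)} := by
    ext d; simp only [Set.mem_ofPred_eq, SimpleGraph.mem_commonNeighbors]
    rw [pb_adj_blk_blk hB, pb_adj_blk_blk hB]
  have hne' : (b : Finset α) ≠ (c : Finset α) := fun h => hne (Subtype.ext h)
  have h2 : ((b : Finset α) ∩ (c : Finset α)).card = 2 := by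
    rcases inter22 hα hB b.2 c.2 with h | h | h
    · exact absurd (Finset.disjoint_iff_inter_eq_empty.mpr (Finset.card_eq_zero.mp h)) hnd
    · exact h
    · exact absurd h hne'
  rw [e1, e2, if_neg (by rw [SimpleGraph.mem_commonNeighbors]; exact fun h => pb_adj_blk_none b h.1),
    ncard_pts_mem, h2,
    ncard_blocks_pred (fun d => Disjoint (b : Finset α) d ∧ Disjoint (c : Finset α) d),
    card_common_disjoint hα hB b.2 c.2 hne' hnd]

/-- **S0428** -/
theorem pointBlockGraph_srg (hα : Fintype.card α = 22) (hB : IsSteinerSystem 3 6 B) [Fintype B]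
    [DecidableRel (pointBlockGraph B).Adj] : (pointBlockGraph B).IsSRGWith 100 22 0 6 := by
  classical
  refine ⟨?_, ?_, ?_, ?_⟩
  · rw [Fintype.card_option, Fintype.card_sum, hα, Fintype.card_eq_nat_card (α := ↥B),
      Nat.card_coe_set_eq, ncard_blocks22 hα hB]
  · intro v
    rw [← SimpleGraph.card_neighborSet_eq_degree, card_eq_ncard]
    exact pb_degree hα hB v
  · intro v w hvw
    rw [Fintype.card_eq_zero_iff]
    constructor
    rintro ⟨u, hu⟩
    rw [SimpleGraph.mem_commonNeighbors] at hu
    exact pb_no_triangle hα hB v w u hvw hu.1 hu.2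
  · intro v w hne hnadj
    rw [card_eq_ncard]
    rcases v with _ | a | b <;> rcases w with _ | a' | b'
    · exact absurd rfl hne
    · exact absurd (pb_adj_none_pt a') hnadj
    · exact pb_common_none_blk hB b'
    · exact absurd (pb_adj_pt_none a) hnadj
    · exact pb_common_pt_pt hα hB (fun h => hne (by rw [h]))
    · exact pb_common_pt_blk hα hB (fun h => hnadj ((pb_adj_pt_blk a b').mpr h))
    · rw [SimpleGraph.commonNeighbors_symm]; exact pb_common_none_blk hB b
    · rw [SimpleGraph.commonNeighbors_symm]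
      exact pb_common_pt_blk hα hB (fun h => hnadj ((pb_adj_blk_pt a' b).mpr h))
    · exact pb_common_blk_blk hα hB (fun h => hne (by rw [h]))
        (fun h => hnadj ((pb_adj_blk_blk hB b b').mpr h))

end Cfsg.Agent.Lib.Helper6.Steiner
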