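import Cfsg.Agent.Lib.Helper6.Steiner

/-!
# Intersection numbers of the Steiner systems with the Mathieu parameters
-/

set_option autoImplicit false

namespace Cfsg.Agent.Lib.Helper6.Steiner

open Cfsg Finset

theorem nI_5_8_24 {α : Type*} [Fintype α] [DecidableEq α] (hα : Fintype.card α = 24)
    {B : Set (Finset α)} (hB : IsSteinerSystem 5 8 B) {b : Finset α} (hb : b ∈ B) :
    nI B b 0 = 30 ∧ nI B b 1 = 0 ∧ nI B b 2 = 448 ∧ nI B b 3 = 0 ∧ nI B b 4 = 280 ∧ nI B b 5 = 0 ∧ nI B b 6 = 0 ∧ nI B b 7 = 0 ∧ nI B b 8 = 1 := by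
  have e8 := nI_self hB hb
  have e5 := inter_eqn hB hb (j := 5) (by norm_num)
  rw [hα] at e5
  simp only [Finset.sum_range_succ, Finset.sum_range_zero, zero_add,
    Nat.choose_eq_descFactorial_div_factorial] at e5
  norm_num at e5
  have hh : nI B b 8 = 1 ∧ nI B b 7 = 0 ∧ nI B b 6 = 0 ∧ nI B b 5 = 0 := by omega
  obtain ⟨h8, h7, h6, h5⟩ := hh
  clear e5 e8
  have e4 := inter_eqn hB hb (j := 4) (by norm_num)
  rw [hα] at e4
  simp only [Finset.sum_range_succ, Finset.sum_range_zero, zero_add,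
    Nat.choose_eq_descFactorial_div_factorial, h8, h7, h6, h5] at e4
  norm_num at e4
  have h4 : nI B b 4 = 280 := by omega
  clear e4
  have e3 := inter_eqn hB hb (j := 3) (by norm_num)
  rw [hα] at e3
  simp only [Finset.sum_range_succ, Finset.sum_range_zero, zero_add,
    Nat.choose_eq_descFactorial_div_factorial, h8, h7, h6, h5, h4] at e3
  norm_num at e3
  have h3 : nI B b 3 = 0 := by omega
  clear e3
  have e2 := inter_eqn hB hb (j := 2) (by norm_num)
  rw [hα] at e2
  simp only [Finset.sum_range_succ, Finset.sum_range_zero, zero_add,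
    Nat.choose_eq_descFactorial_div_factorial, h8, h7, h6, h5, h4, h3] at e2
  norm_num at e2
  have h2 : nI B b 2 = 448 := by omega
  clear e2
  have e1 := inter_eqn hB hb (j := 1) (by norm_num)
  rw [hα] at e1
  simp only [Finset.sum_range_succ, Finset.sum_range_zero, zero_add,
    Nat.choose_eq_descFactorial_div_factorial, h8, h7, h6, h5, h4, h3, h2] at e1
  norm_num at e1
  have h1 : nI B b 1 = 0 := by omega
  clear e1
  have e0 := inter_eqn hB hb (j := 0) (by norm_num)
  rw [hα] at e0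
  simp only [Finset.sum_range_succ, Finset.sum_range_zero, zero_add,
    Nat.choose_eq_descFactorial_div_factorial, h8, h7, h6, h5, h4, h3, h2, h1] at e0
  norm_num at e0
  have h0 : nI B b 0 = 30 := by omega
  clear e0
  exact ⟨h0, h1, h2, h3, h4, h5, h6, h7, h8⟩

theorem nI_4_7_23 {α : Type*} [Fintype α] [DecidableEq α] (hα : Fintype.card α = 23)
    {B : Set (Finset α)} (hB : IsSteinerSystem 4 7 B) {b : Finset α} (hb : b ∈ B) :
    nI B b 0 = 0 ∧ nI B b 1 = 112 ∧ nI B b 2 = 0 ∧ nI B b 3 = 140 ∧ nI B b 4 = 0 ∧ nI B b 5 = 0 ∧ nI B b 6 = 0 ∧ nI B b 7 = 1 := by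
  have e7 := nI_self hB hb
  have e4 := inter_eqn hB hb (j := 4) (by norm_num)
  rw [hα] at e4
  simp only [Finset.sum_range_succ, Finset.sum_range_zero, zero_add,
    Nat.choose_eq_descFactorial_div_factorial] at e4
  norm_num at e4
  have hh : nI B b 7 = 1 ∧ nI B b 6 = 0 ∧ nI B b 5 = 0 ∧ nI B b 4 = 0 := by omega
  obtain ⟨h7, h6, h5, h4⟩ := hh
  clear e4 e7
  have e3 := inter_eqn hB hb (j := 3) (by norm_num)
  rw [hα] at e3
  simp only [Finset.sum_range_succ, Finset.sum_range_zero, zero_add,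
    Nat.choose_eq_descFactorial_div_factorial, h7, h6, h5, h4] at e3
  norm_num at e3
  have h3 : nI B b 3 = 140 := by omega
  clear e3
  have e2 := inter_eqn hB hb (j := 2) (by norm_num)
  rw [hα] at e2
  simp only [Finset.sum_range_succ, Finset.sum_range_zero, zero_add,
    Nat.choose_eq_descFactorial_div_factorial, h7, h6, h5, h4, h3] at e2
  norm_num at e2
  have h2 : nI B b 2 = 0 := by omega
  clear e2
  have e1 := inter_eqn hB hb (j := 1) (by norm_num)
  rw [hα] at e1
  simp only [Finset.sum_range_succ, Finset.sum_range_zero, zero_add,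
    Nat.choose_eq_descFactorial_div_factorial, h7, h6, h5, h4, h3, h2] at e1
  norm_num at e1
  have h1 : nI B b 1 = 112 := by omega
  clear e1
  have e0 := inter_eqn hB hb (j := 0) (by norm_num)
  rw [hα] at e0
  simp only [Finset.sum_range_succ, Finset.sum_range_zero, zero_add,
    Nat.choose_eq_descFactorial_div_factorial, h7, h6, h5, h4, h3, h2, h1] at e0
  norm_num at e0
  have h0 : nI B b 0 = 0 := by omega
  clear e0
  exact ⟨h0, h1, h2, h3, h4, h5, h6, h7⟩

theorem nI_3_6_22 {α : Type*} [Fintype α] [DecidableEq α] (hα : Fintype.card α = 22)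
    {B : Set (Finset α)} (hB : IsSteinerSystem 3 6 B) {b : Finset α} (hb : b ∈ B) :
    nI B b 0 = 16 ∧ nI B b 1 = 0 ∧ nI B b 2 = 60 ∧ nI B b 3 = 0 ∧ nI B b 4 = 0 ∧ nI B b 5 = 0 ∧ nI B b 6 = 1 := by
  have e6 := nI_self hB hb
  have e3 := inter_eqn hB hb (j := 3) (by norm_num)
  rw [hα] at e3
  simp only [Finset.sum_range_succ, Finset.sum_range_zero, zero_add,
    Nat.choose_eq_descFactorial_div_factorial] at e3
  norm_num at e3
  have hh : nI B b 6 = 1 ∧ nI B b 5 = 0 ∧ nI B b 4 = 0 ∧ nI B b 3 = 0 := by omega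
  obtain ⟨h6, h5, h4, h3⟩ := hh
  clear e3 e6
  have e2 := inter_eqn hB hb (j := 2) (by norm_num)
  rw [hα] at e2
  simp only [Finset.sum_range_succ, Finset.sum_range_zero, zero_add,
    Nat.choose_eq_descFactorial_div_factorial, h6, h5, h4, h3] at e2
  norm_num at e2
  have h2 : nI B b 2 = 60 := by omega
  clear e2
  have e1 := inter_eqn hB hb (j := 1) (by norm_num)
  rw [hα] at e1
  simp only [Finset.sum_range_succ, Finset.sum_range_zero, zero_add,
    Nat.choose_eq_descFactorial_div_factorial, h6, h5, h4, h3, h2] at e1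
  norm_num at e1
  have h1 : nI B b 1 = 0 := by omega
  clear e1
  have e0 := inter_eqn hB hb (j := 0) (by norm_num)
  rw [hα] at e0
  simp only [Finset.sum_range_succ, Finset.sum_range_zero, zero_add,
    Nat.choose_eq_descFactorial_div_factorial, h6, h5, h4, h3, h2, h1] at e0
  norm_num at e0
  have h0 : nI B b 0 = 16 := by omega
  clear e0
  exact ⟨h0, h1, h2, h3, h4, h5, h6⟩

theorem nI_5_6_12 {α : Type*} [Fintype α] [DecidableEq α] (hα : Fintype.card α = 12)
    {B : Set (Finset α)} (hB : IsSteinerSystem 5 6 B) {b : Finset α} (hb : b ∈ B) :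
    nI B b 0 = 1 ∧ nI B b 1 = 0 ∧ nI B b 2 = 45 ∧ nI B b 3 = 40 ∧ nI B b 4 = 45 ∧ nI B b 5 = 0 ∧ nI B b 6 = 1 := by
  have e6 := nI_self hB hb
  have e5 := inter_eqn hB hb (j := 5) (by norm_num)
  rw [hα] at e5
  simp only [Finset.sum_range_succ, Finset.sum_range_zero, zero_add,
    Nat.choose_eq_descFactorial_div_factorial] at e5
  norm_num at e5
  have hh : nI B b 6 = 1 ∧ nI B b 5 = 0 := by omega
  obtain ⟨h6, h5⟩ := hh
  clear e5 e6
  have e4 := inter_eqn hB hb (j := 4) (by norm_num)
  rw [hα] at e4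
  simp only [Finset.sum_range_succ, Finset.sum_range_zero, zero_add,
    Nat.choose_eq_descFactorial_div_factorial, h6, h5] at e4
  norm_num at e4
  have h4 : nI B b 4 = 45 := by omega
  clear e4
  have e3 := inter_eqn hB hb (j := 3) (by norm_num)
  rw [hα] at e3
  simp only [Finset.sum_range_succ, Finset.sum_range_zero, zero_add,
    Nat.choose_eq_descFactorial_div_factorial, h6, h5, h4] at e3
  norm_num at e3
  have h3 : nI B b 3 = 40 := by omega
  clear e3
  have e2 := inter_eqn hB hb (j := 2) (by norm_num)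
  rw [hα] at e2
  simp only [Finset.sum_range_succ, Finset.sum_range_zero, zero_add,
    Nat.choose_eq_descFactorial_div_factorial, h6, h5, h4, h3] at e2
  norm_num at e2
  have h2 : nI B b 2 = 45 := by omega
  clear e2
  have e1 := inter_eqn hB hb (j := 1) (by norm_num)
  rw [hα] at e1
  simp only [Finset.sum_range_succ, Finset.sum_range_zero, zero_add,
    Nat.choose_eq_descFactorial_div_factorial, h6, h5, h4, h3, h2] at e1
  norm_num at e1
  have h1 : nI B b 1 = 0 := by omega
  clear e1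
  have e0 := inter_eqn hB hb (j := 0) (by norm_num)
  rw [hα] at e0
  simp only [Finset.sum_range_succ, Finset.sum_range_zero, zero_add,
    Nat.choose_eq_descFactorial_div_factorial, h6, h5, h4, h3, h2, h1] at e0
  norm_num at e0
  have h0 : nI B b 0 = 1 := by omega
  clear e0
  exact ⟨h0, h1, h2, h3, h4, h5, h6⟩

theorem nI_4_5_11 {α : Type*} [Fintype α] [DecidableEq α] (hα : Fintype.card α = 11)
    {B : Set (Finset α)} (hB : IsSteinerSystem 4 5 B) {b : Finset α} (hb : b ∈ B) :
    nI B b 0 = 0 ∧ nI B b 1 = 15 ∧ nI B b 2 = 20 ∧ nI B b 3 = 30 ∧ nI B b 4 = 0 ∧ nI B b 5 = 1 := by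
  have e5 := nI_self hB hb
  have e4 := inter_eqn hB hb (j := 4) (by norm_num)
  rw [hα] at e4
  simp only [Finset.sum_range_succ, Finset.sum_range_zero, zero_add,
    Nat.choose_eq_descFactorial_div_factorial] at e4
  norm_num at e4
  have hh : nI B b 5 = 1 ∧ nI B b 4 = 0 := by omega
  obtain ⟨h5, h4⟩ := hh
  clear e4 e5
  have e3 := inter_eqn hB hb (j := 3) (by norm_num)
  rw [hα] at e3
  simp only [Finset.sum_range_succ, Finset.sum_range_zero, zero_add,
    Nat.choose_eq_descFactorial_div_factorial, h5, h4] at e3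
  norm_num at e3
  have h3 : nI B b 3 = 30 := by omega
  clear e3
  have e2 := inter_eqn hB hb (j := 2) (by norm_num)
  rw [hα] at e2
  simp only [Finset.sum_range_succ, Finset.sum_range_zero, zero_add,
    Nat.choose_eq_descFactorial_div_factorial, h5, h4, h3] at e2
  norm_num at e2
  have h2 : nI B b 2 = 20 := by omega
  clear e2
  have e1 := inter_eqn hB hb (j := 1) (by norm_num)
  rw [hα] at e1
  simp only [Finset.sum_range_succ, Finset.sum_range_zero, zero_add,
    Nat.choose_eq_descFactorial_div_factorial, h5, h4, h3, h2] at e1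
  norm_num at e1
  have h1 : nI B b 1 = 15 := by omega
  clear e1
  have e0 := inter_eqn hB hb (j := 0) (by norm_num)
  rw [hα] at e0
  simp only [Finset.sum_range_succ, Finset.sum_range_zero, zero_add,
    Nat.choose_eq_descFactorial_div_factorial, h5, h4, h3, h2, h1] at e0
  norm_num at e0
  have h0 : nI B b 0 = 0 := by omega
  clear e0
  exact ⟨h0, h1, h2, h3, h4, h5⟩

theorem nI_2_5_21 {α : Type*} [Fintype α] [DecidableEq α] (hα : Fintype.card α = 21)
    {B : Set (Finset α)} (hB : IsSteinerSystem 2 5 B) {b : Finset α} (hb : b ∈ B) :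
    nI B b 0 = 0 ∧ nI B b 1 = 20 ∧ nI B b 2 = 0 ∧ nI B b 3 = 0 ∧ nI B b 4 = 0 ∧ nI B b 5 = 1 := by
  have e5 := nI_self hB hb
  have e2 := inter_eqn hB hb (j := 2) (by norm_num)
  rw [hα] at e2
  simp only [Finset.sum_range_succ, Finset.sum_range_zero, zero_add,
    Nat.choose_eq_descFactorial_div_factorial] at e2
  norm_num at e2
  have hh : nI B b 5 = 1 ∧ nI B b 4 = 0 ∧ nI B b 3 = 0 ∧ nI B b 2 = 0 := by omega
  obtain ⟨h5, h4, h3, h2⟩ := hh
  clear e2 e5
  have e1 := inter_eqn hB hb (j := 1) (by norm_num)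
  rw [hα] at e1
  simp only [Finset.sum_range_succ, Finset.sum_range_zero, zero_add,
    Nat.choose_eq_descFactorial_div_factorial, h5, h4, h3, h2] at e1
  norm_num at e1
  have h1 : nI B b 1 = 20 := by omega
  clear e1
  have e0 := inter_eqn hB hb (j := 0) (by norm_num)
  rw [hα] at e0
  simp only [Finset.sum_range_succ, Finset.sum_range_zero, zero_add,
    Nat.choose_eq_descFactorial_div_factorial, h5, h4, h3, h2, h1] at e0
  norm_num at e0
  have h0 : nI B b 0 = 0 := by omega
  clear e0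
  exact ⟨h0, h1, h2, h3, h4, h5⟩

theorem nI_3_4_10 {α : Type*} [Fintype α] [DecidableEq α] (hα : Fintype.card α = 10)
    {B : Set (Finset α)} (hB : IsSteinerSystem 3 4 B) {b : Finset α} (hb : b ∈ B) :
    nI B b 0 = 3 ∧ nI B b 1 = 8 ∧ nI B b 2 = 18 ∧ nI B b 3 = 0 ∧ nI B b 4 = 1 := by
  have e4 := nI_self hB hb
  have e3 := inter_eqn hB hb (j := 3) (by norm_num)
  rw [hα] at e3
  simp only [Finset.sum_range_succ, Finset.sum_range_zero, zero_add,
    Nat.choose_eq_descFactorial_div_factorial] at e3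
  norm_num at e3
  have hh : nI B b 4 = 1 ∧ nI B b 3 = 0 := by omega
  obtain ⟨h4, h3⟩ := hh
  clear e3 e4
  have e2 := inter_eqn hB hb (j := 2) (by norm_num)
  rw [hα] at e2
  simp only [Finset.sum_range_succ, Finset.sum_range_zero, zero_add,
    Nat.choose_eq_descFactorial_div_factorial, h4, h3] at e2
  norm_num at e2
  have h2 : nI B b 2 = 18 := by omega
  clear e2
  have e1 := inter_eqn hB hb (j := 1) (by norm_num)
  rw [hα] at e1
  simp only [Finset.sum_range_succ, Finset.sum_range_zero, zero_add,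
    Nat.choose_eq_descFactorial_div_factorial, h4, h3, h2] at e1
  norm_num at e1
  have h1 : nI B b 1 = 8 := by omega
  clear e1
  have e0 := inter_eqn hB hb (j := 0) (by norm_num)
  rw [hα] at e0
  simp only [Finset.sum_range_succ, Finset.sum_range_zero, zero_add,
    Nat.choose_eq_descFactorial_div_factorial, h4, h3, h2, h1] at e0
  norm_num at e0
  have h0 : nI B b 0 = 3 := by omega
  clear e0
  exact ⟨h0, h1, h2, h3, h4⟩

end Cfsg.Agent.Lib.Helper6.Steiner
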