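import Cfsg.Agent.Lib.Helper6.SteinerParams

/-!
# In an `S(5, 8, 24)`, the symmetric difference of two blocks meeting in four points is a block
-/

set_option autoImplicit false
set_option linter.unusedSectionVars false

namespace Cfsg.Agent.Lib.Helper6.Steiner

open Cfsg Finset

variable {α : Type*} [Fintype α] [DecidableEq α] {B : Set (Finset α)}

theorem inter_cases_24 (hα : Fintype.card α = 24) (hB : IsSteinerSystem 5 8 B) {b c : Finset α}
    (hb : b ∈ B) (hc : c ∈ B) (hbc : b ≠ c) :
    (b ∩ c).card = 0 ∨ (b ∩ c).card = 2 ∨ (b ∩ c).card = 4 := by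
  obtain ⟨h0, h1, h2, h3, h4, h5, h6, h7, h8⟩ := nI_5_8_24 hα hB hb
  have hpos := nI_pos_of_mem (B := B) (b := b) hc
  have hle := inter_card_le hB hb c
  have hne : (b ∩ c).card ≠ 8 := fun h => hbc (eq_of_inter_card hB hb hc h)
  interval_cases h : (b ∩ c).card <;> simp_all

/-- two distinct blocks with at least three common points have exactly four -/
theorem inter_eq_four (hα : Fintype.card α = 24) (hB : IsSteinerSystem 5 8 B) {b c : Finset α}
    (hb : b ∈ B) (hc : c ∈ B) (hbc : b ≠ c) (h3 : 3 ≤ (b ∩ c).card) : (b ∩ c).card = 4 := by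
  rcases inter_cases_24 hα hB hb hc hbc with h | h | h <;> omega

/-- two distinct blocks with a common `4`-subset `u` meet exactly in `u` -/
theorem inter_eq_of_subset (hα : Fintype.card α = 24) (hB : IsSteinerSystem 5 8 B) {b c : Finset α}
    (hb : b ∈ B) (hc : c ∈ B) (hbc : b ≠ c) {u : Finset α} (hu : u.card = 4) (hub : u ⊆ b)
    (huc : u ⊆ c) : b ∩ c = u := by
  have hsub : u ⊆ b ∩ c := subset_inter hub huc
  have h4 := inter_eq_four hα hB hb hc hbc (by have := card_le_card hsub; rw [hu] at this; omega)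
  exact (eq_of_subset_of_card_le hsub (by rw [h4, hu])).symm

theorem block_unique (hB : IsSteinerSystem 5 8 B) {b c u : Finset α} (hb : b ∈ B) (hc : c ∈ B)
    (hu : u.card = 5) (hub : u ⊆ b) (huc : u ⊆ c) : b = c := by
  obtain ⟨d, _, huniq⟩ := hB.2 u hu
  rw [huniq b ⟨hb, hub⟩, huniq c ⟨hc, huc⟩]


set_option maxHeartbeats 1000000 in
/-- **In an `S(5, 8, 24)`, the symmetric difference of two blocks meeting in four points is a
block.** -/
theorem symmDiff_mem_of_inter_four (hα : Fintype.card α = 24) (hB : IsSteinerSystem 5 8 B)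
    {b c : Finset α} (hb : b ∈ B) (hc : c ∈ B) (h4 : (b ∩ c).card = 4) : symmDiff b c ∈ B := by
  have hb8 := hB.1 b hb
  have hc8 := hB.1 c hc
  set s := b ∩ c with hs
  set t1 := b \ c with ht1
  set t2 := c \ b with ht2
  have ht1c : t1.card = 4 := by
    have := card_sdiff_add_card_inter b c
    rw [← hs, ← ht1] at this
    omega
  have ht2c : t2.card = 4 := by
    have := card_sdiff_add_card_inter c b
    rw [inter_comm, ← hs, ← ht2] at this
    omega
  obtain ⟨y, hy⟩ : t2.Nonempty := by rw [← card_pos]; omega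
  have hyc : y ∈ c := (mem_sdiff.mp hy).1
  have hyb : y ∉ b := (mem_sdiff.mp hy).2
  have hyt1 : y ∉ t1 := fun h => hyb (mem_sdiff.mp h).1
  obtain ⟨O, ⟨hO, hOsub⟩, -⟩ := hB.2 (insert y t1) (by rw [card_insert_of_notMem hyt1, ht1c])
  have hO8 := hB.1 O hO
  have hyO : y ∈ O := hOsub (mem_insert_self _ _)
  have ht1O : t1 ⊆ O := (subset_insert _ _).trans hOsub
  have hOb : O ≠ b := fun h => hyb (h ▸ hyO)
  have hOb' : O ∩ b = t1 := inter_eq_of_subset hα hB hO hb hOb ht1c ht1O sdiff_subset
  have hOs : ∀ x ∈ O, x ∉ s := by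
    intro x hxO hxs
    have hx := mem_inter.mp hxs
    have : x ∈ t1 := by rw [← hOb']; exact mem_inter.mpr ⟨hxO, hx.1⟩
    exact (mem_sdiff.mp this).2 hx.2
  have hOc_sub : O ∩ c ⊆ t2 := by
    intro x hx
    obtain ⟨hxO, hxc⟩ := mem_inter.mp hx
    exact mem_sdiff.mpr ⟨hxc, fun hxb => hOs x hxO (mem_inter.mpr ⟨hxb, hxc⟩)⟩
  obtain ⟨a4, ha4⟩ : s.Nonempty := by rw [← card_pos]; omega
  have ha4b : a4 ∈ b := (mem_inter.mp ha4).1
  have ha4c : a4 ∈ c := (mem_inter.mp ha4).2
  have hOc : O ≠ c := fun h => hOs a4 (h ▸ ha4c) ha4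
  have hyOc : y ∈ O ∩ c := mem_inter.mpr ⟨hyO, hyc⟩
  rcases inter_cases_24 hα hB hO hc hOc with h0 | h2 | h4'
  · rw [card_eq_zero] at h0
    rw [h0] at hyOc
    simp at hyOc
  · -- the case to exclude
    exfalso
    set Y := O ∩ c with hY
    set Z := O \ (b ∪ c) with hZ
    have hdisjtY : Disjoint t1 Y := by
      rw [disjoint_left]
      intro x hx1 hx2
      exact (mem_sdiff.mp hx1).2 (mem_inter.mp hx2).2
    have hZc : Z.card ≤ 2 := by
      have h1 := card_sdiff_add_card_inter O (b ∪ c)
      rw [← hZ] at h1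
      have h2' : t1 ∪ Y ⊆ O ∩ (b ∪ c) := by
        intro x hx
        rcases mem_union.mp hx with h | h
        · exact mem_inter.mpr ⟨ht1O h, mem_union_left _ (mem_sdiff.mp h).1⟩
        · exact mem_inter.mpr ⟨(mem_inter.mp h).1, mem_union_right _ (mem_inter.mp h).2⟩
      have h3 := card_le_card h2'
      rw [card_union_of_disjoint hdisjtY, ht1c, h2] at h3
      omega
    have hOdecomp : ∀ x ∈ O, x ∈ t1 ∨ x ∈ Y ∨ x ∈ Z := by
      intro x hxO
      by_cases hxb : x ∈ b
      · left; rw [← hOb']; exact mem_inter.mpr ⟨hxO, hxb⟩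
      · by_cases hxc : x ∈ c
        · right; left; exact mem_inter.mpr ⟨hxO, hxc⟩
        · right; right; exact mem_sdiff.mpr ⟨hxO, fun h => (mem_union.mp h).elim hxb hxc⟩
    have hZne : Z.Nonempty := by
      by_contra hne
      rw [not_nonempty_iff_eq_empty] at hne
      have : O ⊆ t1 ∪ Y := by
        intro x hxO
        rcases hOdecomp x hxO with h | h | h
        · exact mem_union_left _ h
        · exact mem_union_right _ h
        · rw [hne] at h; simp at h
      have h3 := card_le_card this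
      have h5 := card_union_le t1 Y
      omega
    obtain ⟨z1, hz1⟩ := hZne
    have hz1O : z1 ∈ O := (mem_sdiff.mp hz1).1
    have hz1b : z1 ∉ b := fun h => (mem_sdiff.mp hz1).2 (mem_union_left _ h)
    have hz1c : z1 ∉ c := fun h => (mem_sdiff.mp hz1).2 (mem_union_right _ h)
    have hz1s : z1 ∉ s := fun h => hz1b (mem_inter.mp h).1
    obtain ⟨D, ⟨hD, hDsub⟩, -⟩ := hB.2 (insert z1 s) (by rw [card_insert_of_notMem hz1s, h4])
    have hz1D : z1 ∈ D := hDsub (mem_insert_self _ _)
    have hsD : s ⊆ D := (subset_insert _ _).trans hDsub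
    have hDb : D ∩ b = s :=
      inter_eq_of_subset hα hB hD hb (fun h => hz1b (h ▸ hz1D)) h4 hsD inter_subset_left
    have hDc : D ∩ c = s :=
      inter_eq_of_subset hα hB hD hc (fun h => hz1c (h ▸ hz1D)) h4 hsD inter_subset_right
    have hDO : D ≠ O := fun h => hOs a4 (h ▸ hsD ha4) ha4
    have hDOsub : D ∩ O ⊆ Z := by
      intro x hx
      obtain ⟨hxD, hxO⟩ := mem_inter.mp hx
      refine mem_sdiff.mpr ⟨hxO, fun h => ?_⟩
      rcases mem_union.mp h with h | h
      · exact hOs x hxO (by rw [← hDb]; exact mem_inter.mpr ⟨hxD, h⟩)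
      · exact hOs x hxO (by rw [← hDc]; exact mem_inter.mpr ⟨hxD, h⟩)
    have hZD : Z ⊆ D := by
      have hcard : 2 ≤ (D ∩ O).card := by
        rcases inter_cases_24 hα hB hD hO hDO with h | h | h
        · rw [card_eq_zero] at h
          have : z1 ∈ D ∩ O := mem_inter.mpr ⟨hz1D, hz1O⟩
          rw [h] at this; simp at this
        · omega
        · omega
      have := eq_of_subset_of_card_le hDOsub (by omega)
      rw [← this]; exact inter_subset_left
    set s' := s.erase a4 with hs'
    have hs'c : s'.card = 3 := by rw [card_erase_of_mem ha4, h4]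
    have hs's : s' ⊆ s := erase_subset _ _
    obtain ⟨y1, hy1⟩ : Y.Nonempty := by rw [← card_pos]; omega
    have hy1O : y1 ∈ O := (mem_inter.mp hy1).1
    have hy1c : y1 ∈ c := (mem_inter.mp hy1).2
    have hy1b : y1 ∉ b := (mem_sdiff.mp (hOc_sub hy1)).2
    have hy1s' : y1 ∉ s' := fun h => hy1b (mem_inter.mp (hs's h)).1
    have hz1s' : z1 ∉ insert y1 s' := by
      intro h
      rcases mem_insert.mp h with h | h
      · exact hz1c (h ▸ hy1c)
      · exact hz1s (hs's h)
    obtain ⟨P, ⟨hP, hPsub⟩, -⟩ := hB.2 (insert z1 (insert y1 s'))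
      (by rw [card_insert_of_notMem hz1s', card_insert_of_notMem hy1s', hs'c])
    have hz1P : z1 ∈ P := hPsub (mem_insert_self _ _)
    have hy1P : y1 ∈ P := hPsub (mem_insert_of_mem (mem_insert_self _ _))
    have hs'P : s' ⊆ P := fun x hx => hPsub (mem_insert_of_mem (mem_insert_of_mem hx))
    have hPc : P ∩ c = insert y1 s' := by
      apply inter_eq_of_subset hα hB hP hc (fun h => hz1c (h ▸ hz1P))
        (by rw [card_insert_of_notMem hy1s', hs'c])
      · intro x hx
        rcases mem_insert.mp hx with rfl | h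
        · exact hy1P
        · exact hs'P h
      · intro x hx
        rcases mem_insert.mp hx with rfl | h
        · exact hy1c
        · exact (mem_inter.mp (hs's h)).2
    have ha4P : a4 ∉ P := by
      intro h
      have : a4 ∈ insert y1 s' := by rw [← hPc]; exact mem_inter.mpr ⟨h, ha4c⟩
      rcases mem_insert.mp this with h | h
      · exact hy1b (h ▸ ha4b)
      · exact (notMem_erase a4 s) h
    have hPb : P ≠ b := fun h => hy1b (h ▸ hy1P)
    have hs'Pb : s' ⊆ P ∩ b := fun x hx => mem_inter.mpr ⟨hs'P hx, (mem_inter.mp (hs's hx)).1⟩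
    have hPb4 : (P ∩ b).card = 4 := by
      apply inter_eq_four hα hB hP hb hPb
      have := card_le_card hs'Pb
      omega
    have hPO : P ≠ O := by
      obtain ⟨a', ha'⟩ : s'.Nonempty := by rw [← card_pos]; omega
      exact fun h => hOs a' (h ▸ hs'P ha') (hs's ha')
    have hPt1 : (P ∩ t1).card ≤ 1 := by
      have hsub : P ∩ t1 ⊆ (P ∩ b) \ s' := by
        intro x hx
        obtain ⟨hxP, hxt⟩ := mem_inter.mp hx
        refine mem_sdiff.mpr ⟨mem_inter.mpr ⟨hxP, (mem_sdiff.mp hxt).1⟩, fun h => ?_⟩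
        exact (mem_sdiff.mp hxt).2 (mem_inter.mp (hs's h)).2
      have h1 := card_le_card hsub
      rw [card_sdiff_of_subset hs'Pb, hPb4, hs'c] at h1
      exact h1
    have hPY : (P ∩ Y).card ≤ 1 := by
      have hsub : P ∩ Y ⊆ {y1} := by
        intro x hx
        obtain ⟨hxP, hxY⟩ := mem_inter.mp hx
        have hxc : x ∈ c := (mem_inter.mp hxY).2
        have : x ∈ insert y1 s' := by rw [← hPc]; exact mem_inter.mpr ⟨hxP, hxc⟩
        rcases mem_insert.mp this with h | h
        · exact mem_singleton.mpr h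
        · exact absurd (mem_inter.mp (hs's h)).1 (mem_sdiff.mp (hOc_sub hxY)).2
      have := card_le_card hsub
      simpa using this
    have hPO4 : (P ∩ O).card = 4 := by
      apply inter_eq_four hα hB hP hO hPO
      obtain ⟨w, hw, hws'⟩ := exists_mem_notMem_of_card_lt_card
        (show s'.card < (P ∩ b).card by rw [hs'c, hPb4]; norm_num)
      obtain ⟨hwP, hwb⟩ := mem_inter.mp hw
      have hwc : w ∉ c := by
        intro hwc
        have hws : w ∈ s := mem_inter.mpr ⟨hwb, hwc⟩
        have hne : w ≠ a4 := fun h => ha4P (h ▸ hwP)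
        exact hws' (mem_erase.mpr ⟨hne, hws⟩)
      have hwO : w ∈ O := ht1O (mem_sdiff.mpr ⟨hwb, hwc⟩)
      have hsub : ({w, y1, z1} : Finset α) ⊆ P ∩ O := by
        intro x hx
        simp only [mem_insert, mem_singleton] at hx
        rcases hx with rfl | rfl | rfl
        · exact mem_inter.mpr ⟨hwP, hwO⟩
        · exact mem_inter.mpr ⟨hy1P, hy1O⟩
        · exact mem_inter.mpr ⟨hz1P, hz1O⟩
      have h3 : ({w, y1, z1} : Finset α).card = 3 := by
        rw [card_insert_of_notMem, card_insert_of_notMem, card_singleton]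
        · rw [mem_singleton]; exact fun h => hz1c (h ▸ hy1c)
        · simp only [mem_insert, mem_singleton]
          rintro (h | h)
          · exact hy1b (h ▸ hwb)
          · exact hz1b (h ▸ hwb)
      have := card_le_card hsub
      omega
    have hsubPO : P ∩ O ⊆ (P ∩ t1) ∪ (P ∩ Y) ∪ (P ∩ Z) := by
      intro x hx
      obtain ⟨hxP, hxO⟩ := mem_inter.mp hx
      rcases hOdecomp x hxO with h | h | h
      · exact mem_union_left _ (mem_union_left _ (mem_inter.mpr ⟨hxP, h⟩))
      · exact mem_union_left _ (mem_union_right _ (mem_inter.mpr ⟨hxP, h⟩))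
      · exact mem_union_right _ (mem_inter.mpr ⟨hxP, h⟩)
    have h1 := card_le_card hsubPO
    have h2'' := card_union_le ((P ∩ t1) ∪ (P ∩ Y)) (P ∩ Z)
    have h3 := card_union_le (P ∩ t1) (P ∩ Y)
    have h6 := card_le_card (inter_subset_right : P ∩ Z ⊆ Z)
    have hPZ : P ∩ Z = Z := eq_of_subset_of_card_le inter_subset_right (by omega)
    have hZP : Z ⊆ P := by rw [← hPZ]; exact inter_subset_left
    have hZ2 : Z.card = 2 := by omega
    have hdisj : Disjoint s' Z := by
      rw [disjoint_left]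
      intro x hx1 hx2
      exact (mem_sdiff.mp hx2).2 (mem_union_left _ (mem_inter.mp (hs's hx1)).1)
    have hPD : P = D := by
      apply block_unique hB hP hD (u := s' ∪ Z)
      · rw [card_union_of_disjoint hdisj, hs'c, hZ2]
      · exact union_subset hs'P hZP
      · exact union_subset (hs's.trans hsD) hZD
    exact ha4P (hPD ▸ hsD ha4)
  · -- the good case
    have hOc' : O ∩ c = t2 := eq_of_subset_of_card_le hOc_sub (by rw [ht2c, h4'])
    have ht2O : t2 ⊆ O := by rw [← hOc']; exact inter_subset_left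
    have hdisj : Disjoint t1 t2 := by
      rw [disjoint_left]
      intro x hx1 hx2
      exact (mem_sdiff.mp hx2).2 (mem_sdiff.mp hx1).1
    have hsd : symmDiff b c = t1 ∪ t2 := rfl
    have : t1 ∪ t2 = O := by
      apply eq_of_subset_of_card_le (union_subset ht1O ht2O)
      rw [card_union_of_disjoint hdisj, ht1c, ht2c, hO8]
    rw [hsd, this]
    exact hO

end Cfsg.Agent.Lib.Helper6.Steiner
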