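import Cfsg.Agent.Lib.Helper6.SuzBTCData
import Cfsg.Agent.Lib.Helper6.SuzBSE
import Cfsg.Agent.Lib.Helper6.SuzBSJ
import Cfsg.Agent.Lib.Helper6.SuzBSM

/-! # SuzB: the table with a proof for every entry -/

set_option autoImplicit false

namespace Cfsg.Agent.Lib.Helper6.SuzBTC

open Cfsg.Agent.Lib.Helper6.TC Cfsg.Agent.Lib.Helper6.TCS

/-- the table with a proof for every entry -/
def cert : SCert := ⟨cfg, 20, 153825, arrE, arrM, arrJ, arrJM, arrP⟩

end Cfsg.Agent.Lib.Helper6.SuzBTC
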