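import Cfsg.Agent.Lib.Helper6.SuzBSCert
import Cfsg.Agent.Lib.Helper6.SuzBSRows1

/-! # SuzB: the kernel check of the rows from 48000 on -/

set_option autoImplicit false

namespace Cfsg.Agent.Lib.Helper6.SuzBTC

open Cfsg.Agent.Lib.Helper6.TC Cfsg.Agent.Lib.Helper6.TCS

theorem chk_rows5_0 : cert.rowsOK 48000 600 = true := by decide +kernel

theorem chk_rows5_1 : cert.rowsOK 48600 600 = true := by decide +kernel

theorem chk_rows5_2 : cert.rowsOK 49200 600 = true := by decide +kernel

theorem chk_rows5_3 : cert.rowsOK 49800 600 = true := by decide +kernel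

theorem chk_rows5_4 : cert.rowsOK 50400 600 = true := by decide +kernel

theorem chk_rows5_5 : cert.rowsOK 51000 600 = true := by decide +kernel

theorem chk_rows5_6 : cert.rowsOK 51600 600 = true := by decide +kernel

theorem chk_rows5_7 : cert.rowsOK 52200 600 = true := by decide +kernel

theorem chk_rows5_8 : cert.rowsOK 52800 600 = true := by decide +kernel

theorem chk_rows5_9 : cert.rowsOK 53400 600 = true := by decide +kernel

theorem chk_rows5_10 : cert.rowsOK 54000 600 = true := by decide +kernel

theorem chk_rows5_11 : cert.rowsOK 54600 600 = true := by decide +kernel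

theorem chk_rows5_12 : cert.rowsOK 55200 600 = true := by decide +kernel

theorem chk_rows5_13 : cert.rowsOK 55800 600 = true := by decide +kernel

theorem chk_rows5_14 : cert.rowsOK 56400 600 = true := by decide +kernel

theorem chk_rows5_15 : cert.rowsOK 57000 600 = true := by decide +kernel

theorem chk_range5 : ∀ a, 48000 ≤ a → a < 48000 + 9600 → ∀ x < cert.c.g, cert.slotOK a x = true := by
  refine cert.range_of_chunks 48000 600 16 (by norm_num) ?_
  intro k hk
  interval_cases k
  · exact chk_rows5_0
  · exact chk_rows5_1
  · exact chk_rows5_2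
  · exact chk_rows5_3
  · exact chk_rows5_4
  · exact chk_rows5_5
  · exact chk_rows5_6
  · exact chk_rows5_7
  · exact chk_rows5_8
  · exact chk_rows5_9
  · exact chk_rows5_10
  · exact chk_rows5_11
  · exact chk_rows5_12
  · exact chk_rows5_13
  · exact chk_rows5_14
  · exact chk_rows5_15

end Cfsg.Agent.Lib.Helper6.SuzBTC
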