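import Cfsg.Agent.Lib.Helper6.SuzBSCert
import Cfsg.Agent.Lib.Helper6.SuzBSRows5

/-! # SuzB: the kernel check of the rows from 86400 on -/

set_option autoImplicit false

namespace Cfsg.Agent.Lib.Helper6.SuzBTC

open Cfsg.Agent.Lib.Helper6.TC Cfsg.Agent.Lib.Helper6.TCS

theorem chk_rows9_0 : cert.rowsOK 86400 600 = true := by decide +kernel

theorem chk_rows9_1 : cert.rowsOK 87000 600 = true := by decide +kernel

theorem chk_rows9_2 : cert.rowsOK 87600 600 = true := by decide +kernel

theorem chk_rows9_3 : cert.rowsOK 88200 600 = true := by decide +kernel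

theorem chk_rows9_4 : cert.rowsOK 88800 600 = true := by decide +kernel

theorem chk_rows9_5 : cert.rowsOK 89400 600 = true := by decide +kernel

theorem chk_rows9_6 : cert.rowsOK 90000 600 = true := by decide +kernel

theorem chk_rows9_7 : cert.rowsOK 90600 600 = true := by decide +kernel

theorem chk_rows9_8 : cert.rowsOK 91200 600 = true := by decide +kernel

theorem chk_rows9_9 : cert.rowsOK 91800 600 = true := by decide +kernel

theorem chk_rows9_10 : cert.rowsOK 92400 600 = true := by decide +kernel

theorem chk_rows9_11 : cert.rowsOK 93000 600 = true := by decide +kernel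

theorem chk_rows9_12 : cert.rowsOK 93600 600 = true := by decide +kernel

theorem chk_rows9_13 : cert.rowsOK 94200 600 = true := by decide +kernel

theorem chk_rows9_14 : cert.rowsOK 94800 600 = true := by decide +kernel

theorem chk_rows9_15 : cert.rowsOK 95400 600 = true := by decide +kernel

theorem chk_range9 : ∀ a, 86400 ≤ a → a < 86400 + 9600 → ∀ x < cert.c.g, cert.slotOK a x = true := by
  refine cert.range_of_chunks 86400 600 16 (by norm_num) ?_
  intro k hk
  interval_cases k
  · exact chk_rows9_0
  · exact chk_rows9_1
  · exact chk_rows9_2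
  · exact chk_rows9_3
  · exact chk_rows9_4
  · exact chk_rows9_5
  · exact chk_rows9_6
  · exact chk_rows9_7
  · exact chk_rows9_8
  · exact chk_rows9_9
  · exact chk_rows9_10
  · exact chk_rows9_11
  · exact chk_rows9_12
  · exact chk_rows9_13
  · exact chk_rows9_14
  · exact chk_rows9_15

end Cfsg.Agent.Lib.Helper6.SuzBTC
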