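import Cfsg.Agent.Lib.Helper6.SuzBSCert
import Cfsg.Agent.Lib.Helper6.SuzBSRows9

/-! # SuzB: the kernel check of the rows from 124800 on -/

set_option autoImplicit false

namespace Cfsg.Agent.Lib.Helper6.SuzBTC

open Cfsg.Agent.Lib.Helper6.TC Cfsg.Agent.Lib.Helper6.TCS

theorem chk_rows13_0 : cert.rowsOK 124800 600 = true := by decide +kernel

theorem chk_rows13_1 : cert.rowsOK 125400 600 = true := by decide +kernel

theorem chk_rows13_2 : cert.rowsOK 126000 600 = true := by decide +kernel

theorem chk_rows13_3 : cert.rowsOK 126600 600 = true := by decide +kernel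

theorem chk_rows13_4 : cert.rowsOK 127200 600 = true := by decide +kernel

theorem chk_rows13_5 : cert.rowsOK 127800 600 = true := by decide +kernel

theorem chk_rows13_6 : cert.rowsOK 128400 600 = true := by decide +kernel

theorem chk_rows13_7 : cert.rowsOK 129000 600 = true := by decide +kernel

theorem chk_rows13_8 : cert.rowsOK 129600 600 = true := by decide +kernel

theorem chk_rows13_9 : cert.rowsOK 130200 600 = true := by decide +kernel

theorem chk_rows13_10 : cert.rowsOK 130800 600 = true := by decide +kernel

theorem chk_rows13_11 : cert.rowsOK 131400 600 = true := by decide +kernel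

theorem chk_rows13_12 : cert.rowsOK 132000 600 = true := by decide +kernel

theorem chk_rows13_13 : cert.rowsOK 132600 600 = true := by decide +kernel

theorem chk_rows13_14 : cert.rowsOK 133200 600 = true := by decide +kernel

theorem chk_rows13_15 : cert.rowsOK 133800 600 = true := by decide +kernel

theorem chk_range13 : ∀ a, 124800 ≤ a → a < 124800 + 9600 → ∀ x < cert.c.g, cert.slotOK a x = true := by
  refine cert.range_of_chunks 124800 600 16 (by norm_num) ?_
  intro k hk
  interval_cases k
  · exact chk_rows13_0
  · exact chk_rows13_1
  · exact chk_rows13_2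
  · exact chk_rows13_3
  · exact chk_rows13_4
  · exact chk_rows13_5
  · exact chk_rows13_6
  · exact chk_rows13_7
  · exact chk_rows13_8
  · exact chk_rows13_9
  · exact chk_rows13_10
  · exact chk_rows13_11
  · exact chk_rows13_12
  · exact chk_rows13_13
  · exact chk_rows13_14
  · exact chk_rows13_15

end Cfsg.Agent.Lib.Helper6.SuzBTC
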