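import Cfsg.Agent.Lib.Helper6.SuzBSCert
import Cfsg.Agent.Lib.Helper6.SuzBSRows2

/-! # SuzB: the kernel check of the rows from 57600 on -/

set_option autoImplicit false

namespace Cfsg.Agent.Lib.Helper6.SuzBTC

open Cfsg.Agent.Lib.Helper6.TC Cfsg.Agent.Lib.Helper6.TCS

theorem chk_rows6_0 : cert.rowsOK 57600 600 = true := by decide +kernel

theorem chk_rows6_1 : cert.rowsOK 58200 600 = true := by decide +kernel

theorem chk_rows6_2 : cert.rowsOK 58800 600 = true := by decide +kernel

theorem chk_rows6_3 : cert.rowsOK 59400 600 = true := by decide +kernel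

theorem chk_rows6_4 : cert.rowsOK 60000 600 = true := by decide +kernel

theorem chk_rows6_5 : cert.rowsOK 60600 600 = true := by decide +kernel

theorem chk_rows6_6 : cert.rowsOK 61200 600 = true := by decide +kernel

theorem chk_rows6_7 : cert.rowsOK 61800 600 = true := by decide +kernel

theorem chk_rows6_8 : cert.rowsOK 62400 600 = true := by decide +kernel

theorem chk_rows6_9 : cert.rowsOK 63000 600 = true := by decide +kernel

theorem chk_rows6_10 : cert.rowsOK 63600 600 = true := by decide +kernel

theorem chk_rows6_11 : cert.rowsOK 64200 600 = true := by decide +kernel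

theorem chk_rows6_12 : cert.rowsOK 64800 600 = true := by decide +kernel

theorem chk_rows6_13 : cert.rowsOK 65400 600 = true := by decide +kernel

theorem chk_rows6_14 : cert.rowsOK 66000 600 = true := by decide +kernel

theorem chk_rows6_15 : cert.rowsOK 66600 600 = true := by decide +kernel

theorem chk_range6 : ∀ a, 57600 ≤ a → a < 57600 + 9600 → ∀ x < cert.c.g, cert.slotOK a x = true := by
  refine cert.range_of_chunks 57600 600 16 (by norm_num) ?_
  intro k hk
  interval_cases k
  · exact chk_rows6_0
  · exact chk_rows6_1
  · exact chk_rows6_2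
  · exact chk_rows6_3
  · exact chk_rows6_4
  · exact chk_rows6_5
  · exact chk_rows6_6
  · exact chk_rows6_7
  · exact chk_rows6_8
  · exact chk_rows6_9
  · exact chk_rows6_10
  · exact chk_rows6_11
  · exact chk_rows6_12
  · exact chk_rows6_13
  · exact chk_rows6_14
  · exact chk_rows6_15

end Cfsg.Agent.Lib.Helper6.SuzBTC
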