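import Cfsg.Agent.Lib.Helper6.SuzBSCert
import Cfsg.Agent.Lib.Helper6.SuzBSRows6

/-! # SuzB: the kernel check of the rows from 96000 on -/

set_option autoImplicit false

namespace Cfsg.Agent.Lib.Helper6.SuzBTC

open Cfsg.Agent.Lib.Helper6.TC Cfsg.Agent.Lib.Helper6.TCS

theorem chk_rows10_0 : cert.rowsOK 96000 600 = true := by decide +kernel

theorem chk_rows10_1 : cert.rowsOK 96600 600 = true := by decide +kernel

theorem chk_rows10_2 : cert.rowsOK 97200 600 = true := by decide +kernel

theorem chk_rows10_3 : cert.rowsOK 97800 600 = true := by decide +kernel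

theorem chk_rows10_4 : cert.rowsOK 98400 600 = true := by decide +kernel

theorem chk_rows10_5 : cert.rowsOK 99000 600 = true := by decide +kernel

theorem chk_rows10_6 : cert.rowsOK 99600 600 = true := by decide +kernel

theorem chk_rows10_7 : cert.rowsOK 100200 600 = true := by decide +kernel

theorem chk_rows10_8 : cert.rowsOK 100800 600 = true := by decide +kernel

theorem chk_rows10_9 : cert.rowsOK 101400 600 = true := by decide +kernel

theorem chk_rows10_10 : cert.rowsOK 102000 600 = true := by decide +kernel

theorem chk_rows10_11 : cert.rowsOK 102600 600 = true := by decide +kernel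

theorem chk_rows10_12 : cert.rowsOK 103200 600 = true := by decide +kernel

theorem chk_rows10_13 : cert.rowsOK 103800 600 = true := by decide +kernel

theorem chk_rows10_14 : cert.rowsOK 104400 600 = true := by decide +kernel

theorem chk_rows10_15 : cert.rowsOK 105000 600 = true := by decide +kernel

theorem chk_range10 : ∀ a, 96000 ≤ a → a < 96000 + 9600 → ∀ x < cert.c.g, cert.slotOK a x = true := by
  refine cert.range_of_chunks 96000 600 16 (by norm_num) ?_
  intro k hk
  interval_cases k
  · exact chk_rows10_0
  · exact chk_rows10_1
  · exact chk_rows10_2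
  · exact chk_rows10_3
  · exact chk_rows10_4
  · exact chk_rows10_5
  · exact chk_rows10_6
  · exact chk_rows10_7
  · exact chk_rows10_8
  · exact chk_rows10_9
  · exact chk_rows10_10
  · exact chk_rows10_11
  · exact chk_rows10_12
  · exact chk_rows10_13
  · exact chk_rows10_14
  · exact chk_rows10_15

end Cfsg.Agent.Lib.Helper6.SuzBTC
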