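import Cfsg.Agent.Lib.Helper6.SuzBSCert
import Cfsg.Agent.Lib.Helper6.SuzBSRows10

/-! # SuzB: the kernel check of the rows from 134400 on -/

set_option autoImplicit false

namespace Cfsg.Agent.Lib.Helper6.SuzBTC

open Cfsg.Agent.Lib.Helper6.TC Cfsg.Agent.Lib.Helper6.TCS

theorem chk_rows14_0 : cert.rowsOK 134400 600 = true := by decide +kernel

theorem chk_rows14_1 : cert.rowsOK 135000 600 = true := by decide +kernel

theorem chk_rows14_2 : cert.rowsOK 135600 600 = true := by decide +kernel

theorem chk_rows14_3 : cert.rowsOK 136200 600 = true := by decide +kernel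

theorem chk_rows14_4 : cert.rowsOK 136800 600 = true := by decide +kernel

theorem chk_rows14_5 : cert.rowsOK 137400 600 = true := by decide +kernel

theorem chk_rows14_6 : cert.rowsOK 138000 600 = true := by decide +kernel

theorem chk_rows14_7 : cert.rowsOK 138600 600 = true := by decide +kernel

theorem chk_rows14_8 : cert.rowsOK 139200 600 = true := by decide +kernel

theorem chk_rows14_9 : cert.rowsOK 139800 600 = true := by decide +kernel

theorem chk_rows14_10 : cert.rowsOK 140400 600 = true := by decide +kernel

theorem chk_rows14_11 : cert.rowsOK 141000 600 = true := by decide +kernel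

theorem chk_rows14_12 : cert.rowsOK 141600 600 = true := by decide +kernel

theorem chk_rows14_13 : cert.rowsOK 142200 600 = true := by decide +kernel

theorem chk_rows14_14 : cert.rowsOK 142800 600 = true := by decide +kernel

theorem chk_rows14_15 : cert.rowsOK 143400 600 = true := by decide +kernel

theorem chk_range14 : ∀ a, 134400 ≤ a → a < 134400 + 9600 → ∀ x < cert.c.g, cert.slotOK a x = true := by
  refine cert.range_of_chunks 134400 600 16 (by norm_num) ?_
  intro k hk
  interval_cases k
  · exact chk_rows14_0
  · exact chk_rows14_1
  · exact chk_rows14_2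
  · exact chk_rows14_3
  · exact chk_rows14_4
  · exact chk_rows14_5
  · exact chk_rows14_6
  · exact chk_rows14_7
  · exact chk_rows14_8
  · exact chk_rows14_9
  · exact chk_rows14_10
  · exact chk_rows14_11
  · exact chk_rows14_12
  · exact chk_rows14_13
  · exact chk_rows14_14
  · exact chk_rows14_15

end Cfsg.Agent.Lib.Helper6.SuzBTC
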