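import Cfsg.Agent.Lib.Helper6.SuzBSCert
import Cfsg.Agent.Lib.Helper6.SuzBSRows14

/-! # SuzB: the kernel check of the merge map from row 40000 on -/

set_option autoImplicit false

namespace Cfsg.Agent.Lib.Helper6.SuzBTC

open Cfsg.Agent.Lib.Helper6.TC Cfsg.Agent.Lib.Helper6.TCS

theorem chk_mrows1_0 : cert.mrowsOK 40000 5000 = true := by decide +kernel

theorem chk_mrows1_1 : cert.mrowsOK 45000 5000 = true := by decide +kernel

theorem chk_mrows1_2 : cert.mrowsOK 50000 5000 = true := by decide +kernel

theorem chk_mrows1_3 : cert.mrowsOK 55000 5000 = true := by decide +kernel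

theorem chk_mrows1_4 : cert.mrowsOK 60000 5000 = true := by decide +kernel

theorem chk_mrows1_5 : cert.mrowsOK 65000 5000 = true := by decide +kernel

theorem chk_mrows1_6 : cert.mrowsOK 70000 5000 = true := by decide +kernel

theorem chk_mrows1_7 : cert.mrowsOK 75000 5000 = true := by decide +kernel

theorem chk_mrange1 : ∀ a, 40000 ≤ a → a < 40000 + 40000 → cert.mslotOK a = true := by
  refine cert.mrange_of_chunks 40000 5000 8 (by norm_num) ?_
  intro k hk
  interval_cases k
  · exact chk_mrows1_0
  · exact chk_mrows1_1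
  · exact chk_mrows1_2
  · exact chk_mrows1_3
  · exact chk_mrows1_4
  · exact chk_mrows1_5
  · exact chk_mrows1_6
  · exact chk_mrows1_7

end Cfsg.Agent.Lib.Helper6.SuzBTC
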