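import Cfsg.Agent.Lib.Helper6.SuzBSCert

/-! # SuzB: the kernel check of the rows from 28800 on -/

set_option autoImplicit false

namespace Cfsg.Agent.Lib.Helper6.SuzBTC

open Cfsg.Agent.Lib.Helper6.TC Cfsg.Agent.Lib.Helper6.TCS

theorem chk_rows3_0 : cert.rowsOK 28800 600 = true := by decide +kernel

theorem chk_rows3_1 : cert.rowsOK 29400 600 = true := by decide +kernel

theorem chk_rows3_2 : cert.rowsOK 30000 600 = true := by decide +kernel

theorem chk_rows3_3 : cert.rowsOK 30600 600 = true := by decide +kernel

theorem chk_rows3_4 : cert.rowsOK 31200 600 = true := by decide +kernel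

theorem chk_rows3_5 : cert.rowsOK 31800 600 = true := by decide +kernel

theorem chk_rows3_6 : cert.rowsOK 32400 600 = true := by decide +kernel

theorem chk_rows3_7 : cert.rowsOK 33000 600 = true := by decide +kernel

theorem chk_rows3_8 : cert.rowsOK 33600 600 = true := by decide +kernel

theorem chk_rows3_9 : cert.rowsOK 34200 600 = true := by decide +kernel

theorem chk_rows3_10 : cert.rowsOK 34800 600 = true := by decide +kernel

theorem chk_rows3_11 : cert.rowsOK 35400 600 = true := by decide +kernel

theorem chk_rows3_12 : cert.rowsOK 36000 600 = true := by decide +kernel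

theorem chk_rows3_13 : cert.rowsOK 36600 600 = true := by decide +kernel

theorem chk_rows3_14 : cert.rowsOK 37200 600 = true := by decide +kernel

theorem chk_rows3_15 : cert.rowsOK 37800 600 = true := by decide +kernel

theorem chk_range3 : ∀ a, 28800 ≤ a → a < 28800 + 9600 → ∀ x < cert.c.g, cert.slotOK a x = true := by
  refine cert.range_of_chunks 28800 600 16 (by norm_num) ?_
  intro k hk
  interval_cases k
  · exact chk_rows3_0
  · exact chk_rows3_1
  · exact chk_rows3_2
  · exact chk_rows3_3
  · exact chk_rows3_4
  · exact chk_rows3_5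
  · exact chk_rows3_6
  · exact chk_rows3_7
  · exact chk_rows3_8
  · exact chk_rows3_9
  · exact chk_rows3_10
  · exact chk_rows3_11
  · exact chk_rows3_12
  · exact chk_rows3_13
  · exact chk_rows3_14
  · exact chk_rows3_15

end Cfsg.Agent.Lib.Helper6.SuzBTC
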