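import Cfsg.Agent.Lib.Helper6.SuzBSCert
import Cfsg.Agent.Lib.Helper6.SuzBSRows3

/-! # SuzB: the kernel check of the rows from 67200 on -/

set_option autoImplicit false

namespace Cfsg.Agent.Lib.Helper6.SuzBTC

open Cfsg.Agent.Lib.Helper6.TC Cfsg.Agent.Lib.Helper6.TCS

theorem chk_rows7_0 : cert.rowsOK 67200 600 = true := by decide +kernel

theorem chk_rows7_1 : cert.rowsOK 67800 600 = true := by decide +kernel

theorem chk_rows7_2 : cert.rowsOK 68400 600 = true := by decide +kernel

theorem chk_rows7_3 : cert.rowsOK 69000 600 = true := by decide +kernel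

theorem chk_rows7_4 : cert.rowsOK 69600 600 = true := by decide +kernel

theorem chk_rows7_5 : cert.rowsOK 70200 600 = true := by decide +kernel

theorem chk_rows7_6 : cert.rowsOK 70800 600 = true := by decide +kernel

theorem chk_rows7_7 : cert.rowsOK 71400 600 = true := by decide +kernel

theorem chk_rows7_8 : cert.rowsOK 72000 600 = true := by decide +kernel

theorem chk_rows7_9 : cert.rowsOK 72600 600 = true := by decide +kernel

theorem chk_rows7_10 : cert.rowsOK 73200 600 = true := by decide +kernel

theorem chk_rows7_11 : cert.rowsOK 73800 600 = true := by decide +kernel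

theorem chk_rows7_12 : cert.rowsOK 74400 600 = true := by decide +kernel

theorem chk_rows7_13 : cert.rowsOK 75000 600 = true := by decide +kernel

theorem chk_rows7_14 : cert.rowsOK 75600 600 = true := by decide +kernel

theorem chk_rows7_15 : cert.rowsOK 76200 600 = true := by decide +kernel

theorem chk_range7 : ∀ a, 67200 ≤ a → a < 67200 + 9600 → ∀ x < cert.c.g, cert.slotOK a x = true := by
  refine cert.range_of_chunks 67200 600 16 (by norm_num) ?_
  intro k hk
  interval_cases k
  · exact chk_rows7_0
  · exact chk_rows7_1
  · exact chk_rows7_2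
  · exact chk_rows7_3
  · exact chk_rows7_4
  · exact chk_rows7_5
  · exact chk_rows7_6
  · exact chk_rows7_7
  · exact chk_rows7_8
  · exact chk_rows7_9
  · exact chk_rows7_10
  · exact chk_rows7_11
  · exact chk_rows7_12
  · exact chk_rows7_13
  · exact chk_rows7_14
  · exact chk_rows7_15

end Cfsg.Agent.Lib.Helper6.SuzBTC
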