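import Cfsg.Agent.Lib.Helper6.SuzBSCert
import Cfsg.Agent.Lib.Helper6.SuzBSRows7

/-! # SuzB: the kernel check of the rows from 105600 on -/

set_option autoImplicit false

namespace Cfsg.Agent.Lib.Helper6.SuzBTC

open Cfsg.Agent.Lib.Helper6.TC Cfsg.Agent.Lib.Helper6.TCS

theorem chk_rows11_0 : cert.rowsOK 105600 600 = true := by decide +kernel

theorem chk_rows11_1 : cert.rowsOK 106200 600 = true := by decide +kernel

theorem chk_rows11_2 : cert.rowsOK 106800 600 = true := by decide +kernel

theorem chk_rows11_3 : cert.rowsOK 107400 600 = true := by decide +kernel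

theorem chk_rows11_4 : cert.rowsOK 108000 600 = true := by decide +kernel

theorem chk_rows11_5 : cert.rowsOK 108600 600 = true := by decide +kernel

theorem chk_rows11_6 : cert.rowsOK 109200 600 = true := by decide +kernel

theorem chk_rows11_7 : cert.rowsOK 109800 600 = true := by decide +kernel

theorem chk_rows11_8 : cert.rowsOK 110400 600 = true := by decide +kernel

theorem chk_rows11_9 : cert.rowsOK 111000 600 = true := by decide +kernel

theorem chk_rows11_10 : cert.rowsOK 111600 600 = true := by decide +kernel

theorem chk_rows11_11 : cert.rowsOK 112200 600 = true := by decide +kernel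

theorem chk_rows11_12 : cert.rowsOK 112800 600 = true := by decide +kernel

theorem chk_rows11_13 : cert.rowsOK 113400 600 = true := by decide +kernel

theorem chk_rows11_14 : cert.rowsOK 114000 600 = true := by decide +kernel

theorem chk_rows11_15 : cert.rowsOK 114600 600 = true := by decide +kernel

theorem chk_range11 : ∀ a, 105600 ≤ a → a < 105600 + 9600 → ∀ x < cert.c.g, cert.slotOK a x = true := by
  refine cert.range_of_chunks 105600 600 16 (by norm_num) ?_
  intro k hk
  interval_cases k
  · exact chk_rows11_0
  · exact chk_rows11_1
  · exact chk_rows11_2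
  · exact chk_rows11_3
  · exact chk_rows11_4
  · exact chk_rows11_5
  · exact chk_rows11_6
  · exact chk_rows11_7
  · exact chk_rows11_8
  · exact chk_rows11_9
  · exact chk_rows11_10
  · exact chk_rows11_11
  · exact chk_rows11_12
  · exact chk_rows11_13
  · exact chk_rows11_14
  · exact chk_rows11_15

end Cfsg.Agent.Lib.Helper6.SuzBTC
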