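import Cfsg.Agent.Lib.Helper6.SuzBSCert
import Cfsg.Agent.Lib.Helper6.SuzBSRows11

/-! # SuzB: the kernel check of the rows from 144000 on -/

set_option autoImplicit false

namespace Cfsg.Agent.Lib.Helper6.SuzBTC

open Cfsg.Agent.Lib.Helper6.TC Cfsg.Agent.Lib.Helper6.TCS

theorem chk_rows15_0 : cert.rowsOK 144000 600 = true := by decide +kernel

theorem chk_rows15_1 : cert.rowsOK 144600 600 = true := by decide +kernel

theorem chk_rows15_2 : cert.rowsOK 145200 600 = true := by decide +kernel

theorem chk_rows15_3 : cert.rowsOK 145800 600 = true := by decide +kernel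

theorem chk_rows15_4 : cert.rowsOK 146400 600 = true := by decide +kernel

theorem chk_rows15_5 : cert.rowsOK 147000 600 = true := by decide +kernel

theorem chk_rows15_6 : cert.rowsOK 147600 600 = true := by decide +kernel

theorem chk_rows15_7 : cert.rowsOK 148200 600 = true := by decide +kernel

theorem chk_rows15_8 : cert.rowsOK 148800 600 = true := by decide +kernel

theorem chk_rows15_9 : cert.rowsOK 149400 600 = true := by decide +kernel

theorem chk_rows15_10 : cert.rowsOK 150000 600 = true := by decide +kernel

theorem chk_rows15_11 : cert.rowsOK 150600 600 = true := by decide +kernel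

theorem chk_rows15_12 : cert.rowsOK 151200 600 = true := by decide +kernel

theorem chk_rows15_13 : cert.rowsOK 151800 600 = true := by decide +kernel

theorem chk_rows15_14 : cert.rowsOK 152400 600 = true := by decide +kernel

theorem chk_rows15_15 : cert.rowsOK 153000 600 = true := by decide +kernel

theorem chk_range15 : ∀ a, 144000 ≤ a → a < 144000 + 9600 → ∀ x < cert.c.g, cert.slotOK a x = true := by
  refine cert.range_of_chunks 144000 600 16 (by norm_num) ?_
  intro k hk
  interval_cases k
  · exact chk_rows15_0
  · exact chk_rows15_1
  · exact chk_rows15_2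
  · exact chk_rows15_3
  · exact chk_rows15_4
  · exact chk_rows15_5
  · exact chk_rows15_6
  · exact chk_rows15_7
  · exact chk_rows15_8
  · exact chk_rows15_9
  · exact chk_rows15_10
  · exact chk_rows15_11
  · exact chk_rows15_12
  · exact chk_rows15_13
  · exact chk_rows15_14
  · exact chk_rows15_15

end Cfsg.Agent.Lib.Helper6.SuzBTC
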