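import Cfsg.Agent.Lib.Helper6.SuzBSCert
import Cfsg.Agent.Lib.Helper6.SuzBSRows15

/-! # SuzB: the kernel check of the merge map from row 80000 on -/

set_option autoImplicit false

namespace Cfsg.Agent.Lib.Helper6.SuzBTC

open Cfsg.Agent.Lib.Helper6.TC Cfsg.Agent.Lib.Helper6.TCS

theorem chk_mrows2_0 : cert.mrowsOK 80000 5000 = true := by decide +kernel

theorem chk_mrows2_1 : cert.mrowsOK 85000 5000 = true := by decide +kernel

theorem chk_mrows2_2 : cert.mrowsOK 90000 5000 = true := by decide +kernel

theorem chk_mrows2_3 : cert.mrowsOK 95000 5000 = true := by decide +kernel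

theorem chk_mrows2_4 : cert.mrowsOK 100000 5000 = true := by decide +kernel

theorem chk_mrows2_5 : cert.mrowsOK 105000 5000 = true := by decide +kernel

theorem chk_mrows2_6 : cert.mrowsOK 110000 5000 = true := by decide +kernel

theorem chk_mrows2_7 : cert.mrowsOK 115000 5000 = true := by decide +kernel

theorem chk_mrange2 : ∀ a, 80000 ≤ a → a < 80000 + 40000 → cert.mslotOK a = true := by
  refine cert.mrange_of_chunks 80000 5000 8 (by norm_num) ?_
  intro k hk
  interval_cases k
  · exact chk_mrows2_0
  · exact chk_mrows2_1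
  · exact chk_mrows2_2
  · exact chk_mrows2_3
  · exact chk_mrows2_4
  · exact chk_mrows2_5
  · exact chk_mrows2_6
  · exact chk_mrows2_7

end Cfsg.Agent.Lib.Helper6.SuzBTC
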