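import Cfsg.Agent.Lib.Helper6.SuzBSCert
import Cfsg.Agent.Lib.Helper6.SuzBSRows0

/-! # SuzB: the kernel check of the rows from 38400 on -/

set_option autoImplicit false

namespace Cfsg.Agent.Lib.Helper6.SuzBTC

open Cfsg.Agent.Lib.Helper6.TC Cfsg.Agent.Lib.Helper6.TCS

theorem chk_rows4_0 : cert.rowsOK 38400 600 = true := by decide +kernel

theorem chk_rows4_1 : cert.rowsOK 39000 600 = true := by decide +kernel

theorem chk_rows4_2 : cert.rowsOK 39600 600 = true := by decide +kernel

theorem chk_rows4_3 : cert.rowsOK 40200 600 = true := by decide +kernel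

theorem chk_rows4_4 : cert.rowsOK 40800 600 = true := by decide +kernel

theorem chk_rows4_5 : cert.rowsOK 41400 600 = true := by decide +kernel

theorem chk_rows4_6 : cert.rowsOK 42000 600 = true := by decide +kernel

theorem chk_rows4_7 : cert.rowsOK 42600 600 = true := by decide +kernel

theorem chk_rows4_8 : cert.rowsOK 43200 600 = true := by decide +kernel

theorem chk_rows4_9 : cert.rowsOK 43800 600 = true := by decide +kernel

theorem chk_rows4_10 : cert.rowsOK 44400 600 = true := by decide +kernel

theorem chk_rows4_11 : cert.rowsOK 45000 600 = true := by decide +kernel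

theorem chk_rows4_12 : cert.rowsOK 45600 600 = true := by decide +kernel

theorem chk_rows4_13 : cert.rowsOK 46200 600 = true := by decide +kernel

theorem chk_rows4_14 : cert.rowsOK 46800 600 = true := by decide +kernel

theorem chk_rows4_15 : cert.rowsOK 47400 600 = true := by decide +kernel

theorem chk_range4 : ∀ a, 38400 ≤ a → a < 38400 + 9600 → ∀ x < cert.c.g, cert.slotOK a x = true := by
  refine cert.range_of_chunks 38400 600 16 (by norm_num) ?_
  intro k hk
  interval_cases k
  · exact chk_rows4_0
  · exact chk_rows4_1
  · exact chk_rows4_2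
  · exact chk_rows4_3
  · exact chk_rows4_4
  · exact chk_rows4_5
  · exact chk_rows4_6
  · exact chk_rows4_7
  · exact chk_rows4_8
  · exact chk_rows4_9
  · exact chk_rows4_10
  · exact chk_rows4_11
  · exact chk_rows4_12
  · exact chk_rows4_13
  · exact chk_rows4_14
  · exact chk_rows4_15

end Cfsg.Agent.Lib.Helper6.SuzBTC
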