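import Cfsg.Agent.Lib.Helper6.SuzBSCert
import Cfsg.Agent.Lib.Helper6.SuzBSRows4

/-! # SuzB: the kernel check of the rows from 76800 on -/

set_option autoImplicit false

namespace Cfsg.Agent.Lib.Helper6.SuzBTC

open Cfsg.Agent.Lib.Helper6.TC Cfsg.Agent.Lib.Helper6.TCS

theorem chk_rows8_0 : cert.rowsOK 76800 600 = true := by decide +kernel

theorem chk_rows8_1 : cert.rowsOK 77400 600 = true := by decide +kernel

theorem chk_rows8_2 : cert.rowsOK 78000 600 = true := by decide +kernel

theorem chk_rows8_3 : cert.rowsOK 78600 600 = true := by decide +kernel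

theorem chk_rows8_4 : cert.rowsOK 79200 600 = true := by decide +kernel

theorem chk_rows8_5 : cert.rowsOK 79800 600 = true := by decide +kernel

theorem chk_rows8_6 : cert.rowsOK 80400 600 = true := by decide +kernel

theorem chk_rows8_7 : cert.rowsOK 81000 600 = true := by decide +kernel

theorem chk_rows8_8 : cert.rowsOK 81600 600 = true := by decide +kernel

theorem chk_rows8_9 : cert.rowsOK 82200 600 = true := by decide +kernel

theorem chk_rows8_10 : cert.rowsOK 82800 600 = true := by decide +kernel

theorem chk_rows8_11 : cert.rowsOK 83400 600 = true := by decide +kernel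

theorem chk_rows8_12 : cert.rowsOK 84000 600 = true := by decide +kernel

theorem chk_rows8_13 : cert.rowsOK 84600 600 = true := by decide +kernel

theorem chk_rows8_14 : cert.rowsOK 85200 600 = true := by decide +kernel

theorem chk_rows8_15 : cert.rowsOK 85800 600 = true := by decide +kernel

theorem chk_range8 : ∀ a, 76800 ≤ a → a < 76800 + 9600 → ∀ x < cert.c.g, cert.slotOK a x = true := by
  refine cert.range_of_chunks 76800 600 16 (by norm_num) ?_
  intro k hk
  interval_cases k
  · exact chk_rows8_0
  · exact chk_rows8_1
  · exact chk_rows8_2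
  · exact chk_rows8_3
  · exact chk_rows8_4
  · exact chk_rows8_5
  · exact chk_rows8_6
  · exact chk_rows8_7
  · exact chk_rows8_8
  · exact chk_rows8_9
  · exact chk_rows8_10
  · exact chk_rows8_11
  · exact chk_rows8_12
  · exact chk_rows8_13
  · exact chk_rows8_14
  · exact chk_rows8_15

end Cfsg.Agent.Lib.Helper6.SuzBTC
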