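import Cfsg.Agent.Lib.Helper6.SuzBSCert
import Cfsg.Agent.Lib.Helper6.SuzBSRows8

/-! # SuzB: the kernel check of the rows from 115200 on -/

set_option autoImplicit false

namespace Cfsg.Agent.Lib.Helper6.SuzBTC

open Cfsg.Agent.Lib.Helper6.TC Cfsg.Agent.Lib.Helper6.TCS

theorem chk_rows12_0 : cert.rowsOK 115200 600 = true := by decide +kernel

theorem chk_rows12_1 : cert.rowsOK 115800 600 = true := by decide +kernel

theorem chk_rows12_2 : cert.rowsOK 116400 600 = true := by decide +kernel

theorem chk_rows12_3 : cert.rowsOK 117000 600 = true := by decide +kernel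

theorem chk_rows12_4 : cert.rowsOK 117600 600 = true := by decide +kernel

theorem chk_rows12_5 : cert.rowsOK 118200 600 = true := by decide +kernel

theorem chk_rows12_6 : cert.rowsOK 118800 600 = true := by decide +kernel

theorem chk_rows12_7 : cert.rowsOK 119400 600 = true := by decide +kernel

theorem chk_rows12_8 : cert.rowsOK 120000 600 = true := by decide +kernel

theorem chk_rows12_9 : cert.rowsOK 120600 600 = true := by decide +kernel

theorem chk_rows12_10 : cert.rowsOK 121200 600 = true := by decide +kernel

theorem chk_rows12_11 : cert.rowsOK 121800 600 = true := by decide +kernel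

theorem chk_rows12_12 : cert.rowsOK 122400 600 = true := by decide +kernel

theorem chk_rows12_13 : cert.rowsOK 123000 600 = true := by decide +kernel

theorem chk_rows12_14 : cert.rowsOK 123600 600 = true := by decide +kernel

theorem chk_rows12_15 : cert.rowsOK 124200 600 = true := by decide +kernel

theorem chk_range12 : ∀ a, 115200 ≤ a → a < 115200 + 9600 → ∀ x < cert.c.g, cert.slotOK a x = true := by
  refine cert.range_of_chunks 115200 600 16 (by norm_num) ?_
  intro k hk
  interval_cases k
  · exact chk_rows12_0
  · exact chk_rows12_1
  · exact chk_rows12_2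
  · exact chk_rows12_3
  · exact chk_rows12_4
  · exact chk_rows12_5
  · exact chk_rows12_6
  · exact chk_rows12_7
  · exact chk_rows12_8
  · exact chk_rows12_9
  · exact chk_rows12_10
  · exact chk_rows12_11
  · exact chk_rows12_12
  · exact chk_rows12_13
  · exact chk_rows12_14
  · exact chk_rows12_15

end Cfsg.Agent.Lib.Helper6.SuzBTC
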