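import Cfsg.Agent.Lib.Helper6.SuzBSCert
import Cfsg.Agent.Lib.Helper6.SuzBSRows12

/-! # SuzB: the kernel check of the rows from 153600 on -/

set_option autoImplicit false

namespace Cfsg.Agent.Lib.Helper6.SuzBTC

open Cfsg.Agent.Lib.Helper6.TC Cfsg.Agent.Lib.Helper6.TCS

theorem chk_rows16_0 : cert.rowsOK 153600 600 = true := by decide +kernel

theorem chk_rows16_1 : cert.rowsOK 154200 600 = true := by decide +kernel

theorem chk_rows16_2 : cert.rowsOK 154800 600 = true := by decide +kernel

theorem chk_rows16_3 : cert.rowsOK 155400 600 = true := by decide +kernel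

theorem chk_rows16_4 : cert.rowsOK 156000 600 = true := by decide +kernel

theorem chk_rows16_5 : cert.rowsOK 156600 600 = true := by decide +kernel

theorem chk_rows16_6 : cert.rowsOK 157200 600 = true := by decide +kernel

theorem chk_rows16_7 : cert.rowsOK 157800 600 = true := by decide +kernel

theorem chk_rows16_8 : cert.rowsOK 158400 600 = true := by decide +kernel

theorem chk_rows16_9 : cert.rowsOK 159000 600 = true := by decide +kernel

theorem chk_rows16_10 : cert.rowsOK 159600 600 = true := by decide +kernel

theorem chk_rows16_11 : cert.rowsOK 160200 600 = true := by decide +kernel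

theorem chk_rows16_12 : cert.rowsOK 160800 600 = true := by decide +kernel

theorem chk_rows16_13 : cert.rowsOK 161400 600 = true := by decide +kernel

theorem chk_rows16_14 : cert.rowsOK 162000 600 = true := by decide +kernel

theorem chk_rows16_15 : cert.rowsOK 162600 600 = true := by decide +kernel

theorem chk_range16 : ∀ a, 153600 ≤ a → a < 153600 + 9600 → ∀ x < cert.c.g, cert.slotOK a x = true := by
  refine cert.range_of_chunks 153600 600 16 (by norm_num) ?_
  intro k hk
  interval_cases k
  · exact chk_rows16_0
  · exact chk_rows16_1
  · exact chk_rows16_2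
  · exact chk_rows16_3
  · exact chk_rows16_4
  · exact chk_rows16_5
  · exact chk_rows16_6
  · exact chk_rows16_7
  · exact chk_rows16_8
  · exact chk_rows16_9
  · exact chk_rows16_10
  · exact chk_rows16_11
  · exact chk_rows16_12
  · exact chk_rows16_13
  · exact chk_rows16_14
  · exact chk_rows16_15

end Cfsg.Agent.Lib.Helper6.SuzBTC
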