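import Cfsg.Agent.Lib.Helper6.SuzBSCert
import Cfsg.Agent.Lib.Helper6.SuzBSRows16

/-! # SuzB: the kernel check of the merge map from row 120000 on -/

set_option autoImplicit false

namespace Cfsg.Agent.Lib.Helper6.SuzBTC

open Cfsg.Agent.Lib.Helper6.TC Cfsg.Agent.Lib.Helper6.TCS

theorem chk_mrows3_0 : cert.mrowsOK 120000 5000 = true := by decide +kernel

theorem chk_mrows3_1 : cert.mrowsOK 125000 5000 = true := by decide +kernel

theorem chk_mrows3_2 : cert.mrowsOK 130000 5000 = true := by decide +kernel

theorem chk_mrows3_3 : cert.mrowsOK 135000 5000 = true := by decide +kernel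

theorem chk_mrows3_4 : cert.mrowsOK 140000 5000 = true := by decide +kernel

theorem chk_mrows3_5 : cert.mrowsOK 145000 5000 = true := by decide +kernel

theorem chk_mrows3_6 : cert.mrowsOK 150000 5000 = true := by decide +kernel

theorem chk_mrows3_7 : cert.mrowsOK 155000 5000 = true := by decide +kernel

theorem chk_mrange3 : ∀ a, 120000 ≤ a → a < 120000 + 40000 → cert.mslotOK a = true := by
  refine cert.mrange_of_chunks 120000 5000 8 (by norm_num) ?_
  intro k hk
  interval_cases k
  · exact chk_mrows3_0
  · exact chk_mrows3_1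
  · exact chk_mrows3_2
  · exact chk_mrows3_3
  · exact chk_mrows3_4
  · exact chk_mrows3_5
  · exact chk_mrows3_6
  · exact chk_mrows3_7

end Cfsg.Agent.Lib.Helper6.SuzBTC
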