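import Cfsg.Agent.Lib.Helper6.SuzBSRows0
import Cfsg.Agent.Lib.Helper6.SuzBSRows1
import Cfsg.Agent.Lib.Helper6.SuzBSRows2
import Cfsg.Agent.Lib.Helper6.SuzBSRows3
import Cfsg.Agent.Lib.Helper6.SuzBSRows4
import Cfsg.Agent.Lib.Helper6.SuzBSRows5
import Cfsg.Agent.Lib.Helper6.SuzBSRows6
import Cfsg.Agent.Lib.Helper6.SuzBSRows7
import Cfsg.Agent.Lib.Helper6.SuzBSRows8
import Cfsg.Agent.Lib.Helper6.SuzBSRows9
import Cfsg.Agent.Lib.Helper6.SuzBSRows10
import Cfsg.Agent.Lib.Helper6.SuzBSRows11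
import Cfsg.Agent.Lib.Helper6.SuzBSRows12
import Cfsg.Agent.Lib.Helper6.SuzBSRows13
import Cfsg.Agent.Lib.Helper6.SuzBSRows14
import Cfsg.Agent.Lib.Helper6.SuzBSRows15
import Cfsg.Agent.Lib.Helper6.SuzBSRows16
import Cfsg.Agent.Lib.Helper6.SuzBSMRows0
import Cfsg.Agent.Lib.Helper6.SuzBSMRows1
import Cfsg.Agent.Lib.Helper6.SuzBSMRows2
import Cfsg.Agent.Lib.Helper6.SuzBSMRows3
import Cfsg.Agent.Lib.Helper6.SuzBSFin0
import Cfsg.Agent.Lib.Helper6.SuzBSFin1

/-! # SuzB: the coset enumeration is checked -/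

set_option autoImplicit false

namespace Cfsg.Agent.Lib.Helper6.SuzBTC

open Cfsg.Agent.Lib.Helper6.TC Cfsg.Agent.Lib.Helper6.TCS

theorem chk_rows : ∀ a < cert.N, ∀ x < cert.c.g, cert.slotOK a x = true := by
  refine cert.rows_of_ranges 9600 17 (by norm_num) (by show 153825 ≤ 17 * 9600; norm_num) ?_
  intro f hf
  interval_cases f
  · exact chk_range0
  · exact chk_range1
  · exact chk_range2
  · exact chk_range3
  · exact chk_range4
  · exact chk_range5
  · exact chk_range6
  · exact chk_range7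
  · exact chk_range8
  · exact chk_range9
  · exact chk_range10
  · exact chk_range11
  · exact chk_range12
  · exact chk_range13
  · exact chk_range14
  · exact chk_range15
  · exact chk_range16

theorem chk_mrows : ∀ b < cert.N, cert.mslotOK b = true := by
  refine cert.mrows_of_ranges 40000 4 (by norm_num) (by show 153825 ≤ 4 * 40000; norm_num) ?_
  intro f hf
  interval_cases f
  · exact chk_mrange0
  · exact chk_mrange1
  · exact chk_mrange2
  · exact chk_mrange3

theorem chk_fin : cert.finalOK 22880 = true := by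
  refine cert.finalOK_of_chunks 22880 3000 8 (by norm_num) (by show 22880 ≤ 8 * 3000; norm_num) ?_
  intro k hk
  interval_cases k
  · exact chk_fin0
  · exact chk_fin1
  · exact chk_fin2
  · exact chk_fin3
  · exact chk_fin4
  · exact chk_fin5
  · exact chk_fin6
  · exact chk_fin7

theorem hrun : RunCert cfg tab.n :=
  RunCert.of_static cert 22880 (by norm_num) chk_rows chk_mrows chk_fin

end Cfsg.Agent.Lib.Helper6.SuzBTC
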