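import Cfsg.Agent.Lib.Helper6.TCPerm

/-! # Coset enumeration data for SuzQ4: configuration, table, words (generated) -/

set_option autoImplicit false
set_option maxRecDepth 1000000
set_option maxHeartbeats 4000000

namespace Cfsg.Agent.Lib.Helper6.SuzQ4TC

open Cfsg.Agent.Lib.Helper6.TC

/-- the configuration of the enumeration -/
def cfg : Cfg := ⟨4, 11, 1000000, 2, 72, 0x3232323200900000002323232030900000003232320320900000002323203230900000003232032320900000002320323230900000003203232320900000002032323230900000000323232320900000003232323020900000002323230230900000003232302320900000002323023230900000003230232320900000002302323230900000003023232320900000000232323230900000002323232300900000000000000330223232323232323231032323232323232321000000000000000220200000000000013130400000000000031310400000000001212120600000000002121210600000000000000110200000000000003030400000000000030300400000000000002020400000000000020200400000001010101010a00000010101010100a000000000000000002000000000000000101000000000000000001⟩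

/-- the number of words -/
def nw : ℕ := 36

/-- the words of the further relators -/
def extraWords : List (List ℕ) := [[0, 3, 2, 3, 2, 3, 2, 3, 2]]

/-- where the words come from -/
def srcs : List ℕ := [0, 512, 514, 1024, 1026, 1536, 1538, 2560, 3072, 3074, 3584, 3586, 5120, 5632, 5634, 7680, 8192, 8194, 8196, 8198, 8200, 8202, 8204, 8206, 8208, 8193, 8195, 8197, 8199, 8201, 8203, 8205, 8207, 8209]

/-- the coset table -/
def tab : Tab := ⟨4, 8, 216, .leaf 0xd7d5d8d8d8d3d7d7d0d1d6d6ced8cfd5cccdd4cdcad7cbd3c7d2d1c9c6d6d2d1d6c4d0d0c1cfd5c2d5c3c1cebed4c0d4d4bdccbebbcbd3c0d3bcbbcab8c9c8d2b7bfc9bfd2b4c6b8d1b3c7c6afb0c5b0add0aec4bcceacc3a9c2aacfcfb6cea9a8c0cdcba7c8bfc8cda6a8ccb1ccb2a6c3caa5bccba4caa8a2acb6abb6a3a2a3c9a0b7c7c89fb8a7b9c1ba9eaba19ca298c799a096c697b394b2bd95bdb1949d92c593c5c594af9291aec493c49691ada5bac390b5908fba8d8ec28ec29e8dc1c08cbebbbf89a7b79dbe88bdac86bc8785bb868c9eb984b9ba83b9b582b58a8380b881b47eb77f89a3a97db6a69d7cb18f7bb5997a8a7b8b8b7c9a7a7997b49cb48079807899b37bb3ad7896759576b2b2afb1757493b0aeb07574afae73ad7487ab71ac9c70ab796faa8eaaaa6ea96f6ca86da49a6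b8b9b6a9ba16b68a7699f7c6da667906677a565a5a466a46c656c7d64a38163a264a1a1656a63627fa084a098629861819f649f7e616884609e62889a9d5f5e9c9b979b5f5e9a995d988f975c965e715b87725a72955b95925a949359929158915c595776727777569057558f565d8e546f8d538d605451888c528c8551854f8b508a8a51824f4e69895089684e7e5f524d884b874c868682854b4a84837f834b4a828149807d7f487e4a477d6e49677a457c7b447a78437949704278734441774676764075413f744073733f423f723e57713d71703e70423d433b6f3c6e6e53473b39673a6d6d6a6c3938506b696b39386a693768384536674635466636666335656434636133625d603261483460325333314c5b4d4d305f312f5e305c5d2f33555c55582f5b2e315a2d5a592e59582d582b572c56562d552b2a3c542c543b2a5328295229524f285150274f4e264e3727254d294c4c244b25234a244849234347484732234622414521454422444321421f412040403d3f1f1e2c3e3c3e1f1e3d3c1d3b1e1c3a363a3a1b391c1a381b37371a261a36191c3518353419343318321631173030182f1615172e172e2b152d2c142b2a132a1d142912252811282712272611260f2510242421230f0e202220220f0e21200d1f0e0c1e0d1d1d0c130c0a1c0b1b1b111a0a090b1910191609181708161507151408141307130610120b120a061110050f09040e050d0d070c040b030a06020908050804020701060303050104020302010100⟩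

/-- the words of the generators of the subgroup -/
def subW : List (List ℕ) := [[0], [1]]


end Cfsg.Agent.Lib.Helper6.SuzQ4TC
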