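import Cfsg.Agent.Lib.Helper6.TCCheck

/-! # Coset enumeration data for SuzQ5: the trace (generated) -/

set_option autoImplicit false
set_option maxRecDepth 1000000
set_option maxHeartbeats 4000000

namespace Cfsg.Agent.Lib.Helper6.SuzQ5TC

open Cfsg.Agent.Lib.Helper6.TC

/-- the operations of the enumeration -/
def trace : List (List ℕ) := [[268435456, 67108868, 8, 134217736, 67108876, 134217740, 201326608, 20, 134217748, 67108888, 201326616, 134217756, 134217760, 67108900, 201326628, 40, 201326632, 268435496, 134217772, 67108912, 67108916, 201326644, 201326648, 134217788, 67108928, 201326656, 134217796, 268435524, 67108940, 80, 268435536, 201326676, 134217816, 134217820, 67108960, 201326692, 134217832, 67108972, 201326700, 268435564, 116, 268435572, 268435576, 67109000, 152, 201326744, 268435608, 134217884, 268435620, 67109044, 268435636, 268435640, 268435656, 67109068, 67109076, 550225575945, 825573244941, 275548995601, 550225575957, 550829555737, 275414777885, 550829555749, 275548995621, 550359793705, 551500644393, 550762446893, 550829555765, 275414777917, 550762446909, 550829555777, 275414777925, 551299317829, 550494011473, 550829555821, 275347669109, 550494011509, 276488519797, 550494011545, 551500644505, 276488519845, 825841680565, 0, 274877906946, 550494011393, 1374725079045,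 825573244961, 67108864, 274945015810, 825841680385, 550561120265, 551366426633, 551366426637, 551567753233, 825908789273, 551567753241, 551366426653, 550829555785, 551366426669, 825908789297, 825908789325, 134217728, 275012124674, 551299317761, 2477189496833, 825640353797, 825439027257, 276488519737, 551567753273, 1374792187921, 550829555729, 1099847172169, 550359793737, 1652354449481, 1100518260801, 551366426729, 550359793765, 825573244957, 550359793749, 550225576029, 826378551489, 550292684881, 551299317841, 551299317881, 201326592, 275079233538, 551500644353, 550896664581, 550426902537, 1101524893705, 550896664589, 550896664625, 550426902549, 1101524893717, 550426902645, 551500644469, 551500644473, 268435476, 268435488, 275683213345, 268435492, 276488519717, 268435508, 275683213365, 268435516, 276689846333, 268435540, 268435544, 275683213401, 268435552, 276488519777, 268435556, 276152975461, 67108984, 134217856, 268435584, 276689846401, 67108996, 275951648901, 268435588, 275683213445, 201326728, 275548995721, 140, 268435596, 134217872, 268435600, 275683213457, 276152975505, 67109012, 201326740, 275548995733, 276354302101, 276622737557, 67109024, 275817431201, 67109028, 275951648933, 67109036, 176, 201326768, 276018757809, 268435632, 276488519857, 201326772, 275548995765, 276891173045,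 67109052, 275817431229, 276085866685, 67109056, 275951648961, 67109060, 275951648965, 200, 134217928, 201326792, 276018757833, 1375329059189, 826982531429, 827586511205, 550024249714, 201326796, 275548995789, 276891173069, 67109072, 275951648977, 276085866705, 212, 275616104661, 826244333953, 201326804, 276622737621, 826244333957, 216, 134217944, 278166241497, 551299318157, 825439027597, 201326808, 276018757849, 201326812, 276018757853, 1375329059221, 826714096017, 1100652478858, 134218123, 825640354009, 1100518260957, 550628229506, 268435843, 1926225723753, 4401200628101, 550024249650, 134218035, 268435763, 323, 134218051, 201326915, 67109155, 299, 67109163, 1099847172237, 1377610760341, 2202580025493, 1650206965894, 271, 134217999, 259, 67109123, 201326851, 251, 67109115, 134217979, 243, 268435731, 201326855, 134218043, 134218011, 550024249718, 67109239, 134218103, 268435831, 391, 67109255, 134218119, 201326983, 379, 67109243, 268435819, 201326975, 268435811, 67109191, 201326871]]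

end Cfsg.Agent.Lib.Helper6.SuzQ5TC
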