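import Cfsg.Agent.Lib.Helper6.TCPerm

/-! # Coset enumeration data for SuzQ5: configuration, table, words (generated) -/

set_option autoImplicit false
set_option maxRecDepth 1000000
set_option maxHeartbeats 4000000

namespace Cfsg.Agent.Lib.Helper6.SuzQ5TC

open Cfsg.Agent.Lib.Helper6.TC

/-- the configuration of the enumeration -/
def cfg : Cfg := ⟨5, 7, 1000000, 4, 88, 0x124012401240124012401424012401240124012401144012401240124012401214012401240124012401241421042104210421042104141042104210421042104214042104210421042104211442104210421042104210140000000000032323232009000000000002323232030900000000000323232032090000000000023232032309000000000003232032320900000000000232032323090000000000032032323209000000000002032323230900000000000032323232090000000000032323230209000000000002323230230900000000000323230232090000000000023230232309000000000003230232320900000000000230232323090000000000030232323209000000000000232323230900000000000232323230090000000000000000004402000000000000000034340400000000000000004343040000000000000000003302000000000000000024240400000000000000004242040000232323232323232310000032323232323232321000000000000000000022020000000000000014141406000000000000004141410600000000000000001313040000000000000000313104000000000000001212120600000000000000212121060000000000000000001102000000000000000004040400000000000000004040040000000000000000030304000000000000000030300400000000000000000202040000000000000000202004000000000001010101010a000000000010101010100a00000000000000000000020000000000000000000301000000000000000000020100000000000000000001010000000000000000000001⟩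

/-- the number of words -/
def nw : ℕ := 55

/-- the words of the further relators -/
def extraWords : List (List ℕ) := [[0, 3, 2, 3, 2, 3, 2, 3, 2], [0, 1, 2, 4, 0, 1, 2, 4, 0, 1, 2, 4, 0, 1, 2, 4, 0, 1, 2, 4]]

/-- where the words come from -/
def srcs : List ℕ := [0, 512, 514, 1024, 1026, 1536, 1538, 2048, 2050, 3072, 3584, 3586, 4096, 4098, 4608, 4610, 6144, 6656, 6658, 7168, 7170, 9216, 9728, 9730, 12288, 12800, 12802, 12804, 12806, 12808, 12810, 12812, 12814, 12816, 12801, 12803, 12805, 12807, 12809, 12811, 12813, 12815, 12817, 13312, 13314, 13316, 13318, 13313, 13315, 13317, 13319]

/-- the coset table -/
def tab : Tab := ⟨5, 6, 56, .leaf 0x37df7db8e38e34df3d35e35bf0db2daedb2df0daebeebeab34d6ba29a2ab67d6bb34d67ce8cf4ceace7923923c5fcacc207a0c2bcb27eec5e73175f8f1731be4c2f79cba391b89c85a85b96d9ad6689ad62da59657999956957855ae082cb2a7e956b56752a493a5d629a129e66119a549695a45a8a242489b3e341d40e8a141a85639681e54d7d434c78d2dd4533dd2dc31b3db4da2d72996174582ca4ca5c958a35421550c1d44884d23c744e4063ce18938918814d20c1cc10b14918a1091480c51c41071830c31421010820c2081041040⟩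

/-- the words of the generators of the subgroup -/
def subW : List (List ℕ) := [[0], [1], [2], [3]]


end Cfsg.Agent.Lib.Helper6.SuzQ5TC
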