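import Mathlib

/-! # Index and orbits of a subgroup from a transitive permutation action -/

set_option autoImplicit false

namespace Cfsg.Agent.Lib.Helper6.TC

section

variable {G : Type*} [Group G] {n : ℕ} (ρ : G →* Equiv.Perm (Fin n)) (o : Fin n)
  (H : Subgroup G)

/-- the stabilizer of the base point -/
def stab : Subgroup G := (MulAction.stabilizer (Equiv.Perm (Fin n)) o).comap ρ

theorem mem_stab {z : G} : z ∈ stab ρ o ↔ ρ z o = o := by
  simp [stab, MulAction.mem_stabilizer_iff]

variable {ρ o H}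

theorem index_stab (htrans : ∀ a : Fin n, ∃ z : G, ρ z o = a) : (stab ρ o).index = n := by
  let _ : MulAction G (Fin n) := MulAction.compHom (Fin n) ρ
  have hs : stab ρ o = MulAction.stabilizer G o := by
    ext z
    rw [mem_stab, MulAction.mem_stabilizer_iff]
    rfl
  have ho : MulAction.orbit G o = Set.univ := by
    ext a
    simp only [Set.mem_univ, iff_true]
    obtain ⟨z, hz⟩ := htrans a
    exact ⟨z, hz⟩
  rw [hs, MulAction.index_stabilizer, ho, Set.ncard_univ, Nat.card_fin]

theorem dvd_index_of_action (htrans : ∀ a : Fin n, ∃ z : G, ρ z o = a)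
    (hfix : ∀ h ∈ H, ρ h o = o) : n ∣ H.index := by
  have hle : H ≤ stab ρ o := fun h hh => (mem_stab ρ o).2 (hfix h hh)
  have := Subgroup.index_dvd_of_le hle
  rwa [index_stab htrans] at this

theorem eq_stab (htrans : ∀ a : Fin n, ∃ z : G, ρ z o = a) (hfix : ∀ h ∈ H, ρ h o = o)
    (hidx : H.index = n) (hn : 0 < n) : H = stab ρ o := by
  have hle : H ≤ stab ρ o := fun h hh => (mem_stab ρ o).2 (hfix h hh)
  apply le_antisymm hle
  have h1 := Subgroup.relIndex_mul_index hle
  rw [index_stab htrans, hidx] at h1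
  have h2 : H.relIndex (stab ρ o) = 1 := by
    have : H.relIndex (stab ρ o) * n = 1 * n := by rw [h1, one_mul]
    exact Nat.eq_of_mul_eq_mul_right hn this
  exact Subgroup.relIndex_eq_one.1 h2

/-- the orbit of a point under the image of the subgroup -/
def imgOrbit (ρ : G →* Equiv.Perm (Fin n)) (H : Subgroup G) (a : Fin n) : Set (Fin n) :=
  {b | ∃ h ∈ H, ρ h a = b}

/-- **orbits of the subgroup on its cosets are orbits on the points**: an injective map from the
cosets to the points that takes orbits to orbits -/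
theorem exists_orbit_map (htrans : ∀ a : Fin n, ∃ z : G, ρ z o = a)
    (hfix : ∀ h ∈ H, ρ h o = o) (hidx : H.index = n) (hn : 0 < n) :
    ∃ Φ : G ⧸ H → Fin n, Function.Injective Φ ∧
      ∀ a : Fin n, ∃ q : G ⧸ H, Φ '' (MulAction.orbit H q) = imgOrbit ρ H a := by
  have hH := eq_stab htrans hfix hidx hn
  -- the map from the orbit of the coset to the orbit of the point
  let Φ : G ⧸ H → Fin n := fun q => Quotient.liftOn' q (fun y => ρ y o) (by
    intro y y' hyy'
    have hm : y⁻¹ * y' ∈ H := QuotientGroup.leftRel_apply.1 hyy'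
    have := hfix _ hm
    rw [map_mul, map_inv, Equiv.Perm.mul_apply, Equiv.Perm.inv_eq_iff_eq] at this
    show ρ y o = ρ y' o
    exact this.symm)
  have hΦ : ∀ y : G, Φ (QuotientGroup.mk y) = ρ y o := fun y => rfl
  have hinj : Function.Injective Φ := by
    intro q q' hqq'
    induction q using QuotientGroup.induction_on with
    | H y =>
      induction q' using QuotientGroup.induction_on with
      | H y' =>
        rw [hΦ, hΦ] at hqq'
        rw [QuotientGroup.eq, hH, mem_stab]
        rw [map_mul, map_inv, Equiv.Perm.mul_apply, Equiv.Perm.inv_eq_iff_eq]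
        exact hqq'.symm
  refine ⟨Φ, hinj, ?_⟩
  intro a
  obtain ⟨z, hz⟩ := htrans a
  refine ⟨QuotientGroup.mk z, ?_⟩
  ext b
  constructor
  · rintro ⟨q, ⟨h, rfl⟩, rfl⟩
    refine ⟨h.1, h.2, ?_⟩
    show _ = Φ (QuotientGroup.mk (h.1 * z))
    rw [hΦ, map_mul, ← hz]
    rfl
  · rintro ⟨h, hh, rfl⟩
    refine ⟨QuotientGroup.mk (h * z), ⟨⟨h, hh⟩, rfl⟩, ?_⟩
    rw [hΦ, map_mul, ← hz]
    rfl

end

end Cfsg.Agent.Lib.Helper6.TC
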