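import Cfsg.Agent.Lib.Helper6.NatArr

/-! # A checker for coset enumerations (Todd–Coxeter), for groups generated by involutions

The state is a partial coset table on rows `0, …, N - 1` (row `0` is the subgroup) and a map that
records rows found to be equal to smaller rows.  Both are arrays stored in natural numbers.  A
trace of operations (definitions of new rows, scans of relators or subgroup generators that close
up to one gap, transfers of entries of merged rows) is replayed; every entry of the table then is a
true statement about right cosets.  -/

set_option autoImplicit false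

namespace Cfsg.Agent.Lib.Helper6.TC

open Cfsg.Agent.Lib.Helper6.NatArr

/-- evaluate the number before going on -/
def force {α : Type} (n : ℕ) (f : ℕ → α) : α :=
  Nat.rec (motive := fun _ => α) (f 0) (fun k _ => f (Nat.succ k)) n

theorem force_eq {α : Type} (n : ℕ) (f : ℕ → α) : force n f = f n := by
  cases n <;> rfl

/-- change the entry `0` of an array, which serves as a counter: the kernel hashes big numbers
by their low bits, so arrays that differ only in high bits would collide in its tables -/
def tick (w t : ℕ) : ℕ :=
  aset w t 0 (aget w t 0) (Nat.mod (Nat.succ (aget w t 0)) (Nat.pow 2 w))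

/-- overwrite an entry of an array (and count) -/
def awrite (w t i new : ℕ) : ℕ := tick w (aset w t i (aget w t i) new)

theorem aget_tick (w t j : ℕ) (hj : j ≠ 0) : aget w (tick w t) j = aget w t j := by
  unfold tick
  exact aget_aset_ne _ _ _ _ _ (Nat.mod_lt _ (Nat.two_pow_pos w)) hj

theorem aget_awrite (w t i j new : ℕ) (hnew : new < 2 ^ w) (hj : j ≠ 0) :
    aget w (awrite w t i new) j = if j = i then new else aget w t j := by
  unfold awrite
  rw [aget_tick _ _ _ hj]
  by_cases h : j = i
  · subst h; rw [if_pos rfl, aget_aset_self _ _ _ _ hnew]
  · rw [if_neg h, aget_aset_ne _ _ _ _ _ hnew h]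

/-- the parameters of an enumeration: number of generators, width of the entries of the arrays,
bound for the chains of merged rows, number of subgroup words, width of a packed word, the packed
words (subgroup words first).  A packed word has its length in the low 8 bits, then its letters,
4 bits each. -/
structure Cfg where
  g : ℕ
  w : ℕ
  fuel : ℕ
  nsub : ℕ
  S : ℕ
  wn : ℕ

/-- the state: table, merge map, number of rows -/
structure St where
  t : ℕ
  m : ℕ
  N : ℕ

/-- the place of the entry of row `a` and generator `x` -/
def slot (c : Cfg) (a x : ℕ) : ℕ := Nat.succ (Nat.add (Nat.mul a c.g) x)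

/-- the packed word number `k` -/
def wordAt (c : Cfg) (k : ℕ) : ℕ := aget c.S c.wn k

/-- the length of a packed word -/
def wlen (wd : ℕ) : ℕ := Nat.land wd 255

/-- the letter at place `i` of a packed word -/
def letter (wd i : ℕ) : ℕ := Nat.land (Nat.shiftRight wd (Nat.add 8 (Nat.mul 4 i))) 15

/-- follow the merge map -/
def find (w m : ℕ) : ℕ → ℕ → ℕ
  | 0, b => b
  | f + 1, b => force (aget w m (Nat.succ b)) fun e => bif Nat.beq e 0 then b else find w m f (Nat.pred e)

/-- trace `n` letters of a packed word from place `i` on; `none` if an entry is missing -/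
def scanF (c : Cfg) (t m wd : ℕ) : ℕ → ℕ → ℕ → Option ℕ
  | 0, _, cur => some cur
  | n + 1, i, cur => force (aget c.w t (slot c cur (letter wd i))) fun e =>
      bif Nat.beq e 0 then none
      else force (find c.w m c.fuel (Nat.pred e)) fun nxt => scanF c t m wd n (Nat.succ i) nxt

/-- trace `n` letters of a packed word backwards, from place `i - 1` down -/
def scanB (c : Cfg) (t m wd : ℕ) : ℕ → ℕ → ℕ → Option ℕ
  | 0, _, cur => some cur
  | n + 1, i, cur => force (aget c.w t (slot c cur (letter wd (Nat.pred i)))) fun e =>
      bif Nat.beq e 0 then none
      else force (find c.w m c.fuel (Nat.pred e)) fun nxt => scanB c t m wd n (Nat.pred i) nxt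

/-- record that two rows are equal -/
def mergeOp (c : Cfg) (s : St) (p q : ℕ) : St :=
  bif Nat.beq p q then s
  else bif Nat.blt p q then ⟨s.t, awrite c.w s.m (Nat.succ q) (Nat.succ p), s.N⟩
  else ⟨s.t, awrite c.w s.m (Nat.succ p) (Nat.succ q), s.N⟩

/-- define a new row as the image of row `a` under generator `x` -/
def opDef (c : Cfg) (s : St) (a x : ℕ) : Option St :=
  bif Nat.blt a s.N && (Nat.blt x c.g && Nat.blt (Nat.succ s.N) (Nat.pow 2 c.w)) then
    some ⟨awrite c.w (awrite c.w s.t (slot c a x) (Nat.succ s.N)) (slot c s.N x) (Nat.succ a),
      s.m, Nat.succ s.N⟩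
  else none

/-- scan the word `k` from row `a`, with a gap at place `p` -/
def opDed (c : Cfg) (s : St) (a k p : ℕ) : Option St :=
  force (wordAt c k) fun wd =>
  bif Nat.blt a s.N && ((Nat.ble c.nsub k || Nat.beq a 0) &&
      (Nat.blt p (wlen wd) && Nat.blt (letter wd p) c.g)) then
    match scanF c s.t s.m wd p 0 a with
    | none => none
    | some f =>
      match scanB c s.t s.m wd (Nat.sub (wlen wd) (Nat.succ p)) (wlen wd) a with
      | none => none
      | some b =>
        force (letter wd p) fun x =>
        force (aget c.w s.t (slot c f x)) fun e =>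
        bif Nat.beq e 0 then
          force (awrite c.w s.t (slot c f x) (Nat.succ b)) fun t' =>
          bif Nat.beq (aget c.w t' (slot c b x)) 0 then
            some ⟨awrite c.w t' (slot c b x) (Nat.succ f), s.m, s.N⟩
          else some ⟨t', s.m, s.N⟩
        else some (mergeOp c s (find c.w s.m c.fuel (Nat.pred e)) b)
  else none

/-- scan the word `k` from row `a`, forwards up to place `p` and backwards from the end -/
def opCoin (c : Cfg) (s : St) (a k p : ℕ) : Option St :=
  force (wordAt c k) fun wd =>
  bif Nat.blt a s.N && ((Nat.ble c.nsub k || Nat.beq a 0) && Nat.ble p (wlen wd)) then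
    match scanF c s.t s.m wd p 0 a with
    | none => none
    | some f =>
      match scanB c s.t s.m wd (Nat.sub (wlen wd) p) (wlen wd) a with
      | none => none
      | some b => some (mergeOp c s f b)
  else none

/-- transfer the entry of generator `x` of the merged row `v` to the row it was merged into -/
def opMove (c : Cfg) (s : St) (v x : ℕ) : Option St :=
  bif Nat.blt v s.N && Nat.blt x c.g then
    force (find c.w s.m c.fuel v) fun a =>
    force (aget c.w s.t (slot c v x)) fun y =>
    bif Nat.beq y 0 then none
    else
      force (find c.w s.m c.fuel (Nat.pred y)) fun r =>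
      force (aget c.w s.t (slot c a x)) fun e =>
      bif Nat.beq e 0 then some ⟨awrite c.w s.t (slot c a x) (Nat.succ r), s.m, s.N⟩
      else some (mergeOp c s r (find c.w s.m c.fuel (Nat.pred e)))
  else none

/-- one operation, coded as `kind + 4 * (A + 2 ^ 24 * (B + 2 ^ 12 * C))` -/
def step (c : Cfg) (s : St) (o : ℕ) : Option St :=
  force (Nat.mod o 4) fun kind =>
  force (Nat.mod (Nat.div o 4) 16777216) fun A =>
  force (Nat.mod (Nat.div o 67108864) 4096) fun B =>
  force (Nat.div o 274877906944) fun C =>
  bif Nat.beq kind 0 then opDef c s A B
  else bif Nat.beq kind 1 then opDed c s A B C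
  else bif Nat.beq kind 2 then opCoin c s A B C
  else opMove c s A B

/-- replay a list of operations -/
def run (c : Cfg) : List ℕ → St → Option St
  | [], s => some s
  | o :: os, s =>
    match step c s o with
    | none => none
    | some s' => force s'.t fun t => force s'.m fun m => force s'.N fun N => run c os ⟨t, m, N⟩

/-- replay a list of lists of operations -/
def runAll (c : Cfg) : List (List ℕ) → St → Option St
  | [], s => some s
  | L :: Ls, s =>
    match run c L s with
    | none => none
    | some s' => runAll c Ls s'

/-- a test holds below a bound -/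
def allBelow : ℕ → (ℕ → Bool) → Bool
  | 0, _ => true
  | n + 1, f => f n && allBelow n f

theorem allBelow_spec : ∀ (N : ℕ) (f : ℕ → Bool), allBelow N f = true → ∀ k < N, f k = true := by
  intro N
  induction N with
  | zero => intro f _ k hk; omega
  | succ N ih =>
    intro f h k hk
    simp only [allBelow, Bool.and_eq_true] at h
    rcases Nat.lt_succ_iff_lt_or_eq.1 hk with hk | rfl
    · exact ih f h.2 k hk
    · exact h.1

/-- the first `n` rows are complete and closed -/
def finalOK (c : Cfg) (s : St) (n : ℕ) : Bool :=
  allBelow n fun a => allBelow c.g fun x =>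
    force (aget c.w s.t (slot c a x)) fun e =>
      !Nat.beq e 0 && Nat.blt (find c.w s.m c.fuel (Nat.pred e)) n

/-- run the whole enumeration from the start and check the first `n` rows at the end -/
def runOK (c : Cfg) (trace : List (List ℕ)) (n : ℕ) : Bool :=
  match runAll c trace ⟨0, 0, 1⟩ with
  | none => false
  | some s => finalOK c s n

/-- the letters of the words are generators -/
def wordsOK (c : Cfg) (nw : ℕ) : Bool :=
  allBelow nw fun k => allBelow (wlen (wordAt c k)) fun i => Nat.blt (letter (wordAt c k) i) c.g

end Cfsg.Agent.Lib.Helper6.TC
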