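import Cfsg.Agent.Lib.Helper6.TCSound
import Cfsg.Prelude.Def_SporCoxeter

/-! # Coset enumeration certificates for the groups presented by Coxeter graphs and further
relators -/

set_option autoImplicit false

namespace Cfsg.Agent.Lib.Helper6.TC

open Cfsg.Agent.Lib.Helper6.NatArr Cfsg.Spor

/-! ### words -/

/-- the letters of a packed word -/
def unpack (wd : ℕ) : List ℕ := (List.range (wlen wd)).map (letter wd)

section

variable {G : Type*} [Group G] (γ : ℕ → G)

theorem ev_eq_prod (wd : ℕ) : ∀ (n i : ℕ),
    ev γ wd i n = (((List.range' i n).map (letter wd)).map γ).prod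
  | 0, i => by simp [ev]
  | n + 1, i => by
    rw [ev, ev_eq_prod wd n (i + 1), List.range'_succ]
    simp

theorem ev_unpack (wd : ℕ) : ev γ wd 0 (wlen wd) = ((unpack wd).map γ).prod := by
  rw [ev_eq_prod, unpack, List.range_eq_range']

theorem letter_mem_unpack {wd i : ℕ} (hi : i < wlen wd) : letter wd i ∈ unpack wd := by
  unfold unpack
  exact List.mem_map.2 ⟨i, List.mem_range.2 hi, rfl⟩

/-- a word, possibly reversed, then rotated -/
def rotrev (w : List ℕ) (r : ℕ) (rev : Bool) : List ℕ := (bif rev then w.reverse else w).rotate r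

variable {γ}

theorem prod_rotate_eq_one {L : List G} (h : L.prod = 1) (r : ℕ) : (L.rotate r).prod = 1 := by
  rw [List.rotate_eq_drop_append_take_mod, List.prod_append]
  have h1 : (L.take (r % L.length)).prod * (L.drop (r % L.length)).prod = 1 := by
    rw [← List.prod_append, List.take_append_drop]
    exact h
  exact mul_eq_one_comm.1 h1

theorem prod_reverse_eq_one (hinv : ∀ x, γ x * γ x = 1) {w : List ℕ}
    (h : (w.map γ).prod = 1) : (w.reverse.map γ).prod = 1 := by
  have e : (w.reverse.map γ).prod = ((w.map γ).prod)⁻¹ := by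
    rw [List.prod_inv_reverse, List.map_map, List.map_reverse]
    congr 2
    apply List.map_congr_left
    intro x _
    exact (inv_eq_of_mul_eq_one_left (hinv x)).symm
  rw [e, h, inv_one]

theorem prod_rotrev_eq_one (hinv : ∀ x, γ x * γ x = 1) {w : List ℕ}
    (h : (w.map γ).prod = 1) (r : ℕ) (rev : Bool) : ((rotrev w r rev).map γ).prod = 1 := by
  unfold rotrev
  rw [List.map_rotate]
  apply prod_rotate_eq_one
  cases rev
  · exact h
  · exact prod_reverse_eq_one hinv h

theorem mem_rotrev {w : List ℕ} {r : ℕ} {rev : Bool} {x : ℕ} (hx : x ∈ rotrev w r rev) :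
    x ∈ w := by
  unfold rotrev at hx
  rw [List.mem_rotate] at hx
  cases rev
  · exact hx
  · exact List.mem_reverse.1 hx

end

/-- the word number `k` comes from the relator word given by the code `src` -/
def srcOK (c : Cfg) (relWords : List (List ℕ)) (k src : ℕ) : Bool :=
  unpack (wordAt c k) == rotrev (relWords.getD (Nat.div src 512) []) (Nat.mod (Nat.div src 2) 256)
    (Nat.beq (Nat.mod src 2) 1)

/-- all words are accounted for: the subgroup words have letters below `g`, the other words come
from relator words, whose letters are below `g`, and there is nothing after the last word -/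
def wordsSrcOK (c : Cfg) (relWords : List (List ℕ)) (nw : ℕ) (srcs : List ℕ) : Bool :=
  (allBelow (nw - c.nsub) fun j => srcOK c relWords (c.nsub + j) (srcs.getD j 0)) &&
  ((allBelow c.nsub fun k => (unpack (wordAt c k)).all fun x => Nat.blt x c.g) &&
  ((relWords.all fun w => w.all fun x => Nat.blt x c.g) &&
  (Nat.blt c.wn (Nat.pow 2 (Nat.mul c.S nw)) && Nat.ble c.nsub nw)))

theorem aget_eq_zero_of_lt {w t k k' : ℕ} (ht : t < 2 ^ (w * k)) (hk : k ≤ k') :
    aget w t k' = 0 := by
  rw [aget_eq]
  have : t < 2 ^ (w * k') := lt_of_lt_of_le ht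
    (Nat.pow_le_pow_right (by norm_num) (Nat.mul_le_mul_left _ hk))
  rw [Nat.div_eq_of_lt this]
  simp

section

variable {G : Type*} [Group G] {γ : ℕ → G} {H : Subgroup G} {c : Cfg}

/-- the words of a checked configuration are as they should be -/
theorem wordsOK_of_src (hinv : ∀ x, γ x * γ x = 1) {relWords : List (List ℕ)} {nw : ℕ}
    {srcs : List ℕ} (hchk : wordsSrcOK c relWords nw srcs = true)
    (hrel : ∀ w ∈ relWords, (w.map γ).prod = 1)
    (hsub : ∀ k, k < c.nsub → ((unpack (wordAt c k)).map γ).prod ∈ H) : WordsOK c γ H := by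
  simp only [wordsSrcOK, Bool.and_eq_true, Nat.blt_eq, Nat.ble_eq] at hchk
  obtain ⟨h1, h2, h3, h4, h5⟩ := hchk
  have h4' : c.wn < 2 ^ (c.S * nw) := h4
  have hbig : ∀ k, nw ≤ k → wordAt c k = 0 := fun k hk => aget_eq_zero_of_lt h4' hk
  have hmid : ∀ k, c.nsub ≤ k → k < nw → ∃ w ∈ relWords ++ [[]], ∃ r rev,
      unpack (wordAt c k) = rotrev w r rev := by
    intro k hk1 hk2
    have := allBelow_spec _ _ h1 (k - c.nsub) (by omega)
    have e : c.nsub + (k - c.nsub) = k := by omega
    rw [e] at this
    unfold srcOK at this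
    have e2 := eq_of_beq this
    refine ⟨_, ?_, _, _, e2⟩
    rw [List.mem_append]
    by_cases hlt : Nat.div (srcs.getD (k - c.nsub) 0) 512 < relWords.length
    · left
      rw [List.getD_eq_getElem _ _ hlt]
      exact List.getElem_mem hlt
    · right
      rw [List.getD_eq_default _ _ (by omega)]
      simp
  have hrel' : ∀ w ∈ relWords ++ [[]], (w.map γ).prod = 1 ∧ ∀ x ∈ w, x < c.g := by
    intro w hw
    rcases List.mem_append.1 hw with hw | hw
    · refine ⟨hrel w hw, ?_⟩
      intro x hx
      have := List.all_eq_true.1 (List.all_eq_true.1 h3 w hw) x hx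
      rwa [Nat.blt_eq] at this
    · simp only [List.mem_singleton] at hw
      subst hw
      simp
  refine ⟨?_, ?_, ?_⟩
  · intro k i hi
    by_cases hk2 : k < nw
    · by_cases hk1 : c.nsub ≤ k
      · obtain ⟨w, hw, r, rev, e⟩ := hmid k hk1 hk2
        have hm := letter_mem_unpack hi
        rw [e] at hm
        exact (hrel' w hw).2 _ (mem_rotrev hm)
      · have := allBelow_spec _ _ h2 k (by omega)
        have := List.all_eq_true.1 this _ (letter_mem_unpack hi)
        rwa [Nat.blt_eq] at this
    · rw [hbig k (by omega)] at hi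
      simp [wlen] at hi
  · intro k hk1
    rw [ev_unpack]
    by_cases hk2 : k < nw
    · obtain ⟨w, hw, r, rev, e⟩ := hmid k hk1 hk2
      rw [e]
      exact prod_rotrev_eq_one hinv (hrel' w hw).1 r rev
    · rw [hbig k (by omega)]
      simp [unpack, wlen]
  · intro k hk
    rw [ev_unpack]
    exact hsub k hk

end

/-! ### the presented groups -/

section

variable {α : Type} [DecidableEq α] (edges : List (α × ℕ × α)) (extra : List (FreeGroup α))
  (gen : ℕ → α)

/-- the generator with a given code -/
def cγ (x : ℕ) : CoxPresented α edges extra := PresentedGroup.of (gen x)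

variable {edges extra gen}

theorem cγ_mul_self (hnode : ∀ a : α, a ∈ coxNodes edges) (x : ℕ) :
    cγ edges extra gen x * cγ edges extra gen x = 1 := by
  have hm : (FreeGroup.of (gen x) * FreeGroup.of (gen x)) ^ coxLabel edges (gen x) (gen x) ∈
      coxRelators edges ∪ {r | r ∈ extra} :=
    Or.inl ⟨gen x, hnode _, gen x, hnode _, rfl⟩
  have h1 := PresentedGroup.one_of_mem hm
  have e : coxLabel edges (gen x) (gen x) = 1 := by simp [coxLabel]
  rw [e, pow_one, map_mul] at h1
  exact h1

theorem of_mul_self (hnode : ∀ a : α, a ∈ coxNodes edges) (a : α) :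
    (PresentedGroup.of a : CoxPresented α edges extra) * PresentedGroup.of a = 1 := by
  have hm : (FreeGroup.of a * FreeGroup.of a) ^ coxLabel edges a a ∈
      coxRelators edges ∪ {r | r ∈ extra} :=
    Or.inl ⟨a, hnode _, a, hnode _, rfl⟩
  have h1 := PresentedGroup.one_of_mem hm
  have e : coxLabel edges a a = 1 := by simp [coxLabel]
  rw [e, pow_one, map_mul] at h1
  exact h1

/-- every element is a product of generators -/
theorem cγ_gen (hnode : ∀ a : α, a ∈ coxNodes edges) (g : ℕ)
    (hsurj : ∀ a : α, ∃ x, x < g ∧ gen x = a) (z : CoxPresented α edges extra) :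
    ∃ u : List ℕ, (∀ x ∈ u, x < g) ∧ z = (u.map (cγ edges extra gen)).prod := by
  induction z using PresentedGroup.induction_on with
  | _ w =>
    induction w using FreeGroup.induction_on with
    | C1 => exact ⟨[], by simp, by simp⟩
    | of a =>
      obtain ⟨x, hx, rfl⟩ := hsurj a
      exact ⟨[x], by simpa using hx, by simp [cγ, PresentedGroup.of]⟩
    | inv_of a _ =>
      obtain ⟨x, hx, rfl⟩ := hsurj a
      refine ⟨[x], by simpa using hx, ?_⟩
      rw [map_inv]
      simp only [List.map_cons, List.map_nil, List.prod_cons, List.prod_nil, mul_one]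
      exact inv_eq_of_mul_eq_one_left (of_mul_self hnode (gen x))
    | mul w1 w2 h1 h2 =>
      obtain ⟨u1, hu1, e1⟩ := h1
      obtain ⟨u2, hu2, e2⟩ := h2
      refine ⟨u1 ++ u2, ?_, ?_⟩
      · intro x hx
        rcases List.mem_append.1 hx with hx | hx
        · exact hu1 x hx
        · exact hu2 x hx
      · rw [map_mul, e1, e2, List.map_append, List.prod_append]

end

end Cfsg.Agent.Lib.Helper6.TC
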