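import Cfsg.Agent.Lib.Helper6.TCPerm
import Cfsg.Agent.Lib.Helper6.TCAct

/-! # The index of a subgroup of a group presented by a Coxeter graph and further relators, from
a checked coset enumeration and its coset table -/

set_option autoImplicit false

noncomputable section

namespace Cfsg.Agent.Lib.Helper6.TC

open Cfsg.Agent.Lib.Helper6.NatArr Cfsg.Spor

/-- the word `(i j)^m` -/
def rep2 (i j m : ℕ) : List ℕ := (List.replicate m [i, j]).flatten

theorem prod_rep2 {K : Type*} [Monoid K] (φ : ℕ → K) (i j : ℕ) :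
    ∀ m, ((rep2 i j m).map φ).prod = (φ i * φ j) ^ m
  | 0 => by simp [rep2]
  | m + 1 => by
    have ih := prod_rep2 φ i j m
    unfold rep2 at ih ⊢
    rw [List.replicate_succ, List.flatten_cons, List.map_append, List.prod_append, ih, pow_succ']
    simp

theorem allBelow_false : ∀ (N : ℕ) (f : ℕ → Bool), allBelow N f = false → ∃ k < N, f k = false
  | 0, _, h => by simp [allBelow] at h
  | N + 1, f, h => by
    simp only [allBelow, Bool.and_eq_false_iff] at h
    rcases h with h | h
    · exact ⟨N, by omega, h⟩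
    · obtain ⟨k, hk, hf⟩ := allBelow_false N f h
      exact ⟨k, by omega, hf⟩

section

variable {α : Type} [DecidableEq α]

/-- the words of the Coxeter relators, for all ordered pairs of generators -/
def coxWordsL (edges : List (α × ℕ × α)) (gen : ℕ → α) (g : ℕ) : List (List ℕ) :=
  (List.range g).flatMap fun i => (List.range g).map fun j =>
    rep2 i j (coxLabel edges (gen i) (gen j))

theorem mem_coxWordsL (edges : List (α × ℕ × α)) (gen : ℕ → α) {g i j : ℕ} (hi : i < g)
    (hj : j < g) : rep2 i j (coxLabel edges (gen i) (gen j)) ∈ coxWordsL edges gen g := by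
  unfold coxWordsL
  rw [List.mem_flatMap]
  exact ⟨i, List.mem_range.2 hi, List.mem_map.2 ⟨j, List.mem_range.2 hj, rfl⟩⟩

omit [DecidableEq α] in
theorem lift_of_eq_mk (rels : Set (FreeGroup α)) (r : FreeGroup α) :
    FreeGroup.lift (fun a => (PresentedGroup.of a : PresentedGroup rels)) r =
      PresentedGroup.mk rels r := by
  have : FreeGroup.lift (fun a => (PresentedGroup.of a : PresentedGroup rels)) =
      PresentedGroup.mk rels := by
    ext a
    simp [PresentedGroup.of]
  rw [this]

/-- a certificate for the index of a subgroup generated by the images of a set of words -/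
structure CoxCert (edges : List (α × ℕ × α)) (extra : List (FreeGroup α)) where
  gen : ℕ → α
  code : α → ℕ
  c : Cfg
  S : Set (FreeGroup α)
  extraWords : List (List ℕ)
  nw : ℕ
  srcs : List ℕ
  T : Tab
  hnode : ∀ a : α, a ∈ coxNodes edges
  hcode : ∀ a, code a < c.g ∧ gen (code a) = a
  hgen : ∀ x, x < c.g → code (gen x) = x
  hTg : T.g = c.g
  hTn : 0 < T.n
  hw : 1 < 2 ^ c.w
  chk_words : wordsSrcOK c (coxWordsL edges gen c.g ++ extraWords) nw srcs = true
  hrun : RunCert c T.n
  chk_tab : T.tabOK = true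
  chk_rels : T.relsOK (coxWordsL edges gen c.g ++ extraWords) = true
  chk_tree : T.treeOK = true
  hextra : ∀ {K : Type} [Group K] (f : α → K), (∀ a, f a * f a = 1) →
    ((∀ r ∈ extra, FreeGroup.lift f r = 1) ↔
      ∀ w ∈ extraWords, (w.map (fun x => f (gen x))).prod = 1)
  hsubG : ∀ k, k < c.nsub → ((unpack (wordAt c k)).map (cγ edges extra gen)).prod ∈
    (Subgroup.closure S).map (PresentedGroup.mk (coxRelators edges ∪ {r | r ∈ extra}))
  hsubP : ∀ s ∈ S, FreeGroup.lift (fun a => T.perm chk_tab (code a)) s ⟨0, hTn⟩ = ⟨0, hTn⟩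

namespace CoxCert

variable {edges : List (α × ℕ × α)} {extra : List (FreeGroup α)} (C : CoxCert edges extra)

/-- the subgroup -/
def H : Subgroup (CoxPresented α edges extra) :=
  (Subgroup.closure C.S).map (PresentedGroup.mk (coxRelators edges ∪ {r | r ∈ extra}))

/-- the permutation of a generator -/
def f (a : α) : Equiv.Perm (Fin C.T.n) := C.T.perm C.chk_tab (C.code a)

theorem f_mul_self (a : α) : C.f a * C.f a = 1 := C.T.perm_mul_self C.chk_tab _

theorem f_gen {x : ℕ} (hx : x < C.c.g) : C.f (C.gen x) = C.T.perm C.chk_tab x := by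
  unfold f
  rw [C.hgen x hx]

theorem letters_lt {w : List ℕ} (hw : w ∈ coxWordsL edges C.gen C.c.g ++ C.extraWords) :
    ∀ x ∈ w, x < C.T.g := by
  have h := C.chk_words
  simp only [wordsSrcOK, Bool.and_eq_true] at h
  obtain ⟨_, _, h3, _⟩ := h
  intro x hx
  have := List.all_eq_true.1 (List.all_eq_true.1 h3 w hw) x hx
  rw [Nat.blt_eq] at this
  rw [C.hTg]
  exact this

theorem word_perm_eq_one {w : List ℕ} (hw : w ∈ coxWordsL edges C.gen C.c.g ++ C.extraWords) :
    (w.map (fun x => C.f (C.gen x))).prod = 1 := by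
  have h1 := C.T.prod_eq_one_of_relsOK C.chk_tab C.chk_rels hw (C.letters_lt hw)
  rw [← h1]
  congr 1
  apply List.map_congr_left
  intro x hx
  have := C.letters_lt hw x hx
  rw [C.hTg] at this
  exact C.f_gen this

theorem lift_eq_one : ∀ r ∈ coxRelators edges ∪ {r | r ∈ extra}, FreeGroup.lift C.f r = 1 := by
  intro r hr
  rcases hr with ⟨x, _, y, _, rfl⟩ | hr
  · rw [map_pow, map_mul, FreeGroup.lift_apply_of, FreeGroup.lift_apply_of]
    have hx := C.hcode x
    have hy := C.hcode y
    have hm := mem_coxWordsL edges C.gen hx.1 hy.1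
    have := C.word_perm_eq_one (List.mem_append_left _ hm)
    rw [prod_rep2 (fun x => C.f (C.gen x)), hx.2, hy.2] at this
    exact this
  · have := (C.hextra C.f C.f_mul_self).2
      (fun w hw => C.word_perm_eq_one (List.mem_append_right _ hw))
    exact this r hr

/-- the action on the rows of the table -/
def ρ : CoxPresented α edges extra →* Equiv.Perm (Fin C.T.n) :=
  PresentedGroup.toGroup C.lift_eq_one

theorem ρ_of (a : α) : C.ρ (PresentedGroup.of a) = C.f a := PresentedGroup.toGroup.of _

theorem ρ_mk (r : FreeGroup α) : C.ρ (PresentedGroup.mk _ r) = FreeGroup.lift C.f r := by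
  have : C.ρ.comp (PresentedGroup.mk _) = FreeGroup.lift C.f := by
    apply FreeGroup.ext_hom
    intro a
    rw [MonoidHom.comp_apply, FreeGroup.lift_apply_of]
    exact C.ρ_of a
  rw [← this]
  rfl

/-- the base point -/
def o : Fin C.T.n := ⟨0, C.hTn⟩

theorem fix : ∀ h ∈ C.H, C.ρ h C.o = C.o := by
  intro h hh
  obtain ⟨r, hr, rfl⟩ := hh
  rw [C.ρ_mk]
  have hr' : r ∈ Subgroup.closure C.S := hr
  induction hr' using Subgroup.closure_induction with
  | mem s hs => exact C.hsubP s hs
  | one => simp
  | mul s t _ _ hs ht =>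
    rw [map_mul, Equiv.Perm.mul_apply, ht (by assumption), hs (by assumption)]
  | inv s _ hs =>
    rw [map_inv, Equiv.Perm.inv_eq_iff_eq]
    exact (hs (by assumption)).symm

theorem trans (a : Fin C.T.n) : ∃ z : CoxPresented α edges extra, C.ρ z C.o = a := by
  have key : ∀ (k : ℕ) (hk : k < C.T.n), ∃ z : CoxPresented α edges extra,
      (C.ρ z C.o).val = k := by
    intro k
    induction k using Nat.strong_induction_on with
    | _ k ih =>
      intro hk
      by_cases h0 : k = 0
      · subst h0
        exact ⟨1, by simp [o]⟩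
      · have ht := allBelow_spec _ _ C.chk_tree k hk
        have hb : Nat.beq k 0 = false := by
          cases hb : Nat.beq k 0
          · rfl
          · exact absurd (Nat.eq_of_beq_eq_true hb) h0
        rw [hb, Bool.false_or, Bool.not_eq_true'] at ht
        obtain ⟨x, hx, hlt⟩ := allBelow_false _ _ ht
        rw [Bool.not_eq_false', Nat.blt_eq] at hlt
        have hx' : x < C.T.g := hx
        obtain ⟨hbn, hback⟩ := C.T.nxt_spec C.chk_tab hk hx'
        obtain ⟨z, hz⟩ := ih _ hlt hbn
        refine ⟨PresentedGroup.of (C.gen x) * z, ?_⟩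
        rw [map_mul, Equiv.Perm.mul_apply, C.ρ_of, C.f_gen (by rw [← C.hTg]; exact hx'),
          C.T.perm_apply C.chk_tab hx', hz, hback]
  obtain ⟨z, hz⟩ := key a.val a.isLt
  exact ⟨z, Fin.ext hz⟩

theorem cγ_mul_self' (x : ℕ) : cγ edges extra C.gen x * cγ edges extra C.gen x = 1 :=
  cγ_mul_self C.hnode x

theorem wordsOK : WordsOK C.c (cγ edges extra C.gen) C.H := by
  refine wordsOK_of_src C.cγ_mul_self' C.chk_words ?_ C.hsubG
  intro w hw
  rcases List.mem_append.1 hw with hw | hw
  · unfold coxWordsL at hw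
    rw [List.mem_flatMap] at hw
    obtain ⟨i, _, hw⟩ := hw
    rw [List.mem_map] at hw
    obtain ⟨j, _, rfl⟩ := hw
    rw [prod_rep2]
    have hm : (FreeGroup.of (C.gen i) * FreeGroup.of (C.gen j)) ^
        coxLabel edges (C.gen i) (C.gen j) ∈ coxRelators edges ∪ {r | r ∈ extra} :=
      Or.inl ⟨C.gen i, C.hnode _, C.gen j, C.hnode _, rfl⟩
    have h1 := PresentedGroup.one_of_mem hm
    rw [map_pow, map_mul] at h1
    exact h1
  · have h1 : ∀ r ∈ extra, FreeGroup.lift
        (fun a => (PresentedGroup.of a : CoxPresented α edges extra)) r = 1 := by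
      intro r hr
      rw [lift_of_eq_mk]
      exact PresentedGroup.one_of_mem (Or.inr hr)
    exact (C.hextra (fun a => (PresentedGroup.of a : CoxPresented α edges extra))
      (of_mul_self C.hnode)).1 h1 w hw

/-- **the index of the subgroup is the number of rows** -/
theorem index_eq : C.H.index = C.T.n := by
  have hle := C.hrun (cγ edges extra C.gen) C.H C.cγ_mul_self' C.wordsOK
    (cγ_gen C.hnode C.c.g (fun a => ⟨C.code a, (C.hcode a).1, (C.hcode a).2⟩))
  have hdvd := dvd_index_of_action (ρ := C.ρ) (o := C.o) (H := C.H) C.trans C.fix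
  exact le_antisymm hle.1 (Nat.le_of_dvd (Nat.pos_of_ne_zero hle.2) hdvd)

end CoxCert

end

end Cfsg.Agent.Lib.Helper6.TC
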