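import Cfsg.Agent.Lib.Helper6.TCIndex

/-! # Certified orbits of a subgroup given by words, on the rows of a coset table -/

set_option autoImplicit false

noncomputable section

namespace Cfsg.Agent.Lib.Helper6.TC

open Cfsg.Agent.Lib.Helper6.NatArr Cfsg.Spor

/-- test a bit -/
def btest (B k : ℕ) : Bool := Nat.beq (Nat.land (Nat.shiftRight B k) 1) 1

theorem btest_eq (B k : ℕ) : btest B k = B.testBit k := by
  show Nat.beq ((B >>> k) &&& 1) 1 = _
  rw [Nat.testBit_eq_decide_div_mod_eq, Nat.shiftRight_eq_div_pow, Nat.and_one_is_mod]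
  by_cases h : B / 2 ^ k % 2 = 1
  · rw [h]; simp
  · have : B / 2 ^ k % 2 = 0 := by omega
    rw [this]; simp
    rfl

/-- set a bit -/
def bset (B k : ℕ) : ℕ := Nat.lor B (Nat.shiftLeft 1 k)

theorem testBit_bset (B k i : ℕ) : (bset B k).testBit i = (B.testBit i || decide (k = i)) := by
  show (B ||| (1 <<< k)).testBit i = _
  rw [Nat.testBit_or, Nat.one_shiftLeft, Nat.testBit_two_pow]

/-- the number of bits set below a bound -/
def cnt (B : ℕ) : ℕ → ℕ
  | 0 => 0
  | k + 1 => bif btest B k then Nat.succ (cnt B k) else cnt B k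

theorem card_filter_testBit (B : ℕ) : ∀ n : ℕ,
    ((Finset.range n).filter fun k => B.testBit k = true).card = cnt B n
  | 0 => by simp [cnt]
  | n + 1 => by
    rw [Finset.range_add_one, Finset.filter_insert, cnt, btest_eq]
    by_cases h : B.testBit n = true
    · rw [if_pos h, h, cond_true, Finset.card_insert_of_notMem (by simp),
        card_filter_testBit B n]
    · rw [if_neg h]
      have : B.testBit n = false := by simpa using h
      rw [this, cond_false, card_filter_testBit B n]

theorem ncard_testBit (B n : ℕ) : {b : Fin n | B.testBit b.val = true}.ncard = cnt B n := by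
  rw [← card_filter_testBit B n]
  have : {b : Fin n | B.testBit b.val = true} =
      ↑((Finset.univ : Finset (Fin n)).filter fun b => B.testBit b.val = true) := by
    ext b; simp
  rw [this, Set.ncard_coe_finset]
  apply Finset.card_bij (fun b _ => b.val)
  · intro b hb
    simp only [Finset.mem_filter, Finset.mem_univ, true_and] at hb
    simp [hb]
  · intro b _ b' _ h
    exact Fin.ext h
  · intro k hk
    simp only [Finset.mem_filter, Finset.mem_range] at hk
    exact ⟨⟨k, hk.1⟩, by simp [hk.2], rfl⟩

namespace Tab

variable (T : Tab)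

/-- validate a depth-first search of an orbit: `0` pops the stack, `x ≠ 0` claims that the row
`x % 2 ^ 20 - 1` is the image of the row on top of the stack under the word number `x / 2 ^ 20`,
and pushes it; the rows met are collected in a bitmap -/
def orbRun (ws : List (List ℕ)) : List ℕ → List ℕ → ℕ → Option ℕ
  | [], _, B => some B
  | x :: I, S, B =>
    match S with
    | [] => none
    | top :: S' =>
      bif Nat.beq x 0 then orbRun ws I S' B
      else
        force (Nat.pred (Nat.mod x 1048576)) fun r =>
        bif Nat.blt (Nat.div x 1048576) ws.length &&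
            Nat.beq (T.trace top (ws.getD (Nat.div x 1048576) [])) r then
          force (bset B r) fun B' => orbRun ws I (r :: top :: S') B'
        else none

/-- the bitmap is closed under the words and their reverses -/
def closedOK (ws : List (List ℕ)) (B : ℕ) : Bool :=
  allBelow T.n fun b => !btest B b ||
    ws.all fun w => btest B (T.trace b w) && btest B (T.trace b w.reverse)

theorem orbRun_sound {Q : ℕ → Prop} (ws : List (List ℕ))
    (hstep : ∀ top w r, w ∈ ws → Q top → T.trace top w = r → Q r) :
    ∀ (I S : List ℕ) (B B' : ℕ), T.orbRun ws I S B = some B' → (∀ s ∈ S, Q s) →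
      (∀ k, B.testBit k = true → Q k) → ∀ k, B'.testBit k = true → Q k := by
  intro I
  induction I with
  | nil =>
    intro S B B' h _ hB
    simp only [orbRun, Option.some.injEq] at h
    subst h
    exact hB
  | cons x I ih =>
    intro S B B' h hS hB
    cases S with
    | nil => simp [orbRun] at h
    | cons top S' =>
      simp only [orbRun] at h
      cases hx : Nat.beq x 0
      · rw [hx] at h
        simp only [cond_false, force_eq] at h
        cases hc : (Nat.blt (Nat.div x 1048576) ws.length &&
            Nat.beq (T.trace top (ws.getD (Nat.div x 1048576) [])) (Nat.pred (Nat.mod x 1048576)))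
        · rw [hc] at h; simp at h
        · rw [hc] at h
          simp only [cond_true] at h
          simp only [Bool.and_eq_true, Nat.blt_eq] at hc
          have hmem : ws.getD (Nat.div x 1048576) [] ∈ ws := by
            rw [List.getD_eq_getElem _ _ hc.1]
            exact List.getElem_mem hc.1
          have hQ : Q (Nat.pred (Nat.mod x 1048576)) :=
            hstep top _ _ hmem (hS top (List.mem_cons_self ..)) (Nat.eq_of_beq_eq_true hc.2)
          refine ih _ _ B' h ?_ ?_
          · intro s hs
            rcases List.mem_cons.1 hs with rfl | hs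
            · exact hQ
            · exact hS s hs
          · intro k hk
            rw [testBit_bset] at hk
            rcases Bool.or_eq_true_iff.1 hk with hk | hk
            · exact hB k hk
            · rw [← of_decide_eq_true hk]
              exact hQ
      · rw [hx] at h
        simp only [cond_true] at h
        exact ih S' B B' h (fun s hs => hS s (List.mem_cons_of_mem _ hs)) hB

theorem orbRun_mono (ws : List (List ℕ)) : ∀ (I S : List ℕ) (B B' : ℕ),
    T.orbRun ws I S B = some B' → ∀ k, B.testBit k = true → B'.testBit k = true := by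
  intro I
  induction I with
  | nil =>
    intro S B B' h k hk
    simp only [orbRun, Option.some.injEq] at h
    subst h
    exact hk
  | cons x I ih =>
    intro S B B' h k hk
    cases S with
    | nil => simp [orbRun] at h
    | cons top S' =>
      simp only [orbRun] at h
      cases hx : Nat.beq x 0
      · rw [hx] at h
        simp only [cond_false, force_eq] at h
        cases hc : (Nat.blt (Nat.div x 1048576) ws.length &&
            Nat.beq (T.trace top (ws.getD (Nat.div x 1048576) [])) (Nat.pred (Nat.mod x 1048576)))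
        · rw [hc] at h; simp at h
        · rw [hc] at h
          simp only [cond_true] at h
          refine ih _ _ B' h k ?_
          rw [testBit_bset, hk, Bool.true_or]
      · rw [hx] at h
        simp only [cond_true] at h
        exact ih S' B B' h k hk

end Tab

theorem prod_reverse_eq_inv {G : Type*} [Group G] {γ : ℕ → G} (hinv : ∀ x, γ x * γ x = 1)
    (w : List ℕ) : (w.reverse.map γ).prod = ((w.map γ).prod)⁻¹ := by
  rw [List.prod_inv_reverse, List.map_map, List.map_reverse]
  congr 2
  apply List.map_congr_left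
  intro x _
  exact (inv_eq_of_mul_eq_one_left (hinv x)).symm

section

variable {α : Type} [DecidableEq α] {edges : List (α × ℕ × α)} {extra : List (FreeGroup α)}

/-- a certificate for an orbit of the subgroup on the rows -/
structure OrbCert (C : CoxCert edges extra) where
  subW : List (List ℕ)
  hsub1 : ∀ s ∈ C.S, ∃ w ∈ subW, FreeGroup.lift C.f s = (w.map (C.T.perm C.chk_tab)).prod
  hsub2 : ∀ w ∈ subW, (∀ x ∈ w, x < C.T.g) ∧
    ∃ s ∈ C.S, FreeGroup.lift C.f s = (w.map (C.T.perm C.chk_tab)).prod
  a : ℕ
  ha : a < C.T.n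
  instrs : List ℕ
  B : ℕ
  chk_orb : C.T.orbRun subW instrs [a] (bset 0 a) = some B
  chk_closed : C.T.closedOK subW B = true

namespace OrbCert

variable {C : CoxCert edges extra} (O : OrbCert C)

theorem reach {k : ℕ} (hk : O.B.testBit k = true) :
    ∃ h ∈ C.H, (C.ρ h ⟨O.a, O.ha⟩).val = k := by
  refine C.T.orbRun_sound (Q := fun k => ∃ h ∈ C.H, (C.ρ h ⟨O.a, O.ha⟩).val = k) O.subW ?_
    O.instrs [O.a] (bset 0 O.a) O.B O.chk_orb ?_ ?_ k hk
  · rintro top w r hw ⟨h, hh, rfl⟩ htr
    obtain ⟨hl, s, hs, hsw⟩ := O.hsub2 w hw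
    rw [C.T.trace_eq C.chk_tab w _ hl, prod_reverse_eq_inv (C.T.perm_mul_self C.chk_tab),
      ← hsw, ← C.ρ_mk, ← map_inv, ← Equiv.Perm.mul_apply, ← map_mul] at htr
    refine ⟨_, C.H.mul_mem (C.H.inv_mem ?_) hh, htr⟩
    exact ⟨s, Subgroup.subset_closure hs, rfl⟩
  · intro s hs
    rw [List.mem_singleton] at hs
    subst hs
    exact ⟨1, C.H.one_mem, by simp⟩
  · intro k hk
    rw [testBit_bset] at hk
    simp only [Nat.zero_testBit, Bool.false_or, decide_eq_true_eq] at hk
    subst hk
    exact ⟨1, C.H.one_mem, by simp⟩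

theorem closed {h : CoxPresented α edges extra} (hh : h ∈ C.H) :
    ∀ b : Fin C.T.n, O.B.testBit b.val = true → O.B.testBit (C.ρ h b).val = true := by
  obtain ⟨r, hr, rfl⟩ := hh
  have hr' : r ∈ Subgroup.closure C.S := hr
  clear hr
  have hcl : ∀ (b : Fin C.T.n), O.B.testBit b.val = true → ∀ w ∈ O.subW,
      O.B.testBit (C.T.trace b.val w) = true ∧ O.B.testBit (C.T.trace b.val w.reverse) = true := by
    intro b hb w hw
    have h1 := allBelow_spec _ _ O.chk_closed b.val b.isLt
    rw [btest_eq, hb] at h1
    simp only [Bool.not_true, Bool.false_or] at h1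
    have h2 := List.all_eq_true.1 h1 w hw
    simpa only [Bool.and_eq_true, btest_eq] using h2
  induction hr' using Subgroup.closure_induction'' with
  | mem s hs =>
    intro b hb
    obtain ⟨w, hw, hsw⟩ := O.hsub1 s hs
    obtain ⟨hl, _⟩ := O.hsub2 w hw
    have := (hcl b hb w hw).2
    rw [C.T.trace_eq C.chk_tab w.reverse b (fun x hx => hl x (List.mem_reverse.1 hx)),
      List.reverse_reverse, ← hsw, ← C.ρ_mk] at this
    exact this
  | inv_mem s hs =>
    intro b hb
    obtain ⟨w, hw, hsw⟩ := O.hsub1 s hs
    obtain ⟨hl, _⟩ := O.hsub2 w hw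
    have := (hcl b hb w hw).1
    rw [C.T.trace_eq C.chk_tab w b hl, prod_reverse_eq_inv (C.T.perm_mul_self C.chk_tab),
      ← hsw, ← C.ρ_mk, ← map_inv, ← map_inv] at this
    exact this
  | one =>
    intro b hb
    simpa using hb
  | mul x y _ _ hx hy =>
    intro b hb
    rw [map_mul, map_mul, Equiv.Perm.mul_apply]
    exact hx _ (hy b hb)

theorem root_mem : O.B.testBit O.a = true := by
  refine C.T.orbRun_mono O.subW O.instrs [O.a] (bset 0 O.a) O.B O.chk_orb O.a ?_
  rw [testBit_bset]
  simp

/-- the orbit of the root is given by the bitmap -/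
theorem img_eq : imgOrbit C.ρ C.H ⟨O.a, O.ha⟩ = {b : Fin C.T.n | O.B.testBit b.val = true} := by
  ext b
  constructor
  · rintro ⟨h, hh, rfl⟩
    exact O.closed hh ⟨O.a, O.ha⟩ O.root_mem
  · intro hb
    obtain ⟨h, hh, hv⟩ := O.reach hb
    exact ⟨h, hh, Fin.ext hv⟩

end OrbCert

/-- **an injective map from the cosets of the subgroup to the rows, under which every certified
orbit on the rows is the image of an orbit of the subgroup on its cosets** -/
theorem CoxCert.exists_orbit_map (C : CoxCert edges extra) :
    ∃ Φ : CoxPresented α edges extra ⧸ C.H → Fin C.T.n, Function.Injective Φ ∧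
      ∀ O : OrbCert C, ∃ q : CoxPresented α edges extra ⧸ C.H,
        Φ '' (MulAction.orbit C.H q) = {b : Fin C.T.n | O.B.testBit b.val = true} := by
  obtain ⟨Φ, hinj, hΦ⟩ := TC.exists_orbit_map (ρ := C.ρ) (o := C.o) (H := C.H) C.trans C.fix
    C.index_eq C.hTn
  refine ⟨Φ, hinj, fun O => ?_⟩
  obtain ⟨q, hq⟩ := hΦ ⟨O.a, O.ha⟩
  exact ⟨q, hq.trans O.img_eq⟩

theorem ncard_of_img {G : Type*} [Group G] {H : Subgroup G} {n : ℕ} {Φ : G ⧸ H → Fin n}
    (hinj : Function.Injective Φ) {q : G ⧸ H} {B : ℕ}
    (h : Φ '' (MulAction.orbit H q) = {b : Fin n | B.testBit b.val = true}) :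
    (MulAction.orbit H q).ncard = cnt B n := by
  rw [← ncard_testBit, ← h, Set.ncard_image_of_injective _ hinj]

theorem orbit_ne_of_img {G : Type*} [Group G] {H : Subgroup G} {n : ℕ} {Φ : G ⧸ H → Fin n}
    {q₁ q₂ : G ⧸ H} {B₁ B₂ : ℕ}
    (h₁ : Φ '' (MulAction.orbit H q₁) = {b : Fin n | B₁.testBit b.val = true})
    (h₂ : Φ '' (MulAction.orbit H q₂) = {b : Fin n | B₂.testBit b.val = true})
    {a : ℕ} (ha : a < n) (ha₁ : B₁.testBit a = false) (ha₂ : B₂.testBit a = true) :
    MulAction.orbit H q₁ ≠ MulAction.orbit H q₂ := by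
  intro he
  rw [he, h₂] at h₁
  have : (⟨a, ha⟩ : Fin n) ∈ {b : Fin n | B₁.testBit b.val = true} := by
    rw [← h₁]
    exact ha₂
  have h4 : B₁.testBit a = true := this
  rw [ha₁] at h4
  exact Bool.false_ne_true h4

end

end Cfsg.Agent.Lib.Helper6.TC
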