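import Cfsg.Agent.Lib.Helper6.TCRel2

/-! # The search of an orbit with a bitmap that the kernel can tell apart quickly -/

set_option autoImplicit false

noncomputable section

namespace Cfsg.Agent.Lib.Helper6.TC

open Cfsg.Agent.Lib.Helper6.NatArr

namespace Tab

variable (T : Tab)

/-- as `orbRun`, with the bitmap kept above the lowest 32 binary digits, which hold the row met
last -/
def orbRun2 (ws : List (List ℕ)) : List ℕ → List ℕ → ℕ → Option ℕ
  | [], _, M => some M
  | x :: I, S, M =>
    match S with
    | [] => none
    | top :: S' =>
      bif Nat.beq x 0 then orbRun2 ws I S' M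
      else
        force (Nat.pred (Nat.mod x 1048576)) fun r =>
        bif Nat.blt (Nat.div x 1048576) ws.length &&
            Nat.beq (T.trace top (ws.getD (Nat.div x 1048576) [])) r then
          force (mark M r) fun M' => orbRun2 ws I (r :: top :: S') M'
        else none

/-- the search from the row `a` gives the bitmap `B` -/
def orbOK2 (ws : List (List ℕ)) (I : List ℕ) (a B : ℕ) : Bool :=
  match T.orbRun2 ws I [a] (mark 0 a) with
  | none => false
  | some M => Nat.beq (Nat.shiftRight M 32) B

theorem orbRun_of_orbRun2 (ws : List (List ℕ)) : ∀ (I S : List ℕ) (M M' : ℕ),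
    T.orbRun2 ws I S M = some M' →
    T.orbRun ws I S (Nat.shiftRight M 32) = some (Nat.shiftRight M' 32) := by
  intro I
  induction I with
  | nil =>
    intro S M M' h
    simp only [orbRun2, Option.some.injEq] at h
    subst h
    simp [orbRun]
  | cons x I ih =>
    intro S M M' h
    cases S with
    | nil => simp [orbRun2] at h
    | cons top S' =>
      simp only [orbRun2] at h
      simp only [orbRun]
      cases hx : Nat.beq x 0
      · rw [hx] at h
        simp only [cond_false, force_eq] at h ⊢
        cases hc : (Nat.blt (Nat.div x 1048576) ws.length &&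
            Nat.beq (T.trace top (ws.getD (Nat.div x 1048576) [])) (Nat.pred (Nat.mod x 1048576)))
        · rw [hc] at h; simp at h
        · rw [hc] at h
          simp only [cond_true] at h ⊢
          rw [← shiftRight_mark]
          exact ih _ _ M' h
      · rw [hx] at h
        simp only [cond_true] at h ⊢
        exact ih S' M M' h

theorem orbRun_of_orbOK2 {ws : List (List ℕ)} {I : List ℕ} {a B : ℕ}
    (h : T.orbOK2 ws I a B = true) : T.orbRun ws I [a] (bset 0 a) = some B := by
  unfold orbOK2 at h
  cases hr : T.orbRun2 ws I [a] (mark 0 a) with
  | none => rw [hr] at h; simp at h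
  | some M =>
    rw [hr] at h
    simp only at h
    have h1 := T.orbRun_of_orbRun2 ws I [a] (mark 0 a) M hr
    rw [shiftRight_mark, Nat.eq_of_beq_eq_true h] at h1
    exact h1

end Tab

end Cfsg.Agent.Lib.Helper6.TC
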