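import Cfsg.Agent.Lib.Helper6.TCCox
import Cfsg.Agent.Lib.Helper6.BTree

/-! # The permutation action given by a complete coset table, and the lower bound for the index -/

set_option autoImplicit false

noncomputable section

namespace Cfsg.Agent.Lib.Helper6.TC

open Cfsg.Agent.Lib.Helper6.NatArr Cfsg.Spor

/-- a complete coset table: number of generators, width of the entries, number of rows, the array
(the entry of row `a` and generator `x` is at place `a * g + x + 1` and is the image plus one) -/
structure Tab where
  g : ℕ
  w : ℕ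
  n : ℕ
  t : BT

namespace Tab

variable (T : Tab)

/-- the image of row `a` under generator `x` -/
def nxt (a x : ℕ) : ℕ := Nat.pred (T.t.entry T.w (Nat.succ (Nat.add (Nat.mul a T.g) x)))

/-- the table is complete, with entries in range, and every generator acts as an involution -/
def tabOK : Bool :=
  allBelow T.n fun a => allBelow T.g fun x =>
    force (T.t.entry T.w (Nat.succ (Nat.add (Nat.mul a T.g) x))) fun e =>
      !Nat.beq e 0 && (Nat.blt (Nat.pred e) T.n && Nat.beq (T.nxt (Nat.pred e) x) a)

/-- trace a word through the table -/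
def trace : ℕ → List ℕ → ℕ
  | a, [] => a
  | a, x :: w => force (T.nxt a x) fun b => trace b w

/-- the words act trivially -/
def relsOK (ws : List (List ℕ)) : Bool :=
  ws.all fun w => allBelow T.n fun a => Nat.beq (T.trace a w) a

/-- every row but the first has a neighbour with a smaller number -/
def treeOK : Bool :=
  allBelow T.n fun a => Nat.beq a 0 || !(allBelow T.g fun x => !Nat.blt (T.nxt a x) a)

theorem nxt_spec (h : T.tabOK = true) {a x : ℕ} (ha : a < T.n) (hx : x < T.g) :
    T.nxt a x < T.n ∧ T.nxt (T.nxt a x) x = a := by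
  have h1 := allBelow_spec _ _ (allBelow_spec _ _ h a ha) x hx
  simp only [force_eq, Bool.and_eq_true, Nat.blt_eq] at h1
  obtain ⟨_, h2, h3⟩ := h1
  exact ⟨h2, Nat.eq_of_beq_eq_true h3⟩

/-- the action of a generator on the rows -/
def fn (x : ℕ) (a : Fin T.n) : Fin T.n :=
  if h : T.nxt a.val x < T.n then ⟨T.nxt a.val x, h⟩ else a

theorem fn_val (h : T.tabOK = true) {x : ℕ} (hx : x < T.g) (a : Fin T.n) :
    (T.fn x a).val = T.nxt a.val x := by
  unfold fn
  rw [dif_pos (T.nxt_spec h a.isLt hx).1]

theorem fn_invol (h : T.tabOK = true) {x : ℕ} (hx : x < T.g) :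
    Function.Involutive (T.fn x) := by
  intro a
  apply Fin.ext
  rw [fn_val T h hx, fn_val T h hx]
  exact (T.nxt_spec h a.isLt hx).2

/-- the permutation of a generator -/
def perm (h : T.tabOK = true) (x : ℕ) : Equiv.Perm (Fin T.n) :=
  if hx : x < T.g then (T.fn_invol h hx).toPerm else 1

theorem perm_apply (h : T.tabOK = true) {x : ℕ} (hx : x < T.g) (a : Fin T.n) :
    ((T.perm h x) a).val = T.nxt a.val x := by
  unfold perm
  rw [dif_pos hx]
  exact T.fn_val h hx a

theorem perm_mul_self (h : T.tabOK = true) (x : ℕ) : T.perm h x * T.perm h x = 1 := by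
  unfold perm
  by_cases hx : x < T.g
  · rw [dif_pos hx]
    ext a
    simp only [Equiv.Perm.coe_mul, Function.comp_apply, Function.Involutive.coe_toPerm,
      Equiv.Perm.coe_one, id_eq]
    rw [T.fn_invol h hx a]
  · rw [dif_neg hx, mul_one]

theorem trace_eq (h : T.tabOK = true) : ∀ (w : List ℕ) (a : Fin T.n), (∀ x ∈ w, x < T.g) →
    T.trace a.val w = (((w.reverse.map (T.perm h)).prod) a).val
  | [], a, _ => by simp [trace]
  | x :: w, a, hw => by
    have hx : x < T.g := hw x (List.mem_cons_self ..)
    unfold trace
    rw [force_eq, List.reverse_cons, List.map_append, List.prod_append]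
    simp only [List.map_cons, List.map_nil, List.prod_cons, List.prod_nil, mul_one,
      Equiv.Perm.coe_mul, Function.comp_apply]
    rw [← trace_eq h w (T.perm h x a) (fun y hy => hw y (List.mem_cons_of_mem _ hy)),
      T.perm_apply h hx]

/-- checked words are trivial permutations -/
theorem prod_eq_one_of_relsOK (h : T.tabOK = true) {ws : List (List ℕ)}
    (hr : T.relsOK ws = true) {w : List ℕ} (hw : w ∈ ws) (hl : ∀ x ∈ w, x < T.g) :
    (w.map (T.perm h)).prod = 1 := by
  have h1 := List.all_eq_true.1 hr w hw
  have h2 : (w.reverse.map (T.perm h)).prod = 1 := by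
    ext a
    rw [← T.trace_eq h w a hl]
    have := allBelow_spec _ _ h1 a.val a.isLt
    rw [Nat.eq_of_beq_eq_true this]
    rfl
  have := prod_reverse_eq_one (γ := T.perm h) (T.perm_mul_self h) h2
  rwa [List.reverse_reverse] at this

end Tab

end Cfsg.Agent.Lib.Helper6.TC
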