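import Cfsg.Agent.Lib.Helper6.TCCheck

/-! # Soundness of the coset enumeration checker -/

set_option autoImplicit false

namespace Cfsg.Agent.Lib.Helper6.TC

open Cfsg.Agent.Lib.Helper6.NatArr

section

variable {G : Type*} [Group G] (c : Cfg) (γ : ℕ → G) (H : Subgroup G)

/-- two elements in the same right coset -/
def R (p q : G) : Prop := p * q⁻¹ ∈ H

variable {H}

theorem R.refl (p : G) : R H p p := by simp [R, H.one_mem]

theorem R.symm {p q : G} (h : R H p q) : R H q p := by
  have := H.inv_mem h
  simpa [R, mul_inv_rev] using this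

theorem R.trans {p q r : G} (h1 : R H p q) (h2 : R H q r) : R H p r := by
  have := H.mul_mem h1 h2
  simpa [R, mul_assoc] using this

theorem R.mul_right {p q : G} (h : R H p q) (z : G) : R H (p * z) (q * z) := by
  simpa [R, mul_assoc] using h

variable (H)

/-- the product of the generators of `n` letters of a packed word from place `i` on -/
def ev (wd : ℕ) : ℕ → ℕ → G
  | _, 0 => 1
  | i, n + 1 => γ (letter wd i) * ev wd (i + 1) n

theorem ev_succ_right (wd : ℕ) : ∀ (n i : ℕ),
    ev γ wd i (n + 1) = ev γ wd i n * γ (letter wd (i + n))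
  | 0, i => by simp [ev]
  | n + 1, i => by
    have e : i + 1 + n = i + (n + 1) := by omega
    rw [ev, ev_succ_right wd n (i + 1), ev, mul_assoc, e]

theorem ev_add (wd : ℕ) : ∀ (n m i : ℕ), ev γ wd i (n + m) = ev γ wd i n * ev γ wd (i + n) m
  | 0, m, i => by simp [ev]
  | n + 1, m, i => by
    have e : n + 1 + m = (n + m) + 1 := by omega
    have e' : i + 1 + n = i + (n + 1) := by omega
    rw [e, ev, ev_add wd n m (i + 1), ev, mul_assoc, e']

/-- the invariant: every entry of the table and of the merge map is a true statement on cosets -/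
structure Inv (s : St) (τ : ℕ → G) : Prop where
  tab : ∀ a x e, x < c.g → aget c.w s.t (slot c a x) = e + 1 → e < s.N ∧ R H (τ a * γ x) (τ e)
  emp : ∀ a x, s.N ≤ a → x < c.g → aget c.w s.t (slot c a x) = 0
  mrg : ∀ b a, aget c.w s.m (b + 1) = a + 1 → a < s.N ∧ b < s.N ∧ R H (τ b) (τ a)
  small : s.N < 2 ^ c.w
  one : τ 0 = 1

theorem slot_inj {a x a' x' : ℕ} (hx : x < c.g) (hx' : x' < c.g)
    (h : slot c a x = slot c a' x') : a = a' ∧ x = x' := by
  have h' : a * c.g + x = a' * c.g + x' := Nat.succ.inj h
  rcases Nat.lt_trichotomy a a' with hlt | heq | hgt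
  · have h1 : (a + 1) * c.g ≤ a' * c.g := Nat.mul_le_mul_right _ hlt
    have h2 : (a + 1) * c.g = a * c.g + c.g := by ring
    omega
  · subst heq
    exact ⟨rfl, by omega⟩
  · have h1 : (a' + 1) * c.g ≤ a * c.g := Nat.mul_le_mul_right _ hgt
    have h2 : (a' + 1) * c.g = a' * c.g + c.g := by ring
    omega

theorem slot_ne_zero (a x : ℕ) : slot c a x ≠ 0 := Nat.succ_ne_zero _

variable {c γ H}

theorem Inv.write {s : St} {τ : ℕ → G} (hI : Inv c γ H s τ) {f x b : ℕ} (hf : f < s.N)
    (hx : x < c.g) (hb : b < s.N) (hR : R H (τ f * γ x) (τ b)) :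
    Inv c γ H ⟨awrite c.w s.t (slot c f x) (Nat.succ b), s.m, s.N⟩ τ := by
  have hlt : Nat.succ b < 2 ^ c.w := lt_of_le_of_lt (Nat.succ_le_of_lt hb) hI.small
  refine ⟨?_, ?_, hI.mrg, hI.small, hI.one⟩
  · intro a' x' e' hx' he
    simp only at he
    rw [aget_awrite _ _ _ _ _ hlt (slot_ne_zero c a' x')] at he
    by_cases hs : slot c a' x' = slot c f x
    · rw [if_pos hs] at he
      obtain ⟨rfl, rfl⟩ := slot_inj c hx' hx hs
      have : e' = b := by omega
      subst this
      exact ⟨hb, hR⟩
    · rw [if_neg hs] at he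
      exact hI.tab a' x' e' hx' he
  · intro a' x' ha' hx'
    change s.N ≤ a' at ha'
    simp only
    rw [aget_awrite _ _ _ _ _ hlt (slot_ne_zero c a' x')]
    have hs : slot c a' x' ≠ slot c f x := by
      intro hs
      obtain ⟨rfl, _⟩ := slot_inj c hx' hx hs
      omega
    rw [if_neg hs]
    exact hI.emp a' x' ha' hx'

theorem Inv.setm {s : St} {τ : ℕ → G} (hI : Inv c γ H s τ) {hi lo : ℕ} (hhi : hi < s.N)
    (hlo : lo < s.N) (hR : R H (τ hi) (τ lo)) :
    Inv c γ H ⟨s.t, awrite c.w s.m (Nat.succ hi) (Nat.succ lo), s.N⟩ τ := by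
  have hlt : Nat.succ lo < 2 ^ c.w := lt_of_le_of_lt (Nat.succ_le_of_lt hlo) hI.small
  refine ⟨hI.tab, hI.emp, ?_, hI.small, hI.one⟩
  intro b a he
  simp only at he
  rw [aget_awrite _ _ _ _ _ hlt (Nat.succ_ne_zero b)] at he
  by_cases hs : b + 1 = Nat.succ hi
  · rw [if_pos hs] at he
    have h1 : b = hi := by omega
    have h2 : a = lo := by omega
    subst h1 h2
    exact ⟨hlo, hhi, hR⟩
  · rw [if_neg hs] at he
    exact hI.mrg b a he

theorem Inv.merge {s : St} {τ : ℕ → G} (hI : Inv c γ H s τ) {p q : ℕ} (hp : p < s.N)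
    (hq : q < s.N) (hR : R H (τ p) (τ q)) : Inv c γ H (mergeOp c s p q) τ := by
  unfold mergeOp
  cases h1 : Nat.beq p q
  · simp only [cond_false]
    cases h2 : Nat.blt p q
    · simp only [cond_false]
      exact hI.setm hp hq hR
    · simp only [cond_true]
      exact hI.setm hq hp hR.symm
  · simp only [cond_true]
    exact hI

theorem find_spec {s : St} {τ : ℕ → G} (hI : Inv c γ H s τ) : ∀ (fuel b : ℕ), b < s.N →
    find c.w s.m fuel b < s.N ∧ R H (τ b) (τ (find c.w s.m fuel b))
  | 0, b, hb => ⟨hb, R.refl _⟩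
  | fuel + 1, b, hb => by
    unfold find
    rw [force_eq]
    cases he : aget c.w s.m (Nat.succ b) with
    | zero => exact ⟨hb, R.refl _⟩
    | succ a =>
      obtain ⟨ha, _, hR⟩ := hI.mrg b a he
      obtain ⟨h1, h2⟩ := find_spec hI fuel a ha
      exact ⟨h1, hR.trans h2⟩

theorem scanF_spec {s : St} {τ : ℕ → G} (hI : Inv c γ H s τ) (wd : ℕ) : ∀ (n i cur r : ℕ),
    (∀ j, i ≤ j → j < i + n → letter wd j < c.g) → cur < s.N →
    scanF c s.t s.m wd n i cur = some r → r < s.N ∧ R H (τ cur * ev γ wd i n) (τ r)
  | 0, i, cur, r, _, hcur, h => by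
    simp only [scanF, Option.some.injEq] at h
    subst h
    simpa [ev] using ⟨hcur, R.refl (H := H) (τ cur)⟩
  | n + 1, i, cur, r, hl, hcur, h => by
    unfold scanF at h
    rw [force_eq] at h
    cases he : aget c.w s.t (slot c cur (letter wd i)) with
    | zero => rw [he] at h; simp at h
    | succ e =>
      rw [he] at h
      simp only [Nat.beq, cond_false, force_eq, Nat.pred_succ] at h
      have hlt : letter wd i < c.g := hl i le_rfl (by omega)
      obtain ⟨he1, hR1⟩ := hI.tab cur (letter wd i) e hlt he
      obtain ⟨hf1, hR2⟩ := find_spec hI c.fuel e he1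
      obtain ⟨hr, hR3⟩ := scanF_spec hI wd n (Nat.succ i) _ r
        (fun j h1 h2 => hl j (by omega) (by omega)) hf1 h
      refine ⟨hr, ?_⟩
      rw [ev, ← mul_assoc]
      exact ((hR1.trans hR2).mul_right _).trans hR3

theorem scanB_spec (hinv : ∀ x, γ x * γ x = 1) {s : St} {τ : ℕ → G} (hI : Inv c γ H s τ)
    (wd : ℕ) : ∀ (n i cur r : ℕ), n ≤ i →
    (∀ j, i - n ≤ j → j < i → letter wd j < c.g) → cur < s.N →
    scanB c s.t s.m wd n i cur = some r → r < s.N ∧ R H (τ cur * (ev γ wd (i - n) n)⁻¹) (τ r)
  | 0, i, cur, r, _, _, hcur, h => by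
    simp only [scanB, Option.some.injEq] at h
    subst h
    simpa [ev] using ⟨hcur, R.refl (H := H) (τ cur)⟩
  | n + 1, i, cur, r, hni, hl, hcur, h => by
    unfold scanB at h
    rw [force_eq] at h
    cases he : aget c.w s.t (slot c cur (letter wd (Nat.pred i))) with
    | zero => rw [he] at h; simp at h
    | succ e =>
      rw [he] at h
      simp only [Nat.beq, cond_false, force_eq, Nat.pred_succ] at h
      have hlt : letter wd (Nat.pred i) < c.g :=
        hl (Nat.pred i) (by simp only [Nat.pred_eq_sub_one]; omega)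
          (by simp only [Nat.pred_eq_sub_one]; omega)
      obtain ⟨he1, hR1⟩ := hI.tab cur (letter wd (Nat.pred i)) e hlt he
      obtain ⟨hf1, hR2⟩ := find_spec hI c.fuel e he1
      obtain ⟨hr, hR3⟩ := scanB_spec hinv hI wd n (Nat.pred i) _ r
        (by simp only [Nat.pred_eq_sub_one]; omega)
        (fun j h1 h2 => hl j (by simp only [Nat.pred_eq_sub_one] at h1; omega)
          (by simp only [Nat.pred_eq_sub_one] at h2; omega)) hf1 h
      refine ⟨hr, ?_⟩
      have e1 : i - (n + 1) = Nat.pred i - n := by simp only [Nat.pred_eq_sub_one]; omega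
      have e2 : Nat.pred i - n + n = Nat.pred i := by simp only [Nat.pred_eq_sub_one]; omega
      rw [e1, ev_succ_right, e2, mul_inv_rev]
      have e3 : (γ (letter wd (Nat.pred i)))⁻¹ = γ (letter wd (Nat.pred i)) :=
        inv_eq_of_mul_eq_one_left (hinv _)
      rw [e3, ← mul_assoc]
      exact ((hR1.trans hR2).mul_right _).trans hR3

variable (c γ H)

/-- the words are words in the generators; relators are trivial, subgroup words are in the
subgroup -/
structure WordsOK : Prop where
  lett : ∀ k i, i < wlen (wordAt c k) → letter (wordAt c k) i < c.g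
  rel : ∀ k, c.nsub ≤ k → ev γ (wordAt c k) 0 (wlen (wordAt c k)) = 1
  sub : ∀ k, k < c.nsub → ev γ (wordAt c k) 0 (wlen (wordAt c k)) ∈ H

variable {c γ H}

theorem word_fact (hW : WordsOK c γ H) {s : St} {τ : ℕ → G} (hI : Inv c γ H s τ) {a k : ℕ}
    (h : (Nat.ble c.nsub k || Nat.beq a 0) = true) :
    R H (τ a * ev γ (wordAt c k) 0 (wlen (wordAt c k))) (τ a) := by
  by_cases hk : c.nsub ≤ k
  · rw [hW.rel k hk, mul_one]
    exact R.refl _
  · have h1 : Nat.ble c.nsub k = false := by
      cases hb : Nat.ble c.nsub k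
      · rfl
      · exact absurd (Nat.le_of_ble_eq_true hb) hk
    rw [h1, Bool.false_or] at h
    have ha : a = 0 := Nat.eq_of_beq_eq_true h
    subst ha
    rw [hI.one]
    simpa [R] using hW.sub k (by omega)

theorem opDef_spec {s s' : St} {τ : ℕ → G} (hinv : ∀ x, γ x * γ x = 1) (hI : Inv c γ H s τ)
    {a x : ℕ} (h : opDef c s a x = some s') : ∃ τ', Inv c γ H s' τ' := by
  unfold opDef at h
  cases hc : (Nat.blt a s.N && (Nat.blt x c.g && Nat.blt (Nat.succ s.N) (Nat.pow 2 c.w)))
  · rw [hc] at h; simp at h
  · rw [hc] at h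
    simp only [cond_true, Option.some.injEq] at h
    simp only [Bool.and_eq_true, Nat.blt_eq] at hc
    obtain ⟨ha, hx, hN⟩ := hc
    have hN' : Nat.succ s.N < 2 ^ c.w := hN
    subst h
    let τ' : ℕ → G := Function.update τ s.N (τ a * γ x)
    have hτ : ∀ b, b < s.N → τ' b = τ b := fun b hb =>
      Function.update_of_ne (Nat.ne_of_lt hb) _ _
    have hτN : τ' s.N = τ a * γ x := Function.update_self ..
    have ha' : Nat.succ a < 2 ^ c.w := by omega
    refine ⟨τ', ?_, ?_, ?_, hN', ?_⟩
    · intro a' x' e' hx' he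
      simp only at he
      rw [aget_awrite _ _ _ _ _ ha' (slot_ne_zero c a' x')] at he
      by_cases hs : slot c a' x' = slot c s.N x
      · rw [if_pos hs] at he
        obtain ⟨rfl, rfl⟩ := slot_inj c hx' hx hs
        have : e' = a := by omega
        subst this
        refine ⟨by simp only; omega, ?_⟩
        rw [hτN, hτ e' ha, mul_assoc, hinv, mul_one]
        exact R.refl _
      · rw [if_neg hs, aget_awrite _ _ _ _ _ hN' (slot_ne_zero c a' x')] at he
        by_cases hs2 : slot c a' x' = slot c a x
        · rw [if_pos hs2] at he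
          obtain ⟨rfl, rfl⟩ := slot_inj c hx' hx hs2
          have : e' = s.N := by omega
          subst this
          refine ⟨by simp only; omega, ?_⟩
          rw [hτN, hτ a' ha]
          exact R.refl _
        · rw [if_neg hs2] at he
          have ha'N : a' < s.N := by
            by_contra hcon
            have := hI.emp a' x' (by omega) hx'
            omega
          obtain ⟨h1, h2⟩ := hI.tab a' x' e' hx' he
          refine ⟨by simp only; omega, ?_⟩
          rw [hτ a' ha'N, hτ e' h1]
          exact h2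
    · intro a' x' ha'N hx'
      change Nat.succ s.N ≤ a' at ha'N
      simp only
      rw [aget_awrite _ _ _ _ _ ha' (slot_ne_zero c a' x')]
      have hs : slot c a' x' ≠ slot c s.N x := by
        intro hs
        obtain ⟨rfl, _⟩ := slot_inj c hx' hx hs
        omega
      rw [if_neg hs, aget_awrite _ _ _ _ _ hN' (slot_ne_zero c a' x')]
      have hs2 : slot c a' x' ≠ slot c a x := by
        intro hs
        obtain ⟨rfl, _⟩ := slot_inj c hx' hx hs
        omega
      rw [if_neg hs2]
      exact hI.emp a' x' (by omega) hx'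
    · intro b a2 he
      obtain ⟨h1, h2, h3⟩ := hI.mrg b a2 he
      refine ⟨by simp only; omega, by simp only; omega, ?_⟩
      rw [hτ b h2, hτ a2 h1]
      exact h3
    · have : (0 : ℕ) < s.N := by omega
      rw [hτ 0 this]
      exact hI.one

theorem opDed_spec {s s' : St} {τ : ℕ → G} (hinv : ∀ x, γ x * γ x = 1) (hW : WordsOK c γ H)
    (hI : Inv c γ H s τ) {a k p : ℕ} (h : opDed c s a k p = some s') : Inv c γ H s' τ := by
  unfold opDed at h
  rw [force_eq] at h
  cases hc : (Nat.blt a s.N && ((Nat.ble c.nsub k || Nat.beq a 0) &&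
      (Nat.blt p (wlen (wordAt c k)) && Nat.blt (letter (wordAt c k) p) c.g)))
  · rw [hc] at h; simp at h
  · rw [hc] at h
    simp only [cond_true] at h
    simp only [Bool.and_eq_true, Nat.blt_eq] at hc
    obtain ⟨ha, hsub, hp, hx⟩ := hc
    cases hf : scanF c s.t s.m (wordAt c k) p 0 a with
    | none => rw [hf] at h; simp at h
    | some f =>
      rw [hf] at h
      simp only at h
      cases hb : scanB c s.t s.m (wordAt c k) (Nat.sub (wlen (wordAt c k)) (Nat.succ p))
          (wlen (wordAt c k)) a with
      | none => rw [hb] at h; simp at h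
      | some b =>
        rw [hb] at h
        simp only [force_eq] at h
        obtain ⟨hfN, hRf⟩ := scanF_spec hI (wordAt c k) p 0 a f
          (fun j _ h2 => hW.lett k j (by omega)) ha hf
        obtain ⟨hbN, hRb⟩ := scanB_spec hinv hI (wordAt c k) _ _ a b
          (Nat.sub_le _ _) (fun j _ h2 => hW.lett k j h2) ha hb
        have hWf := word_fact hW hI (a := a) (k := k) hsub
        -- split the word
        have eL : wlen (wordAt c k) = p + ((wlen (wordAt c k) - (p + 1)) + 1) := by omega
        have e1 : wlen (wordAt c k) - (wlen (wordAt c k) - Nat.succ p) = p + 1 := by omega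
        rw [e1] at hRb
        have e2 : wlen (wordAt c k) - Nat.succ p = wlen (wordAt c k) - (p + 1) := rfl
        rw [e2] at hRb
        rw [eL, ev_add, ev, zero_add] at hWf
        -- the deduced fact
        have hkey : R H (τ f * γ (letter (wordAt c k) p)) (τ b) := by
          have h1 := (hRf.mul_right (γ (letter (wordAt c k) p))).symm
          have h2 := hWf.mul_right (ev γ (wordAt c k) (p + 1) (wlen (wordAt c k) - (p + 1)))⁻¹
          have e3 : τ a * (ev γ (wordAt c k) 0 p * (γ (letter (wordAt c k) p) *
              ev γ (wordAt c k) (p + 1) (wlen (wordAt c k) - (p + 1)))) *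
              (ev γ (wordAt c k) (p + 1) (wlen (wordAt c k) - (p + 1)))⁻¹ =
              τ a * ev γ (wordAt c k) 0 p * γ (letter (wordAt c k) p) := by
            simp only [mul_assoc, mul_inv_cancel, mul_one]
          rw [e3] at h2
          exact h1.trans (h2.trans hRb)
        have hkey' : R H (τ b * γ (letter (wordAt c k) p)) (τ f) := by
          have := hkey.mul_right (γ (letter (wordAt c k) p))
          rw [mul_assoc, hinv, mul_one] at this
          exact this.symm
        cases he : aget c.w s.t (slot c f (letter (wordAt c k) p)) with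
        | zero =>
          rw [he] at h
          simp only [Nat.beq, cond_true] at h
          have I1 := hI.write hfN hx hbN hkey
          cases h2 : Nat.beq (aget c.w (awrite c.w s.t (slot c f (letter (wordAt c k) p))
              (Nat.succ b)) (slot c b (letter (wordAt c k) p))) 0
          · rw [h2] at h
            simp only [cond_false, Option.some.injEq] at h
            subst h
            exact I1
          · rw [h2] at h
            simp only [cond_true, Option.some.injEq] at h
            subst h
            exact I1.write hbN hx hfN hkey'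
        | succ e =>
          rw [he] at h
          simp only [Nat.beq, cond_false, Option.some.injEq, Nat.pred_succ] at h
          subst h
          obtain ⟨heN, hRe⟩ := hI.tab f _ e hx he
          obtain ⟨hcN, hRc⟩ := find_spec hI c.fuel e heN
          exact hI.merge hcN hbN (hRc.symm.trans (hRe.symm.trans hkey))

theorem opCoin_spec {s s' : St} {τ : ℕ → G} (hinv : ∀ x, γ x * γ x = 1) (hW : WordsOK c γ H)
    (hI : Inv c γ H s τ) {a k p : ℕ} (h : opCoin c s a k p = some s') : Inv c γ H s' τ := by
  unfold opCoin at h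
  rw [force_eq] at h
  cases hc : (Nat.blt a s.N && ((Nat.ble c.nsub k || Nat.beq a 0) &&
      Nat.ble p (wlen (wordAt c k))))
  · rw [hc] at h; simp at h
  · rw [hc] at h
    simp only [cond_true] at h
    simp only [Bool.and_eq_true, Nat.blt_eq, Nat.ble_eq] at hc
    obtain ⟨ha, hsub, hp⟩ := hc
    cases hf : scanF c s.t s.m (wordAt c k) p 0 a with
    | none => rw [hf] at h; simp at h
    | some f =>
      rw [hf] at h
      simp only at h
      cases hb : scanB c s.t s.m (wordAt c k) (Nat.sub (wlen (wordAt c k)) p)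
          (wlen (wordAt c k)) a with
      | none => rw [hb] at h; simp at h
      | some b =>
        rw [hb] at h
        simp only [Option.some.injEq] at h
        subst h
        obtain ⟨hfN, hRf⟩ := scanF_spec hI (wordAt c k) p 0 a f
          (fun j _ h2 => hW.lett k j (by omega)) ha hf
        obtain ⟨hbN, hRb⟩ := scanB_spec hinv hI (wordAt c k) _ _ a b
          (Nat.sub_le _ _) (fun j _ h2 => hW.lett k j h2) ha hb
        have hWf := word_fact hW hI (a := a) (k := k) hsub
        have eL : wlen (wordAt c k) = p + (wlen (wordAt c k) - p) := by omega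
        have e1 : wlen (wordAt c k) - (wlen (wordAt c k) - p) = p := by omega
        rw [e1] at hRb
        rw [eL, ev_add, zero_add] at hWf
        have h2 := hWf.mul_right (ev γ (wordAt c k) p (wlen (wordAt c k) - p))⁻¹
        have e3 : τ a * (ev γ (wordAt c k) 0 p * ev γ (wordAt c k) p (wlen (wordAt c k) - p)) *
            (ev γ (wordAt c k) p (wlen (wordAt c k) - p))⁻¹ = τ a * ev γ (wordAt c k) 0 p := by
          simp only [mul_assoc, mul_inv_cancel, mul_one]
        rw [e3] at h2
        exact hI.merge hfN hbN (hRf.symm.trans (h2.trans hRb))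

theorem opMove_spec {s s' : St} {τ : ℕ → G} (hI : Inv c γ H s τ) {v x : ℕ}
    (h : opMove c s v x = some s') : Inv c γ H s' τ := by
  unfold opMove at h
  cases hc : (Nat.blt v s.N && Nat.blt x c.g)
  · rw [hc] at h; simp at h
  · rw [hc] at h
    simp only [cond_true, force_eq] at h
    simp only [Bool.and_eq_true, Nat.blt_eq] at hc
    obtain ⟨hv, hx⟩ := hc
    obtain ⟨haN, hRa⟩ := find_spec hI c.fuel v hv
    cases hy : aget c.w s.t (slot c v x) with
    | zero => rw [hy] at h; simp at h
    | succ y =>
      rw [hy] at h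
      simp only [Nat.beq, cond_false, Nat.pred_succ] at h
      obtain ⟨hyN, hRy⟩ := hI.tab v x y hx hy
      obtain ⟨hrN, hRr⟩ := find_spec hI c.fuel y hyN
      -- the transferred fact
      have hkey : R H (τ (find c.w s.m c.fuel v) * γ x) (τ (find c.w s.m c.fuel y)) :=
        ((hRa.symm.mul_right (γ x)).trans hRy).trans hRr
      cases he : aget c.w s.t (slot c (find c.w s.m c.fuel v) x) with
      | zero =>
        rw [he] at h
        simp only [Nat.beq, cond_true, Option.some.injEq] at h
        subst h
        exact hI.write haN hx hrN hkey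
      | succ e =>
        rw [he] at h
        simp only [Nat.beq, cond_false, Option.some.injEq, Nat.pred_succ] at h
        subst h
        obtain ⟨heN, hRe⟩ := hI.tab _ x e hx he
        obtain ⟨hdN, hRd⟩ := find_spec hI c.fuel e heN
        exact hI.merge hrN hdN (hkey.symm.trans (hRe.trans hRd))

theorem step_spec {s s' : St} {τ : ℕ → G} (hinv : ∀ x, γ x * γ x = 1) (hW : WordsOK c γ H)
    (hI : Inv c γ H s τ) {o : ℕ} (h : step c s o = some s') : ∃ τ', Inv c γ H s' τ' := by
  unfold step at h
  simp only [force_eq] at h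
  cases h0 : Nat.beq (Nat.mod o 4) 0
  · rw [h0] at h
    simp only [cond_false] at h
    cases h1 : Nat.beq (Nat.mod o 4) 1
    · rw [h1] at h
      simp only [cond_false] at h
      cases h2 : Nat.beq (Nat.mod o 4) 2
      · rw [h2] at h
        simp only [cond_false] at h
        exact ⟨τ, opMove_spec hI h⟩
      · rw [h2] at h
        simp only [cond_true] at h
        exact ⟨τ, opCoin_spec hinv hW hI h⟩
    · rw [h1] at h
      simp only [cond_true] at h
      exact ⟨τ, opDed_spec hinv hW hI h⟩
  · rw [h0] at h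
    simp only [cond_true] at h
    exact opDef_spec hinv hI h

theorem run_spec (hinv : ∀ x, γ x * γ x = 1) (hW : WordsOK c γ H) : ∀ (ops : List ℕ)
    (s s' : St) (τ : ℕ → G), Inv c γ H s τ → run c ops s = some s' → ∃ τ', Inv c γ H s' τ'
  | [], s, s', τ, hI, h => by
    simp only [run, Option.some.injEq] at h
    subst h
    exact ⟨τ, hI⟩
  | o :: ops, s, s', τ, hI, h => by
    unfold run at h
    cases hs : step c s o with
    | none => rw [hs] at h; simp at h
    | some s1 =>
      rw [hs] at h
      simp only [force_eq] at h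
      obtain ⟨τ1, hI1⟩ := step_spec hinv hW hI hs
      exact run_spec hinv hW ops s1 s' τ1 hI1 h

theorem runAll_spec (hinv : ∀ x, γ x * γ x = 1) (hW : WordsOK c γ H) : ∀ (Ls : List (List ℕ))
    (s s' : St) (τ : ℕ → G), Inv c γ H s τ → runAll c Ls s = some s' → ∃ τ', Inv c γ H s' τ'
  | [], s, s', τ, hI, h => by
    simp only [runAll, Option.some.injEq] at h
    subst h
    exact ⟨τ, hI⟩
  | L :: Ls, s, s', τ, hI, h => by
    unfold runAll at h
    cases hs : run c L s with
    | none => rw [hs] at h; simp at h
    | some s1 =>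
      rw [hs] at h
      simp only at h
      obtain ⟨τ1, hI1⟩ := run_spec hinv hW L s s1 τ hI hs
      exact runAll_spec hinv hW Ls s1 s' τ1 hI1 h

variable (c γ H)

theorem inv_init (hw : 1 < 2 ^ c.w) : Inv c γ H ⟨0, 0, 1⟩ (fun _ => 1) := by
  refine ⟨?_, ?_, ?_, hw, rfl⟩
  · intro a x e _ he
    simp only [aget_zero] at he
    omega
  · intro a x _ _
    exact aget_zero _ _
  · intro b a he
    simp only [aget_zero] at he
    omega

variable {c γ H}

theorem final_spec {s : St} {τ : ℕ → G} (hI : Inv c γ H s τ) {n : ℕ}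
    (h : finalOK c s n = true) {a x : ℕ} (ha : a < n) (hx : x < c.g) :
    ∃ b, b < n ∧ R H (τ a * γ x) (τ b) := by
  have h1 := allBelow_spec _ _ (allBelow_spec _ _ h a ha) x hx
  simp only [force_eq, Bool.and_eq_true, Bool.not_eq_true', Nat.blt_eq] at h1
  obtain ⟨h2, h3⟩ := h1
  cases he : aget c.w s.t (slot c a x) with
  | zero => rw [he] at h2; simp [Nat.beq] at h2
  | succ e =>
    rw [he] at h3
    simp only [Nat.pred_succ] at h3
    obtain ⟨heN, hRe⟩ := hI.tab a x e hx he
    obtain ⟨_, hRf⟩ := find_spec hI c.fuel e heN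
    exact ⟨_, h3, hRe.trans hRf⟩

/-- **the checked enumeration bounds the index** -/
theorem index_le_of_run (hinv : ∀ x, γ x * γ x = 1) (hW : WordsOK c γ H) (hw : 1 < 2 ^ c.w)
    (hgen : ∀ z : G, ∃ u : List ℕ, (∀ x ∈ u, x < c.g) ∧ z = (u.map γ).prod)
    (trace : List (List ℕ)) (n : ℕ) (hn : 0 < n)
    (hrun : runOK c trace n = true) :
    H.index ≤ n ∧ H.index ≠ 0 := by
  unfold runOK at hrun
  cases hs : runAll c trace ⟨0, 0, 1⟩ with
  | none => rw [hs] at hrun; simp at hrun
  | some s =>
    rw [hs] at hrun
    simp only at hrun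
    obtain ⟨τ, hI⟩ := runAll_spec hinv hW trace _ s _ (inv_init c γ H hw) hs
    -- every word leads from a row below `n` to a row below `n`
    have key : ∀ (u : List ℕ), (∀ x ∈ u, x < c.g) → ∀ a, a < n →
        ∃ b, b < n ∧ R H (τ a * (u.map γ).prod) (τ b) := by
      intro u
      induction u with
      | nil =>
        intro _ a ha
        exact ⟨a, ha, by simpa using R.refl (H := H) (τ a)⟩
      | cons x u ih =>
        intro hu a ha
        obtain ⟨b, hb, hRb⟩ := final_spec hI hrun ha (hu x (List.mem_cons_self ..))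
        obtain ⟨b', hb', hRb'⟩ := ih (fun y hy => hu y (List.mem_cons_of_mem _ hy)) b hb
        refine ⟨b', hb', ?_⟩
        rw [List.map_cons, List.prod_cons, ← mul_assoc]
        exact (hRb.mul_right _).trans hRb'
    -- the cosets of the rows cover the group
    let φ : Fin n → G ⧸ H := fun b => QuotientGroup.mk ((τ b.val)⁻¹)
    have hsurj : Function.Surjective φ := by
      intro q
      induction q using QuotientGroup.induction_on with
      | H z =>
        obtain ⟨u, hu, hz⟩ := hgen z⁻¹
        obtain ⟨b, hb, hRb⟩ := key u hu 0 hn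
        refine ⟨⟨b, hb⟩, ?_⟩
        show (QuotientGroup.mk ((τ b)⁻¹) : G ⧸ H) = QuotientGroup.mk z
        rw [QuotientGroup.eq]
        rw [hI.one, one_mul, ← hz] at hRb
        have := H.inv_mem hRb
        simpa [R, mul_inv_rev] using this
    have hfin : Finite (G ⧸ H) := Finite.of_surjective φ hsurj
    have hle : Nat.card (G ⧸ H) ≤ Nat.card (Fin n) := Nat.card_le_card_of_surjective φ hsurj
    rw [Nat.card_fin] at hle
    refine ⟨hle, ?_⟩
    show Nat.card (G ⧸ H) ≠ 0
    exact Nat.card_pos.ne'

end

/-- what a checked coset enumeration gives: in a group generated by involutions `γ x`, in which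
the words of the configuration are relators or lie in the subgroup `H`, the index of `H` is at
most `n` -/
def RunCert (c : Cfg) (n : ℕ) : Prop :=
  ∀ {G : Type} [Group G] (γ : ℕ → G) (H : Subgroup G), (∀ x, γ x * γ x = 1) → WordsOK c γ H →
    (∀ z : G, ∃ u : List ℕ, (∀ x ∈ u, x < c.g) ∧ z = (u.map γ).prod) →
    H.index ≤ n ∧ H.index ≠ 0

theorem RunCert.of_run {c : Cfg} {n : ℕ} (hw : 1 < 2 ^ c.w) (hn : 0 < n)
    {trace : List (List ℕ)} (h : runOK c trace n = true) : RunCert c n :=
  fun _ _ hinv hW hgen => index_le_of_run hinv hW hw hgen trace n hn h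

end Cfsg.Agent.Lib.Helper6.TC
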