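import Cfsg.Agent.Lib.Helper6.TCCheck

/-! # Coset enumeration data for TitsP2: the trace (generated) -/

set_option autoImplicit false
set_option maxRecDepth 1000000
set_option maxHeartbeats 4000000

namespace Cfsg.Agent.Lib.Helper6.TitsP2TC

open Cfsg.Agent.Lib.Helper6.TC

/-- the operations of the enumeration -/
def trace : List (List ℕ) := [[0, 67108864, 67108868, 8, 12, 67108880, 67108884, 24, 28, 67108896, 67108900, 40, 44, 67108912, 67108916, 56, 60, 67108928, 67108932, 72, 76, 67108944, 67108948, 88, 92, 3573479899137]]

end Cfsg.Agent.Lib.Helper6.TitsP2TC
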