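import Cfsg.Agent.Lib.Helper6.TCPerm

/-! # Coset enumeration data for TitsP2: configuration, table, words (generated) -/

set_option autoImplicit false
set_option maxRecDepth 1000000
set_option maxHeartbeats 4000000

namespace Cfsg.Agent.Lib.Helper6.TitsP2TC

open Cfsg.Agent.Lib.Helper6.TC

/-- the configuration of the enumeration -/
def cfg : Cfg := ⟨2, 5, 1000000, 0, 112, 0x1102010101010101010101010101011a101010101010101010101010101a0000000000000000000000000002⟩

/-- the number of words -/
def nw : ℕ := 4

/-- the words of the further relators -/
def extraWords : List (List ℕ) := []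

/-- where the words come from -/
def srcs : List ℕ := [0, 512, 514, 1536]

/-- the coset table -/
def tab : Tab := ⟨2, 5, 26, .leaf 0x19c6af6d5738a5e72b46b484dee9363063d6a725ac42ce65152821c62304a408c40⟩

/-- the words of the generators of the subgroup -/
def subW : List (List ℕ) := []


end Cfsg.Agent.Lib.Helper6.TitsP2TC
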