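import Cfsg.Agent.Lib.Helper6.TCPerm

/-! # Coset enumeration data for U33P: configuration, table, words (generated) -/

set_option autoImplicit false
set_option maxRecDepth 1000000
set_option maxHeartbeats 4000000

namespace Cfsg.Agent.Lib.Helper6.U33PTC

open Cfsg.Agent.Lib.Helper6.TC

/-- the configuration of the enumeration -/
def cfg : Cfg := ⟨4, 5, 1000000, 2, 56, 0x1312131213120c3121312131210c1213121312130c2131213121310c0301030103010c3010301030100c0103010301030c1030103010300c000023203203090002320320300900032032030209000203203023090000320302320900032030232009000203023203090000302320320900030232032009000230232030090003023203020900002320302309000232030230090003203023020900020302302309000030230232090003023023200900002302320309000000000033020000232323230800003232323208000000000022020000001313130600000031313106000000121212060000002121210600000000001102000000030303060000003030300600000000020204000000002020040000010101010800001010101008000000000000020000000001300300000000000201⟩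

/-- the number of words -/
def nw : ℕ := 44

/-- the words of the further relators -/
def extraWords : List (List ℕ) := [[3, 0, 2, 3, 2, 0, 3, 2, 0], [0, 3, 0, 1, 0, 3, 0, 1, 0, 3, 0, 1], [1, 3, 1, 2, 1, 3, 1, 2, 1, 3, 1, 2]]

/-- where the words come from -/
def srcs : List ℕ := [0, 512, 514, 1024, 1026, 1536, 1538, 2560, 3072, 3074, 3584, 3586, 5120, 5632, 5634, 7680, 8192, 8194, 8196, 8198, 8200, 8202, 8204, 8206, 8208, 8193, 8195, 8197, 8199, 8201, 8203, 8205, 8207, 8209, 8704, 8706, 8708, 8710, 9216, 9218, 9220, 9222]

/-- the coset table -/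
def tab : Tab := ⟨4, 5, 28, .leaf 0x1abf2f6ce37c9cb58dc73986e57e3f9b5b9906adaaa51f3d2a724eb0e46555c21277de91358eba9aac2b2cdb54b424e25912068c08f19dc8734696096152502384c31142408c40⟩

/-- the words of the generators of the subgroup -/
def subW : List (List ℕ) := [[2], [0, 3, 1]]

/-- orbit 0 of the subgroup on the rows: root, search, bitmap (1 rows) -/
def orbRoot0 : ℕ := 0
def orbInstr0 : List ℕ := []
def orbB0 : ℕ := 0x1

/-- orbit 1 of the subgroup on the rows: root, search, bitmap (27 rows) -/
def orbRoot1 : ℕ := 1
def orbInstr1 : List ℕ := [1048585, 18, 1048593, 8, 1048579, 7, 1048601, 27, 1048590, 6, 1048581, 12, 1048600, 16, 0, 1048602, 19, 1048586, 4, 1048589, 21, 0, 0, 0, 1048598, 11, 0, 0, 0, 0, 1048604, 23, 0, 1048591, 0, 0, 0, 0, 0, 0, 0, 0, 0, 0, 0, 0, 0, 1048596]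
def orbB1 : ℕ := 0xffffffe


end Cfsg.Agent.Lib.Helper6.U33PTC
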