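import Cfsg.Agent.Lib.Helper6.SimpInst
import Cfsg.Agent.Lib.Helper6.U33PTCData

/-! # U33P: data of the certificate of simplicity and order (generated) -/

set_option autoImplicit false
set_option maxRecDepth 1000000

namespace Cfsg.Agent.Lib.Helper6.U33PSimp

open Cfsg.Agent.Lib.Helper6.TC Cfsg.Agent.Lib.Helper6.Simp Cfsg.Agent.Lib.Helper6.NatArr Cfsg.Agent.Lib.Helper6.U33PTC

/-- level 0: base point 0, orbit of length 28 -/
def lvl0 : Level where
  b := 0
  ws := [[0], [1], [2], [3]]
  instrs := [2, 1048581, 11, 1048597, 13, 1048582, 3, 2097159, 14, 1048598, 12, 0, 3145755, 1048600, 18, 1048602,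
    2097171, 1048586, 17, 1048601, 0, 2097160, 4, 1048585, 16, 0, 0, 0, 0, 0, 3145748, 15, 1048599,
    28]
  B := 0xfffffff
  m := 28

theorem lvl0_ok : LevelOK tab [] lvl0 :=
  ⟨by decide +kernel, by decide +kernel, by decide +kernel, by decide +kernel, by decide +kernel⟩

/-- level 1: base point 1, orbit of length 27 -/
def lvl1 : Level where
  b := 1
  ws := [[2], [0, 3, 1]]
  instrs := [1048585, 18, 1048593, 8, 1048579, 7, 1048601, 27, 1048590, 6, 1048581, 12, 1048600, 16, 0, 1048602,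
    19, 1048586, 4, 1048589, 21, 0, 0, 0, 1048598, 11, 0, 0, 0, 0, 1048604, 23, 0, 1048591, 0, 0, 0,
    0, 0, 0, 0, 0, 0, 0, 0, 0, 0, 1048596]
  B := 0xffffffe
  m := 27

theorem lvl1_ok : LevelOK tab [0] lvl1 :=
  ⟨by decide +kernel, by decide +kernel, by decide +kernel, by decide +kernel, by decide +kernel⟩

/-- level 2: base point 2, orbit of length 8 -/
def lvl2 : Level where
  b := 2
  ws := [[0, 3, 1, 2, 0, 3, 1, 2, 0, 3, 1, 0, 3, 1, 0, 3, 1]]
  instrs := [12, 4, 16, 7, 5, 10, 24]
  B := 0x808a5c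
  m := 8

theorem lvl2_ok : LevelOK tab [1, 0] lvl2 :=
  ⟨by decide +kernel, by decide +kernel, by decide +kernel, by decide +kernel, by decide +kernel⟩

/-- the chain -/
def levels : List Level := [lvl0, lvl1, lvl2]

theorem chain_ok : ChainOK tab [] levels :=
  ChainOK.cons lvl0_ok (
  ChainOK.cons lvl1_ok (
  ChainOK.cons lvl2_ok (
  ChainOK.nil _)))

theorem chain_prod : chainProd levels = 6048 := by decide +kernel

/-- the words of the certificate of generation by elements of order 7 -/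
def us : List (List ℕ) := [[1, 0, 1, 2, 3], [0, 1, 0, 2, 3], [0, 1, 2, 3, 1], [0, 1, 2, 3, 1]]

theorem chk_pow0 : tab.minOK (us.getD 0 []) 7 = true ∧ tab.minOK (0 :: us.getD 0 []) 7 = true :=
  ⟨by decide +kernel, by decide +kernel⟩

theorem chk_pow1 : tab.minOK (us.getD 1 []) 7 = true ∧ tab.minOK (1 :: us.getD 1 []) 7 = true :=
  ⟨by decide +kernel, by decide +kernel⟩

theorem chk_pow2 : tab.minOK (us.getD 2 []) 7 = true ∧ tab.minOK (2 :: us.getD 2 []) 7 = true :=
  ⟨by decide +kernel, by decide +kernel⟩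

theorem chk_pow3 : tab.minOK (us.getD 3 []) 7 = true ∧ tab.minOK (3 :: us.getD 3 []) 7 = true :=
  ⟨by decide +kernel, by decide +kernel⟩

theorem chk_pow : ∀ x, x < 4 → tab.minOK (us.getD x []) 7 = true ∧
    tab.minOK (x :: us.getD x []) 7 = true := by
  intro x hx
  interval_cases x
  · exact chk_pow0
  · exact chk_pow1
  · exact chk_pow2
  · exact chk_pow3

end Cfsg.Agent.Lib.Helper6.U33PSimp
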