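import Cfsg.Agent.Lib.Helper6.TCCheck

/-! # Coset enumeration data for U33P: the trace (generated) -/

set_option autoImplicit false
set_option maxRecDepth 1000000
set_option maxHeartbeats 4000000

namespace Cfsg.Agent.Lib.Helper6.U33PTC

open Cfsg.Agent.Lib.Helper6.TC

/-- the operations of the enumeration -/
def trace : List (List ℕ) := [[0, 67108864, 201326592, 67108868, 8, 134217736, 12, 67108876, 134217740, 16, 134217744, 67108884, 134217748, 201326616, 67108892, 134217756, 134217760, 67108900, 201326628, 67108904, 134217768, 67108920, 134217788, 67108928, 67108932, 201326676, 88, 274945015809, 1099712954369, 825103482881, 825439027201, 550091358217, 550091358221, 825304809485, 550091358225, 134217728, 274877906946, 550158467073, 825371918337, 1100518260737, 1100853805057, 825371918341, 1100518260741, 1652153122821, 825439027225, 2200365432909, 277562261549, 825506136137, 1374590861369, 825170591789, 1100585369645, 32, 277293826081, 825103482997, 1650542510197, 3300950802550, 119, 201326711, 1375597494333, 825371918417, 1377275215953, 549957140573, 825439027253, 2476719734837, 550091358309, 275414777949, 2201506283613, 825908789321]]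

end Cfsg.Agent.Lib.Helper6.U33PTC
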