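import Cfsg.Agent.Lib.Helper6.U33SUMat
import Cfsg.Agent.Lib.Helper6.FinMatL
import Cfsg.Agent.Lib.Helper6.U33Simple
import Cfsg.Agent.Lib.Helper6.CoxLift
import Cfsg.Agent.Lib.Helper8.SUTransport
import Cfsg.Agent.S0280

/-! # The presented group `P4` is the group `PSU₃(3)`

The presented group maps to the special unitary group of degree three over the field with nine
elements; the homomorphism to the quotient by the centre is injective since `P4` is simple, and
bijective since both groups have 6048 elements. -/

set_option autoImplicit false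
set_option linter.constructorNameAsVariable false

namespace Cfsg.Agent.Lib.Helper6.U33SU

open Cfsg Cfsg.Agent.Lib.Helper6.ChevMatL Cfsg.Agent.Lib.Helper6.FinMatL Cfsg.Agent.Lib.Helper6.TC
  Cfsg.Agent.Lib.Helper6.U33Sub Cfsg.Agent.Lib.Helper6.U33SUMat Cfsg.Spor
  Cfsg.Agent.Lib.Helper6.Simp Cfsg.Agent.Lib.Helper8

/-- the matrices -/
abbrev M3 : Type := Matrix (Fin 3) (Fin 3) F9

/-- the special unitary group -/
abbrev S : Type := ↥(SU 3 F9 3)

theorem genLt_mem (x : ℕ) : genLt x ∈ genTbl := by
  unfold genLt
  by_cases h : x < genTbl.length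
  · rw [List.getD_eq_getElem _ _ h]
    exact List.getElem_mem h
  · rw [List.getD_eq_default _ _ (Nat.le_of_not_gt h)]
    simp [genTbl]

/-- the matrix of a generator -/
def gMt (x : ℕ) : M3 := toFt 3 (genLt x)

theorem gMt_det (x : ℕ) : (gMt x).det = 1 := by
  rw [Matrix.det_fin_three]
  exact chk_det _ (genLt_mem x)

theorem gMt_unit (x : ℕ) (j k : Fin 3) :
    ∑ i, gMt x i j * (gMt x i k) ^ 3 = if j = k then 1 else 0 := by
  rw [Fin.sum_univ_three]
  exact chk_unit _ (genLt_mem x) j k

/-- the matrix of a generator, in the special linear group -/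
def gSL (x : ℕ) : Matrix.SpecialLinearGroup (Fin 3) F9 := ⟨gMt x, gMt_det x⟩

theorem gSL_mem (x : ℕ) : gSL x ∈ SU 3 F9 3 := by
  intro u v
  exact SUTransport.herm_preserve chk_hadd (gMt x) (gMt_unit x) u v

/-- the matrix of a generator, in the special unitary group -/
def gS (x : ℕ) : S := ⟨gSL x, gSL_mem x⟩

/-- the matrix of an element of the special unitary group -/
def toM : S →* M3 := (slToMat 3 F9).comp (SU 3 F9 3).subtype

theorem toM_injective : Function.Injective toM := by
  intro x y h
  exact Subtype.ext (Subtype.ext h)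

theorem toM_gS (x : ℕ) : toM (gS x) = gMt x := rfl

theorem genLt_cols (w : List ℕ) : ∀ Y ∈ w.map genLt, colsOK 3 Y := by
  intro Y hY
  obtain ⟨x, _, rfl⟩ := List.mem_map.1 hY
  exact chk_gcols _ (genLt_mem x)

theorem prod_gMt (w : List ℕ) : (w.map gMt).prod = toF 3 (prodT 3 (w.map genLt)) := by
  have h := toF_prodT 3 (w.map genLt) (genLt_cols w)
  rw [List.map_map] at h
  exact h.symm

theorem toM_prod (w : List ℕ) : toM (w.map gS).prod = toF 3 (prodT 3 (w.map genLt)) := by
  rw [map_list_prod, List.map_map, ← prod_gMt]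
  rfl

theorem prod_eq_one {w : List ℕ} (h : prodT 3 (w.map genLt) = idL 3) : (w.map gS).prod = 1 := by
  apply toM_injective
  rw [toM_prod, h, ← toF_one, map_one]

theorem gS_mul_self (x : ℕ) : gS x * gS x = 1 := by
  have h := prod_eq_one (w := [x, x]) (chk_ginv _ (genLt_mem x))
  simpa using h

/-! ### the homomorphism -/

/-- the images of the generators -/
def fgen (a : P4.Gen) : S := gS (U33PTC.code a)

theorem fgen_gen {x : ℕ} (hx : x < 4) : fgen (U33PTC.gen x) = gS x := by
  interval_cases x <;> rfl

theorem word_eq_one {w : List ℕ}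
    (hw : w ∈ coxWordsL P4.edges U33PTC.gen 4 ++ U33PTC.extraWords) :
    (w.map fun x => fgen (U33PTC.gen x)).prod = 1 := by
  have h1 := List.all_eq_true.1 chk_rels w hw
  have h2 := List.all_eq_true.1 chk_rels_lt w hw
  have h3 : w.map (fun x => fgen (U33PTC.gen x)) = w.map gS :=
    List.map_congr_left fun x hx => fgen_gen (of_decide_eq_true (List.all_eq_true.1 h2 x hx))
  rw [h3]
  exact prod_eq_one (of_decide_eq_true h1)

theorem lift_rel : ∀ r ∈ coxRelators P4.edges ∪ {r | r ∈ P4.extra}, FreeGroup.lift fgen r = 1 :=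
  CoxLift.lift_eq_one_of_words U33PTC.gen U33PTC.code 4 U33PTC.extraWords
    (by intro a; cases a <;> exact ⟨by decide, rfl⟩) fgen
    (U33PTC.extra_iff fgen fun a => gS_mul_self _) fun _ hw => word_eq_one hw

/-- the homomorphism from the presented group to the special unitary group -/
noncomputable def ψ : P4 →* S := PresentedGroup.toGroup lift_rel

theorem ψ_of (a : P4.Gen) : ψ (PresentedGroup.of a) = fgen a := PresentedGroup.toGroup.of _

/-- the homomorphism from the presented group to the projective special unitary group -/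
noncomputable def ψ' : P4 →* PSU 3 F9 3 :=
  (QuotientGroup.mk' (Subgroup.center S)).comp ψ

theorem not_comm : gS 0 * gS 1 ≠ gS 1 * gS 0 := by
  intro h
  have h1 := congrArg toM h
  have e1 := toM_prod [0, 1]
  have e2 := toM_prod [1, 0]
  simp only [List.map_cons, List.map_nil, List.prod_cons, List.prod_nil, mul_one] at e1 e2
  rw [e1, e2] at h1
  obtain ⟨i, j, hij⟩ := chk_nc
  exact hij (congrFun (congrFun h1 i) j)

theorem ψ'_injective : Function.Injective ψ' := by
  have hs := U33Simple.main.1
  rcases (MonoidHom.normal_ker ψ').eq_bot_or_eq_top with h | h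
  · exact (MonoidHom.ker_eq_bot_iff ψ').1 h
  · exfalso
    have h1 : ψ' (PresentedGroup.of P4.Gen.a) = 1 := by
      have : PresentedGroup.of P4.Gen.a ∈ ψ'.ker := by
        rw [h]
        trivial
      exact this
    have h2 : ψ (PresentedGroup.of P4.Gen.a) ∈ Subgroup.center S :=
      (QuotientGroup.eq_one_iff _).1 h1
    rw [ψ_of, Subgroup.mem_center_iff] at h2
    exact not_comm (h2 (gS 1)).symm

theorem card_PSU : Nat.card (PSU 3 F9 3) = 6048 := by
  have h := Cfsg.Agent.S0280.result (F := F9) (q := 3) (by rw [F9.card]; norm_num) 3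
    (by norm_num)
  have h1 : Nat.gcd 3 (3 + 1) = 1 := by decide
  have h2 : ∏ i ∈ Finset.range 3, (if Even i then 3 ^ (i + 1) + 1 else 3 ^ (i + 1) - 1) = 896 := by
    decide
  rw [h1, h2] at h
  norm_num at h
  omega

/-- **the presented group is the projective special unitary group** -/
noncomputable def isoP : P4 ≃* PSU 3 F9 3 := by
  have hf : Finite P4 := U33Simple.ub.1
  have hf' : Finite (PSU 3 F9 3) := Nat.finite_of_card_ne_zero (by rw [card_PSU]; norm_num)
  exact MulEquiv.ofBijective ψ' ((Nat.bijective_iff_injective_and_card ψ').2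
    ⟨ψ'_injective, by rw [U33Simple.main.2, card_PSU]⟩)

end Cfsg.Agent.Lib.Helper6.U33SU
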