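import Cfsg.Agent.Lib.Helper8.F9
import Cfsg.Agent.Lib.Helper6.ChevMatL
import Cfsg.Agent.Lib.Helper6.U33PTCChk2

/-! # Four unitary matrices of degree three over the field with nine elements that satisfy the
relators of the presentation `P4` of `U₃(3)` (generated; the matrices were found by a search).
The matrices are given by the lists of their columns. -/

set_option autoImplicit false
set_option maxRecDepth 1000000
set_option maxHeartbeats 4000000

namespace Cfsg.Agent.Lib.Helper6.U33SUMat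

open Cfsg.Agent.Lib.Helper6.ChevMatL Cfsg.Agent.Lib.Helper6.TC Cfsg.Agent.Lib.Helper6.U33Sub
  Cfsg.Agent.Lib.Helper8

/-- the matrix of the generator a -/
def gA : List (List F9) :=
  [[⟨1, 0⟩, ⟨0, 0⟩, ⟨0, 0⟩],
    [⟨0, 0⟩, ⟨2, 0⟩, ⟨0, 0⟩],
    [⟨0, 0⟩, ⟨0, 0⟩, ⟨2, 0⟩]]

/-- the matrix of the generator b -/
def gB : List (List F9) :=
  [[⟨0, 0⟩, ⟨0, 0⟩, ⟨1, 0⟩],
    [⟨0, 0⟩, ⟨2, 0⟩, ⟨0, 0⟩],
    [⟨1, 0⟩, ⟨0, 0⟩, ⟨0, 0⟩]]

/-- the matrix of the generator c -/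
def gC : List (List F9) :=
  [[⟨2, 0⟩, ⟨0, 0⟩, ⟨0, 0⟩],
    [⟨0, 0⟩, ⟨0, 0⟩, ⟨1, 0⟩],
    [⟨0, 0⟩, ⟨1, 0⟩, ⟨0, 0⟩]]

/-- the matrix of the generator d -/
def gD : List (List F9) :=
  [[⟨1, 0⟩, ⟨1, 1⟩, ⟨0, 2⟩],
    [⟨1, 2⟩, ⟨0, 0⟩, ⟨1, 1⟩],
    [⟨0, 1⟩, ⟨1, 2⟩, ⟨1, 0⟩]]

/-- the table of the matrices of the generators -/
def genTbl : List (List (List F9)) := [gA, gB, gC, gD]

/-- the matrices of the generators -/
def genLt (x : ℕ) : List (List F9) := genTbl.getD x gD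

/-- the entry in row `i` and column `j` of a matrix given by its columns -/
def ent (Y : List (List F9)) (i j : ℕ) : F9 := entry Y j i

/-- the determinant of a matrix of degree three given by its columns -/
def det3 (Y : List (List F9)) : F9 :=
  ent Y 0 0 * ent Y 1 1 * ent Y 2 2 - ent Y 0 0 * ent Y 1 2 * ent Y 2 1
    - ent Y 0 1 * ent Y 1 0 * ent Y 2 2 + ent Y 0 1 * ent Y 1 2 * ent Y 2 0
    + ent Y 0 2 * ent Y 1 0 * ent Y 2 1 - ent Y 0 2 * ent Y 1 1 * ent Y 2 0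

theorem chk_hadd : ∀ a b : F9, (a + b) ^ 3 = a ^ 3 + b ^ 3 := by decide +kernel

theorem chk_gcols : ∀ Y ∈ genTbl, colsOK 3 Y := by decide +kernel

theorem chk_det : ∀ Y ∈ genTbl, det3 Y = 1 := by decide +kernel

theorem chk_unit : ∀ Y ∈ genTbl, ∀ j k : Fin 3,
    ent Y 0 j.val * ent Y 0 k.val ^ 3 + ent Y 1 j.val * ent Y 1 k.val ^ 3
      + ent Y 2 j.val * ent Y 2 k.val ^ 3 = if j = k then 1 else 0 := by decide +kernel

theorem chk_ginv : ∀ Y ∈ genTbl, prodT 3 [Y, Y] = idL 3 := by decide +kernel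

theorem chk_rels : (coxWordsL P4.edges U33PTC.gen 4 ++ U33PTC.extraWords).all
    (fun w => decide (prodT 3 (w.map genLt) = idL 3)) = true := by decide +kernel

theorem chk_rels_lt : (coxWordsL P4.edges U33PTC.gen 4 ++ U33PTC.extraWords).all
    (fun w => w.all fun x => decide (x < 4)) = true := by decide +kernel

theorem chk_nc : ∃ i j : Fin 3, entry (prodT 3 [genLt 0, genLt 1]) i.val j.val ≠
    entry (prodT 3 [genLt 1, genLt 0]) i.val j.val := by decide +kernel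

end Cfsg.Agent.Lib.Helper6.U33SUMat
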