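import Cfsg.Agent.Lib.Helper6.SimpUB

/-! # A presentation of the unitary group U3(5) on five involutions, and its sub-presentation of the alternating group of degree seven -/

set_option autoImplicit false
set_option linter.unusedSimpArgs false

namespace Cfsg.Agent.Lib.Helper6.U35Sub

open Cfsg.Spor Cfsg.Agent.Lib.Helper6.Simp

namespace T5

/-- the generators a, b, c, d, t -/
inductive Gen
  | a
  | b
  | c
  | d
  | t
  deriving DecidableEq

abbrev a : FreeGroup Gen := FreeGroup.of Gen.a
abbrev b : FreeGroup Gen := FreeGroup.of Gen.b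
abbrev c : FreeGroup Gen := FreeGroup.of Gen.c
abbrev d : FreeGroup Gen := FreeGroup.of Gen.d
abbrev t : FreeGroup Gen := FreeGroup.of Gen.t

/-- the Coxeter graph -/
def edges : List (Gen × ℕ × Gen) :=
  [(.a, 3, .b), (.b, 4, .c), (.b, 3, .d), (.c, 3, .d), (.a, 3, .t), (.c, 3, .t)]

/-- the further relators -/
def extra : List (FreeGroup Gen) := [  (a * b * c) ^ 3,
  (b * c * d) ^ 5,
  (b * c * t) ^ 3]

end T5

/-- the presented group -/
abbrev T5 : Type := CoxPresented T5.Gen T5.edges T5.extra

namespace T4

/-- the generators a, b, c, d -/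
inductive Gen
  | a
  | b
  | c
  | d
  deriving DecidableEq

abbrev a : FreeGroup Gen := FreeGroup.of Gen.a
abbrev b : FreeGroup Gen := FreeGroup.of Gen.b
abbrev c : FreeGroup Gen := FreeGroup.of Gen.c
abbrev d : FreeGroup Gen := FreeGroup.of Gen.d

/-- the Coxeter graph -/
def edges : List (Gen × ℕ × Gen) :=
  [(.a, 3, .b), (.b, 4, .c), (.b, 3, .d), (.c, 3, .d)]

/-- the further relators -/
def extra : List (FreeGroup Gen) := [  (a * b * c) ^ 3,
  (b * c * d) ^ 5]

/-- the inclusion of the generators -/
def ι : Gen → T5.Gen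
  | .a => .a
  | .b => .b
  | .c => .c
  | .d => .d

end T4

/-- the group of the sub-presentation on a, b, c, d -/
abbrev T4 : Type := CoxPresented T4.Gen T4.edges T4.extra

/-- `T4` maps to `T5` -/
def subT4 : SubPres T5.edges T5.extra T4.edges T4.extra where
  ι := T4.ι
  hnode := by decide
  hlabel := by decide
  hextra := by
    intro r hr
    simp only [T4.extra, List.mem_cons, List.not_mem_nil, or_false] at hr
    rcases hr with rfl | rfl <;>
      simp only [map_mul, map_inv, map_pow, FreeGroup.map.of, T4.ι, T5.extra, List.mem_cons,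
        true_or, or_true]

theorem rangeT4 : (Set.range fun y => FreeGroup.of (subT4.ι y)) =
    ({T5.a, T5.b, T5.c, T5.d} : Set (FreeGroup T5.Gen)) := by
  ext z
  constructor
  · rintro ⟨y, rfl⟩
    cases y <;> simp [subT4, T4.ι]
  · intro hz
    simp only [Set.mem_insert_iff, Set.mem_singleton_iff] at hz
    rcases hz with rfl | rfl | rfl | rfl
    · exact ⟨.a, rfl⟩
    · exact ⟨.b, rfl⟩
    · exact ⟨.c, rfl⟩
    · exact ⟨.d, rfl⟩

end Cfsg.Agent.Lib.Helper6.U35Sub
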