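import Cfsg.Agent.Lib.Helper6.U35HSimp
import Cfsg.Agent.Lib.Helper6.U35HTC
import Cfsg.Agent.Lib.Helper6.U35TTC
import Cfsg.Agent.Lib.Helper6.U35T4TC

/-! # The presentation T5 (that is `U3(5)`) is simple of order 126000 -/

set_option autoImplicit false

namespace Cfsg.Agent.Lib.Helper6.U35Simple

open Cfsg.Spor Cfsg.Agent.Lib.Helper6.Simp Cfsg.Agent.Lib.Helper6.U35Sub Cfsg.Agent.Lib.Helper6.TC
  Cfsg.Agent.Lib.Helper6.NatArr

/-- the upper bound for the order, over the sub-presentation of the alternating group -/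
theorem ub : Finite T5 ∧ Nat.card T5 ≤ 126000 := by
  have h3 := finite_card_of_index_empty U35T4TC.main (by norm_num)
  have h0 := subT4.finite_card_le U35TTC.S rangeT4.symm U35TTC.main (by norm_num) h3.1
    (le_of_eq h3.2)
  exact ⟨h0.1, h0.2.trans (by norm_num)⟩

theorem chk_cover : allBelow 175 (fun b => Nat.beq b 0 ||
    (btest U35HTC.orbB1 b || (btest U35HTC.orbB2 b || btest U35HTC.orbB3 b))) = true := by
  decide +kernel

theorem chk_disj : Nat.land U35HTC.orbB1 U35HTC.orbB2 = 0 ∧ Nat.land U35HTC.orbB1 U35HTC.orbB3 = 0 ∧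
    Nat.land U35HTC.orbB2 U35HTC.orbB1 = 0 ∧ Nat.land U35HTC.orbB2 U35HTC.orbB3 = 0 ∧
    Nat.land U35HTC.orbB3 U35HTC.orbB1 = 0 ∧ Nat.land U35HTC.orbB3 U35HTC.orbB2 = 0 := by
  decide +kernel

theorem chk_o : U35HTC.orbB1.testBit 0 = false ∧ U35HTC.orbB2.testBit 0 = false ∧
    U35HTC.orbB3.testBit 0 = false := by decide +kernel

/-- **The presentation T5 is simple of order 126000** -/
theorem main : IsSimpleGroup T5 ∧ Nat.card T5 = 126000 := by
  refine simple_card U35HTC.data ub U35HSimp.levels U35HSimp.chain_ok U35HSimp.chain_prod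
    (r := 3) ![U35HTC.orb1, U35HTC.orb2, U35HTC.orb3] ![12, 90, 72] ?_ ?_ ?_ ?_ ?_ 7 ?_ U35HSimp.us
    U35HSimp.chk_pow ?_
  · intro i
    fin_cases i
    · exact U35HTC.chk_cnt1
    · exact U35HTC.chk_cnt2
    · exact U35HTC.chk_cnt3
  · intro b hb
    have h := allBelow_spec _ _ chk_cover b hb
    simp only [Bool.or_eq_true, btest_eq] at h
    rcases h with h | h | h | h
    · exact Or.inl (Nat.eq_of_beq_eq_true h)
    · exact Or.inr ⟨0, h⟩
    · exact Or.inr ⟨1, h⟩
    · exact Or.inr ⟨2, h⟩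
  · intro i j hij
    fin_cases i <;> fin_cases j
    · exact absurd rfl hij
    · exact chk_disj.1
    · exact chk_disj.2.1
    · exact chk_disj.2.2.1
    · exact absurd rfl hij
    · exact chk_disj.2.2.2.1
    · exact chk_disj.2.2.2.2.1
    · exact chk_disj.2.2.2.2.2
    · exact absurd rfl hij
  · intro i
    fin_cases i
    · exact chk_o.1
    · exact chk_o.2.1
    · exact chk_o.2.2
  · show ∀ I : Finset (Fin 3), I.Nonempty → (1 + ∑ i ∈ I, ![12, 90, 72] i) ∣ 175 →
      1 + ∑ i ∈ I, ![12, 90, 72] i = 175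
    decide
  · show (126000 / 175).Coprime 7
    norm_num
  · show 1 < 175
    norm_num

end Cfsg.Agent.Lib.Helper6.U35Simple
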