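import Cfsg.Agent.Lib.Helper6.U35CoRel
import Cfsg.Agent.Lib.Helper6.LeechCo3Sub
import Cfsg.Agent.Lib.Helper6.LeechSimpleHS
import Cfsg.Agent.Lib.Helper6.U35Unit

/-!
# The 352 vectors attached to a pair of vectors of type 3 with inner product `-32`, and their
stabilisers `PSU(3, 5)`

For `v, w` of norm 48 with inner product `-32` the minimal vectors `x` with inner products 16 with `v`
and `-24` with `w` are the negatives of the 352 vectors of the suborbit of `(v, -(v + w))`. The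
presented group `T5` maps to the stabiliser of the three reference vectors; the map is injective
since `T5` is simple, and bijective since the orders agree (`44352000 / 352 = 126000`).
-/

set_option autoImplicit false
set_option linter.constructorNameAsVariable false

namespace Cfsg.Agent.Lib.Helper6.Leech

open Cfsg MulAction
open Cfsg.Agent.Lib.Helper6.Golay Cfsg.Agent.Lib.Helper6.U35Sub Cfsg.Agent.Lib.Helper6.TC
  Cfsg.Agent.Lib.Helper6.T3Gen Cfsg.Spor

/-- an automorphism acts on lists as a word -/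
def ActsL (t : Co0) (w : List Prim) : Prop :=
  ∀ (x : List ℤ) (hx : vecOf x ∈ leechLattice),
    ((t.1 ⟨vecOf x, hx⟩ : leechLattice) : GolayPt → ℤ) = vecOf (actW w x)

theorem ActsL.one : ActsL 1 [] := fun _ _ => rfl

theorem ActsL.mul {t1 t2 : Co0} {w1 w2 : List Prim} (h1 : ActsL t1 w1) (h2 : ActsL t2 w2) :
    ActsL (t2 * t1) (w1 ++ w2) := by
  intro x hx
  have hx' : vecOf (actW w1 x) ∈ leechLattice := by rw [← h1 x hx]; exact (t1.1 ⟨vecOf x, hx⟩).2
  have e : t1.1 ⟨vecOf x, hx⟩ = ⟨vecOf (actW w1 x), hx'⟩ := Subtype.ext (h1 x hx)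
  show ((t2.1 (t1.1 ⟨vecOf x, hx⟩) : leechLattice) : GolayPt → ℤ) = _
  rw [e, h2 _ hx', actW, actW, actW, List.foldl_append]

theorem ActsL.eq_one {t : Co0} {w : List Prim} (h : ActsL t w)
    (h2 : ∀ i < 24, actW w (neg8L i) = neg8L i) : t = 1 := by
  apply co0_eq_one_of_v8
  intro p
  have hp := h2 (idx p) (idx_lt p)
  have hm : vecOf (neg8L (idx p)) ∈ leechLattice := by rw [vecOf_neg8L]; exact (-(v8 p)).2
  have e0 : (⟨vecOf (neg8L (idx p)), hm⟩ : leechLattice) = -(v8 p) := Subtype.ext (vecOf_neg8L p)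
  have e1 : t.1 ⟨vecOf (neg8L (idx p)), hm⟩ = ⟨vecOf (neg8L (idx p)), hm⟩ := by
    apply Subtype.ext
    rw [h _ hm, hp]
  rw [e0, co0_neg, neg_inj] at e1
  exact e1

theorem ActsL.fix {t : Co0} {w : List Prim} (h : ActsL t w) {r : List ℤ}
    (hr : vecOf (actW w r) = vecOf r) (hm : vecOf r ∈ leechLattice) :
    t.1 ⟨vecOf r, hm⟩ = ⟨vecOf r, hm⟩ := by
  apply Subtype.ext
  rw [h _ hm, hr]

/-! ### the 352 vectors -/

theorem u5_dot_neg_right (x y : GolayPt → ℤ) : dotInt x (-y) = -dotInt x y := by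
  simp [dotInt, Finset.sum_neg_distrib]

theorem u5_dot_neg_left (x y : GolayPt → ℤ) : dotInt (-x) y = -dotInt x y := by
  simp [dotInt, Finset.sum_neg_distrib]

theorem u5_dot_add_left (x y z : GolayPt → ℤ) : dotInt (x + y) z = dotInt x z + dotInt y z := by
  simp [dotInt, add_mul, Finset.sum_add_distrib]

theorem u5_dot_add_right (x y z : GolayPt → ℤ) : dotInt x (y + z) = dotInt x y + dotInt x z := by
  simp [dotInt, mul_add, Finset.sum_add_distrib]

theorem u5_norm_neg (x : GolayPt → ℤ) : sqNorm (-x) = sqNorm x := by simp [sqNorm]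

/-- the minimal vectors with inner products 16 and `-24` with a pair of vectors -/
def hs352 (v w : leechLattice) : Set leechLattice :=
  {x | sqNorm (x : GolayPt → ℤ) = 32 ∧ dotInt (v : GolayPt → ℤ) (x : GolayPt → ℤ) = 16 ∧
    dotInt (w : GolayPt → ℤ) (x : GolayPt → ℤ) = -24}

/-- **The 352 vectors, and the transitivity of the stabiliser of the pair.** -/
theorem hs352_main (v w : leechLattice) (hv : sqNorm (v : GolayPt → ℤ) = 48)
    (hw : sqNorm (w : GolayPt → ℤ) = 48)
    (hvw : dotInt (v : GolayPt → ℤ) (w : GolayPt → ℤ) = -32) :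
    (hs352 v w).ncard = 352 ∧ ∀ x ∈ hs352 v w, ∀ x' ∈ hs352 v w,
      ∃ g : Co0, g • v = v ∧ g • w = w ∧ g • x = x' := by
  obtain ⟨m, hm⟩ : ∃ m : leechLattice, m = -(v + w) := ⟨_, rfl⟩
  have hmc : (m : GolayPt → ℤ) = -((v : GolayPt → ℤ) + (w : GolayPt → ℤ)) := by rw [hm]; rfl
  have hmn : sqNorm (m : GolayPt → ℤ) = 32 := by
    rw [hmc, u5_norm_neg, sqNorm_add, hv, hw, hvw]; norm_num
  have hvm : dotInt (v : GolayPt → ℤ) (m : GolayPt → ℤ) = -16 := by
    rw [hmc, u5_dot_neg_right, u5_dot_add_right, ← sqNorm_eq_dot, hv, hvw]; norm_num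
  obtain ⟨hcnt, -, htr⟩ := co3sub_main v m hv hmn hvm
  have hc := hcnt (-8) 352 (Or.inl ⟨rfl, rfl⟩)
  set T : Set leechLattice := {y : leechLattice | (sqNorm (y : GolayPt → ℤ) = 32 ∧
        dotInt (v : GolayPt → ℤ) (y : GolayPt → ℤ) = -16) ∧
        dotInt (m : GolayPt → ℤ) (y : GolayPt → ℤ) = -8} with hT
  have hneg : ∀ x : leechLattice, x ∈ hs352 v w ↔ -x ∈ T := by
    intro x
    have e1 : ((-x : leechLattice) : GolayPt → ℤ) = -(x : GolayPt → ℤ) := rfl
    simp only [hs352, hT, Set.mem_ofPred_eq]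
    rw [e1, u5_norm_neg, u5_dot_neg_right, u5_dot_neg_right, hmc, u5_dot_neg_left, u5_dot_add_left]
    constructor
    · rintro ⟨h1, h2, h3⟩
      exact ⟨⟨h1, by omega⟩, by omega⟩
    · rintro ⟨⟨h1, h2⟩, h3⟩
      exact ⟨h1, by omega, by omega⟩
  refine ⟨?_, ?_⟩
  · have e : hs352 v w = Neg.neg '' T := by
      ext x
      rw [hneg x, Set.mem_image]
      constructor
      · intro h
        exact ⟨-x, h, neg_neg x⟩
      · rintro ⟨y, hy, rfl⟩
        rw [neg_neg]
        exact hy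
    rw [e, Set.ncard_image_of_injective _ neg_injective]
    exact hc
  · intro x hx x' hx'
    have hy := (hneg x).1 hx
    have hy' := (hneg x').1 hx'
    have hne : -x ≠ m := by
      intro h
      have h1 := hy.2
      rw [h, ← sqNorm_eq_dot, hmn] at h1
      norm_num at h1
    obtain ⟨g, h1, h2, h3⟩ := htr (-x) (-x') hy.1 hy'.1 hne (hy.2.trans hy'.2.symm)
    refine ⟨g, h1, ?_, ?_⟩
    · have ew : w = -m + -v := by rw [hm]; abel
      have h1' : g.1 v = v := h1
      have h2' : g.1 m = m := h2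
      show g.1 w = w
      conv_lhs => rw [ew]
      rw [co0_add, co0_neg, co0_neg, h1', h2']
      exact ew.symm
    · have h3' : g.1 (-x) = -x' := h3
      rw [co0_neg, neg_inj] at h3'
      exact h3'

/-! ### the images of the generators -/

theorem u5Good (x : ℕ) : GoodWord [u0L, w1L, xhL] (u5Word x) :=
  goodWord_getD (goodWord_of_checkGens u5Perms_rep u5Tbl_ok) x

/-- the automorphism of a generator -/
noncomputable def gCo5 (x : ℕ) : Co0 := Classical.choose (actW_sound (u5Word x) (u5Good x).1)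

theorem gCo5_acts (x : ℕ) : ActsL (gCo5 x) (u5Word x) :=
  Classical.choose_spec (actW_sound (u5Word x) (u5Good x).1)

theorem prod_acts5 (w : List ℕ) : ActsL ((w.map gCo5).prod) (bigWord5 w) := by
  induction w with
  | nil => exact ActsL.one
  | cons a w ih =>
    rw [List.map_cons, List.prod_cons]
    exact ActsL.mul ih (gCo5_acts a)

theorem xhL_mem : vecOf xhL ∈ leechLattice := mem_leechLattice.mpr (inLeechL_sound _ xhL_ok.1)

/-- the third reference vector -/
def xh' : leechLattice := ⟨vecOf xhL, xhL_mem⟩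

/-- the stabiliser of the three reference vectors -/
def u5Ref : Subgroup Co0 := stabilizer Co0 u0 ⊓ stabilizer Co0 w1' ⊓ stabilizer Co0 xh'

theorem gCo5_mem (x : ℕ) : gCo5 x ∈ u5Ref := by
  refine Subgroup.mem_inf.mpr ⟨Subgroup.mem_inf.mpr ⟨?_, ?_⟩, ?_⟩
  · exact (co0_stab_iff _ _).mpr ((gCo5_acts x).fix ((u5Good x).2 u0L (by simp)) u0L_mem)
  · exact (co0_stab_iff _ _).mpr ((gCo5_acts x).fix ((u5Good x).2 w1L (by simp)) w1L_mem)
  · exact (co0_stab_iff _ _).mpr ((gCo5_acts x).fix ((u5Good x).2 xhL (by simp)) xhL_mem)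

theorem prod_gCo5_eq_one {w : List ℕ} (hw : w ∈ u5Rels) : (w.map gCo5).prod = 1 := by
  apply (prod_acts5 w).eq_one
  intro i hi
  obtain ⟨k, hk, rfl⟩ := List.getElem_of_mem hw
  have hk' : k < 28 := by rw [← u5Rels_length]; exact hk
  have h := u5_chk_all hk' hi
  rw [chk5, beq_iff_eq, List.getD_eq_getElem _ _ hk] at h
  exact h

/-- the images of the generators -/
noncomputable def fgenCo5 (a : T5.Gen) : ↥u5Ref := ⟨gCo5 (U35TTC.code a), gCo5_mem _⟩

theorem fgenCo5_gen {x : ℕ} (hx : x < 5) : (fgenCo5 (U35TTC.gen x) : Co0) = gCo5 x := by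
  interval_cases x <;> rfl

theorem coe_prod_fgenCo5 {w : List ℕ} (hw : ∀ x ∈ w, x < 5) :
    (((w.map fun x => fgenCo5 (U35TTC.gen x)).prod : ↥u5Ref) : Co0) = (w.map gCo5).prod := by
  induction w with
  | nil => rfl
  | cons x w ih =>
    rw [List.map_cons, List.prod_cons, Subgroup.coe_mul, ih (fun y hy => hw y (List.mem_cons_of_mem _ hy)),
      fgenCo5_gen (hw x List.mem_cons_self), List.map_cons, List.prod_cons]

theorem word_eq_one_co5 {w : List ℕ} (hw : w ∈ u5Rels) :
    (w.map fun x => fgenCo5 (U35TTC.gen x)).prod = 1 := by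
  have h2 := List.all_eq_true.1 U35Mat.chk_rels_lt w hw
  have h4 : ∀ x ∈ w, x < 5 := fun x hx => of_decide_eq_true (List.all_eq_true.1 h2 x hx)
  apply Subtype.ext
  rw [coe_prod_fgenCo5 h4, prod_gCo5_eq_one hw]
  rfl

theorem sq_mem_u5Rels : ∀ x < 5, [x, x] ∈ u5Rels := by decide +kernel

theorem fgenCo5_mul_self (a : T5.Gen) : fgenCo5 a * fgenCo5 a = 1 := by
  have hc : U35TTC.code a < 5 ∧ U35TTC.gen (U35TTC.code a) = a := by
    cases a <;> exact ⟨by decide, rfl⟩
  have h := word_eq_one_co5 (sq_mem_u5Rels _ hc.1)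
  simp only [List.map_cons, List.map_nil, List.prod_cons, List.prod_nil, mul_one] at h
  rw [hc.2] at h
  exact h

theorem lift_rel_co5 : ∀ r ∈ coxRelators T5.edges ∪ {r | r ∈ T5.extra}, FreeGroup.lift fgenCo5 r = 1 :=
  CoxLift.lift_eq_one_of_words U35TTC.gen U35TTC.code 5 U35TTC.extraWords
    (by intro a; cases a <;> exact ⟨by decide, rfl⟩) fgenCo5
    (U35TTC.extra_iff fgenCo5 fgenCo5_mul_self) fun _ hw => word_eq_one_co5 hw

/-- the homomorphism from the presented group to the stabiliser -/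
noncomputable def ψCo5 : T5 →* ↥u5Ref := PresentedGroup.toGroup lift_rel_co5

theorem ψCo5_of (a : T5.Gen) : ψCo5 (PresentedGroup.of a) = fgenCo5 a := PresentedGroup.toGroup.of _

/-- a vector moved by the image of `a` -/
def mvL5 : List ℤ := [4, 0, 0, 0, 4, 0, 0, 0, 0, 0, 0, 0, 0, 0, 0, 0, 0, 0, 0, 0, 0, 0, 0, 0]

theorem mvL5_ok : inLeechL mvL5 = true ∧ movedBy (u5Word 0) mvL5 = true := by decide +kernel

theorem ψCo5_ne_one : ψCo5 (PresentedGroup.of T5.Gen.a) ≠ 1 := by
  intro h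
  rw [ψCo5_of] at h
  have h1 : gCo5 0 = 1 := congrArg Subtype.val h
  have hm : vecOf mvL5 ∈ leechLattice := mem_leechLattice.mpr (inLeechL_sound _ mvL5_ok.1)
  apply moved_of_movedBy (u5Word 0) (gCo5 0) (gCo5_acts 0) mvL5 mvL5_ok.2 ⟨vecOf mvL5, hm⟩ rfl
  rw [h1]
  rfl

theorem ψCo5_injective : Function.Injective ψCo5 := by
  have hs : IsSimpleGroup T5 := U35Simple.main.1
  exact injective_of_simple ψCo5 ψCo5_ne_one

/-! ### the order of the stabiliser -/

theorem xh_mem_hs352 : xh' ∈ hs352 u0 w1' := by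
  refine ⟨?_, ?_, ?_⟩
  · show sqNorm (vecOf xhL) = 32
    rw [sqNorm_vecOf]; exact xhL_ok.2.1
  · show dotInt (vecOf u0L) (vecOf xhL) = 16
    rw [dotInt_vecOf]; exact xhL_ok.2.2.1
  · show dotInt (vecOf w1L) (vecOf xhL) = -24
    rw [dotInt_vecOf]; exact xhL_ok.2.2.2

theorem hs352_smul (g : Co0) (v w x : leechLattice) (hx : x ∈ hs352 v w) :
    g • x ∈ hs352 (g • v) (g • w) :=
  ⟨(co0_norm g x).trans hx.1, (co0_dot g v x).trans hx.2.1, (co0_dot g w x).trans hx.2.2⟩

theorem hs352_ref : (hs352 u0 w1').ncard = 352 ∧ ∀ x ∈ hs352 u0 w1', ∀ x' ∈ hs352 u0 w1',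
    ∃ g : Co0, g • u0 = u0 ∧ g • w1' = w1' ∧ g • x = x' :=
  hs352_main u0 w1' u0L_norm w1L_norm u0_w1_dot

theorem card_u5Ref : Nat.card ↥u5Ref = 126000 := by
  have h := card_eq_orbit_mul_stab hsRef (hs352 u0 w1') xh'
    (fun k hk => by
      have h := hs352_smul k u0 w1' xh' xh_mem_hs352
      have e1 : k • u0 = u0 := hk.1
      have e2 : k • w1' = w1' := hk.2
      rw [e1, e2] at h
      exact h)
    (fun y hy => by
      obtain ⟨g, h1, h2, h3⟩ := hs352_ref.2 xh' xh_mem_hs352 y hy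
      exact ⟨g, ⟨h1, h2⟩, h3⟩)
  rw [card_hsRef, hs352_ref.1] at h
  show Nat.card ↥(hsRef ⊓ stabilizer Co0 xh') = 126000
  omega

theorem ψCo5_bijective : Function.Bijective ψCo5 := by
  have hc : Nat.card T5 = 126000 := U35Simple.main.2
  have : Finite ↥u5Ref := Nat.finite_of_card_ne_zero (by rw [card_u5Ref]; norm_num)
  exact ψCo5_injective.bijective_of_nat_card_le (by rw [card_u5Ref, hc])

/-- the presented group is the stabiliser of the three reference vectors -/
noncomputable def isoCo5 : T5 ≃* ↥u5Ref := MulEquiv.ofBijective ψCo5 ψCo5_bijective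

/-! ### arbitrary triples of vectors -/

/-- conjugate triples of vectors have isomorphic joint stabilisers -/
theorem stab_inf3_equiv5 (g : Co0) (u v w : leechLattice) :
    Nonempty (↥(stabilizer Co0 u ⊓ stabilizer Co0 v ⊓ stabilizer Co0 w) ≃*
      ↥(stabilizer Co0 (g • u) ⊓ stabilizer Co0 (g • v) ⊓ stabilizer Co0 (g • w))) := by
  have e1 : stabilizer Co0 (g • u) ⊓ stabilizer Co0 (g • v) ⊓ stabilizer Co0 (g • w) =
      (stabilizer Co0 u ⊓ stabilizer Co0 v ⊓ stabilizer Co0 w).map (MulAut.conj g).toMonoidHom := by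
    rw [Subgroup.map_inf_eq _ _ _ (MulAut.conj g).injective,
      Subgroup.map_inf_eq _ _ _ (MulAut.conj g).injective, stabilizer_smul_eq_stabilizer_map_conj,
      stabilizer_smul_eq_stabilizer_map_conj, stabilizer_smul_eq_stabilizer_map_conj]
  rw [e1]
  exact ⟨Subgroup.equivMapOfInjective _ _ (MulAut.conj g).injective⟩

/-- **The stabiliser of one of the 352 vectors.** -/
theorem stab_hs_triple_equiv (v w x : leechLattice) (hv : sqNorm (v : GolayPt → ℤ) = 48)
    (hw : sqNorm (w : GolayPt → ℤ) = 48)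
    (hvw : dotInt (v : GolayPt → ℤ) (w : GolayPt → ℤ) = -32) (hx : x ∈ hs352 v w) :
    Nonempty (↥(stabilizer Co0 v ⊓ stabilizer Co0 w ⊓ stabilizer Co0 x) ≃* T5) := by
  obtain ⟨g0, hgv, hgw⟩ := exists_to_u0w1 v w hv hw hvw
  have e1 : g0 • v = u0 := hgv
  have e2 : g0 • w = w1' := hgw
  have hx' := hs352_smul g0 v w x hx
  rw [e1, e2] at hx'
  obtain ⟨h, h1, h2, h3⟩ := hs352_ref.2 (g0 • x) hx' xh' xh_mem_hs352
  obtain ⟨e⟩ := stab_inf3_equiv5 (h * g0) v w x
  rw [mul_smul, mul_smul, mul_smul, e1, e2, h1, h2, h3] at e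
  exact ⟨e.trans isoCo5.symm⟩

end Cfsg.Agent.Lib.Helper6.Leech
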