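import Cfsg.Agent.Lib.Helper6.LeechHSInv
import Cfsg.Agent.Lib.Helper6.U35TTC

/-!
# Five involutions of the automorphism group of the lattice fixing a reference triple of vectors (two
of type 3 and a minimal one), satisfying the relations of a presentation of the unitary group U3(5)
(generated data)
-/

set_option autoImplicit false

namespace Cfsg.Agent.Lib.Helper6.Leech

open Cfsg
open Cfsg.Agent.Lib.Helper6.Golay Cfsg.Agent.Lib.Helper6.U35Sub Cfsg.Agent.Lib.Helper6.TC


def u5Prog : List (ℕ × ℕ) := [(0, 0), (0, 1), (0, 2), (4, 2), (5, 0), (7, 0), (2, 2), (9, 2), (1, 1), (11, 1), (12, 2), (13, 2), (14, 0), (15, 0), (16, 2), (17, 1), (18, 2), (19, 2), (20, 0), (21, 0), (22, 1), (23, 1), (24, 0), (25, 0), (8, 26), (0, 27), (1, 27), (28, 1), (2, 27), (9, 27), (31, 2), (10, 0), (34, 2), (35, 1), (36, 1), (37, 2), (38, 2), (39, 2), (40, 2), (41, 0), (42, 2), (43, 0), (44, 2), (45, 0), (46, 0), (47, 0), (48, 0), (49, 0), (50, 2), (29, 51), (33, 52), (0, 53), (1, 53), (2, 53),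 (53, 53), (4, 1), (58, 1), (59, 2), (60, 0), (61, 2), (62, 0), (63, 2), (64, 1), (65, 1), (66, 0), (67, 2), (68, 0), (69, 1), (70, 2), (71, 1), (72, 1), (73, 2), (74, 0), (75, 2), (30, 76), (32, 77), (0, 78), (54, 78), (53, 78), (78, 53), (82, 53), (1, 0), (84, 2), (85, 1), (86, 0), (87, 0), (88, 2), (89, 0), (90, 1), (91, 0), (92, 1), (93, 1), (94, 0), (95, 0), (28, 96), (27, 97), (83, 98), (2, 99), (27, 99), (56, 99), (53, 99), (78, 99), (99, 99), (105, 99), (2, 0), (107, 0), (108, 0), (109, 1), (110, 1), (111, 2), (112, 1), (113, 1), (80, 114), (2, 115), (78, 116), (2, 117), (53, 117), (78, 117), (99, 117), (117, 117), (121, 117), (7, 2), (124, 1), (125, 1), (126, 0), (127, 1), (128, 1), (129, 0), (130, 1), (131, 0), (132, 0), (133, 0), (134, 2), (135, 0), (136, 0), (137, 0), (3, 138), (102, 139), (53, 140), (122, 141), (3, 142), (119, 142), (106, 142), (123, 142), (146, 117), (11, 0), (148, 2), (149, 2), (150, 0), (151, 1), (152, 2), (153, 0), (154, 2), (155, 0), (156,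 1), (157, 2), (158, 1), (159, 0), (160, 1), (161, 1), (162, 0), (163, 0), (164, 1), (165, 2), (79, 166), (100, 167), (81, 168), (147, 169), (0, 170), (27, 170), (57, 170), (117, 170), (106, 170), (142, 170), (170, 170), (84, 0), (178, 1), (179, 2), (180, 2), (181, 2), (182, 0), (183, 0), (171, 184), (33, 185), (104, 186), (99, 187), (3, 188), (2, 188), (78, 188), (142, 188), (177, 188), (58, 0), (194, 2), (195, 1), (196, 1), (197, 1), (198, 0), (199, 0), (200, 0), (201, 0), (143, 202), (32, 203), (144, 204), (175, 205), (193, 206), (78, 207), (99, 207), (105, 207), (108, 2), (211, 1), (212, 1), (213, 2), (214, 1), (215, 0), (216, 2), (217, 1), (218, 2), (219, 0), (220, 1), (221, 0), (222, 2), (223, 0), (224, 1), (225, 0), (6, 226), (32, 227), (57, 228), (117, 229), (1, 230), (3, 230), (2, 230), (27, 230), (142, 230), (207, 230), (230, 230), (9, 0), (238, 0), (239, 2), (240, 2), (241, 2), (242, 0), (243, 2), (244, 1), (245, 1), (246, 2), (232, 247), (101, 248), (208, 249),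 (117, 250), (235, 251), (0, 252), (78, 252), (105, 252), (142, 252), (252, 207), (252, 230), (194, 0), (259, 0), (260, 0), (261, 1), (262, 1), (263, 2), (264, 2), (265, 0), (266, 0), (253, 267), (100, 268), (254, 269), (209, 270), (235, 271), (236, 272), (103, 273), (142, 273), (188, 273), (273, 273), (176, 210), (257, 278), (254, 234), (209, 280), (192, 281), (236, 282), (120, 233), (122, 284), (256, 285), (207, 286), (277, 287), (103, 190), (122, 289), (276, 290), (258, 291), (273, 292), (118, 55), (274, 294), (145, 295), (235, 296), (252, 297), (277, 298), (172, 55), (121, 300), (177, 301), (237, 302), (273, 303), (27, 189), (173, 305), (255, 306), (192, 307), (237, 308), (277, 309), (27, 231), (191, 311), (174, 312), (275, 313), (230, 314), (273, 315)]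

def u5p0 : List ℕ := [0, 1, 2, 3, 9, 5, 12, 11, 21, 4, 22, 7, 6, 15, 14, 13, 20, 17, 19, 18, 16, 8, 10, 23]

def u5p1 : List ℕ := [0, 9, 20, 3, 4, 22, 12, 18, 11, 1, 10, 8, 6, 14, 13, 15, 16, 17, 7, 21, 2, 19, 5, 23]

def u5p2 : List ℕ := [0, 5, 2, 3, 21, 1, 6, 11, 9, 8, 19, 7, 12, 15, 17, 13, 16, 14, 22, 10, 20, 4, 18, 23]

def u5p3 : List ℕ := [0, 3, 17, 1, 4, 5, 21, 18, 12, 9, 22, 19, 8, 15, 14, 13, 16, 2, 7, 11, 20, 6, 10, 23]

def u5p4 : List ℕ := [13, 19, 11, 5, 9, 3, 20, 6, 14, 18, 7, 1, 2, 16, 23, 22, 21, 17, 0, 8, 15, 4, 12, 10]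

def u5p5 : List ℕ := [9, 21, 10, 18, 23, 16, 14, 15, 19, 6, 13, 17, 3, 7, 5, 4, 8, 20, 0, 22, 2, 11, 12, 1]

def u5p6 : List ℕ := [18, 23, 20, 12, 15, 14, 9, 13, 16, 0, 2, 21, 22, 10, 6, 7, 5, 11, 3, 8, 17, 1, 19, 4]

def u5p7 : List ℕ := [18, 11, 12, 5, 21, 3, 7, 10, 19, 4, 23, 2, 22, 0, 8, 20, 13, 17, 9, 1, 6, 16, 15, 14]

def u5Idx : List ℕ := [279, 283, 288, 293, 299, 304, 310, 316]

def u5Perms : List (List ℕ) := [u5p0, u5p1, u5p2, u5p3, u5p4, u5p5, u5p6, u5p7]

theorem u5Perms_eq : u5Perms = u5Idx.map (fun k => (slpPerms u5Prog).getD k idl) := by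
  decide +kernel

theorem u5Perms_rep : ∀ l ∈ u5Perms, Rep M24 l := by
  intro l hl
  rw [u5Perms_eq, List.mem_map] at hl
  obtain ⟨k, _, rfl⟩ := hl
  exact rep_slpPerms u5Prog k

/-- the third reference vector, twice an octad through the first point and not through the last -/
def xhL : List ℤ := [2, 0, 2, 0, 0, 0, 0, 0, 0, 0, 0, 0, 0, 2, 2, 2, 2, 2, 0, 0, 2, 0, 0, 0]

/-- the words of the images of the generators a, b, c, d, t -/
def u5Tbl : List (List Prim) := [[.perm u5p0],
  [.perm u5p1],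
  [.perm u5p2],
  [.perm u5p3],
  [.perm u5p4, .xi, .perm u5p5, .xi, .sign 2183687, .xi', .perm u5p6, .xi', .perm u5p7]]

/-- the word of a generator -/
def u5Word (x : ℕ) : List Prim := u5Tbl.getD x []

/-- the word of a product of generators (the last generator acts first) -/
def bigWord5 : List ℕ → List Prim
  | [] => []
  | a :: w => bigWord5 w ++ u5Word a

set_option maxRecDepth 100000 in
theorem u5Tbl_ok : checkGens u5Perms [u0L, w1L, xhL] u5Tbl = true := by decide +kernel

theorem xhL_ok : inLeechL xhL = true ∧ normL xhL = 32 ∧ dotL u0L xhL = 16 ∧ dotL w1L xhL = -24 := by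
  decide +kernel

/-- the relator words -/
def u5Rels : List (List ℕ) := coxWordsL T5.edges U35TTC.gen 5 ++ U35TTC.extraWords

/-- the `k`-th relator word acts trivially on the vector `-8 e_i` -/
def chk5 (k i : ℕ) : Bool := actW (bigWord5 (u5Rels.getD k [])) (neg8L i) == neg8L i

/-- a rectangle of checks -/
def chkRect5 (a n lo m : ℕ) : Bool :=
  (List.range' a n).all fun k => (List.range' lo m).all fun i => chk5 k i

theorem chkRect5_spec {a n lo m : ℕ} (h : chkRect5 a n lo m = true) {k i : ℕ} (hk1 : a ≤ k)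
    (hk2 : k < a + n) (hi1 : lo ≤ i) (hi2 : i < lo + m) : chk5 k i = true := by
  rw [chkRect5, List.all_eq_true] at h
  have h1 := h k (by rw [List.mem_range'_1]; exact ⟨hk1, hk2⟩)
  rw [List.all_eq_true] at h1
  exact h1 i (by rw [List.mem_range'_1]; exact ⟨hi1, hi2⟩)

theorem u5Rels_length : u5Rels.length = 28 := by decide +kernel

end Cfsg.Agent.Lib.Helper6.Leech
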