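import Cfsg.Agent.Lib.Helper6.U35CoData

/-! # The relators act trivially: kernel checks, part 2 (generated) -/

set_option autoImplicit false
set_option maxRecDepth 1000000
set_option maxHeartbeats 4000000

namespace Cfsg.Agent.Lib.Helper6.Leech

theorem u5_chk_2_0 : chkRect5 0 23 12 6 = true := by decide +kernel

theorem u5_chk_2_1 : chkRect5 23 5 12 6 = true := by decide +kernel

end Cfsg.Agent.Lib.Helper6.Leech
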