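import Cfsg.Agent.Lib.Helper6.U35CoRel0
import Cfsg.Agent.Lib.Helper6.U35CoRel1
import Cfsg.Agent.Lib.Helper6.U35CoRel2
import Cfsg.Agent.Lib.Helper6.U35CoRel3

/-! # The relators act trivially (generated) -/

set_option autoImplicit false

namespace Cfsg.Agent.Lib.Helper6.Leech

theorem u5_chk_all {k i : ℕ} (hk : k < 28) (hi : i < 24) : chk5 k i = true := by
  rcases (by omega : (0 ≤ k ∧ k < 23) ∨ (23 ≤ k ∧ k < 28)) with hk' | hk'
  · rcases (by omega : (0 ≤ i ∧ i < 6) ∨ (6 ≤ i ∧ i < 12) ∨ (12 ≤ i ∧ i < 18) ∨ (18 ≤ i ∧ i < 24)) with hi' | hi' | hi' | hi'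
    · exact chkRect5_spec u5_chk_0_0 hk'.1 (by omega) hi'.1 (by omega)
    · exact chkRect5_spec u5_chk_1_0 hk'.1 (by omega) hi'.1 (by omega)
    · exact chkRect5_spec u5_chk_2_0 hk'.1 (by omega) hi'.1 (by omega)
    · exact chkRect5_spec u5_chk_3_0 hk'.1 (by omega) hi'.1 (by omega)
  · rcases (by omega : (0 ≤ i ∧ i < 6) ∨ (6 ≤ i ∧ i < 12) ∨ (12 ≤ i ∧ i < 18) ∨ (18 ≤ i ∧ i < 24)) with hi' | hi' | hi' | hi'
    · exact chkRect5_spec u5_chk_0_1 hk'.1 (by omega) hi'.1 (by omega)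
    · exact chkRect5_spec u5_chk_1_1 hk'.1 (by omega) hi'.1 (by omega)
    · exact chkRect5_spec u5_chk_2_1 hk'.1 (by omega) hi'.1 (by omega)
    · exact chkRect5_spec u5_chk_3_1 hk'.1 (by omega) hi'.1 (by omega)

end Cfsg.Agent.Lib.Helper6.Leech
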