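import Cfsg.Agent.Lib.Helper6.SimpInst
import Cfsg.Agent.Lib.Helper6.U35HTCData

/-! # U35H: data of the certificate of simplicity and order (generated) -/

set_option autoImplicit false
set_option maxRecDepth 1000000

namespace Cfsg.Agent.Lib.Helper6.U35HSimp

open Cfsg.Agent.Lib.Helper6.TC Cfsg.Agent.Lib.Helper6.Simp Cfsg.Agent.Lib.Helper6.NatArr Cfsg.Agent.Lib.Helper6.U35HTC

/-- level 0: base point 0, orbit of length 175 -/
def lvl0 : Level where
  b := 0
  ws := [[0], [1], [2], [3], [4]]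
  instrs := [2, 1048583, 20, 1048587, 3, 2097164, 31, 1048631, 2097175, 1048584, 4, 3145743, 24, 2097209, 40,
    1048661, 132, 1048726, 107, 2097303, 130, 1048660, 2097191, 4194379, 96, 1048718, 116, 1048645,
    34, 2097228, 117, 1048669, 51, 1048674, 123, 2097312, 143, 1048746, 157, 1048715, 166, 2097290,
    92, 1048624, 21, 1048626, 95, 3145789, 26, 1048585, 5, 1048592, 41, 2097239, 42, 1048593, 27,
    1048639, 113, 3145854, 114, 1048728, 161, 1048701, 78, 2097187, 77, 1048694, 70, 1048608, 13,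
    2097188, 71, 1048697, 159, 1048700, 80, 2097280, 86, 1048710, 119, 1048731, 163, 4194433, 145,
    1048676, 144, 1048684, 82, 2097189, 81, 1048675, 52, 1048673, 79, 3145771, 62, 1048604, 65,
    1048621, 18, 2097198, 64, 1048691, 2097306, 1048688, 90, 4194441, 2097241, 1048620, 91, 0, 0,
    3145864, 1048744, 158, 2097321, 164, 1048707, 4194466, 127, 1048711, 88, 1048709, 165, 2097327,
    167, 0, 0, 0, 0, 0, 0, 0, 0, 0, 0, 0, 0, 0, 0, 0, 0, 0, 0, 3145902, 2097324, 1048724, 173,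
    3145877, 105, 1048635, 25, 1048632, 106, 2097218, 101, 1048629, 22, 1048586, 29, 2097219, 30,
    1048644, 60, 1048650, 111, 2097225, 33, 1048625, 54, 1048678, 122, 4194387, 47, 1048595, 6,
    1048590, 38, 0, 0, 0, 0, 0, 0, 0, 0, 3145831, 94, 1048716, 120, 1048648, 110, 2097210, 109,
    1048729, 2097308, 1048717, 146, 0, 0, 0, 0, 0, 0, 0, 0, 0, 0, 0, 0, 0, 0, 0, 0, 0, 0, 0, 0, 0, 0,
    0, 0, 0, 0, 0, 0, 0, 0, 0, 0, 0, 0, 0, 4194408, 1048723, 171]
  B := 0x7fffffffffffffffffffffffffffffffffffffffffff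
  m := 175

theorem lvl0_ok : LevelOK tab [] lvl0 :=
  ⟨by decide +kernel, by decide +kernel, by decide +kernel, by decide +kernel, by decide +kernel⟩

/-- level 1: base point 2, orbit of length 90 -/
def lvl1 : Level where
  b := 2
  ws := [[2, 4, 2, 1], [3, 2, 1, 2, 1, 3], [0, 2, 1, 3, 1, 2, 0]]
  instrs := [1048739, 128, 35, 13, 1048581, 91, 16, 137, 2097222, 48, 114, 69, 1048585, 65, 63, 112, 1048595, 67,
    83, 106, 1048636, 7, 101, 31, 2097239, 41, 61, 113, 1048652, 85, 95, 130, 1048651, 161, 166, 86,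
    1048712, 135, 164, 175, 0, 1048588, 14, 4, 6, 1048655, 126, 82, 80, 0, 1048666, 17, 46, 42,
    1048708, 77, 15, 159, 0, 1048610, 134, 160, 125, 2097160, 68, 20, 102, 0, 1048723, 174, 104, 173,
    1048606, 23, 54, 11, 2097202, 21, 170, 143, 0, 0, 0, 0, 0, 1048649, 66, 29, 122, 2097308, 139,
    72, 93, 1048747, 0, 0, 1048632, 59, 49, 10]
  B := 0x762dc80445eab20382b05676ddbf5ca3a306705dfffc
  m := 90

theorem lvl1_ok : LevelOK tab [0] lvl1 :=
  ⟨by decide +kernel, by decide +kernel, by decide +kernel, by decide +kernel, by decide +kernel⟩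

/-- level 2: base point 1, orbit of length 8 -/
def lvl2 : Level where
  b := 1
  ws := [[2, 4, 2, 1], [0, 2, 1, 3, 1, 2, 0, 2, 4, 2, 1, 0, 2, 1, 3, 1, 2, 0]]
  instrs := [74, 55, 53, 1048616, 123, 84, 138]
  B := 0x20004000000000802000050008000000002
  m := 8

theorem lvl2_ok : LevelOK tab [2, 0] lvl2 :=
  ⟨by decide +kernel, by decide +kernel, by decide +kernel, by decide +kernel, by decide +kernel⟩

/-- the chain -/
def levels : List Level := [lvl0, lvl1, lvl2]

theorem chain_ok : ChainOK tab [] levels :=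
  ChainOK.cons lvl0_ok (
  ChainOK.cons lvl1_ok (
  ChainOK.cons lvl2_ok (
  ChainOK.nil _)))

theorem chain_prod : chainProd levels = 126000 := by decide +kernel

/-- the words of the certificate of generation by elements of order 7 -/
def us : List (List ℕ) := [[0, 1, 2, 3, 0, 1, 2, 3], [0, 1, 2, 3, 0, 1, 2, 3], [0, 1, 2, 3, 0, 1, 2, 3], [0, 1, 2, 3, 0, 1, 2,
    3], [0, 1, 2, 3]]

theorem chk_pow0 : tab.minOK (us.getD 0 []) 7 = true ∧ tab.minOK (0 :: us.getD 0 []) 7 = true :=
  ⟨by decide +kernel, by decide +kernel⟩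

theorem chk_pow1 : tab.minOK (us.getD 1 []) 7 = true ∧ tab.minOK (1 :: us.getD 1 []) 7 = true :=
  ⟨by decide +kernel, by decide +kernel⟩

theorem chk_pow2 : tab.minOK (us.getD 2 []) 7 = true ∧ tab.minOK (2 :: us.getD 2 []) 7 = true :=
  ⟨by decide +kernel, by decide +kernel⟩

theorem chk_pow3 : tab.minOK (us.getD 3 []) 7 = true ∧ tab.minOK (3 :: us.getD 3 []) 7 = true :=
  ⟨by decide +kernel, by decide +kernel⟩

theorem chk_pow4 : tab.minOK (us.getD 4 []) 7 = true ∧ tab.minOK (4 :: us.getD 4 []) 7 = true :=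
  ⟨by decide +kernel, by decide +kernel⟩

theorem chk_pow : ∀ x, x < 5 → tab.minOK (us.getD x []) 7 = true ∧
    tab.minOK (x :: us.getD x []) 7 = true := by
  intro x hx
  interval_cases x
  · exact chk_pow0
  · exact chk_pow1
  · exact chk_pow2
  · exact chk_pow3
  · exact chk_pow4

end Cfsg.Agent.Lib.Helper6.U35HSimp
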