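import Cfsg.Agent.Lib.Helper6.EquivMatL
import Cfsg.Agent.Lib.Helper6.ChevMatL25
import Cfsg.Agent.Lib.Helper6.U35TTCChk2
import Cfsg.Prelude.Def_Classical
import Cfsg.Prelude.Def_ClassicalGeometry

/-! # Five involutions of the special unitary group of dimension three over the field with twenty-five
elements

The matrices `genLt x` (`x < 5`), given by their columns, are unitary of determinant one and satisfy
the relations of the generators `a, b, c, d, t` of the presented group `T5` up to scalars (generated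
data, checked by the kernel). -/

set_option autoImplicit false
set_option maxRecDepth 100000

namespace Cfsg.Agent.Lib.Helper6.U35Mat

open Cfsg.Agent.Lib.Helper6.ChevMatL Cfsg.Agent.Lib.Helper6.ChevMatL25 Cfsg.Agent.Lib.Helper6.EquivMatL
  Cfsg.Agent.Lib.Helper6.TC Cfsg.Agent.Lib.Helper6.U35Sub Cfsg.Spor

/-- the field -/
abbrev K : Type := F25

/-- the matrix of generator a, by its columns -/
def gA : List (List K) :=
  [[⟨0, 0⟩, ⟨0, 0⟩, ⟨1, 0⟩],
   [⟨0, 0⟩, ⟨4, 0⟩, ⟨0, 0⟩],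
   [⟨1, 0⟩, ⟨0, 0⟩, ⟨0, 0⟩]]

/-- the matrix of generator b, by its columns -/
def gB : List (List K) :=
  [[⟨4, 0⟩, ⟨0, 0⟩, ⟨0, 0⟩],
   [⟨0, 0⟩, ⟨0, 0⟩, ⟨3, 2⟩],
   [⟨0, 0⟩, ⟨3, 3⟩, ⟨0, 0⟩]]

/-- the matrix of generator c, by its columns -/
def gC : List (List K) :=
  [[⟨2, 0⟩, ⟨1, 2⟩, ⟨2, 0⟩],
   [⟨1, 3⟩, ⟨0, 0⟩, ⟨4, 2⟩],
   [⟨2, 0⟩, ⟨4, 3⟩, ⟨2, 0⟩]]

/-- the matrix of generator d, by its columns -/
def gD : List (List K) :=
  [[⟨2, 0⟩, ⟨0, 1⟩, ⟨2, 0⟩],
   [⟨0, 4⟩, ⟨0, 0⟩, ⟨0, 1⟩],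
   [⟨2, 0⟩, ⟨0, 4⟩, ⟨2, 0⟩]]

/-- the matrix of generator t, by its columns -/
def gT : List (List K) :=
  [[⟨2, 0⟩, ⟨4, 0⟩, ⟨3, 2⟩],
   [⟨4, 0⟩, ⟨1, 0⟩, ⟨4, 1⟩],
   [⟨3, 3⟩, ⟨4, 4⟩, ⟨1, 0⟩]]

/-- the matrices of the generators -/
def genTbl : List (List (List K)) := [gA, gB, gC, gD, gT]

/-- the matrix of a generator -/
def genLt (x : ℕ) : List (List K) := genTbl.getD x gT

/-- the scalar matrix -/
def scal (c : K) : List (List K) :=
  (List.range 3).map fun i => (List.range 3).map fun j => if i = j then c else 0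

/-- a scalar matrix of determinant one -/
def isScal (X : List (List K)) : Bool :=
  decide (X = scal ⟨1, 0⟩) || (decide (X = scal ⟨2, 2⟩) || decide (X = scal ⟨2, 3⟩))

/-- the entries of the matrix of a generator -/
def gE' (x : ℕ) (i j : Fin 3) : K := entry (genLt x) j.val i.val

/-- the determinant, written out -/
def det3F (A : Fin 3 → Fin 3 → K) : K :=
  A 0 0 * A 1 1 * A 2 2 - A 0 0 * A 1 2 * A 2 1 - A 0 1 * A 1 0 * A 2 2 + A 0 1 * A 1 2 * A 2 0 +
    A 0 2 * A 1 0 * A 2 1 - A 0 2 * A 1 1 * A 2 0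

theorem det3F_eq (A : Matrix (Fin 3) (Fin 3) K) : A.det = det3F A := Matrix.det_fin_three A

theorem chk_gcols : ∀ Y ∈ genTbl, colsOK 3 Y := by decide +kernel

theorem chk_ginv : ∀ Y ∈ genTbl, prodT25 3 [Y, Y] = idL25 3 := by decide +kernel

theorem chk_transp_id : transp 3 (idL 3 : List (List K)) = idL 3 := by decide +kernel

theorem chk_det : ∀ x, x < 5 → det3F (gE' x) = 1 := by decide +kernel

theorem chk_unit : ∀ x, x < 5 → ∀ j k : Fin 3,
    gE' x 0 j * gE' x 0 k ^ 5 + gE' x 1 j * gE' x 1 k ^ 5 + gE' x 2 j * gE' x 2 k ^ 5 =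
      if j = k then 1 else 0 := by decide +kernel

theorem chk_hadd25 : ∀ a b : K, (a + b) ^ 5 = a ^ 5 + b ^ 5 := by decide +kernel

theorem chk_rels : (coxWordsL T5.edges U35TTC.gen 5 ++ U35TTC.extraWords).all
    (fun w => isScal (prodT25 3 (w.map genLt))) = true := by decide +kernel

theorem chk_rels_lt : (coxWordsL T5.edges U35TTC.gen 5 ++ U35TTC.extraWords).all
    (fun w => w.all fun x => decide (x < 5)) = true := by decide +kernel

theorem chk_nc : ∃ i j : Fin 3, entry (prodT25 3 [genLt 0, genLt 1]) i.val j.val ≠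
    entry (prodT25 3 [genLt 1, genLt 0]) i.val j.val := by decide +kernel

end Cfsg.Agent.Lib.Helper6.U35Mat
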