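import Cfsg.Agent.Lib.Helper6.TCCheck

/-! # Coset enumeration data for U35T: the trace (generated) -/

set_option autoImplicit false
set_option maxRecDepth 1000000
set_option maxHeartbeats 4000000

namespace Cfsg.Agent.Lib.Helper6.U35TTC

open Cfsg.Agent.Lib.Helper6.TC

/-- the operations of the enumeration -/
def trace : List (List ℕ) := [[268435456, 4, 134217732, 67108872, 134217736, 201326604, 201326608, 67108884, 201326612, 67108888, 134217756, 201326624, 67108900, 40, 134217768, 67108908, 268435500, 67108912, 134217776, 52, 134217780, 134217784, 268435512, 67108924, 64, 201326656, 268435520, 68, 72, 134217800, 67108940, 134217808, 268435536, 67108948, 201326676, 268435540, 268435544, 134217820, 134217844, 268435572, 67108984, 201326712, 134217852, 201326720, 268435596, 201326748, 201326756, 67109032, 134217908, 550225575941, 275548995597, 825707462677, 550158467097, 550225575977, 550963773485, 550225575989, 275481886773, 551165100085, 276152975417, 550225576009, 551165100113, 276689846353, 275548995669, 551500644437, 275548995705, 0, 274877906946, 825371918337, 551030882313, 551567753233, 826244333597, 550292684869, 67108864, 274945015810, 550963773441, 825036374021, 550359793681, 550225575965, 824969265197, 825371918381, 134217728, 275012124674, 826177224705, 1377208107009,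 551567753229, 825036374029, 825707462669, 1101524893709, 551030882329, 550359793697, 2200969412641, 550426902569, 826043006993, 1102330200081, 825439027241, 824969265201, 550225575985, 826043007009, 551500644409, 825774571565, 551500644397, 551567753237, 550225576029, 550963773557, 550426902597, 551030882353, 825439027253, 201326592, 275079233538, 551500644353, 550426902533, 826110115845, 1651750469637, 825774571529, 826110115849, 1100518260761, 1376469909529, 1102330200089, 1101524893725, 1376738344989, 1102263091229, 1100518260773, 826177224741, 2476317081637, 1102330200101, 276958281825, 276421410881, 275548995685, 276622737509, 827519402061, 276488519801, 551567753337, 552708604025, 275481886817, 550494011489, 825439027301, 275347669117, 1651213598845, 552037515389, 826445660333, 826043007141, 3576030036133, 551030882493, 1100585369745, 825774571657, 824969265261, 1375933038697, 550359793829, 825371918501, 1102263091349, 1652354449557, 1374792188101, 1102598635717, 826445660313]]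

end Cfsg.Agent.Lib.Helper6.U35TTC
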