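import Cfsg.Agent.Lib.Helper6.U35TTCData
import Cfsg.Agent.Lib.Helper6.U35TTCTrace

/-! # U35T: the kernel check of the coset enumeration -/

set_option autoImplicit false

namespace Cfsg.Agent.Lib.Helper6.U35TTC

open Cfsg.Agent.Lib.Helper6.TC

theorem chk_run : runOK cfg trace tab.n = true := by decide +kernel

end Cfsg.Agent.Lib.Helper6.U35TTC
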