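import Cfsg.Agent.Lib.Helper6.TCPerm

/-! # Coset enumeration data for U35T: configuration, table, words (generated) -/

set_option autoImplicit false
set_option maxRecDepth 1000000
set_option maxHeartbeats 4000000

namespace Cfsg.Agent.Lib.Helper6.U35TTC

open Cfsg.Agent.Lib.Helper6.TC

/-- the configuration of the enumeration -/
def cfg : Cfg := ⟨5, 6, 1000000, 4, 68, 0x2412412410900000041241241209000000124124124090000002142142140900000014214214209000000421421421092312312312312310f3123123123123120f1231231231231230f2132132132132130f1321321321321320f3213213213213210f0000001201201200900000020120120109000000012012012090000001021021020900000002102102109000000210210210090000000000000440200000000000343404000000000004343040000000000000330200000000024242406000000000424242060000000002323230600000000032323206000000000000022020000000000014140400000000000414104000000000131313060000000003131310600000001212121208000000021212121080000000000000110200000000004040406000000000404040060000000000003030400000000000303004000000000000202040000000000020200400000000001010106000000000101010060000000000000000200000000000000301000000000000002010000000000000010100000000000000001⟩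

/-- the number of words -/
def nw : ℕ := 47

/-- the words of the further relators -/
def extraWords : List (List ℕ) := [[0, 1, 2, 0, 1, 2, 0, 1, 2], [1, 2, 3, 1, 2, 3, 1, 2, 3, 1, 2, 3, 1, 2, 3], [1, 2, 4, 1, 2, 4, 1, 2, 4]]

/-- where the words come from -/
def srcs : List ℕ := [0, 512, 514, 1024, 1026, 1536, 1538, 2048, 2050, 3072, 3584, 3586, 4096, 4098, 4608, 4610, 6144, 6656, 6658, 7168, 7170, 9216, 9728, 9730, 12288, 12800, 12802, 12804, 12801, 12803, 12805, 13312, 13314, 13316, 13313, 13315, 13317, 13824, 13826, 13828, 13825, 13827, 13829]

/-- the coset table -/
def tab : Tab := ⟨5, 6, 50, .leaf 0x31c6ec31cb2c2bcabab1caeb68b6eae4972bf0be1be49239a0966c1f931bdfc257e57a28a98a1bde99f6dc6279d7b1ba2c5aeaacaae5abb6db178d6655a69629a2d5575a06ac51baab4eaa2956879375d75d4919dc49c9d199b81a8116914106508cf6278989a33e142590e8e189e84f39450d81438e7cd78c49271d71b68c69964b65760f5d52d34d629528951335230844c2cb4073cd18a38718d24624814c2081c41cb2892832441481431441c21060c3185081084083081041040⟩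

/-- the words of the generators of the subgroup -/
def subW : List (List ℕ) := [[0], [1], [2], [3]]


end Cfsg.Agent.Lib.Helper6.U35TTC
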