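import Cfsg.Agent.Lib.Helper6.SimpUB

/-! # A presentation of the unitary group U4(2) on five involutions -/

set_option autoImplicit false
set_option linter.unusedSimpArgs false

namespace Cfsg.Agent.Lib.Helper6.U42Sub

open Cfsg.Spor Cfsg.Agent.Lib.Helper6.Simp

namespace P5

/-- the generators a, b, c, d, e -/
inductive Gen
  | a
  | b
  | c
  | d
  | e
  deriving DecidableEq

abbrev a : FreeGroup Gen := FreeGroup.of Gen.a
abbrev b : FreeGroup Gen := FreeGroup.of Gen.b
abbrev c : FreeGroup Gen := FreeGroup.of Gen.c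
abbrev d : FreeGroup Gen := FreeGroup.of Gen.d
abbrev e : FreeGroup Gen := FreeGroup.of Gen.e

/-- the Coxeter graph -/
def edges : List (Gen × ℕ × Gen) :=
  [(.a, 3, .b), (.b, 3, .c), (.c, 3, .d), (.a, 3, .e), (.b, 3, .e), (.c, 3, .e), (.d, 3, .e)]

/-- the further relators -/
def extra : List (FreeGroup Gen) := [  d * e * a * c * d * e * a * b * d * e * c * d * a * e * b * c * a * b * a]

end P5

/-- the presented group -/
abbrev P5 : Type := CoxPresented P5.Gen P5.edges P5.extra

end Cfsg.Agent.Lib.Helper6.U42Sub
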