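import Cfsg.Agent.Lib.Helper6.EquivMatL
import Cfsg.Agent.Lib.Helper6.ChevMatL4
import Cfsg.Agent.Lib.Helper6.U42PTCChk2
import Cfsg.Prelude.Def_Classical
import Cfsg.Prelude.Def_ClassicalGeometry

/-! # Five unitary transvections of the unitary space of dimension four over the field with four
elements

The vectors `vec x` (`x < 5`) are isotropic and realise the graph of the generators `a, …, e` of the
presented group `P5`; the matrices `genLt x` are their transvections, given by their columns
(generated data, checked by the kernel). -/

set_option autoImplicit false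
set_option maxRecDepth 100000

namespace Cfsg.Agent.Lib.Helper6.U42Mat

open Cfsg.Agent.Lib.Helper6.ChevMatL Cfsg.Agent.Lib.Helper6.ChevMatL4 Cfsg.Agent.Lib.Helper6.EquivMatL
  Cfsg.Agent.Lib.Helper6.TC Cfsg.Agent.Lib.Helper6.U42Sub Cfsg.Spor Cfsg.Agent.Lib.Helper6.M21
  Cfsg.Agent.Lib.Helper6.M21.F4c

/-- the field -/
abbrev K : Type := F4c

/-- the vectors -/
def vecTbl : List (List K) :=
  [[o, o, e, e],
   [o, o, e, w],
   [e, e, e, e],
   [e, w, o, o],
   [o, e, o, w]]

/-- the vector of a generator -/
def vec (x : ℕ) (i : Fin 4) : K := (vecTbl.getD x []).getD i.val 0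

/-- the transvection of generator a, by its columns -/
def gA : List (List K) :=
  [[e, o, o, o],
   [o, e, o, o],
   [o, o, o, e],
   [o, o, e, o]]

/-- the transvection of generator b, by its columns -/
def gB : List (List K) :=
  [[e, o, o, o],
   [o, e, o, o],
   [o, o, o, w],
   [o, o, v, o]]

/-- the transvection of generator c, by its columns -/
def gC : List (List K) :=
  [[o, e, e, e],
   [e, o, e, e],
   [e, e, o, e],
   [e, e, e, o]]

/-- the transvection of generator d, by its columns -/
def gD : List (List K) :=
  [[o, w, o, o],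
   [v, o, o, o],
   [o, o, e, o],
   [o, o, o, e]]

/-- the transvection of generator e, by its columns -/
def gE : List (List K) :=
  [[e, o, o, o],
   [o, o, o, w],
   [o, o, e, o],
   [o, v, o, o]]

/-- the matrices of the generators -/
def genTbl : List (List (List K)) := [gA, gB, gC, gD, gE]

/-- the matrix of a generator -/
def genLt (x : ℕ) : List (List K) := genTbl.getD x gE

/-- an entry of the transvection in `vec x` -/
def tvE (x : ℕ) (i j : Fin 4) : K := Cfsg.unitaryTransvection 4 2 (vec x) 1 i j

/-- the scalar matrix -/
def scal (c : K) : List (List K) :=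
  (List.range 4).map fun i => (List.range 4).map fun j => if i = j then c else 0

/-- a nonzero scalar matrix -/
def isScal (X : List (List K)) : Bool :=
  decide (X = scal e) || (decide (X = scal w) || decide (X = scal v))

theorem chk_iso : ∀ x, x < 5 → Cfsg.hermForm 4 K 2 (vec x) (vec x) = 0 := by decide +kernel

theorem chk_tv : ∀ x, x < 5 → ∀ i j : Fin 4, tvE x i j = entry (genLt x) j.val i.val := by
  decide +kernel

theorem chk_gcols : ∀ Y ∈ genTbl, colsOK 4 Y := by decide +kernel

theorem chk_ginv : ∀ Y ∈ genTbl, prodT4 4 [Y, Y] = idL4 4 := by decide +kernel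

theorem chk_transp_id : transp 4 (idL 4 : List (List K)) = idL 4 := by decide +kernel

theorem chk_rels : (coxWordsL P5.edges U42PTC.gen 5 ++ U42PTC.extraWords).all
    (fun w => isScal (prodT4 4 (w.map genLt))) = true := by decide +kernel

theorem chk_rels_lt : (coxWordsL P5.edges U42PTC.gen 5 ++ U42PTC.extraWords).all
    (fun w => w.all fun x => decide (x < 5)) = true := by decide +kernel

theorem chk_nc : ∃ i j : Fin 4, entry (prodT4 4 [genLt 0, genLt 1]) i.val j.val ≠
    entry (prodT4 4 [genLt 1, genLt 0]) i.val j.val := by decide +kernel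

end Cfsg.Agent.Lib.Helper6.U42Mat
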