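import Cfsg.Agent.Lib.Helper6.TCPerm

/-! # Coset enumeration data for U42P: configuration, table, words (generated) -/

set_option autoImplicit false
set_option maxRecDepth 1000000
set_option maxHeartbeats 4000000

namespace Cfsg.Agent.Lib.Helper6.U42PTC

open Cfsg.Agent.Lib.Helper6.TC

/-- the configuration of the enumeration -/
def cfg : Cfg := ⟨5, 6, 1000000, 3, 84, 0x402340134230412010313023401342304120103413234013423041201034013340134230412010340213401342304120103402313013423041201034023413134230412010340234013342304120103402340113423041201034023401313230412010340234013413304120103402340134213041201034023401342313412010340234013423013120103402340134230413201034023401342304113010340234013423041213103402340134230412013034023401342304120113340234013423041201013102140324310432043013021403243104320430113214032431043204301013140324310432043010213403243104320430102113032431043204301021413324310432043010214013243104320430102140313431043204301021403213310432043010214032413104320430102140324313043204301021403243113432043010214032431013320430102140324310413204301021403243104313043010214032431043213430102140324310432013301021403243104320413010214032431043204313000000000000000004402000000000000034343406000000000000043434306000000000000000003302000000000000024242406000000000000042424206000000000000023232306000000000000032323206000000000000000002202000000000000014141406000000000000041414106000000000000000131304000000000000000313104000000000000012121206000000000000021212106000000000000000001102000000000000004040406000000000000040404006000000000000000030304000000000000000303004000000000000000020204000000000000000202004000000000000001010106000000000000010101006000000000000000000002000000000000001243005000000000000000004302000000000000000000201⟩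

/-- the number of words -/
def nw : ℕ := 66

/-- the words of the further relators -/
def extraWords : List (List ℕ) := [[3, 4, 0, 2, 3, 4, 0, 1, 3, 4, 2, 3, 0, 4, 1, 2, 0, 1, 0]]

/-- where the words come from -/
def srcs : List ℕ := [0, 512, 514, 1024, 1026, 1536, 1538, 2048, 2050, 3072, 3584, 3586, 4096, 4098, 4608, 4610, 6144, 6656, 6658, 7168, 7170, 9216, 9728, 9730, 12288, 12800, 12802, 12804, 12806, 12808, 12810, 12812, 12814, 12816, 12818, 12820, 12822, 12824, 12826, 12828, 12830, 12832, 12834, 12836, 12801, 12803, 12805, 12807, 12809, 12811, 12813, 12815, 12817, 12819, 12821, 12823, 12825, 12827, 12829, 12831, 12833, 12835, 12837]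

/-- the coset table -/
def tab : Tab := ⟨5, 6, 40, .leaf 0x288a89e38e18289e67a599f7a59a476492495b9d98e3a1aa1a8596275e28605a78205d57579a599e79551d7da95c4924dc49b6d09226a27503634198a135450f7cb85f5d180b59629f54b79d21860a38735c39b71c1d259118c3054196da3c52866132453936584c814c3044510d75952d50cf11418e0c91c85073430932122490913c440f38234104c2862ca241207182141104043080⟩

/-- the words of the generators of the subgroup -/
def subW : List (List ℕ) := [[2], [3, 4], [0, 3, 4, 2, 1]]

/-- orbit 0 of the subgroup on the rows: root, search, bitmap (1 rows) -/
def orbRoot0 : ℕ := 0
def orbInstr0 : List ℕ := []
def orbB0 : ℕ := 0x1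

/-- orbit 1 of the subgroup on the rows: root, search, bitmap (12 rows) -/
def orbRoot1 : ℕ := 1
def orbInstr1 : List ℕ := [1048585, 3, 1048597, 1048599, 33, 1048611, 1048589, 19, 2097164, 4, 0, 0, 0, 0, 0, 0, 0, 2097188]
def orbB1 : ℕ := 0xd0054190e

/-- orbit 2 of the subgroup on the rows: root, search, bitmap (27 rows) -/
def orbRoot2 : ℕ := 4
def orbInstr2 : List ℕ := [14, 1048582, 17, 1048598, 11, 1048607, 29, 1048596, 24, 1048601, 16, 0, 1048615, 32, 2097167, 10, 2097170, 28, 1048603, 2097189, 38, 0, 1048606, 2097186, 26, 0, 1048616, 0, 0, 0, 0, 0, 0, 2097159, 8]
def orbB2 : ℕ := 0xf2ffabe6f0


end Cfsg.Agent.Lib.Helper6.U42PTC
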