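import Cfsg.Agent.Lib.Helper6.SimpInst
import Cfsg.Agent.Lib.Helper6.U42PTCData

/-! # U42P: data of the certificate of simplicity and order (generated) -/

set_option autoImplicit false
set_option maxRecDepth 1000000

namespace Cfsg.Agent.Lib.Helper6.U42PSimp

open Cfsg.Agent.Lib.Helper6.TC Cfsg.Agent.Lib.Helper6.Simp Cfsg.Agent.Lib.Helper6.NatArr Cfsg.Agent.Lib.Helper6.U42PTC

/-- level 0: base point 0, orbit of length 40 -/
def lvl0 : Level where
  b := 0
  ws := [[0], [1], [2], [3], [4]]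
  instrs := [2, 1048581, 13, 1048584, 3, 2097161, 7, 1048594, 2097180, 1048595, 14, 0, 0, 0, 4194331, 36,
    1048613, 29, 1048602, 16, 2097177, 34, 1048609, 2097175, 1048607, 38, 3145758, 21, 1048587,
    2097174, 3145760, 2097191, 1048616, 35, 0, 0, 0, 0, 4194321, 12, 2097156, 6, 1048591, 24,
    1048596, 10]
  B := 0xffffffffff
  m := 40

theorem lvl0_ok : LevelOK tab [] lvl0 :=
  ⟨by decide +kernel, by decide +kernel, by decide +kernel, by decide +kernel, by decide +kernel⟩

/-- level 1: base point 4, orbit of length 27 -/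
def lvl1 : Level where
  b := 4
  ws := [[2], [4, 3], [0, 3, 4, 2, 1]]
  instrs := [14, 1048583, 8, 1048596, 24, 1048615, 32, 1048598, 11, 1048586, 15, 2097179, 1048604, 18, 0,
    2097168, 25, 0, 2097181, 31, 2097190, 37, 0, 1048606, 2097186, 26, 1048616, 0, 0, 0, 0, 2097158,
    17]
  B := 0xf2ffabe6f0
  m := 27

theorem lvl1_ok : LevelOK tab [0] lvl1 :=
  ⟨by decide +kernel, by decide +kernel, by decide +kernel, by decide +kernel, by decide +kernel⟩

/-- level 2: base point 3, orbit of length 8 -/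
def lvl2 : Level where
  b := 3
  ws := [[2, 4, 3, 0, 3, 4, 2, 1, 2, 3, 4, 2], [0, 3, 4, 2, 1, 2, 1, 2, 4, 3, 0, 3, 4]]
  instrs := [33, 36, 23, 1048585, 21, 35, 19]
  B := 0xd00540108
  m := 8

theorem lvl2_ok : LevelOK tab [4, 0] lvl2 :=
  ⟨by decide +kernel, by decide +kernel, by decide +kernel, by decide +kernel, by decide +kernel⟩

/-- level 3: base point 1, orbit of length 3 -/
def lvl3 : Level where
  b := 1
  ws := [[0, 3, 4, 2, 1, 2, 1, 2, 4, 3, 0, 3, 4, 0, 3, 4, 2, 1, 2, 1, 2, 4, 3, 0, 3, 4]]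
  instrs := [13, 3]
  B := 0x1006
  m := 3

theorem lvl3_ok : LevelOK tab [3, 4, 0] lvl3 :=
  ⟨by decide +kernel, by decide +kernel, by decide +kernel, by decide +kernel, by decide +kernel⟩

/-- the chain -/
def levels : List Level := [lvl0, lvl1, lvl2, lvl3]

theorem chain_ok : ChainOK tab [] levels :=
  ChainOK.cons lvl0_ok (
  ChainOK.cons lvl1_ok (
  ChainOK.cons lvl2_ok (
  ChainOK.cons lvl3_ok (
  ChainOK.nil _))))

theorem chain_prod : chainProd levels = 25920 := by decide +kernel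

/-- the words of the certificate of generation by elements of order 5 -/
def us : List (List ℕ) := [[1, 4, 0, 3, 2, 4], [0, 2, 1, 3, 4], [1, 0, 3, 2, 4], [2, 4, 0, 1, 3, 4], [0, 1, 2, 3]]

theorem chk_pow0 : tab.minOK (us.getD 0 []) 5 = true ∧ tab.minOK (0 :: us.getD 0 []) 5 = true :=
  ⟨by decide +kernel, by decide +kernel⟩

theorem chk_pow1 : tab.minOK (us.getD 1 []) 5 = true ∧ tab.minOK (1 :: us.getD 1 []) 5 = true :=
  ⟨by decide +kernel, by decide +kernel⟩

theorem chk_pow2 : tab.minOK (us.getD 2 []) 5 = true ∧ tab.minOK (2 :: us.getD 2 []) 5 = true :=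
  ⟨by decide +kernel, by decide +kernel⟩

theorem chk_pow3 : tab.minOK (us.getD 3 []) 5 = true ∧ tab.minOK (3 :: us.getD 3 []) 5 = true :=
  ⟨by decide +kernel, by decide +kernel⟩

theorem chk_pow4 : tab.minOK (us.getD 4 []) 5 = true ∧ tab.minOK (4 :: us.getD 4 []) 5 = true :=
  ⟨by decide +kernel, by decide +kernel⟩

theorem chk_pow : ∀ x, x < 5 → tab.minOK (us.getD x []) 5 = true ∧
    tab.minOK (x :: us.getD x []) 5 = true := by
  intro x hx
  interval_cases x
  · exact chk_pow0
  · exact chk_pow1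
  · exact chk_pow2
  · exact chk_pow3
  · exact chk_pow4

end Cfsg.Agent.Lib.Helper6.U42PSimp
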