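import Cfsg.Agent.Lib.Helper6.TCCheck

/-! # Coset enumeration data for U42P: the trace (generated) -/

set_option autoImplicit false
set_option maxRecDepth 1000000
set_option maxHeartbeats 4000000

namespace Cfsg.Agent.Lib.Helper6.U42PTC

open Cfsg.Agent.Lib.Helper6.TC

/-- the operations of the enumeration -/
def trace : List (List ℕ) := [[0, 67108864, 201326592, 67108868, 201326596, 268435460, 8, 134217736, 201326600, 268435464, 134217740, 16, 134217744, 201326608, 268435472, 134217748, 67108888, 201326616, 201326620, 268435492, 134217768, 201326632, 201326640, 268435504, 60, 67108924, 134217796, 268435532, 80, 201326672, 201326676, 134217816, 96, 201326688, 104, 112, 201326708, 134217852, 201326724, 549890031617, 824902156289, 550292684801, 550762446849, 274945015809, 550762446853, 825774571525, 275616104453, 275280560137, 550292684809, 826110115849, 826311442441, 276085866505, 275347669005, 550292684817, 825304809489, 275951648797, 550494011429, 825975898153, 275951648809, 550292684881, 550292684897, 134217728, 274877906946, 550225575937, 825573244929, 825975898113, 826110115841, 825573244933, 825975898117, 826110115845, 824969265185, 825774571553, 2201841827873, 825371918381, 826311442497, 825371918365, 825841680413, 826378551325, 550158467141, 825304809541, 826378551353,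 550225576029, 1100853805149, 550292684885, 551970406525, 824902156329, 550292684841, 550762446945, 550359793777, 550359793725, 550829555773, 825573244965, 825975898149, 1100988022821, 825103482953, 1375329058889, 4950352461897, 1100988022833, 550158467197, 1377073889405, 4400999301245, 825506136189, 550762446973, 550762446965, 550158467161, 825304809561, 3025938677849, 4125517414537, 4950419570833, 1376537018469, 550359793769, 2477793476673, 2202647134261, 3576298471505, 825640353901, 1375530385517, 3851511922797, 1653025538101, 2752805601333, 551097991229, 1927836336189]]

end Cfsg.Agent.Lib.Helper6.U42PTC
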