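import Cfsg.Agent.Lib.Helper6.U42ZSCert
import Cfsg.Agent.Lib.Helper6.TCChunk
import Cfsg.Agent.Lib.Helper6.U42ZSRows2

/-! # U42Z: the kernel check that the first rows are closed, part 1 -/

set_option autoImplicit false

namespace Cfsg.Agent.Lib.Helper6.U42ZTC

open Cfsg.Agent.Lib.Helper6.TC Cfsg.Agent.Lib.Helper6.TCS

theorem chk_fin6 : cert.finalOKc 25920 18000 3000 = true := by decide +kernel

theorem chk_fin7 : cert.finalOKc 25920 21000 3000 = true := by decide +kernel

theorem chk_fin8 : cert.finalOKc 25920 24000 3000 = true := by decide +kernel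

end Cfsg.Agent.Lib.Helper6.U42ZTC
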