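import Cfsg.Agent.Lib.Helper6.U42ZTCData
import Cfsg.Agent.Lib.Helper6.TCInst
import Cfsg.Agent.Lib.Helper6.TCChunk
import Cfsg.Agent.Lib.Helper6.U42Sub
import Cfsg.Agent.Lib.Helper6.U42ZTCRel0
import Cfsg.Agent.Lib.Helper6.U42ZTCRel1
import Cfsg.Agent.Lib.Helper6.U42ZTCRel2
import Cfsg.Agent.Lib.Helper6.U42ZTCTab0
import Cfsg.Agent.Lib.Helper6.U42ZTCTab1
import Cfsg.Agent.Lib.Helper6.U42ZTCTree0
import Cfsg.Agent.Lib.Helper6.U42ZTCTree1

/-! # U42Z: the checks of the words, the coset table and the relators -/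

set_option autoImplicit false

namespace Cfsg.Agent.Lib.Helper6.U42ZTC

open Cfsg.Agent.Lib.Helper6.TC Cfsg.Spor Cfsg.Agent.Lib.Helper6.U42Sub

/-- the generator with a given code -/
def gen : ℕ → P5.Gen
  | 0 => .a
  | 1 => .b
  | 2 => .c
  | 3 => .d
  | _ => .e

/-- the code of a generator -/
def code : P5.Gen → ℕ
  | .a => 0
  | .b => 1
  | .c => 2
  | .d => 3
  | .e => 4

theorem chk_words : wordsSrcOK cfg (coxWordsL P5.edges gen cfg.g ++ extraWords) nw srcs = true := by
  decide +kernel

theorem chk_tab : tab.tabOK = true := by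
  refine tab.tabOK_of_chunks 3000 9 (by norm_num) (by show 25920 ≤ 9 * 3000; norm_num) ?_
  intro k hk
  interval_cases k
  · exact chk_tab0
  · exact chk_tab1
  · exact chk_tab2
  · exact chk_tab3
  · exact chk_tab4
  · exact chk_tab5
  · exact chk_tab6
  · exact chk_tab7
  · exact chk_tab8

theorem chk_tree : tab.treeOK = true := by
  refine tab.treeOK_of_chunks 3000 9 (by norm_num) (by show 25920 ≤ 9 * 3000; norm_num) ?_
  intro k hk
  interval_cases k
  · exact chk_tree0
  · exact chk_tree1
  · exact chk_tree2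
  · exact chk_tree3
  · exact chk_tree4
  · exact chk_tree5
  · exact chk_tree6
  · exact chk_tree7
  · exact chk_tree8

theorem extraWords_eq : (extraPow.map fun p => (List.replicate p.2 p.1).flatten) = extraWords := by
  decide +kernel

theorem pows_eq : coxPairs P5.edges gen tab.g ++ extraPow = allPow := by
  decide +kernel

theorem chk_pows : tab.powsOK (coxPairs P5.edges gen tab.g ++ extraPow) = true := by
  rw [pows_eq]
  simp only [allPow, Tab.powsOK_cons, Tab.powsOK_nil, Bool.and_eq_true, and_true]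
  exact ⟨chk_pow0, chk_pow1, chk_pow2, chk_pow3, chk_pow4, chk_pow5, chk_pow6, chk_pow7, chk_pow8, chk_pow9, chk_pow10⟩

theorem chk_rels : tab.relsOK (coxWordsL P5.edges gen cfg.g ++ extraWords) = true := by
  rw [← extraWords_eq]
  exact Tab.relsOK_of_powsOK chk_tab P5.edges gen extraPow chk_pows

theorem chk_sub : subOK cfg tab subW = true := by decide +kernel

end Cfsg.Agent.Lib.Helper6.U42ZTC
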