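import Cfsg.Agent.Lib.Helper6.U42PSimp
import Cfsg.Agent.Lib.Helper6.U42PTC
import Cfsg.Agent.Lib.Helper6.U42ZTC

/-! # The presented group `P5` (that is `U4(2)`) is simple of order 25920 -/

set_option autoImplicit false

namespace Cfsg.Agent.Lib.Helper6.U42Simple

open Cfsg.Spor Cfsg.Agent.Lib.Helper6.Simp Cfsg.Agent.Lib.Helper6.U42Sub
  Cfsg.Agent.Lib.Helper6.TC Cfsg.Agent.Lib.Helper6.NatArr

/-- the order is at most 25920 -/
theorem ub : Finite P5 ∧ Nat.card P5 ≤ 25920 := by
  have h := finite_card_of_index_empty U42ZTC.main (by norm_num)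
  exact ⟨h.1, le_of_eq h.2⟩

theorem chk_cover : allBelow 40 (fun b => Nat.beq b 0 ||
    (btest U42PTC.orbB1 b || btest U42PTC.orbB2 b)) = true := by decide +kernel

theorem chk_o1 : U42PTC.orbB1.testBit 0 = false := by decide +kernel

theorem chk_o2 : U42PTC.orbB2.testBit 0 = false := by decide +kernel

theorem chk_disj0_1 : Nat.land U42PTC.orbB1 U42PTC.orbB2 = 0 := by decide +kernel

theorem chk_disj1_0 : Nat.land U42PTC.orbB2 U42PTC.orbB1 = 0 := by decide +kernel

/-- **the presented group is simple of order 25920** -/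
theorem main : IsSimpleGroup P5 ∧ Nat.card P5 = 25920 := by
  refine simple_card U42PTC.data ub U42PSimp.levels U42PSimp.chain_ok U42PSimp.chain_prod
    (r := 2) ![U42PTC.orb1, U42PTC.orb2] ![12, 27]
    ?_ ?_ ?_ ?_ ?_ 5 ?_ U42PSimp.us U42PSimp.chk_pow ?_
  · intro i
    fin_cases i
    · exact U42PTC.chk_cnt1
    · exact U42PTC.chk_cnt2
  · intro b hb
    have h := allBelow_spec _ _ chk_cover b hb
    simp only [Bool.or_eq_true, btest_eq] at h
    rcases h with h | h | h
    · exact Or.inl (Nat.eq_of_beq_eq_true h)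
    · exact Or.inr ⟨0, h⟩
    · exact Or.inr ⟨1, h⟩
  · intro i j hij
    fin_cases i <;> fin_cases j
    · exact absurd rfl hij
    · exact chk_disj0_1
    · exact chk_disj1_0
    · exact absurd rfl hij
  · intro i
    fin_cases i
    · exact chk_o1
    · exact chk_o2
  · show ∀ I : Finset (Fin 2), I.Nonempty → (1 + ∑ i ∈ I, ![12, 27] i) ∣ 40 →
      1 + ∑ i ∈ I, ![12, 27] i = 40
    decide
  · show (25920 / 40).Coprime 5
    norm_num
  · show 1 < 40
    norm_num

end Cfsg.Agent.Lib.Helper6.U42Simple
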