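import Cfsg.Agent.Lib.Helper6.U42SpMat
import Cfsg.Agent.Lib.Helper6.U42Simple
import Cfsg.Agent.Lib.Helper6.CoxLift
import Cfsg.Agent.Lib.Helper6.T3Gen
import Cfsg.Agent.Lib.Helper6.SpTransport
import Cfsg.Agent.S0245
import Cfsg.Agent.S0246

/-! # The presented group `P5` is the projective symplectic group `PSp(4, 3)`

The generators go to the classes of five symplectic matrices; the relators go to scalar matrices,
which are central. The homomorphism is injective since `P5` is simple, and bijective since the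
orders agree. -/

set_option autoImplicit false
set_option linter.constructorNameAsVariable false

namespace Cfsg.Agent.Lib.Helper6.U42Sp

open Cfsg Cfsg.Agent.Lib.Helper6.ChevMatL Cfsg.Agent.Lib.Helper6.TC Cfsg.Agent.Lib.Helper6.U42Sub
  Cfsg.Agent.Lib.Helper6.U42SpMat Cfsg.Spor Cfsg.Agent.Lib.Helper6.Simp
  Cfsg.Agent.Lib.Helper6.T3Gen Matrix

/-- the field -/
abbrev F3 : Type := ZMod 3

/-- the set of indices -/
abbrev I4 : Type := Fin 2 ⊕ Fin 2

/-- the matrices -/
abbrev M : Type := Matrix I4 I4 F3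

/-- the symplectic group -/
abbrev S : Type := ↥(symplecticGroup (Fin 2) F3)

/-- the matrix with the given columns -/
def mt (Y : List (List F3)) : M := toMt 2 2 Y

/-- the matrix with the given rows -/
def mr (X : List (List F3)) : M := toM 2 2 X

theorem mt_transp (Y : List (List F3)) : mt (transp 4 Y) = mr Y := toMt_transp 2 2 Y

theorem mt_transpose (Y : List (List F3)) : (mt Y)ᵀ = mr Y := rfl

theorem mr_idL : mr (idL 4) = 1 := (toM_one 2 2).symm

theorem mt_prod (Ms : List (List (List F3))) (h : ∀ Y ∈ Ms, colsOK 4 Y) :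
    (Ms.map mt).prod = mr (prodT 4 Ms) :=
  (toM_prodT 2 2 Ms h).symm

theorem J_eq_mr : J (Fin 2) F3 = mr jR := by decide +kernel

theorem J_eq_mt : J (Fin 2) F3 = mt jC := by decide +kernel

theorem genLt_mem (x : ℕ) : genLt x ∈ genTbl := by
  unfold genLt
  by_cases h : x < genTbl.length
  · rw [List.getD_eq_getElem _ _ h]
    exact List.getElem_mem h
  · rw [List.getD_eq_default _ _ (Nat.le_of_not_gt h)]
    simp [genTbl]

/-- the matrix of a generator -/
def gMt (x : ℕ) : M := mt (genLt x)

theorem gMt_symp (x : ℕ) : gMt x * J (Fin 2) F3 * (gMt x)ᵀ = J (Fin 2) F3 := by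
  have h1 := mt_prod [genLt x, jC, transp 4 (genLt x)] (by
    intro Z hZ
    simp only [List.mem_cons, List.not_mem_nil, or_false] at hZ
    rcases hZ with rfl | rfl | rfl
    · exact chk_gcols _ (genLt_mem x)
    · exact chk_jcols
    · exact chk_tcols _ (genLt_mem x))
  rw [chk_symp _ (genLt_mem x)] at h1
  simp only [List.map_cons, List.map_nil, List.prod_cons, List.prod_nil, mul_one] at h1
  rw [mt_transp, ← mt_transpose, ← J_eq_mt, ← J_eq_mr, ← mul_assoc] at h1
  exact h1

/-- the matrix of a generator, in the symplectic group -/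
def gS (x : ℕ) : S := ⟨gMt x, SymplecticGroup.mem_iff.2 (gMt_symp x)⟩

theorem genLt_cols (w : List ℕ) : ∀ Y ∈ w.map genLt, colsOK 4 Y := by
  intro Y hY
  obtain ⟨x, _, rfl⟩ := List.mem_map.1 hY
  exact chk_gcols _ (genLt_mem x)

theorem coe_prod_gS (w : List ℕ) : (((w.map gS).prod : S) : M) = (w.map gMt).prod := by
  induction w with
  | nil => rfl
  | cons x w ih =>
    rw [List.map_cons, List.prod_cons, Submonoid.coe_mul, ih, List.map_cons, List.prod_cons]
    rfl

theorem prod_gS_val (w : List ℕ) : (((w.map gS).prod : S) : M) = mr (prodT 4 (w.map genLt)) := by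
  rw [coe_prod_gS, ← mt_prod (w.map genLt) (genLt_cols w), List.map_map]
  rfl

theorem gS_mul_self (x : ℕ) : gS x * gS x = 1 := by
  have h := prod_gS_val [x, x]
  simp only [List.map_cons, List.map_nil, List.prod_cons, List.prod_nil, mul_one] at h
  rw [chk_ginv _ (genLt_mem x), mr_idL] at h
  exact Subtype.ext h

/-! ### scalar matrices -/

theorem mr_scal (c : F3) : mr (scal c) = c • (1 : M) := by
  ext i j
  show entry (scal c) (code 2 2 i) (code 2 2 j) = _
  unfold scal
  rw [entry_table 4 _ (code_lt 2 2 i) (code_lt 2 2 j), Matrix.smul_apply, Matrix.one_apply]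
  by_cases h : i = j
  · subst h
    rw [if_pos rfl, if_pos rfl, smul_eq_mul, mul_one]
  · rw [if_neg h, smul_zero]
    exact if_neg (fun h' => h (code_injective 2 2 h'))

theorem isScal_spec {X : List (List F3)} (h : isScal X = true) : ∃ c : F3, X = scal c := by
  unfold isScal at h
  rw [Bool.or_eq_true] at h
  rcases h with h | h
  · exact ⟨_, of_decide_eq_true h⟩
  · exact ⟨_, of_decide_eq_true h⟩

/-! ### the homomorphism -/

/-- the images of the generators -/
def fgen (a : P5.Gen) : PSp 2 F3 := ((gS (U42PTC.code a) : S) : PSp 2 F3)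

theorem fgen_gen {x : ℕ} (hx : x < 5) : fgen (U42PTC.gen x) = ((gS x : S) : PSp 2 F3) := by
  interval_cases x <;> rfl

theorem prod_fgen {w : List ℕ} (hw : ∀ x ∈ w, x < 5) :
    (w.map fun x => fgen (U42PTC.gen x)).prod = (((w.map gS).prod : S) : PSp 2 F3) := by
  induction w with
  | nil => rfl
  | cons x w ih =>
    rw [List.map_cons, List.prod_cons, List.map_cons, List.prod_cons, QuotientGroup.mk_mul,
      ih (fun y hy => hw y (List.mem_cons_of_mem _ hy)), fgen_gen (hw x List.mem_cons_self)]

theorem word_eq_one {w : List ℕ}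
    (hw : w ∈ coxWordsL P5.edges U42PTC.gen 5 ++ U42PTC.extraWords) :
    (w.map fun x => fgen (U42PTC.gen x)).prod = 1 := by
  have h1 := List.all_eq_true.1 chk_rels w hw
  have h2 := List.all_eq_true.1 chk_rels_lt w hw
  have h4 : ∀ x ∈ w, x < 5 := fun x hx => of_decide_eq_true (List.all_eq_true.1 h2 x hx)
  rw [prod_fgen h4, QuotientGroup.eq_one_iff]
  obtain ⟨c, hc⟩ := isScal_spec h1
  apply SpTransport.scalar_mem_center 2 _ c
  rw [prod_gS_val, hc, mr_scal]

theorem fgen_mul_self (a : P5.Gen) : fgen a * fgen a = 1 := by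
  unfold fgen
  rw [← QuotientGroup.mk_mul, gS_mul_self, QuotientGroup.mk_one]

theorem lift_rel : ∀ r ∈ coxRelators P5.edges ∪ {r | r ∈ P5.extra}, FreeGroup.lift fgen r = 1 :=
  CoxLift.lift_eq_one_of_words U42PTC.gen U42PTC.code 5 U42PTC.extraWords
    (by intro a; cases a <;> exact ⟨by decide, rfl⟩) fgen
    (U42PTC.extra_iff fgen fgen_mul_self) fun _ hw => word_eq_one hw

/-- the homomorphism from the presented group to the projective symplectic group -/
def ψ : P5 →* PSp 2 F3 := PresentedGroup.toGroup lift_rel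

theorem ψ_of (a : P5.Gen) : ψ (PresentedGroup.of a) = fgen a := PresentedGroup.toGroup.of _

theorem not_comm : gS 0 * gS 1 ≠ gS 1 * gS 0 := by
  intro h
  have e1 := prod_gS_val [0, 1]
  have e2 := prod_gS_val [1, 0]
  simp only [List.map_cons, List.map_nil, List.prod_cons, List.prod_nil, mul_one] at e1 e2
  rw [h, e2] at e1
  obtain ⟨i, j, hij⟩ := chk_nc
  exact hij (congrFun (congrFun e1 i) j).symm

theorem ψ_ne_one : ψ (PresentedGroup.of P5.Gen.a) ≠ 1 := by
  intro h
  rw [ψ_of] at h
  have h2 : gS 0 ∈ Subgroup.center S := (QuotientGroup.eq_one_iff _).1 h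
  exact not_comm (Subgroup.mem_center_iff.1 h2 (gS 1)).symm

theorem ψ_injective : Function.Injective ψ := by
  have hs : IsSimpleGroup P5 := U42Simple.main.1
  exact injective_of_simple ψ ψ_ne_one

theorem card_PSp : Nat.card (PSp 2 F3) = 25920 := by
  have hF : Fintype.card F3 = 3 := ZMod.card 3
  have h1 := Cfsg.Agent.S0245.result hF 2
  have h2 := Cfsg.Agent.S0246.result hF 2 (by norm_num)
  have h3 := Subgroup.card_eq_card_quotient_mul_card_subgroup (Subgroup.center S)
  rw [h1, h2] at h3
  have h4 : 3 ^ 2 ^ 2 * ∏ i ∈ Finset.range 2, (3 ^ (2 * (i + 1)) - 1) = 51840 := by decide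
  have h5 : Nat.gcd 2 (3 - 1) = 2 := by decide
  rw [h4, h5] at h3
  show Nat.card (S ⧸ Subgroup.center S) = 25920
  omega

theorem ψ_bijective : Function.Bijective ψ := by
  have hc : Nat.card P5 = 25920 := U42Simple.main.2
  have : Finite (PSp 2 F3) := Nat.finite_of_card_ne_zero (by rw [card_PSp]; norm_num)
  exact ψ_injective.bijective_of_nat_card_le (by rw [card_PSp, hc])

/-- the presented group is the projective symplectic group -/
noncomputable def isoPSp : P5 ≃* PSp 2 F3 := MulEquiv.ofBijective ψ ψ_bijective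

end Cfsg.Agent.Lib.Helper6.U42Sp
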