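import Cfsg.Agent.Lib.Helper6.ChevMatL
import Cfsg.Agent.Lib.Helper6.U42PTCChk2

/-! # Five symplectic matrices of degree four over the field with three elements that satisfy the
relators of the presentation `P5` of `U₄(2)` up to sign (generated; the matrices were found by a
search). The matrices are given by the lists of their columns. -/

set_option autoImplicit false
set_option maxRecDepth 1000000
set_option maxHeartbeats 4000000

namespace Cfsg.Agent.Lib.Helper6.U42SpMat

open Cfsg.Agent.Lib.Helper6.ChevMatL Cfsg.Agent.Lib.Helper6.TC Cfsg.Agent.Lib.Helper6.U42Sub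

/-- the matrix of the generator a -/
def gA : List (List (ZMod 3)) :=
  [[1, 2, 0, 0],
   [0, 2, 0, 0],
   [0, 2, 1, 0],
   [1, 0, 2, 2]]

/-- the matrix of the generator b -/
def gB : List (List (ZMod 3)) :=
  [[1, 0, 0, 1],
   [1, 2, 2, 0],
   [0, 0, 1, 1],
   [0, 0, 0, 2]]

/-- the matrix of the generator c -/
def gC : List (List (ZMod 3)) :=
  [[1, 2, 0, 1],
   [0, 2, 2, 0],
   [0, 0, 1, 0],
   [0, 0, 2, 2]]

/-- the matrix of the generator d -/
def gD : List (List (ZMod 3)) :=
  [[1, 1, 0, 1],
   [0, 2, 2, 0],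
   [0, 0, 1, 0],
   [0, 0, 1, 2]]

/-- the matrix of the generator e -/
def gE : List (List (ZMod 3)) :=
  [[1, 0, 0, 0],
   [0, 2, 0, 0],
   [0, 0, 1, 0],
   [0, 0, 0, 2]]

/-- the table of the matrices of the generators -/
def genTbl : List (List (List (ZMod 3))) := [gA, gB, gC, gD, gE]

/-- the matrices of the generators -/
def genLt (x : ℕ) : List (List (ZMod 3)) := genTbl.getD x gE

/-- the matrix of the symplectic form, by its rows -/
def jR : List (List (ZMod 3)) :=
  [[0, 0, 2, 0],
   [0, 0, 0, 2],
   [1, 0, 0, 0],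
   [0, 1, 0, 0]]

/-- the matrix of the symplectic form, by its columns -/
def jC : List (List (ZMod 3)) :=
  [[0, 0, 1, 0],
   [0, 0, 0, 1],
   [2, 0, 0, 0],
   [0, 2, 0, 0]]

/-- the scalar matrix -/
def scal (c : ZMod 3) : List (List (ZMod 3)) :=
  (List.range 4).map fun i => (List.range 4).map fun j => if i = j then c else 0

/-- a nonzero scalar matrix -/
def isScal (X : List (List (ZMod 3))) : Bool := decide (X = scal 1) || decide (X = scal 2)

theorem chk_gcols : ∀ Y ∈ genTbl, colsOK 4 Y := by decide +kernel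

theorem chk_jcols : colsOK 4 jC := by decide +kernel

theorem chk_tcols : ∀ Y ∈ genTbl, colsOK 4 (transp 4 Y) := by decide +kernel

theorem chk_symp : ∀ Y ∈ genTbl, prodT 4 [Y, jC, transp 4 Y] = jR := by decide +kernel

theorem chk_ginv : ∀ Y ∈ genTbl, prodT 4 [Y, Y] = idL 4 := by decide +kernel

theorem chk_transp_id : transp 4 (idL 4 : List (List (ZMod 3))) = idL 4 := by decide +kernel

theorem chk_rels : (coxWordsL P5.edges U42PTC.gen 5 ++ U42PTC.extraWords).all
    (fun w => isScal (prodT 4 (w.map genLt))) = true := by decide +kernel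

theorem chk_rels_lt : (coxWordsL P5.edges U42PTC.gen 5 ++ U42PTC.extraWords).all
    (fun w => w.all fun x => decide (x < 5)) = true := by decide +kernel

theorem chk_nc : ∃ i j : Fin 2 ⊕ Fin 2, entry (prodT 4 [genLt 0, genLt 1]) (code 2 2 i) (code 2 2 j) ≠
    entry (prodT 4 [genLt 1, genLt 0]) (code 2 2 i) (code 2 2 j) := by decide +kernel

end Cfsg.Agent.Lib.Helper6.U42SpMat
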