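import Cfsg.Agent.Lib.Helper6.U42ZSCert

/-! # U42Z: the kernel check of the rows from 9600 on -/

set_option autoImplicit false

namespace Cfsg.Agent.Lib.Helper6.U42ZTC

open Cfsg.Agent.Lib.Helper6.TC Cfsg.Agent.Lib.Helper6.TCS

theorem chk_rows1_0 : cert.rowsOK 9600 600 = true := by decide +kernel

theorem chk_rows1_1 : cert.rowsOK 10200 600 = true := by decide +kernel

theorem chk_rows1_2 : cert.rowsOK 10800 600 = true := by decide +kernel

theorem chk_rows1_3 : cert.rowsOK 11400 600 = true := by decide +kernel

theorem chk_rows1_4 : cert.rowsOK 12000 600 = true := by decide +kernel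

theorem chk_rows1_5 : cert.rowsOK 12600 600 = true := by decide +kernel

theorem chk_rows1_6 : cert.rowsOK 13200 600 = true := by decide +kernel

theorem chk_rows1_7 : cert.rowsOK 13800 600 = true := by decide +kernel

theorem chk_rows1_8 : cert.rowsOK 14400 600 = true := by decide +kernel

theorem chk_rows1_9 : cert.rowsOK 15000 600 = true := by decide +kernel

theorem chk_rows1_10 : cert.rowsOK 15600 600 = true := by decide +kernel

theorem chk_rows1_11 : cert.rowsOK 16200 600 = true := by decide +kernel

theorem chk_rows1_12 : cert.rowsOK 16800 600 = true := by decide +kernel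

theorem chk_rows1_13 : cert.rowsOK 17400 600 = true := by decide +kernel

theorem chk_rows1_14 : cert.rowsOK 18000 600 = true := by decide +kernel

theorem chk_rows1_15 : cert.rowsOK 18600 600 = true := by decide +kernel

theorem chk_range1 : ∀ a, 9600 ≤ a → a < 9600 + 9600 → ∀ x < cert.c.g, cert.slotOK a x = true := by
  refine cert.range_of_chunks 9600 600 16 (by norm_num) ?_
  intro k hk
  interval_cases k
  · exact chk_rows1_0
  · exact chk_rows1_1
  · exact chk_rows1_2
  · exact chk_rows1_3
  · exact chk_rows1_4
  · exact chk_rows1_5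
  · exact chk_rows1_6
  · exact chk_rows1_7
  · exact chk_rows1_8
  · exact chk_rows1_9
  · exact chk_rows1_10
  · exact chk_rows1_11
  · exact chk_rows1_12
  · exact chk_rows1_13
  · exact chk_rows1_14
  · exact chk_rows1_15

end Cfsg.Agent.Lib.Helper6.U42ZTC
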