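import Cfsg.Agent.Lib.Helper6.U42ZSRows0
import Cfsg.Agent.Lib.Helper6.U42ZSRows1
import Cfsg.Agent.Lib.Helper6.U42ZSRows2
import Cfsg.Agent.Lib.Helper6.U42ZSRows3
import Cfsg.Agent.Lib.Helper6.U42ZSMRows0
import Cfsg.Agent.Lib.Helper6.U42ZSFin0
import Cfsg.Agent.Lib.Helper6.U42ZSFin1

/-! # U42Z: the coset enumeration is checked -/

set_option autoImplicit false

namespace Cfsg.Agent.Lib.Helper6.U42ZTC

open Cfsg.Agent.Lib.Helper6.TC Cfsg.Agent.Lib.Helper6.TCS

theorem chk_rows : ∀ a < cert.N, ∀ x < cert.c.g, cert.slotOK a x = true := by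
  refine cert.rows_of_ranges 9600 4 (by norm_num) (by show 35845 ≤ 4 * 9600; norm_num) ?_
  intro f hf
  interval_cases f
  · exact chk_range0
  · exact chk_range1
  · exact chk_range2
  · exact chk_range3

theorem chk_mrows : ∀ b < cert.N, cert.mslotOK b = true := by
  refine cert.mrows_of_ranges 40000 1 (by norm_num) (by show 35845 ≤ 1 * 40000; norm_num) ?_
  intro f hf
  interval_cases f
  · exact chk_mrange0

theorem chk_fin : cert.finalOK 25920 = true := by
  refine cert.finalOK_of_chunks 25920 3000 9 (by norm_num) (by show 25920 ≤ 9 * 3000; norm_num) ?_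
  intro k hk
  interval_cases k
  · exact chk_fin0
  · exact chk_fin1
  · exact chk_fin2
  · exact chk_fin3
  · exact chk_fin4
  · exact chk_fin5
  · exact chk_fin6
  · exact chk_fin7
  · exact chk_fin8

theorem hrun : RunCert cfg tab.n :=
  RunCert.of_static cert 25920 (by norm_num) chk_rows chk_mrows chk_fin

end Cfsg.Agent.Lib.Helper6.U42ZTC
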