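import Cfsg.Agent.Lib.Helper6.SimpUB
import Cfsg.Agent.Lib.Helper6.U42Sub

/-! # A presentation of the unitary group U4(3) on six involutions, extending the presentation of U4(2) -/

set_option autoImplicit false
set_option linter.unusedSimpArgs false

namespace Cfsg.Agent.Lib.Helper6.U43Sub

open Cfsg.Spor Cfsg.Agent.Lib.Helper6.Simp Cfsg.Agent.Lib.Helper6.U42Sub

namespace Q6

/-- the generators a, b, c, d, e, f -/
inductive Gen
  | a
  | b
  | c
  | d
  | e
  | f
  deriving DecidableEq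

abbrev a : FreeGroup Gen := FreeGroup.of Gen.a
abbrev b : FreeGroup Gen := FreeGroup.of Gen.b
abbrev c : FreeGroup Gen := FreeGroup.of Gen.c
abbrev d : FreeGroup Gen := FreeGroup.of Gen.d
abbrev e : FreeGroup Gen := FreeGroup.of Gen.e
abbrev f : FreeGroup Gen := FreeGroup.of Gen.f

/-- the Coxeter graph -/
def edges : List (Gen × ℕ × Gen) :=
  [(.a, 3, .b), (.b, 3, .c), (.c, 3, .d), (.a, 3, .e), (.b, 3, .e), (.c, 3, .e), (.d, 3, .e), (.a, 3, .f), (.b, 3, .f), (.c, 3, .f), (.d, 4, .f), (.e, 3, .f)]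

/-- the further relators -/
def extra : List (FreeGroup Gen) := [  d * e * a * c * d * e * a * b * d * e * c * d * a * e * b * c * a * b * a,
  (a * b * f) ^ 2,
  (b * c * f) ^ 2,
  (b * e * f) ^ 2,
  (a * d * f) ^ 3,
  (a * d * e * f) ^ 5]

end Q6

/-- the presented group -/
abbrev Q6 : Type := CoxPresented Q6.Gen Q6.edges Q6.extra

/-- the inclusion of the generators of `P5` -/
def ι5 : P5.Gen → Q6.Gen
  | .a => .a
  | .b => .b
  | .c => .c
  | .d => .d
  | .e => .e

/-- `P5` maps to `Q6` -/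
def subP5 : SubPres Q6.edges Q6.extra P5.edges P5.extra where
  ι := ι5
  hnode := by decide
  hlabel := by decide
  hextra := by
    intro r hr
    simp only [P5.extra, List.mem_cons, List.not_mem_nil, or_false] at hr
    rcases hr with rfl
    simp only [map_mul, map_inv, map_pow, FreeGroup.map.of, ι5, Q6.extra, List.mem_cons,
      true_or, or_true]

theorem rangeP5 : (Set.range fun y => FreeGroup.of (subP5.ι y)) =
    ({Q6.a, Q6.b, Q6.c, Q6.d, Q6.e} : Set (FreeGroup Q6.Gen)) := by
  ext z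
  constructor
  · rintro ⟨y, rfl⟩
    cases y <;> simp [subP5, ι5]
  · intro hz
    simp only [Set.mem_insert_iff, Set.mem_singleton_iff] at hz
    rcases hz with rfl | rfl | rfl | rfl | rfl
    · exact ⟨.a, rfl⟩
    · exact ⟨.b, rfl⟩
    · exact ⟨.c, rfl⟩
    · exact ⟨.d, rfl⟩
    · exact ⟨.e, rfl⟩

end Cfsg.Agent.Lib.Helper6.U43Sub
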