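import Cfsg.Agent.Lib.Helper6.U43QSimp
import Cfsg.Agent.Lib.Helper6.U43QTC
import Cfsg.Agent.Lib.Helper6.U42Simple

/-! # The presentation Q6 (that is `U4(3)`) is simple of order 3265920 -/

set_option autoImplicit false

namespace Cfsg.Agent.Lib.Helper6.U43QSimple

open Cfsg.Spor Cfsg.Agent.Lib.Helper6.Simp Cfsg.Agent.Lib.Helper6.U43Sub Cfsg.Agent.Lib.Helper6.TC
  Cfsg.Agent.Lib.Helper6.NatArr Cfsg.Agent.Lib.Helper6.U42Sub

/-- the upper bound for the order, over the sub-presentation of `U4(2)` -/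
theorem ub : Finite Q6 ∧ Nat.card Q6 ≤ 3265920 := by
  have h3 : Finite P5 ∧ Nat.card P5 ≤ 25920 := U42Simple.ub
  have h0 := subP5.finite_card_le U43QTC.S rangeP5.symm U43QTC.main (by norm_num) h3.1 h3.2
  exact ⟨h0.1, h0.2.trans (by norm_num)⟩

theorem chk_cover : allBelow 126 (fun b => Nat.beq b 0 ||
    (btest U43QTC.orbB1 b || btest U43QTC.orbB2 b)) = true := by decide +kernel

theorem chk_disj0_1 : Nat.land U43QTC.orbB1 U43QTC.orbB2 = 0 := by decide +kernel

theorem chk_disj1_0 : Nat.land U43QTC.orbB2 U43QTC.orbB1 = 0 := by decide +kernel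

theorem chk_o0 : U43QTC.orbB1.testBit 0 = false := by decide +kernel

theorem chk_o1 : U43QTC.orbB2.testBit 0 = false := by decide +kernel

/-- **The presentation Q6 is simple of order 3265920** -/
theorem main : IsSimpleGroup Q6 ∧ Nat.card Q6 = 3265920 := by
  refine simple_card U43QTC.data ub U43QSimp.levels U43QSimp.chain_ok U43QSimp.chain_prod
    (r := 2) ![U43QTC.orb1, U43QTC.orb2] ![80, 45] ?_ ?_ ?_ ?_ ?_ 7 ?_ U43QSimp.us
    U43QSimp.chk_pow ?_
  · intro i
    fin_cases i
    · exact U43QTC.chk_cnt1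
    · exact U43QTC.chk_cnt2
  · intro b hb
    have h := allBelow_spec _ _ chk_cover b hb
    simp only [Bool.or_eq_true, btest_eq] at h
    rcases h with h | h | h
    · exact Or.inl (Nat.eq_of_beq_eq_true h)
    · exact Or.inr ⟨0, h⟩
    · exact Or.inr ⟨1, h⟩
  · intro i j hij
    fin_cases i <;> fin_cases j
    · exact absurd rfl hij
    · exact chk_disj0_1
    · exact chk_disj1_0
    · exact absurd rfl hij
  · intro i
    fin_cases i
    · exact chk_o0
    · exact chk_o1
  · show ∀ I : Finset (Fin 2), I.Nonempty → (1 + ∑ i ∈ I, ![80, 45] i) ∣ 126 →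
      1 + ∑ i ∈ I, ![80, 45] i = 126
    decide
  · show (3265920 / 126).Coprime 7
    norm_num
  · show 1 < 126
    norm_num

end Cfsg.Agent.Lib.Helper6.U43QSimple
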