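import Cfsg.Agent.Lib.Helper6.U43CoRel
import Cfsg.Agent.Lib.Helper6.LeechSimpleMcL
import Cfsg.Agent.Lib.Helper6.U43Unit

/-!
# The stabiliser of a vector of type 3, a minimal vector and a third minimal vector (a point of the
McLaughlin graph) is the unitary group `PSU(4, 3)`

The presented group `Q6` maps to the stabiliser of the three reference vectors; the map is injective
since `Q6` is simple, and bijective since the orders agree (the stabiliser of the first two vectors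
has order 898128000 and is transitive on the 275 vectors in question).
-/

set_option autoImplicit false
set_option linter.constructorNameAsVariable false

namespace Cfsg.Agent.Lib.Helper6.Leech

open Cfsg MulAction
open Cfsg.Agent.Lib.Helper6.Golay Cfsg.Agent.Lib.Helper6.U43Sub Cfsg.Agent.Lib.Helper6.TC
  Cfsg.Agent.Lib.Helper6.T3Gen Cfsg.Spor

/-- an automorphism acts on lists as a word -/
def ActsW (t : Co0) (w : List Prim) : Prop :=
  ∀ (x : List ℤ) (hx : vecOf x ∈ leechLattice),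
    ((t.1 ⟨vecOf x, hx⟩ : leechLattice) : GolayPt → ℤ) = vecOf (actW w x)

theorem ActsW.one : ActsW 1 [] := fun _ _ => rfl

theorem ActsW.mul {t1 t2 : Co0} {w1 w2 : List Prim} (h1 : ActsW t1 w1) (h2 : ActsW t2 w2) :
    ActsW (t2 * t1) (w1 ++ w2) := by
  intro x hx
  have hx' : vecOf (actW w1 x) ∈ leechLattice := by rw [← h1 x hx]; exact (t1.1 ⟨vecOf x, hx⟩).2
  have e : t1.1 ⟨vecOf x, hx⟩ = ⟨vecOf (actW w1 x), hx'⟩ := Subtype.ext (h1 x hx)
  show ((t2.1 (t1.1 ⟨vecOf x, hx⟩) : leechLattice) : GolayPt → ℤ) = _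
  rw [e, h2 _ hx', actW, actW, actW, List.foldl_append]

theorem ActsW.eq_one {t : Co0} {w : List Prim} (h : ActsW t w)
    (h2 : ∀ i < 24, actW w (neg8L i) = neg8L i) : t = 1 := by
  apply co0_eq_one_of_v8
  intro p
  have hp := h2 (idx p) (idx_lt p)
  have hm : vecOf (neg8L (idx p)) ∈ leechLattice := by rw [vecOf_neg8L]; exact (-(v8 p)).2
  have e0 : (⟨vecOf (neg8L (idx p)), hm⟩ : leechLattice) = -(v8 p) := Subtype.ext (vecOf_neg8L p)
  have e1 : t.1 ⟨vecOf (neg8L (idx p)), hm⟩ = ⟨vecOf (neg8L (idx p)), hm⟩ := by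
    apply Subtype.ext
    rw [h _ hm, hp]
  rw [e0, co0_neg, neg_inj] at e1
  exact e1

theorem ActsW.fix {t : Co0} {w : List Prim} (h : ActsW t w) {r : List ℤ}
    (hr : vecOf (actW w r) = vecOf r) (hm : vecOf r ∈ leechLattice) :
    t.1 ⟨vecOf r, hm⟩ = ⟨vecOf r, hm⟩ := by
  apply Subtype.ext
  rw [h _ hm, hr]

/-! ### the images of the generators -/

theorem u4Good (x : ℕ) : GoodWord [u0L, v0L, x1L] (u4Word x) :=
  goodWord_getD (goodWord_of_checkGens u4Perms_rep u4Tbl_ok) x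

/-- the automorphism of a generator -/
noncomputable def gCo4 (x : ℕ) : Co0 := Classical.choose (actW_sound (u4Word x) (u4Good x).1)

theorem gCo4_acts (x : ℕ) : ActsW (gCo4 x) (u4Word x) :=
  Classical.choose_spec (actW_sound (u4Word x) (u4Good x).1)

theorem prod_acts4 (w : List ℕ) : ActsW ((w.map gCo4).prod) (bigWord4 w) := by
  induction w with
  | nil => exact ActsW.one
  | cons a w ih =>
    rw [List.map_cons, List.prod_cons]
    exact ActsW.mul ih (gCo4_acts a)

/-- the stabiliser of the three reference vectors -/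
def u4Ref : Subgroup Co0 := stabilizer Co0 u0 ⊓ stabilizer Co0 v0' ⊓ stabilizer Co0 x1'

theorem gCo4_mem (x : ℕ) : gCo4 x ∈ u4Ref := by
  refine Subgroup.mem_inf.mpr ⟨Subgroup.mem_inf.mpr ⟨?_, ?_⟩, ?_⟩
  · exact (co0_stab_iff _ _).mpr ((gCo4_acts x).fix ((u4Good x).2 u0L (by simp)) u0L_mem)
  · exact (co0_stab_iff _ _).mpr ((gCo4_acts x).fix ((u4Good x).2 v0L (by simp)) v0L_mem)
  · exact (co0_stab_iff _ _).mpr ((gCo4_acts x).fix ((u4Good x).2 x1L (by simp)) x1L_mem)

theorem prod_gCo4_eq_one {w : List ℕ} (hw : w ∈ u4Rels) : (w.map gCo4).prod = 1 := by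
  apply (prod_acts4 w).eq_one
  intro i hi
  obtain ⟨k, hk, rfl⟩ := List.getElem_of_mem hw
  have hk' : k < 42 := by rw [← u4Rels_length]; exact hk
  have h := u4_chk_all hk' hi
  rw [chk4, beq_iff_eq, List.getD_eq_getElem _ _ hk] at h
  exact h

/-- the images of the generators -/
noncomputable def fgenCo4 (a : Q6.Gen) : ↥u4Ref := ⟨gCo4 (U43QTC.code a), gCo4_mem _⟩

theorem fgenCo4_gen {x : ℕ} (hx : x < 6) : (fgenCo4 (U43QTC.gen x) : Co0) = gCo4 x := by
  interval_cases x <;> rfl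

theorem coe_prod_fgenCo4 {w : List ℕ} (hw : ∀ x ∈ w, x < 6) :
    (((w.map fun x => fgenCo4 (U43QTC.gen x)).prod : ↥u4Ref) : Co0) = (w.map gCo4).prod := by
  induction w with
  | nil => rfl
  | cons x w ih =>
    rw [List.map_cons, List.prod_cons, Subgroup.coe_mul, ih (fun y hy => hw y (List.mem_cons_of_mem _ hy)),
      fgenCo4_gen (hw x List.mem_cons_self), List.map_cons, List.prod_cons]

theorem word_eq_one_co4 {w : List ℕ} (hw : w ∈ u4Rels) :
    (w.map fun x => fgenCo4 (U43QTC.gen x)).prod = 1 := by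
  have h2 := List.all_eq_true.1 U43Mat.chk_rels_lt w hw
  have h4 : ∀ x ∈ w, x < 6 := fun x hx => of_decide_eq_true (List.all_eq_true.1 h2 x hx)
  apply Subtype.ext
  rw [coe_prod_fgenCo4 h4, prod_gCo4_eq_one hw]
  rfl

theorem sq_mem_u4Rels : ∀ x < 6, [x, x] ∈ u4Rels := by decide +kernel

theorem fgenCo4_mul_self (a : Q6.Gen) : fgenCo4 a * fgenCo4 a = 1 := by
  have hc : U43QTC.code a < 6 ∧ U43QTC.gen (U43QTC.code a) = a := by
    cases a <;> exact ⟨by decide, rfl⟩
  have h := word_eq_one_co4 (sq_mem_u4Rels _ hc.1)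
  simp only [List.map_cons, List.map_nil, List.prod_cons, List.prod_nil, mul_one] at h
  rw [hc.2] at h
  exact h

theorem lift_rel_co4 : ∀ r ∈ coxRelators Q6.edges ∪ {r | r ∈ Q6.extra}, FreeGroup.lift fgenCo4 r = 1 :=
  CoxLift.lift_eq_one_of_words U43QTC.gen U43QTC.code 6 U43QTC.extraWords
    (by intro a; cases a <;> exact ⟨by decide, rfl⟩) fgenCo4
    (U43QTC.extra_iff fgenCo4 fgenCo4_mul_self) fun _ hw => word_eq_one_co4 hw

/-- the homomorphism from the presented group to the stabiliser -/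
noncomputable def ψCo4 : Q6 →* ↥u4Ref := PresentedGroup.toGroup lift_rel_co4

theorem ψCo4_of (a : Q6.Gen) : ψCo4 (PresentedGroup.of a) = fgenCo4 a := PresentedGroup.toGroup.of _

/-- a vector moved by the image of `a` -/
def mvL4 : List ℤ := [0, 0, 0, 4, 4, 0, 0, 0, 0, 0, 0, 0, 0, 0, 0, 0, 0, 0, 0, 0, 0, 0, 0, 0]

theorem mvL4_ok : inLeechL mvL4 = true ∧ movedBy (u4Word 0) mvL4 = true := by decide +kernel

theorem ψCo4_ne_one : ψCo4 (PresentedGroup.of Q6.Gen.a) ≠ 1 := by
  intro h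
  rw [ψCo4_of] at h
  have h1 : gCo4 0 = 1 := congrArg Subtype.val h
  have hm : vecOf mvL4 ∈ leechLattice := mem_leechLattice.mpr (inLeechL_sound _ mvL4_ok.1)
  apply moved_of_movedBy (u4Word 0) (gCo4 0) (gCo4_acts 0) mvL4 mvL4_ok.2 ⟨vecOf mvL4, hm⟩ rfl
  rw [h1]
  rfl

theorem ψCo4_injective : Function.Injective ψCo4 := by
  have hs : IsSimpleGroup Q6 := U43QSimple.main.1
  exact injective_of_simple ψCo4 ψCo4_ne_one

/-! ### the order of the stabiliser -/

/-- the 275 vectors attached to the reference pair -/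
def u4Pts : Set leechLattice := {w | (w : GolayPt → ℤ) ∈ mclSet}

theorem u4Pts_ncard : u4Pts.ncard = 275 := by
  rw [u4Pts, ncard_subtype_eq (fun y => y ∈ mclSet), ← mclSet_ncard]
  congr 1
  ext y
  exact ⟨fun h => h.2, fun h => ⟨h.1.1, h⟩⟩

theorem u4Pts_inv : ∀ k ∈ mclRef, ∀ x ∈ u4Pts, k • x ∈ u4Pts := by
  intro k hk x hx
  have h1 : k.1 u0 = u0 := (co0_stab_iff k u0).mp hk.1
  have h2 : k.1 v0' = v0' := (co0_stab_iff k v0').mp hk.2
  exact mem_mclSet_of k u0 v0' x h1 h2 hx.1.2.1 hx.1.2.2 hx.2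

theorem u4_transitive : ∀ y ∈ u4Pts, ∃ k ∈ mclRef, k • x1' = y := by
  intro y hy
  obtain ⟨g, h1, h2, h3⟩ := mcl_transitive_ref x1' y x1'_mem_mclSet hy
  exact ⟨g, ⟨h1, h2⟩, h3⟩

theorem card_u4Ref : Nat.card ↥u4Ref = 3265920 := by
  have h := card_eq_orbit_mul_stab mclRef u4Pts x1'
    (fun k hk => u4Pts_inv k hk x1' x1'_mem_mclSet) u4_transitive
  rw [card_mclRef, u4Pts_ncard] at h
  show Nat.card ↥(mclRef ⊓ stabilizer Co0 x1') = 3265920
  omega

theorem ψCo4_bijective : Function.Bijective ψCo4 := by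
  have hc : Nat.card Q6 = 3265920 := U43QSimple.main.2
  have : Finite ↥u4Ref := Nat.finite_of_card_ne_zero (by rw [card_u4Ref]; norm_num)
  exact ψCo4_injective.bijective_of_nat_card_le (by rw [card_u4Ref, hc])

/-- the presented group is the stabiliser of the three reference vectors -/
noncomputable def isoCo4 : Q6 ≃* ↥u4Ref := MulEquiv.ofBijective ψCo4 ψCo4_bijective

/-! ### arbitrary triples of vectors -/

/-- conjugate triples of vectors have isomorphic joint stabilisers -/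
theorem stab_inf3_equiv (g : Co0) (u v w : leechLattice) :
    Nonempty (↥(stabilizer Co0 u ⊓ stabilizer Co0 v ⊓ stabilizer Co0 w) ≃*
      ↥(stabilizer Co0 (g • u) ⊓ stabilizer Co0 (g • v) ⊓ stabilizer Co0 (g • w))) := by
  have e1 : stabilizer Co0 (g • u) ⊓ stabilizer Co0 (g • v) ⊓ stabilizer Co0 (g • w) =
      (stabilizer Co0 u ⊓ stabilizer Co0 v ⊓ stabilizer Co0 w).map (MulAut.conj g).toMonoidHom := by
    rw [Subgroup.map_inf_eq _ _ _ (MulAut.conj g).injective,
      Subgroup.map_inf_eq _ _ _ (MulAut.conj g).injective, stabilizer_smul_eq_stabilizer_map_conj,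
      stabilizer_smul_eq_stabilizer_map_conj, stabilizer_smul_eq_stabilizer_map_conj]
  rw [e1]
  exact ⟨Subgroup.equivMapOfInjective _ _ (MulAut.conj g).injective⟩

/-- **The stabiliser of a point of the McLaughlin graph.** -/
theorem stab_triple_equiv (u v x : leechLattice) (hu : sqNorm (u : GolayPt → ℤ) = 48)
    (hv : sqNorm (v : GolayPt → ℤ) = 32) (hd : dotInt (u : GolayPt → ℤ) (v : GolayPt → ℤ) = 24)
    (hx : sqNorm (x : GolayPt → ℤ) = 32) (hux : dotInt (u : GolayPt → ℤ) (x : GolayPt → ℤ) = 24)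
    (hvx : dotInt (v : GolayPt → ℤ) (x : GolayPt → ℤ) = 16) :
    Nonempty (↥(stabilizer Co0 u ⊓ stabilizer Co0 v ⊓ stabilizer Co0 x) ≃* Q6) := by
  obtain ⟨g, h1, h2, h3⟩ := exists_to_ref3 u v x hu hv hd hx hux hvx
  obtain ⟨e⟩ := stab_inf3_equiv g u v x
  have e1 : g • u = u0 := h1
  have e2 : g • v = v0' := h2
  have e3 : g • x = x1' := h3
  rw [e1, e2, e3] at e
  exact ⟨e.trans isoCo4.symm⟩

end Cfsg.Agent.Lib.Helper6.Leech
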