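import Cfsg.Agent.Lib.Helper6.LeechHSInv
import Cfsg.Agent.Lib.Helper6.LeechMcL2
import Cfsg.Agent.Lib.Helper6.U43QTC

/-!
# Six involutions of the automorphism group of the lattice fixing the reference triple of vectors,
satisfying the relations of a presentation of the unitary group U4(3) (generated data)
-/

set_option autoImplicit false

namespace Cfsg.Agent.Lib.Helper6.Leech

open Cfsg
open Cfsg.Agent.Lib.Helper6.Golay Cfsg.Agent.Lib.Helper6.U43Sub Cfsg.Agent.Lib.Helper6.TC


def u4Prog : List (ℕ × ℕ) := [(0, 0), (0, 1), (0, 2), (3, 0), (4, 2), (5, 0), (8, 0), (2, 2), (10, 2), (1, 1), (12, 1), (13, 2), (14, 2), (15, 0), (16, 0), (17, 2), (18, 1), (19, 2), (20, 2), (21, 0), (22, 0), (23, 1), (24, 1), (25, 0), (26, 0), (9, 27), (0, 28), (1, 28), (29, 1), (2, 28), (10, 28), (32, 2), (11, 0), (35, 2), (36, 1), (37, 1), (38, 2), (39, 2), (40, 2), (41, 2), (42, 0), (43, 2), (44, 0), (45, 2), (46, 0), (47, 0), (48, 0), (49, 0), (50, 0), (51, 2), (30, 52), (34,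 53), (0, 54), (2, 54), (28, 54), (54, 54), (4, 1), (59, 1), (60, 2), (61, 0), (62, 2), (63, 0), (64, 2), (65, 1), (66, 1), (67, 0), (68, 2), (69, 0), (70, 1), (71, 2), (72, 1), (73, 1), (74, 2), (75, 0), (76, 2), (31, 77), (33, 78), (0, 79), (55, 79), (28, 79), (54, 79), (79, 54), (84, 54), (84, 79), (1, 0), (87, 2), (88, 1), (89, 0), (90, 0), (91, 2), (92, 0), (93, 1), (94, 0), (95, 1), (96, 1), (97, 0), (98, 0), (29, 99), (28, 100), (85, 101), (2, 102), (28, 102), (56, 102), (79, 102), (102, 102), (107, 102), (2, 0), (109, 0), (110, 0), (111, 1), (112, 1), (113, 2), (114, 1), (115, 1), (81, 116), (2, 117), (79, 118), (3, 119), (2, 119), (54, 119), (79, 119), (102, 119), (119, 119), (124, 119), (8, 2), (127, 1), (128, 1), (129, 0), (130, 1), (131, 1), (132, 0), (133, 1), (134, 0), (135, 0), (136, 0), (137, 2), (138, 0), (139, 0), (140, 0), (3, 141), (105, 142), (54, 143), (125, 144), (1, 145), (3, 145), (79, 145), (122, 145), (102, 145), (126, 145), (151,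 119), (12, 0), (153, 2), (154, 2), (155, 0), (156, 1), (157, 2), (158, 0), (159, 2), (160, 0), (161, 1), (162, 2), (163, 1), (164, 0), (165, 1), (166, 1), (167, 0), (168, 0), (169, 1), (170, 2), (80, 171), (103, 172), (83, 173), (152, 174), (0, 175), (1, 175), (2, 175), (119, 175), (108, 175), (175, 175), (87, 0), (182, 1), (183, 2), (184, 2), (185, 2), (186, 0), (187, 0), (176, 188), (34, 189), (106, 190), (102, 191), (28, 192), (79, 192), (145, 192), (192, 145), (195, 175), (181, 192), (59, 0), (199, 2), (200, 1), (201, 1), (202, 1), (203, 0), (204, 0), (205, 0), (206, 0), (147, 207), (33, 208), (149, 209), (180, 210), (198, 211), (56, 212), (79, 212), (102, 212), (107, 212), (175, 212), (212, 212), (110, 2), (219, 1), (220, 1), (221, 2), (222, 1), (223, 0), (224, 2), (225, 1), (226, 2), (227, 0), (228, 1), (229, 0), (230, 2), (231, 0), (232, 1), (233, 0), (7, 234), (33, 235), (58, 236), (119, 237), (3, 238), (2, 238), (145, 238), (175, 238), (212, 238),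 (238, 238), (10, 0), (245, 0), (246, 2), (247, 2), (248, 2), (249, 0), (250, 2), (251, 1), (252, 1), (253, 2), (239, 254), (104, 255), (214, 256), (119, 257), (241, 258), (0, 259), (79, 259), (145, 259), (175, 259), (212, 259), (259, 238), (218, 259), (199, 0), (267, 0), (268, 0), (269, 1), (270, 1), (271, 2), (272, 2), (273, 0), (274, 0), (260, 275), (103, 276), (261, 277), (215, 278), (241, 279), (243, 280), (79, 281), (102, 281), (119, 281), (283, 175), (145, 281), (218, 281), (243, 281), (281, 281), (243, 263), (289, 290), (57, 0), (86, 292), (283, 293), (217, 294), (288, 295), (289, 296), (240, 55), (54, 298), (284, 299), (241, 300), (264, 301), (281, 302), (213, 120), (282, 304), (283, 305), (262, 306), (287, 307), (281, 308), (11, 177), (123, 310), (119, 311), (196, 312), (259, 313), (289, 314), (289, 242), (121, 0), (194, 317), (285, 318), (286, 319), (244, 320), (289, 321), (193, 1), (194, 323), (285, 324), (242, 325), (266, 326), (32, 146), (106,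 328), (119, 329), (197, 330), (259, 331), (82, 0), (148, 333), (150, 334), (286, 335), (265, 336), (289, 337), (178, 0), (194, 339), (216, 340), (197, 341), (281, 342), (83, 6), (107, 344), (241, 345), (266, 346), (179, 79), (242, 348), (244, 349), (289, 350)]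

def u4p0 : List ℕ := [0, 1, 2, 5, 4, 3, 21, 19, 11, 10, 9, 8, 18, 13, 17, 20, 16, 14, 12, 7, 15, 6, 22, 23]

def u4p1 : List ℕ := [7, 14, 22, 10, 15, 3, 19, 17, 4, 21, 6, 12, 16, 18, 5, 8, 1, 11, 20, 13, 9, 23, 0, 2]

def u4p2 : List ℕ := [4, 3, 22, 2, 6, 17, 13, 8, 20, 9, 10, 18, 16, 14, 12, 5, 0, 11, 21, 15, 1, 19, 7, 23]

def u4p3 : List ℕ := [16, 20, 3, 1, 0, 15, 4, 22, 7, 9, 10, 17, 14, 6, 13, 19, 12, 5, 11, 21, 8, 18, 2, 23]

def u4p4 : List ℕ := [22, 16, 23, 5, 8, 14, 10, 0, 15, 20, 3, 17, 11, 19, 1, 4, 12, 7, 13, 6, 18, 9, 2, 21]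

def u4p5 : List ℕ := [0, 1, 2, 11, 4, 8, 9, 15, 5, 6, 21, 3, 17, 13, 18, 7, 16, 12, 14, 20, 19, 10, 22, 23]

def u4p6 : List ℕ := [22, 21, 11, 5, 9, 20, 15, 16, 14, 6, 2, 7, 4, 12, 1, 19, 8, 3, 18, 13, 10, 23, 0, 17]

def u4p7 : List ℕ := [11, 8, 20, 9, 17, 23, 15, 13, 14, 18, 5, 12, 16, 2, 6, 4, 3, 7, 19, 22, 21, 1, 10, 0]

def u4p8 : List ℕ := [23, 21, 13, 16, 15, 10, 14, 17, 1, 3, 22, 0, 11, 7, 8, 6, 12, 4, 9, 18, 2, 20, 19, 5]

def u4p9 : List ℕ := [22, 14, 10, 17, 12, 3, 9, 11, 16, 4, 20, 2, 13, 19, 8, 6, 7, 23, 18, 15, 5, 1, 0, 21]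

def u4p10 : List ℕ := [20, 21, 12, 17, 2, 19, 3, 11, 9, 14, 18, 4, 16, 7, 10, 1, 15, 5, 6, 13, 22, 23, 0, 8]

def u4p11 : List ℕ := [22, 15, 4, 6, 11, 17, 18, 13, 23, 8, 14, 7, 2, 19, 9, 16, 12, 3, 10, 5, 0, 1, 20, 21]

def u4p12 : List ℕ := [0, 1, 11, 3, 5, 4, 6, 15, 8, 22, 10, 2, 18, 13, 19, 7, 21, 20, 12, 14, 17, 16, 9, 23]

def u4Idx : List ℕ := [291, 297, 303, 309, 315, 316, 322, 327, 332, 338, 343, 347, 351]

def u4Perms : List (List ℕ) := [u4p0, u4p1, u4p2, u4p3, u4p4, u4p5, u4p6, u4p7, u4p8, u4p9, u4p10, u4p11, u4p12]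

theorem u4Perms_eq : u4Perms = u4Idx.map (fun k => (slpPerms u4Prog).getD k idl) := by
  decide +kernel

theorem u4Perms_rep : ∀ l ∈ u4Perms, Rep M24 l := by
  intro l hl
  rw [u4Perms_eq, List.mem_map] at hl
  obtain ⟨k, _, rfl⟩ := hl
  exact rep_slpPerms u4Prog k

/-- the words of the images of the generators a, b, c, d, e, f -/
def u4Tbl : List (List Prim) := [[.perm u4p0],
  [.perm u4p1, .xi, .perm u4p2, .xi, .sign 4361520, .xi', .perm u4p3, .xi', .perm u4p4],
  [.perm u4p5],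
  [.perm u4p6, .xi, .perm u4p7, .xi, .sign 4538962, .xi', .perm u4p8, .xi', .perm u4p9],
  [.perm u4p10, .xi, .perm u4p7, .xi, .sign 4538962, .xi', .perm u4p8, .xi', .perm u4p11],
  [.perm u4p12]]

/-- the word of a generator -/
def u4Word (x : ℕ) : List Prim := u4Tbl.getD x []

/-- the word of a product of generators (the last generator acts first) -/
def bigWord4 : List ℕ → List Prim
  | [] => []
  | a :: w => bigWord4 w ++ u4Word a

set_option maxRecDepth 100000 in
theorem u4Tbl_ok : checkGens u4Perms [u0L, v0L, x1L] u4Tbl = true := by decide +kernel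

/-- the relator words -/
def u4Rels : List (List ℕ) := coxWordsL Q6.edges U43QTC.gen 6 ++ U43QTC.extraWords

/-- the `k`-th relator word acts trivially on the vector `-8 e_i` -/
def chk4 (k i : ℕ) : Bool := actW (bigWord4 (u4Rels.getD k [])) (neg8L i) == neg8L i

/-- a rectangle of checks -/
def chkRect4 (a n lo m : ℕ) : Bool :=
  (List.range' a n).all fun k => (List.range' lo m).all fun i => chk4 k i

theorem chkRect4_spec {a n lo m : ℕ} (h : chkRect4 a n lo m = true) {k i : ℕ} (hk1 : a ≤ k)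
    (hk2 : k < a + n) (hi1 : lo ≤ i) (hi2 : i < lo + m) : chk4 k i = true := by
  rw [chkRect4, List.all_eq_true] at h
  have h1 := h k (by rw [List.mem_range'_1]; exact ⟨hk1, hk2⟩)
  rw [List.all_eq_true] at h1
  exact h1 i (by rw [List.mem_range'_1]; exact ⟨hi1, hi2⟩)

theorem u4Rels_length : u4Rels.length = 42 := by decide +kernel

end Cfsg.Agent.Lib.Helper6.Leech
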