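import Cfsg.Agent.Lib.Helper6.U43CoData

/-! # The relators act trivially: kernel checks, part 1 (generated) -/

set_option autoImplicit false
set_option maxRecDepth 1000000
set_option maxHeartbeats 4000000

namespace Cfsg.Agent.Lib.Helper6.Leech

theorem u4_chk_1_0 : chkRect4 0 11 6 6 = true := by decide +kernel

theorem u4_chk_1_1 : chkRect4 11 11 6 6 = true := by decide +kernel

theorem u4_chk_1_2 : chkRect4 22 6 6 6 = true := by decide +kernel

theorem u4_chk_1_3 : chkRect4 28 9 6 6 = true := by decide +kernel

theorem u4_chk_1_4 : chkRect4 37 5 6 6 = true := by decide +kernel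

end Cfsg.Agent.Lib.Helper6.Leech
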