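import Cfsg.Agent.Lib.Helper6.U43CoRel0
import Cfsg.Agent.Lib.Helper6.U43CoRel1
import Cfsg.Agent.Lib.Helper6.U43CoRel2
import Cfsg.Agent.Lib.Helper6.U43CoRel3

/-! # The relators act trivially (generated) -/

set_option autoImplicit false

namespace Cfsg.Agent.Lib.Helper6.Leech

theorem u4_chk_all {k i : ℕ} (hk : k < 42) (hi : i < 24) : chk4 k i = true := by
  rcases (by omega : (0 ≤ k ∧ k < 11) ∨ (11 ≤ k ∧ k < 22) ∨ (22 ≤ k ∧ k < 28) ∨ (28 ≤ k ∧ k < 37) ∨ (37 ≤ k ∧ k < 42)) with hk' | hk' | hk' | hk' | hk'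
  · rcases (by omega : (0 ≤ i ∧ i < 6) ∨ (6 ≤ i ∧ i < 12) ∨ (12 ≤ i ∧ i < 18) ∨ (18 ≤ i ∧ i < 24)) with hi' | hi' | hi' | hi'
    · exact chkRect4_spec u4_chk_0_0 hk'.1 (by omega) hi'.1 (by omega)
    · exact chkRect4_spec u4_chk_1_0 hk'.1 (by omega) hi'.1 (by omega)
    · exact chkRect4_spec u4_chk_2_0 hk'.1 (by omega) hi'.1 (by omega)
    · exact chkRect4_spec u4_chk_3_0 hk'.1 (by omega) hi'.1 (by omega)
  · rcases (by omega : (0 ≤ i ∧ i < 6) ∨ (6 ≤ i ∧ i < 12) ∨ (12 ≤ i ∧ i < 18) ∨ (18 ≤ i ∧ i < 24)) with hi' | hi' | hi' | hi'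
    · exact chkRect4_spec u4_chk_0_1 hk'.1 (by omega) hi'.1 (by omega)
    · exact chkRect4_spec u4_chk_1_1 hk'.1 (by omega) hi'.1 (by omega)
    · exact chkRect4_spec u4_chk_2_1 hk'.1 (by omega) hi'.1 (by omega)
    · exact chkRect4_spec u4_chk_3_1 hk'.1 (by omega) hi'.1 (by omega)
  · rcases (by omega : (0 ≤ i ∧ i < 6) ∨ (6 ≤ i ∧ i < 12) ∨ (12 ≤ i ∧ i < 18) ∨ (18 ≤ i ∧ i < 24)) with hi' | hi' | hi' | hi'
    · exact chkRect4_spec u4_chk_0_2 hk'.1 (by omega) hi'.1 (by omega)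
    · exact chkRect4_spec u4_chk_1_2 hk'.1 (by omega) hi'.1 (by omega)
    · exact chkRect4_spec u4_chk_2_2 hk'.1 (by omega) hi'.1 (by omega)
    · exact chkRect4_spec u4_chk_3_2 hk'.1 (by omega) hi'.1 (by omega)
  · rcases (by omega : (0 ≤ i ∧ i < 6) ∨ (6 ≤ i ∧ i < 12) ∨ (12 ≤ i ∧ i < 18) ∨ (18 ≤ i ∧ i < 24)) with hi' | hi' | hi' | hi'
    · exact chkRect4_spec u4_chk_0_3 hk'.1 (by omega) hi'.1 (by omega)
    · exact chkRect4_spec u4_chk_1_3 hk'.1 (by omega) hi'.1 (by omega)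
    · exact chkRect4_spec u4_chk_2_3 hk'.1 (by omega) hi'.1 (by omega)
    · exact chkRect4_spec u4_chk_3_3 hk'.1 (by omega) hi'.1 (by omega)
  · rcases (by omega : (0 ≤ i ∧ i < 6) ∨ (6 ≤ i ∧ i < 12) ∨ (12 ≤ i ∧ i < 18) ∨ (18 ≤ i ∧ i < 24)) with hi' | hi' | hi' | hi'
    · exact chkRect4_spec u4_chk_0_4 hk'.1 (by omega) hi'.1 (by omega)
    · exact chkRect4_spec u4_chk_1_4 hk'.1 (by omega) hi'.1 (by omega)
    · exact chkRect4_spec u4_chk_2_4 hk'.1 (by omega) hi'.1 (by omega)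
    · exact chkRect4_spec u4_chk_3_4 hk'.1 (by omega) hi'.1 (by omega)

end Cfsg.Agent.Lib.Helper6.Leech
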