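import Cfsg.Agent.Lib.Helper6.EquivMatL
import Cfsg.Agent.Lib.Helper6.ChevMatL9
import Cfsg.Agent.Lib.Helper6.U43QTCChk2
import Cfsg.Prelude.Def_Classical
import Cfsg.Prelude.Def_ClassicalGeometry

/-! # Six involutions of the special unitary group of dimension four over the field with nine
elements

The matrices `genLt x` (`x < 6`), given by their columns, are unitary of determinant one and satisfy
the relations of the generators `a, …, f` of the presented group `Q6` up to scalars (generated data,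
checked by the kernel). -/

set_option autoImplicit false
set_option maxRecDepth 100000

namespace Cfsg.Agent.Lib.Helper6.U43Mat

open Cfsg.Agent.Lib.Helper6.ChevMatL Cfsg.Agent.Lib.Helper6.ChevMatL9 Cfsg.Agent.Lib.Helper6.EquivMatL
  Cfsg.Agent.Lib.Helper6.TC Cfsg.Agent.Lib.Helper6.U43Sub Cfsg.Spor Cfsg.Agent.Lib.Helper8

/-- the field -/
abbrev K : Type := F9

/-- the matrix of generator a, by its columns -/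
def gA : List (List K) :=
  [[⟨0, 0⟩, ⟨0, 0⟩, ⟨0, 0⟩, ⟨1, 0⟩],
   [⟨0, 0⟩, ⟨0, 0⟩, ⟨1, 0⟩, ⟨0, 0⟩],
   [⟨0, 0⟩, ⟨1, 0⟩, ⟨0, 0⟩, ⟨0, 0⟩],
   [⟨1, 0⟩, ⟨0, 0⟩, ⟨0, 0⟩, ⟨0, 0⟩]]

/-- the matrix of generator b, by its columns -/
def gB : List (List K) :=
  [[⟨1, 0⟩, ⟨2, 2⟩, ⟨2, 1⟩, ⟨1, 2⟩],
   [⟨2, 1⟩, ⟨2, 0⟩, ⟨1, 1⟩, ⟨1, 1⟩],
   [⟨2, 2⟩, ⟨1, 2⟩, ⟨1, 0⟩, ⟨1, 2⟩],
   [⟨1, 1⟩, ⟨1, 2⟩, ⟨1, 1⟩, ⟨2, 0⟩]]

/-- the matrix of generator c, by its columns -/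
def gC : List (List K) :=
  [[⟨1, 0⟩, ⟨0, 2⟩, ⟨2, 0⟩, ⟨0, 2⟩],
   [⟨0, 1⟩, ⟨2, 0⟩, ⟨0, 1⟩, ⟨1, 0⟩],
   [⟨2, 0⟩, ⟨0, 2⟩, ⟨1, 0⟩, ⟨0, 2⟩],
   [⟨0, 1⟩, ⟨1, 0⟩, ⟨0, 1⟩, ⟨2, 0⟩]]

/-- the matrix of generator d, by its columns -/
def gD : List (List K) :=
  [[⟨1, 0⟩, ⟨1, 0⟩, ⟨0, 2⟩, ⟨0, 2⟩],
   [⟨1, 0⟩, ⟨2, 0⟩, ⟨0, 1⟩, ⟨0, 2⟩],
   [⟨0, 1⟩, ⟨0, 2⟩, ⟨1, 0⟩, ⟨2, 0⟩],
   [⟨0, 1⟩, ⟨0, 1⟩, ⟨2, 0⟩, ⟨2, 0⟩]]

/-- the matrix of generator e, by its columns -/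
def gE : List (List K) :=
  [[⟨0, 0⟩, ⟨1, 0⟩, ⟨0, 2⟩, ⟨1, 1⟩],
   [⟨1, 0⟩, ⟨1, 0⟩, ⟨1, 0⟩, ⟨0, 2⟩],
   [⟨0, 1⟩, ⟨1, 0⟩, ⟨2, 0⟩, ⟨2, 0⟩],
   [⟨1, 2⟩, ⟨0, 1⟩, ⟨2, 0⟩, ⟨0, 0⟩]]

/-- the matrix of generator f, by its columns -/
def gF : List (List K) :=
  [[⟨0, 0⟩, ⟨0, 2⟩, ⟨1, 1⟩, ⟨0, 2⟩],
   [⟨0, 1⟩, ⟨2, 0⟩, ⟨1, 2⟩, ⟨0, 0⟩],
   [⟨1, 2⟩, ⟨1, 1⟩, ⟨2, 0⟩, ⟨1, 1⟩],
   [⟨0, 1⟩, ⟨0, 0⟩, ⟨1, 2⟩, ⟨2, 0⟩]]

/-- the matrices of the generators -/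
def genTbl : List (List (List K)) := [gA, gB, gC, gD, gE, gF]

/-- the matrix of a generator -/
def genLt (x : ℕ) : List (List K) := genTbl.getD x gF

/-- the scalar matrix -/
def scal (c : K) : List (List K) :=
  (List.range 4).map fun i => (List.range 4).map fun j => if i = j then c else 0

/-- a nonzero scalar matrix of determinant one -/
def isScal (X : List (List K)) : Bool :=
  decide (X = scal ⟨1, 0⟩) || (decide (X = scal ⟨2, 0⟩) || (decide (X = scal ⟨0, 1⟩) ||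
    decide (X = scal ⟨0, 2⟩)))

/-- the determinant of a matrix of size four, written out -/
def det4F (A : Fin 4 → Fin 4 → K) : K :=
  A 0 0 * (A 1 1 * A 2 2 * A 3 3 - A 1 1 * A 2 3 * A 3 2 - A 1 2 * A 2 1 * A 3 3
        + A 1 2 * A 2 3 * A 3 1 + A 1 3 * A 2 1 * A 3 2 - A 1 3 * A 2 2 * A 3 1)
      - A 0 1 * (A 1 0 * A 2 2 * A 3 3 - A 1 0 * A 2 3 * A 3 2 - A 1 2 * A 2 0 * A 3 3
        + A 1 2 * A 2 3 * A 3 0 + A 1 3 * A 2 0 * A 3 2 - A 1 3 * A 2 2 * A 3 0)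
      + A 0 2 * (A 1 0 * A 2 1 * A 3 3 - A 1 0 * A 2 3 * A 3 1 - A 1 1 * A 2 0 * A 3 3
        + A 1 1 * A 2 3 * A 3 0 + A 1 3 * A 2 0 * A 3 1 - A 1 3 * A 2 1 * A 3 0)
      - A 0 3 * (A 1 0 * A 2 1 * A 3 2 - A 1 0 * A 2 2 * A 3 1 - A 1 1 * A 2 0 * A 3 2
        + A 1 1 * A 2 2 * A 3 0 + A 1 2 * A 2 0 * A 3 1 - A 1 2 * A 2 1 * A 3 0)

theorem det4F_eq (A : Matrix (Fin 4) (Fin 4) K) : A.det = det4F A := by
  unfold det4F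
  rw [Matrix.det_succ_row_zero]
  simp only [Fin.sum_univ_four, Matrix.det_fin_three, Matrix.submatrix_apply, Fin.succAbove]
  simp
  ring

/-- the entries of the matrix of a generator -/
def gE' (x : ℕ) (i j : Fin 4) : K := entry (genLt x) j.val i.val

theorem chk_gcols : ∀ Y ∈ genTbl, colsOK 4 Y := by decide +kernel

theorem chk_ginv : ∀ Y ∈ genTbl, prodT9 4 [Y, Y] = idL9 4 := by decide +kernel

theorem chk_transp_id : transp 4 (idL 4 : List (List K)) = idL 4 := by decide +kernel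

theorem chk_det : ∀ x, x < 6 → det4F (gE' x) = 1 := by decide +kernel

theorem chk_unit : ∀ x, x < 6 → ∀ j k : Fin 4,
    gE' x 0 j * gE' x 0 k ^ 3 + gE' x 1 j * gE' x 1 k ^ 3 + gE' x 2 j * gE' x 2 k ^ 3 +
      gE' x 3 j * gE' x 3 k ^ 3 = if j = k then 1 else 0 := by decide +kernel

theorem chk_hadd9 : ∀ a b : K, (a + b) ^ 3 = a ^ 3 + b ^ 3 := by decide +kernel

theorem chk_rels : (coxWordsL Q6.edges U43QTC.gen 6 ++ U43QTC.extraWords).all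
    (fun w => isScal (prodT9 4 (w.map genLt))) = true := by decide +kernel

theorem chk_rels_lt : (coxWordsL Q6.edges U43QTC.gen 6 ++ U43QTC.extraWords).all
    (fun w => w.all fun x => decide (x < 6)) = true := by decide +kernel

theorem chk_nc : ∃ i j : Fin 4, entry (prodT9 4 [genLt 0, genLt 1]) i.val j.val ≠
    entry (prodT9 4 [genLt 1, genLt 0]) i.val j.val := by decide +kernel

end Cfsg.Agent.Lib.Helper6.U43Mat
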