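import Cfsg.Agent.Lib.Helper6.SimpInst
import Cfsg.Agent.Lib.Helper6.U43QTCData

/-! # U43Q: data of the certificate of simplicity and order (generated) -/

set_option autoImplicit false
set_option maxRecDepth 1000000

namespace Cfsg.Agent.Lib.Helper6.U43QSimp

open Cfsg.Agent.Lib.Helper6.TC Cfsg.Agent.Lib.Helper6.Simp Cfsg.Agent.Lib.Helper6.NatArr Cfsg.Agent.Lib.Helper6.U43QTC

/-- level 0: base point 0, orbit of length 126 -/
def lvl0 : Level where
  b := 0
  ws := [[0], [1], [2], [3], [4], [5]]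
  instrs := [5242882, 3, 3145733, 4, 2097158, 9, 1048589, 32, 1048601, 11, 4194330, 33, 1048614, 76, 1048658, 43,
    2097169, 42, 1048654, 56, 1048598, 10, 2097175, 57, 1048611, 16, 1048615, 58, 3145824, 80,
    1048616, 71, 1048671, 59, 5242946, 91, 1048628, 90, 1048641, 30, 3145740, 27, 1048625, 20,
    1048626, 28, 0, 5242925, 85, 2097269, 86, 3145812, 116, 1048700, 2097274, 1048686, 126, 2097261,
    74, 1048664, 48, 1048638, 98, 3145788, 24, 1048595, 46, 1048612, 73, 0, 4194379, 2097260,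
    1048682, 125, 5242991, 79, 1048644, 63, 1048648, 101, 4194368, 29, 1048627, 89, 1048695, 100, 0,
    0, 0, 0, 0, 5242982, 0, 0, 0, 0, 2097222, 94, 3145841, 107, 5243000, 103, 5242992, 105, 2097219,
    81, 1048691, 123, 1048690, 104, 0, 0, 0, 0, 0, 0, 3145811, 77, 4194341, 15, 1048583, 14, 1048610,
    69, 0, 0, 0, 0, 0, 0, 5242979, 0, 0, 0, 0, 0, 0, 0, 0, 0, 0, 0, 0, 0, 0, 0, 0, 4194391, 47,
    1048617, 2097207, 1048637, 97, 0, 4194335, 0, 0, 4194325, 53, 3145820, 54, 1048620, 3145746,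
    2097160, 0, 0, 0, 2097245, 121, 1048694]
  B := 0x3fffffffffffffffffffffffffffffff
  m := 126

theorem lvl0_ok : LevelOK tab [] lvl0 :=
  ⟨by decide +kernel, by decide +kernel, by decide +kernel, by decide +kernel, by decide +kernel⟩

/-- level 1: base point 1, orbit of length 80 -/
def lvl1 : Level where
  b := 1
  ws := [[0], [1], [2], [3], [4]]
  instrs := [3, 3145733, 4, 2097158, 9, 1048589, 32, 1048601, 11, 4194330, 33, 1048614, 76, 1048658, 43, 2097169,
    42, 1048654, 56, 1048598, 10, 2097175, 57, 1048611, 16, 1048615, 58, 3145824, 80, 1048616, 71,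
    1048671, 59, 0, 4194395, 66, 1048606, 65, 1048666, 52, 3145748, 49, 1048603, 12, 1048604, 50, 0,
    0, 2097181, 64, 1048676, 119, 1048665, 51, 0, 4194415, 79, 1048644, 63, 1048648, 101, 0, 0,
    2097222, 94, 3145841, 107, 0, 0, 0, 4194338, 69, 1048613, 15, 1048583, 14, 0, 0, 0, 4194381, 83,
    3145833, 112, 2097233, 67, 1048680, 114, 1048699, 115, 0, 0, 0, 0, 0, 0, 0, 0, 0, 0, 0, 0, 0, 0,
    0, 0, 0, 0, 0, 0, 0, 0, 0, 0, 0, 0, 0, 0, 0, 0, 0, 2097255, 120]
  B := 0x4c7c5d8e707f8ffc78f06f7bf69ff7e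
  m := 80

theorem lvl1_ok : LevelOK tab [0] lvl1 :=
  ⟨by decide +kernel, by decide +kernel, by decide +kernel, by decide +kernel, by decide +kernel⟩

/-- level 2: base point 3, orbit of length 27 -/
def lvl2 : Level where
  b := 3
  ws := [[1, 0], [2, 0], [4, 0]]
  instrs := [1048585, 32, 11, 2097185, 76, 43, 1048618, 56, 10, 1048633, 16, 58, 0, 1048590, 69, 15, 0, 0, 0,
    2097216, 119, 51, 1048625, 12, 50, 0, 0, 0, 0, 0, 2097224, 68, 111, 0, 1048646, 0, 0, 0, 0, 0, 0,
    0, 0, 2097229]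
  B := 0x404000000018b8838706018000ef08
  m := 27

theorem lvl2_ok : LevelOK tab [1, 0] lvl2 :=
  ⟨by decide +kernel, by decide +kernel, by decide +kernel, by decide +kernel, by decide +kernel⟩

/-- level 3: base point 5, orbit of length 12 -/
def lvl3 : Level where
  b := 5
  ws := [[1, 0], [2, 0, 4, 0, 1, 0, 4, 2]]
  instrs := [25, 13, 1048605, 89, 100, 1048583, 37, 34, 0, 0, 1048598, 78, 17]
  B := 0x8010020000000001211211060
  m := 12

theorem lvl3_ok : LevelOK tab [3, 1, 0] lvl3 :=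
  ⟨by decide +kernel, by decide +kernel, by decide +kernel, by decide +kernel, by decide +kernel⟩

/-- the chain -/
def levels : List Level := [lvl0, lvl1, lvl2, lvl3]

theorem chain_ok : ChainOK tab [] levels :=
  ChainOK.cons lvl0_ok (
  ChainOK.cons lvl1_ok (
  ChainOK.cons lvl2_ok (
  ChainOK.cons lvl3_ok (
  ChainOK.nil _))))

theorem chain_prod : chainProd levels = 3265920 := by decide +kernel

/-- the words of the certificate of generation by elements of order 7 -/
def us : List (List ℕ) := [[0, 2, 3, 5, 0, 2, 3, 5], [0, 2, 3, 5, 0, 2, 3, 5, 0, 2, 3, 5], [0, 2, 3, 5, 0, 2, 3, 5], [0, 2, 3,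
    5, 0, 2, 3, 5], [0, 2, 3, 5, 0, 2, 3, 5], [0, 2, 3, 5, 0, 2, 3, 5, 0, 2, 3, 5]]

theorem chk_pow0 : tab.minOK (us.getD 0 []) 7 = true ∧ tab.minOK (0 :: us.getD 0 []) 7 = true :=
  ⟨by decide +kernel, by decide +kernel⟩

theorem chk_pow1 : tab.minOK (us.getD 1 []) 7 = true ∧ tab.minOK (1 :: us.getD 1 []) 7 = true :=
  ⟨by decide +kernel, by decide +kernel⟩

theorem chk_pow2 : tab.minOK (us.getD 2 []) 7 = true ∧ tab.minOK (2 :: us.getD 2 []) 7 = true :=
  ⟨by decide +kernel, by decide +kernel⟩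

theorem chk_pow3 : tab.minOK (us.getD 3 []) 7 = true ∧ tab.minOK (3 :: us.getD 3 []) 7 = true :=
  ⟨by decide +kernel, by decide +kernel⟩

theorem chk_pow4 : tab.minOK (us.getD 4 []) 7 = true ∧ tab.minOK (4 :: us.getD 4 []) 7 = true :=
  ⟨by decide +kernel, by decide +kernel⟩

theorem chk_pow5 : tab.minOK (us.getD 5 []) 7 = true ∧ tab.minOK (5 :: us.getD 5 []) 7 = true :=
  ⟨by decide +kernel, by decide +kernel⟩

theorem chk_pow : ∀ x, x < 6 → tab.minOK (us.getD x []) 7 = true ∧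
    tab.minOK (x :: us.getD x []) 7 = true := by
  intro x hx
  interval_cases x
  · exact chk_pow0
  · exact chk_pow1
  · exact chk_pow2
  · exact chk_pow3
  · exact chk_pow4
  · exact chk_pow5

end Cfsg.Agent.Lib.Helper6.U43QSimp
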