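import Cfsg.Agent.Lib.Helper6.SimpUB

/-! # A presentation of a double cover of the unitary group U6(2) on nine involutions, and its sub-presentations -/

set_option autoImplicit false
set_option linter.unusedSimpArgs false

namespace Cfsg.Agent.Lib.Helper6.U62Sub

open Cfsg.Spor Cfsg.Agent.Lib.Helper6.Simp

namespace PB

/-- the generators a, c, d, e, f, g, h, i, t -/
inductive Gen
  | a
  | c
  | d
  | e
  | f
  | g
  | h
  | i
  | t
  deriving DecidableEq

abbrev a : FreeGroup Gen := FreeGroup.of Gen.a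
abbrev c : FreeGroup Gen := FreeGroup.of Gen.c
abbrev d : FreeGroup Gen := FreeGroup.of Gen.d
abbrev e : FreeGroup Gen := FreeGroup.of Gen.e
abbrev f : FreeGroup Gen := FreeGroup.of Gen.f
abbrev g : FreeGroup Gen := FreeGroup.of Gen.g
abbrev h : FreeGroup Gen := FreeGroup.of Gen.h
abbrev i : FreeGroup Gen := FreeGroup.of Gen.i
abbrev t : FreeGroup Gen := FreeGroup.of Gen.t

/-- the Coxeter graph -/
def edges : List (Gen × ℕ × Gen) :=
  [(.a, 2, .c), (.c, 3, .d), (.d, 3, .e), (.d, 3, .h), (.e, 3, .f), (.f, 3, .g), (.h, 3, .i), (.t, 3, .f), (.t, 3, .i)]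

/-- the further relators -/
def extra : List (FreeGroup Gen) := [  (h * d * e * f * t * i * t * f * e * d) ^ 3,
  (d * e * f * t * i * h) ^ 5,
  a * (c * e * d * h * i * t) ^ 5,
  (c * d * e * f * g * h * i) ^ 9,
  (g * t * f * e * d * h) ^ 5,
  a]

end PB

/-- the presented quotient -/
abbrev PB : Type := CoxPresented PB.Gen PB.edges PB.extra

namespace P

/-- the generators a, c, d, e, f, g, h, i, t -/
inductive Gen
  | a
  | c
  | d
  | e
  | f
  | g
  | h
  | i
  | t
  deriving DecidableEq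

abbrev a : FreeGroup Gen := FreeGroup.of Gen.a
abbrev c : FreeGroup Gen := FreeGroup.of Gen.c
abbrev d : FreeGroup Gen := FreeGroup.of Gen.d
abbrev e : FreeGroup Gen := FreeGroup.of Gen.e
abbrev f : FreeGroup Gen := FreeGroup.of Gen.f
abbrev g : FreeGroup Gen := FreeGroup.of Gen.g
abbrev h : FreeGroup Gen := FreeGroup.of Gen.h
abbrev i : FreeGroup Gen := FreeGroup.of Gen.i
abbrev t : FreeGroup Gen := FreeGroup.of Gen.t

/-- the Coxeter graph -/
def edges : List (Gen × ℕ × Gen) :=
  [(.a, 2, .c), (.c, 3, .d), (.d, 3, .e), (.d, 3, .h), (.e, 3, .f), (.f, 3, .g), (.h, 3, .i), (.t, 3, .f), (.t, 3, .i)]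

/-- the further relators -/
def extra : List (FreeGroup Gen) := [  (h * d * e * f * t * i * t * f * e * d) ^ 3,
  (d * e * f * t * i * h) ^ 5,
  a * (c * e * d * h * i * t) ^ 5,
  (c * d * e * f * g * h * i) ^ 9,
  (g * t * f * e * d * h) ^ 5]

/-- the inclusion of the generators -/
def ι : Gen → PB.Gen
  | .a => .a
  | .c => .c
  | .d => .d
  | .e => .e
  | .f => .f
  | .g => .g
  | .h => .h
  | .i => .i
  | .t => .t

end P

/-- the presented double cover -/
abbrev P : Type := CoxPresented P.Gen P.edges P.extra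

namespace P7

/-- the generators a, c, d, e, f, h, i, t -/
inductive Gen
  | a
  | c
  | d
  | e
  | f
  | h
  | i
  | t
  deriving DecidableEq

abbrev a : FreeGroup Gen := FreeGroup.of Gen.a
abbrev c : FreeGroup Gen := FreeGroup.of Gen.c
abbrev d : FreeGroup Gen := FreeGroup.of Gen.d
abbrev e : FreeGroup Gen := FreeGroup.of Gen.e
abbrev f : FreeGroup Gen := FreeGroup.of Gen.f
abbrev h : FreeGroup Gen := FreeGroup.of Gen.h
abbrev i : FreeGroup Gen := FreeGroup.of Gen.i
abbrev t : FreeGroup Gen := FreeGroup.of Gen.t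

/-- the Coxeter graph -/
def edges : List (Gen × ℕ × Gen) :=
  [(.a, 2, .c), (.c, 3, .d), (.d, 3, .e), (.d, 3, .h), (.e, 3, .f), (.h, 3, .i), (.t, 3, .f), (.t, 3, .i)]

/-- the further relators -/
def extra : List (FreeGroup Gen) := [  (h * d * e * f * t * i * t * f * e * d) ^ 3,
  (d * e * f * t * i * h) ^ 5,
  a * (c * e * d * h * i * t) ^ 5]

/-- the inclusion of the generators -/
def ι : Gen → P.Gen
  | .a => .a
  | .c => .c
  | .d => .d
  | .e => .e
  | .f => .f
  | .h => .h
  | .i => .i
  | .t => .t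

end P7

/-- the group of the sub-presentation on a, c, d, e, f, h, i, t -/
abbrev P7 : Type := CoxPresented P7.Gen P7.edges P7.extra

namespace PB7

/-- the generators a, c, d, e, f, h, i, t -/
inductive Gen
  | a
  | c
  | d
  | e
  | f
  | h
  | i
  | t
  deriving DecidableEq

abbrev a : FreeGroup Gen := FreeGroup.of Gen.a
abbrev c : FreeGroup Gen := FreeGroup.of Gen.c
abbrev d : FreeGroup Gen := FreeGroup.of Gen.d
abbrev e : FreeGroup Gen := FreeGroup.of Gen.e
abbrev f : FreeGroup Gen := FreeGroup.of Gen.f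
abbrev h : FreeGroup Gen := FreeGroup.of Gen.h
abbrev i : FreeGroup Gen := FreeGroup.of Gen.i
abbrev t : FreeGroup Gen := FreeGroup.of Gen.t

/-- the Coxeter graph -/
def edges : List (Gen × ℕ × Gen) :=
  [(.a, 2, .c), (.c, 3, .d), (.d, 3, .e), (.d, 3, .h), (.e, 3, .f), (.h, 3, .i), (.t, 3, .f), (.t, 3, .i)]

/-- the further relators -/
def extra : List (FreeGroup Gen) := [  (h * d * e * f * t * i * t * f * e * d) ^ 3,
  (d * e * f * t * i * h) ^ 5,
  a * (c * e * d * h * i * t) ^ 5,
  a]

/-- the inclusion of the generators -/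
def ι : Gen → PB.Gen
  | .a => .a
  | .c => .c
  | .d => .d
  | .e => .e
  | .f => .f
  | .h => .h
  | .i => .i
  | .t => .t

end PB7

/-- the group of the sub-presentation on a, c, d, e, f, h, i, t -/
abbrev PB7 : Type := CoxPresented PB7.Gen PB7.edges PB7.extra

namespace P6

/-- the generators d, e, f, h, i, t -/
inductive Gen
  | d
  | e
  | f
  | h
  | i
  | t
  deriving DecidableEq

abbrev d : FreeGroup Gen := FreeGroup.of Gen.d
abbrev e : FreeGroup Gen := FreeGroup.of Gen.e
abbrev f : FreeGroup Gen := FreeGroup.of Gen.f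
abbrev h : FreeGroup Gen := FreeGroup.of Gen.h
abbrev i : FreeGroup Gen := FreeGroup.of Gen.i
abbrev t : FreeGroup Gen := FreeGroup.of Gen.t

/-- the Coxeter graph -/
def edges : List (Gen × ℕ × Gen) :=
  [(.d, 3, .e), (.d, 3, .h), (.e, 3, .f), (.h, 3, .i), (.t, 3, .f), (.t, 3, .i)]

/-- the further relators -/
def extra : List (FreeGroup Gen) := [  (h * d * e * f * t * i * t * f * e * d) ^ 3,
  (d * e * f * t * i * h) ^ 5]

/-- the inclusion of the generators -/
def ι : Gen → P7.Gen
  | .d => .d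
  | .e => .e
  | .f => .f
  | .h => .h
  | .i => .i
  | .t => .t

end P6

/-- the group of the sub-presentation on d, e, f, h, i, t -/
abbrev P6 : Type := CoxPresented P6.Gen P6.edges P6.extra

namespace P6

/-- the inclusion of the generators into `PB7` -/
def ιB : Gen → PB7.Gen
  | .d => .d
  | .e => .e
  | .f => .f
  | .h => .h
  | .i => .i
  | .t => .t

end P6

namespace P5

/-- the generators d, e, f, i, t -/
inductive Gen
  | d
  | e
  | f
  | i
  | t
  deriving DecidableEq

abbrev d : FreeGroup Gen := FreeGroup.of Gen.d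
abbrev e : FreeGroup Gen := FreeGroup.of Gen.e
abbrev f : FreeGroup Gen := FreeGroup.of Gen.f
abbrev i : FreeGroup Gen := FreeGroup.of Gen.i
abbrev t : FreeGroup Gen := FreeGroup.of Gen.t

/-- the Coxeter graph -/
def edges : List (Gen × ℕ × Gen) :=
  [(.d, 3, .e), (.e, 3, .f), (.t, 3, .f), (.t, 3, .i)]

/-- the further relators -/
def extra : List (FreeGroup Gen) := []

/-- the inclusion of the generators -/
def ι : Gen → P6.Gen
  | .d => .d
  | .e => .e
  | .f => .f
  | .i => .i
  | .t => .t

end P5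

/-- the group of the sub-presentation on d, e, f, i, t -/
abbrev P5 : Type := CoxPresented P5.Gen P5.edges P5.extra

/-- `P` maps to `PB` -/
def subPPB : SubPres PB.edges PB.extra P.edges P.extra where
  ι := P.ι
  hnode := by decide
  hlabel := by decide
  hextra := by
    intro r hr
    simp only [P.extra, List.mem_cons, List.not_mem_nil, or_false] at hr
    rcases hr with rfl | rfl | rfl | rfl | rfl <;>
      simp only [map_mul, map_inv, map_pow, FreeGroup.map.of, P.ι, PB.extra, List.mem_cons,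
        true_or, or_true]

/-- `P7` maps to `P` -/
def subP7 : SubPres P.edges P.extra P7.edges P7.extra where
  ι := P7.ι
  hnode := by decide
  hlabel := by decide
  hextra := by
    intro r hr
    simp only [P7.extra, List.mem_cons, List.not_mem_nil, or_false] at hr
    rcases hr with rfl | rfl | rfl <;>
      simp only [map_mul, map_inv, map_pow, FreeGroup.map.of, P7.ι, P.extra, List.mem_cons,
        true_or, or_true]

/-- `PB7` maps to `PB` -/
def subPB7 : SubPres PB.edges PB.extra PB7.edges PB7.extra where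
  ι := PB7.ι
  hnode := by decide
  hlabel := by decide
  hextra := by
    intro r hr
    simp only [PB7.extra, List.mem_cons, List.not_mem_nil, or_false] at hr
    rcases hr with rfl | rfl | rfl | rfl <;>
      simp only [map_mul, map_inv, map_pow, FreeGroup.map.of, PB7.ι, PB.extra, List.mem_cons,
        true_or, or_true]

/-- `P6` maps to `P7` -/
def subP6 : SubPres P7.edges P7.extra P6.edges P6.extra where
  ι := P6.ι
  hnode := by decide
  hlabel := by decide
  hextra := by
    intro r hr
    simp only [P6.extra, List.mem_cons, List.not_mem_nil, or_false] at hr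
    rcases hr with rfl | rfl <;>
      simp only [map_mul, map_inv, map_pow, FreeGroup.map.of, P6.ι, P7.extra, List.mem_cons,
        true_or, or_true]

/-- `P6` maps to `PB7` -/
def subP6B : SubPres PB7.edges PB7.extra P6.edges P6.extra where
  ι := P6.ιB
  hnode := by decide
  hlabel := by decide
  hextra := by
    intro r hr
    simp only [P6.extra, List.mem_cons, List.not_mem_nil, or_false] at hr
    rcases hr with rfl | rfl <;>
      simp only [map_mul, map_inv, map_pow, FreeGroup.map.of, P6.ιB, PB7.extra, List.mem_cons,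
        true_or, or_true]

/-- `P5` maps to `P6` -/
def subP5 : SubPres P6.edges P6.extra P5.edges P5.extra where
  ι := P5.ι
  hnode := by decide
  hlabel := by decide
  hextra := by
    intro r hr
    simp [P5.extra] at hr

theorem rangeP7 : (Set.range fun y => FreeGroup.of (subP7.ι y)) =
    ({P.a, P.c, P.d, P.e, P.f, P.h, P.i, P.t} : Set (FreeGroup P.Gen)) := by
  ext z
  constructor
  · rintro ⟨y, rfl⟩
    cases y <;> simp [subP7, P7.ι]
  · intro hz
    simp only [Set.mem_insert_iff, Set.mem_singleton_iff] at hz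
    rcases hz with rfl | rfl | rfl | rfl | rfl | rfl | rfl | rfl
    · exact ⟨.a, rfl⟩
    · exact ⟨.c, rfl⟩
    · exact ⟨.d, rfl⟩
    · exact ⟨.e, rfl⟩
    · exact ⟨.f, rfl⟩
    · exact ⟨.h, rfl⟩
    · exact ⟨.i, rfl⟩
    · exact ⟨.t, rfl⟩

theorem rangePB7 : (Set.range fun y => FreeGroup.of (subPB7.ι y)) =
    ({PB.a, PB.c, PB.d, PB.e, PB.f, PB.h, PB.i, PB.t} : Set (FreeGroup PB.Gen)) := by
  ext z
  constructor
  · rintro ⟨y, rfl⟩
    cases y <;> simp [subPB7, PB7.ι]
  · intro hz
    simp only [Set.mem_insert_iff, Set.mem_singleton_iff] at hz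
    rcases hz with rfl | rfl | rfl | rfl | rfl | rfl | rfl | rfl
    · exact ⟨.a, rfl⟩
    · exact ⟨.c, rfl⟩
    · exact ⟨.d, rfl⟩
    · exact ⟨.e, rfl⟩
    · exact ⟨.f, rfl⟩
    · exact ⟨.h, rfl⟩
    · exact ⟨.i, rfl⟩
    · exact ⟨.t, rfl⟩

theorem rangeP6 : (Set.range fun y => FreeGroup.of (subP6.ι y)) =
    ({P7.d, P7.e, P7.f, P7.h, P7.i, P7.t} : Set (FreeGroup P7.Gen)) := by
  ext z
  constructor
  · rintro ⟨y, rfl⟩
    cases y <;> simp [subP6, P6.ι]
  · intro hz
    simp only [Set.mem_insert_iff, Set.mem_singleton_iff] at hz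
    rcases hz with rfl | rfl | rfl | rfl | rfl | rfl
    · exact ⟨.d, rfl⟩
    · exact ⟨.e, rfl⟩
    · exact ⟨.f, rfl⟩
    · exact ⟨.h, rfl⟩
    · exact ⟨.i, rfl⟩
    · exact ⟨.t, rfl⟩

theorem rangeP6B : (Set.range fun y => FreeGroup.of (subP6B.ι y)) =
    ({PB7.d, PB7.e, PB7.f, PB7.h, PB7.i, PB7.t} : Set (FreeGroup PB7.Gen)) := by
  ext z
  constructor
  · rintro ⟨y, rfl⟩
    cases y <;> simp [subP6B, P6.ιB]
  · intro hz
    simp only [Set.mem_insert_iff, Set.mem_singleton_iff] at hz
    rcases hz with rfl | rfl | rfl | rfl | rfl | rfl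
    · exact ⟨.d, rfl⟩
    · exact ⟨.e, rfl⟩
    · exact ⟨.f, rfl⟩
    · exact ⟨.h, rfl⟩
    · exact ⟨.i, rfl⟩
    · exact ⟨.t, rfl⟩

theorem rangeP5 : (Set.range fun y => FreeGroup.of (subP5.ι y)) =
    ({P6.d, P6.e, P6.f, P6.i, P6.t} : Set (FreeGroup P6.Gen)) := by
  ext z
  constructor
  · rintro ⟨y, rfl⟩
    cases y <;> simp [subP5, P5.ι]
  · intro hz
    simp only [Set.mem_insert_iff, Set.mem_singleton_iff] at hz
    rcases hz with rfl | rfl | rfl | rfl | rfl
    · exact ⟨.d, rfl⟩
    · exact ⟨.e, rfl⟩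
    · exact ⟨.f, rfl⟩
    · exact ⟨.i, rfl⟩
    · exact ⟨.t, rfl⟩

end Cfsg.Agent.Lib.Helper6.U62Sub
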