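import Cfsg.Agent.Lib.Helper6.U62PBSimp
import Cfsg.Agent.Lib.Helper6.U62PBTC
import Cfsg.Agent.Lib.Helper6.U62PB7TC
import Cfsg.Agent.Lib.Helper6.U62P6TC
import Cfsg.Agent.Lib.Helper6.U62P5TC

/-! # The presentation PB is simple of order 9196830720 -/

set_option autoImplicit false

namespace Cfsg.Agent.Lib.Helper6.U62PBSimple

open Cfsg.Spor Cfsg.Agent.Lib.Helper6.Simp Cfsg.Agent.Lib.Helper6.U62Sub Cfsg.Agent.Lib.Helper6.TC
  Cfsg.Agent.Lib.Helper6.NatArr 

/-- the upper bound for the order, along the chain of sub-presentations -/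
theorem ub : Finite PB ∧ Nat.card PB ≤ 9196830720 := by
  have h3 := finite_card_of_index_empty U62P5TC.main (by norm_num)
  have h2 := subP5.finite_card_le U62P6TC.S rangeP5.symm U62P6TC.main (by norm_num) h3.1
    (le_of_eq h3.2)
  have h1 := subP6B.finite_card_le U62PB7TC.S rangeP6B.symm U62PB7TC.main (by norm_num) h2.1
    h2.2
  have h0 := subPB7.finite_card_le U62PBTC.S rangePB7.symm U62PBTC.main (by norm_num) h1.1
    h1.2
  exact ⟨h0.1, h0.2.trans (by norm_num)⟩

theorem chk_cover : allBelow 1408 (fun b => Nat.beq b 0 ||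
    (btest U62PBTC.orbB1 b || btest U62PBTC.orbB2 b)) = true := by decide +kernel

theorem chk_disj0_1 : Nat.land U62PBTC.orbB1 U62PBTC.orbB2 = 0 := by decide +kernel

theorem chk_disj1_0 : Nat.land U62PBTC.orbB2 U62PBTC.orbB1 = 0 := by decide +kernel

theorem chk_o0 : U62PBTC.orbB1.testBit 0 = false := by decide +kernel

theorem chk_o1 : U62PBTC.orbB2.testBit 0 = false := by decide +kernel

/-- **The presentation PB is simple of order 9196830720** -/
theorem main : IsSimpleGroup PB ∧ Nat.card PB = 9196830720 := by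
  refine simple_card U62PBTC.data ub U62PBSimp.levels U62PBSimp.chain_ok U62PBSimp.chain_prod
    (r := 2) ![U62PBTC.orb1, U62PBTC.orb2] ![567, 840] ?_ ?_ ?_ ?_ ?_ 11 ?_ U62PBSimp.us
    U62PBSimp.chk_pow ?_
  · intro i
    fin_cases i
    · exact U62PBTC.chk_cnt1
    · exact U62PBTC.chk_cnt2
  · intro b hb
    have h := allBelow_spec _ _ chk_cover b hb
    simp only [Bool.or_eq_true, btest_eq] at h
    rcases h with h | h | h
    · exact Or.inl (Nat.eq_of_beq_eq_true h)
    · exact Or.inr ⟨0, h⟩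
    · exact Or.inr ⟨1, h⟩
  · intro i j hij
    fin_cases i <;> fin_cases j
    · exact absurd rfl hij
    · exact chk_disj0_1
    · exact chk_disj1_0
    · exact absurd rfl hij
  · intro i
    fin_cases i
    · exact chk_o0
    · exact chk_o1
  · show ∀ I : Finset (Fin 2), I.Nonempty → (1 + ∑ i ∈ I, ![567, 840] i) ∣ 1408 →
      1 + ∑ i ∈ I, ![567, 840] i = 1408
    decide
  · show (9196830720 / 1408).Coprime 11
    norm_num
  · show 1 < 1408
    norm_num

end Cfsg.Agent.Lib.Helper6.U62PBSimple
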