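import Cfsg.Agent.Lib.Helper6.U62Mat
import Cfsg.Agent.Lib.Helper6.U62PBSimple
import Cfsg.Agent.Lib.Helper6.T3Gen
import Cfsg.Agent.Lib.Helper5.Herm
import Cfsg.Agent.S0280

/-! # The presented group `PB` is the projective special unitary group `PSU(6, 2)`

The generators go to the classes of eight unitary transvections (and the identity); the relators
go to scalar matrices, which are central. The homomorphism is injective since `PB` is simple, and
bijective since the orders agree. -/

set_option autoImplicit false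
set_option linter.constructorNameAsVariable false

namespace Cfsg.Agent.Lib.Helper6.U62Unit

open Cfsg.Agent.Lib.Helper6.ChevMatL Cfsg.Agent.Lib.Helper6.ChevMatL4 Cfsg.Agent.Lib.Helper6.EquivMatL
  Cfsg.Agent.Lib.Helper6.TC Cfsg.Agent.Lib.Helper6.U62Sub Cfsg.Agent.Lib.Helper6.U62Mat Cfsg.Spor
  Cfsg.Agent.Lib.Helper6.Simp Cfsg.Agent.Lib.Helper6.M21 Cfsg.Agent.Lib.Helper6.M21.F4c
  Cfsg.Agent.Lib.Helper6.T3Gen Cfsg.Agent.Lib.Helper5.Herm Cfsg Matrix

/-- the words of the relators are trivial, so the relators are -/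
theorem lift_eq_one_of_words {α : Type} [DecidableEq α] {edges : List (α × ℕ × α)}
    {extra : List (FreeGroup α)} {G : Type} [Group G] (gen : ℕ → α) (code : α → ℕ) (g : ℕ)
    (extraWords : List (List ℕ)) (hcode : ∀ a, code a < g ∧ gen (code a) = a) (f : α → G)
    (hextra : (∀ r ∈ extra, FreeGroup.lift f r = 1) ↔
      ∀ w ∈ extraWords, (w.map fun x => f (gen x)).prod = 1)
    (hw : ∀ w ∈ coxWordsL edges gen g ++ extraWords, (w.map fun x => f (gen x)).prod = 1) :
    ∀ r ∈ coxRelators edges ∪ {r | r ∈ extra}, FreeGroup.lift f r = 1 := by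
  intro r hr
  rcases hr with ⟨x, _, y, _, rfl⟩ | hr
  · rw [map_pow, map_mul, FreeGroup.lift_apply_of, FreeGroup.lift_apply_of]
    have hx := hcode x
    have hy := hcode y
    have hm := mem_coxWordsL edges gen hx.1 hy.1
    have := hw _ (List.mem_append_left _ hm)
    rw [prod_rep2 (fun x => f (gen x)), hx.2, hy.2] at this
    exact this
  · exact hextra.2 (fun w hw' => hw w (List.mem_append_right _ hw')) r hr

/-- the matrices -/
abbrev M : Type := Matrix (Fin 6) (Fin 6) K

/-- the numbering of the indices -/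
def num : Fin 6 ≃ Fin 6 := Equiv.refl _

/-- the matrix with the given columns -/
def mt (Y : List (List K)) : M := colM num Y

/-- the matrix with the given rows -/
def mr (X : List (List K)) : M := rowM num X

theorem mr_transp (Y : List (List K)) : mr (transp 6 Y) = mt Y := by
  ext i j
  exact entry_transp Y (num i).isLt _

theorem mr_idL : mr (idL 6) = 1 := (rowM_one num).symm

theorem mt_idL : mt (idL 6) = 1 := by
  rw [← mr_transp, chk_transp_id, mr_idL]

theorem mt_prod (Ms : List (List (List K))) (h : ∀ Y ∈ Ms, colsOK 6 Y) :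
    (Ms.map mt).prod = mr (prodT4 6 Ms) := by
  rw [prodT4_eq]
  exact (rowM_prodT num Ms h).symm

theorem cardK : Fintype.card K = 2 ^ 2 := by
  rw [F4c.card]
  norm_num

/-- the transvection `x ↦ x + c h(x,u) u` preserves the form when
`c + c^q + c^(q+1) h(u,u) = 0` (the proof is the one of helper5, in `SU3Inv`) -/
theorem herm_tv {F : Type*} [Field F] [Fintype F] {q : ℕ} (hF : Fintype.card F = q ^ 2) (n : ℕ)
    (u : Fin n → F) (c : F)
    (hc : c + c ^ q + c ^ (q + 1) * hermForm n F q u u = 0) (x y : Fin n → F) :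
    hermForm n F q (unitaryTransvection n q u c *ᵥ x) (unitaryTransvection n q u c *ᵥ y)
      = hermForm n F q x y := by
  rw [unitaryTransvection_mulVec, unitaryTransvection_mulVec, hermForm_add_left,
    hermForm_add_right hF, hermForm_add_right hF, hermForm_smul_left, hermForm_smul_right,
    hermForm_smul_right, hermForm_smul_left, mul_pow, ← hermForm_swap hF n u y]
  have e : hermForm n F q x y + (c ^ q * hermForm n F q u y) * hermForm n F q x u +
      (c * hermForm n F q x u * hermForm n F q u y +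
        c ^ q * hermForm n F q u y * (c * hermForm n F q x u * hermForm n F q u u))
      = hermForm n F q x y + hermForm n F q x u * hermForm n F q u y *
        (c + c ^ q + c ^ (q + 1) * hermForm n F q u u) := by
    rw [pow_succ]; ring
  rw [e, hc, mul_zero, add_zero]

/-! ### the images of the generators -/

/-- the matrix of the transvection -/
def gMat (x : ℕ) : M := Cfsg.unitaryTransvection 6 2 (vec x) 1

theorem gMat_eq {x : ℕ} (hx : x < 9) : gMat x = mt (genLt x) := by
  ext i j
  exact chk_tv x hx i j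

theorem gMat_det {x : ℕ} (hx : x < 9) : (gMat x).det = 1 := by
  unfold gMat unitaryTransvection
  have h1 : (1 : K) • Matrix.vecMulVec (vec x) (fun j => vec x j ^ 2)
      = Matrix.replicateCol Unit (vec x) * Matrix.replicateRow Unit (fun j => vec x j ^ 2) := by
    ext i j
    simp [Matrix.vecMulVec_apply, Matrix.mul_apply]
  rw [h1, Matrix.det_one_add_replicateCol_mul_replicateRow]
  have h2 : (fun j => vec x j ^ 2) ⬝ᵥ vec x = hermForm 6 K 2 (vec x) (vec x) := by
    unfold hermForm dotProduct
    exact Finset.sum_congr rfl (fun i _ => by ring)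
  rw [h2, chk_iso x hx, add_zero]

theorem gMat_herm {x : ℕ} (hx : x < 9) (u v : Fin 6 → K) :
    hermForm 6 K 2 (gMat x *ᵥ u) (gMat x *ᵥ v) = hermForm 6 K 2 u v := by
  apply herm_tv cardK
  rw [chk_iso x hx]
  decide

/-- the image of a generator in the special unitary group -/
def gSU (x : ℕ) : ↥(SU 6 K 2) :=
  if h : x < 9 then ⟨⟨gMat x, gMat_det h⟩, fun u v => gMat_herm h u v⟩ else 1

theorem gSU_val {x : ℕ} (hx : x < 9) :
    (((gSU x : ↥(SU 6 K 2)) : Matrix.SpecialLinearGroup (Fin 6) K) : M) = mt (genLt x) := by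
  unfold gSU
  rw [dif_pos hx]
  exact gMat_eq hx

theorem genLt_mem (x : ℕ) : genLt x ∈ genTbl := by
  unfold genLt
  by_cases h : x < genTbl.length
  · rw [List.getD_eq_getElem _ _ h]
    exact List.getElem_mem h
  · rw [List.getD_eq_default _ _ (Nat.le_of_not_gt h)]
    simp [genTbl]

theorem genLt_cols (w : List ℕ) : ∀ Y ∈ w.map genLt, colsOK 6 Y := by
  intro Y hY
  obtain ⟨x, _, rfl⟩ := List.mem_map.1 hY
  exact chk_gcols _ (genLt_mem x)

theorem coe_prod_gSU (w : List ℕ) :
    ((((w.map gSU).prod : ↥(SU 6 K 2)) : Matrix.SpecialLinearGroup (Fin 6) K) : M) =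
      (w.map fun x => (((gSU x : ↥(SU 6 K 2)) : Matrix.SpecialLinearGroup (Fin 6) K) : M)).prod := by
  induction w with
  | nil => rfl
  | cons x w ih =>
    rw [List.map_cons, List.prod_cons, Subgroup.coe_mul, Matrix.SpecialLinearGroup.coe_mul, ih,
      List.map_cons, List.prod_cons]

theorem prod_gSU_val {w : List ℕ} (hw : ∀ x ∈ w, x < 9) :
    ((((w.map gSU).prod : ↥(SU 6 K 2)) : Matrix.SpecialLinearGroup (Fin 6) K) : M) =
      mr (prodT4 6 (w.map genLt)) := by
  rw [coe_prod_gSU, ← mt_prod (w.map genLt) (genLt_cols w), List.map_map]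
  congr 1
  apply List.map_congr_left
  intro x hx
  exact gSU_val (hw x hx)

theorem gSU_mul_self (x : ℕ) : gSU x * gSU x = 1 := by
  by_cases hx : x < 9
  · have h := prod_gSU_val (w := [x, x]) (by
      intro y hy
      simp only [List.mem_cons, List.not_mem_nil, or_false, or_self] at hy
      rw [hy]
      exact hx)
    simp only [List.map_cons, List.map_nil, List.prod_cons, List.prod_nil, mul_one] at h
    rw [chk_ginv _ (genLt_mem x), idL4_eq, mr_idL] at h
    apply Subtype.ext
    apply Subtype.ext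
    exact h
  · unfold gSU
    rw [dif_neg hx, mul_one]

/-! ### scalar matrices -/

theorem mr_scal (c : K) : mr (scal c) = c • (1 : M) := by
  ext i j
  show entry (scal c) (num i).val (num j).val = _
  unfold scal
  rw [entry_table 6 _ (num i).isLt (num j).isLt, Matrix.smul_apply, Matrix.one_apply]
  by_cases h : i = j
  · subst h
    rw [if_pos rfl, if_pos rfl, smul_eq_mul, mul_one]
  · rw [if_neg h, smul_zero]
    exact if_neg (fun h' => h (Fin.ext h'))

theorem isScal_spec {X : List (List K)} (h : isScal X = true) : ∃ c : K, X = scal c := by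
  unfold isScal at h
  rw [Bool.or_eq_true, Bool.or_eq_true] at h
  rcases h with h | h | h
  · exact ⟨_, of_decide_eq_true h⟩
  · exact ⟨_, of_decide_eq_true h⟩
  · exact ⟨_, of_decide_eq_true h⟩

theorem central_of_scalar (z : ↥(SU 6 K 2)) (c : K)
    (hz : ((z : Matrix.SpecialLinearGroup (Fin 6) K) : M) = c • (1 : M)) :
    z ∈ Subgroup.center ↥(SU 6 K 2) := by
  rw [Subgroup.mem_center_iff]
  intro g
  apply Subtype.ext
  apply Subtype.ext
  show ((g : Matrix.SpecialLinearGroup (Fin 6) K) : M) *
      ((z : Matrix.SpecialLinearGroup (Fin 6) K) : M) =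
    ((z : Matrix.SpecialLinearGroup (Fin 6) K) : M) *
      ((g : Matrix.SpecialLinearGroup (Fin 6) K) : M)
  rw [hz, Matrix.mul_smul, Matrix.smul_mul, Matrix.mul_one, Matrix.one_mul]

/-! ### the homomorphism -/

/-- the images of the generators -/
def fgen (a : PB.Gen) : PSU 6 K 2 :=
  ((gSU (U62PBTC.code a) : ↥(SU 6 K 2)) : PSU 6 K 2)

theorem fgen_gen {x : ℕ} (hx : x < 9) :
    fgen (U62PBTC.gen x) = ((gSU x : ↥(SU 6 K 2)) : PSU 6 K 2) := by
  interval_cases x <;> rfl

theorem prod_fgen {w : List ℕ} (hw : ∀ x ∈ w, x < 9) :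
    (w.map fun x => fgen (U62PBTC.gen x)).prod =
      (((w.map gSU).prod : ↥(SU 6 K 2)) : PSU 6 K 2) := by
  induction w with
  | nil => rfl
  | cons x w ih =>
    rw [List.map_cons, List.prod_cons, List.map_cons, List.prod_cons, QuotientGroup.mk_mul,
      ih (fun y hy => hw y (List.mem_cons_of_mem _ hy)), fgen_gen (hw x List.mem_cons_self)]

theorem word_eq_one {w : List ℕ}
    (hw : w ∈ coxWordsL PB.edges U62PBTC.gen 9 ++ U62PBTC.extraWords) :
    (w.map fun x => fgen (U62PBTC.gen x)).prod = 1 := by
  have h1 := List.all_eq_true.1 chk_rels w hw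
  have h2 := List.all_eq_true.1 chk_rels_lt w hw
  have h4 : ∀ x ∈ w, x < 9 := fun x hx => of_decide_eq_true (List.all_eq_true.1 h2 x hx)
  rw [prod_fgen h4, QuotientGroup.eq_one_iff]
  obtain ⟨c, hc⟩ := isScal_spec h1
  apply central_of_scalar _ c
  rw [prod_gSU_val h4, hc, mr_scal]

theorem fgen_mul_self (a : PB.Gen) : fgen a * fgen a = 1 := by
  unfold fgen
  rw [← QuotientGroup.mk_mul, gSU_mul_self, QuotientGroup.mk_one]

theorem lift_rel : ∀ r ∈ coxRelators PB.edges ∪ {r | r ∈ PB.extra}, FreeGroup.lift fgen r = 1 :=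
  lift_eq_one_of_words U62PBTC.gen U62PBTC.code 9 U62PBTC.extraWords
    (by intro a; cases a <;> exact ⟨by decide, rfl⟩) fgen
    (U62PBTC.extra_iff fgen fgen_mul_self) fun _ hw => word_eq_one hw

/-- the homomorphism from the presented group to the projective special unitary group -/
def ψ : PB →* PSU 6 K 2 := PresentedGroup.toGroup lift_rel

theorem ψ_of (a : PB.Gen) : ψ (PresentedGroup.of a) = fgen a := PresentedGroup.toGroup.of _

theorem not_comm : gSU 1 * gSU 2 ≠ gSU 2 * gSU 1 := by
  intro h
  have e1 := prod_gSU_val (w := [1, 2]) (by decide)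
  have e2 := prod_gSU_val (w := [2, 1]) (by decide)
  simp only [List.map_cons, List.map_nil, List.prod_cons, List.prod_nil, mul_one] at e1 e2
  rw [h, e2] at e1
  obtain ⟨i, j, hij⟩ := chk_nc
  exact hij (congrFun (congrFun e1 i) j).symm

theorem ψ_ne_one : ψ (PresentedGroup.of PB.Gen.c) ≠ 1 := by
  intro h
  rw [ψ_of] at h
  have h2 : gSU 1 ∈ Subgroup.center ↥(SU 6 K 2) := (QuotientGroup.eq_one_iff _).1 h
  exact not_comm (Subgroup.mem_center_iff.1 h2 (gSU 2)).symm

theorem ψ_injective : Function.Injective ψ := by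
  have hs : IsSimpleGroup PB := U62PBSimple.main.1
  exact injective_of_simple ψ ψ_ne_one

theorem card_PSU : Nat.card (PSU 6 K 2) = 9196830720 := by
  have h := Cfsg.Agent.S0280.result (F := K) (q := 2) cardK 6 (by norm_num)
  have h2 : 2 ^ (6 * (6 - 1) / 2) * ∏ i ∈ Finset.range 6,
      (if Even i then 2 ^ (i + 1) + 1 else 2 ^ (i + 1) - 1) = 3 * (3 * 9196830720) := by
    decide
  have h3 : Nat.gcd 6 (2 + 1) = 3 := by decide
  rw [h2, h3] at h
  omega

theorem ψ_bijective : Function.Bijective ψ := by
  have hc : Nat.card PB = 9196830720 := U62PBSimple.main.2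
  have : Finite (PSU 6 K 2) := Nat.finite_of_card_ne_zero (by rw [card_PSU]; norm_num)
  exact ψ_injective.bijective_of_nat_card_le (by rw [card_PSU, hc])

/-- the presented group is the projective special unitary group -/
noncomputable def isoPSU : PB ≃* PSU 6 K 2 := MulEquiv.ofBijective ψ ψ_bijective

end Cfsg.Agent.Lib.Helper6.U62Unit
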