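import Cfsg.Agent.Lib.Helper6.U62CoRel
import Cfsg.Agent.Lib.Helper6.LeechSimpleCo2
import Cfsg.Agent.Lib.Helper6.LeechCo2A
import Cfsg.Agent.Lib.Helper6.U62Unit

/-!
# The joint stabiliser of two minimal vectors of inner product `-16` is the unitary group `PSU(6, 2)`

The presented group `PB` maps to the stabiliser of the two reference vectors; the map is injective since `PB` is
simple, and bijective since the orders agree (the stabiliser of the first vector has order 42305421312000 and is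
transitive on the 4600 vectors in question).
-/

set_option autoImplicit false
set_option linter.constructorNameAsVariable false

namespace Cfsg.Agent.Lib.Helper6.Leech

open Cfsg MulAction
open Cfsg.Agent.Lib.Helper6.Golay Cfsg.Agent.Lib.Helper6.U62Sub Cfsg.Agent.Lib.Helper6.TC
  Cfsg.Agent.Lib.Helper6.T3Gen Cfsg.Spor

/-- an automorphism acts on lists as a word -/
def Acts (t : Co0) (w : List Prim) : Prop :=
  ∀ (x : List ℤ) (hx : vecOf x ∈ leechLattice),
    ((t.1 ⟨vecOf x, hx⟩ : leechLattice) : GolayPt → ℤ) = vecOf (actW w x)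

theorem Acts.one : Acts 1 [] := fun _ _ => rfl

theorem Acts.mul {t1 t2 : Co0} {w1 w2 : List Prim} (h1 : Acts t1 w1) (h2 : Acts t2 w2) :
    Acts (t2 * t1) (w1 ++ w2) := by
  intro x hx
  have hx' : vecOf (actW w1 x) ∈ leechLattice := by rw [← h1 x hx]; exact (t1.1 ⟨vecOf x, hx⟩).2
  have e : t1.1 ⟨vecOf x, hx⟩ = ⟨vecOf (actW w1 x), hx'⟩ := Subtype.ext (h1 x hx)
  show ((t2.1 (t1.1 ⟨vecOf x, hx⟩) : leechLattice) : GolayPt → ℤ) = _
  rw [e, h2 _ hx', actW, actW, actW, List.foldl_append]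

theorem Acts.eq_one {t : Co0} {w : List Prim} (h : Acts t w)
    (h2 : ∀ i < 24, actW w (neg8L i) = neg8L i) : t = 1 := by
  apply co0_eq_one_of_v8
  intro p
  have hp := h2 (idx p) (idx_lt p)
  have hm : vecOf (neg8L (idx p)) ∈ leechLattice := by rw [vecOf_neg8L]; exact (-(v8 p)).2
  have e0 : (⟨vecOf (neg8L (idx p)), hm⟩ : leechLattice) = -(v8 p) := Subtype.ext (vecOf_neg8L p)
  have e1 : t.1 ⟨vecOf (neg8L (idx p)), hm⟩ = ⟨vecOf (neg8L (idx p)), hm⟩ := by
    apply Subtype.ext
    rw [h _ hm, hp]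
  rw [e0, co0_neg, neg_inj] at e1
  exact e1

theorem Acts.fix {t : Co0} {w : List Prim} (h : Acts t w) {r : List ℤ} (hr : vecOf (actW w r) = vecOf r)
    (hm : vecOf r ∈ leechLattice) : t.1 ⟨vecOf r, hm⟩ = ⟨vecOf r, hm⟩ := by
  apply Subtype.ext
  rw [h _ hm, hr]

/-! ### the images of the generators -/

theorem u6Good (x : ℕ) : GoodWord [v0L, x0L] (u6Word x) :=
  goodWord_getD (goodWord_of_checkGens u6Perms_rep u6Tbl_ok) x

/-- the automorphism of a generator -/
noncomputable def gCo (x : ℕ) : Co0 := Classical.choose (actW_sound (u6Word x) (u6Good x).1)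

theorem gCo_acts (x : ℕ) : Acts (gCo x) (u6Word x) :=
  Classical.choose_spec (actW_sound (u6Word x) (u6Good x).1)

theorem prod_acts (w : List ℕ) : Acts ((w.map gCo).prod) (bigWord w) := by
  induction w with
  | nil => exact Acts.one
  | cons a w ih =>
    rw [List.map_cons, List.prod_cons]
    exact Acts.mul ih (gCo_acts a)

theorem x0L_mem : vecOf x0L ∈ leechLattice := mem_leechLattice.mpr (inLeechL_sound _ x0L_ok.1)

/-- the second reference vector -/
def u6x' : leechLattice := ⟨vecOf x0L, x0L_mem⟩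

/-- the stabiliser of the two reference vectors -/
def u6Ref : Subgroup Co0 := stabilizer Co0 v0' ⊓ stabilizer Co0 u6x'

theorem gCo_mem (x : ℕ) : gCo x ∈ u6Ref := by
  apply Subgroup.mem_inf.mpr
  exact ⟨(co0_stab_iff _ _).mpr ((gCo_acts x).fix ((u6Good x).2 v0L (by simp)) v0L_mem),
    (co0_stab_iff _ _).mpr ((gCo_acts x).fix ((u6Good x).2 x0L (by simp)) x0L_mem)⟩

theorem prod_gCo_eq_one {w : List ℕ} (hw : w ∈ u6Rels) : (w.map gCo).prod = 1 := by
  apply (prod_acts w).eq_one
  intro i hi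
  obtain ⟨k, hk, rfl⟩ := List.getElem_of_mem hw
  have hk' : k < 87 := by rw [← u6Rels_length]; exact hk
  have h := u6_chk_all hk' hi
  rw [chk, beq_iff_eq, List.getD_eq_getElem _ _ hk] at h
  exact h

/-- the images of the generators -/
noncomputable def fgenCo (a : PB.Gen) : ↥u6Ref := ⟨gCo (U62PBTC.code a), gCo_mem _⟩

theorem fgenCo_gen {x : ℕ} (hx : x < 9) : (fgenCo (U62PBTC.gen x) : Co0) = gCo x := by
  interval_cases x <;> rfl

theorem coe_prod_fgenCo {w : List ℕ} (hw : ∀ x ∈ w, x < 9) :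
    (((w.map fun x => fgenCo (U62PBTC.gen x)).prod : ↥u6Ref) : Co0) = (w.map gCo).prod := by
  induction w with
  | nil => rfl
  | cons x w ih =>
    rw [List.map_cons, List.prod_cons, Subgroup.coe_mul, ih (fun y hy => hw y (List.mem_cons_of_mem _ hy)),
      fgenCo_gen (hw x List.mem_cons_self), List.map_cons, List.prod_cons]

theorem word_eq_one_co {w : List ℕ} (hw : w ∈ u6Rels) :
    (w.map fun x => fgenCo (U62PBTC.gen x)).prod = 1 := by
  have h2 := List.all_eq_true.1 U62Mat.chk_rels_lt w hw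
  have h4 : ∀ x ∈ w, x < 9 := fun x hx => of_decide_eq_true (List.all_eq_true.1 h2 x hx)
  apply Subtype.ext
  rw [coe_prod_fgenCo h4, prod_gCo_eq_one hw]
  rfl

theorem sq_mem_u6Rels : ∀ x < 9, [x, x] ∈ u6Rels := by decide +kernel

theorem fgenCo_mul_self (a : PB.Gen) : fgenCo a * fgenCo a = 1 := by
  have hc : U62PBTC.code a < 9 ∧ U62PBTC.gen (U62PBTC.code a) = a := by
    cases a <;> exact ⟨by decide, rfl⟩
  have h := word_eq_one_co (sq_mem_u6Rels _ hc.1)
  simp only [List.map_cons, List.map_nil, List.prod_cons, List.prod_nil, mul_one] at h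
  rw [hc.2] at h
  exact h

theorem lift_rel_co : ∀ r ∈ coxRelators PB.edges ∪ {r | r ∈ PB.extra}, FreeGroup.lift fgenCo r = 1 :=
  U62Unit.lift_eq_one_of_words U62PBTC.gen U62PBTC.code 9 U62PBTC.extraWords
    (by intro a; cases a <;> exact ⟨by decide, rfl⟩) fgenCo
    (U62PBTC.extra_iff fgenCo fgenCo_mul_self) fun _ hw => word_eq_one_co hw

/-- the homomorphism from the presented group to the stabiliser -/
noncomputable def ψCo : PB →* ↥u6Ref := PresentedGroup.toGroup lift_rel_co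

theorem ψCo_of (a : PB.Gen) : ψCo (PresentedGroup.of a) = fgenCo a := PresentedGroup.toGroup.of _

/-- a vector moved by the image of `d` -/
def mvL : List ℤ := [0, 0, 4, 4, 0, 0, 0, 0, 0, 0, 0, 0, 0, 0, 0, 0, 0, 0, 0, 0, 0, 0, 0, 0]

theorem mvL_ok : inLeechL mvL = true ∧ movedBy (u6Word 2) mvL = true := by decide +kernel

theorem ψCo_ne_one : ψCo (PresentedGroup.of PB.Gen.d) ≠ 1 := by
  intro h
  rw [ψCo_of] at h
  have h1 : gCo 2 = 1 := congrArg Subtype.val h
  have hm : vecOf mvL ∈ leechLattice := mem_leechLattice.mpr (inLeechL_sound _ mvL_ok.1)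
  apply moved_of_movedBy (u6Word 2) (gCo 2) (gCo_acts 2) mvL mvL_ok.2 ⟨vecOf mvL, hm⟩ rfl
  rw [h1]
  rfl

theorem ψCo_injective : Function.Injective ψCo := by
  have hs : IsSimpleGroup PB := U62PBSimple.main.1
  exact injective_of_simple ψCo ψCo_ne_one

/-! ### the order of the stabiliser -/

/-- the 4600 minimal vectors of inner product `-16` with the reference vector -/
def u6Pts : Set leechLattice :=
  {w | sqNorm (w : GolayPt → ℤ) = 32 ∧ dotInt (v0' : GolayPt → ℤ) (w : GolayPt → ℤ) = -16}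

theorem census_ncard_4600 : (census (vecOf v0L) (-16)).ncard = 4600 := by
  have hN : (census (w2 4 4) (4 * (-4))).ncard = 4600 := by
    rw [show (w2 4 4) = ((v0 : leechLattice) : GolayPt → ℤ) from rfl, census_v0]
    exact total2_vals.1
  rw [vecOf_v0L]
  have e : (4 : ℤ) * (-4) = -16 := by norm_num
  rw [e] at hN
  exact hN

theorem u6Pts_ncard : u6Pts.ncard = 4600 := by
  rw [u6Pts, ncard_subtype_eq (fun y => sqNorm y = 32 ∧ dotInt (v0' : GolayPt → ℤ) y = -16),
    ← census_ncard_4600]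
  rfl

theorem x0_mem_u6Pts : u6x' ∈ u6Pts := by
  refine ⟨?_, ?_⟩
  · show sqNorm (vecOf x0L) = 32
    rw [sqNorm_vecOf]; exact x0L_ok.2.1
  · show dotInt (vecOf v0L) (vecOf x0L) = -16
    rw [dotInt_vecOf]; exact x0L_ok.2.2

theorem u6Pts_inv : ∀ k ∈ stabilizer Co0 v0', ∀ x ∈ u6Pts, k • x ∈ u6Pts := by
  intro k hk x hx
  refine ⟨(co0_norm k x).trans hx.1, ?_⟩
  have := co0_dot k v0' x
  rw [(co0_stab_iff k v0').mp hk] at this
  exact this.trans hx.2

theorem u6_transitive : ∀ y ∈ u6Pts, ∃ k ∈ stabilizer Co0 v0', k • u6x' = y := by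
  intro y hy
  obtain ⟨g, h1, h2⟩ := co2_transitiveA v0' u6x' y v0L_norm x0_mem_u6Pts.1 hy.1 x0_mem_u6Pts.2 hy.2
  exact ⟨g, h1, h2⟩

theorem card_u6Ref : Nat.card ↥u6Ref = 9196830720 := by
  have h := card_eq_orbit_mul_stab (stabilizer Co0 v0') u6Pts u6x'
    (fun k hk => u6Pts_inv k hk u6x' x0_mem_u6Pts) u6_transitive
  rw [card_co2Ref, u6Pts_ncard] at h
  show Nat.card ↥(stabilizer Co0 v0' ⊓ stabilizer Co0 u6x') = 9196830720
  omega

theorem ψCo_bijective : Function.Bijective ψCo := by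
  have hc : Nat.card PB = 9196830720 := U62PBSimple.main.2
  have : Finite ↥u6Ref := Nat.finite_of_card_ne_zero (by rw [card_u6Ref]; norm_num)
  exact ψCo_injective.bijective_of_nat_card_le (by rw [card_u6Ref, hc])

/-- the presented group is the stabiliser of the two reference vectors -/
noncomputable def isoCo : PB ≃* ↥u6Ref := MulEquiv.ofBijective ψCo ψCo_bijective

/-! ### arbitrary pairs of vectors -/

/-- conjugate pairs of vectors have isomorphic joint stabilisers -/
theorem stab_inf_equiv (g : Co0) (v w : leechLattice) :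
    Nonempty (↥(stabilizer Co0 v ⊓ stabilizer Co0 w) ≃* ↥(stabilizer Co0 (g • v) ⊓ stabilizer Co0 (g • w))) := by
  have e1 : stabilizer Co0 (g • v) ⊓ stabilizer Co0 (g • w) =
      (stabilizer Co0 v ⊓ stabilizer Co0 w).map (MulAut.conj g).toMonoidHom := by
    rw [Subgroup.map_inf_eq _ _ _ (MulAut.conj g).injective, stabilizer_smul_eq_stabilizer_map_conj,
      stabilizer_smul_eq_stabilizer_map_conj]
  rw [e1]
  exact ⟨Subgroup.equivMapOfInjective _ _ (MulAut.conj g).injective⟩

/-- **The joint stabiliser of two minimal vectors of inner product `-16`.** -/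
theorem stab_pair_equiv (v w : leechLattice) (hv : sqNorm (v : GolayPt → ℤ) = 32)
    (hw : sqNorm (w : GolayPt → ℤ) = 32) (hd : dotInt (v : GolayPt → ℤ) (w : GolayPt → ℤ) = -16) :
    Nonempty (↥(stabilizer Co0 v ⊓ stabilizer Co0 w) ≃* PB) := by
  obtain ⟨g0, hg0⟩ := co0_transitive_min v v0' hv v0L_norm
  have hw1 : sqNorm ((g0 • w : leechLattice) : GolayPt → ℤ) = 32 := (co0_norm g0 w).trans hw
  have hd1 : dotInt (v0' : GolayPt → ℤ) ((g0 • w : leechLattice) : GolayPt → ℤ) = -16 := by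
    rw [← hg0]
    exact (co0_dot g0 v w).trans hd
  obtain ⟨g1, h1, h2⟩ := co2_transitiveA v0' (g0 • w) u6x' v0L_norm hw1 x0_mem_u6Pts.1 hd1
    x0_mem_u6Pts.2
  obtain ⟨e⟩ := stab_inf_equiv (g1 * g0) v w
  rw [mul_smul, mul_smul, hg0, h1, h2] at e
  exact ⟨e.trans isoCo.symm⟩

end Cfsg.Agent.Lib.Helper6.Leech
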