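import Cfsg.Agent.Lib.Helper6.LeechHSInv
import Cfsg.Agent.Lib.Helper6.LeechStrict
import Cfsg.Agent.Lib.Helper6.U62PBTC

/-!
# Eight involutions of the automorphism group of the lattice fixing two minimal vectors, satisfying
the relations of a presentation of the unitary group U6(2) (generated data)
-/

set_option autoImplicit false

namespace Cfsg.Agent.Lib.Helper6.Leech

open Cfsg
open Cfsg.Agent.Lib.Helper6.Golay Cfsg.Agent.Lib.Helper6.U62Sub Cfsg.Agent.Lib.Helper6.TC


def u6Prog : List (ℕ × ℕ) := [(1, 2), (0, 0), (3, 2), (5, 2), (6, 2), (7, 7), (8, 8), (9, 9), (7, 10), (4, 4), (4, 12), (12, 12), (14, 14), (13, 15)]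

def u6pA : List ℕ := [1, 2, 3, 4, 5, 6, 7, 8, 9, 10, 11, 12, 13, 14, 15, 16, 17, 18, 19, 20, 21, 22, 0, 23]

def u6pAi : List ℕ := [22, 0, 1, 2, 3, 4, 5, 6, 7, 8, 9, 10, 11, 12, 13, 14, 15, 16, 17, 18, 19, 20, 21, 23]

def u6pX : List ℕ := [23, 19, 17, 15, 14, 13, 11, 16, 21, 7, 8, 4, 5, 10, 1, 3, 20, 18, 22, 2, 12, 9, 6, 0]

def u6pXi : List ℕ := [23, 14, 19, 15, 11, 12, 22, 9, 10, 21, 13, 6, 20, 5, 4, 3, 7, 2, 17, 1, 16, 8, 18, 0]

def u6Idx : List ℕ := [0, 16, 7, 11]

def u6Perms : List (List ℕ) := [u6pA, u6pAi, u6pX, u6pXi]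

theorem u6Perms_eq : u6Perms = u6Idx.map (fun k => (slpPerms u6Prog).getD k idl) := by
  decide +kernel

theorem u6Perms_rep : ∀ l ∈ u6Perms, Rep M24 l := by
  intro l hl
  rw [u6Perms_eq, List.mem_map] at hl
  obtain ⟨k, _, rfl⟩ := hl
  exact rep_slpPerms u6Prog k

/-- the second reference minimal vector -/
def x0L : List ℤ := [-4, 4, 0, 0, 0, 0, 0, 0, 0, 0, 0, 0, 0, 0, 0, 0, 0, 0, 0, 0, 0, 0, 0, 0]

/-- the words of the images of the generators a, c, d, e, f, g, h, i, t -/
def u6Tbl : List (List Prim) := [[],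
  [.xi, .sign 16732056, .xi'],
  [.sign 7430140],
  [.xi, .sign 16771936, .xi'],
  [.perm u6pX, .xi, .perm u6pA, .xi, .sign 8375851, .xi', .perm u6pAi, .xi', .perm u6pXi],
  [.sign 8120056],
  [.xi, .sign 13361136, .xi'],
  [.perm u6pX, .xi, .perm u6pA, .xi, .sign 5168507, .xi', .perm u6pAi, .xi', .perm u6pXi],
  [.sign 7305720]]

/-- the word of a generator -/
def u6Word (x : ℕ) : List Prim := u6Tbl.getD x []

/-- the word of a product of generators (the last generator acts first) -/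
def bigWord : List ℕ → List Prim
  | [] => []
  | a :: w => bigWord w ++ u6Word a

set_option maxRecDepth 100000 in
theorem u6Tbl_ok : checkGens u6Perms [v0L, x0L] u6Tbl = true := by decide +kernel

theorem x0L_ok : inLeechL x0L = true ∧ normL x0L = 32 ∧ dotL v0L x0L = -16 := by
  decide +kernel


/-- the relator words -/
def u6Rels : List (List ℕ) := coxWordsL PB.edges U62PBTC.gen 9 ++ U62PBTC.extraWords

/-- the `k`-th relator word acts trivially on the vector `-8 e_i` -/
def chk (k i : ℕ) : Bool := actW (bigWord (u6Rels.getD k [])) (neg8L i) == neg8L i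

/-- a rectangle of checks -/
def chkRect (a n lo m : ℕ) : Bool :=
  (List.range' a n).all fun k => (List.range' lo m).all fun i => chk k i

theorem chkRect_spec {a n lo m : ℕ} (h : chkRect a n lo m = true) {k i : ℕ} (hk1 : a ≤ k)
    (hk2 : k < a + n) (hi1 : lo ≤ i) (hi2 : i < lo + m) : chk k i = true := by
  rw [chkRect, List.all_eq_true] at h
  have h1 := h k (by rw [List.mem_range'_1]; exact ⟨hk1, hk2⟩)
  rw [List.all_eq_true] at h1
  exact h1 i (by rw [List.mem_range'_1]; exact ⟨hi1, hi2⟩)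

theorem u6Rels_length : u6Rels.length = 87 := by decide +kernel

end Cfsg.Agent.Lib.Helper6.Leech
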