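import Cfsg.Agent.Lib.Helper6.U62CoData

/-! # The relators act trivially: kernel checks, part 1 (generated) -/

set_option autoImplicit false
set_option maxRecDepth 1000000
set_option maxHeartbeats 4000000

namespace Cfsg.Agent.Lib.Helper6.Leech

theorem u6_chk_1_0 : chkRect 0 28 6 6 = true := by decide +kernel

theorem u6_chk_1_1 : chkRect 28 14 6 6 = true := by decide +kernel

theorem u6_chk_1_2 : chkRect 42 19 6 6 = true := by decide +kernel

theorem u6_chk_1_3 : chkRect 61 11 6 6 = true := by decide +kernel

theorem u6_chk_1_4 : chkRect 72 10 6 6 = true := by decide +kernel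

theorem u6_chk_1_5 : chkRect 82 2 6 6 = true := by decide +kernel

theorem u6_chk_1_6 : chkRect 84 1 6 6 = true := by decide +kernel

theorem u6_chk_1_7 : chkRect 85 2 6 6 = true := by decide +kernel

end Cfsg.Agent.Lib.Helper6.Leech
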