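import Cfsg.Agent.Lib.Helper6.Fi22TC
import Cfsg.Agent.Lib.Helper6.U62PTC

/-! # The relators of the presentation `P` hold in the presented Fischer group Fi22: the kernel
checks on the permutation representation of degree 3510 (generated) -/

set_option autoImplicit false
set_option maxRecDepth 1000000

namespace Cfsg.Agent.Lib.Helper6.U62Theta

open Cfsg.Agent.Lib.Helper6.TC Cfsg.Agent.Lib.Helper6.U62Sub Cfsg.Spor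

/-- the word `(a b c d e h)^5` in the generators of Fi22 -/
def tW : List ℕ :=
  [0, 1, 2, 3, 4, 7, 0, 1, 2, 3, 4, 7, 0, 1, 2, 3, 4, 7, 0, 1, 2, 3, 4, 7, 0, 1, 2, 3, 4, 7]

/-- the words of the images of the generators `a, c, d, e, f, g, h, i, t` of `P` -/
def expand : ℕ → List ℕ
  | 0 => [0]
  | 1 => [2]
  | 2 => [3]
  | 3 => [4]
  | 4 => [5]
  | 5 => [6]
  | 6 => [7]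
  | 7 => [8]
  | _ => tW

/-- the images of the words of the relators, and of the square of the last generator -/
def thetaWords : List (List ℕ) :=
  ((coxWordsL P.edges U62PTC.gen 9 ++ U62PTC.extraWords) ++ [[8, 8]]).map fun w : List ℕ =>
    w.flatMap expand

theorem relsOK_append (T : Tab) (A B : List (List ℕ)) :
    T.relsOK (A ++ B) = (T.relsOK A && T.relsOK B) := by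
  unfold Tab.relsOK
  exact List.all_append

/-- group 0 of the words -/
def grp0 : List (List ℕ) :=
  [[0, 0],
   [0, 2, 0, 2],
   [0, 3, 0, 3],
   [0, 4, 0, 4],
   [0, 5, 0, 5],
   [0, 6, 0, 6],
   [0, 7, 0, 7],
   [0, 8, 0, 8],
   [0, 0, 1, 2, 3, 4, 7, 0, 1, 2, 3, 4, 7, 0, 1, 2, 3, 4, 7, 0, 1, 2, 3, 4, 7, 0, 1, 2, 3, 4, 7, 0, 0, 1, 2, 3, 4, 7, 0, 1, 2, 3, 4, 7, 0, 1, 2, 3, 4, 7, 0, 1, 2, 3, 4, 7, 0, 1, 2, 3, 4, 7],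
   [2, 0, 2, 0],
   [2, 2],
   [2, 3, 2, 3, 2, 3],
   [2, 4, 2, 4],
   [2, 5, 2, 5],
   [2, 6, 2, 6],
   [2, 7, 2, 7],
   [2, 8, 2, 8]]

theorem chk_g0 : Fi22TC.tab.relsOK grp0 = true := by decide +kernel

/-- group 1 of the words -/
def grp1 : List (List ℕ) :=
  [[2, 0, 1, 2, 3, 4, 7, 0, 1, 2, 3, 4, 7, 0, 1, 2, 3, 4, 7, 0, 1, 2, 3, 4, 7, 0, 1, 2, 3, 4, 7, 2, 0, 1, 2, 3, 4, 7, 0, 1, 2, 3, 4, 7, 0, 1, 2, 3, 4, 7, 0, 1, 2, 3, 4, 7, 0, 1, 2, 3, 4, 7],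
   [3, 0, 3, 0],
   [3, 2, 3, 2, 3, 2],
   [3, 3],
   [3, 4, 3, 4, 3, 4],
   [3, 5, 3, 5],
   [3, 6, 3, 6],
   [3, 7, 3, 7, 3, 7],
   [3, 8, 3, 8]]

theorem chk_g1 : Fi22TC.tab.relsOK grp1 = true := by decide +kernel

/-- group 2 of the words -/
def grp2 : List (List ℕ) :=
  [[3, 0, 1, 2, 3, 4, 7, 0, 1, 2, 3, 4, 7, 0, 1, 2, 3, 4, 7, 0, 1, 2, 3, 4, 7, 0, 1, 2, 3, 4, 7, 3, 0, 1, 2, 3, 4, 7, 0, 1, 2, 3, 4, 7, 0, 1, 2, 3, 4, 7, 0, 1, 2, 3, 4, 7, 0, 1, 2, 3, 4, 7],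
   [4, 0, 4, 0],
   [4, 2, 4, 2],
   [4, 3, 4, 3, 4, 3],
   [4, 4],
   [4, 5, 4, 5, 4, 5],
   [4, 6, 4, 6],
   [4, 7, 4, 7],
   [4, 8, 4, 8]]

theorem chk_g2 : Fi22TC.tab.relsOK grp2 = true := by decide +kernel

/-- group 3 of the words -/
def grp3 : List (List ℕ) :=
  [[4, 0, 1, 2, 3, 4, 7, 0, 1, 2, 3, 4, 7, 0, 1, 2, 3, 4, 7, 0, 1, 2, 3, 4, 7, 0, 1, 2, 3, 4, 7, 4, 0, 1, 2, 3, 4, 7, 0, 1, 2, 3, 4, 7, 0, 1, 2, 3, 4, 7, 0, 1, 2, 3, 4, 7, 0, 1, 2, 3, 4, 7],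
   [5, 0, 5, 0],
   [5, 2, 5, 2],
   [5, 3, 5, 3],
   [5, 4, 5, 4, 5, 4],
   [5, 5],
   [5, 6, 5, 6, 5, 6],
   [5, 7, 5, 7],
   [5, 8, 5, 8]]

theorem chk_g3 : Fi22TC.tab.relsOK grp3 = true := by decide +kernel

/-- group 4 of the words -/
def grp4 : List (List ℕ) :=
  [[5, 0, 1, 2, 3, 4, 7, 0, 1, 2, 3, 4, 7, 0, 1, 2, 3, 4, 7, 0, 1, 2, 3, 4, 7, 0, 1, 2, 3, 4, 7, 5, 0, 1, 2, 3, 4, 7, 0, 1, 2, 3, 4, 7, 0, 1, 2, 3, 4, 7, 0, 1, 2, 3, 4, 7, 0, 1, 2, 3, 4, 7, 5, 0, 1, 2, 3, 4, 7, 0, 1, 2, 3, 4, 7, 0, 1, 2, 3, 4, 7, 0, 1, 2, 3, 4, 7, 0, 1, 2, 3, 4, 7],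
   [6, 0, 6, 0],
   [6, 2, 6, 2],
   [6, 3, 6, 3],
   [6, 4, 6, 4],
   [6, 5, 6, 5, 6, 5],
   [6, 6],
   [6, 7, 6, 7],
   [6, 8, 6, 8]]

theorem chk_g4 : Fi22TC.tab.relsOK grp4 = true := by decide +kernel

/-- group 5 of the words -/
def grp5 : List (List ℕ) :=
  [[6, 0, 1, 2, 3, 4, 7, 0, 1, 2, 3, 4, 7, 0, 1, 2, 3, 4, 7, 0, 1, 2, 3, 4, 7, 0, 1, 2, 3, 4, 7, 6, 0, 1, 2, 3, 4, 7, 0, 1, 2, 3, 4, 7, 0, 1, 2, 3, 4, 7, 0, 1, 2, 3, 4, 7, 0, 1, 2, 3, 4, 7],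
   [7, 0, 7, 0],
   [7, 2, 7, 2],
   [7, 3, 7, 3, 7, 3],
   [7, 4, 7, 4],
   [7, 5, 7, 5],
   [7, 6, 7, 6],
   [7, 7],
   [7, 8, 7, 8, 7, 8]]

theorem chk_g5 : Fi22TC.tab.relsOK grp5 = true := by decide +kernel

/-- group 6 of the words -/
def grp6 : List (List ℕ) :=
  [[7, 0, 1, 2, 3, 4, 7, 0, 1, 2, 3, 4, 7, 0, 1, 2, 3, 4, 7, 0, 1, 2, 3, 4, 7, 0, 1, 2, 3, 4, 7, 7, 0, 1, 2, 3, 4, 7, 0, 1, 2, 3, 4, 7, 0, 1, 2, 3, 4, 7, 0, 1, 2, 3, 4, 7, 0, 1, 2, 3, 4, 7],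
   [8, 0, 8, 0],
   [8, 2, 8, 2],
   [8, 3, 8, 3],
   [8, 4, 8, 4],
   [8, 5, 8, 5],
   [8, 6, 8, 6],
   [8, 7, 8, 7, 8, 7],
   [8, 8]]

theorem chk_g6 : Fi22TC.tab.relsOK grp6 = true := by decide +kernel

/-- group 7 of the words -/
def grp7 : List (List ℕ) :=
  [[8, 0, 1, 2, 3, 4, 7, 0, 1, 2, 3, 4, 7, 0, 1, 2, 3, 4, 7, 0, 1, 2, 3, 4, 7, 0, 1, 2, 3, 4, 7, 8, 0, 1, 2, 3, 4, 7, 0, 1, 2, 3, 4, 7, 0, 1, 2, 3, 4, 7, 0, 1, 2, 3, 4, 7, 0, 1, 2, 3, 4, 7, 8, 0, 1, 2, 3, 4, 7, 0, 1, 2, 3, 4, 7, 0, 1, 2, 3, 4, 7, 0, 1, 2, 3, 4, 7, 0, 1, 2, 3, 4, 7]]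

theorem chk_g7 : Fi22TC.tab.relsOK grp7 = true := by decide +kernel

/-- group 8 of the words -/
def grp8 : List (List ℕ) :=
  [[0, 1, 2, 3, 4, 7, 0, 1, 2, 3, 4, 7, 0, 1, 2, 3, 4, 7, 0, 1, 2, 3, 4, 7, 0, 1, 2, 3, 4, 7, 0, 0, 1, 2, 3, 4, 7, 0, 1, 2, 3, 4, 7, 0, 1, 2, 3, 4, 7, 0, 1, 2, 3, 4, 7, 0, 1, 2, 3, 4, 7, 0],
   [0, 1, 2, 3, 4, 7, 0, 1, 2, 3, 4, 7, 0, 1, 2, 3, 4, 7, 0, 1, 2, 3, 4, 7, 0, 1, 2, 3, 4, 7, 2, 0, 1, 2, 3, 4, 7, 0, 1, 2, 3, 4, 7, 0, 1, 2, 3, 4, 7, 0, 1, 2, 3, 4, 7, 0, 1, 2, 3, 4, 7, 2]]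

theorem chk_g8 : Fi22TC.tab.relsOK grp8 = true := by decide +kernel

/-- group 9 of the words -/
def grp9 : List (List ℕ) :=
  [[0, 1, 2, 3, 4, 7, 0, 1, 2, 3, 4, 7, 0, 1, 2, 3, 4, 7, 0, 1, 2, 3, 4, 7, 0, 1, 2, 3, 4, 7, 3, 0, 1, 2, 3, 4, 7, 0, 1, 2, 3, 4, 7, 0, 1, 2, 3, 4, 7, 0, 1, 2, 3, 4, 7, 0, 1, 2, 3, 4, 7, 3],
   [0, 1, 2, 3, 4, 7, 0, 1, 2, 3, 4, 7, 0, 1, 2, 3, 4, 7, 0, 1, 2, 3, 4, 7, 0, 1, 2, 3, 4, 7, 4, 0, 1, 2, 3, 4, 7, 0, 1, 2, 3, 4, 7, 0, 1, 2, 3, 4, 7, 0, 1, 2, 3, 4, 7, 0, 1, 2, 3, 4, 7, 4]]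

theorem chk_g9 : Fi22TC.tab.relsOK grp9 = true := by decide +kernel

/-- group 10 of the words -/
def grp10 : List (List ℕ) :=
  [[0, 1, 2, 3, 4, 7, 0, 1, 2, 3, 4, 7, 0, 1, 2, 3, 4, 7, 0, 1, 2, 3, 4, 7, 0, 1, 2, 3, 4, 7, 5, 0, 1, 2, 3, 4, 7, 0, 1, 2, 3, 4, 7, 0, 1, 2, 3, 4, 7, 0, 1, 2, 3, 4, 7, 0, 1, 2, 3, 4, 7, 5, 0, 1, 2, 3, 4, 7, 0, 1, 2, 3, 4, 7, 0, 1, 2, 3, 4, 7, 0, 1, 2, 3, 4, 7, 0, 1, 2, 3, 4, 7, 5]]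

theorem chk_g10 : Fi22TC.tab.relsOK grp10 = true := by decide +kernel

/-- group 11 of the words -/
def grp11 : List (List ℕ) :=
  [[0, 1, 2, 3, 4, 7, 0, 1, 2, 3, 4, 7, 0, 1, 2, 3, 4, 7, 0, 1, 2, 3, 4, 7, 0, 1, 2, 3, 4, 7, 6, 0, 1, 2, 3, 4, 7, 0, 1, 2, 3, 4, 7, 0, 1, 2, 3, 4, 7, 0, 1, 2, 3, 4, 7, 0, 1, 2, 3, 4, 7, 6],
   [0, 1, 2, 3, 4, 7, 0, 1, 2, 3, 4, 7, 0, 1, 2, 3, 4, 7, 0, 1, 2, 3, 4, 7, 0, 1, 2, 3, 4, 7, 7, 0, 1, 2, 3, 4, 7, 0, 1, 2, 3, 4, 7, 0, 1, 2, 3, 4, 7, 0, 1, 2, 3, 4, 7, 0, 1, 2, 3, 4, 7, 7]]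

theorem chk_g11 : Fi22TC.tab.relsOK grp11 = true := by decide +kernel

/-- group 12 of the words -/
def grp12 : List (List ℕ) :=
  [[0, 1, 2, 3, 4, 7, 0, 1, 2, 3, 4, 7, 0, 1, 2, 3, 4, 7, 0, 1, 2, 3, 4, 7, 0, 1, 2, 3, 4, 7, 8, 0, 1, 2, 3, 4, 7, 0, 1, 2, 3, 4, 7, 0, 1, 2, 3, 4, 7, 0, 1, 2, 3, 4, 7, 0, 1, 2, 3, 4, 7, 8, 0, 1, 2, 3, 4, 7, 0, 1, 2, 3, 4, 7, 0, 1, 2, 3, 4, 7, 0, 1, 2, 3, 4, 7, 0, 1, 2, 3, 4, 7, 8]]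

theorem chk_g12 : Fi22TC.tab.relsOK grp12 = true := by decide +kernel

/-- group 13 of the words -/
def grp13 : List (List ℕ) :=
  [[0, 1, 2, 3, 4, 7, 0, 1, 2, 3, 4, 7, 0, 1, 2, 3, 4, 7, 0, 1, 2, 3, 4, 7, 0, 1, 2, 3, 4, 7, 0, 1, 2, 3, 4, 7, 0, 1, 2, 3, 4, 7, 0, 1, 2, 3, 4, 7, 0, 1, 2, 3, 4, 7, 0, 1, 2, 3, 4, 7]]

theorem chk_g13 : Fi22TC.tab.relsOK grp13 = true := by decide +kernel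

/-- group 14 of the words -/
def grp14 : List (List ℕ) :=
  [[7, 3, 4, 5, 0, 1, 2, 3, 4, 7, 0, 1, 2, 3, 4, 7, 0, 1, 2, 3, 4, 7, 0, 1, 2, 3, 4, 7, 0, 1, 2, 3, 4, 7, 8, 0, 1, 2, 3, 4, 7, 0, 1, 2, 3, 4, 7, 0, 1, 2, 3, 4, 7, 0, 1, 2, 3, 4, 7, 0, 1, 2, 3, 4, 7, 5, 4, 3, 7, 3, 4, 5, 0, 1, 2, 3, 4, 7, 0, 1, 2, 3, 4, 7, 0, 1, 2, 3, 4, 7, 0, 1, 2, 3, 4, 7, 0, 1, 2, 3, 4, 7, 8, 0, 1, 2, 3, 4, 7, 0, 1, 2, 3, 4, 7, 0, 1, 2, 3, 4, 7, 0, 1, 2, 3, 4, 7, 0, 1, 2, 3, 4, 7, 5, 4, 3, 7, 3, 4, 5, 0, 1, 2, 3, 4, 7, 0, 1, 2, 3, 4, 7, 0, 1, 2, 3, 4, 7, 0, 1, 2, 3, 4, 7, 0, 1, 2, 3, 4, 7, 8, 0, 1, 2, 3, 4, 7, 0, 1, 2, 3, 4, 7, 0, 1, 2, 3, 4, 7, 0, 1, 2, 3, 4, 7, 0, 1, 2, 3, 4, 7, 5, 4, 3]]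

theorem chk_g14 : Fi22TC.tab.relsOK grp14 = true := by decide +kernel

/-- group 15 of the words -/
def grp15 : List (List ℕ) :=
  [[3, 4, 5, 0, 1, 2, 3, 4, 7, 0, 1, 2, 3, 4, 7, 0, 1, 2, 3, 4, 7, 0, 1, 2, 3, 4, 7, 0, 1, 2, 3, 4, 7, 8, 7, 3, 4, 5, 0, 1, 2, 3, 4, 7, 0, 1, 2, 3, 4, 7, 0, 1, 2, 3, 4, 7, 0, 1, 2, 3, 4, 7, 0, 1, 2, 3, 4, 7, 8, 7, 3, 4, 5, 0, 1, 2, 3, 4, 7, 0, 1, 2, 3, 4, 7, 0, 1, 2, 3, 4, 7, 0, 1, 2, 3, 4, 7, 0, 1, 2, 3, 4, 7, 8, 7, 3, 4, 5, 0, 1, 2, 3, 4, 7, 0, 1, 2, 3, 4, 7, 0, 1, 2, 3, 4, 7, 0, 1, 2, 3, 4, 7, 0, 1, 2, 3, 4, 7, 8, 7, 3, 4, 5, 0, 1, 2, 3, 4, 7, 0, 1, 2, 3, 4, 7, 0, 1, 2, 3, 4, 7, 0, 1, 2, 3, 4, 7, 0, 1, 2, 3, 4, 7, 8, 7]]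

theorem chk_g15 : Fi22TC.tab.relsOK grp15 = true := by decide +kernel

/-- group 16 of the words -/
def grp16 : List (List ℕ) :=
  [[0, 2, 4, 3, 7, 8, 0, 1, 2, 3, 4, 7, 0, 1, 2, 3, 4, 7, 0, 1, 2, 3, 4, 7, 0, 1, 2, 3, 4, 7, 0, 1, 2, 3, 4, 7, 2, 4, 3, 7, 8, 0, 1, 2, 3, 4, 7, 0, 1, 2, 3, 4, 7, 0, 1, 2, 3, 4, 7, 0, 1, 2, 3, 4, 7, 0, 1, 2, 3, 4, 7, 2, 4, 3, 7, 8, 0, 1, 2, 3, 4, 7, 0, 1, 2, 3, 4, 7, 0, 1, 2, 3, 4, 7, 0, 1, 2, 3, 4, 7, 0, 1, 2, 3, 4, 7, 2, 4, 3, 7, 8, 0, 1, 2, 3, 4, 7, 0, 1, 2, 3, 4, 7, 0, 1, 2, 3, 4, 7, 0, 1, 2, 3, 4, 7, 0, 1, 2, 3, 4, 7, 2, 4, 3, 7, 8, 0, 1, 2, 3, 4, 7, 0, 1, 2, 3, 4, 7, 0, 1, 2, 3, 4, 7, 0, 1, 2, 3, 4, 7, 0, 1, 2, 3, 4, 7]]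

theorem chk_g16 : Fi22TC.tab.relsOK grp16 = true := by decide +kernel

/-- group 17 of the words -/
def grp17 : List (List ℕ) :=
  [[2, 3, 4, 5, 6, 7, 8, 2, 3, 4, 5, 6, 7, 8, 2, 3, 4, 5, 6, 7, 8, 2, 3, 4, 5, 6, 7, 8, 2, 3, 4, 5, 6, 7, 8, 2, 3, 4, 5, 6, 7, 8, 2, 3, 4, 5, 6, 7, 8, 2, 3, 4, 5, 6, 7, 8, 2, 3, 4, 5, 6, 7, 8]]

theorem chk_g17 : Fi22TC.tab.relsOK grp17 = true := by decide +kernel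

/-- group 18 of the words -/
def grp18 : List (List ℕ) :=
  [[6, 0, 1, 2, 3, 4, 7, 0, 1, 2, 3, 4, 7, 0, 1, 2, 3, 4, 7, 0, 1, 2, 3, 4, 7, 0, 1, 2, 3, 4, 7, 5, 4, 3, 7, 6, 0, 1, 2, 3, 4, 7, 0, 1, 2, 3, 4, 7, 0, 1, 2, 3, 4, 7, 0, 1, 2, 3, 4, 7, 0, 1, 2, 3, 4, 7, 5, 4, 3, 7, 6, 0, 1, 2, 3, 4, 7, 0, 1, 2, 3, 4, 7, 0, 1, 2, 3, 4, 7, 0, 1, 2, 3, 4, 7, 0, 1, 2, 3, 4, 7, 5, 4, 3, 7, 6, 0, 1, 2, 3, 4, 7, 0, 1, 2, 3, 4, 7, 0, 1, 2, 3, 4, 7, 0, 1, 2, 3, 4, 7, 0, 1, 2, 3, 4, 7, 5, 4, 3, 7, 6, 0, 1, 2, 3, 4, 7, 0, 1, 2, 3, 4, 7, 0, 1, 2, 3, 4, 7, 0, 1, 2, 3, 4, 7, 0, 1, 2, 3, 4, 7, 5, 4, 3, 7]]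

theorem chk_g18 : Fi22TC.tab.relsOK grp18 = true := by decide +kernel

/-- group 19 of the words -/
def grp19 : List (List ℕ) :=
  [[0, 1, 2, 3, 4, 7, 0, 1, 2, 3, 4, 7, 0, 1, 2, 3, 4, 7, 0, 1, 2, 3, 4, 7, 0, 1, 2, 3, 4, 7, 0, 1, 2, 3, 4, 7, 0, 1, 2, 3, 4, 7, 0, 1, 2, 3, 4, 7, 0, 1, 2, 3, 4, 7, 0, 1, 2, 3, 4, 7]]

theorem chk_g19 : Fi22TC.tab.relsOK grp19 = true := by decide +kernel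

theorem thetaWords_eq : thetaWords = grp0 ++ (grp1 ++ (grp2 ++ (grp3 ++ (grp4 ++ (grp5 ++ (grp6 ++ (grp7 ++ (grp8 ++ (grp9 ++ (grp10 ++ (grp11 ++ (grp12 ++ (grp13 ++ (grp14 ++ (grp15 ++ (grp16 ++ (grp17 ++ (grp18 ++ (grp19))))))))))))))))))) := by decide +kernel

theorem chk_theta : Fi22TC.tab.relsOK thetaWords = true := by
  rw [thetaWords_eq]
  simp only [relsOK_append, chk_g0, chk_g1, chk_g2, chk_g3, chk_g4, chk_g5, chk_g6, chk_g7, chk_g8, chk_g9, chk_g10, chk_g11, chk_g12, chk_g13, chk_g14, chk_g15, chk_g16, chk_g17, chk_g18, chk_g19]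
  rfl

theorem chk_theta_lt : thetaWords.all (fun w => w.all fun x => decide (x < 9)) = true := by
  decide +kernel

theorem chk_P_lt : (coxWordsL P.edges U62PTC.gen 9 ++ U62PTC.extraWords).all
    (fun w => w.all fun x => decide (x < 9)) = true := by decide +kernel

theorem chk_b : Fi22TC.tab.trace 0 [1] ≠ 0 := by decide +kernel

end Cfsg.Agent.Lib.Helper6.U62Theta
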