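import Cfsg.Agent.Lib.Helper6.U62Unit
import Cfsg.Agent.Lib.Helper6.U62Theta
import Cfsg.Agent.Lib.Helper6.U62P7TC
import Cfsg.Agent.Lib.Helper6.Fi22Simple
import Cfsg.Agent.Lib.Helper6.SimpDC2
import Cfsg.Prelude.Def_SporadicB

/-! # In the presented Fischer group Fi22, the subgroup generated by `a, c, …, i, (abcdeh)^5` is a
non-split double cover of `PSU(6, 2)`

The presentation `P` on nine involutions has at most `18393661440` elements, and its relators hold
in Fi22 (checked on the faithful permutation representation of degree 3510), so `P` is the subgroup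
`H` of index 3510. Its quotient `PB` by the central involution `a` is `PSU(6, 2)`, and `P` has no
subgroup of index two. -/

set_option autoImplicit false
set_option linter.constructorNameAsVariable false

namespace Cfsg.Agent.Lib.Helper6.U62Iso

open Cfsg.Agent.Lib.Helper6.TC Cfsg.Agent.Lib.Helper6.U62Sub Cfsg.Agent.Lib.Helper6.U62Theta Cfsg.Spor
  Cfsg.Agent.Lib.Helper6.Simp Cfsg.Agent.Lib.Helper6.T3Gen Cfsg.Agent.Lib.Helper6.NatArr Cfsg

/-! ### the order of `P` -/

theorem ubP : Finite P ∧ Nat.card P ≤ 18393661440 := by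
  have h3 := finite_card_of_index_empty U62P5TC.main (by norm_num)
  have h2 := subP5.finite_card_le U62P6TC.S rangeP5.symm U62P6TC.main (by norm_num) h3.1
    (le_of_eq h3.2)
  have h1 := subP6.finite_card_le U62P7TC.S rangeP6.symm U62P7TC.main (by norm_num) h2.1
    h2.2
  have h0 := subP7.finite_card_le U62PTC.S rangeP7.symm U62PTC.main (by norm_num) h1.1
    h1.2
  exact ⟨h0.1, h0.2.trans (by norm_num)⟩

/-! ### the permutation representation of Fi22 is faithful -/

/-- the action on the rows -/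
noncomputable abbrev ρ : Fi22 →* Equiv.Perm (Fin Fi22TC.data.T.n) := Fi22TC.data.cert.ρ

theorem ρ_wordG_apply {w : List ℕ} (hw : ∀ x ∈ w, x < 9) (a : Fin Fi22TC.data.T.n) :
    (ρ (wordG Fi22TC.data w) a).val = Fi22TC.tab.trace a.val w.reverse := by
  have hw' : ∀ x ∈ w, x < Fi22TC.data.c.g := hw
  have hl : ∀ x ∈ w.reverse, x < Fi22TC.data.T.g := by
    intro x hx
    exact hw x (List.mem_reverse.1 hx)
  have h := Fi22TC.data.T.trace_eq Fi22TC.data.chk_tab w.reverse a hl
  rw [List.reverse_reverse] at h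
  have h2 : Fi22TC.data.cert.ρ (wordG Fi22TC.data w) =
      (w.map (Fi22TC.data.T.perm Fi22TC.data.chk_tab)).prod := ρ_wordG Fi22TC.data hw'
  show (Fi22TC.data.cert.ρ (wordG Fi22TC.data w) a).val = _
  rw [h2]
  exact h.symm

theorem ρ_inj : Function.Injective ρ := by
  have hs : IsSimpleGroup Fi22 := Fi22Simple.main.1
  apply injective_of_simple ρ (x := wordG Fi22TC.data [1])
  intro h
  have h1 := ρ_wordG_apply (w := [1]) (by decide) ⟨0, by show 0 < 3510; norm_num⟩
  rw [h] at h1
  exact chk_b h1.symm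

theorem wordG_eq_one {w : List ℕ} (hw : w ∈ thetaWords) : wordG Fi22TC.data w = 1 := by
  have hlt : ∀ x ∈ w, x < 9 := fun x hx =>
    of_decide_eq_true (List.all_eq_true.1 (List.all_eq_true.1 chk_theta_lt w hw) x hx)
  apply ρ_inj
  rw [map_one]
  show Fi22TC.data.cert.ρ (wordG Fi22TC.data w) = 1
  rw [ρ_wordG Fi22TC.data (fun x hx => hlt x hx)]
  have hr : Fi22TC.data.T.relsOK thetaWords = true := chk_theta
  exact Fi22TC.data.T.prod_eq_one_of_relsOK Fi22TC.data.chk_tab hr hw (fun x hx => hlt x hx)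

theorem wordG_append (u v : List ℕ) :
    wordG Fi22TC.data (u ++ v) = wordG Fi22TC.data u * wordG Fi22TC.data v := by
  unfold wordG
  rw [List.map_append, List.prod_append]

/-! ### the homomorphism from `P` to Fi22 -/

/-- the images of the generators -/
def fθ : P.Gen → Fi22
  | .a => PresentedGroup.of Fi22.Gen.a
  | .c => PresentedGroup.of Fi22.Gen.c
  | .d => PresentedGroup.of Fi22.Gen.d
  | .e => PresentedGroup.of Fi22.Gen.e
  | .f => PresentedGroup.of Fi22.Gen.f
  | .g => PresentedGroup.of Fi22.Gen.g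
  | .h => PresentedGroup.of Fi22.Gen.h
  | .i => PresentedGroup.of Fi22.Gen.i
  | .t => ((PresentedGroup.of Fi22.Gen.a : Fi22) * PresentedGroup.of Fi22.Gen.b *
      PresentedGroup.of Fi22.Gen.c * PresentedGroup.of Fi22.Gen.d * PresentedGroup.of Fi22.Gen.e *
      PresentedGroup.of Fi22.Gen.h) ^ 5

theorem fθ_gen {x : ℕ} (hx : x < 9) : fθ (U62PTC.gen x) = wordG Fi22TC.data (expand x) := by
  interval_cases x
  all_goals
    simp only [U62PTC.gen, fθ, expand, tW, wordG, List.map_cons, List.map_nil, List.prod_cons,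
      List.prod_nil, mul_one, pow_succ, pow_zero, one_mul, mul_assoc]
    rfl

theorem prod_fθ {w : List ℕ} (hw : ∀ x ∈ w, x < 9) :
    (w.map fun x => fθ (U62PTC.gen x)).prod = wordG Fi22TC.data (w.flatMap expand) := by
  induction w with
  | nil => rfl
  | cons x w ih =>
    rw [List.map_cons, List.prod_cons, List.flatMap_cons, wordG_append,
      fθ_gen (hw x List.mem_cons_self), ih (fun y hy => hw y (List.mem_cons_of_mem _ hy))]

theorem word_eq_one {w : List ℕ}
    (hw : w ∈ coxWordsL P.edges U62PTC.gen 9 ++ U62PTC.extraWords) :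
    (w.map fun x => fθ (U62PTC.gen x)).prod = 1 := by
  have h4 : ∀ x ∈ w, x < 9 := fun x hx =>
    of_decide_eq_true (List.all_eq_true.1 (List.all_eq_true.1 chk_P_lt w hw) x hx)
  rw [prod_fθ h4]
  exact wordG_eq_one (List.mem_map.2 ⟨w, List.mem_append_left _ hw, rfl⟩)

theorem fθ_mul_self (a : P.Gen) : fθ a * fθ a = 1 := by
  cases a
  case t =>
    have h : fθ P.Gen.t = wordG Fi22TC.data (expand 8) := fθ_gen (x := 8) (by norm_num)
    rw [h, ← wordG_append]
    exact wordG_eq_one (List.mem_map.2 ⟨[8, 8], List.mem_append_right _ List.mem_cons_self, by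
      simp [List.flatMap_cons]⟩)
  all_goals exact of_mul_self Fi22TC.data.hnode _

theorem lift_relθ : ∀ r ∈ coxRelators P.edges ∪ {r | r ∈ P.extra}, FreeGroup.lift fθ r = 1 :=
  U62Unit.lift_eq_one_of_words U62PTC.gen U62PTC.code 9 U62PTC.extraWords
    (by intro a; cases a <;> exact ⟨by decide, rfl⟩) fθ
    (U62PTC.extra_iff fθ fθ_mul_self) fun _ hw => word_eq_one hw

/-- the homomorphism from the presented group `P` to Fi22 -/
def θ : P →* Fi22 := PresentedGroup.toGroup lift_relθ

theorem θ_of (a : P.Gen) : θ (PresentedGroup.of a) = fθ a := PresentedGroup.toGroup.of _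

/-- the subgroup generated by `a, c, d, e, f, g, h, i, (abcdeh)^5` -/
abbrev H : Subgroup Fi22 :=
  (Subgroup.closure Fi22TC.S).map
    (PresentedGroup.mk (coxRelators Fi22.edges ∪ {r | r ∈ Fi22.extra}))

theorem range_θ : θ.range = H := by
  rw [MonoidHom.range_eq_map, ← PresentedGroup.closure_range_of, MonoidHom.map_closure,
    ← Set.range_comp]
  show _ = (Subgroup.closure Fi22TC.S).map _
  rw [MonoidHom.map_closure]
  congr 1
  ext z
  constructor
  · rintro ⟨y, rfl⟩
    show θ (PresentedGroup.of y) ∈ _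
    rw [θ_of]
    cases y
    · exact ⟨Fi22.a, by simp [Fi22TC.S], rfl⟩
    · exact ⟨Fi22.c, by simp [Fi22TC.S], rfl⟩
    · exact ⟨Fi22.d, by simp [Fi22TC.S], rfl⟩
    · exact ⟨Fi22.e, by simp [Fi22TC.S], rfl⟩
    · exact ⟨Fi22.f, by simp [Fi22TC.S], rfl⟩
    · exact ⟨Fi22.g, by simp [Fi22TC.S], rfl⟩
    · exact ⟨Fi22.h, by simp [Fi22TC.S], rfl⟩
    · exact ⟨Fi22.i, by simp [Fi22TC.S], rfl⟩
    · refine ⟨(Fi22.a * Fi22.b * Fi22.c * Fi22.d * Fi22.e * Fi22.h) ^ 5, by simp [Fi22TC.S], ?_⟩
      rw [map_pow]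
      simp only [map_mul]
      rfl
  · rintro ⟨s, hs, rfl⟩
    simp only [Fi22TC.S, Set.mem_insert_iff, Set.mem_singleton_iff] at hs
    rcases hs with rfl | rfl | rfl | rfl | rfl | rfl | rfl | rfl | rfl
    · exact ⟨.a, θ_of _⟩
    · exact ⟨.c, θ_of _⟩
    · exact ⟨.d, θ_of _⟩
    · exact ⟨.e, θ_of _⟩
    · exact ⟨.f, θ_of _⟩
    · exact ⟨.g, θ_of _⟩
    · exact ⟨.h, θ_of _⟩
    · exact ⟨.i, θ_of _⟩
    · refine ⟨.t, ?_⟩
      show θ (PresentedGroup.of P.Gen.t) = _
      rw [θ_of, map_pow]
      simp only [map_mul]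
      rfl

theorem card_H : Nat.card H = 18393661440 := by
  have h1 := Subgroup.card_mul_index H
  have h2 : H.index = 3510 := Fi22TC.main.1
  have h3 : Nat.card Fi22 = 64561751654400 := Fi22Simple.main.2
  rw [h2, h3] at h1
  have h4 : Nat.card H * 3510 = 18393661440 * 3510 := h1.trans (by norm_num)
  exact Nat.eq_of_mul_eq_mul_right (by norm_num) h4

/-- the map from the presented group onto the subgroup -/
def π : P →* H :=
  θ.codRestrict H (fun q => by rw [← range_θ]; exact ⟨q, rfl⟩)

theorem π_surjective : Function.Surjective π := by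
  rintro ⟨h, hh⟩
  rw [← range_θ] at hh
  obtain ⟨q, rfl⟩ := hh
  exact ⟨q, Subtype.ext rfl⟩

theorem π_bijective : Function.Bijective π := by
  have : Finite P := ubP.1
  exact π_surjective.bijective_of_nat_card_le (by rw [card_H]; exact ubP.2)

/-- the presented group is the subgroup -/
noncomputable def isoH : P ≃* H := MulEquiv.ofBijective π π_bijective

theorem card_P : Nat.card P = 18393661440 :=
  (Nat.card_congr isoH.toEquiv).trans card_H

/-! ### the quotient -/

/-- the map from `P` onto `PB` -/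
def κ : P →* PB := subPPB.hom

theorem κ_surjective : Function.Surjective κ := by
  rw [← MonoidHom.range_eq_top, eq_top_iff, ← PresentedGroup.closure_range_of, Subgroup.closure_le]
  rintro _ ⟨x, rfl⟩
  cases x
  · exact ⟨PresentedGroup.of .a, subPPB.hom_of _⟩
  · exact ⟨PresentedGroup.of .c, subPPB.hom_of _⟩
  · exact ⟨PresentedGroup.of .d, subPPB.hom_of _⟩
  · exact ⟨PresentedGroup.of .e, subPPB.hom_of _⟩
  · exact ⟨PresentedGroup.of .f, subPPB.hom_of _⟩
  · exact ⟨PresentedGroup.of .g, subPPB.hom_of _⟩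
  · exact ⟨PresentedGroup.of .h, subPPB.hom_of _⟩
  · exact ⟨PresentedGroup.of .i, subPPB.hom_of _⟩
  · exact ⟨PresentedGroup.of .t, subPPB.hom_of _⟩

/-! ### `P` has no subgroup of index two -/

/-- the generators other than `a` -/
def core : Set P.Gen := {x | x ≠ P.Gen.a}

theorem reachP : ∀ x ∈ core, ReachA P.edges P.Gen.d x := by
  have rd : ReachA P.edges P.Gen.d .d := ReachA.root
  have rc : ReachA P.edges P.Gen.d .c := ReachA.step rd (by decide)
  have re : ReachA P.edges P.Gen.d .e := ReachA.step rd (by decide)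
  have rh : ReachA P.edges P.Gen.d .h := ReachA.step rd (by decide)
  have rf : ReachA P.edges P.Gen.d .f := ReachA.step re (by decide)
  have rg : ReachA P.edges P.Gen.d .g := ReachA.step rf (by decide)
  have ri : ReachA P.edges P.Gen.d .i := ReachA.step rh (by decide)
  have rt : ReachA P.edges P.Gen.d .t := ReachA.step rf (by decide)
  intro x hx
  cases x
  · exact absurd rfl hx
  · exact rc
  · exact rd
  · exact re
  · exact rf
  · exact rg
  · exact rh
  · exact ri
  · exact rt

/-- the word `(c e d h i t)^5` -/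
def zW : List P.Gen := (List.replicate 5 [P.Gen.c, .e, .d, .h, .i, .t]).flatten

theorem a_eq : (PresentedGroup.of P.Gen.a : P) =
    ((zW.map fun x => (PresentedGroup.of x : P)).prod)⁻¹ := by
  have hm : P.a * (P.c * P.e * P.d * P.h * P.i * P.t) ^ 5 ∈
      coxRelators P.edges ∪ {r | r ∈ P.extra} := Or.inr (by simp [P.extra])
  have h1 := PresentedGroup.one_of_mem hm
  rw [map_mul, map_pow] at h1
  simp only [map_mul] at h1
  rw [eq_inv_iff_mul_eq_one, ← h1]
  simp only [zW, List.replicate, List.flatten, pow_succ, pow_zero, one_mul, mul_assoc,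
    List.map_cons, List.map_nil, List.prod_cons, List.prod_nil, mul_one, List.append_eq,
    List.cons_append, List.nil_append]
  rfl

theorem core_gen : Subgroup.closure
    ((fun a => (PresentedGroup.of a : P)) '' core) = ⊤ := by
  rw [eq_top_iff, ← PresentedGroup.closure_range_of, Subgroup.closure_le]
  rintro _ ⟨x, rfl⟩
  by_cases hx : x = P.Gen.a
  · rw [hx, SetLike.mem_coe, a_eq]
    apply Subgroup.inv_mem
    apply Subgroup.list_prod_mem
    intro g hg
    obtain ⟨y, hy, rfl⟩ := List.mem_map.1 hg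
    apply Subgroup.subset_closure
    refine ⟨y, ?_, rfl⟩
    have : ∀ y ∈ zW, y ≠ P.Gen.a := by decide
    exact this y hy
  · exact Subgroup.subset_closure ⟨x, hx, rfl⟩

/-- a word of odd length that is trivial -/
def oddWord : List P.Gen :=
  (List.replicate 9 [P.Gen.c, .d, .e, .f, .g, .h, .i]).flatten

theorem oddWord_one : (oddWord.map fun x => (PresentedGroup.of x : P)).prod = 1 := by
  have hm : (P.c * P.d * P.e * P.f * P.g * P.h * P.i) ^ 9 ∈
      coxRelators P.edges ∪ {r | r ∈ P.extra} := Or.inr (by simp [P.extra])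
  have h1 := PresentedGroup.one_of_mem hm
  rw [map_pow] at h1
  simp only [map_mul] at h1
  rw [← h1]
  simp only [oddWord, List.replicate, List.flatten, pow_succ, pow_zero, one_mul, mul_assoc]
  rfl

theorem oddWord_core : ∀ y ∈ oddWord, y ∈ core := by
  have h : ∀ y ∈ oddWord, y ≠ P.Gen.a := by decide
  exact h

theorem no_index_two (L : Subgroup P) : L.index ≠ 2 :=
  index_ne_two_of_odd_core U62PTC.data.hnode P.Gen.d core reachP core_gen oddWord
    oddWord_core (by decide) oddWord_one L

/-! ### the double cover -/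

theorem center_PSU : Subgroup.center (PSU 6 U62Mat.K 2) = ⊥ := by
  have hs : IsSimpleGroup PB := U62PBSimple.main.1
  have : IsSimpleGroup (PSU 6 U62Mat.K 2) := U62Unit.isoPSU.symm.isSimpleGroup
  apply center_eq_bot_of_simple
  rw [U62Unit.card_PSU]
  norm_num

theorem dcP : IsNonsplitDoubleCover P (PSU 6 U62Mat.K 2) := by
  have : Finite P := ubP.1
  refine isNonsplitDoubleCover_of_card (U62Unit.isoPSU.toMonoidHom.comp κ) ?_ ?_ center_PSU
    no_index_two
  · exact U62Unit.isoPSU.surjective.comp κ_surjective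
  · rw [card_P, U62Unit.card_PSU]

/-- **the subgroup `⟨a, c, …, i, (abcdeh)^5⟩` of Fi22 is a non-split double cover of `PSU(6, 2)`** -/
theorem main : IsNonsplitDoubleCover H (PSU 6 U62Mat.K 2) := by
  have : Finite P := ubP.1
  exact isNonsplitDoubleCover_of_equiv isoH dcP

end Cfsg.Agent.Lib.Helper6.U62Iso
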