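import Cfsg.Agent.Lib.Helper6.EquivMatL
import Cfsg.Agent.Lib.Helper6.ChevMatL4
import Cfsg.Agent.Lib.Helper6.U62PBTC
import Cfsg.Prelude.Def_Classical
import Cfsg.Prelude.Def_ClassicalGeometry

/-! # Eight unitary transvections of the unitary space of dimension six over the field with four elements

The vectors `vec x` (`1 ≤ x < 9`) are isotropic and realise the graph of the generators `c, …, t` of the
presented group `PB`; the matrices `genLt x` are their transvections, given by their columns, and
`genLt 0` is the identity matrix (generated data, checked by the kernel). -/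

set_option autoImplicit false
set_option maxRecDepth 100000

namespace Cfsg.Agent.Lib.Helper6.U62Mat

open Cfsg.Agent.Lib.Helper6.ChevMatL Cfsg.Agent.Lib.Helper6.ChevMatL4 Cfsg.Agent.Lib.Helper6.EquivMatL
  Cfsg.Agent.Lib.Helper6.TC Cfsg.Agent.Lib.Helper6.U62Sub Cfsg.Spor Cfsg.Agent.Lib.Helper6.M21
  Cfsg.Agent.Lib.Helper6.M21.F4c

/-- the field -/
abbrev K : Type := F4c

/-- the vectors -/
def vecTbl : List (List K) :=
  [[o, o, o, o, o, o],
   [o, o, e, o, w, o],
   [e, o, v, o, o, o],
   [e, e, o, e, o, e],
   [e, v, v, o, e, o],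
   [e, e, v, e, e, e],
   [e, v, e, v, w, e],
   [e, v, v, e, e, v],
   [o, e, o, e, o, o]]

/-- the vector of a generator -/
def vec (x : ℕ) (i : Fin 6) : K := (vecTbl.getD x []).getD i.val 0

/-- the identity matrix, for the generator a -/
def gA : List (List K) :=
  [[e, o, o, o, o, o],
   [o, e, o, o, o, o],
   [o, o, e, o, o, o],
   [o, o, o, e, o, o],
   [o, o, o, o, e, o],
   [o, o, o, o, o, e]]

/-- the transvection of generator c, by its columns -/
def gC : List (List K) :=
  [[e, o, o, o, o, o],
   [o, e, o, o, o, o],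
   [o, o, o, o, w, o],
   [o, o, o, e, o, o],
   [o, o, v, o, o, o],
   [o, o, o, o, o, e]]

/-- the transvection of generator d, by its columns -/
def gD : List (List K) :=
  [[o, o, v, o, o, o],
   [o, e, o, o, o, o],
   [w, o, o, o, o, o],
   [o, o, o, e, o, o],
   [o, o, o, o, e, o],
   [o, o, o, o, o, e]]

/-- the transvection of generator e, by its columns -/
def gE : List (List K) :=
  [[o, e, o, e, o, e],
   [e, o, o, e, o, e],
   [o, o, e, o, o, o],
   [e, e, o, o, o, e],
   [o, o, o, o, e, o],
   [e, e, o, e, o, o]]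

/-- the transvection of generator f, by its columns -/
def gF : List (List K) :=
  [[o, v, v, o, e, o],
   [w, o, e, o, w, o],
   [w, e, o, o, w, o],
   [o, o, o, e, o, o],
   [e, v, v, o, o, o],
   [o, o, o, o, o, e]]

/-- the transvection of generator g, by its columns -/
def gG : List (List K) :=
  [[o, e, v, e, e, e],
   [e, o, v, e, e, e],
   [w, w, o, w, w, w],
   [e, e, v, o, e, e],
   [e, e, v, e, o, e],
   [e, e, v, e, e, o]]

/-- the transvection of generator h, by its columns -/
def gH : List (List K) :=
  [[o, v, e, v, w, e],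
   [w, o, w, e, v, w],
   [e, v, o, v, w, e],
   [w, e, w, o, v, w],
   [v, w, v, w, o, v],
   [e, v, e, v, w, o]]

/-- the transvection of generator i, by its columns -/
def gI : List (List K) :=
  [[o, v, v, e, e, v],
   [w, o, e, w, w, e],
   [w, e, o, w, w, e],
   [e, v, v, o, e, v],
   [e, v, v, e, o, v],
   [w, e, e, w, w, o]]

/-- the transvection of generator t, by its columns -/
def gT : List (List K) :=
  [[e, o, o, o, o, o],
   [o, o, o, e, o, o],
   [o, o, e, o, o, o],
   [o, e, o, o, o, o],
   [o, o, o, o, e, o],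
   [o, o, o, o, o, e]]

/-- the matrices of the generators -/
def genTbl : List (List (List K)) := [gA, gC, gD, gE, gF, gG, gH, gI, gT]

/-- the matrix of a generator -/
def genLt (x : ℕ) : List (List K) := genTbl.getD x gA

/-- an entry of the transvection in `vec x` -/
def tvE (x : ℕ) (i j : Fin 6) : K := Cfsg.unitaryTransvection 6 2 (vec x) 1 i j

/-- the scalar matrix -/
def scal (c : K) : List (List K) :=
  (List.range 6).map fun i => (List.range 6).map fun j => if i = j then c else 0

/-- a nonzero scalar matrix -/
def isScal (X : List (List K)) : Bool :=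
  decide (X = scal e) || (decide (X = scal w) || decide (X = scal v))

theorem chk_iso : ∀ x, x < 9 → Cfsg.hermForm 6 K 2 (vec x) (vec x) = 0 := by decide +kernel

theorem chk_ne : ∀ x, 1 ≤ x → x < 9 → ∃ i, vec x i ≠ 0 := by decide +kernel

theorem chk_tv : ∀ x, x < 9 → ∀ i j : Fin 6, tvE x i j = entry (genLt x) j.val i.val := by
  decide +kernel

theorem chk_gcols : ∀ Y ∈ genTbl, colsOK 6 Y := by decide +kernel

theorem chk_ginv : ∀ Y ∈ genTbl, prodT4 6 [Y, Y] = idL4 6 := by decide +kernel

theorem chk_transp_id : transp 6 (idL 6 : List (List K)) = idL 6 := by decide +kernel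

theorem chk_rels : (coxWordsL PB.edges U62PBTC.gen 9 ++ U62PBTC.extraWords).all
    (fun w => isScal (prodT4 6 (w.map genLt))) = true := by decide +kernel

theorem chk_rels_lt : (coxWordsL PB.edges U62PBTC.gen 9 ++ U62PBTC.extraWords).all
    (fun w => w.all fun x => decide (x < 9)) = true := by decide +kernel

theorem chk_nc : ∃ i j : Fin 6, entry (prodT4 6 [genLt 1, genLt 2]) i.val j.val ≠
    entry (prodT4 6 [genLt 2, genLt 1]) i.val j.val := by decide +kernel

end Cfsg.Agent.Lib.Helper6.U62Mat
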